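import Cfsg.Statements.S0649
import Mathlib

set_option autoImplicit false
open Cfsg

namespace Cfsg.Agent.S0649

/-- In the Glauberman replacement situation, if B does not normalize A then some element of B normalizes N_S(A) without normalizing A. -/
theorem result {S : Type*} [Group S] [Finite S] {p : ℕ} [Fact p.Prime] (hS : IsPGroup p S) (B : Subgroup S) [B.Normal] (hB2 : p = 2 → IsMulCommutative B) (A : Subgroup S) (hA : IsMulCommutative A) (hBA : ⁅B, B⁆ ≤ A) (hnot : ¬ B ≤ Subgroup.normalizer (A : Set S)) : ∃ b ∈ B, b ∈ Subgroup.normalizer ((Subgroup.normalizer (A : Set S)) : Set S) ∧ b ∉ Subgroup.normalizer (A : Set S) := by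
  have hnil : Group.IsNilpotent S := hS.isNilpotent
  set N := Subgroup.normalizer (A : Set S) with hN
  set M := B ⊔ N with hM
  have hNM : N ≤ M := le_sup_right
  have hlt : N.subgroupOf M < ⊤ := by
    rw [lt_top_iff_ne_top, Ne, Subgroup.subgroupOf_eq_top]
    intro h
    exact hnot (le_sup_left.trans h)
  have hnc := Group.normalizerCondition_of_isNilpotent (G := ↥M) (N.subgroupOf M) hlt
  rw [← Subgroup.subgroupOf_normalizer_eq hNM] at hnc
  obtain ⟨x, hx1, hx2⟩ := SetLike.exists_of_lt hnc
  have hxM : (x : S) ∈ B ⊔ N := x.2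
  rw [Subgroup.mem_sup_of_normal_left] at hxM
  obtain ⟨b, hb, n, hn, hbn⟩ := hxM
  have hx1' : (x : S) ∈ Subgroup.normalizer (N : Set S) := hx1
  have hx2' : (x : S) ∉ N := hx2
  refine ⟨b, hb, ?_, ?_⟩
  · have hb' : b = (x : S) * n⁻¹ := by rw [← hbn]; group
    rw [hb']
    exact mul_mem hx1' (Subgroup.le_normalizer (inv_mem hn))
  · intro hbN
    apply hx2'
    rw [← hbn]
    exact mul_mem hbN hn

end Cfsg.Agent.S0649
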