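import Cfsg.Statements.S0648
import Cfsg.Agent.Lib.Helper1.PQ

set_option autoImplicit false
open Cfsg

namespace Cfsg.Agent.S0648

open scoped commutatorElement

universe u

section aux

variable {G : Type u} [Group G]

/-- In a group whose derived subgroup is central, exponent bounds on commutators of generators
pass to the whole derived subgroup. -/
lemma exp_of_gens (C : Subgroup G) (S : Set G) (hC : C = Subgroup.closure S)
    (hcen : ∀ z ∈ ⁅C, C⁆, ∀ c ∈ C, z * c = c * z) (n : ℕ)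
    (hS : ∀ x ∈ S, ∀ y ∈ S, ⁅x, y⁆ ^ n = 1) : ∀ w ∈ ⁅C, C⁆, w ^ n = 1 := by
  have hSC : ∀ x ∈ S, x ∈ C := fun x hx => hC ▸ Subgroup.subset_closure hx
  have hle : ⁅C, C⁆ ≤ C := Subgroup.commutator_le_self C
  have hA : ∀ x ∈ S, ∀ y ∈ C, ⁅x, y⁆ ^ n = 1 := by
    intro x hx y hy
    rw [hC] at hy
    refine Subgroup.closure_induction (p := fun y _ => ⁅x, y⁆ ^ n = 1) ?_ ?_ ?_ ?_ hy
    · intro y hy
      exact hS x hx y hy
    · simp
    · intro y z hy hz ihy ihz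
      have hyC : y ∈ C := hC ▸ hy
      have hzC : z ∈ C := hC ▸ hz
      have hxz : ⁅x, z⁆ ∈ ⁅C, C⁆ := Subgroup.commutator_mem_commutator (hSC x hx) hzC
      have hxy : ⁅x, y⁆ ∈ ⁅C, C⁆ := Subgroup.commutator_mem_commutator (hSC x hx) hyC
      have e : ⁅x, y * z⁆ = ⁅x, y⁆ * ⁅x, z⁆ := by
        have e1 : ⁅x, y * z⁆ = ⁅x, y⁆ * (y * ⁅x, z⁆ * y⁻¹) := by
          simp only [commutatorElement_def]; group
        rw [e1, ← hcen _ hxz y hyC, mul_inv_cancel_right]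
      have hcomm : Commute ⁅x, y⁆ ⁅x, z⁆ := hcen _ hxy _ (hle hxz)
      rw [e, hcomm.mul_pow, ihy, ihz, one_mul]
    · intro y hy ihy
      have hyC : y ∈ C := hC ▸ hy
      have hxy : ⁅x, y⁆ ∈ ⁅C, C⁆ := Subgroup.commutator_mem_commutator (hSC x hx) hyC
      have e : ⁅x, y⁻¹⁆ = ⁅x, y⁆⁻¹ := by
        have e1 : ⁅x, y⁻¹⁆ = y⁻¹ * (⁅x, y⁆⁻¹ * y) := by
          simp only [commutatorElement_def]; group
        rw [e1, hcen _ (Subgroup.inv_mem _ hxy) y hyC, inv_mul_cancel_left]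
      rw [e, inv_pow, ihy, inv_one]
  have hB : ∀ x ∈ C, ∀ y ∈ C, ⁅x, y⁆ ^ n = 1 := by
    intro x hx y hy
    rw [hC] at hx
    refine Subgroup.closure_induction (p := fun x _ => ⁅x, y⁆ ^ n = 1) ?_ ?_ ?_ ?_ hx
    · intro x hx
      exact hA x hx y hy
    · simp
    · intro x z hx hz ihx ihz
      have hxC : x ∈ C := hC ▸ hx
      have hzC : z ∈ C := hC ▸ hz
      have hzy : ⁅z, y⁆ ∈ ⁅C, C⁆ := Subgroup.commutator_mem_commutator hzC hy
      have hxy : ⁅x, y⁆ ∈ ⁅C, C⁆ := Subgroup.commutator_mem_commutator hxC hy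
      have e : ⁅x * z, y⁆ = ⁅z, y⁆ * ⁅x, y⁆ := by
        have e1 : ⁅x * z, y⁆ = x * ⁅z, y⁆ * x⁻¹ * ⁅x, y⁆ := by
          simp only [commutatorElement_def]; group
        rw [e1, ← hcen _ hzy x hxC, mul_inv_cancel_right]
      have hcomm : Commute ⁅z, y⁆ ⁅x, y⁆ := hcen _ hzy _ (hle hxy)
      rw [e, hcomm.mul_pow, ihx, ihz, one_mul]
    · intro x hx ihx
      have hxC : x ∈ C := hC ▸ hx
      have hxy : ⁅x, y⁆ ∈ ⁅C, C⁆ := Subgroup.commutator_mem_commutator hxC hy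
      have e : ⁅x⁻¹, y⁆ = ⁅x, y⁆⁻¹ := by
        have e1 : ⁅x⁻¹, y⁆ = x⁻¹ * (⁅x, y⁆⁻¹ * x) := by
          simp only [commutatorElement_def]; group
        rw [e1, hcen _ (Subgroup.inv_mem _ hxy) x hxC, inv_mul_cancel_left]
      rw [e, inv_pow, ihx, inv_one]
  intro w hw
  have hw' := hw
  rw [Subgroup.commutator_def] at hw'
  refine Subgroup.closure_induction (p := fun w _ => w ^ n = 1) ?_ ?_ ?_ ?_ hw'
  · rintro _ ⟨x, hx, y, hy, rfl⟩
    exact hB x hx y hy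
  · simp
  · intro w₁ w₂ h1 h2 ih1 ih2
    have h1' : w₁ ∈ ⁅C, C⁆ := by rw [Subgroup.commutator_def]; exact h1
    have h2' : w₂ ∈ ⁅C, C⁆ := by rw [Subgroup.commutator_def]; exact h2
    have hcomm : Commute w₁ w₂ := hcen _ h1' _ (hle h2')
    rw [hcomm.mul_pow, ih1, ih2, one_mul]
  · intro w _ ih
    rw [inv_pow, ih, inv_one]

end aux

/-- If A acts on B centralizing [B, B], then [B, A] has derived subgroup central in B, and for abelian A and b ∈ B with [[b, A], A, A] = 1 the derived subgroup of the subgroup [b, A] generated by the commutators of b with A has exponent dividing 2. -/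
theorem result {G : Type*} [Group G] [Finite G] (A B : Subgroup G) (hAB : A ≤ Subgroup.normalizer (B : Set G)) (hc : ⁅⁅B, B⁆, A⁆ = ⊥) : ⁅⁅B, A⁆, ⁅B, A⁆⁆ ≤ B ⊓ Subgroup.centralizer (B : Set G) ∧ (IsMulCommutative A → ∀ b ∈ B, ⁅⁅(Subgroup.closure {g : G | ∃ a ∈ A, g = b⁻¹ * a * b * a⁻¹}), A⁆, A⁆ = ⊥ → ∀ w ∈ ⁅(Subgroup.closure {g : G | ∃ a ∈ A, g = b⁻¹ * a * b * a⁻¹}), (Subgroup.closure {g : G | ∃ a ∈ A, g = b⁻¹ * a * b * a⁻¹})⁆, w ^ 2 = 1) := by
  classical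
  obtain ⟨K, hK⟩ : ∃ K, K = ⁅B, A⁆ := ⟨_, rfl⟩
  have hKB : K ≤ B := hK ▸ Cfsg.Agent.Lib.Helper1.commutator_le_of_le_normalizer hAB
  have h1 : ⁅K, ⁅B, B⁆⁆ = ⊥ := by
    rw [hK]
    apply Subgroup.commutator_commutator_eq_bot_of_rotate
    · rw [Subgroup.commutator_comm A, hc, Subgroup.commutator_bot_left]
    · exact eq_bot_iff.mpr ((Subgroup.commutator_mono
        (Subgroup.commutator_mono (Subgroup.commutator_le_self B) (le_refl B)) (le_refl A)).trans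
        (le_of_eq hc))
  have hKKB : ⁅⁅K, K⁆, B⁆ = ⊥ := by
    apply Subgroup.commutator_commutator_eq_bot_of_rotate
    · exact eq_bot_iff.mpr ((Subgroup.commutator_mono
        (Subgroup.commutator_mono hKB (le_refl B)) (le_refl K)).trans
        (le_of_eq ((Subgroup.commutator_comm _ _).trans h1)))
    · exact eq_bot_iff.mpr ((Subgroup.commutator_mono
        (Subgroup.commutator_mono (le_refl B) hKB) (le_refl K)).trans
        (le_of_eq ((Subgroup.commutator_comm _ _).trans h1)))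
  have hpart1 : ⁅K, K⁆ ≤ B ⊓ Subgroup.centralizer (B : Set G) :=
    le_inf ((Subgroup.commutator_mono hKB hKB).trans (Subgroup.commutator_le_self B))
      (Subgroup.commutator_eq_bot_iff_le_centralizer.mp hKKB)
  refine ⟨hK ▸ hpart1, ?_⟩
  intro hAcomm b hb hq w hw
  obtain ⟨C, hCdef⟩ : ∃ C, C = Subgroup.closure {g : G | ∃ a ∈ A, g = b⁻¹ * a * b * a⁻¹} :=
    ⟨_, rfl⟩
  rw [← hCdef] at hq hw
  obtain ⟨u, hu_def⟩ : ∃ u : G → G, ∀ a, u a = b⁻¹ * a * b * a⁻¹ := ⟨fun a => _, fun a => rfl⟩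
  obtain ⟨s, hs_def⟩ : ∃ s : G → G → G, ∀ a a', s a a' = a * u a' * a⁻¹ * (u a')⁻¹ :=
    ⟨fun a a' => _, fun a a' => rfl⟩
  have hCB : C ≤ B := by
    rw [hCdef, Subgroup.closure_le]
    rintro _ ⟨a, ha, rfl⟩
    have h2 : a * b * a⁻¹ ∈ B := (Subgroup.mem_normalizer_iff.mp (hAB ha) b).mp hb
    have e : b⁻¹ * a * b * a⁻¹ = b⁻¹ * (a * b * a⁻¹) := by group
    rw [e]
    exact B.mul_mem (B.inv_mem hb) h2
  have hCK : C ≤ K := by
    rw [hCdef, Subgroup.closure_le, hK]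
    rintro _ ⟨a, ha, rfl⟩
    have h2 := Subgroup.commutator_mem_commutator (B.inv_mem hb) ha
    rw [commutatorElement_def, inv_inv] at h2
    exact h2
  have hu : ∀ a ∈ A, u a ∈ C := fun a ha => by
    rw [hu_def, hCdef]
    exact Subgroup.subset_closure ⟨a, ha, rfl⟩
  have H1 : ∀ y ∈ ⁅B, B⁆, ∀ a ∈ A, a * y * a⁻¹ = y := by
    intro y hy a ha
    have h2 := Subgroup.commutator_eq_bot_iff_le_centralizer.mp hc hy
    have h3 := Subgroup.mem_centralizer_iff.mp h2 a ha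
    rw [h3, mul_inv_cancel_right]
  have H2 : ∀ t ∈ ⁅C, A⁆, ∀ a ∈ A, a * t * a⁻¹ = t := by
    intro y hy a ha
    have h2 := Subgroup.commutator_eq_bot_iff_le_centralizer.mp hq hy
    have h3 := Subgroup.mem_centralizer_iff.mp h2 a ha
    rw [h3, mul_inv_cancel_right]
  have H3 : ∀ c ∈ C, ∀ y ∈ ⁅B, B⁆, c * y = y * c := by
    intro c hc' y hy
    have h2 := Subgroup.commutator_eq_bot_iff_le_centralizer.mp h1 (hCK hc')
    exact (Subgroup.mem_centralizer_iff.mp h2 y hy).symm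
  have H4 : ∀ z ∈ ⁅C, C⁆, ∀ x ∈ B, z * x = x * z := by
    intro z hz x hx
    have h2 : z ∈ Subgroup.centralizer (B : Set G) :=
      (hpart1 (Subgroup.commutator_mono hCK hCK hz)).2
    exact (Subgroup.mem_centralizer_iff.mp h2 x hx).symm
  have hs_mem : ∀ a ∈ A, ∀ a' ∈ A, s a a' ∈ ⁅C, A⁆ := by
    intro a ha a' ha'
    have h2 := Subgroup.commutator_mem_commutator ha (hu a' ha')
    rw [Subgroup.commutator_comm, commutatorElement_def] at h2
    rw [hs_def]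
    exact h2
  have hE : ∀ a a' : G, u (a * a') = u a * s a a' * u a' := by
    intro a a'
    simp only [hu_def, hs_def]
    group
  have hs_C : ∀ a ∈ A, ∀ a' ∈ A, s a a' ∈ C := by
    intro a ha a' ha'
    have e : s a a' = (u a)⁻¹ * u (a * a') * (u a')⁻¹ := by
      rw [hE]; group
    rw [e]
    exact C.mul_mem (C.mul_mem (C.inv_mem (hu a ha)) (hu _ (A.mul_mem ha ha'))) (C.inv_mem (hu a' ha'))
  have I1 : ∀ a : G, a * b * a⁻¹ = b * u a := by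
    intro a
    rw [hu_def]; group
  have I2 : ∀ a a' : G, a * u a' * a⁻¹ = s a a' * u a' := by
    intro a a'
    rw [hs_def]; group
  have K1 : ∀ a ∈ A, ∀ a' ∈ A, ∀ a'' ∈ A, u a'' * s a a' = s a a' * u a'' := by
    intro a ha a' ha' a'' ha''
    have hsfix : a'' * s a a' * a''⁻¹ = s a a' := H2 _ (hs_mem a ha a' ha') a'' ha''
    have hy : b * s a a' * b⁻¹ * (s a a')⁻¹ ∈ ⁅B, B⁆ := by
      have h2 := Subgroup.commutator_mem_commutator hb (hCB (hs_C a ha a' ha'))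
      rw [commutatorElement_def] at h2
      exact h2
    have h := H1 _ hy a'' ha''
    have e : a'' * (b * s a a' * b⁻¹ * (s a a')⁻¹) * a''⁻¹
        = (a'' * b * a''⁻¹) * (a'' * s a a' * a''⁻¹) * (a'' * b * a''⁻¹)⁻¹ * (a'' * s a a' * a''⁻¹)⁻¹ := by
      group
    rw [e, hsfix, I1] at h
    calc u a'' * s a a' = b⁻¹ * ((b * u a'') * s a a' * (b * u a'')⁻¹ * (s a a')⁻¹) * s a a' * b * u a'' := by
          group
      _ = b⁻¹ * (b * s a a' * b⁻¹ * (s a a')⁻¹) * s a a' * b * u a'' := by rw [h]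
      _ = s a a' * u a'' := by group
  have K2 : ∀ a ∈ A, ∀ a' ∈ A,
      b * s a a' * b⁻¹ * (s a a')⁻¹ = (u a * u a' * (u a)⁻¹ * (u a')⁻¹)⁻¹ := by
    intro a ha a' ha'
    obtain ⟨U, hU⟩ : ∃ U, U = u a := ⟨_, rfl⟩
    obtain ⟨U', hU'⟩ : ∃ U', U' = u a' := ⟨_, rfl⟩
    obtain ⟨S, hS⟩ : ∃ S, S = s a a' := ⟨_, rfl⟩
    obtain ⟨β, hβ⟩ : ∃ β, β = U * U' * U⁻¹ * U'⁻¹ := ⟨_, rfl⟩
    rw [← hU, ← hU', ← hS, ← hβ]
    have hUC : U ∈ C := hU ▸ hu a ha
    have hU'C : U' ∈ C := hU' ▸ hu a' ha'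
    have hSC : S ∈ C := hS ▸ hs_C a ha a' ha'
    have hy' : b * U' * b⁻¹ * U'⁻¹ ∈ ⁅B, B⁆ := by
      have h2 := Subgroup.commutator_mem_commutator hb (hCB hU'C)
      rw [commutatorElement_def] at h2
      exact h2
    have h := H1 _ hy' a ha
    have e : a * (b * U' * b⁻¹ * U'⁻¹) * a⁻¹
        = (a * b * a⁻¹) * (a * U' * a⁻¹) * (a * b * a⁻¹)⁻¹ * (a * U' * a⁻¹)⁻¹ := by group
    have I2' : a * U' * a⁻¹ = S * U' := by rw [hU', hS]; exact I2 a a'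
    have I1' : a * b * a⁻¹ = b * U := by rw [hU]; exact I1 a
    rw [e, I2', I1'] at h
    have c1 : U * S = S * U := by rw [hU, hS]; exact K1 a ha a' ha' a ha
    have hβC : β ∈ ⁅C, C⁆ := by
      have h2 := Subgroup.commutator_mem_commutator hUC hU'C
      rw [commutatorElement_def] at h2
      rw [hβ]; exact h2
    have c2b : β * b = b * β := H4 β hβC b hb
    have c2s : β * S = S * β := H4 β hβC S (hCB hSC)
    have c3 : S * (b * U' * b⁻¹ * U'⁻¹) = (b * U' * b⁻¹ * U'⁻¹) * S := H3 S hSC _ hy'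
    have hbSβ : b * S * β = β * (b * S) := by
      rw [mul_assoc, ← c2s, ← mul_assoc, ← c2b, mul_assoc]
    have h1' : b * U' * b⁻¹ * U'⁻¹ = β * (b * S * b⁻¹ * S⁻¹) * (b * U' * b⁻¹ * U'⁻¹) := by
      calc b * U' * b⁻¹ * U'⁻¹ = (b * U) * (S * U') * (b * U)⁻¹ * (S * U')⁻¹ := h.symm
        _ = b * (U * S) * U' * U⁻¹ * b⁻¹ * U'⁻¹ * S⁻¹ := by group
        _ = b * (S * U) * U' * U⁻¹ * b⁻¹ * U'⁻¹ * S⁻¹ := by rw [c1]
        _ = b * S * β * U' * b⁻¹ * U'⁻¹ * S⁻¹ := by rw [hβ]; group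
        _ = β * (b * S) * U' * b⁻¹ * U'⁻¹ * S⁻¹ := by rw [hbSβ]
        _ = β * (b * S * b⁻¹ * S⁻¹) * (S * (b * U' * b⁻¹ * U'⁻¹) * S⁻¹) := by group
        _ = β * (b * S * b⁻¹ * S⁻¹) * (b * U' * b⁻¹ * U'⁻¹) := by rw [c3, mul_inv_cancel_right]
    have h2 : β * (b * S * b⁻¹ * S⁻¹) = 1 := by
      have h3 : 1 * (b * U' * b⁻¹ * U'⁻¹) = β * (b * S * b⁻¹ * S⁻¹) * (b * U' * b⁻¹ * U'⁻¹) := by
        rw [one_mul]; exact h1'
      exact (mul_right_cancel h3).symm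
    exact eq_inv_of_mul_eq_one_right h2
  have core : ∀ a ∈ A, ∀ a' ∈ A, ⁅u a, u a'⁆ ^ 2 = 1 := by
    intro a ha a' ha'
    have hX := K2 a ha a' ha'
    have hX' := K2 a' ha' a ha
    obtain ⟨U, hU⟩ : ∃ U, U = u a := ⟨_, rfl⟩
    obtain ⟨U', hU'⟩ : ∃ U', U' = u a' := ⟨_, rfl⟩
    obtain ⟨S, hS⟩ : ∃ S, S = s a a' := ⟨_, rfl⟩
    obtain ⟨S', hS'⟩ : ∃ S', S' = s a' a := ⟨_, rfl⟩
    obtain ⟨β, hβ⟩ : ∃ β, β = U * U' * U⁻¹ * U'⁻¹ := ⟨_, rfl⟩
    rw [← hU, ← hU', ← hS, ← hβ] at hX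
    rw [← hU, ← hU', ← hS'] at hX'
    rw [← hU, ← hU', commutatorElement_def, ← hβ]
    have hUC : U ∈ C := hU ▸ hu a ha
    have hU'C : U' ∈ C := hU' ▸ hu a' ha'
    have hβC : β ∈ ⁅C, C⁆ := by
      have h2 := Subgroup.commutator_mem_commutator hUC hU'C
      rw [commutatorElement_def] at h2
      rw [hβ]; exact h2
    have c2b : β * b = b * β := H4 β hβC b hb
    have hβb' : β * b⁻¹ = b⁻¹ * β := by
      calc β * b⁻¹ = b⁻¹ * (b * β) * b⁻¹ := by group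
        _ = b⁻¹ * (β * b) * b⁻¹ := by rw [c2b]
        _ = b⁻¹ * β := by group
    have c1 : U * S = S * U := by rw [hU, hS]; exact K1 a ha a' ha' a ha
    have c1' : U' * S' = S' * U' := by rw [hU', hS']; exact K1 a' ha' a ha a' ha'
    have hAc : a * a' = a' * a := by
      have := hAcomm.is_comm.comm (⟨a, ha⟩ : A) ⟨a', ha'⟩
      exact congrArg Subtype.val this
    have hEq : U * S * U' = U' * S' * U := by
      rw [hU, hU', hS, hS', ← hE, ← hE, hAc]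
    have hS'eq : S' = S * β := by
      calc S' = (S' * U') * U * U⁻¹ * U'⁻¹ := by group
        _ = (U' * S') * U * U⁻¹ * U'⁻¹ := by rw [c1']
        _ = (U * S * U') * U⁻¹ * U'⁻¹ := by rw [hEq]
        _ = (S * U) * U' * U⁻¹ * U'⁻¹ := by rw [c1]
        _ = S * β := by rw [hβ]; group
    have hfin : β = β⁻¹ := by
      calc β = (U' * U * U'⁻¹ * U⁻¹)⁻¹ := by rw [hβ]; group
        _ = b * S' * b⁻¹ * S'⁻¹ := hX'.symm
        _ = b * (S * β) * b⁻¹ * (S * β)⁻¹ := by rw [hS'eq]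
        _ = b * S * (β * b⁻¹) * β⁻¹ * S⁻¹ := by group
        _ = b * S * (b⁻¹ * β) * β⁻¹ * S⁻¹ := by rw [hβb']
        _ = b * S * b⁻¹ * S⁻¹ := by group
        _ = β⁻¹ := hX
    rw [pow_two]
    nth_rewrite 2 [hfin]
    exact mul_inv_cancel β
  refine exp_of_gens C _ hCdef (fun z hz c hc' => H4 z hz c (hCB hc')) 2 ?_ w hw
  rintro _ ⟨a, ha, rfl⟩ _ ⟨a', ha', rfl⟩
  rw [← hu_def, ← hu_def]
  exact core a ha a' ha'

end Cfsg.Agent.S0648
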