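import Cfsg.Statements.S0650
import Cfsg.Agent.S0648
import Cfsg.Agent.Lib.Helper6.Thompson

set_option autoImplicit false
open Cfsg

namespace Cfsg.Agent.S0650

open scoped commutatorElement

universe u

section aux

variable {S : Type u} [Group S]

lemma mem_normalizer_of_forall_conj_mem [Finite S] (H : Subgroup S) (g : S)
    (h : ∀ x ∈ H, g * x * g⁻¹ ∈ H) : g ∈ Subgroup.normalizer (H : Set S) := by
  rw [Subgroup.mem_normalizer_iff]
  intro x
  refine ⟨h x, fun hx => ?_⟩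
  let f : H → H := fun y => ⟨g * y.1 * g⁻¹, h y.1 y.2⟩
  have hinj : Function.Injective f := by
    intro y y' hyy
    have h1 := congrArg Subtype.val hyy
    simp only [f] at h1
    exact Subtype.ext (mul_left_cancel (mul_right_cancel h1))
  have hsurj := Finite.surjective_of_injective hinj
  obtain ⟨y, hy⟩ := hsurj ⟨g * x * g⁻¹, hx⟩
  have h1 := congrArg Subtype.val hy
  simp only [f] at h1
  have h2 : y.1 = x := mul_left_cancel (mul_right_cancel h1)
  rw [← h2]; exact y.2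

lemma inv_mem_normalizer_conj [Finite S] (H : Subgroup S) (g : S)
    (h : ∀ x ∈ H, g⁻¹ * x * g ∈ H) : g ∈ Subgroup.normalizer (H : Set S) := by
  have h1 : g⁻¹ ∈ Subgroup.normalizer (H : Set S) := by
    apply mem_normalizer_of_forall_conj_mem
    intro x hx
    rw [inv_inv]
    exact h x hx
  simpa using Subgroup.inv_mem _ h1

lemma conj_mem_sup_closure (D W : Subgroup S) (T : Set S) (g : S)
    (hD : ∀ d ∈ D, g * d * g⁻¹ ∈ W) (hT : ∀ t ∈ T, g * t * g⁻¹ ∈ W) :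
    ∀ x ∈ D ⊔ Subgroup.closure T, g * x * g⁻¹ ∈ W := by
  have h : D ⊔ Subgroup.closure T ≤ W.comap (MulAut.conj g).toMonoidHom := by
    apply sup_le
    · intro d hd
      exact Subgroup.mem_comap.mpr (by simpa [MulAut.conj_apply] using hD d hd)
    · rw [Subgroup.closure_le]
      intro t ht
      exact Subgroup.mem_comap.mpr (by simpa [MulAut.conj_apply] using hT t ht)
  intro x hx
  have := Subgroup.mem_comap.mp (h hx)
  simpa [MulAut.conj_apply] using this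

lemma comm_sup (X Y : Subgroup S) (hX : ∀ x ∈ X, ∀ y ∈ X, x * y = y * x)
    (hY : ∀ x ∈ Y, ∀ y ∈ Y, x * y = y * x) (hXY : ∀ x ∈ X, ∀ y ∈ Y, x * y = y * x) :
    ∀ x ∈ X ⊔ Y, ∀ y ∈ X ⊔ Y, x * y = y * x := by
  have h1 : X ⊔ Y ≤ Subgroup.centralizer (X : Set S) := by
    apply sup_le
    · intro x hx
      show x ∈ Subgroup.centralizer _
      rw [Subgroup.mem_centralizer_iff]
      intro y hy
      exact hX y hy x hx
    · intro x hx
      show x ∈ Subgroup.centralizer _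
      rw [Subgroup.mem_centralizer_iff]
      intro y hy
      exact hXY y hy x hx
  have h2 : X ⊔ Y ≤ Subgroup.centralizer (Y : Set S) := by
    apply sup_le
    · intro x hx
      show x ∈ Subgroup.centralizer _
      rw [Subgroup.mem_centralizer_iff]
      intro y hy
      exact (hXY x hx y hy).symm
    · intro x hx
      show x ∈ Subgroup.centralizer _
      rw [Subgroup.mem_centralizer_iff]
      intro y hy
      exact hY y hy x hx
  have h3 : X ⊔ Y ≤ Subgroup.centralizer ((X ⊔ Y : Subgroup S) : Set S) := by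
    apply sup_le
    · intro x hx
      show x ∈ Subgroup.centralizer _
      rw [Subgroup.mem_centralizer_iff]
      intro y hy
      have := Subgroup.mem_centralizer_iff.mp (h1 hy) x hx
      exact this.symm
    · intro x hx
      show x ∈ Subgroup.centralizer _
      rw [Subgroup.mem_centralizer_iff]
      intro y hy
      have := Subgroup.mem_centralizer_iff.mp (h2 hy) x hx
      exact this.symm
  intro x hx y hy
  exact Subgroup.mem_centralizer_iff.mp (h3 hy) x hx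

lemma pow_mul_comm_class_two (a y z : S) (_hza : z * a = a * z) (hzy : z * y = y * z)
    (hya : y * a = z * a * y) (n : ℕ) : y ^ n * a = z ^ n * a * y ^ n := by
  induction n with
  | zero => simp
  | succ n ih =>
    have hzyn : ∀ m : ℕ, y ^ m * z = z * y ^ m := by
      intro m
      exact ((Commute.pow_right (show Commute z y from hzy) m).eq).symm
    calc y ^ (n + 1) * a = y ^ n * (y * a) := by rw [pow_succ]; group
      _ = y ^ n * (z * a * y) := by rw [hya]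
      _ = (y ^ n * z) * a * y := by group
      _ = z * (y ^ n * a) * y := by rw [hzyn]; group
      _ = z * (z ^ n * a * y ^ n) * y := by rw [ih]
      _ = z ^ (n + 1) * a * y ^ (n + 1) := by rw [pow_succ' z n, pow_succ y n]; group

lemma mul_pow_class_two (a y z : S) (hza : z * a = a * z) (hzy : z * y = y * z)
    (hya : y * a = z * a * y) (n : ℕ) :
    (a * y) ^ n = z ^ (n.choose 2) * a ^ n * y ^ n := by
  induction n with
  | zero => simp
  | succ n ih =>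
    have hzan : ∀ m k : ℕ, a ^ m * z ^ k = z ^ k * a ^ m := by
      intro m k
      exact ((Commute.pow_pow (show Commute z a from hza) k m).eq).symm
    have hch : (n + 1).choose 2 = n.choose 2 + n := by
      rw [Nat.choose_succ_succ, Nat.choose_one_right, add_comm]
    calc (a * y) ^ (n + 1) = (a * y) ^ n * (a * y) := pow_succ _ _
      _ = z ^ (n.choose 2) * a ^ n * y ^ n * (a * y) := by rw [ih]
      _ = z ^ (n.choose 2) * a ^ n * (y ^ n * a) * y := by group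
      _ = z ^ (n.choose 2) * a ^ n * (z ^ n * a * y ^ n) * y := by
          rw [pow_mul_comm_class_two a y z hza hzy hya n]
      _ = z ^ (n.choose 2) * (a ^ n * z ^ n) * a * y ^ n * y := by group
      _ = z ^ (n.choose 2) * (z ^ n * a ^ n) * a * y ^ n * y := by rw [hzan]
      _ = z ^ ((n + 1).choose 2) * a ^ (n + 1) * y ^ (n + 1) := by
          rw [hch, pow_add, pow_succ, pow_succ]; group

end aux

section main

variable {S : Type u} [Group S] [Finite S]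

theorem main {p : ℕ} [Fact p.Prime] (hS : IsPGroup p S) (B : Subgroup S) [B.Normal]
    (hB2 : p = 2 → IsMulCommutative B) (A : Subgroup S) (hA : IsMulCommutative A)
    (hBA : ⁅B, B⁆ ≤ A) (hnot : ¬ B ≤ Subgroup.normalizer (A : Set S)) (b : S) (hb : b ∈ B)
    (hbN : b ∈ Subgroup.normalizer ((Subgroup.normalizer (A : Set S)) : Set S))
    (hbA : b ∉ Subgroup.normalizer (A : Set S))
    (Ab D C X : Subgroup S) (hAb : Ab = A.map (MulAut.conj (b⁻¹)).toMonoidHom)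
    (hD : D = A ⊓ Ab)
    (hC : C = Subgroup.closure {g : S | ∃ a ∈ A, g = a * b⁻¹ * a⁻¹ * b}) (hX : X = D ⊔ C) :
    Nat.card X = Nat.card A ∧ IsMulCommutative X ∧ ⁅B, B⁆ ≤ X ∧ A ⊓ B < X ⊓ B ∧ X ⊓ B < B ∧
    A ≤ Subgroup.normalizer (X : Set S) ∧ X ≤ Subgroup.normalizer (A : Set S) ∧
    b ∈ Subgroup.normalizer (X : Set S) ∧
    Subgroup.normalizer (A : Set S) < Subgroup.normalizer (X : Set S) ∧
    (p ≠ 2 → Monoid.exponent X ∣ Monoid.exponent A) := by
  classical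
  obtain ⟨N, hNdef⟩ : ∃ N, N = Subgroup.normalizer (A : Set S) := ⟨_, rfl⟩
  rw [← hNdef] at hnot hbN hbA ⊢
  have hNmem : ∀ n, n ∈ N ↔ ∀ x, x ∈ A ↔ n * x * n⁻¹ ∈ A := by
    intro n; rw [hNdef]; exact Subgroup.mem_normalizer_iff
  have hAN : A ≤ N := hNdef ▸ Subgroup.le_normalizer
  have hAcomm : ∀ x ∈ A, ∀ y ∈ A, x * y = y * x := fun x hx y hy => setLike_mul_comm hx hy
  have hAbmem : ∀ x, x ∈ Ab ↔ b * x * b⁻¹ ∈ A := by
    intro x
    rw [hAb]
    constructor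
    · rintro ⟨a, ha, rfl⟩
      have e : b * ((MulAut.conj b⁻¹).toMonoidHom a) * b⁻¹ = a := by
        simp
        group
      rw [e]; exact ha
    · intro h
      refine ⟨b * x * b⁻¹, h, ?_⟩
      simp
      group
  have hAbcomm : ∀ x ∈ Ab, ∀ y ∈ Ab, x * y = y * x := by
    intro x hx y hy
    have h1 := hAcomm _ ((hAbmem x).mp hx) _ ((hAbmem y).mp hy)
    calc x * y = b⁻¹ * ((b * x * b⁻¹) * (b * y * b⁻¹)) * b := by group
      _ = b⁻¹ * ((b * y * b⁻¹) * (b * x * b⁻¹)) * b := by rw [h1]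
      _ = y * x := by group
  have hbN' : ∀ n, n ∈ N ↔ b * n * b⁻¹ ∈ N := Subgroup.mem_normalizer_iff.mp hbN
  have hbNinv : ∀ n ∈ N, b⁻¹ * n * b ∈ N := by
    intro n hn
    rw [hbN']
    have e : b * (b⁻¹ * n * b) * b⁻¹ = n := by group
    rw [e]; exact hn
  -- f1
  have hAbN : Ab ≤ N := by
    intro x hx
    rw [hbN']
    exact hAN ((hAbmem x).mp hx)
  -- f2
  have hNAb : ∀ n ∈ N, ∀ x ∈ Ab, n * x * n⁻¹ ∈ Ab := by
    intro n hn x hx
    rw [hAbmem]
    have e : b * (n * x * n⁻¹) * b⁻¹ = (b * n * b⁻¹) * (b * x * b⁻¹) * (b * n * b⁻¹)⁻¹ := by group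
    rw [e]
    exact ((hNmem _).mp ((hbN' n).mp hn) _).mp ((hAbmem x).mp hx)
  have hNA : ∀ n ∈ N, ∀ x ∈ A, n * x * n⁻¹ ∈ A := fun n hn x hx => ((hNmem n).mp hn x).mp hx
  have hDA : D ≤ A := hD ▸ inf_le_left
  have hDAb : D ≤ Ab := hD ▸ inf_le_right
  have hDmem : ∀ x, x ∈ A → x ∈ Ab → x ∈ D := fun x h1 h2 => hD ▸ Subgroup.mem_inf.mpr ⟨h1, h2⟩
  -- f3
  have hDcA : ∀ d ∈ D, ∀ a ∈ A, d * a = a * d := fun d hd a ha => hAcomm d (hDA hd) a ha
  have hDcAb : ∀ d ∈ D, ∀ x ∈ Ab, d * x = x * d := fun d hd x hx => hAbcomm d (hDAb hd) x hx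
  -- f4
  have hf4 : ∀ x ∈ Ab, ∀ a ∈ A, x * a * x⁻¹ * a⁻¹ ∈ D := by
    intro x hx a ha
    apply hDmem
    · exact A.mul_mem (hNA x (hAbN hx) a ha) (A.inv_mem ha)
    · have e : x * a * x⁻¹ * a⁻¹ = x * (a * x⁻¹ * a⁻¹) := by group
      rw [e]
      exact Ab.mul_mem hx (hNAb a (hAN ha) _ (Ab.inv_mem hx))
  -- f5
  have hBBD : ⁅B, B⁆ ≤ D := by
    intro w hw
    apply hDmem _ (hBA hw)
    rw [hAbmem]
    exact hBA ((Subgroup.commutator_normal B B).conj_mem w hw b)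
  have hcB : ∀ a : S, a * b⁻¹ * a⁻¹ * b ∈ B := by
    intro a
    exact B.mul_mem (‹B.Normal›.conj_mem _ (B.inv_mem hb) a) hb
  have hCB : C ≤ B := by
    rw [hC, Subgroup.closure_le]
    rintro _ ⟨a, -, rfl⟩
    exact hcB a
  -- f8
  have hABD : A ⊓ B ≤ D := by
    intro x hx
    obtain ⟨hxA, hxB⟩ := Subgroup.mem_inf.mp hx
    apply hDmem _ hxA
    rw [hAbmem]
    have e : b * x * b⁻¹ = ⁅b, x⁆ * x := by rw [commutatorElement_def]; group
    rw [e]
    exact A.mul_mem (hBA (Subgroup.commutator_mem_commutator hb hxB)) hxA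
  -- f9
  have hbD : ∀ d ∈ D, b⁻¹ * d * b ∈ D := by
    intro d hd
    apply hDmem
    · have hg : (b * d * b⁻¹)⁻¹ * d ∈ A := A.mul_mem (A.inv_mem ((hAbmem d).mp (hDAb hd))) (hDA hd)
      have hgB : (b * d * b⁻¹)⁻¹ * d ∈ B := by
        have e : (b * d * b⁻¹)⁻¹ * d = b * (d⁻¹ * b⁻¹ * d⁻¹⁻¹) := by group
        rw [e]
        exact B.mul_mem hb (‹B.Normal›.conj_mem _ (B.inv_mem hb) _)
      have e : b⁻¹ * d * b = d * (((b * d * b⁻¹)⁻¹ * d) * ⁅((b * d * b⁻¹)⁻¹ * d)⁻¹, b⁻¹⁆) := by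
        rw [commutatorElement_def]; group
      rw [e]
      exact A.mul_mem (hDA hd) (A.mul_mem hg
        (hBA (Subgroup.commutator_mem_commutator (B.inv_mem hgB) (B.inv_mem hb))))
    · rw [hAbmem]
      have e : b * (b⁻¹ * d * b) * b⁻¹ = d := by group
      rw [e]; exact hDA hd
  have hbND : b ∈ Subgroup.normalizer (D : Set S) := inv_mem_normalizer_conj D b hbD
  have hbD' : ∀ d ∈ D, b * d * b⁻¹ ∈ D := fun d hd => (Subgroup.mem_normalizer_iff.mp hbND d).mp hd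
  -- generators
  have hgen : ∀ a ∈ A, a * b⁻¹ * a⁻¹ * b ∈ C := by
    intro a ha
    rw [hC]
    exact Subgroup.subset_closure ⟨a, ha, rfl⟩
  have hyAb : ∀ a ∈ A, b⁻¹ * a * b ∈ Ab := by
    intro a ha
    rw [hAbmem]
    have e : b * (b⁻¹ * a * b) * b⁻¹ = a := by group
    rw [e]; exact ha
  -- f10
  have hf10 : ∀ c ∈ C, (∀ d ∈ D, c * d = d * c) ∧ (∀ a' ∈ A, c * a' * c⁻¹ * a'⁻¹ ∈ D) := by
    intro c hc
    rw [hC] at hc
    refine Subgroup.closure_induction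
      (p := fun c _ => (∀ d ∈ D, c * d = d * c) ∧ (∀ a' ∈ A, c * a' * c⁻¹ * a'⁻¹ ∈ D)) ?_ ?_ ?_ ?_ hc
    · rintro _ ⟨a, ha, rfl⟩
      have hy : b⁻¹ * a⁻¹ * b ∈ Ab := hyAb _ (A.inv_mem ha)
      have e0 : a * b⁻¹ * a⁻¹ * b = a * (b⁻¹ * a⁻¹ * b) := by group
      constructor
      · intro d hd
        rw [e0]
        calc a * (b⁻¹ * a⁻¹ * b) * d = a * ((b⁻¹ * a⁻¹ * b) * d) := by group
          _ = a * (d * (b⁻¹ * a⁻¹ * b)) := by rw [hDcAb d hd _ hy]
          _ = (a * d) * (b⁻¹ * a⁻¹ * b) := by group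
          _ = (d * a) * (b⁻¹ * a⁻¹ * b) := by rw [hDcA d hd a ha]
          _ = d * (a * (b⁻¹ * a⁻¹ * b)) := by group
      · intro a' ha'
        have hz := hf4 _ hy a' ha'
        have e : a * b⁻¹ * a⁻¹ * b * a' * (a * b⁻¹ * a⁻¹ * b)⁻¹ * a'⁻¹
            = a * ((b⁻¹ * a⁻¹ * b) * a' * (b⁻¹ * a⁻¹ * b)⁻¹ * a'⁻¹) * (a' * a⁻¹ * a'⁻¹) := by
          group
        have e2 : a' * a⁻¹ * a'⁻¹ = a⁻¹ := by
          rw [hAcomm a' ha' a⁻¹ (A.inv_mem ha)]; group
        rw [e, e2, ← hDcA _ hz a ha, mul_inv_cancel_right]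
        exact hz
    · refine ⟨fun d _ => by simp, fun a' _ => ?_⟩
      simp
    · rintro c₁ c₂ - - ⟨h1, h1'⟩ ⟨h2, h2'⟩
      constructor
      · intro d hd
        rw [mul_assoc, h2 d hd, ← mul_assoc, h1 d hd, mul_assoc]
      · intro a' ha'
        have e : c₁ * c₂ * a' * (c₁ * c₂)⁻¹ * a'⁻¹
            = c₁ * (c₂ * a' * c₂⁻¹ * a'⁻¹) * c₁⁻¹ * (c₁ * a' * c₁⁻¹ * a'⁻¹) := by group
        rw [e, h1 _ (h2' a' ha'), mul_inv_cancel_right]
        exact D.mul_mem (h2' a' ha') (h1' a' ha')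
    · rintro c - ⟨h1, h1'⟩
      constructor
      · intro d hd
        have := h1 d hd
        calc c⁻¹ * d = c⁻¹ * (d * c) * c⁻¹ := by group
          _ = c⁻¹ * (c * d) * c⁻¹ := by rw [this]
          _ = d * c⁻¹ := by group
      · intro a' ha'
        have hz := h1' a' ha'
        have e : c⁻¹ * a' * c⁻¹⁻¹ * a'⁻¹ = c⁻¹ * ((c * a' * c⁻¹ * a'⁻¹)⁻¹ * c) := by group
        rw [e, ← h1 _ (D.inv_mem hz), inv_mul_cancel_left]
        exact D.inv_mem hz
  have hDX : D ≤ X := hX ▸ le_sup_left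
  have hCX : C ≤ X := hX ▸ le_sup_right
  -- conj closure tool specialised to X
  have hXconj : ∀ (W : Subgroup S) (g : S), (∀ d ∈ D, g * d * g⁻¹ ∈ W) →
      (∀ a ∈ A, g * (a * b⁻¹ * a⁻¹ * b) * g⁻¹ ∈ W) → ∀ x ∈ X, g * x * g⁻¹ ∈ W := by
    intro W g h1 h2 x hx
    rw [hX, hC] at hx
    refine conj_mem_sup_closure D W _ g h1 ?_ x hx
    rintro _ ⟨a, ha, rfl⟩
    exact h2 a ha
  -- (7) X ≤ N
  have hXN : X ≤ N := by
    rw [hX]
    apply sup_le (hDA.trans hAN)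
    rw [hC, Subgroup.closure_le]
    rintro _ ⟨a, ha, rfl⟩
    have e0 : a * b⁻¹ * a⁻¹ * b = a * (b⁻¹ * a⁻¹ * b) := by group
    rw [e0]
    exact N.mul_mem (hAN ha) (hAbN (hyAb _ (A.inv_mem ha)))
  -- C abelian
  have hCcomm : ∀ x ∈ C, ∀ y ∈ C, x * y = y * x := by
    by_cases hp2 : p = 2
    · intro x hx y hy
      have := hB2 hp2
      exact setLike_mul_comm (hCB hx) (hCB hy)
    · have hAB : A ≤ Subgroup.normalizer (B : Set S) := by
        rw [Subgroup.normalizer_eq_top]; exact le_top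
      have hc0 : ⁅⁅B, B⁆, A⁆ = ⊥ := by
        rw [Subgroup.commutator_eq_bot_iff_le_centralizer]
        intro w hw
        show w ∈ Subgroup.centralizer _
        rw [Subgroup.mem_centralizer_iff]
        intro a ha
        exact hAcomm a ha w (hBA hw)
      have hC0 : Subgroup.closure {g : S | ∃ a ∈ A, g = b⁻¹ * a * b * a⁻¹} = C := by
        rw [hC]
        apply le_antisymm
        · rw [Subgroup.closure_le]
          rintro _ ⟨a, ha, rfl⟩
          have e : b⁻¹ * a * b * a⁻¹ = (a * b⁻¹ * a⁻¹ * b)⁻¹ := by group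
          rw [e]
          exact Subgroup.inv_mem _ (Subgroup.subset_closure ⟨a, ha, rfl⟩)
        · rw [Subgroup.closure_le]
          rintro _ ⟨a, ha, rfl⟩
          have e : a * b⁻¹ * a⁻¹ * b = (b⁻¹ * a * b * a⁻¹)⁻¹ := by group
          rw [e]
          exact Subgroup.inv_mem _ (Subgroup.subset_closure ⟨a, ha, rfl⟩)
      have hCAA : ⁅⁅C, A⁆, A⁆ = ⊥ := by
        rw [Subgroup.commutator_eq_bot_iff_le_centralizer]
        have h1 : ⁅C, A⁆ ≤ D := by
          rw [Subgroup.commutator_le]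
          intro c hc a ha
          rw [commutatorElement_def]
          exact (hf10 c hc).2 a ha
        intro w hw
        show w ∈ Subgroup.centralizer _
        rw [Subgroup.mem_centralizer_iff]
        intro a ha
        exact (hDcA w (h1 hw) a ha).symm
      have h648 := (Cfsg.Agent.S0648.result A B hAB hc0).2 hA b hb
      rw [hC0] at h648
      have hw2 := h648 hCAA
      have hw1 : ∀ w ∈ ⁅C, C⁆, w = 1 := by
        intro w hw
        have h2 := hw2 w hw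
        obtain ⟨k, hk⟩ := hS w
        have hd1 : orderOf w ∣ 2 := orderOf_dvd_of_pow_eq_one h2
        have hd2 : orderOf w ∣ p ^ k := orderOf_dvd_of_pow_eq_one hk
        have hcop : Nat.Coprime 2 (p ^ k) := by
          apply Nat.Coprime.pow_right
          rw [Nat.coprime_primes Nat.prime_two (Fact.out : p.Prime)]
          exact fun h => hp2 h.symm
        have h1 : orderOf w = 1 := Nat.eq_one_of_dvd_coprimes hcop hd1 hd2
        exact orderOf_eq_one_iff.mp h1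
      intro x hx y hy
      have h := hw1 ⁅x, y⁆ (Subgroup.commutator_mem_commutator hx hy)
      exact commutatorElement_eq_one_iff_mul_comm.mp h
  have hDC : ∀ d ∈ D, ∀ c ∈ C, d * c = c * d := fun d hd c hc => ((hf10 c hc).1 d hd).symm
  have hDcomm : ∀ x ∈ D, ∀ y ∈ D, x * y = y * x := fun x hx y hy => hDcA x hx y (hDA hy)
  have hXcomm : ∀ x ∈ X, ∀ y ∈ X, x * y = y * x := by
    rw [hX]
    exact comm_sup D C hDcomm hCcomm hDC
  -- (6) A ≤ N(X)
  have hAconjX : ∀ a' ∈ A, ∀ x ∈ X, a' * x * a'⁻¹ ∈ X := by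
    intro a' ha'
    apply hXconj
    · intro d hd
      rw [← hDcA d hd a' ha', mul_inv_cancel_right]
      exact hDX hd
    · intro a ha
      have hc := hgen a ha
      have hz := (hf10 _ hc).2 a' ha'
      have e : a' * (a * b⁻¹ * a⁻¹ * b) * a'⁻¹
          = ((a * b⁻¹ * a⁻¹ * b) * a' * (a * b⁻¹ * a⁻¹ * b)⁻¹ * a'⁻¹)⁻¹ * (a * b⁻¹ * a⁻¹ * b) := by
        group
      rw [e]
      exact X.mul_mem (hDX (D.inv_mem hz)) (hCX hc)
  have h6 : A ≤ Subgroup.normalizer (X : Set S) := by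
    intro a' ha'
    exact mem_normalizer_of_forall_conj_mem X a' (hAconjX a' ha')
  -- (8) b ∈ N(X)
  have h8 : b ∈ Subgroup.normalizer (X : Set S) := by
    apply mem_normalizer_of_forall_conj_mem
    apply hXconj
    · intro d hd
      exact hDX (hbD' d hd)
    · intro a ha
      have hc := hgen a ha
      have e : b * (a * b⁻¹ * a⁻¹ * b) * b⁻¹ = ⁅b, a * b⁻¹ * a⁻¹ * b⁆ * (a * b⁻¹ * a⁻¹ * b) := by
        rw [commutatorElement_def]; group
      rw [e]
      exact X.mul_mem (hDX (hBBD (Subgroup.commutator_mem_commutator hb (hcB a)))) (hCX hc)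
  -- (9) N ≤ N(X)
  have h9 : N ≤ Subgroup.normalizer (X : Set S) := by
    intro n hn
    apply mem_normalizer_of_forall_conj_mem
    apply hXconj
    · intro d hd
      exact hDX (hDmem _ (hNA n hn d (hDA hd)) (hNAb n hn d (hDAb hd)))
    · intro a ha
      have ha1 : n * a * n⁻¹ ∈ A := hNA n hn a ha
      have hrB : n * b * n⁻¹ * b⁻¹ ∈ B :=
        B.mul_mem (‹B.Normal›.conj_mem _ hb n) (B.inv_mem hb)
      have hrN : n * b * n⁻¹ * b⁻¹ ∈ N := by
        have e : n * b * n⁻¹ * b⁻¹ = n * (b * n⁻¹ * b⁻¹) := by group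
        rw [e]
        exact N.mul_mem hn ((hbN' _).mp (N.inv_mem hn))
      have heA : (n * a * n⁻¹) * (n * b * n⁻¹ * b⁻¹)⁻¹ * (n * a * n⁻¹)⁻¹ * (n * b * n⁻¹ * b⁻¹) ∈ A := by
        have h1 : (n * b * n⁻¹ * b⁻¹)⁻¹ * (n * a * n⁻¹)⁻¹ * (n * b * n⁻¹ * b⁻¹)⁻¹⁻¹ ∈ A :=
          hNA _ (N.inv_mem hrN) _ (A.inv_mem ha1)
        rw [inv_inv] at h1
        have e : (n * a * n⁻¹) * (n * b * n⁻¹ * b⁻¹)⁻¹ * (n * a * n⁻¹)⁻¹ * (n * b * n⁻¹ * b⁻¹)
            = (n * a * n⁻¹) * ((n * b * n⁻¹ * b⁻¹)⁻¹ * (n * a * n⁻¹)⁻¹ * (n * b * n⁻¹ * b⁻¹)) := by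
          group
        rw [e]
        exact A.mul_mem ha1 h1
      have heB : (n * a * n⁻¹) * (n * b * n⁻¹ * b⁻¹)⁻¹ * (n * a * n⁻¹)⁻¹ * (n * b * n⁻¹ * b⁻¹) ∈ B :=
        B.mul_mem (‹B.Normal›.conj_mem _ (B.inv_mem hrB) _) hrB
      have heD := hABD (Subgroup.mem_inf.mpr ⟨heA, heB⟩)
      have e : n * (a * b⁻¹ * a⁻¹ * b) * n⁻¹
          = ((n * a * n⁻¹) * b⁻¹ * (n * a * n⁻¹)⁻¹ * b) *
            (b⁻¹ * ((n * a * n⁻¹) * (n * b * n⁻¹ * b⁻¹)⁻¹ * (n * a * n⁻¹)⁻¹ * (n * b * n⁻¹ * b⁻¹)) * b) := by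
        group
      rw [e]
      exact X.mul_mem (hCX (hgen _ ha1)) (hDX (hbD _ heD))
  -- a witness outside A
  have hwit : ∃ a ∈ A, a * b⁻¹ * a⁻¹ * b ∉ A := by
    by_contra hcon
    push Not at hcon
    apply hbA
    rw [hNdef]
    apply inv_mem_normalizer_conj
    intro x hx
    have h1 := hcon x⁻¹ (A.inv_mem hx)
    have e : b⁻¹ * x * b = x * (x⁻¹ * b⁻¹ * x⁻¹⁻¹ * b) := by group
    rw [e]
    exact A.mul_mem hx h1
  -- key1: product formula
  have hkey1 : ∀ a ∈ A, ∀ a' ∈ A, ∃ z ∈ D,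
      (a * b⁻¹ * a⁻¹ * b) * (a' * b⁻¹ * a'⁻¹ * b) = (a * a' * b⁻¹ * (a * a')⁻¹ * b) * z := by
    intro a ha a' ha'
    have hy : b⁻¹ * a⁻¹ * b ∈ Ab := hyAb _ (A.inv_mem ha)
    have hy' : b⁻¹ * a'⁻¹ * b ∈ Ab := hyAb _ (A.inv_mem ha')
    have hz := hf4 _ hy a' ha'
    refine ⟨_, hz, ?_⟩
    obtain ⟨y, hydef⟩ : ∃ y, y = b⁻¹ * a⁻¹ * b := ⟨_, rfl⟩
    obtain ⟨y', hy'def⟩ : ∃ y', y' = b⁻¹ * a'⁻¹ * b := ⟨_, rfl⟩
    rw [← hydef] at hy hz ⊢
    rw [← hy'def] at hy'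
    have e1 : a * b⁻¹ * a⁻¹ * b = a * y := by rw [hydef]; group
    have e2 : a' * b⁻¹ * a'⁻¹ * b = a' * y' := by rw [hy'def]; group
    have e3 : a * a' * b⁻¹ * (a * a')⁻¹ * b = a * a' * (y' * y) := by rw [hydef, hy'def]; group
    have hyy : y' * y = y * y' := hAbcomm _ hy' _ hy
    have hza : (y * a' * y⁻¹ * a'⁻¹) * a = a * (y * a' * y⁻¹ * a'⁻¹) := hDcA _ hz a ha
    have hzc : (y * a' * y⁻¹ * a'⁻¹) * (a' * (y * y')) = (a' * (y * y')) * (y * a' * y⁻¹ * a'⁻¹) := by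
      have h1 := hDcA _ hz a' ha'
      have h2 := hDcAb _ hz _ (Ab.mul_mem hy hy')
      rw [← mul_assoc, h1, mul_assoc, h2, ← mul_assoc]
    rw [e1, e2, e3, hyy]
    calc a * y * (a' * y') = a * ((y * a' * y⁻¹ * a'⁻¹) * (a' * (y * y'))) := by group
      _ = a * ((a' * (y * y')) * (y * a' * y⁻¹ * a'⁻¹)) := by rw [hzc]
      _ = a * a' * (y * y') * (y * a' * y⁻¹ * a'⁻¹) := by group
  -- key2: kernel
  have hkey2 : ∀ a ∈ A, (a * b⁻¹ * a⁻¹ * b ∈ D ↔ a ∈ D) := by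
    intro a ha
    have e0 : a * b⁻¹ * a⁻¹ * b = a * (b⁻¹ * a⁻¹ * b) := by group
    constructor
    · intro h
      have hyA : b⁻¹ * a⁻¹ * b ∈ A := by
        have e : b⁻¹ * a⁻¹ * b = a⁻¹ * (a * b⁻¹ * a⁻¹ * b) := by group
        rw [e]
        exact A.mul_mem (A.inv_mem ha) (hDA h)
      have hyD : b⁻¹ * a⁻¹ * b ∈ D := hDmem _ hyA (hyAb _ (A.inv_mem ha))
      have h1 := hbD' _ hyD
      have e : b * (b⁻¹ * a⁻¹ * b) * b⁻¹ = a⁻¹ := by group
      rw [e] at h1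
      simpa using D.inv_mem h1
    · intro h
      rw [e0]
      exact D.mul_mem h (hbD _ (D.inv_mem h))
  -- (1) the order
  have h1 : Nat.card X = Nat.card A := by
    have hDn : (D.subgroupOf X).Normal := by
      refine ⟨fun n hn g => ?_⟩
      have e : g * n * g⁻¹ = n := by
        apply Subtype.ext
        have := hXcomm g.1 g.2 n.1 n.2
        simp only [Subgroup.coe_mul, InvMemClass.coe_inv]
        rw [this, mul_inv_cancel_right]
      rw [e]; exact hn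
    have hcX : ∀ a : A, a.1 * b⁻¹ * a.1⁻¹ * b ∈ X := fun a => hCX (hgen a.1 a.2)
    let ψ : A →* X ⧸ D.subgroupOf X := MonoidHom.mk'
      (fun a => QuotientGroup.mk ⟨a.1 * b⁻¹ * a.1⁻¹ * b, hcX a⟩) (by
        intro a a'
        obtain ⟨z, hz, hzeq⟩ := hkey1 a.1 a.2 a'.1 a'.2
        rw [← QuotientGroup.mk_mul]
        symm
        rw [QuotientGroup.eq, Subgroup.mem_subgroupOf]
        have e : (((⟨a.1 * b⁻¹ * a.1⁻¹ * b, hcX a⟩ * ⟨a'.1 * b⁻¹ * a'.1⁻¹ * b, hcX a'⟩ : X)⁻¹ *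
            (⟨(a * a').1 * b⁻¹ * (a * a').1⁻¹ * b, hcX (a * a')⟩ : X) : X) : S) = z⁻¹ := by
          simp only [Subgroup.coe_mul, InvMemClass.coe_inv]
          rw [hzeq]; group
        rw [e]
        exact D.inv_mem hz)
    have hψ : ∀ a : A, ψ a = QuotientGroup.mk ⟨a.1 * b⁻¹ * a.1⁻¹ * b, hcX a⟩ := fun a => rfl
    have hker : ψ.ker = D.subgroupOf A := by
      ext a
      rw [MonoidHom.mem_ker, hψ, QuotientGroup.eq_one_iff, Subgroup.mem_subgroupOf,
        Subgroup.mem_subgroupOf]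
      exact hkey2 a.1 a.2
    have hsurj : Function.Surjective ψ := by
      have hle : X ≤ (ψ.range.comap (QuotientGroup.mk' (D.subgroupOf X))).map X.subtype := by
        have hD' : D ≤ (ψ.range.comap (QuotientGroup.mk' (D.subgroupOf X))).map X.subtype := by
          intro d hd
          refine ⟨⟨d, hDX hd⟩, ?_, rfl⟩
          show (⟨d, hDX hd⟩ : X) ∈ Subgroup.comap _ _
          rw [Subgroup.mem_comap]
          have e : (QuotientGroup.mk' (D.subgroupOf X)) ⟨d, hDX hd⟩ = 1 := by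
            rw [QuotientGroup.mk'_apply, QuotientGroup.eq_one_iff, Subgroup.mem_subgroupOf]
            exact hd
          rw [e]; exact Subgroup.one_mem _
        have hC' : C ≤ (ψ.range.comap (QuotientGroup.mk' (D.subgroupOf X))).map X.subtype := by
          rw [hC, Subgroup.closure_le]
          rintro _ ⟨a, ha, rfl⟩
          refine ⟨⟨a * b⁻¹ * a⁻¹ * b, hcX ⟨a, ha⟩⟩, ?_, rfl⟩
          show (⟨a * b⁻¹ * a⁻¹ * b, hcX ⟨a, ha⟩⟩ : X) ∈ Subgroup.comap _ _
          rw [Subgroup.mem_comap]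
          exact ⟨⟨a, ha⟩, rfl⟩
        calc X = D ⊔ C := hX
          _ ≤ _ := sup_le hD' hC'
      intro q
      obtain ⟨x, rfl⟩ := QuotientGroup.mk_surjective q
      obtain ⟨x', hx', hxx⟩ := hle x.2
      have hxe : x' = x := Subtype.ext hxx
      rw [hxe] at hx'
      have := Subgroup.mem_comap.mp hx'
      exact this
    have hidx : (D.subgroupOf A).index = (D.subgroupOf X).index := by
      rw [← hker, Subgroup.index_ker, MonoidHom.range_eq_top.mpr hsurj, Subgroup.card_top]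
      rfl
    have hA1 := Cfsg.Agent.Lib.Helper6.relIndex_mul_card_of_le hDA
    have hX1 := Cfsg.Agent.Lib.Helper6.relIndex_mul_card_of_le hDX
    rw [← hA1, ← hX1]
    show (D.subgroupOf X).index * _ = (D.subgroupOf A).index * _
    rw [hidx]
  -- (10) exponent
  have h10 : p ≠ 2 → Monoid.exponent X ∣ Monoid.exponent A := by
    intro hp2
    obtain ⟨e, he⟩ : ∃ e, e = Monoid.exponent A := ⟨_, rfl⟩
    rw [← he]
    have hApow : ∀ a ∈ A, a ^ e = 1 := by
      intro a ha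
      have h := Monoid.pow_exponent_eq_one (⟨a, ha⟩ : A)
      rw [← he] at h
      have h' := congrArg Subtype.val h
      simpa using h'
    have hodd : Odd e := by
      have hd : e ∣ Nat.card A := he ▸ Group.exponent_dvd_nat_card
      obtain ⟨k, hk⟩ := (hS.to_subgroup A).exists_card_eq
      rw [hk] at hd
      obtain ⟨j, -, hj⟩ := (Nat.dvd_prime_pow (Fact.out : p.Prime)).mp hd
      rw [hj]
      exact Odd.pow ((Fact.out : p.Prime).eq_two_or_odd'.resolve_left hp2)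
    have hch : e ∣ e.choose 2 := by
      rw [Nat.choose_two_right]
      obtain ⟨m, hm⟩ := hodd
      have h2 : 2 ∣ e - 1 := ⟨m, by omega⟩
      rw [Nat.mul_div_assoc _ h2]
      exact dvd_mul_right _ _
    have hgenpow : ∀ a ∈ A, (a * b⁻¹ * a⁻¹ * b) ^ e = 1 := by
      intro a ha
      have hy : b⁻¹ * a⁻¹ * b ∈ Ab := hyAb _ (A.inv_mem ha)
      have hz := hf4 _ hy a ha
      have e0 : a * b⁻¹ * a⁻¹ * b = a * (b⁻¹ * a⁻¹ * b) := by group
      have hya : (b⁻¹ * a⁻¹ * b) * a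
          = ((b⁻¹ * a⁻¹ * b) * a * (b⁻¹ * a⁻¹ * b)⁻¹ * a⁻¹) * a * (b⁻¹ * a⁻¹ * b) := by group
      rw [e0, mul_pow_class_two a (b⁻¹ * a⁻¹ * b) _ (hDcA _ hz a ha) (hDcAb _ hz _ hy) hya e]
      have hype : (b⁻¹ * a⁻¹ * b) ^ e = 1 := by
        have e1 : (b⁻¹ * a⁻¹ * b) ^ e = b⁻¹ * (a⁻¹) ^ e * b := by
          have := map_pow (MulAut.conj b⁻¹) a⁻¹ e
          simp only [MulAut.conj_apply, inv_inv] at this
          exact this.symm
        rw [e1, hApow _ (A.inv_mem ha)]; group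
      obtain ⟨m, hm⟩ := hch
      rw [hype, hApow a ha, hm, pow_mul, hApow _ (hDA hz)]
      simp
    have hXpow : ∀ x ∈ X, x ^ e = 1 := by
      let W : Subgroup S :=
        { carrier := {x | x ∈ X ∧ x ^ e = 1}
          mul_mem' := by
            rintro x y ⟨hx, hxe⟩ ⟨hy, hye⟩
            refine ⟨X.mul_mem hx hy, ?_⟩
            rw [(show Commute x y from hXcomm x hx y hy).mul_pow, hxe, hye, one_mul]
          one_mem' := ⟨X.one_mem, one_pow _⟩
          inv_mem' := by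
            rintro x ⟨hx, hxe⟩
            exact ⟨X.inv_mem hx, by rw [inv_pow, hxe, inv_one]⟩ }
      have hle : X ≤ W := by
        rw [hX]
        apply sup_le
        · intro d hd
          exact ⟨hDX hd, hApow d (hDA hd)⟩
        · rw [hC, Subgroup.closure_le]
          rintro _ ⟨a, ha, rfl⟩
          exact ⟨hCX (hgen a ha), hgenpow a ha⟩
      intro x hx
      exact (hle hx).2
    apply Monoid.exponent_dvd_of_forall_pow_eq_one
    intro x
    apply Subtype.ext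
    have := hXpow x.1 x.2
    simpa using this
  -- assemble
  obtain ⟨a0, ha0, ha0A⟩ := hwit
  refine ⟨h1, IsMulCommutative.of_setLike_mul_comm hXcomm, hBBD.trans hDX, ?_, ?_, h6, hXN, h8, ?_, h10⟩
  · refine lt_of_le_of_ne (le_inf (hABD.trans hDX) inf_le_right) ?_
    intro heq
    have hmem : a0 * b⁻¹ * a0⁻¹ * b ∈ X ⊓ B := Subgroup.mem_inf.mpr ⟨hCX (hgen a0 ha0), hcB a0⟩
    rw [← heq] at hmem
    exact ha0A (Subgroup.mem_inf.mp hmem).1
  · refine lt_of_le_of_ne inf_le_right ?_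
    intro heq
    apply hnot
    intro x hx
    rw [← heq] at hx
    exact hXN (Subgroup.mem_inf.mp hx).1
  · refine lt_of_le_of_ne h9 ?_
    intro heq
    apply hbA
    rw [heq]
    exact h8

end main

/-- The Glauberman replacement Theorem: from an abelian A ⊇ [B, B] not normalized by the normal subgroup B and a suitable b ∈ B one gets the abelian subgroup A* = (A ∩ b⁻¹Ab)[A, b] of the same order, containing [B, B], meeting B strictly more than A does but not containing B, mutually normalizing with A, with strictly larger normalizer containing b, and (p odd) of no larger exponent. -/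
theorem result {S : Type*} [Group S] [Finite S] {p : ℕ} [Fact p.Prime] (hS : IsPGroup p S) (B : Subgroup S) [B.Normal] (hB2 : p = 2 → IsMulCommutative B) (A : Subgroup S) (hA : IsMulCommutative A) (hBA : ⁅B, B⁆ ≤ A) (hnot : ¬ B ≤ Subgroup.normalizer (A : Set S)) (b : S) (hb : b ∈ B) (hbN : b ∈ Subgroup.normalizer ((Subgroup.normalizer (A : Set S)) : Set S)) (hbA : b ∉ Subgroup.normalizer (A : Set S)) : Nat.card ↥((A ⊓ A.map (MulAut.conj (b⁻¹)).toMonoidHom) ⊔ Subgroup.closure {g : S | ∃ a ∈ A, g = a * b⁻¹ * a⁻¹ * b}) = Nat.card A ∧ IsMulCommutative ↥((A ⊓ A.map (MulAut.conj (b⁻¹)).toMonoidHom) ⊔ Subgroup.closure {g : S | ∃ a ∈ A, g = a * b⁻¹ * a⁻¹ * b}) ∧ ⁅B, B⁆ ≤ ((A ⊓ A.map (MulAut.conj (b⁻¹)).toMonoidHom) ⊔ Subgroup.closure {g : S | ∃ a ∈ A, g = a * b⁻¹ * a⁻¹ * b}) ∧ A ⊓ B < ((A ⊓ A.map (MulAut.conj (b⁻¹)).toMonoidHom) ⊔ Subgroup.closure {g : S | ∃ a ∈ A, g = a * b⁻¹ * a⁻¹ * b}) ⊓ B ∧ ((A ⊓ A.map (MulAut.conj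 (b⁻¹)).toMonoidHom) ⊔ Subgroup.closure {g : S | ∃ a ∈ A, g = a * b⁻¹ * a⁻¹ * b}) ⊓ B < B ∧ A ≤ Subgroup.normalizer (((A ⊓ A.map (MulAut.conj (b⁻¹)).toMonoidHom) ⊔ Subgroup.closure {g : S | ∃ a ∈ A, g = a * b⁻¹ * a⁻¹ * b} : Subgroup S) : Set S) ∧ ((A ⊓ A.map (MulAut.conj (b⁻¹)).toMonoidHom) ⊔ Subgroup.closure {g : S | ∃ a ∈ A, g = a * b⁻¹ * a⁻¹ * b}) ≤ Subgroup.normalizer (A : Set S) ∧ b ∈ Subgroup.normalizer (((A ⊓ A.map (MulAut.conj (b⁻¹)).toMonoidHom) ⊔ Subgroup.closure {g : S | ∃ a ∈ A, g = a * b⁻¹ * a⁻¹ * b} : Subgroup S) : Set S) ∧ Subgroup.normalizer (A : Set S) < Subgroup.normalizer (((A ⊓ A.map (MulAut.conj (b⁻¹)).toMonoidHom) ⊔ Subgroup.closure {g : S | ∃ a ∈ A, g = a * b⁻¹ * a⁻¹ * b} : Subgroup S) : Set S) ∧ (p ≠ 2 → Monoid.exponent ↥((A ⊓ A.map (MulAut.conj (b⁻¹)).toMonoidHom) ⊔ Subgroup.closure {g : S | ∃ a ∈ A, g = a * b⁻¹ * a⁻¹ * b}) ∣ Monoid.exponent A) := by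
  exact main hS B hB2 A hA hBA hnot b hb hbN hbA _ _ _ _ rfl rfl rfl rfl

end Cfsg.Agent.S0650
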