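import Cfsg.Statements.S0651
import Cfsg.Agent.S0649
import Cfsg.Agent.S0650

set_option autoImplicit false
open Cfsg

namespace Cfsg.Agent.S0651

universe u

section aux

variable {S : Type u} [Group S] [Finite S]

lemma card_lt_of_lt' {H K : Subgroup S} (h : H < K) : Nat.card H < Nat.card K := by
  have h1 : (H : Set S) ⊂ (K : Set S) := SetLike.coe_ssubset_coe.mpr h
  have h2 := Set.ncard_lt_ncard h1
  rw [← Nat.card_coe_set_eq, ← Nat.card_coe_set_eq] at h2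
  exact h2

/-- Iterated replacement inside a family of abelian subgroups closed under the replacement
operation. -/
lemma replace_family {p : ℕ} [Fact p.Prime] (hS : IsPGroup p S) (hp : p ≠ 2)
    (D : Subgroup S) [D.Normal] (F : Set (Subgroup S))
    (hFab : ∀ A ∈ F, IsMulCommutative A) (hFD : ∀ A ∈ F, A ≤ D)
    (hFcl : ∀ A ∈ F, ∀ A' : Subgroup S, A' ≤ D → IsMulCommutative A' →
      Nat.card A' = Nat.card A → Monoid.exponent A' ∣ Monoid.exponent A → A' ∈ F)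
    (B : Subgroup S) [B.Normal] (hU : ∃ U ∈ F, ⁅B, B⁆ ≤ U ∧ ¬ B ≤ U) :
    ∃ A ∈ F, ⁅B, B⁆ ≤ A ∧ ¬ B ≤ A ∧ B ≤ Subgroup.normalizer (A : Set S) := by
  classical
  by_contra hcon
  push Not at hcon
  have hstep : ∀ A ∈ F, ⁅B, B⁆ ≤ A → ¬ B ≤ A →
      ∃ A' ∈ F, ⁅B, B⁆ ≤ A' ∧ ¬ B ≤ A' ∧ Nat.card ↥(A ⊓ B) < Nat.card ↥(A' ⊓ B) := by
    intro A hAF hBA hBnA
    have hnot := hcon A hAF hBA hBnA
    have hA := hFab A hAF
    have hB2 : p = 2 → IsMulCommutative B := fun h => absurd h hp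
    obtain ⟨b, hb, hbN, hbA⟩ := Cfsg.Agent.S0649.result hS B hB2 A hA hBA hnot
    obtain ⟨h1, h2, h3, h4, h5, -, -, -, -, h10⟩ :=
      Cfsg.Agent.S0650.result hS B hB2 A hA hBA hnot b hb hbN hbA
    refine ⟨_, hFcl A hAF _ ?_ h2 h1 (h10 hp), h3, ?_, card_lt_of_lt' h4⟩
    · apply sup_le (inf_le_left.trans (hFD A hAF))
      rw [Subgroup.closure_le]
      rintro _ ⟨a, ha, rfl⟩
      have haD : a ∈ D := hFD A hAF ha
      have e : a * b⁻¹ * a⁻¹ * b = a * (b⁻¹ * a⁻¹ * b⁻¹⁻¹) := by group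
      rw [e]
      exact D.mul_mem haD (‹D.Normal›.conj_mem _ (D.inv_mem haD) _)
    · intro hle
      exact absurd (le_inf hle le_rfl) (not_le_of_gt h5)
  have hall : ∀ n : ℕ, ∃ A ∈ F, ⁅B, B⁆ ≤ A ∧ ¬ B ≤ A ∧ n ≤ Nat.card ↥(A ⊓ B) := by
    intro n
    induction n with
    | zero =>
      obtain ⟨U, hUF, h1, h2⟩ := hU
      exact ⟨U, hUF, h1, h2, Nat.zero_le _⟩
    | succ n ih =>
      obtain ⟨A, hAF, h1, h2, h3⟩ := ih
      obtain ⟨A', hA'F, h1', h2', h3'⟩ := hstep A hAF h1 h2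
      exact ⟨A', hA'F, h1', h2', by omega⟩
  obtain ⟨A, -, -, -, h⟩ := hall (Nat.card S + 1)
  have := Subgroup.card_le_card_group (A ⊓ B)
  omega

end aux

/-- For odd p and D normal in the p-group S, the abelian subgroups of D of largest order satisfy the replacement property: a class-2 normal subgroup B of S with a member containing [B, B] but not B normalizes some such member. -/
theorem result {S : Type*} [Group S] [Finite S] {p : ℕ} [Fact p.Prime] (hS : IsPGroup p S) (hp : p ≠ 2) (D : Subgroup S) [D.Normal] : ∀ (B : Subgroup S) [B.Normal], ⁅⁅B, B⁆, B⁆ = ⊥ → (∃ U ∈ (Set.image (fun A : Subgroup ↥D => A.map D.subtype) (Cfsg.maxAbelianSubgroups ↥D)), ⁅B, B⁆ ≤ U ∧ ¬ B ≤ U) → ∃ A ∈ (Set.image (fun A : Subgroup ↥D => A.map D.subtype) (Cfsg.maxAbelianSubgroups ↥D)), ⁅B, B⁆ ≤ A ∧ ¬ B ≤ A ∧ B ≤ Subgroup.normalizer (A : Set S) := by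
  intro B _ _ hU
  apply replace_family hS hp D _ ?_ ?_ ?_ B hU
  · rintro _ ⟨A₀, hA₀, rfl⟩
    have := hA₀.1
    infer_instance
  · rintro _ ⟨A₀, hA₀, rfl⟩
    exact Subgroup.map_subtype_le A₀
  · rintro _ ⟨A₀, hA₀, rfl⟩ A' hA'D hA'c hcard -
    refine ⟨A'.subgroupOf D, ⟨inferInstance, ?_⟩, Subgroup.map_subgroupOf_eq_of_le hA'D⟩
    intro B₀ hB₀
    have h1 := hA₀.2 B₀ hB₀
    have h2 : Nat.card (A'.subgroupOf D) = Nat.card A' :=
      Nat.card_congr (Subgroup.subgroupOfEquivOfLe hA'D).toEquiv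
    have h3 : Nat.card (A₀.map D.subtype) = Nat.card A₀ := Subgroup.card_subtype D A₀
    rw [h2, hcard, h3]
    exact h1

end Cfsg.Agent.S0651
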