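import Cfsg.Statements.S2005
import Cfsg.Agent.Lib.Helper14.PNilp
import Cfsg.Agent.Lib.Helper14.Sections
import Cfsg.Agent.Lib.Helper14.Cores
import Cfsg.Agent.Lib.Helper14.SylowRel
import Cfsg.Agent.Lib.Helper14.PComplement
import Cfsg.Agent.Lib.Helper11.PLayerLocal

set_option autoImplicit false
universe u
open Cfsg

namespace Cfsg.Agent.S2005

open Cfsg.Agent.Lib.Helper14

/-- The local hypothesis for a single group. -/
def Good (p : ℕ) (W : ∀ (Q : Type u) [Group Q], Subgroup Q) (Y : Type u) [Group Y] : Prop :=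
  Subgroup.centralizer ((Cfsg.pCore p Y : Subgroup Y) : Set Y) ≤ Cfsg.pCore p Y →
  Cfsg.HasNormalPComplement p (Y ⧸ Cfsg.pCore p Y) →
  ∀ T : Sylow p Y, IsCoatom (T : Subgroup Y) →
    (Cfsg.inducedFunctor (G := Y) W (T : Subgroup Y)).Normal

theorem pCore_map_equiv {p : ℕ} [Fact p.Prime] {Y Z : Type u} [Group Y] [Group Z] [Finite Y]
    (e : Y ≃* Z) : (Cfsg.pCore p Y).map e.toMonoidHom = Cfsg.pCore p Z := by
  have : Finite Z := Finite.of_equiv Y e.toEquiv
  apply le_antisymm
  · exact le_pCore p (Subgroup.Normal.map inferInstance _ e.surjective)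
      ((pCore_isPGroup p).map _)
  · have h1 : (Cfsg.pCore p Z).map e.symm.toMonoidHom ≤ Cfsg.pCore p Y :=
      le_pCore p (Subgroup.Normal.map inferInstance _ e.symm.surjective)
        ((pCore_isPGroup p).map _)
    intro z hz
    have h2 : e.symm z ∈ Cfsg.pCore p Y := h1 ⟨z, hz, rfl⟩
    exact ⟨e.symm z, h2, by simp⟩

theorem good_of_equiv {p : ℕ} [Fact p.Prime] {W : ∀ (Q : Type u) [Group Q], Subgroup Q}
    (hW : Cfsg.IsCharPFunctor.{u} p W) {Y Z : Type u} [Group Y] [Group Z] [Finite Y]
    (e : Y ≃* Z) (h : Good p W Y) : Good p W Z := by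
  have hfin : Finite Z := Finite.of_equiv Y e.toEquiv
  intro hC hPC T hT
  have hcore : (Cfsg.pCore p Y).map e.toMonoidHom = Cfsg.pCore p Z := pCore_map_equiv e
  have hcore' : (Cfsg.pCore p Z).map e.symm.toMonoidHom = Cfsg.pCore p Y := pCore_map_equiv e.symm
  have hC' : Subgroup.centralizer ((Cfsg.pCore p Y : Subgroup Y) : Set Y) ≤ Cfsg.pCore p Y := by
    intro y hy
    have h1 : e y ∈ Subgroup.centralizer ((Cfsg.pCore p Z : Subgroup Z) : Set Z) := by
      rw [Subgroup.mem_centralizer_iff]
      intro z hz
      rw [← hcore] at hz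
      obtain ⟨y', hy', rfl⟩ := hz
      have h2 := (Subgroup.mem_centralizer_iff.mp hy) y' hy'
      change e y' * e y = e y * e y'
      rw [← map_mul, ← map_mul, h2]
    have h2 := hC h1
    rw [← hcore] at h2
    obtain ⟨y', hy', hyy⟩ := h2
    have h3 : y' = y := e.injective hyy
    rw [← h3]
    exact hy'
  have hPC' : Cfsg.HasNormalPComplement p (Y ⧸ Cfsg.pCore p Y) := by
    rw [← pnilp_iff] at hPC ⊢
    exact hPC.of_surjective
      (QuotientGroup.congr (Cfsg.pCore p Z) (Cfsg.pCore p Y) e.symm hcore').toMonoidHom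
      (QuotientGroup.congr (Cfsg.pCore p Z) (Cfsg.pCore p Y) e.symm hcore').surjective
  have hrange : (T : Subgroup Z) ≤ e.toMonoidHom.range := by
    intro z _
    exact ⟨e.symm z, by simp⟩
  obtain ⟨T', hT'⟩ : ∃ T' : Sylow p Y, (T' : Subgroup Y) = (T : Subgroup Z).comap e.toMonoidHom :=
    ⟨T.comapOfInjective e.toMonoidHom e.injective hrange, rfl⟩
  have hmap : (T' : Subgroup Y).map e.toMonoidHom = T := by
    rw [hT']
    exact Subgroup.map_comap_eq_self_of_surjective e.surjective _
  have hco : IsCoatom (T' : Subgroup Y) := by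
    have h1 : e.mapSubgroup (T' : Subgroup Y) = (T : Subgroup Z) := hmap
    rw [← OrderIso.isCoatom_iff e.mapSubgroup, h1]
    exact hT
  have hn := h hC' hPC' T' hco
  have h2 : Cfsg.inducedFunctor W ((T' : Subgroup Y).map e.toMonoidHom) =
      (Cfsg.inducedFunctor W (T' : Subgroup Y)).map e.toMonoidHom :=
    inducedFunctor_map hW e.toMonoidHom e.injective (T' : Subgroup Y) T'.2
  rw [hmap] at h2
  rw [h2]
  exact Subgroup.Normal.map hn _ e.surjective

theorem exists_lex_max {α : Type*} [Finite α] (P : α → Prop) (f g : α → ℕ) (h : ∃ a, P a) :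
    ∃ a, P a ∧ (∀ b, P b → f b ≤ f a) ∧ (∀ b, P b → f b = f a → g b ≤ g a) := by
  obtain ⟨a1, ha1, hm1⟩ := Set.exists_max_image {a | P a} f (Set.toFinite _) h
  obtain ⟨a, ha, hm⟩ := Set.exists_max_image {a | P a ∧ f a = f a1} g (Set.toFinite _)
    ⟨a1, ha1, rfl⟩
  exact ⟨a, ha.1, fun b hb => by rw [ha.2]; exact hm1 b hb,
    fun b hb hfb => hm b ⟨hb, hfb.trans ha.2⟩⟩

theorem pnilp_normalizer_W_all {p : ℕ} [Fact p.Prime] {W : ∀ (Q : Type u) [Group Q], Subgroup Q}
    (hW : Cfsg.IsCharPFunctor.{u} p W) {X : Type u} [Group X] [Finite X] (S S' : Sylow p X)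
    (h : PNilp p ↥(Subgroup.normalizer
      ((Cfsg.inducedFunctor (G := X) W (S : Subgroup X) : Subgroup X) : Set X))) :
    PNilp p ↥(Subgroup.normalizer
      ((Cfsg.inducedFunctor (G := X) W (S' : Subgroup X) : Subgroup X) : Set X)) := by
  obtain ⟨g, hg⟩ := MulAction.exists_smul_eq X S S'
  have hS' : (S' : Subgroup X) = (S : Subgroup X).map (MulAut.conj g).toMonoidHom := by
    rw [← hg]; rfl
  have h1 : Cfsg.inducedFunctor W (S' : Subgroup X) =
      (Cfsg.inducedFunctor W (S : Subgroup X)).map (MulAut.conj g).toMonoidHom := by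
    rw [hS']
    exact inducedFunctor_map_conj hW g (S : Subgroup X) S.2
  have h2 : Subgroup.normalizer ((Cfsg.inducedFunctor W (S' : Subgroup X) : Subgroup X) : Set X) =
      (Subgroup.normalizer ((Cfsg.inducedFunctor W (S : Subgroup X) : Subgroup X) : Set X)).map
        (MulAut.conj g).toMonoidHom := by
    rw [h1]
    exact normalizer_map_conj _ g
  rw [h2]
  exact h.of_surjective ((MulAut.conj g).toMonoidHom.subgroupMap _)
    (MonoidHom.subgroupMap_surjective _ _)

theorem card_mul_dvd_normalizer {p : ℕ} [Fact p.Prime] {X : Type u} [Group X] [Finite X]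
    (R : Subgroup X) (hR : IsPGroup p R) (hidx : p ∣ R.index) :
    p * Nat.card R ∣ Nat.card ↥(Subgroup.normalizer (R : Set X)) := by
  obtain ⟨n, hn⟩ := IsPGroup.iff_card.mp hR
  have hdvd : p ^ (n + 1) ∣ Nat.card X := by
    rw [← R.card_mul_index, hn, pow_succ]
    exact Nat.mul_dvd_mul_left _ hidx
  have h1 := Sylow.prime_dvd_card_quotient_normalizer hdvd hn
  have h2 : Nat.card ↥(Subgroup.normalizer (R : Set X)) =
      Nat.card (↥(Subgroup.normalizer (R : Set X)) ⧸ R.subgroupOf (Subgroup.normalizer (R : Set X))) *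
        Nat.card ↥(R.subgroupOf (Subgroup.normalizer (R : Set X))) :=
    Subgroup.card_eq_card_quotient_mul_card_subgroup _
  have h3 : Nat.card ↥(R.subgroupOf (Subgroup.normalizer (R : Set X))) = Nat.card R :=
    Nat.card_congr (Subgroup.subgroupOfEquivOfLe Subgroup.le_normalizer).toEquiv
  rw [h2, h3]
  exact Nat.mul_dvd_mul_right h1 _

theorem le_normalizer_inducedFunctor {p : ℕ} [Fact p.Prime]
    {W : ∀ (Q : Type u) [Group Q], Subgroup Q} (hW : Cfsg.IsCharPFunctor.{u} p W)
    {X : Type u} [Group X] (P : Subgroup X) [Finite P] (hP : IsPGroup p P) :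
    Subgroup.normalizer (P : Set X) ≤
      Subgroup.normalizer ((Cfsg.inducedFunctor W P : Subgroup X) : Set X) := by
  intro g hg
  apply mem_normalizer_of_map_conj_eq
  rw [← inducedFunctor_map_conj hW g P hP, map_conj_eq_self_of_mem_normalizer hg]

theorem inducedFunctor_map_of_injOn {p : ℕ} {W : ∀ (Q : Type u) [Group Q], Subgroup Q}
    (hW : Cfsg.IsCharPFunctor.{u} p W) {L X : Type u} [Group L] [Group X] (f : L →* X)
    (P : Subgroup L) [Finite P] (hP : IsPGroup p P) (hinj : ∀ x ∈ P, f x = 1 → x = 1) :
    Cfsg.inducedFunctor W (P.map f) = (Cfsg.inducedFunctor W P).map f := by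
  have hbij : Function.Bijective (f.subgroupMap P) := by
    refine ⟨?_, MonoidHom.subgroupMap_surjective _ _⟩
    rw [injective_iff_map_eq_one]
    intro x hx
    have h1 : f (x : L) = 1 := congrArg Subtype.val hx
    exact Subtype.ext (hinj x x.2 h1)
  have h := hW.2 ↥P ↥(P.map f) hP (MulEquiv.ofBijective (f.subgroupMap P) hbij)
  unfold Cfsg.inducedFunctor
  rw [← h, Subgroup.map_map, Subgroup.map_map]
  congr 1

theorem pnilp_of_normalizer_eq_top {p : ℕ} [Fact p.Prime] {X : Type u} [Group X] [Finite X]
    {L : Subgroup X} (h : Subgroup.normalizer (L : Set X) = ⊤)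
    (h' : PNilp p ↥(Subgroup.normalizer (L : Set X))) : PNilp p X :=
  h'.of_surjective (Subgroup.normalizer (L : Set X)).subtype
    (by intro x; exact ⟨⟨x, by rw [h]; trivial⟩, rfl⟩)

theorem card_quotient_lt {X : Type u} [Group X] [Finite X] (D : Subgroup X) [D.Normal]
    (hD : D ≠ ⊥) : Nat.card (X ⧸ D) < Nat.card X := by
  have h1 : Nat.card X = Nat.card (X ⧸ D) * Nat.card D :=
    Subgroup.card_eq_card_quotient_mul_card_subgroup D
  have h2 : 1 < Nat.card D := (Subgroup.one_lt_card_iff_ne_bot D).mpr hD
  have h3 : 0 < Nat.card (X ⧸ D) := Nat.card_pos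
  rw [h1]
  nlinarith

theorem card_subgroup_lt {X : Type u} [Group X] [Finite X] (M : Subgroup X)
    (hM : M ≠ ⊤) : Nat.card M < Nat.card X := by
  have h1 : Nat.card M ≤ Nat.card X := Subgroup.card_le_card_group M
  rcases h1.lt_or_eq with h | h
  · exact h
  · exact absurd (Subgroup.eq_top_of_card_eq M h) hM

theorem main {p : ℕ} [hp : Fact p.Prime] (W : ∀ (Q : Type u) [Group Q], Subgroup Q)
    (hW : Cfsg.IsCharPFunctor.{u} p W)
    (C : ∀ (X : Type u) [Group X], Prop)
    (hCsub : ∀ (X : Type u) [Group X], C X → ∀ L : Subgroup X, C ↥L)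
    (hCquot : ∀ (X : Type u) [Group X], C X → ∀ (M : Subgroup X) [M.Normal], C (X ⧸ M))
    (hGood : ∀ (X : Type u) [Group X] [Finite X], C X → Good p W X) :
    ∀ (n : ℕ) (X : Type u) [Group X] [Finite X], C X → Nat.card X ≤ n → ∀ S : Sylow p X,
      PNilp p ↥(Subgroup.normalizer
        ((Cfsg.inducedFunctor (G := X) W (S : Subgroup X) : Subgroup X) : Set X)) → PNilp p X := by
  intro n
  induction n with
  | zero =>
    intro X _ _ _ hn
    exfalso
    have := Nat.card_pos (α := X)
    omega
  | succ n ih =>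
    intro X _ _ hCX hn S hNS
    by_contra hX
    have hpp : p.Prime := hp.out
    obtain ⟨Q0, hQ0p, hQ0ne, hQ0N⟩ := exists_not_pnilp_normalizer hX
    obtain ⟨H, ⟨hHp, hHne, hHN⟩, hmax1, hmax2⟩ := exists_lex_max
      (fun H : Subgroup X => IsPGroup p H ∧ H ≠ ⊥ ∧
        ¬ PNilp p ↥(Subgroup.normalizer (H : Set X)))
      (fun H => (Nat.card ↥(Subgroup.normalizer (H : Set X))).factorization p)
      (fun H => Nat.card H) ⟨Q0, hQ0p, hQ0ne, hQ0N⟩
    -- generic: the normalizer in a subgroup `N` of `W` of a Sylow embeds in the normalizer in `X`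
    have hemb : ∀ (N : Subgroup X) (R : Sylow p ↥N),
        PNilp p ↥(Subgroup.normalizer ((Cfsg.inducedFunctor W
          ((R : Subgroup ↥N).map N.subtype) : Subgroup X) : Set X)) →
        PNilp p ↥(Subgroup.normalizer ((Cfsg.inducedFunctor W (R : Subgroup ↥N) :
          Subgroup ↥N) : Set ↥N)) := by
      intro N R hPN
      have hWR' : Cfsg.inducedFunctor W ((R : Subgroup ↥N).map N.subtype) =
          (Cfsg.inducedFunctor W (R : Subgroup ↥N)).map N.subtype :=
        inducedFunctor_map hW N.subtype (Subgroup.subtype_injective N) (R : Subgroup ↥N) R.2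
      have hle : ∀ x : ↥N, x ∈ Subgroup.normalizer
          ((Cfsg.inducedFunctor W (R : Subgroup ↥N) : Subgroup ↥N) : Set ↥N) →
          (x : X) ∈ Subgroup.normalizer ((Cfsg.inducedFunctor W
            ((R : Subgroup ↥N).map N.subtype) : Subgroup X) : Set X) := by
        intro x hx
        rw [hWR']
        exact Subgroup.le_normalizer_map N.subtype ⟨x, hx, rfl⟩
      let f : ↥(Subgroup.normalizer
          ((Cfsg.inducedFunctor W (R : Subgroup ↥N) : Subgroup ↥N) : Set ↥N)) →*
          ↥(Subgroup.normalizer ((Cfsg.inducedFunctor W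
            ((R : Subgroup ↥N).map N.subtype) : Subgroup X) : Set X)) :=
        (N.subtype.comp (Subgroup.subtype _)).codRestrict _ (fun x => hle x.1 x.2)
      have hf : Function.Injective f := by
        intro a b hab
        have h1 : ((f a).1 : X) = ((f b).1 : X) := by rw [hab]
        exact Subtype.ext (Subtype.ext h1)
      exact hPN.of_injective f hf
    -- Step C: `H` is normal
    have hHtop : Subgroup.normalizer (H : Set X) = ⊤ := by
      by_contra hNtop
      apply hHN
      have hcardN : Nat.card ↥(Subgroup.normalizer (H : Set X)) ≤ n := by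
        have := card_subgroup_lt _ hNtop
        omega
      obtain ⟨R⟩ : Nonempty (Sylow p ↥(Subgroup.normalizer (H : Set X))) := inferInstance
      apply ih ↥(Subgroup.normalizer (H : Set X)) (hCsub X hCX _) hcardN R
      apply hemb
      obtain ⟨R', hR'⟩ : ∃ R' : Subgroup X, R' = (R : Subgroup ↥(Subgroup.normalizer (H : Set X))).map
          (Subgroup.normalizer (H : Set X)).subtype := ⟨_, rfl⟩
      rw [← hR']
      have hR'p : IsPGroup p ↥R' := by rw [hR']; exact R.2.map _
      by_cases hidx : p ∣ R'.index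
      · by_contra hcon
        have hHR : H.subgroupOf (Subgroup.normalizer (H : Set X)) ≤
            (R : Subgroup ↥(Subgroup.normalizer (H : Set X))) := by
          have hn : (H.subgroupOf (Subgroup.normalizer (H : Set X))).Normal :=
            Subgroup.normal_in_normalizer
          have hpg : IsPGroup p ↥(H.subgroupOf (Subgroup.normalizer (H : Set X))) :=
            hHp.comap_subtype
          have h1 : IsPGroup p ↥(H.subgroupOf (Subgroup.normalizer (H : Set X)) ⊔
              (R : Subgroup ↥(Subgroup.normalizer (H : Set X)))) :=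
            IsPGroup.to_sup_of_normal_left hpg R.2
          have h2 := R.3 h1 le_sup_right
          rw [← h2]
          exact le_sup_left
        have hHR' : H ≤ R' := by
          intro x hx
          rw [hR']
          exact ⟨⟨x, Subgroup.le_normalizer hx⟩, hHR (Subgroup.mem_subgroupOf.mpr hx), rfl⟩
        have hR'ne : R' ≠ ⊥ := by
          intro h0
          rw [h0] at hHR'
          exact hHne (le_bot_iff.mp hHR')
        have hUne := inducedFunctor_ne_bot hW R' hR'p hR'ne
        have hUp : IsPGroup p ↥(Cfsg.inducedFunctor W R') := hR'p.to_le (inducedFunctor_le R')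
        have h1 := hmax1 _ ⟨hUp, hUne, hcon⟩
        have h2 := le_normalizer_inducedFunctor hW R' hR'p
        have h3 := card_mul_dvd_normalizer R' hR'p hidx
        have h4 : Nat.card R' =
            p ^ (Nat.card ↥(Subgroup.normalizer (H : Set X))).factorization p := by
          rw [hR', Subgroup.card_map_of_injective (Subgroup.subtype_injective _)]
          exact R.card_eq_multiplicity
        have h5 : p ^ ((Nat.card ↥(Subgroup.normalizer (H : Set X))).factorization p + 1) ∣
            Nat.card ↥(Subgroup.normalizer ((Cfsg.inducedFunctor W R' : Subgroup X) : Set X)) := by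
          have h6 := Subgroup.card_dvd_of_le h2
          rw [pow_succ, ← h4, mul_comm]
          exact dvd_trans h3 h6
        have h6 := (Nat.Prime.pow_dvd_iff_le_factorization hpp (Nat.card_pos).ne').mp h5
        omega
      · obtain ⟨S', hS'⟩ : ∃ S' : Sylow p X, (S' : Subgroup X) = R' :=
          ⟨hR'p.toSylow hidx, rfl⟩
        rw [← hS']
        exact pnilp_normalizer_W_all hW S S' hNS
    have hHn : H.Normal := Subgroup.normalizer_eq_top_iff.mp hHtop
    -- the p-part of normalizers
    have hmH : (Nat.card ↥(Subgroup.normalizer (H : Set X))).factorization p =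
        (Nat.card X).factorization p := by
      rw [hHtop, Subgroup.card_top]
    have hScard : Nat.card (S : Subgroup X) = p ^ (Nat.card X).factorization p :=
      S.card_eq_multiplicity
    have key2 : ∀ L : Subgroup X, IsPGroup p L → H < L →
        (S : Subgroup X) ≤ Subgroup.normalizer (L : Set X) →
        PNilp p ↥(Subgroup.normalizer (L : Set X)) := by
      intro L hLp hHL hSL
      by_contra hcon
      have hLne : L ≠ ⊥ := by
        intro h0
        rw [h0] at hHL
        exact not_lt_bot hHL
      have hm : (Nat.card ↥(Subgroup.normalizer (L : Set X))).factorization p =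
          (Nat.card ↥(Subgroup.normalizer (H : Set X))).factorization p := by
        rw [hmH]
        apply le_antisymm
        · exact (Nat.factorization_le_iff_dvd (Nat.card_pos).ne' (Nat.card_pos).ne').mpr
            (Subgroup.card_subgroup_dvd_card _) p
        · have h1 : p ^ (Nat.card X).factorization p ∣
              Nat.card ↥(Subgroup.normalizer (L : Set X)) := by
            rw [← hScard]
            exact Subgroup.card_dvd_of_le hSL
          exact (Nat.Prime.pow_dvd_iff_le_factorization hpp (Nat.card_pos).ne').mp h1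
      have h1 := hmax2 L ⟨hLp, hLne, hcon⟩ hm
      exact hHL.ne (Subgroup.eq_of_le_of_card_ge hHL.le h1)
    -- Step E: `H = O_p(X)`
    have hHcore : H = Cfsg.pCore p X := by
      have h1 : H ≤ Cfsg.pCore p X := le_pCore p hHn hHp
      by_contra hne
      have hlt : H < Cfsg.pCore p X := lt_of_le_of_ne h1 hne
      have hnt : Subgroup.normalizer ((Cfsg.pCore p X : Subgroup X) : Set X) = ⊤ :=
        Subgroup.normalizer_eq_top_iff.mpr inferInstance
      have h2 := key2 (Cfsg.pCore p X) (pCore_isPGroup p) hlt (by rw [hnt]; exact le_top)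
      exact hX (pnilp_of_normalizer_eq_top hnt h2)
    subst hHcore
    have hHS : Cfsg.pCore p X ≤ (S : Subgroup X) := by
      have h1 : IsPGroup p ↥(Cfsg.pCore p X ⊔ (S : Subgroup X)) :=
        IsPGroup.to_sup_of_normal_left hHp S.2
      have h2 := S.3 h1 le_sup_right
      rw [← h2]
      exact le_sup_left
    -- Step F: the quotient by `O_p(X)` has a normal p-complement
    have hPNquot : PNilp p (X ⧸ Cfsg.pCore p X) := by
      obtain ⟨π, hπ⟩ : ∃ π : X →* X ⧸ Cfsg.pCore p X, π = QuotientGroup.mk' (Cfsg.pCore p X) :=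
        ⟨_, rfl⟩
      have hπs : Function.Surjective π := hπ ▸ QuotientGroup.mk'_surjective _
      have hπk : π.ker = Cfsg.pCore p X := hπ ▸ QuotientGroup.ker_mk' _
      obtain ⟨Sb, hSb⟩ : ∃ Sb : Sylow p (X ⧸ Cfsg.pCore p X),
          (Sb : Subgroup (X ⧸ Cfsg.pCore p X)) = (S : Subgroup X).map π :=
        ⟨S.mapSurjective hπs, rfl⟩
      by_cases hSbb : (Sb : Subgroup (X ⧸ Cfsg.pCore p X)) = ⊥
      · apply pnilp_of_not_dvd
        intro hdvd
        have h1 := Sb.card_eq_multiplicity
        rw [hSbb, Subgroup.card_bot] at h1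
        have h2 : 0 < (Nat.card (X ⧸ Cfsg.pCore p X)).factorization p :=
          Nat.Prime.factorization_pos_of_dvd hpp (Nat.card_pos).ne' hdvd
        have h3 : 1 < p ^ (Nat.card (X ⧸ Cfsg.pCore p X)).factorization p :=
          Nat.one_lt_pow h2.ne' hpp.one_lt
        omega
      · have hcard : Nat.card (X ⧸ Cfsg.pCore p X) ≤ n := by
          have := card_quotient_lt (Cfsg.pCore p X) hHne
          omega
        apply ih (X ⧸ Cfsg.pCore p X) (hCquot X hCX _) hcard Sb
        obtain ⟨Ub, hUb⟩ : ∃ Ub : Subgroup (X ⧸ Cfsg.pCore p X),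
            Ub = Cfsg.inducedFunctor W (Sb : Subgroup (X ⧸ Cfsg.pCore p X)) := ⟨_, rfl⟩
        rw [← hUb]
        have hLnorm : Subgroup.normalizer ((Ub.comap π : Subgroup X) : Set X) =
            (Subgroup.normalizer (Ub : Set (X ⧸ Cfsg.pCore p X))).comap π :=
          (Subgroup.comap_normalizer_eq_of_surjective Ub hπs).symm
        have hUbne : Ub ≠ ⊥ := by
          rw [hUb]
          exact inducedFunctor_ne_bot hW _ Sb.2 hSbb
        have hUbS : Ub ≤ (S : Subgroup X).map π := by
          rw [hUb, ← hSb]
          exact inducedFunctor_le _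
        have hHL : Cfsg.pCore p X < Ub.comap π := by
          refine lt_of_le_of_ne ?_ ?_
          · intro x hx
            rw [Subgroup.mem_comap]
            have : π x = 1 := by rw [← MonoidHom.mem_ker, hπk]; exact hx
            rw [this]
            exact Ub.one_mem
          · intro heq
            apply hUbne
            rw [eq_bot_iff]
            intro y hy
            obtain ⟨x, rfl⟩ := hπs y
            have hx : x ∈ Ub.comap π := hy
            rw [← heq, ← hπk, MonoidHom.mem_ker] at hx
            rw [Subgroup.mem_bot]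
            exact hx
        have hLS : Ub.comap π ≤ (S : Subgroup X) := by
          intro x hx
          have h1 : π x ∈ (S : Subgroup X).map π := hUbS hx
          obtain ⟨s, hs, hsx⟩ := h1
          have h2 : s⁻¹ * x ∈ Cfsg.pCore p X := by
            rw [← hπk, MonoidHom.mem_ker, map_mul, map_inv, hsx, inv_mul_cancel]
          have h3 : x = s * (s⁻¹ * x) := by group
          rw [h3]
          exact (S : Subgroup X).mul_mem hs (hHS h2)
        have hLp : IsPGroup p ↥(Ub.comap π) := S.2.to_le hLS
        have hSL : (S : Subgroup X) ≤ Subgroup.normalizer ((Ub.comap π : Subgroup X) : Set X) := by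
          rw [hLnorm]
          intro s hs
          rw [Subgroup.mem_comap, hUb]
          apply le_normalizer_inducedFunctor hW _ Sb.2
          apply Subgroup.le_normalizer
          rw [hSb]
          exact Subgroup.mem_map_of_mem _ hs
        have hPN := key2 _ hLp hHL hSL
        have hmapN : (Subgroup.normalizer ((Ub.comap π : Subgroup X) : Set X)).map π =
            Subgroup.normalizer (Ub : Set (X ⧸ Cfsg.pCore p X)) := by
          rw [hLnorm]
          exact Subgroup.map_comap_eq_self_of_surjective hπs _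
        rw [← hmapN]
        exact hPN.of_surjective (π.subgroupMap _) (MonoidHom.subgroupMap_surjective _ _)
    -- Step G: no nontrivial normal p'-subgroups
    have key3 : ∀ D : Subgroup X, D.Normal → (Nat.card D).Coprime p → D = ⊥ := by
      intro D hD hDcop
      by_contra hDne
      apply hX
      apply PNilp.of_quotient D hDcop
      have hcard : Nat.card (X ⧸ D) ≤ n := by
        have := card_quotient_lt D hDne
        omega
      obtain ⟨π, hπ⟩ : ∃ π : X →* X ⧸ D, π = QuotientGroup.mk' D := ⟨_, rfl⟩
      have hπs : Function.Surjective π := hπ ▸ QuotientGroup.mk'_surjective _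
      have hπk : π.ker = D := hπ ▸ QuotientGroup.ker_mk' _
      obtain ⟨Sb, hSb⟩ : ∃ Sb : Sylow p (X ⧸ D),
          (Sb : Subgroup (X ⧸ D)) = (S : Subgroup X).map π :=
        ⟨S.mapSurjective hπs, rfl⟩
      apply ih (X ⧸ D) (hCquot X hCX D) hcard Sb
      have hdisj : (S : Subgroup X) ⊓ D = ⊥ := by
        rw [← disjoint_iff]
        apply Subgroup.disjoint_of_coprime_natCard
        rw [hScard]
        exact Nat.Coprime.pow_left _ hDcop.symm
      have hinj : ∀ x ∈ (S : Subgroup X), π x = 1 → x = 1 := by
        intro x hx hx1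
        have h1 : x ∈ D := by rw [← hπk]; exact hx1
        have h2 : x ∈ (S : Subgroup X) ⊓ D := Subgroup.mem_inf.mpr ⟨hx, h1⟩
        rw [hdisj] at h2
        exact h2
      have h1 : Cfsg.inducedFunctor W (Sb : Subgroup (X ⧸ D)) =
          (Cfsg.inducedFunctor W (S : Subgroup X)).map π := by
        rw [hSb]
        exact inducedFunctor_map_of_injOn hW π (S : Subgroup X) S.2 hinj
      have hWp : IsPGroup p ↥(Cfsg.inducedFunctor W (S : Subgroup X)) :=
        S.2.to_le (inducedFunctor_le _)
      have h2 : (Subgroup.normalizer ((Cfsg.inducedFunctor W (S : Subgroup X) : Subgroup X) :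
          Set X)).map π = Subgroup.normalizer
          (((Cfsg.inducedFunctor W (S : Subgroup X)).map π : Subgroup (X ⧸ D)) : Set (X ⧸ D)) := by
        rw [hπ]
        exact Cfsg.Agent.Lib.Helper11.map_normalizer_eq_of_coprime p D hDcop _ hWp
      rw [h1, ← h2]
      exact hNS.of_surjective (π.subgroupMap _) (MonoidHom.subgroupMap_surjective _ _)
    -- Step H: C_X(O_p(X)) ≤ O_p(X)
    have hCle : Subgroup.centralizer ((Cfsg.pCore p X : Subgroup X) : Set X) ≤ Cfsg.pCore p X := by
      obtain ⟨Mb, hMbn, hMbcop, ⟨k, hMbidx⟩, hMbmem⟩ := hPNquot.exists_compl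
      obtain ⟨π, hπ⟩ : ∃ π : X →* X ⧸ Cfsg.pCore p X, π = QuotientGroup.mk' (Cfsg.pCore p X) :=
        ⟨_, rfl⟩
      have hπk : π.ker = Cfsg.pCore p X := hπ ▸ QuotientGroup.ker_mk' _
      obtain ⟨Cc, hCc⟩ : ∃ Cc : Subgroup X,
          Cc = Subgroup.centralizer ((Cfsg.pCore p X : Subgroup X) : Set X) := ⟨_, rfl⟩
      have hCcn : Cc.Normal := by rw [hCc]; infer_instance
      obtain ⟨E, hE⟩ : ∃ E : Subgroup X, E = Cc ⊓ Mb.comap π := ⟨_, rfl⟩
      have hEn : E.Normal := by
        rw [hE]
        have : (Mb.comap π).Normal := hMbn.comap π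
        infer_instance
      have hEC : E ≤ Cc := by rw [hE]; exact inf_le_left
      have hEK : E ≤ Mb.comap π := by rw [hE]; exact inf_le_right
      obtain ⟨PE⟩ : Nonempty (Sylow p ↥E) := inferInstance
      have hPEc : (PE : Subgroup ↥E) ≤ Subgroup.center ↥E := by
        intro x hx
        have hxH : (x : X) ∈ Cfsg.pCore p X := by
          rw [← hπk, MonoidHom.mem_ker]
          have h1 : π (x : X) ∈ Mb := hEK x.2
          obtain ⟨j, hj⟩ := PE.2 ⟨x, hx⟩
          have h2 : ((x : ↥E) : X) ^ p ^ j = 1 := by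
            have h2' : (x : ↥E) ^ p ^ j = 1 := congrArg Subtype.val hj
            have h2'' := congrArg Subtype.val h2'
            simpa using h2''
          have h3 : (π (x : X)) ^ p ^ j = 1 := by rw [← map_pow, h2, map_one]
          have h4 : orderOf (π (x : X)) ∣ p ^ j := orderOf_dvd_of_pow_eq_one h3
          have h5 : orderOf (π (x : X)) ∣ Nat.card Mb := by
            have := orderOf_dvd_natCard (⟨π (x : X), h1⟩ : ↥Mb)
            rwa [Subgroup.orderOf_mk] at this
          have h6 : orderOf (π (x : X)) ∣ Nat.gcd (p ^ j) (Nat.card Mb) := Nat.dvd_gcd h4 h5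
          have h7 : Nat.gcd (p ^ j) (Nat.card Mb) = 1 := Nat.Coprime.pow_left j hMbcop.symm
          rw [h7] at h6
          exact orderOf_eq_one_iff.mp (Nat.dvd_one.mp h6)
        rw [Subgroup.mem_center_iff]
        intro y
        have hy : (y : X) ∈ Cc := hEC y.2
        rw [hCc, Subgroup.mem_centralizer_iff] at hy
        have h8 := hy (x : X) hxH
        apply Subtype.ext
        exact h8.symm
      obtain ⟨ME, hMEn, hMEnd, hMEmem⟩ := exists_normal_compl_of_central_sylow PE hPEc
      have hMEcop : (Nat.card ME).Coprime p :=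
        ((Nat.Prime.coprime_iff_not_dvd hpp).mpr hMEnd).symm
      have hDn : (ME.map E.subtype).Normal := by
        constructor
        intro d hd g
        obtain ⟨d', hd', rfl⟩ := hd
        have hgE : g * (d' : X) * g⁻¹ ∈ E := hEn.conj_mem _ d'.2 g
        refine ⟨⟨g * (d' : X) * g⁻¹, hgE⟩, ?_, rfl⟩
        apply hMEmem
        have h1 : orderOf (⟨g * (d' : X) * g⁻¹, hgE⟩ : ↥E) = orderOf d' := by
          rw [← Subgroup.orderOf_coe, ← Subgroup.orderOf_coe d']
          exact (MulAut.conj g).orderOf_eq (d' : X)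
        rw [h1]
        have h2 : orderOf d' ∣ Nat.card ME := by
          have := orderOf_dvd_natCard (⟨d', hd'⟩ : ↥ME)
          rwa [Subgroup.orderOf_mk] at this
        exact Nat.Coprime.coprime_dvd_left h2 hMEcop
      have hDcop : (Nat.card ↥(ME.map E.subtype)).Coprime p := by
        rw [Subgroup.card_map_of_injective (Subgroup.subtype_injective _)]
        exact hMEcop
      have hD := key3 _ hDn hDcop
      have hME : ME = ⊥ := by
        rw [eq_bot_iff]
        intro x hx
        have h1 : (x : X) ∈ ME.map E.subtype := ⟨x, hx, rfl⟩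
        rw [hD, Subgroup.mem_bot] at h1
        rw [Subgroup.mem_bot]
        exact Subtype.ext h1
      have hEp : IsPGroup p ↥E := by
        have hcardE : Nat.card ↥E = p ^ (Nat.card ↥E).primeFactorsList.length := by
          apply Nat.eq_prime_pow_of_unique_prime_dvd (Nat.card_pos).ne'
          intro q hq hqd
          by_contra hqp
          have : Fact q.Prime := ⟨hq⟩
          obtain ⟨x, hx⟩ := exists_prime_orderOf_dvd_card' q hqd
          have hxM : x ∈ ME := hMEmem x (by rw [hx]; exact (Nat.coprime_primes hq hpp).mpr hqp)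
          rw [hME, Subgroup.mem_bot] at hxM
          rw [hxM, orderOf_one] at hx
          exact hq.one_lt.ne hx
        exact IsPGroup.of_card hcardE
      have hEH : E ≤ Cfsg.pCore p X := le_pCore p hEn hEp
      have hCp : IsPGroup p ↥Cc := by
        intro x
        have h1 : (π (x : X)) ^ (p ^ k) ∈ Mb := by
          rw [← hMbidx]
          exact Subgroup.pow_index_mem Mb _
        have h2 : (x : X) ^ (p ^ k) ∈ E := by
          rw [hE]
          refine Subgroup.mem_inf.mpr ⟨Cc.pow_mem x.2 _, ?_⟩
          rw [Subgroup.mem_comap, map_pow]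
          exact h1
        obtain ⟨j, hj⟩ := hHp ⟨(x : X) ^ (p ^ k), hEH h2⟩
        have h3 : ((x : X) ^ (p ^ k)) ^ (p ^ j) = 1 := congrArg Subtype.val hj
        refine ⟨k + j, ?_⟩
        apply Subtype.ext
        rw [pow_add, pow_mul]
        simpa using h3
      rw [← hCc]
      exact le_pCore p hCcn hCp
    -- Step I: `S` is a maximal subgroup
    have hStop : (S : Subgroup X) ≠ ⊤ := by
      intro h
      apply hX
      apply pnilp_of_isPGroup
      intro g
      obtain ⟨j, hj⟩ := S.2 ⟨g, by rw [h]; trivial⟩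
      exact ⟨j, congrArg Subtype.val hj⟩
    have hcoatom : IsCoatom (S : Subgroup X) := by
      refine ⟨hStop, fun M hSM => ?_⟩
      by_contra hMtop
      have hcardM : Nat.card ↥M ≤ n := by
        have := card_subgroup_lt M hMtop
        omega
      obtain ⟨SM, hSMd⟩ : ∃ SM : Sylow p ↥M,
          (SM : Subgroup ↥M) = (S : Subgroup X).subgroupOf M := ⟨S.subtype hSM.le, rfl⟩
      have hmapSM : (SM : Subgroup ↥M).map M.subtype = (S : Subgroup X) := by
        rw [hSMd]
        exact Subgroup.map_subgroupOf_eq_of_le hSM.le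
      have hPM : PNilp p ↥M := by
        apply ih ↥M (hCsub X hCX M) hcardM SM
        apply hemb
        rw [hmapSM]
        exact hNS
      obtain ⟨M0, hM0n, hM0cop, ⟨k, hM0idx⟩, hM0mem⟩ := hPM.exists_compl
      have hM0bot : M0 = ⊥ := by
        rw [eq_bot_iff]
        intro x hx
        have hxd : orderOf x ∣ Nat.card M0 := by
          have := orderOf_dvd_natCard (⟨x, hx⟩ : ↥M0)
          rwa [Subgroup.orderOf_mk] at this
        have hxord : (orderOf x).Coprime p := Nat.Coprime.coprime_dvd_left hxd hM0cop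
        have hpg : IsPGroup p ↥((Cfsg.pCore p X).subgroupOf M) := hHp.comap_subtype
        have hxc := hPM.centralizes ((Cfsg.pCore p X).subgroupOf M) hpg x hxord
        have hxC : (x : X) ∈ Subgroup.centralizer ((Cfsg.pCore p X : Subgroup X) : Set X) := by
          rw [Subgroup.mem_centralizer_iff]
          intro h hh
          have hhM : h ∈ M := hSM.le (hHS hh)
          have h1 := (Subgroup.mem_centralizer_iff.mp hxc) ⟨h, hhM⟩ (Subgroup.mem_subgroupOf.mpr hh)
          exact congrArg Subtype.val h1
        have hxH : (x : X) ∈ Cfsg.pCore p X := hCle hxC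
        obtain ⟨j, hj⟩ := hHp ⟨(x : X), hxH⟩
        have h1 : (x : X) ^ (p ^ j) = 1 := congrArg Subtype.val hj
        have h2 : orderOf (x : X) ∣ p ^ j := orderOf_dvd_of_pow_eq_one h1
        rw [Subgroup.orderOf_coe] at h2
        have h3 : orderOf x = 1 := Nat.Coprime.eq_one_of_dvd (Nat.Coprime.pow_right j hxord) h2
        rw [Subgroup.mem_bot]
        exact orderOf_eq_one_iff.mp h3
      have hMp : IsPGroup p ↥M := by
        rw [hM0bot, Subgroup.index_bot] at hM0idx
        exact IsPGroup.of_card hM0idx
      exact hSM.ne' (S.3 hMp hSM.le)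
    -- Step J
    have hG := hGood X hCX hCle (pnilp_iff.mp hPNquot) S hcoatom
    exact hX (pnilp_of_normalizer_eq_top (Subgroup.normalizer_eq_top_iff.mpr hG) hNS)

/-- Thompson's normal p-complement criterion in functor form. Let p be a prime, G a finite group with Sylow p-subgroup S, and W an isomorphism-invariant p-group functor (W assigns to every group Q a subgroup W(Q), nontrivial whenever Q is a nontrivial finite p-group, and every isomorphism from a finite p-group Q onto a group R carries W(Q) onto W(R)). Suppose N_G(W(S)) has a normal p-complement, and that W(S*) is normal in G* whenever G* = K/R is a section of G with C_{G*}(O_p(G*)) ≤ O_p(G*) such that G*/O_p(G*) has a normal p-complement, and S* is a Sylow p-subgroup of G* that is a maximal subgroup of G*. Then G has a normal p-complement. -/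
theorem result {G : Type u} [Group G] [Finite G] {p : ℕ} [Fact p.Prime] (W : ∀ (Q : Type u) [Group Q], Subgroup Q) (hW : Cfsg.IsCharPFunctor.{u} p W) (S : Sylow p G) (hN : Cfsg.HasNormalPComplement p ↥(Subgroup.normalizer ((Cfsg.inducedFunctor (G := G) W (S : Subgroup G) : Subgroup G) : Set G))) (hloc : ∀ (K R : Subgroup G) [hR : (R.subgroupOf K).Normal], Subgroup.centralizer ((Cfsg.pCore p (↥K ⧸ R.subgroupOf K) : Subgroup (↥K ⧸ R.subgroupOf K)) : Set (↥K ⧸ R.subgroupOf K)) ≤ Cfsg.pCore p (↥K ⧸ R.subgroupOf K) → Cfsg.HasNormalPComplement p ((↥K ⧸ R.subgroupOf K) ⧸ Cfsg.pCore p (↥K ⧸ R.subgroupOf K)) → ∀ T : Sylow p (↥K ⧸ R.subgroupOf K), IsCoatom (T : Subgroup (↥K ⧸ R.subgroupOf K)) → (Cfsg.inducedFunctor (G := (↥K ⧸ R.subgroupOf K)) W ((T : Subgroup (↥K ⧸ R.subgroupOf K)))).Normal) : Cfsg.HasNormalPComplement p G := by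
  have hGood : ∀ (X : Type u) [Group X] [Finite X], IsSection G X → Good p W X := by
    intro X _ _ hX
    obtain ⟨K, R, hR, ⟨e⟩⟩ := hX
    exact good_of_equiv hW e.symm (hloc K R)
  have h := main W hW (fun X _ => IsSection G X) (fun X _ h L => h.subgroup L)
    (fun X _ h M _ => h.quotient M) hGood (Nat.card G) G (isSection_self G) le_rfl S
    (pnilp_iff.mpr hN)
  exact pnilp_iff.mp h

end Cfsg.Agent.S2005
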