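import Cfsg.Statements.S3079
import Mathlib
import Cfsg.Agent.Lib.Helper6.ZJFam
import Cfsg.Agent.Lib.Helper1.Cores
import Cfsg.Agent.Lib.Helper2.ZJeFunctor

set_option autoImplicit false
open Cfsg

namespace Cfsg.Agent.S3079

open Cfsg.Agent.Lib Cfsg.Agent.Lib.Helper6
open scoped commutatorElement

universe u

section zjD

variable {G : Type u} [Group G]

/-- The abstract ZJ-theorem relative to a subgroup `D`: only normal `p`-subgroups inside `D`
are considered. -/
theorem zjD_inf_normal [Finite G] {p : ℕ} [Fact p.Prime] (D : Subgroup G)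
    (F : Subgroup G → Set (Subgroup G))
    (hFcomm : ∀ P A, A ∈ F P → IsMulCommutative A)
    (hFle : ∀ P A, A ∈ F P → A ≤ P)
    (hFconj : ∀ P A (g : G), A ∈ F P → g ∈ Subgroup.normalizer (P : Set G) →
      A.map (MulAut.conj g).toMonoidHom ∈ F P)
    (hFmono : ∀ P P₁ A, P₁ ≤ P → A ∈ F P → A ≤ P₁ → A ∈ F P₁ ∧ F P₁ ⊆ F P)
    (hFrepl : ∀ P B : Subgroup G, IsPGroup p P → B.Normal → B ≤ P → B ≤ D → ∀ A ∈ F P, ⁅B, B⁆ ≤ A →
      ¬ B ≤ A → ∃ A' ∈ F P, ¬ B ≤ A' ∧ B ≤ Subgroup.normalizer (A' : Set G))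
    (hst : ∀ (V : Subgroup G) [V.Normal], IsPGroup p V → ∀ a : G,
      IsPGroup p (Subgroup.zpowers a) → ⁅⁅V, Subgroup.zpowers a⁆, Subgroup.zpowers a⁆ = ⊥ →
      (QuotientGroup.mk a : G ⧸ Subgroup.centralizer (V : Set G)) ∈
        pCore p (G ⧸ Subgroup.centralizer (V : Set G)))
    (P : Sylow p G) :
    ∀ (n : ℕ) (B : Subgroup G), B.Normal → IsPGroup p B → B ≤ D → Nat.card B ≤ n →
      (sInf (F (P : Subgroup G)) ⊓ B).Normal := by
  intro n
  induction n with
  | zero =>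
    intro B _ _ _ hcard
    have := Nat.card_pos (α := B)
    omega
  | succ n ih =>
    intro B hBn hB hBD hcard
    obtain ⟨W, hW⟩ : ∃ W, W = sInf (F (P : Subgroup G)) := ⟨_, rfl⟩
    rw [← hW] at ih ⊢
    have hBP : B ≤ P := hB.le_sylow_of_normal P
    have hPW : ∀ x ∈ (P : Subgroup G), ∀ w ∈ W, x * w * x⁻¹ ∈ W := by
      intro x hx w hw
      rw [hW] at hw ⊢
      exact sInf_conj_mem F hFconj P x (Subgroup.le_normalizer hx) w hw
    by_cases hBW : B ≤ W
    · rw [inf_eq_right.mpr hBW]; exact hBn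
    have hB₁le : Subgroup.normalClosure ((W ⊓ B : Subgroup G) : Set G) ≤ B :=
      Subgroup.normalClosure_le_normal inf_le_right
    by_cases hB₁ : Subgroup.normalClosure ((W ⊓ B : Subgroup G) : Set G) = B
    swap
    · have hlt : Subgroup.normalClosure ((W ⊓ B : Subgroup G) : Set G) < B :=
        lt_of_le_of_ne hB₁le hB₁
      have hc := card_lt_card_of_lt_sub hlt
      have h1 := ih _ Subgroup.normalClosure_normal (hB.to_le hB₁le) (hB₁le.trans hBD) (by omega)
      have e : W ⊓ B = W ⊓ Subgroup.normalClosure ((W ⊓ B : Subgroup G) : Set G) :=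
        le_antisymm (le_inf inf_le_left Subgroup.le_normalClosure) (inf_le_inf_left W hB₁le)
      rw [e]; exact h1
    -- the main case
    exfalso
    have hBne : B ≠ ⊥ := by rintro rfl; exact hBW bot_le
    have hB'lt : ⁅B, B⁆ < B :=
      Helper1.commutator_lt_of_pgroups hB hB Subgroup.le_normalizer hBne
    have hB'n : (⁅B, B⁆).Normal := Subgroup.commutator_normal B B
    have hYn : (W ⊓ ⁅B, B⁆).Normal := by
      have hc := card_lt_card_of_lt_sub hB'lt
      exact ih _ hB'n (hB.to_le hB'lt.le) (hB'lt.le.trans hBD) (by omega)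
    have hB'W : ⁅B, B⁆ ≤ W := by
      have h1 : ⁅Subgroup.normalClosure ((W ⊓ B : Subgroup G) : Set G), B⁆ ≤ W ⊓ ⁅B, B⁆ := by
        apply commutator_normalClosure_le
        intro z hz x hx
        obtain ⟨hzW, hzB⟩ := Subgroup.mem_inf.mp hz
        refine Subgroup.mem_inf.mpr ⟨?_, Subgroup.commutator_mem_commutator hzB hx⟩
        have e : ⁅z, x⁆ = z * (x * z⁻¹ * x⁻¹) := by
          simp only [commutatorElement_def]; group
        rw [e]
        exact W.mul_mem hzW (hPW x (hBP hx) _ (W.inv_mem hzW))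
      rw [hB₁] at h1
      exact h1.trans inf_le_left
    -- a member of the family not containing B
    obtain ⟨A₀, hA₀F, hBA₀⟩ : ∃ A₀ ∈ F (P : Subgroup G), ¬ B ≤ A₀ := by
      by_contra hcon
      push Not at hcon
      apply hBW
      rw [hW]
      exact le_sInf hcon
    have hWA₀ : W ≤ A₀ := hW ▸ sInf_le hA₀F
    obtain ⟨A, hAF, hBA, hBNA⟩ :=
      hFrepl P B P.isPGroup' hBn hBP hBD A₀ hA₀F (hB'W.trans hWA₀) hBA₀
    have hA := hFcomm _ A hAF
    have hAP : A ≤ P := hFle _ A hAF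
    have hquad : ⁅⁅B, A⁆, A⁆ = ⊥ := by
      rw [Subgroup.commutator_eq_bot_iff_le_centralizer]
      have h1 : ⁅B, A⁆ ≤ A := Helper18.commutator_le_of_le_normalizer hBNA
      intro w hw
      show w ∈ Subgroup.centralizer _
      rw [Subgroup.mem_centralizer_iff]
      intro a ha
      exact setLike_mul_comm ha (h1 hw)
    -- p-stability
    obtain ⟨C, hC⟩ : ∃ C, C = Subgroup.centralizer (B : Set G) := ⟨_, rfl⟩
    have hCn : C.Normal := by rw [hC]; infer_instance
    have hstB : ∀ a ∈ A, (QuotientGroup.mk a : G ⧸ C) ∈ pCore p (G ⧸ C) := by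
      intro a ha
      subst hC
      apply hst B hB a
      · exact P.isPGroup'.to_le ((Subgroup.zpowers_le.mpr ha).trans hAP)
      · have hz : Subgroup.zpowers a ≤ A := Subgroup.zpowers_le.mpr ha
        exact eq_bot_iff.mpr ((Subgroup.commutator_mono (Subgroup.commutator_mono le_rfl hz) hz).trans
          (le_of_eq hquad))
    obtain ⟨L, hL⟩ : ∃ L, L = (pCore p (G ⧸ C)).comap (QuotientGroup.mk' C) := ⟨_, rfl⟩
    have hLn : L.Normal := by rw [hL]; infer_instance
    have hCL : C ≤ L := by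
      intro c hc
      rw [hL, Subgroup.mem_comap]
      have : QuotientGroup.mk' C c = 1 := (QuotientGroup.eq_one_iff c).mpr hc
      rw [this]; exact Subgroup.one_mem _
    have hAL : A ≤ L := by
      intro a ha
      rw [hL, Subgroup.mem_comap]
      exact hstB a ha
    obtain ⟨P₁, hP₁⟩ : ∃ P₁, P₁ = (P : Subgroup G) ⊓ L := ⟨_, rfl⟩
    have hAP₁ : A ≤ P₁ := hP₁ ▸ le_inf hAP hAL
    have hLle : L ≤ P₁ ⊔ C := by
      intro l hl
      have h1 : QuotientGroup.mk' C l ∈ pCore p (G ⧸ C) := by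
        rw [hL] at hl; exact hl
      have hsurj : Function.Surjective (QuotientGroup.mk' C) := QuotientGroup.mk'_surjective C
      have h2 := Helper18.pCore_le_sylow (P.mapSurjective hsurj) h1
      rw [← SetLike.mem_coe, Sylow.coe_mapSurjective] at h2
      obtain ⟨x, hx, hxl⟩ := h2
      have h3 : x⁻¹ * l ∈ C := QuotientGroup.eq.mp hxl
      have hxL : x ∈ L := by
        have e : x = l * (x⁻¹ * l)⁻¹ := by group
        rw [e]; exact L.mul_mem hl (L.inv_mem (hCL h3))
      have e : l = x * (x⁻¹ * l) := by group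
      rw [e]
      exact Subgroup.mul_mem_sup (hP₁ ▸ Subgroup.mem_inf.mpr ⟨hx, hxL⟩) h3
    have htop : C ⊔ Subgroup.normalizer (P₁ : Set G) = ⊤ := by
      have h1 := frattini_inf_normal P L
      rw [← hP₁] at h1
      rw [eq_top_iff, ← h1]
      apply sup_le _ le_sup_right
      exact hLle.trans (sup_le (Subgroup.le_normalizer.trans le_sup_right) le_sup_left)
    obtain ⟨hAF₁, hsub⟩ := hFmono (P : Subgroup G) P₁ A (hP₁ ▸ inf_le_left) hAF hAP₁
    obtain ⟨W₁, hW₁⟩ : ∃ W₁, W₁ = sInf (F P₁) := ⟨_, rfl⟩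
    have hWW₁ : W ≤ W₁ := by
      rw [hW, hW₁]
      exact sInf_le_sInf hsub
    have hnorm : (W₁ ⊓ B).Normal := by
      rw [← Subgroup.normalizer_eq_top_iff, eq_top_iff, ← htop]
      apply sup_le
      · intro c hc
        apply mem_normalizer_of_conj_mem_sub C _ _ hc
        intro c hc w hw
        have hwB := (Subgroup.mem_inf.mp hw).2
        rw [hC] at hc
        have h1 := Subgroup.mem_centralizer_iff.mp hc w hwB
        rw [← h1, mul_inv_cancel_right]
        exact hw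
      · intro g hg
        apply mem_normalizer_of_conj_mem_sub (Subgroup.normalizer (P₁ : Set G)) _ _ hg
        intro g hg w hw
        obtain ⟨hw1, hwB⟩ := Subgroup.mem_inf.mp hw
        refine Subgroup.mem_inf.mpr ⟨?_, hBn.conj_mem w hwB g⟩
        rw [hW₁] at hw1 ⊢
        exact sInf_conj_mem F hFconj P₁ g hg w hw1
    have hBle : B ≤ W₁ ⊓ B := by
      calc B = Subgroup.normalClosure ((W ⊓ B : Subgroup G) : Set G) := hB₁.symm
        _ ≤ W₁ ⊓ B := Subgroup.normalClosure_le_normal (inf_le_inf_right B hWW₁)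
    exact hBA ((hBle.trans inf_le_left).trans (hW₁ ▸ sInf_le hAF₁))

/-- Under `C_G(O_p(G)) ≤ O_p(G)`, the intersection of the family is normal in `G`. -/
theorem zjD_normal [Finite G] {p : ℕ} [Fact p.Prime] (D : Subgroup G)
    (F : Subgroup G → Set (Subgroup G))
    (hFcomm : ∀ P A, A ∈ F P → IsMulCommutative A)
    (hFle : ∀ P A, A ∈ F P → A ≤ P)
    (hFconj : ∀ P A (g : G), A ∈ F P → g ∈ Subgroup.normalizer (P : Set G) →
      A.map (MulAut.conj g).toMonoidHom ∈ F P)
    (hFmono : ∀ P P₁ A, P₁ ≤ P → A ∈ F P → A ≤ P₁ → A ∈ F P₁ ∧ F P₁ ⊆ F P)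
    (hFrepl : ∀ P B : Subgroup G, IsPGroup p P → B.Normal → B ≤ P → B ≤ D → ∀ A ∈ F P, ⁅B, B⁆ ≤ A →
      ¬ B ≤ A → ∃ A' ∈ F P, ¬ B ≤ A' ∧ B ≤ Subgroup.normalizer (A' : Set G))
    (hst : ∀ (V : Subgroup G) [V.Normal], IsPGroup p V → ∀ a : G,
      IsPGroup p (Subgroup.zpowers a) → ⁅⁅V, Subgroup.zpowers a⁆, Subgroup.zpowers a⁆ = ⊥ →
      (QuotientGroup.mk a : G ⧸ Subgroup.centralizer (V : Set G)) ∈
        pCore p (G ⧸ Subgroup.centralizer (V : Set G)))
    (hc : Subgroup.centralizer (pCore p G : Set G) ≤ pCore p G)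
    (P : Sylow p G) (hne : (F (P : Subgroup G)).Nonempty)
    (hDn : ∀ B : Subgroup G, B.Normal → IsPGroup p B → (B ⊓ D).Normal)
    (hFD : ∀ A ∈ F (P : Subgroup G), A ≤ D) :
    (sInf (F (P : Subgroup G))).Normal := by
  obtain ⟨W, hW⟩ : ∃ W, W = sInf (F (P : Subgroup G)) := ⟨_, rfl⟩
  rw [← hW]
  obtain ⟨A, hAF⟩ := hne
  have hA := hFcomm _ A hAF
  have hWA : W ≤ A := hW ▸ sInf_le hAF
  have hWP : W ≤ P := hWA.trans (hFle _ A hAF)
  have hWD : W ≤ D := hWA.trans (hFD A hAF)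
  have hPW : ∀ x ∈ (P : Subgroup G), ∀ w ∈ W, x * w * x⁻¹ ∈ W := by
    intro x hx w hw
    rw [hW] at hw ⊢
    exact sInf_conj_mem F hFconj P x (Subgroup.le_normalizer hx) w hw
  obtain ⟨Q, hQ⟩ : ∃ Q, Q = pCore p G := ⟨_, rfl⟩
  have hQn : Q.Normal := by rw [hQ]; infer_instance
  have hQp : IsPGroup p Q := hQ ▸ Helper18.pCore_isPGroup p G
  have hQP : Q ≤ P := hQp.le_sylow_of_normal P
  rw [← hQ] at hc
  have hWQ : W ≤ Q := by
    intro a ha
    have hz : Subgroup.zpowers a ≤ W := Subgroup.zpowers_le.mpr ha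
    have h1 : ⁅Q, Subgroup.zpowers a⁆ ≤ W := by
      rw [Subgroup.commutator_le]
      intro q hq z hz'
      have e : ⁅q, z⁆ = (q * z * q⁻¹) * z⁻¹ := by
        simp only [commutatorElement_def]
      rw [e]
      exact W.mul_mem (hPW q (hQP hq) z (hz hz')) (W.inv_mem (hz hz'))
    have hquad : ⁅⁅Q, Subgroup.zpowers a⁆, Subgroup.zpowers a⁆ = ⊥ := by
      rw [Subgroup.commutator_eq_bot_iff_le_centralizer]
      intro w hw
      show w ∈ Subgroup.centralizer _
      rw [Subgroup.mem_centralizer_iff]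
      intro z hz'
      exact setLike_mul_comm (hWA (hz hz')) (hWA (h1 hw))
    have h2 := hst Q hQp a (P.isPGroup'.to_le (hz.trans hWP)) hquad
    have hLn : ((pCore p (G ⧸ Subgroup.centralizer (Q : Set G))).comap
        (QuotientGroup.mk' (Subgroup.centralizer (Q : Set G)))).Normal := inferInstance
    have hLp : IsPGroup p ((pCore p (G ⧸ Subgroup.centralizer (Q : Set G))).comap
        (QuotientGroup.mk' (Subgroup.centralizer (Q : Set G)))) := by
      apply IsPGroup.comap_of_ker_isPGroup (Helper18.pCore_isPGroup p _)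
      rw [QuotientGroup.ker_mk']
      exact hQp.to_le hc
    have h3 := Helper18.le_pCore hLn hLp
    rw [← hQ] at h3
    exact h3 (Subgroup.mem_comap.mpr h2)
  have hQDn : (Q ⊓ D).Normal := hDn Q hQn hQp
  have h := zjD_inf_normal D F hFcomm hFle hFconj hFmono hFrepl hst P (Nat.card ↥(Q ⊓ D))
    (Q ⊓ D) hQDn (hQp.to_le inf_le_left) inf_le_right le_rfl
  rw [← hW, inf_eq_left.mpr (le_inf hWQ hWD)] at h
  exact h

/-- Normalizer `p`-stability gives `p`-stability on normal `p`-subgroups. -/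
theorem pCore_transfer [Finite G] {p : ℕ} [Fact p.Prime] (N C : Subgroup G) [hCn : C.Normal]
    [hCN : (C.subgroupOf N).Normal] (hN : N = ⊤) (a : G) (ha : a ∈ N)
    (h : (QuotientGroup.mk (s := C.subgroupOf N) (⟨a, ha⟩ : ↥N)) ∈
      pCore p (↥N ⧸ C.subgroupOf N)) :
    (QuotientGroup.mk a : G ⧸ C) ∈ pCore p (G ⧸ C) := by
  let f : ↥N ⧸ C.subgroupOf N →* G ⧸ C :=
    QuotientGroup.map (C.subgroupOf N) C N.subtype (fun x hx => hx)
  have hf : Function.Surjective f := by
    intro y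
    obtain ⟨g, rfl⟩ := QuotientGroup.mk_surjective y
    exact ⟨QuotientGroup.mk ⟨g, by rw [hN]; trivial⟩, rfl⟩
  have h2 : (pCore p (↥N ⧸ C.subgroupOf N)).map f ≤ pCore p (G ⧸ C) :=
    Helper1.le_pCore p ((Helper1.pCore_normal p).map f hf) ((Helper1.pCore_isPGroup p).map f)
  exact h2 ⟨_, h, rfl⟩

theorem hst_of_nps [Finite G] {p : ℕ} [Fact p.Prime] (hst : Cfsg.IsNormalizerPStable p G)
    (V : Subgroup G) [hVn : V.Normal] (hV : IsPGroup p V) (a : G)
    (hq : ⁅⁅V, Subgroup.zpowers a⁆, Subgroup.zpowers a⁆ = ⊥) :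
    (QuotientGroup.mk a : G ⧸ Subgroup.centralizer (V : Set G)) ∈
      pCore p (G ⧸ Subgroup.centralizer (V : Set G)) := by
  have hN : Subgroup.normalizer (V : Set G) = ⊤ := Subgroup.normalizer_eq_top_iff.mpr hVn
  have ha : a ∈ Subgroup.normalizer (V : Set G) := by rw [hN]; trivial
  exact pCore_transfer _ _ hN a ha (hst V hV a ha hq)

theorem omegaOne_map_subtype (p : ℕ) (D : Subgroup G) (K : Subgroup ↥D) :
    Cfsg.omegaOne p (K.map D.subtype) = (Cfsg.omegaOne p K).map D.subtype := by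
  unfold Cfsg.omegaOne
  rw [MonoidHom.map_closure]
  congr 1
  ext x
  constructor
  · rintro ⟨⟨y, hy, rfl⟩, hx⟩
    refine ⟨y, ⟨hy, ?_⟩, rfl⟩
    apply Subtype.ext
    simpa using hx
  · rintro ⟨y, ⟨hy, hyp⟩, rfl⟩
    refine ⟨⟨y, hy, rfl⟩, ?_⟩
    simpa using congrArg Subtype.val hyp

/-- The main statement for the families `famX e (· ⊓ D)`. -/
theorem sInf_famX_normal [Finite G] {p : ℕ} [Fact p.Prime] (hp : p ≠ 2) (P : Sylow p G)
    (D : Subgroup G) (hD : Cfsg.IsStronglyClosed D (P : Subgroup G))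
    (hst : Cfsg.IsNormalizerPStable p G)
    (hc : Subgroup.centralizer ((Cfsg.pCore p G : Subgroup G) : Set G) ≤ Cfsg.pCore p G)
    (e : ℕ) : (sInf (famX e D)).Normal := by
  obtain ⟨F, hF⟩ : ∃ F : Subgroup G → Set (Subgroup G),
      F = fun R => {A | R ≤ (P : Subgroup G) ∧ A ∈ famX e (R ⊓ D)} := ⟨_, rfl⟩
  have hPD : (P : Subgroup G) ⊓ D = D := inf_eq_right.mpr hD.1
  have hFP : F (P : Subgroup G) = famX e D := by
    rw [hF]
    ext A
    show (P : Subgroup G) ≤ P ∧ A ∈ famX e ((P : Subgroup G) ⊓ D) ↔ A ∈ famX e D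
    rw [hPD]
    exact ⟨fun h => h.2, fun h => ⟨le_rfl, h⟩⟩
  rw [← hFP]
  apply zjD_normal D F
  · intro R A h
    rw [hF] at h
    exact famX_comm e _ A h.2
  · intro R A h
    rw [hF] at h
    exact (famX_le e _ A h.2).trans inf_le_left
  · intro R A g h hg
    rw [hF] at h ⊢
    refine ⟨h.1, ?_⟩
    have h1 := famX_aut e (MulAut.conj g) (R ⊓ D) A h.2
    have hg' : g ∈ Subgroup.normalizer ((R ⊓ D : Subgroup G) : Set G) := by
      apply mem_normalizer_of_conj_mem_sub (Subgroup.normalizer (R : Set G)) _ _ hg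
      intro a ha x hx
      obtain ⟨hxR, hxD⟩ := Subgroup.mem_inf.mp hx
      have h2 : a * x * a⁻¹ ∈ R := (Subgroup.mem_normalizer_iff.mp ha x).mp hxR
      exact Subgroup.mem_inf.mpr ⟨h2, hD.2 x hxD a (h.1 h2)⟩
    rw [Helper18.map_conj_eq_of_mem_normalizer (R ⊓ D) hg'] at h1
    exact h1
  · intro R R₁ A hle h hA
    rw [hF] at h ⊢
    have hAD : A ≤ D := (famX_le e _ A h.2).trans inf_le_right
    obtain ⟨h1, h2⟩ := famX_mono e (R ⊓ D) (R₁ ⊓ D) A (inf_le_inf_right D hle) h.2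
      (le_inf hA hAD)
    exact ⟨⟨hle.trans h.1, h1⟩, fun A' hA' => ⟨h.1, h2 hA'.2⟩⟩
  · intro R B hR hBn hBR hBD A hA hBA hnot
    rw [hF] at hA ⊢
    obtain ⟨A', hA', h1, h2⟩ := famX_repl hp e (R ⊓ D) B (hR.to_le inf_le_left) hBn
      (le_inf hBR hBD) A hA.2 hBA hnot
    exact ⟨A', ⟨hA.1, hA'⟩, h1, h2⟩
  · intro V _ hV a _ hq
    exact hst_of_nps hst V hV a hq
  · exact hc
  · rw [hFP]
    exact famX_nonempty e D
  · intro B hBn hB
    refine ⟨fun x hx g => ?_⟩
    obtain ⟨hxB, hxD⟩ := Subgroup.mem_inf.mp hx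
    have h1 : g * x * g⁻¹ ∈ B := hBn.conj_mem x hxB g
    have hBP : B ≤ P := hB.le_sylow_of_normal P
    exact Subgroup.mem_inf.mpr ⟨h1, hD.2 x hxD g (hBP h1)⟩
  · intro A hA
    rw [hFP] at hA
    exact famX_le e D A hA

end zjD

/-- Glauberman's ZJ-Theorem for strongly closed subgroups, p odd. Let G be a finite group that is p-stable in the normalizer form (for every p-subgroup U and g ∈ N_G(U) with [U, g, g] = 1, the image of g lies in O_p(N_G(U)/C_G(U))), with C_G(O_p(G)) ≤ O_p(G), let P be a Sylow p-subgroup and D a subgroup of P strongly closed in P with respect to G. Then Z(J(D)) is normal in G, where J(D) is generated by the abelian subgroups of D of largest order; and so is Ω₁(Z(J_e(D))), where J_e(D) is generated by the elementary abelian subgroups of D of largest order. -/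
theorem result {G : Type*} [Group G] [Finite G] {p : ℕ} [Fact p.Prime] (hp : p ≠ 2) (P : Sylow p G) (D : Subgroup G) (hD : Cfsg.IsStronglyClosed D (P : Subgroup G)) (hst : Cfsg.IsNormalizerPStable p G) (hc : Subgroup.centralizer ((Cfsg.pCore p G : Subgroup G) : Set G) ≤ Cfsg.pCore p G) : (Cfsg.centerThompsonAOf D).Normal ∧ (Cfsg.omegaOne p (Cfsg.centerThompsonOf p D)).Normal := by
  constructor
  · rw [← Cfsg.Agent.Lib.Helper6.sInf_famX_zero]
    exact sInf_famX_normal hp P D hD hst hc 0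
  · have h1 : Cfsg.omegaOne p (Cfsg.centerThompsonOf p D) =
        sInf (Cfsg.Agent.Lib.Helper6.famX p D) := by
      rw [← Cfsg.Agent.Lib.Helper2.inducedFunctor_zjFun']
      unfold Cfsg.inducedFunctor
      rw [omegaOne_map_subtype, ← Cfsg.Agent.Lib.Helper6.map_sInf_famX_top,
        ← Cfsg.Agent.Lib.Helper6.omegaCenterThompson_eq_sInf]
      rfl
    rw [h1]
    exact sInf_famX_normal hp P D hD hst hc p

end Cfsg.Agent.S3079
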