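import Cfsg.Statements.S0249
import Mathlib
import Cfsg.Agent.Lib.Helper3.SLn

set_option autoImplicit false
open Cfsg

namespace Cfsg.Agent.S0249

/-- PSL_n(F) is simple for n at least 3, over any field F. -/
theorem result {F : Type*} [Field F] (n : ℕ) (hn : 3 ≤ n) : IsSimpleGroup (Matrix.ProjectiveSpecialLinearGroup (Fin n) F) := by
  classical
  have hcard : 3 ≤ Fintype.card (Fin n) := by simpa using hn
  haveI : Nontrivial (Fin n) := by
    rw [← Fintype.one_lt_card_iff_nontrivial]
    omega
  have hperf : commutator (Matrix.ProjectiveSpecialLinearGroup (Fin n) F) = ⊤ := by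
    have h1 : Group.IsPerfect (Matrix.SpecialLinearGroup (Fin n) F) :=
      ⟨Cfsg.Agent.Lib.Helper3.sl_commutator_eq_top hcard⟩
    have h2 : Group.IsPerfect (Matrix.ProjectiveSpecialLinearGroup (Fin n) F) := inferInstance
    exact h2.commutator_eq_top
  have hgen : (⨆ p : Projectivization F (Fin n → F), Matrix.SpecialLinearGroup.lineStab p.submodule) = (⊤ : Subgroup (Matrix.SpecialLinearGroup (Fin n) F)) := by
    refine le_antisymm le_top (fun M _ => Cfsg.Agent.Lib.Helper3.sl_transvection_induction _ (fun i j hij a => ?_) (fun _ _ => mul_mem) M)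
    have h1 := SL2Gen.transvection_mem_lineStab (F := F) hij a
    rw [← Projectivization.submodule_mk (K := F) _ (Pi.single_ne_zero_iff.2 one_ne_zero)] at h1
    exact Subgroup.mem_iSup_of_mem _ h1
  let Iw : MulAction.IwasawaStructure (Matrix.ProjectiveSpecialLinearGroup (Fin n) F) (Projectivization F (Fin n → F)) :=
    { T := PSL.iwasawaT
      is_comm := fun p => by
        have hSL : IsMulCommutative (Matrix.SpecialLinearGroup.lineStab (F := F) (ι := Fin n) p.submodule) := by
          rw [← Projectivization.mk_rep p, Projectivization.submodule_mk]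
          exact Matrix.SpecialLinearGroup.lineStab_isMulCommutative_of_span p.rep p.rep_nonzero
        exact Subgroup.map_isMulCommutative _ _
      is_conj := fun g p => by
        obtain ⟨g_SL, rfl⟩ := QuotientGroup.mk_surjective g
        rw [Matrix.ProjectiveSpecialLinearGroup.smul_proj_mk]
        change Subgroup.map _ _ = _
        rw [PSL.smul_submodule, Matrix.SpecialLinearGroup.lineStab_smul, PSL.iwasawaT_map_conj]
      is_generator := by
        have step1 : iSup (PSL.iwasawaT (F := F) (ι := Fin n)) =
            Subgroup.map (QuotientGroup.mk' (Subgroup.center (Matrix.SpecialLinearGroup (Fin n) F)))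
              (⨆ p : Projectivization F (Fin n → F),
                Matrix.SpecialLinearGroup.lineStab (F := F) (ι := Fin n) p.submodule) := by
          rw [Subgroup.map_iSup]
        rw [step1, hgen]
        exact Subgroup.map_top_of_surjective _ (QuotientGroup.mk'_surjective _) }
  exact MulAction.IwasawaStructure.isSimpleGroup hperf Iw inferInstance

end Cfsg.Agent.S0249
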