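import Cfsg.Statements.S2762
import Mathlib
import Cfsg.Agent.Lib.Helper1.Cores

set_option autoImplicit false
open Cfsg

namespace Cfsg.Agent.S2762

section Aff

variable {F : Type*} [Field F]

theorem row_mul (M N : Matrix.SpecialLinearGroup (Fin 3) F)
    (h0 : (M : Matrix (Fin 3) (Fin 3) F) 2 0 = 0)
    (h1 : (M : Matrix (Fin 3) (Fin 3) F) 2 1 = 0)
    (h2 : (M : Matrix (Fin 3) (Fin 3) F) 2 2 = 1) (j : Fin 3) :
    ((M * N : Matrix.SpecialLinearGroup (Fin 3) F) : Matrix (Fin 3) (Fin 3) F) 2 j =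
      (N : Matrix (Fin 3) (Fin 3) F) 2 j := by
  rw [Matrix.SpecialLinearGroup.coe_mul, Matrix.mul_apply, Fin.sum_univ_three, h0, h1, h2]
  ring

/-- The affine group as a subgroup. -/
def aff (F : Type*) [Field F] : Subgroup (Matrix.SpecialLinearGroup (Fin 3) F) where
  carrier := {M | (M : Matrix (Fin 3) (Fin 3) F) 2 0 = 0 ∧
    (M : Matrix (Fin 3) (Fin 3) F) 2 1 = 0 ∧ (M : Matrix (Fin 3) (Fin 3) F) 2 2 = 1}
  mul_mem' := by
    rintro M N ⟨h0, h1, h2⟩ ⟨k0, k1, k2⟩
    exact ⟨by rw [row_mul M N h0 h1 h2]; exact k0, by rw [row_mul M N h0 h1 h2]; exact k1,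
      by rw [row_mul M N h0 h1 h2]; exact k2⟩
  one_mem' := by
    refine ⟨?_, ?_, ?_⟩ <;> simp
  inv_mem' := by
    rintro M ⟨h0, h1, h2⟩
    have key : ∀ j : Fin 3, ((M⁻¹ : Matrix.SpecialLinearGroup (Fin 3) F) :
        Matrix (Fin 3) (Fin 3) F) 2 j = (1 : Matrix (Fin 3) (Fin 3) F) 2 j := by
      intro j
      rw [← row_mul M M⁻¹ h0 h1 h2 j, mul_inv_cancel]
      rfl
    refine ⟨?_, ?_, ?_⟩
    · rw [key 0]; simp
    · rw [key 1]; simp
    · rw [key 2]; simp

theorem qd_eq : Cfsg.qdOver F = aff F := Subgroup.closure_eq (aff F)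

theorem mem_qd_iff {M : Matrix.SpecialLinearGroup (Fin 3) F} :
    M ∈ Cfsg.qdOver F ↔ (M : Matrix (Fin 3) (Fin 3) F) 2 0 = 0 ∧
      (M : Matrix (Fin 3) (Fin 3) F) 2 1 = 0 ∧ (M : Matrix (Fin 3) (Fin 3) F) 2 2 = 1 := by
  rw [qd_eq]
  rfl

/-- The upper-left block. -/
def blockMat (M : Matrix (Fin 3) (Fin 3) F) : Matrix (Fin 2) (Fin 2) F :=
  !![M 0 0, M 0 1; M 1 0, M 1 1]

theorem det_blockMat {M : Matrix.SpecialLinearGroup (Fin 3) F} (hM : M ∈ Cfsg.qdOver F) :
    (blockMat (M : Matrix (Fin 3) (Fin 3) F)).det = 1 := by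
  obtain ⟨m0, m1, m2⟩ := mem_qd_iff.mp hM
  have hdet := M.det_coe
  rw [Matrix.det_fin_three] at hdet
  rw [blockMat, Matrix.det_fin_two_of]
  rw [m0, m1, m2] at hdet
  linear_combination hdet

/-- The projection onto the upper-left block. -/
def piHom (F : Type*) [Field F] : ↥(Cfsg.qdOver F) →* Matrix.SpecialLinearGroup (Fin 2) F where
  toFun M := ⟨blockMat ((M : Matrix.SpecialLinearGroup (Fin 3) F) : Matrix (Fin 3) (Fin 3) F),
    det_blockMat M.2⟩
  map_one' := by
    ext i j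
    fin_cases i <;> fin_cases j <;> simp [blockMat]
  map_mul' := by
    intro M N
    obtain ⟨n0, n1, n2⟩ := mem_qd_iff.mp N.2
    apply Subtype.ext
    show blockMat (((M : Matrix.SpecialLinearGroup (Fin 3) F) : Matrix (Fin 3) (Fin 3) F) *
        ((N : Matrix.SpecialLinearGroup (Fin 3) F) : Matrix (Fin 3) (Fin 3) F)) =
      blockMat ((M : Matrix.SpecialLinearGroup (Fin 3) F) : Matrix (Fin 3) (Fin 3) F) *
        blockMat ((N : Matrix.SpecialLinearGroup (Fin 3) F) : Matrix (Fin 3) (Fin 3) F)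
    ext i j
    fin_cases i <;> fin_cases j <;>
      simp [blockMat, Matrix.mul_apply, Fin.sum_univ_three, Fin.sum_univ_two, n0, n1]

theorem piHom_apply (M : ↥(Cfsg.qdOver F)) (i j : Fin 2) :
    ((piHom F M : Matrix.SpecialLinearGroup (Fin 2) F) : Matrix (Fin 2) (Fin 2) F) i j =
      blockMat ((M : Matrix.SpecialLinearGroup (Fin 3) F) : Matrix (Fin 3) (Fin 3) F) i j := rfl

/-- The block embedding of a 2 × 2 matrix. -/
def embMat (A : Matrix (Fin 2) (Fin 2) F) : Matrix (Fin 3) (Fin 3) F :=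
  !![A 0 0, A 0 1, 0; A 1 0, A 1 1, 0; 0, 0, 1]

theorem det_embMat (A : Matrix (Fin 2) (Fin 2) F) : (embMat A).det = A.det := by
  rw [Matrix.det_fin_three, Matrix.det_fin_two]
  simp [embMat]

/-- The block embedding into `SL₃`. -/
def embSL (A : Matrix.SpecialLinearGroup (Fin 2) F) : Matrix.SpecialLinearGroup (Fin 3) F :=
  ⟨embMat (A : Matrix (Fin 2) (Fin 2) F), by rw [det_embMat]; exact A.2⟩

theorem embSL_mem (A : Matrix.SpecialLinearGroup (Fin 2) F) : embSL A ∈ Cfsg.qdOver F := by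
  rw [mem_qd_iff]
  refine ⟨?_, ?_, ?_⟩ <;> simp [embSL, embMat]

/-- The block embedding as a homomorphism into `Qd`. -/
def iotaHom (F : Type*) [Field F] : Matrix.SpecialLinearGroup (Fin 2) F →* ↥(Cfsg.qdOver F) where
  toFun A := ⟨embSL A, embSL_mem A⟩
  map_one' := by
    apply Subtype.ext
    ext i j
    fin_cases i <;> fin_cases j <;> simp [embSL, embMat]
  map_mul' := by
    intro A B
    apply Subtype.ext
    apply Subtype.ext
    show embMat ((A : Matrix (Fin 2) (Fin 2) F) * (B : Matrix (Fin 2) (Fin 2) F)) =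
      embMat (A : Matrix (Fin 2) (Fin 2) F) * embMat (B : Matrix (Fin 2) (Fin 2) F)
    ext i j
    fin_cases i <;> fin_cases j <;>
      simp [embMat, Matrix.mul_apply, Fin.sum_univ_three, Fin.sum_univ_two]

theorem pi_iota (A : Matrix.SpecialLinearGroup (Fin 2) F) : piHom F (iotaHom F A) = A := by
  apply Subtype.ext
  show blockMat (embMat (A : Matrix (Fin 2) (Fin 2) F)) = (A : Matrix (Fin 2) (Fin 2) F)
  ext i j
  fin_cases i <;> fin_cases j <;> rfl

theorem iotaHom_apply (A : Matrix.SpecialLinearGroup (Fin 2) F) (i j : Fin 3) :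
    (((iotaHom F A : ↥(Cfsg.qdOver F)) : Matrix.SpecialLinearGroup (Fin 3) F) :
      Matrix (Fin 3) (Fin 3) F) i j = embMat (A : Matrix (Fin 2) (Fin 2) F) i j := rfl

theorem iota_injective : Function.Injective (iotaHom F) := by
  intro A B h
  have := congrArg (piHom F) h
  rwa [pi_iota, pi_iota] at this

/-- A translation matrix. -/
def transMat (v : Fin 2 → F) : Matrix (Fin 3) (Fin 3) F :=
  !![1, 0, v 0; 0, 1, v 1; 0, 0, 1]

theorem det_transMat (v : Fin 2 → F) : (transMat v).det = 1 := by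
  rw [Matrix.det_fin_three]
  simp [transMat]

/-- A translation as an element of `SL₃`. -/
def transSL (v : Fin 2 → F) : Matrix.SpecialLinearGroup (Fin 3) F :=
  ⟨transMat v, det_transMat v⟩

theorem transSL_mem (v : Fin 2 → F) : transSL v ∈ Cfsg.qdOver F := by
  rw [mem_qd_iff]
  refine ⟨?_, ?_, ?_⟩ <;> simp [transSL, transMat]

/-- A translation as an element of `Qd`. -/
def transQ (v : Fin 2 → F) : ↥(Cfsg.qdOver F) := ⟨transSL v, transSL_mem v⟩

theorem transQ_apply (v : Fin 2 → F) (i j : Fin 3) :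
    (((transQ v : ↥(Cfsg.qdOver F)) : Matrix.SpecialLinearGroup (Fin 3) F) :
      Matrix (Fin 3) (Fin 3) F) i j = transMat v i j := rfl

theorem mem_ker_iff (M : ↥(Cfsg.qdOver F)) :
    M ∈ (piHom F).ker ↔
      ((M : Matrix.SpecialLinearGroup (Fin 3) F) : Matrix (Fin 3) (Fin 3) F) 0 0 = 1 ∧
      ((M : Matrix.SpecialLinearGroup (Fin 3) F) : Matrix (Fin 3) (Fin 3) F) 0 1 = 0 ∧
      ((M : Matrix.SpecialLinearGroup (Fin 3) F) : Matrix (Fin 3) (Fin 3) F) 1 0 = 0 ∧
      ((M : Matrix.SpecialLinearGroup (Fin 3) F) : Matrix (Fin 3) (Fin 3) F) 1 1 = 1 := by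
  rw [MonoidHom.mem_ker]
  constructor
  · intro h
    have h' : ∀ i j : Fin 2, blockMat ((M : Matrix.SpecialLinearGroup (Fin 3) F) :
        Matrix (Fin 3) (Fin 3) F) i j = (1 : Matrix (Fin 2) (Fin 2) F) i j := by
      intro i j
      rw [← piHom_apply, h]
      rfl
    refine ⟨?_, ?_, ?_, ?_⟩
    · simpa [blockMat] using h' 0 0
    · simpa [blockMat] using h' 0 1
    · simpa [blockMat] using h' 1 0
    · simpa [blockMat] using h' 1 1
  · rintro ⟨h00, h01, h10, h11⟩
    apply Subtype.ext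
    show blockMat ((M : Matrix.SpecialLinearGroup (Fin 3) F) : Matrix (Fin 3) (Fin 3) F) =
      (1 : Matrix (Fin 2) (Fin 2) F)
    ext i j
    fin_cases i <;> fin_cases j <;> simp [blockMat, h00, h01, h10, h11]

theorem transQ_mem_ker (v : Fin 2 → F) : transQ v ∈ (piHom F).ker := by
  rw [mem_ker_iff]
  refine ⟨?_, ?_, ?_, ?_⟩ <;> simp [transQ_apply, transMat]

theorem eq_transQ_of_mem_ker {M : ↥(Cfsg.qdOver F)} (h : M ∈ (piHom F).ker) :
    M = transQ ![((M : Matrix.SpecialLinearGroup (Fin 3) F) : Matrix (Fin 3) (Fin 3) F) 0 2,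
      ((M : Matrix.SpecialLinearGroup (Fin 3) F) : Matrix (Fin 3) (Fin 3) F) 1 2] := by
  obtain ⟨h00, h01, h10, h11⟩ := (mem_ker_iff M).mp h
  obtain ⟨m0, m1, m2⟩ := mem_qd_iff.mp M.2
  apply Subtype.ext
  apply Subtype.ext
  ext i j
  rw [transQ_apply]
  fin_cases i <;> fin_cases j <;> simp [transMat, h00, h01, h10, h11, m0, m1, m2]

theorem transQ_mul (v w : Fin 2 → F) : transQ v * transQ w = transQ (v + w) := by
  apply Subtype.ext
  apply Subtype.ext
  show transMat v * transMat w = transMat (v + w)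
  ext i j
  fin_cases i <;> fin_cases j <;>
    simp [transMat, Matrix.mul_apply, Fin.sum_univ_three, add_comm]

theorem transQ_zero : transQ (0 : Fin 2 → F) = 1 := by
  apply Subtype.ext
  apply Subtype.ext
  show transMat (0 : Fin 2 → F) = 1
  ext i j
  fin_cases i <;> fin_cases j <;> simp [transMat]

theorem transQ_pow (v : Fin 2 → F) (n : ℕ) : transQ v ^ n = transQ (n • v) := by
  induction n with
  | zero => rw [pow_zero, zero_smul, transQ_zero]
  | succ n ih => rw [pow_succ, ih, transQ_mul, succ_nsmul]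

theorem transQ_injective : Function.Injective (transQ (F := F)) := by
  intro v w h
  have h0 := congrArg (fun M : ↥(Cfsg.qdOver F) =>
    ((M : Matrix.SpecialLinearGroup (Fin 3) F) : Matrix (Fin 3) (Fin 3) F) 0 2) h
  have h1 := congrArg (fun M : ↥(Cfsg.qdOver F) =>
    ((M : Matrix.SpecialLinearGroup (Fin 3) F) : Matrix (Fin 3) (Fin 3) F) 1 2) h
  simp only [transQ_apply, transMat] at h0 h1
  ext i
  fin_cases i
  · simpa using h0
  · simpa using h1

end Aff

section Core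

variable {F : Type*} [Field F]

theorem ker_isPGroup (p : ℕ) [Fact p.Prime] [CharP F p] : IsPGroup p (piHom F).ker := by
  intro g
  refine ⟨1, ?_⟩
  apply Subtype.ext
  rw [Subgroup.coe_pow, Subgroup.coe_one, eq_transQ_of_mem_ker g.2, transQ_pow, pow_one]
  rw [← transQ_zero]
  congr 1
  ext i
  rw [Pi.smul_apply, nsmul_eq_mul, CharP.cast_eq_zero, zero_mul]
  rfl

theorem trace_eq_two_of_pow (p : ℕ) [Fact p.Prime] [CharP F p]
    (A : Matrix.SpecialLinearGroup (Fin 2) F) (k : ℕ) (h : A ^ p ^ k = 1) :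
    (A : Matrix (Fin 2) (Fin 2) F) 0 0 + (A : Matrix (Fin 2) (Fin 2) F) 1 1 = 2 := by
  have h1 : (A : Matrix (Fin 2) (Fin 2) F) ^ p ^ k = 1 := by
    rw [← Matrix.SpecialLinearGroup.coe_pow, h]
    rfl
  have h2 : ((A : Matrix (Fin 2) (Fin 2) F) - 1) ^ p ^ k = 0 := by
    rw [sub_pow_char_pow_of_commute p k (Commute.one_right _), h1, one_pow, sub_self]
  have h3 : ((A : Matrix (Fin 2) (Fin 2) F) - 1).det = 0 := by
    have := congrArg Matrix.det h2
    rw [Matrix.det_pow, Matrix.det_zero] at this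
    exact pow_eq_zero_iff (pow_ne_zero _ (Fact.out : p.Prime).ne_zero) |>.mp this
  have hdet := A.det_coe
  rw [Matrix.det_fin_two] at h3 hdet
  have e00 : ((A : Matrix (Fin 2) (Fin 2) F) - 1) 0 0 = (A : Matrix (Fin 2) (Fin 2) F) 0 0 - 1 := by
    simp
  have e11 : ((A : Matrix (Fin 2) (Fin 2) F) - 1) 1 1 = (A : Matrix (Fin 2) (Fin 2) F) 1 1 - 1 := by
    simp
  have e01 : ((A : Matrix (Fin 2) (Fin 2) F) - 1) 0 1 = (A : Matrix (Fin 2) (Fin 2) F) 0 1 := by
    simp
  have e10 : ((A : Matrix (Fin 2) (Fin 2) F) - 1) 1 0 = (A : Matrix (Fin 2) (Fin 2) F) 1 0 := by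
    simp
  rw [e00, e11, e01, e10] at h3
  linear_combination hdet - h3

/-- The key trace computation. -/
theorem mem_ker_of_trace {A : Matrix.SpecialLinearGroup (Fin 2) F}
    (h : ∀ g g' : Matrix.SpecialLinearGroup (Fin 2) F, g * g' = 1 →
      ((A * (g * A * g') : Matrix.SpecialLinearGroup (Fin 2) F) : Matrix (Fin 2) (Fin 2) F) 0 0 +
      ((A * (g * A * g') : Matrix.SpecialLinearGroup (Fin 2) F) : Matrix (Fin 2) (Fin 2) F) 1 1 = 2)
    (t0 : (A : Matrix (Fin 2) (Fin 2) F) 0 0 + (A : Matrix (Fin 2) (Fin 2) F) 1 1 = 2) :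
    A = 1 := by
  have hdet := A.det_coe
  rw [Matrix.det_fin_two] at hdet
  have E1 := h ⟨!![0, 1; -1, 0], by simp [Matrix.det_fin_two]⟩
    ⟨!![0, -1; 1, 0], by simp [Matrix.det_fin_two]⟩ (by
      apply Subtype.ext
      show (!![0, 1; -1, 0] : Matrix (Fin 2) (Fin 2) F) * !![0, -1; 1, 0] = 1
      ext i j
      fin_cases i <;> fin_cases j <;> simp [Matrix.mul_apply, Fin.sum_univ_two])
  have E2 := h ⟨!![1, 1; 0, 1], by simp [Matrix.det_fin_two]⟩
    ⟨!![1, -1; 0, 1], by simp [Matrix.det_fin_two]⟩ (by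
      apply Subtype.ext
      show (!![1, 1; 0, 1] : Matrix (Fin 2) (Fin 2) F) * !![1, -1; 0, 1] = 1
      ext i j
      fin_cases i <;> fin_cases j <;> simp [Matrix.mul_apply, Fin.sum_univ_two])
  change ((A : Matrix (Fin 2) (Fin 2) F) * ((!![0, 1; -1, 0] : Matrix (Fin 2) (Fin 2) F) *
      (A : Matrix (Fin 2) (Fin 2) F) * (!![0, -1; 1, 0] : Matrix (Fin 2) (Fin 2) F))) 0 0 +
    ((A : Matrix (Fin 2) (Fin 2) F) * ((!![0, 1; -1, 0] : Matrix (Fin 2) (Fin 2) F) *
      (A : Matrix (Fin 2) (Fin 2) F) * (!![0, -1; 1, 0] : Matrix (Fin 2) (Fin 2) F))) 1 1 = 2 at E1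
  change ((A : Matrix (Fin 2) (Fin 2) F) * ((!![1, 1; 0, 1] : Matrix (Fin 2) (Fin 2) F) *
      (A : Matrix (Fin 2) (Fin 2) F) * (!![1, -1; 0, 1] : Matrix (Fin 2) (Fin 2) F))) 0 0 +
    ((A : Matrix (Fin 2) (Fin 2) F) * ((!![1, 1; 0, 1] : Matrix (Fin 2) (Fin 2) F) *
      (A : Matrix (Fin 2) (Fin 2) F) * (!![1, -1; 0, 1] : Matrix (Fin 2) (Fin 2) F))) 1 1 = 2 at E2
  simp only [Matrix.mul_apply, Fin.sum_univ_two] at E1 E2
  simp at E1 E2
  set a := (A : Matrix (Fin 2) (Fin 2) F) 0 0 with ha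
  set b := (A : Matrix (Fin 2) (Fin 2) F) 0 1 with hb
  set c := (A : Matrix (Fin 2) (Fin 2) F) 1 0 with hc
  set d := (A : Matrix (Fin 2) (Fin 2) F) 1 1 with hd
  have hbc : b - c = 0 := by
    have : (b - c) ^ 2 = 0 := by linear_combination 2 * hdet - E1
    exact pow_eq_zero_iff (by norm_num) |>.mp this
  have hc0 : c = 0 := by
    have : c ^ 2 = 0 := by linear_combination (a + d + 2) * t0 - 2 * hdet - E2
    exact pow_eq_zero_iff (by norm_num) |>.mp this
  have hb0 : b = 0 := by linear_combination hbc + hc0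
  have ha1 : a = 1 := by
    have : (a - 1) ^ 2 = 0 := by linear_combination a * t0 - hdet - c * hb0
    have := pow_eq_zero_iff (by norm_num) |>.mp this
    linear_combination this
  have hd1 : d = 1 := by linear_combination t0 - ha1
  apply Subtype.ext
  ext i j
  fin_cases i <;> fin_cases j
  · exact ha1
  · exact hb0
  · exact hc0
  · exact hd1

end Core

section Main

variable {F : Type*} [Field F]

theorem pCore_eq_ker [Fintype F] (p : ℕ) [Fact p.Prime] [CharP F p] :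
    Cfsg.pCore p ↥(Cfsg.qdOver F) = (piHom F).ker := by
  classical
  have : Finite ↥(Cfsg.qdOver F) := inferInstance
  apply le_antisymm
  · intro n hn
    rw [MonoidHom.mem_ker]
    have hpg := Cfsg.Agent.Lib.Helper1.pCore_isPGroup (G := ↥(Cfsg.qdOver F)) p
    have hnorm := Cfsg.Agent.Lib.Helper1.pCore_normal (G := ↥(Cfsg.qdOver F)) p
    have key : ∀ m ∈ Cfsg.pCore p ↥(Cfsg.qdOver F),
        ((piHom F m : Matrix.SpecialLinearGroup (Fin 2) F) : Matrix (Fin 2) (Fin 2) F) 0 0 +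
        ((piHom F m : Matrix.SpecialLinearGroup (Fin 2) F) : Matrix (Fin 2) (Fin 2) F) 1 1 = 2 := by
      intro m hm
      obtain ⟨k, hk⟩ := hpg ⟨m, hm⟩
      have hmk : m ^ p ^ k = 1 := by simpa using congrArg Subtype.val hk
      apply trace_eq_two_of_pow p _ k
      rw [← map_pow, hmk, map_one]
    apply mem_ker_of_trace
    · intro g g' hgg'
      have hconj : iotaHom F g * n * iotaHom F g' ∈ Cfsg.pCore p ↥(Cfsg.qdOver F) := by
        have hinv : iotaHom F g' = (iotaHom F g)⁻¹ := by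
          rw [eq_comm, inv_eq_iff_eq_inv]
          apply eq_inv_of_mul_eq_one_left
          rw [← map_mul, hgg', map_one]
        rw [hinv]
        exact hnorm.conj_mem n hn _
      have := key _ (Subgroup.mul_mem _ hn hconj)
      rw [map_mul, map_mul, map_mul, pi_iota, pi_iota] at this
      exact this
    · exact key n hn
  · exact Cfsg.Agent.Lib.Helper1.le_pCore p (MonoidHom.normal_ker _) (ker_isPGroup p)

theorem mem_range_iff (M : ↥(Cfsg.qdOver F)) :
    M ∈ (iotaHom F).range ↔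
      ((M : Matrix.SpecialLinearGroup (Fin 3) F) : Matrix (Fin 3) (Fin 3) F) 0 2 = 0 ∧
      ((M : Matrix.SpecialLinearGroup (Fin 3) F) : Matrix (Fin 3) (Fin 3) F) 1 2 = 0 := by
  constructor
  · rintro ⟨A, rfl⟩
    exact ⟨by rw [iotaHom_apply]; simp [embMat], by rw [iotaHom_apply]; simp [embMat]⟩
  · rintro ⟨h02, h12⟩
    refine ⟨piHom F M, ?_⟩
    obtain ⟨m0, m1, m2⟩ := mem_qd_iff.mp M.2
    apply Subtype.ext
    apply Subtype.ext
    ext i j
    rw [iotaHom_apply]
    fin_cases i <;> fin_cases j <;>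
      simp [embMat, piHom_apply, blockMat, h02, h12, m0, m1, m2]

theorem range_inf_ker : (iotaHom F).range ⊓ (piHom F).ker = ⊥ := by
  rw [eq_bot_iff]
  rintro M ⟨⟨A, rfl⟩, hk⟩
  have hk' : piHom F (iotaHom F A) = 1 := hk
  rw [pi_iota] at hk'
  rw [hk', map_one]
  exact Subgroup.mem_bot.mpr rfl

theorem range_sup_ker : (iotaHom F).range ⊔ (piHom F).ker = ⊤ := by
  rw [eq_top_iff]
  intro M _
  have : M = iotaHom F (piHom F M) * ((iotaHom F (piHom F M))⁻¹ * M) := by group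
  rw [this]
  apply Subgroup.mul_mem_sup (MonoidHom.mem_range.mpr ⟨_, rfl⟩)
  rw [MonoidHom.mem_ker, map_mul, map_inv, pi_iota, inv_mul_cancel]

theorem iota_mul_trans (A : Matrix.SpecialLinearGroup (Fin 2) F) (u : Fin 2 → F) :
    iotaHom F A * transQ u =
      transQ ((A : Matrix (Fin 2) (Fin 2) F).mulVec u) * iotaHom F A := by
  apply Subtype.ext
  apply Subtype.ext
  show embMat (A : Matrix (Fin 2) (Fin 2) F) * transMat u =
    transMat ((A : Matrix (Fin 2) (Fin 2) F).mulVec u) * embMat (A : Matrix (Fin 2) (Fin 2) F)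
  ext i j
  fin_cases i <;> fin_cases j <;>
    simp [embMat, transMat, Matrix.mul_apply, Fin.sum_univ_three, Matrix.mulVec, dotProduct,
      Fin.sum_univ_two]

/-- The translation map as an additive homomorphism. -/
def phiHom (F : Type*) [Field F] : (Fin 2 → F) →+ Additive ↥(piHom F).ker where
  toFun v := Additive.ofMul ⟨transQ v, transQ_mem_ker v⟩
  map_zero' := by
    apply Additive.toMul.injective
    apply Subtype.ext
    exact transQ_zero
  map_add' := by
    intro v w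
    apply Additive.toMul.injective
    apply Subtype.ext
    exact (transQ_mul v w).symm

theorem phiHom_bijective : Function.Bijective (phiHom F) := by
  constructor
  · intro v w h
    have := congrArg (fun x : Additive ↥(piHom F).ker => ((Additive.toMul x : ↥(piHom F).ker) :
      ↥(Cfsg.qdOver F))) h
    exact transQ_injective this
  · intro x
    refine ⟨![(((Additive.toMul x : ↥(piHom F).ker) : ↥(Cfsg.qdOver F)) :
      Matrix.SpecialLinearGroup (Fin 3) F).1 0 2,
      (((Additive.toMul x : ↥(piHom F).ker) : ↥(Cfsg.qdOver F)) :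
      Matrix.SpecialLinearGroup (Fin 3) F).1 1 2], ?_⟩
    apply Additive.toMul.injective
    apply Subtype.ext
    exact (eq_transQ_of_mem_ker (Additive.toMul x).2).symm

/-- The coordinate isomorphism. -/
noncomputable def psiEquiv (F : Type*) [Field F] : Additive ↥(piHom F).ker ≃+ (Fin 2 → F) :=
  (AddEquiv.ofBijective (phiHom F) phiHom_bijective).symm

theorem psiEquiv_transQ (v : Fin 2 → F) (h : transQ v ∈ (piHom F).ker) :
    psiEquiv F (Additive.ofMul ⟨transQ v, h⟩) = v :=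
  (AddEquiv.ofBijective (phiHom F) phiHom_bijective).symm_apply_apply v

theorem eq_one_of_mulVec {A : Matrix.SpecialLinearGroup (Fin 2) F}
    (h : ∀ u : Fin 2 → F, (A : Matrix (Fin 2) (Fin 2) F).mulVec u = u) : A = 1 := by
  have h1 := h ![1, 0]
  have h2 := h ![0, 1]
  have e00 := congrFun h1 0
  have e10 := congrFun h1 1
  have e01 := congrFun h2 0
  have e11 := congrFun h2 1
  simp [Matrix.mulVec, dotProduct, Fin.sum_univ_two] at e00 e10 e01 e11
  apply Subtype.ext
  ext i j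
  fin_cases i <;> fin_cases j
  · exact e00
  · exact e01
  · exact e10
  · exact e11

theorem natural (V : Subgroup ↥(Cfsg.qdOver F)) (hV : V = (piHom F).ker) :
    Cfsg.IsNaturalSL2Module F V (iotaHom F).range := by
  subst hV
  refine ⟨?_, (piHom F).comp (iotaHom F).range.subtype, psiEquiv F, ?_, ?_, ?_⟩
  · intro l _
    rw [Subgroup.mem_normalizer_iff]
    intro h
    refine ⟨fun hh => (MonoidHom.normal_ker (piHom F)).conj_mem h hh l, fun hh => ?_⟩
    have h2 := (MonoidHom.normal_ker (piHom F)).conj_mem _ hh l⁻¹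
    have h3 : l⁻¹ * (l * h * l⁻¹) * l⁻¹⁻¹ = h := by group
    rwa [h3] at h2
  · intro A
    exact ⟨⟨iotaHom F A, ⟨A, rfl⟩⟩, pi_iota A⟩
  · ext ⟨l, hl⟩
    obtain ⟨A, rfl⟩ := hl
    rw [MonoidHom.mem_ker, Subgroup.mem_subgroupOf, Subgroup.mem_centralizer_iff]
    show piHom F (iotaHom F A) = 1 ↔ ∀ h ∈ ((piHom F).ker : Set ↥(Cfsg.qdOver F)),
      h * iotaHom F A = iotaHom F A * h
    rw [pi_iota]
    constructor
    · intro hA h _
      rw [hA, map_one, mul_one, one_mul]
    · intro hc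
      apply eq_one_of_mulVec
      intro u
      have h1 := hc (transQ u) (transQ_mem_ker u)
      rw [iota_mul_trans] at h1
      exact (transQ_injective (mul_right_cancel h1)).symm
  · rintro ⟨l, hl⟩ ⟨v, hv⟩
    obtain ⟨A, rfl⟩ := hl
    obtain ⟨u, rfl⟩ : ∃ u : Fin 2 → F, v = transQ u := ⟨_, eq_transQ_of_mem_ker hv⟩
    refine ⟨⟨transQ ((A : Matrix (Fin 2) (Fin 2) F).mulVec u), transQ_mem_ker _⟩, ?_, ?_⟩
    · show transQ ((A : Matrix (Fin 2) (Fin 2) F).mulVec u) =
        iotaHom F A * transQ u * (iotaHom F A)⁻¹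
      rw [iota_mul_trans, mul_inv_cancel_right]
    · rw [psiEquiv_transQ, psiEquiv_transQ]
      show _ = ((piHom F (iotaHom F A) : Matrix.SpecialLinearGroup (Fin 2) F) :
        Matrix (Fin 2) (Fin 2) F).mulVec u
      rw [pi_iota]

end Main

/-- Structure of Qd over a finite field F of characteristic p (the affine subgroup of SL₃(F)): its largest normal p-subgroup is the group of translations (matrices with upper-left block the identity), the block-diagonal matrices form a complement isomorphic to SL₂(F), and the translation subgroup is a natural SL₂(F)-module for that complement. -/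
theorem result {F : Type*} [Field F] [Fintype F] {p : ℕ} [Fact p.Prime] [CharP F p] : (∀ M : ↥(Cfsg.qdOver F), M ∈ Cfsg.pCore p ↥(Cfsg.qdOver F) ↔ ((M : Matrix.SpecialLinearGroup (Fin 3) F) : Matrix (Fin 3) (Fin 3) F) 0 0 = 1 ∧ ((M : Matrix.SpecialLinearGroup (Fin 3) F) : Matrix (Fin 3) (Fin 3) F) 0 1 = 0 ∧ ((M : Matrix.SpecialLinearGroup (Fin 3) F) : Matrix (Fin 3) (Fin 3) F) 1 0 = 0 ∧ ((M : Matrix.SpecialLinearGroup (Fin 3) F) : Matrix (Fin 3) (Fin 3) F) 1 1 = 1) ∧ ∃ K : Subgroup ↥(Cfsg.qdOver F), (∀ M : ↥(Cfsg.qdOver F), M ∈ K ↔ ((M : Matrix.SpecialLinearGroup (Fin 3) F) : Matrix (Fin 3) (Fin 3) F) 0 2 = 0 ∧ ((M : Matrix.SpecialLinearGroup (Fin 3) F) : Matrix (Fin 3) (Fin 3) F) 1 2 = 0) ∧ K ⊓ Cfsg.pCore p ↥(Cfsg.qdOver F) = ⊥ ∧ K ⊔ Cfsg.pCore p ↥(Cfsg.qdOver F) = ⊤ ∧ Nonempty (↥K ≃* Matrix.SpecialLinearGroup (Fin 2) F) ∧ Cfsg.IsNaturalSL2Module F (Cfsg.pCore p ↥(Cfsg.qdOver F)) K := by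
  have hV := pCore_eq_ker (F := F) p
  refine ⟨?_, (iotaHom F).range, mem_range_iff, ?_, ?_, ?_, ?_⟩
  · intro M
    rw [hV]
    exact mem_ker_iff M
  · rw [hV]
    exact range_inf_ker
  · rw [hV]
    exact range_sup_ker
  · exact ⟨(MonoidHom.ofInjective iota_injective).symm⟩
  · exact natural _ hV

end Cfsg.Agent.S2762
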