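import Mathlib
import Cfsg.Statements.S0106
import Cfsg.Agent.Lib.Helper2.QuatSyl
import Cfsg.Agent.Lib.Helper2.SL23Sec
import Cfsg.Agent.Lib.Helper1.ThompsonNPC

set_option autoImplicit false
open Cfsg

namespace Cfsg.Agent.S0106

open Cfsg.Agent.Lib.Helper2

/-- A finite group with generalized quaternion Sylow 2-subgroups either has a normal 2-complement or has a section isomorphic to SL(2,3). -/
theorem result {G : Type*} [Group G] [Finite G] (T : Sylow 2 G) (n : ℕ) (hn : 1 ≤ n) (hT : Nonempty ((T : Subgroup G) ≃* QuaternionGroup (2 ^ n))) : Cfsg.HasNormalPComplement 2 G ∨ ∃ (H K : Subgroup G) (hK : (K.subgroupOf H).Normal), Nonempty ((H ⧸ K.subgroupOf H) ≃* Matrix.SpecialLinearGroup (Fin 2) (ZMod 3)) := by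
  by_cases hnpc : Cfsg.HasNormalPComplement 2 G
  · exact Or.inl hnpc
  right
  rw [Cfsg.Agent.Lib.Helper1.hasNormalPComplement_iff_frobCond] at hnpc
  have h1 : ¬ ∀ Q : Subgroup G, Q ≤ (T : Subgroup G) →
      ∀ g ∈ Subgroup.normalizer (Q : Set G), Nat.Coprime (orderOf g) 2 →
        g ∈ Subgroup.centralizer (Q : Set G) :=
    fun h => hnpc (Cfsg.Agent.Lib.Helper1.frobCond_of_sylow T h)
  push Not at h1
  obtain ⟨Q, hQT, g, hgN, hgo, hgC⟩ := h1
  obtain ⟨e⟩ := hT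
  have hm : 2 ≤ 2 ^ n := by
    calc 2 = 2 ^ 1 := rfl
      _ ≤ 2 ^ n := Nat.pow_le_pow_right (by norm_num) hn
  obtain ⟨z, α, c⟩ := qtype_of_equiv (T : Subgroup G) T.isPGroup' (2 ^ n) hm e
  have hodd : Odd (orderOf g) := (Nat.coprime_two_right).mp hgo
  obtain ⟨i, j, k1, k2, k3, k4, k5, k6⟩ := c.exists_q8 Q hQT g hgN hodd hgC
  exact exists_sl23_section i j g k1 k2 k3 k4 k5 k6 hodd

end Cfsg.Agent.S0106
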