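import Cfsg.Statements.S0061
-- import your own Cfsg.Agent.* helpers here
import Mathlib
import Cfsg.Agent.Lib.Helper21.Basic

set_option autoImplicit false
open Cfsg

namespace Cfsg.Agent.S0061

universe u

/-- Generic induction: if every group whose order lies in a divisor-closed class is solvable or has
a proper nontrivial normal subgroup, then all groups with order in the class are solvable. -/
theorem solvable_of_class (C : ℕ → Prop) (hdvd : ∀ n d, C n → d ∣ n → C d)
    (hstep : ∀ (G : Type u) [Group G] [Finite G], C (Nat.card G) →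
      Group.IsSolvable G ∨ ∃ N : Subgroup G, N.Normal ∧ N ≠ ⊥ ∧ N ≠ ⊤) :
    ∀ (n : ℕ) (G : Type u) [Group G] [Finite G], Nat.card G = n → C n → Group.IsSolvable G := by
  intro n
  induction n using Nat.strong_induction_on with
  | _ n ih =>
    intro G _ _ hG hC
    rcases hstep G (hG ▸ hC) with h | ⟨N, hNn, hNbot, hNtop⟩
    · exact h
    · have hcard : Nat.card G = Nat.card (G ⧸ N) * Nat.card N :=
        Subgroup.card_eq_card_quotient_mul_card_subgroup N
      have hN1 : 1 < Nat.card N := (Subgroup.one_lt_card_iff_ne_bot N).mpr hNbot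
      have hQ1 : 1 < Nat.card (G ⧸ N) := by
        have h1 : N.index ≠ 1 := fun h => hNtop (Subgroup.index_eq_one.mp h)
        have hpos : 0 < N.index := Nat.pos_of_ne_zero Subgroup.index_ne_zero_of_finite
        change 1 < N.index
        omega
      have hNsolv : Group.IsSolvable N := by
        refine ih (Nat.card N) ?_ N rfl (hdvd n _ hC ?_)
        · rw [← hG, hcard]; nlinarith
        · rw [← hG, hcard]; exact dvd_mul_left _ _
      have hQsolv : Group.IsSolvable (G ⧸ N) := by
        refine ih (Nat.card (G ⧸ N)) ?_ (G ⧸ N) rfl (hdvd n _ hC ?_)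
        · rw [← hG, hcard]; nlinarith
        · rw [← hG, hcard]; exact dvd_mul_right _ _
      exact Group.isSolvable_of_ker_le_range N.subtype (QuotientGroup.mk' N) (by simp)

theorem sylow_card_index {G : Type u} [Group G] [Finite G] {p q a b : ℕ} [Fact p.Prime]
    (hq : q.Prime) (hpq : p ≠ q) (hG : Nat.card G = p ^ a * q ^ b) (P : Sylow p G) :
    Nat.card P = p ^ a ∧ (P : Subgroup G).index = q ^ b := by
  have hp : p.Prime := Fact.out
  have hcop : Nat.Coprime p q := (Nat.coprime_primes hp hq).mpr hpq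
  obtain ⟨k0, hk0⟩ := IsPGroup.iff_card.mp P.isPGroup'
  have hnd : ¬ p ∣ (P : Subgroup G).index := P.not_dvd_index
  have hmul : Nat.card P * (P : Subgroup G).index = p ^ a * q ^ b := by
    rw [← hG]; exact (P : Subgroup G).card_mul_index
  have hcopidx : Nat.Coprime p (P : Subgroup G).index := (Nat.Prime.coprime_iff_not_dvd hp).mpr hnd
  have hki : k0 = a := by
    apply le_antisymm
    · have h1 : p ^ k0 ∣ p ^ a * q ^ b := by rw [← hmul, hk0]; exact dvd_mul_right _ _
      have h2 : p ^ k0 ∣ p ^ a := (Nat.Coprime.pow k0 b hcop).dvd_of_dvd_mul_right h1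
      exact (Nat.pow_dvd_pow_iff_le_right hp.one_lt).mp h2
    · have h1 : p ^ a ∣ Nat.card P * (P : Subgroup G).index := by rw [hmul]; exact dvd_mul_right _ _
      have h2 : p ^ a ∣ Nat.card P := (Nat.Coprime.pow_left a hcopidx).dvd_of_dvd_mul_right h1
      rw [hk0] at h2
      exact (Nat.pow_dvd_pow_iff_le_right hp.one_lt).mp h2
  have hcardP : Nat.card P = p ^ a := by rw [hk0, hki]
  refine ⟨hcardP, ?_⟩
  rw [hcardP] at hmul
  exact Nat.eq_of_mul_eq_mul_left (pow_pos hp.pos a) hmul

theorem exists_normalizer_not_mem {G : Type u} [Group G] [Finite G] {p : ℕ} [Fact p.Prime]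
    (R : Subgroup G) (hR : IsPGroup p R) (D : Subgroup G) (hDR : D ≤ R) (hne : D ≠ R) :
    ∃ u ∈ R, u ∈ Subgroup.normalizer (D : Set G) ∧ u ∉ D := by
  have hnil : Group.IsNilpotent R := hR.isNilpotent
  have hnc : NormalizerCondition R := Group.normalizerCondition_of_isNilpotent
  have hlt : D.subgroupOf R < ⊤ := by
    rw [lt_top_iff_ne_top]
    intro h
    exact hne (le_antisymm hDR (Subgroup.subgroupOf_eq_top.mp h))
  obtain ⟨u, hu, hu'⟩ := SetLike.exists_of_lt (hnc _ hlt)
  refine ⟨u, u.2, ?_, fun h => hu' (Subgroup.mem_subgroupOf.mpr h)⟩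
  rw [Subgroup.mem_normalizer_iff] at hu ⊢
  intro h
  constructor
  · intro hh
    have h1 := (hu ⟨h, hDR hh⟩).mp (Subgroup.mem_subgroupOf.mpr hh)
    exact Subgroup.mem_subgroupOf.mp h1
  · intro hh
    have hhR : h ∈ R := by
      have e : h = (u : G)⁻¹ * (u * h * (u : G)⁻¹) * u := by group
      rw [e]; exact R.mul_mem (R.mul_mem (R.inv_mem u.2) (hDR hh)) u.2
    have h1 := (hu ⟨h, hhR⟩).mpr (Subgroup.mem_subgroupOf.mpr hh)
    exact Subgroup.mem_subgroupOf.mp h1

theorem card_filter_mem {G : Type u} [Group G] [Fintype G] (H : Subgroup G)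
    [DecidablePred (· ∈ H)] : (Finset.univ.filter (· ∈ H)).card = Nat.card H := by
  rw [Nat.card_eq_fintype_card, Fintype.card_subtype]

/-- In the TI case, any two subgroups of order `q` coincide. -/
theorem unique_of_TI {G : Type u} [Group G] [Finite G] {p q a : ℕ} [Fact p.Prime] (hq : q.Prime)
    (hpq : p ≠ q) (ha : 1 ≤ a) (hG : Nat.card G = p ^ a * q)
    (hnp : Nat.card (Sylow p G) = q)
    (hTI : ∀ R R' : Sylow p G, R ≠ R' → (R : Subgroup G) ⊓ (R' : Subgroup G) = ⊥)
    (Q Q' : Subgroup G) (hQ : Nat.card Q = q) (hQ' : Nat.card Q' = q) : Q = Q' := by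
  classical
  have hp : p.Prime := Fact.out
  have hcardS : ∀ R : Sylow p G, Nat.card R = p ^ a := fun R =>
    (sylow_card_index (a := a) (b := 1) hq hpq (show Nat.card G = p ^ a * q ^ 1 by rw [hG, pow_one]) R).1
  have : Fintype G := Fintype.ofFinite G
  have : Fintype (Sylow p G) := Fintype.ofFinite _
  let B : Finset G := Finset.univ.biUnion
    (fun R : Sylow p G => (Finset.univ.filter (fun z : G => z ∈ (R : Subgroup G))).erase 1)
  have hBcard : B.card = q * (p ^ a - 1) := by
    rw [Finset.card_biUnion]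
    · have h1 : ∀ R : Sylow p G,
          ((Finset.univ.filter (fun z : G => z ∈ (R : Subgroup G))).erase 1).card = p ^ a - 1 := by
        intro R
        rw [Finset.card_erase_of_mem (by simp), card_filter_mem, hcardS R]
      rw [Finset.sum_congr rfl (fun R _ => h1 R), Finset.sum_const, Finset.card_univ, smul_eq_mul,
        ← Nat.card_eq_fintype_card, hnp]
    · intro R _ R' _ hne
      change Disjoint _ _
      rw [Finset.disjoint_left]
      intro z hz hz'
      simp only [Finset.mem_erase, Finset.mem_filter, Finset.mem_univ, true_and] at hz hz'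
      have hmem : z ∈ (R : Subgroup G) ⊓ (R' : Subgroup G) := ⟨hz.2, hz'.2⟩
      rw [hTI R R' hne, Subgroup.mem_bot] at hmem
      exact hz.1 hmem
  have hpa : 1 ≤ p ^ a := Nat.one_le_pow _ _ hp.pos
  have key : ∀ K : Subgroup G, Nat.card K = q →
      Finset.univ.filter (fun z : G => z ∈ K) ∪ B = Finset.univ := by
    intro K hK
    apply Finset.eq_univ_of_card
    rw [Finset.card_union_of_disjoint, card_filter_mem, hK, hBcard, ← Nat.card_eq_fintype_card, hG]
    · have : q + q * (p ^ a - 1) = q * (1 + (p ^ a - 1)) := by ring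
      rw [this, Nat.add_sub_cancel' hpa, mul_comm]
    · rw [Finset.disjoint_left]
      intro z hz hzB
      simp only [Finset.mem_filter, Finset.mem_univ, true_and] at hz
      simp only [B, Finset.mem_biUnion, Finset.mem_erase, Finset.mem_filter, Finset.mem_univ,
        true_and] at hzB
      obtain ⟨R, hz1, hzR⟩ := hzB
      have h1 : orderOf z ∣ q := by
        have := orderOf_dvd_natCard (⟨z, hz⟩ : K)
        rwa [Subgroup.orderOf_mk, hK] at this
      have h2 : orderOf z ∣ p ^ a := by
        have := orderOf_dvd_natCard (⟨z, hzR⟩ : (R : Subgroup G))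
        rwa [Subgroup.orderOf_mk, hcardS R] at this
      have hcop : Nat.Coprime q (p ^ a) := Nat.Coprime.pow_right a ((Nat.coprime_primes hq hp).mpr hpq.symm)
      have h3 : orderOf z = 1 := Nat.eq_one_of_dvd_coprimes hcop h1 h2
      exact hz1 (orderOf_eq_one_iff.mp h3)
  have disj : ∀ K : Subgroup G, Nat.card K = q → ∀ z ∈ K, z ∉ B := by
    intro K hK z hz hzB
    simp only [B, Finset.mem_biUnion, Finset.mem_erase, Finset.mem_filter, Finset.mem_univ,
      true_and] at hzB
    obtain ⟨R, hz1, hzR⟩ := hzB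
    have h1 : orderOf z ∣ q := by
      have := orderOf_dvd_natCard (⟨z, hz⟩ : K)
      rwa [Subgroup.orderOf_mk, hK] at this
    have h2 : orderOf z ∣ p ^ a := by
      have := orderOf_dvd_natCard (⟨z, hzR⟩ : (R : Subgroup G))
      rwa [Subgroup.orderOf_mk, hcardS R] at this
    have hcop : Nat.Coprime q (p ^ a) := Nat.Coprime.pow_right a ((Nat.coprime_primes hq hp).mpr hpq.symm)
    have h3 : orderOf z = 1 := Nat.eq_one_of_dvd_coprimes hcop h1 h2
    exact hz1 (orderOf_eq_one_iff.mp h3)
  have sub : ∀ K K' : Subgroup G, Nat.card K = q → Nat.card K' = q → K ≤ K' := by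
    intro K K' hK hK' z hz
    have hzB := disj K hK z hz
    have hmem : z ∈ Finset.univ.filter (fun z : G => z ∈ K') ∪ B := by
      rw [key K' hK']; exact Finset.mem_univ z
    rw [Finset.mem_union] at hmem
    rcases hmem with h | h
    · simpa using h
    · exact absurd h hzB
  exact le_antisymm (sub Q Q' hQ hQ') (sub Q' Q hQ' hQ)

theorem exists_normal_pmq {G : Type u} [Group G] [Finite G] {p q a : ℕ} (hp : p.Prime)
    (hq : q.Prime) (hpq : p ≠ q) (ha : 1 ≤ a) (hG : Nat.card G = p ^ a * q) :
    ∃ N : Subgroup G, N.Normal ∧ N ≠ ⊥ ∧ N ≠ ⊤ := by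
  classical
  have : Fact p.Prime := ⟨hp⟩
  have hpa1 : 1 < p ^ a := Nat.one_lt_pow (by omega) hp.one_lt
  have hcardS : ∀ R : Sylow p G, Nat.card R = p ^ a ∧ (R : Subgroup G).index = q := fun R => by
    have := sylow_card_index (a := a) (b := 1) hq hpq (show Nat.card G = p ^ a * q ^ 1 by rw [hG, pow_one]) R
    rwa [pow_one] at this
  have hRtop : ∀ R : Sylow p G, (R : Subgroup G) ≠ ⊤ := by
    intro R h
    have := (hcardS R).2
    rw [h, Subgroup.index_top] at this
    exact hq.one_lt.ne this
  have hRbot : ∀ R : Sylow p G, (R : Subgroup G) ≠ ⊥ := by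
    intro R h
    have := (hcardS R).1
    rw [h, Subgroup.card_bot] at this
    omega
  by_cases hsub : Subsingleton (Sylow p G)
  · obtain ⟨P⟩ : Nonempty (Sylow p G) := inferInstance
    exact ⟨P, Sylow.normal_of_subsingleton P, hRbot P, hRtop P⟩
  have hnt : Nontrivial (Sylow p G) := not_subsingleton_iff_nontrivial.mp hsub
  obtain ⟨P⟩ : Nonempty (Sylow p G) := inferInstance
  have hnp : Nat.card (Sylow p G) = q := by
    have h1 : Nat.card (Sylow p G) ∣ q := by
      have := P.card_dvd_index
      rwa [(hcardS P).2] at this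
    rcases (Nat.dvd_prime hq).mp h1 with h | h
    · exfalso
      exact hsub (Finite.card_le_one_iff_subsingleton.mp h.le)
    · exact h
  -- a pair of distinct Sylow subgroups with intersection of maximal order
  have hne : Nonempty {x : Sylow p G × Sylow p G // x.1 ≠ x.2} := by
    obtain ⟨R, R', h⟩ := exists_pair_ne (Sylow p G)
    exact ⟨⟨(R, R'), h⟩⟩
  obtain ⟨⟨⟨R1, R2⟩, h12⟩, hmax⟩ := Finite.exists_max
    (fun x : {x : Sylow p G × Sylow p G // x.1 ≠ x.2} =>
      Nat.card ((x.1.1 : Subgroup G) ⊓ (x.1.2 : Subgroup G) : Subgroup G))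
  have hmax' : ∀ R R' : Sylow p G, R ≠ R' →
      Nat.card ((R : Subgroup G) ⊓ (R' : Subgroup G) : Subgroup G) ≤
        Nat.card ((R1 : Subgroup G) ⊓ (R2 : Subgroup G) : Subgroup G) :=
    fun R R' h => hmax ⟨(R, R'), h⟩
  simp only at h12
  by_cases hD : (R1 : Subgroup G) ⊓ (R2 : Subgroup G) = ⊥
  · -- TI case
    have hTI : ∀ R R' : Sylow p G, R ≠ R' → (R : Subgroup G) ⊓ (R' : Subgroup G) = ⊥ := by
      intro R R' h
      have h1 := hmax' R R' h
      rw [hD, Subgroup.card_bot] at h1
      exact Subgroup.card_eq_one.mp (le_antisymm h1 Nat.card_pos)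
    have hqdvd : q ∣ Nat.card G := by rw [hG]; exact dvd_mul_left _ _
    have : Fact q.Prime := ⟨hq⟩
    obtain ⟨z, hz⟩ := exists_prime_orderOf_dvd_card' (G := G) q hqdvd
    have hQcard : Nat.card (Subgroup.zpowers z) = q := by rw [Nat.card_zpowers, hz]
    refine ⟨Subgroup.zpowers z, ?_, ?_, ?_⟩
    · refine ⟨fun x hx g => ?_⟩
      have h1 : Nat.card ((Subgroup.zpowers z).map (MulAut.conj g).toMonoidHom) = q := by
        rw [Cfsg.Agent.Lib.Helper21.card_map_conj, hQcard]
      have h2 := unique_of_TI hq hpq ha hG hnp hTI _ _ h1 hQcard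
      rw [← h2]
      exact Cfsg.Agent.Lib.Helper21.conj_mem_map_conj _ g hx
    · intro h
      rw [h, Subgroup.card_bot] at hQcard
      exact hq.one_lt.ne hQcard
    · intro h
      rw [h, Subgroup.card_top, hG] at hQcard
      have : q < p ^ a * q := by nlinarith [hq.pos]
      omega
  · -- the normal closure of D is a proper nontrivial normal subgroup
    have hDR1 : (R1 : Subgroup G) ⊓ (R2 : Subgroup G) ≠ R1 := by
      intro h
      apply h12
      have hle : (R1 : Subgroup G) ≤ R2 := h ▸ inf_le_right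
      exact Sylow.ext (Subgroup.eq_of_le_of_card_ge hle (by rw [(hcardS R1).1, (hcardS R2).1]))
    have hDR2 : (R1 : Subgroup G) ⊓ (R2 : Subgroup G) ≠ R2 := by
      intro h
      apply h12
      have hle : (R2 : Subgroup G) ≤ R1 := h ▸ inf_le_left
      exact (Sylow.ext (Subgroup.eq_of_le_of_card_ge hle (by rw [(hcardS R1).1, (hcardS R2).1]))).symm
    obtain ⟨u1, hu1R, hu1N, hu1D⟩ := exists_normalizer_not_mem (R1 : Subgroup G) R1.isPGroup' _ inf_le_left hDR1
    obtain ⟨u2, hu2R, hu2N, hu2D⟩ := exists_normalizer_not_mem (R2 : Subgroup G) R2.isPGroup' _ inf_le_right hDR2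
    have hqN : q ∣ Nat.card (Subgroup.normalizer (((R1 : Subgroup G) ⊓ (R2 : Subgroup G) : Subgroup G) : Set G)) := by
      by_contra hqN
      have hdvd : Nat.card (Subgroup.normalizer (((R1 : Subgroup G) ⊓ (R2 : Subgroup G) : Subgroup G) : Set G)) ∣ p ^ a * q := by
        rw [← hG]; exact Subgroup.card_subgroup_dvd_card _
      have hcop : Nat.Coprime (Nat.card (Subgroup.normalizer (((R1 : Subgroup G) ⊓ (R2 : Subgroup G) : Subgroup G) : Set G))) q :=
        (Nat.Coprime.symm ((Nat.Prime.coprime_iff_not_dvd hq).mpr hqN))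
      have hdvd' := hcop.dvd_of_dvd_mul_right hdvd
      obtain ⟨k, -, hk⟩ := (Nat.dvd_prime_pow hp).mp hdvd'
      have hNp : IsPGroup p (Subgroup.normalizer (((R1 : Subgroup G) ⊓ (R2 : Subgroup G) : Subgroup G) : Set G)) :=
        IsPGroup.of_card hk
      obtain ⟨R3, hR3⟩ := hNp.exists_le_sylow
      have e1 : R1 = R3 := by
        by_contra hne13
        have h1 := hmax' R1 R3 hne13
        have hle : (R1 : Subgroup G) ⊓ (R2 : Subgroup G) ≤ (R1 : Subgroup G) ⊓ (R3 : Subgroup G) :=
          le_inf inf_le_left (Subgroup.le_normalizer.trans hR3)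
        have heq := Subgroup.eq_of_le_of_card_ge hle h1
        apply hu1D
        rw [heq]
        exact ⟨hu1R, hR3 hu1N⟩
      have e2 : R2 = R3 := by
        by_contra hne23
        have h1 := hmax' R2 R3 hne23
        have hle : (R1 : Subgroup G) ⊓ (R2 : Subgroup G) ≤ (R2 : Subgroup G) ⊓ (R3 : Subgroup G) :=
          le_inf inf_le_right (Subgroup.le_normalizer.trans hR3)
        have heq := Subgroup.eq_of_le_of_card_ge hle h1
        apply hu2D
        rw [heq]
        exact ⟨hu2R, hR3 hu2N⟩
      exact h12 (e1.trans e2.symm)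
    have : Fact q.Prime := ⟨hq⟩
    obtain ⟨z, hz⟩ := exists_prime_orderOf_dvd_card' (G := Subgroup.normalizer (((R1 : Subgroup G) ⊓ (R2 : Subgroup G) : Subgroup G) : Set G)) q hqN
    have hzo : orderOf (z : G) = q := by rw [Subgroup.orderOf_coe]; exact hz
    have hQcard : Nat.card (Subgroup.zpowers (z : G)) = q := by rw [Nat.card_zpowers, hzo]
    have hQN : Subgroup.zpowers (z : G) ≤ Subgroup.normalizer (((R1 : Subgroup G) ⊓ (R2 : Subgroup G) : Subgroup G) : Set G) := by
      rw [Subgroup.zpowers_le]; exact z.2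
    have hcompl : Subgroup.IsComplement' (R1 : Subgroup G) (Subgroup.zpowers (z : G)) := by
      apply Subgroup.isComplement'_of_coprime
      · rw [(hcardS R1).1, hQcard, hG]
      · rw [(hcardS R1).1, hQcard]
        exact Nat.Coprime.pow_left a ((Nat.coprime_primes hp hq).mpr hpq)
    have hM : Subgroup.normalClosure (((R1 : Subgroup G) ⊓ (R2 : Subgroup G) : Subgroup G) : Set G) ≤ R1 := by
      unfold Subgroup.normalClosure
      rw [Subgroup.closure_le]
      intro x hx
      rw [Group.mem_conjugatesOfSet_iff] at hx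
      obtain ⟨d, hd, hconj⟩ := hx
      rw [isConj_iff] at hconj
      obtain ⟨g, rfl⟩ := hconj
      obtain ⟨⟨⟨y, hy⟩, ⟨x', hx'⟩⟩, hyx⟩ := hcompl.2 g
      simp only at hyx
      have hx'N := hQN hx'
      have h1 : x' * d * x'⁻¹ ∈ (R1 : Subgroup G) ⊓ (R2 : Subgroup G) :=
        (Subgroup.mem_normalizer_iff.mp hx'N d).mp hd
      have e : g * d * g⁻¹ = y * (x' * d * x'⁻¹) * y⁻¹ := by rw [← hyx]; group
      rw [SetLike.mem_coe, e]
      exact Subgroup.mul_mem _ (Subgroup.mul_mem _ hy h1.1) (Subgroup.inv_mem _ hy)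
    refine ⟨Subgroup.normalClosure (((R1 : Subgroup G) ⊓ (R2 : Subgroup G) : Subgroup G) : Set G),
      Subgroup.normalClosure_normal, ?_, ?_⟩
    · intro h
      apply hD
      rw [eq_bot_iff, ← h]
      exact Subgroup.le_normalClosure
    · intro h
      rw [h] at hM
      exact hRtop R1 (top_le_iff.mp hM)


/-- A finite group whose order is a prime power times a prime is solvable. -/
theorem result {G : Type*} [Group G] [Finite G] (p q m : ℕ) (hp : p.Prime) (hq : q.Prime)
    (hG : Nat.card G = p ^ m * q) : Group.IsSolvable G := by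
  have hC : ∀ (n : ℕ) (G : Type _) [Group G] [Finite G], Nat.card G = n →
      (∃ a b, b ≤ 1 ∧ n = p ^ a * q ^ b) → Group.IsSolvable G := by
    apply solvable_of_class (fun n => ∃ a b, b ≤ 1 ∧ n = p ^ a * q ^ b)
    · rintro n d ⟨a, b, hb, rfl⟩ hd
      obtain ⟨d1, d2, h1, h2, rfl⟩ := (Nat.dvd_mul).mp hd
      obtain ⟨a', -, rfl⟩ := (Nat.dvd_prime_pow hp).mp h1
      obtain ⟨b', hb', rfl⟩ := (Nat.dvd_prime_pow hq).mp h2
      exact ⟨a', b', by omega, rfl⟩
    · intro G _ _ hC
      obtain ⟨a, b, hb, hn⟩ := hC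
      by_cases hpq : p = q
      · left
        subst hpq
        have : Fact p.Prime := ⟨hp⟩
        have hPG : IsPGroup p G := IsPGroup.of_card (n := a + b) (by rw [hn, pow_add])
        have := hPG.isNilpotent
        infer_instance
      by_cases hb0 : b = 0
      · left
        subst hb0
        have : Fact p.Prime := ⟨hp⟩
        have hPG : IsPGroup p G := IsPGroup.of_card (n := a) (by rw [hn]; simp)
        have := hPG.isNilpotent
        infer_instance
      by_cases ha0 : a = 0
      · left
        subst ha0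
        have : Fact q.Prime := ⟨hq⟩
        have hPG : IsPGroup q G := IsPGroup.of_card (n := b) (by rw [hn]; simp)
        have := hPG.isNilpotent
        infer_instance
      right
      have hb1 : b = 1 := by omega
      subst hb1
      exact exists_normal_pmq (a := a) hp hq hpq (by omega) (show Nat.card G = p ^ a * q by rw [hn, pow_one])
  exact hC _ G rfl ⟨m, 1, le_rfl, by rw [hG, pow_one]⟩

end Cfsg.Agent.S0061
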