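import Cfsg.Statements.S0199
-- import your own Cfsg.Agent.* helpers here
import Mathlib
import Cfsg.Agent.Lib.Helper21.Basic
import Cfsg.Agent.S0061

set_option autoImplicit false
open Cfsg

namespace Cfsg.Agent.S0199


universe u

open Cfsg.Agent.Lib.Helper21

section

variable {G : Type u} [Group G] [Finite G] {p : ℕ} [Fact p.Prime]

/-- In a `p`-group generated by elements of a conjugation-invariant set `K`, a proper subgroup
generated by elements of `K` is normalized by an element of `K` outside it. -/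
theorem exists_normalizing_elt (K : Set G) (hconj : ∀ g : G, ∀ x ∈ K, g * x * g⁻¹ ∈ K)
    (P D : Subgroup G) (hP : IsPGroup p P) (hDP : D ≤ P)
    (hD : D = Subgroup.closure (K ∩ (D : Set G)))
    (hnot : ¬ (K ∩ (P : Set G) ⊆ (D : Set G))) :
    ∃ x ∈ K ∩ (P : Set G), x ∉ D ∧ x ∈ Subgroup.normalizer (D : Set G) := by
  by_contra hcon
  push Not at hcon
  have hTP : Subgroup.closure (K ∩ (P : Set G)) ≤ P :=
    (Subgroup.closure_le P).mpr Set.inter_subset_right
  have hTp : IsPGroup p (Subgroup.closure (K ∩ (P : Set G))) := hP.to_le hTP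
  have hDT : D ≤ Subgroup.closure (K ∩ (P : Set G)) := by
    have h1 : Subgroup.closure (K ∩ (D : Set G)) ≤ Subgroup.closure (K ∩ (P : Set G)) :=
      Subgroup.closure_mono (fun x hx => ⟨hx.1, hDP hx.2⟩)
    rw [← hD] at h1
    exact h1
  have hsub : K ∩ ((Subgroup.normalizer (D : Set G) ⊓ Subgroup.closure (K ∩ (P : Set G)) :
      Subgroup G) : Set G) ⊆ (D : Set G) := by
    rintro x ⟨hxK, hxN, hxT⟩
    by_contra hxD
    exact hcon x ⟨hxK, hTP hxT⟩ hxD hxN
  have hD₁eq : Subgroup.normalizer (D : Set G) ⊓ Subgroup.closure (K ∩ (P : Set G))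
      = Subgroup.closure (K ∩ (P : Set G)) := by
    by_contra hne
    obtain ⟨u, huT, huN, huD₁⟩ := Cfsg.Agent.S0061.exists_normalizer_not_mem
      (Subgroup.closure (K ∩ (P : Set G))) hTp _ inf_le_right hne
    apply huD₁
    refine ⟨?_, huT⟩
    change u ∈ Subgroup.normalizer (D : Set G)
    rw [mem_normalizer_iff_map]
    have hle : D.map (MulAut.conj u).toMonoidHom ≤ D := by
      have h2 : (Subgroup.closure (K ∩ (D : Set G))).map (MulAut.conj u).toMonoidHom ≤ D := by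
        rw [MonoidHom.map_closure, Subgroup.closure_le]
        rintro _ ⟨x, ⟨hxK, hxD⟩, rfl⟩
        apply hsub
        refine ⟨hconj u x hxK, ?_⟩
        have hxD₁ : x ∈ Subgroup.normalizer (D : Set G) ⊓ Subgroup.closure (K ∩ (P : Set G)) :=
          ⟨Subgroup.le_normalizer hxD, hDT hxD⟩
        exact (Subgroup.mem_normalizer_iff.mp huN x).mp hxD₁
      rw [← hD] at h2
      exact h2
    exact Subgroup.eq_of_le_of_card_ge hle (le_of_eq (card_map_conj D u).symm)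
  apply hnot
  intro x hx
  apply hsub
  refine ⟨hx.1, ?_⟩
  rw [hD₁eq]
  exact Subgroup.subset_closure hx

theorem sylow_conj (P Q : Sylow p G) :
    ∃ g : G, (Q : Subgroup G) = (P : Subgroup G).map (MulAut.conj g).toMonoidHom := by
  obtain ⟨g, rfl⟩ := MulAction.exists_smul_eq G P Q
  exact ⟨g, rfl⟩

theorem ncard_inter_sylow (K : Set G) (hconj : ∀ g : G, ∀ x ∈ K, g * x * g⁻¹ ∈ K)
    (P Q : Sylow p G) :
    (K ∩ ((P : Subgroup G) : Set G)).ncard = (K ∩ ((Q : Subgroup G) : Set G)).ncard := by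
  obtain ⟨g, hg⟩ := sylow_conj P Q
  have himg : (fun x => g * x * g⁻¹) '' (K ∩ ((P : Subgroup G) : Set G))
      = K ∩ ((Q : Subgroup G) : Set G) := by
    ext y
    constructor
    · rintro ⟨x, ⟨hxK, hxP⟩, rfl⟩
      refine ⟨hconj g x hxK, ?_⟩
      rw [hg]
      exact conj_mem_map_conj _ g hxP
    · rintro ⟨hyK, hyQ⟩
      refine ⟨g⁻¹ * y * g, ⟨?_, ?_⟩, by group⟩
      · have h1 := hconj g⁻¹ y hyK
        rwa [inv_inv] at h1
      · rw [hg] at hyQ
        exact (mem_map_conj _ g y).mp hyQ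
  rw [← himg, Set.ncard_image_of_injective]
  intro a b hab
  simpa using hab

/-- Alperin–Lyons: all Sylow `p`-subgroups meet `K` in the same set. -/
theorem baer_suzuki_inter (K : Set G) (hconj : ∀ g : G, ∀ x ∈ K, g * x * g⁻¹ ∈ K)
    (hpair : ∀ x ∈ K, ∀ y ∈ K, IsPGroup p (Subgroup.closure ({x, y} : Set G))) :
    ∀ P Q : Sylow p G, K ∩ ((P : Subgroup G) : Set G) = K ∩ ((Q : Subgroup G) : Set G) := by
  by_contra hcon
  push Not at hcon
  obtain ⟨P₀, Q₀, hPQ₀⟩ := hcon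
  have hSne : Nonempty {pq : Sylow p G × Sylow p G //
      K ∩ ((pq.1 : Subgroup G) : Set G) ≠ K ∩ ((pq.2 : Subgroup G) : Set G)} :=
    ⟨⟨(P₀, Q₀), hPQ₀⟩⟩
  obtain ⟨⟨⟨P, Q⟩, hPQ⟩, hmax⟩ := Finite.exists_max
    (fun pq : {pq : Sylow p G × Sylow p G //
      K ∩ ((pq.1 : Subgroup G) : Set G) ≠ K ∩ ((pq.2 : Subgroup G) : Set G)} =>
      (K ∩ ((pq.1.1 : Subgroup G) : Set G) ∩ ((pq.1.2 : Subgroup G) : Set G)).ncard)
  have hPQ : K ∩ ((P : Subgroup G) : Set G) ≠ K ∩ ((Q : Subgroup G) : Set G) := hPQ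
  have hmax' : ∀ P' Q' : Sylow p G,
      K ∩ ((P' : Subgroup G) : Set G) ≠ K ∩ ((Q' : Subgroup G) : Set G) →
      (K ∩ ((P' : Subgroup G) : Set G) ∩ ((Q' : Subgroup G) : Set G)).ncard
        ≤ (K ∩ ((P : Subgroup G) : Set G) ∩ ((Q : Subgroup G) : Set G)).ncard :=
    fun P' Q' h => hmax ⟨(P', Q'), h⟩
  have hDP : Subgroup.closure (K ∩ ((P : Subgroup G) : Set G) ∩ ((Q : Subgroup G) : Set G)) ≤ P :=
    (Subgroup.closure_le _).mpr (fun x hx => hx.1.2)
  have hDQ : Subgroup.closure (K ∩ ((P : Subgroup G) : Set G) ∩ ((Q : Subgroup G) : Set G)) ≤ Q :=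
    (Subgroup.closure_le _).mpr (fun x hx => hx.2)
  have hKD : K ∩ ((Subgroup.closure (K ∩ ((P : Subgroup G) : Set G) ∩ ((Q : Subgroup G) : Set G)) :
      Subgroup G) : Set G) = K ∩ ((P : Subgroup G) : Set G) ∩ ((Q : Subgroup G) : Set G) := by
    ext x
    constructor
    · rintro ⟨hxK, hxD⟩
      exact ⟨⟨hxK, hDP hxD⟩, hDQ hxD⟩
    · rintro ⟨⟨hxK, hxP⟩, hxQ⟩
      exact ⟨hxK, Subgroup.subset_closure ⟨⟨hxK, hxP⟩, hxQ⟩⟩
  have hDeq : Subgroup.closure (K ∩ ((P : Subgroup G) : Set G) ∩ ((Q : Subgroup G) : Set G))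
      = Subgroup.closure (K ∩ ((Subgroup.closure
        (K ∩ ((P : Subgroup G) : Set G) ∩ ((Q : Subgroup G) : Set G)) : Subgroup G) : Set G)) := by
    rw [hKD]
  have hcard := ncard_inter_sylow K hconj P Q
  have hnotP : ¬ (K ∩ ((P : Subgroup G) : Set G) ⊆ ((Subgroup.closure
      (K ∩ ((P : Subgroup G) : Set G) ∩ ((Q : Subgroup G) : Set G)) : Subgroup G) : Set G)) := by
    intro hsub
    apply hPQ
    apply Set.eq_of_subset_of_ncard_le _ (le_of_eq hcard.symm) (Set.toFinite _)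
    intro x hx
    exact ⟨hx.1, hDQ (hsub hx)⟩
  have hnotQ : ¬ (K ∩ ((Q : Subgroup G) : Set G) ⊆ ((Subgroup.closure
      (K ∩ ((P : Subgroup G) : Set G) ∩ ((Q : Subgroup G) : Set G)) : Subgroup G) : Set G)) := by
    intro hsub
    apply hPQ
    symm
    apply Set.eq_of_subset_of_ncard_le _ (le_of_eq hcard) (Set.toFinite _)
    intro x hx
    exact ⟨hx.1, hDP (hsub hx)⟩
  obtain ⟨x, hx, hxD, hxN⟩ := exists_normalizing_elt K hconj P _ P.isPGroup' hDP hDeq hnotP
  obtain ⟨y, hy, hyD, hyN⟩ := exists_normalizing_elt K hconj Q _ Q.isPGroup' hDQ hDeq hnotQ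
  have hJ : IsPGroup p (Subgroup.closure ({x, y} : Set G)) := hpair x hx.1 y hy.1
  have hJN : Subgroup.closure ({x, y} : Set G) ≤ Subgroup.normalizer
      ((Subgroup.closure (K ∩ ((P : Subgroup G) : Set G) ∩ ((Q : Subgroup G) : Set G)) :
        Subgroup G) : Set G) := by
    rw [Subgroup.closure_le]
    rintro z (rfl | rfl)
    · exact hxN
    · exact hyN
  have hDJ := hJ.to_sup_of_normal_right' (P.isPGroup'.to_le hDP) hJN
  obtain ⟨R, hR⟩ := hDJ.exists_le_sylow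
  have hxR : x ∈ (R : Subgroup G) :=
    hR (Subgroup.mem_sup_left (Subgroup.subset_closure (by simp)))
  have hyR : y ∈ (R : Subgroup G) :=
    hR (Subgroup.mem_sup_left (Subgroup.subset_closure (by simp)))
  have hDR : Subgroup.closure (K ∩ ((P : Subgroup G) : Set G) ∩ ((Q : Subgroup G) : Set G)) ≤ R :=
    le_sup_right.trans hR
  have hRP : K ∩ ((R : Subgroup G) : Set G) = K ∩ ((P : Subgroup G) : Set G) := by
    by_contra hne
    have h1 := hmax' R P hne
    have h2 : (K ∩ ((P : Subgroup G) : Set G) ∩ ((Q : Subgroup G) : Set G)).ncard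
        < (K ∩ ((R : Subgroup G) : Set G) ∩ ((P : Subgroup G) : Set G)).ncard := by
      apply Set.ncard_lt_ncard _ (Set.toFinite _)
      constructor
      · intro z hz
        exact ⟨⟨hz.1.1, hDR (Subgroup.subset_closure hz)⟩, hz.1.2⟩
      · intro hsub
        apply hxD
        exact Subgroup.subset_closure (hsub ⟨⟨hx.1, hxR⟩, hx.2⟩)
    omega
  have hRQ : K ∩ ((R : Subgroup G) : Set G) = K ∩ ((Q : Subgroup G) : Set G) := by
    by_contra hne
    have h1 := hmax' R Q hne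
    have h2 : (K ∩ ((P : Subgroup G) : Set G) ∩ ((Q : Subgroup G) : Set G)).ncard
        < (K ∩ ((R : Subgroup G) : Set G) ∩ ((Q : Subgroup G) : Set G)).ncard := by
      apply Set.ncard_lt_ncard _ (Set.toFinite _)
      constructor
      · intro z hz
        exact ⟨⟨hz.1.1, hDR (Subgroup.subset_closure hz)⟩, hz.2⟩
      · intro hsub
        apply hyD
        exact Subgroup.subset_closure (hsub ⟨⟨hy.1, hyR⟩, hy.2⟩)
    omega
  exact hPQ (hRP.symm.trans hRQ)

/-- **Baer–Suzuki**, set form: a conjugation-invariant set any two of whose elements generate a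
`p`-group lies in a normal `p`-subgroup. -/
theorem baer_suzuki_set (K : Set G) (hconj : ∀ g : G, ∀ x ∈ K, g * x * g⁻¹ ∈ K)
    (hpair : ∀ x ∈ K, ∀ y ∈ K, IsPGroup p (Subgroup.closure ({x, y} : Set G))) :
    ∃ N : Subgroup G, N.Normal ∧ IsPGroup p N ∧ K ⊆ (N : Set G) := by
  obtain ⟨P⟩ : Nonempty (Sylow p G) := inferInstance
  have hKP : K ⊆ ((P : Subgroup G) : Set G) := by
    intro x hx
    have hx1 : IsPGroup p (Subgroup.closure ({x, x} : Set G)) := hpair x hx x hx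
    obtain ⟨R, hR⟩ := hx1.exists_le_sylow
    have hxR : x ∈ K ∩ ((R : Subgroup G) : Set G) :=
      ⟨hx, hR (Subgroup.subset_closure (by simp))⟩
    rw [baer_suzuki_inter K hconj hpair R P] at hxR
    exact hxR.2
  refine ⟨Subgroup.normalClosure K, Subgroup.normalClosure_normal, ?_,
    Subgroup.subset_normalClosure⟩
  apply P.isPGroup'.to_le
  change Subgroup.closure (Group.conjugatesOfSet K) ≤ P
  rw [Subgroup.closure_le]
  intro z hz
  rw [Group.mem_conjugatesOfSet_iff] at hz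
  obtain ⟨a, ha, hconj'⟩ := hz
  obtain ⟨c, rfl⟩ := isConj_iff.mp hconj'
  exact hKP (hconj c a ha)

/-- **Baer–Suzuki**, subgroup form. -/
theorem baer_suzuki (X : Subgroup G)
    (h : ∀ g : G, IsPGroup p ↥(X ⊔ X.map (MulAut.conj g).toMonoidHom)) :
    ∃ N : Subgroup G, N.Normal ∧ IsPGroup p N ∧ X ≤ N := by
  have hconj : ∀ g : G, ∀ z ∈ {z : G | ∃ g : G, ∃ x ∈ X, z = g * x * g⁻¹},
      g * z * g⁻¹ ∈ {z : G | ∃ g : G, ∃ x ∈ X, z = g * x * g⁻¹} := by
    rintro g _ ⟨a, x, hx, rfl⟩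
    exact ⟨g * a, x, hx, by group⟩
  have hpair : ∀ z ∈ {z : G | ∃ g : G, ∃ x ∈ X, z = g * x * g⁻¹},
      ∀ w ∈ {z : G | ∃ g : G, ∃ x ∈ X, z = g * x * g⁻¹},
      IsPGroup p (Subgroup.closure ({z, w} : Set G)) := by
    rintro _ ⟨a, x, hx, rfl⟩ _ ⟨b, y, hy, rfl⟩
    have h1 : IsPGroup p ((X ⊔ X.map (MulAut.conj (a⁻¹ * b)).toMonoidHom).map
        (MulAut.conj a).toMonoidHom) := (h (a⁻¹ * b)).map _
    apply h1.to_le
    rw [Subgroup.closure_le]
    rintro z (rfl | rfl)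
    · exact ⟨x, Subgroup.mem_sup_left hx, rfl⟩
    · refine ⟨(a⁻¹ * b) * y * (a⁻¹ * b)⁻¹, Subgroup.mem_sup_right ⟨y, hy, rfl⟩, ?_⟩
      change a * ((a⁻¹ * b) * y * (a⁻¹ * b)⁻¹) * a⁻¹ = b * y * b⁻¹
      group
  obtain ⟨N, hN, hNp, hKN⟩ := baer_suzuki_set _ hconj hpair
  exact ⟨N, hN, hNp, fun x hx => hKN ⟨1, x, hx, by simp⟩⟩

end


/-- Baer–Suzuki Theorem: a p-subgroup X of a finite group such that X and any of its conjugates generate a p-group is contained in a normal p-subgroup. -/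
theorem result {G : Type*} [Group G] [Finite G] {p : ℕ} [Fact p.Prime] (X : Subgroup G) (hX : IsPGroup p X) (h : ∀ g : G, IsPGroup p ↥(X ⊔ X.map (MulAut.conj g).toMonoidHom)) : ∃ N : Subgroup G, N.Normal ∧ IsPGroup p N ∧ X ≤ N := by
  exact baer_suzuki X h

end Cfsg.Agent.S0199
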