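import Cfsg.Statements.S2308
import Cfsg.Agent.Lib.Helper15.GL2

set_option autoImplicit false
open Cfsg

namespace Cfsg.Agent.S2308

open Cfsg.Agent.Lib.Helper15

variable {F : Type*} [Field F]

theorem mem_B_iff (b : GL (Fin 2) F) :
    b ∈ Cfsg.upperTriangularGL 2 F ↔ (b : Matrix (Fin 2) (Fin 2) F) 1 0 = 0 := by
  change (b : Matrix (Fin 2) (Fin 2) F).BlockTriangular id ↔ _
  constructor
  · intro h
    exact h (show id (0 : Fin 2) < id (1 : Fin 2) by decide)
  · intro h i j hij
    fin_cases i <;> fin_cases j <;> simp_all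

theorem det_ne_zero' (x : GL (Fin 2) F) :
    (x : Matrix (Fin 2) (Fin 2) F) 0 0 * (x : Matrix (Fin 2) (Fin 2) F) 1 1 -
      (x : Matrix (Fin 2) (Fin 2) F) 0 1 * (x : Matrix (Fin 2) (Fin 2) F) 1 0 ≠ 0 := by
  have := ((Matrix.isUnit_iff_isUnit_det _).mp x.isUnit).ne_zero
  rwa [Matrix.det_fin_two] at this

theorem inv_mul_mem_B_iff (x y : GL (Fin 2) F) :
    x⁻¹ * y ∈ Cfsg.upperTriangularGL 2 F ↔
      (x : Matrix (Fin 2) (Fin 2) F) 0 0 * (y : Matrix (Fin 2) (Fin 2) F) 1 0 =
        (x : Matrix (Fin 2) (Fin 2) F) 1 0 * (y : Matrix (Fin 2) (Fin 2) F) 0 0 := by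
  rw [mem_B_iff]
  set b := x⁻¹ * y with hb
  have hy : y = x * b := by rw [hb]; group
  have h00 : (y : Matrix (Fin 2) (Fin 2) F) 0 0 = (x : Matrix (Fin 2) (Fin 2) F) 0 0 * (b : Matrix (Fin 2) (Fin 2) F) 0 0 +
      (x : Matrix (Fin 2) (Fin 2) F) 0 1 * (b : Matrix (Fin 2) (Fin 2) F) 1 0 := by
    rw [hy, Units.val_mul, Matrix.mul_apply, Fin.sum_univ_two]
  have h10 : (y : Matrix (Fin 2) (Fin 2) F) 1 0 = (x : Matrix (Fin 2) (Fin 2) F) 1 0 * (b : Matrix (Fin 2) (Fin 2) F) 0 0 +
      (x : Matrix (Fin 2) (Fin 2) F) 1 1 * (b : Matrix (Fin 2) (Fin 2) F) 1 0 := by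
    rw [hy, Units.val_mul, Matrix.mul_apply, Fin.sum_univ_two]
  have hd := det_ne_zero' x
  rw [h00, h10]
  constructor
  · intro h
    rw [h]; ring
  · intro h
    have : ((x : Matrix (Fin 2) (Fin 2) F) 0 0 * (x : Matrix (Fin 2) (Fin 2) F) 1 1 -
      (x : Matrix (Fin 2) (Fin 2) F) 0 1 * (x : Matrix (Fin 2) (Fin 2) F) 1 0) * (b : Matrix (Fin 2) (Fin 2) F) 1 0 = 0 := by
      linear_combination h
    exact (mul_eq_zero.mp this).resolve_left hd

open Classical in
/-- The point of the projective line given by the first column. -/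
noncomputable def col (x : GL (Fin 2) F) : Option F :=
  if (x : Matrix (Fin 2) (Fin 2) F) 0 0 = 0 then none
  else some ((x : Matrix (Fin 2) (Fin 2) F) 1 0 / (x : Matrix (Fin 2) (Fin 2) F) 0 0)

theorem col_eq_iff (x y : GL (Fin 2) F) :
    col x = col y ↔
      (x : Matrix (Fin 2) (Fin 2) F) 0 0 * (y : Matrix (Fin 2) (Fin 2) F) 1 0 =
        (x : Matrix (Fin 2) (Fin 2) F) 1 0 * (y : Matrix (Fin 2) (Fin 2) F) 0 0 := by
  have hdx := det_ne_zero' x
  have hdy := det_ne_zero' y
  unfold col
  by_cases hx : (x : Matrix (Fin 2) (Fin 2) F) 0 0 = 0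
  · have hx1 : (x : Matrix (Fin 2) (Fin 2) F) 1 0 ≠ 0 := by
      intro h
      apply hdx
      rw [hx, h]; ring
    by_cases hy : (y : Matrix (Fin 2) (Fin 2) F) 0 0 = 0
    · simp [hx, hy]
    · simp [hx, hy, hx1]
  · by_cases hy : (y : Matrix (Fin 2) (Fin 2) F) 0 0 = 0
    · have hy1 : (y : Matrix (Fin 2) (Fin 2) F) 1 0 ≠ 0 := by
        intro h
        apply hdy
        rw [hy, h]; ring
      simp [hx, hy, hy1]
    · simp only [if_neg hx, if_neg hy, Option.some.injEq]
      rw [div_eq_div_iff hx hy]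
      constructor
      · intro h; linear_combination (-1 : F) * h
      · intro h; linear_combination (-1 : F) * h

/-- The coset space of the Borel subgroup is the projective line. -/
noncomputable def cosetEquiv : (GL (Fin 2) F ⧸ Cfsg.upperTriangularGL 2 F) ≃ Option F := by
  refine Equiv.ofBijective (Quotient.lift col ?_) ⟨?_, ?_⟩
  · intro a b h
    have h' : a⁻¹ * b ∈ Cfsg.upperTriangularGL 2 F := QuotientGroup.leftRel_apply.mp h
    exact (col_eq_iff a b).mpr ((inv_mul_mem_B_iff a b).mp h')
  · intro a b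
    induction a using Quotient.inductionOn with | _ a => ?_
    induction b using Quotient.inductionOn with | _ b => ?_
    intro h
    apply Quotient.sound
    apply QuotientGroup.leftRel_apply.mpr
    exact (inv_mul_mem_B_iff a b).mpr ((col_eq_iff a b).mp h)
  · intro o
    cases o with
    | none =>
      have hu : IsUnit (!![(0 : F), 1; 1, 0]).det := by simp [Matrix.det_fin_two_of]
      refine ⟨Quotient.mk _ (Matrix.GeneralLinearGroup.mk'' _ hu), ?_⟩
      simp [col]
    | some c =>
      have hu : IsUnit (!![(1 : F), 0; c, 1]).det := by simp [Matrix.det_fin_two_of]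
      refine ⟨Quotient.mk _ (Matrix.GeneralLinearGroup.mk'' _ hu), ?_⟩
      simp [col]

theorem cosetEquiv_mk (x : GL (Fin 2) F) :
    cosetEquiv (QuotientGroup.mk x : GL (Fin 2) F ⧸ Cfsg.upperTriangularGL 2 F) = col x := rfl

/-- The condition for a point of the projective line to be fixed. -/
def lineQ (g : GL (Fin 2) F) (o : Option F) : Prop :=
  o.elim (qf (g : Matrix (Fin 2) (Fin 2) F) 0 1 = 0) (fun c => qf (g : Matrix (Fin 2) (Fin 2) F) 1 c = 0)

theorem mem_fixedBy_iff (g : GL (Fin 2) F) (c : GL (Fin 2) F ⧸ Cfsg.upperTriangularGL 2 F) :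
    c ∈ MulAction.fixedBy (GL (Fin 2) F ⧸ Cfsg.upperTriangularGL 2 F) g ↔ lineQ g (cosetEquiv c) := by
  induction c using QuotientGroup.induction_on with | _ x => ?_
  rw [MulAction.mem_fixedBy, MulAction.Quotient.smul_mk, cosetEquiv_mk, QuotientGroup.eq,
    inv_mul_mem_B_iff, smul_eq_mul, Units.val_mul, Matrix.mul_apply, Matrix.mul_apply, Fin.sum_univ_two,
    Fin.sum_univ_two]
  have hdx := det_ne_zero' x
  unfold col lineQ
  by_cases hx : (x : Matrix (Fin 2) (Fin 2) F) 0 0 = 0
  · have hx1 : (x : Matrix (Fin 2) (Fin 2) F) 1 0 ≠ 0 := by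
      intro h
      apply hdx
      rw [hx, h]; ring
    rw [if_pos hx, Option.elim_none, hx]
    simp only [qf]
    constructor
    · intro h
      have : (x : Matrix (Fin 2) (Fin 2) F) 1 0 ^ 2 * (g : Matrix (Fin 2) (Fin 2) F) 0 1 = 0 := by
        linear_combination h
      have h2 := (mul_eq_zero.mp this).resolve_left (pow_ne_zero 2 hx1)
      rw [h2]; ring
    · intro h
      have h2 : (g : Matrix (Fin 2) (Fin 2) F) 0 1 = 0 := by linear_combination (-1 : F) * h
      rw [h2]; ring
  · simp only [if_neg hx, Option.elim_some, qf]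
    constructor
    · intro h
      field_simp
      linear_combination (-1 : F) * h
    · intro h
      field_simp at h
      linear_combination (-1 : F) * h

theorem fixedPointCharacter_eq (g : GL (Fin 2) F) :
    Cfsg.fixedPointCharacter (Cfsg.upperTriangularGL 2 F) g = (Nat.card {o : Option F // lineQ g o} : ℂ) := by
  unfold Cfsg.fixedPointCharacter
  congr 1
  exact Nat.card_congr (Equiv.subtypeEquiv cosetEquiv (mem_fixedBy_iff g))

/-- Values of the permutation character of GL₂ over a finite field F with q elements on the cosets of its upper triangular subgroup (equivalently, the number of lines of F² that an element maps to themselves): q + 1 at a scalar matrix, 2 at a diagonal matrix with two different diagonal entries, 0 at an element with no eigenvector in F², and 1 at an upper triangular matrix with equal diagonal entries and non-zero upper right entry. -/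
theorem result {F : Type*} [Field F] [Fintype F] (g : Matrix.GeneralLinearGroup (Fin 2) F) :
    ((∃ a : F, (g : Matrix (Fin 2) (Fin 2) F) = a • (1 : Matrix (Fin 2) (Fin 2) F)) → Cfsg.fixedPointCharacter (Cfsg.upperTriangularGL 2 F) g = Fintype.card F + 1) ∧
    ((g : Matrix (Fin 2) (Fin 2) F) 0 1 = 0 → (g : Matrix (Fin 2) (Fin 2) F) 1 0 = 0 → (g : Matrix (Fin 2) (Fin 2) F) 0 0 ≠ (g : Matrix (Fin 2) (Fin 2) F) 1 1 →
      Cfsg.fixedPointCharacter (Cfsg.upperTriangularGL 2 F) g = 2) ∧
    ((∀ (c : F) (v : Fin 2 → F), v ≠ 0 → (g : Matrix (Fin 2) (Fin 2) F).mulVec v ≠ c • v) → Cfsg.fixedPointCharacter (Cfsg.upperTriangularGL 2 F) g = 0) ∧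
    ((g : Matrix (Fin 2) (Fin 2) F) 1 0 = 0 → (g : Matrix (Fin 2) (Fin 2) F) 0 0 = (g : Matrix (Fin 2) (Fin 2) F) 1 1 → (g : Matrix (Fin 2) (Fin 2) F) 0 1 ≠ 0 →
      Cfsg.fixedPointCharacter (Cfsg.upperTriangularGL 2 F) g = 1) := by
  classical
  rw [fixedPointCharacter_eq]
  refine ⟨?_, ?_, ?_, ?_⟩
  · rintro ⟨a, ha⟩
    have h1 : ∀ o : Option F, lineQ g o := by
      intro o
      cases o <;> simp [lineQ, qf, ha]
    have : Nat.card {o : Option F // lineQ g o} = Fintype.card F + 1 := by
      rw [Nat.card_congr (Equiv.subtypeUnivEquiv h1), Nat.card_eq_fintype_card, Fintype.card_option]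
    rw [this]; push_cast; ring
  · intro g01 g10 hne
    have hsub : (g : Matrix (Fin 2) (Fin 2) F) 1 1 - (g : Matrix (Fin 2) (Fin 2) F) 0 0 ≠ 0 :=
      sub_ne_zero.mpr (Ne.symm hne)
    have h1 : {o : Option F | lineQ g o} = {none, some 0} := by
      ext o
      cases o with
      | none => simp [lineQ, qf, g01]
      | some c => simp [lineQ, qf, g01, g10, hsub]
    have : Nat.card {o : Option F // lineQ g o} = 2 := by
      change Nat.card ↥{o : Option F | lineQ g o} = 2
      rw [h1, Nat.card_coe_set_eq, Set.ncard_pair (by simp)]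
    rw [this]; norm_num
  · intro hev
    have key : ∀ x y : F, (x ≠ 0 ∨ y ≠ 0) → qf (g : Matrix (Fin 2) (Fin 2) F) x y ≠ 0 := by
      intro x y hxy hq
      have hv : ![x, y] ≠ 0 := by
        intro h
        have h0 := congrFun h 0
        have h1 := congrFun h 1
        simp at h0 h1
        rcases hxy with h | h
        · exact h h0
        · exact h h1
      simp only [qf] at hq
      by_cases hx : x = 0
      · have hy : y ≠ 0 := by
          rcases hxy with h | h
          · exact absurd hx h
          · exact h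
        apply hev (((g : Matrix (Fin 2) (Fin 2) F) 1 0 * x + (g : Matrix (Fin 2) (Fin 2) F) 1 1 * y) / y) ![x, y] hv
        ext i
        fin_cases i
        · simp [Matrix.mulVec, dotProduct, Fin.sum_univ_two, hx]
          rw [hx] at hq
          have : (g : Matrix (Fin 2) (Fin 2) F) 0 1 * y ^ 2 = 0 := by linear_combination (-1 : F) * hq
          have h3 := (mul_eq_zero.mp this).resolve_right (pow_ne_zero 2 hy)
          simp [h3]
        · simp [Matrix.mulVec, dotProduct, Fin.sum_univ_two]
          field_simp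
      · apply hev (((g : Matrix (Fin 2) (Fin 2) F) 0 0 * x + (g : Matrix (Fin 2) (Fin 2) F) 0 1 * y) / x) ![x, y] hv
        ext i
        fin_cases i
        · simp [Matrix.mulVec, dotProduct, Fin.sum_univ_two]
          field_simp
        · simp [Matrix.mulVec, dotProduct, Fin.sum_univ_two]
          field_simp
          linear_combination hq
    have h1 : ∀ o : Option F, ¬ lineQ g o := by
      intro o
      cases o with
      | none => exact key 0 1 (Or.inr one_ne_zero)
      | some c => exact key 1 c (Or.inl one_ne_zero)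
    have : IsEmpty {o : Option F // lineQ g o} := ⟨fun o => h1 o.1 o.2⟩
    rw [Nat.card_of_isEmpty]; norm_num
  · intro g10 g00 g01
    have h1 : {o : Option F | lineQ g o} = {some 0} := by
      ext o
      cases o with
      | none => simp [lineQ, qf, g01]
      | some c => simp [lineQ, qf, g01, g10, g00]
    have : Nat.card {o : Option F // lineQ g o} = 1 := by
      change Nat.card ↥{o : Option F | lineQ g o} = 1
      rw [h1, Nat.card_coe_set_eq, Set.ncard_singleton]
    rw [this]; norm_num

end Cfsg.Agent.S2308
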