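import Mathlib
import Cfsg.Statements.S0148
import Cfsg.Agent.Lib.Helper2.CharMore

set_option autoImplicit false
open Cfsg

namespace Cfsg.Agent.S0148

open Cfsg.Agent.Lib.Helper2

/-- Inducing a character of a subgroup yields a character of the whole group. -/
theorem result {G : Type*} [Group G] [Fintype G] (H : Subgroup G) (θ : H → ℂ) (hθ : Cfsg.IsCharacter H θ) : Cfsg.IsCharacter G (Cfsg.indFun H θ) := by
  have := Fintype.ofFinite H
  apply isCharacter_of_nat_inner _ (indFun_isClassFunction H θ)
  intro ψ hψ
  rw [frobenius_reciprocity H θ ψ (isClassFunction_of_isIrrCharacter hψ)]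
  exact classInner_isCharacter_nat hθ (IsCharacter.restrict (isCharacter_of_isIrrCharacter hψ) H)

end Cfsg.Agent.S0148
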