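import Cfsg.Statements.S0764

set_option autoImplicit false
open Cfsg

namespace Cfsg.Agent.S0764

open Matrix in
theorem J_mulVec_J_mulVec {F : Type*} [CommRing F] (m : ℕ) (v : Fin m ⊕ Fin m → F) :
    Matrix.J (Fin m) F *ᵥ (Matrix.J (Fin m) F *ᵥ v) = -v := by
  rw [Matrix.mulVec_mulVec, Matrix.J_squared, Matrix.neg_mulVec, Matrix.one_mulVec]

open Matrix in
theorem J_mulVec_vecMul_J {F : Type*} [CommRing F] (m : ℕ) (v : Fin m ⊕ Fin m → F) :
    (Matrix.J (Fin m) F *ᵥ v) ᵥ* Matrix.J (Fin m) F = v := by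
  have h : (Matrix.J (Fin m) F *ᵥ v) = v ᵥ* (Matrix.J (Fin m) F)ᵀ := by
    rw [Matrix.vecMul_transpose]
  rw [h, Matrix.vecMul_vecMul, Matrix.J_transpose, Matrix.neg_mul, Matrix.J_squared, neg_neg,
    Matrix.vecMul_one]

open Matrix in
theorem dotProduct_J_mulVec_self {F : Type*} [CommRing F] (m : ℕ) (v : Fin m ⊕ Fin m → F) :
    v ⬝ᵥ (Matrix.J (Fin m) F *ᵥ v) = 0 := by
  simp only [Matrix.J, dotProduct, Matrix.mulVec, Fintype.sum_sum_type, Matrix.fromBlocks_apply₁₁,
    Matrix.fromBlocks_apply₁₂, Matrix.fromBlocks_apply₂₁, Matrix.fromBlocks_apply₂₂, Matrix.zero_apply,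
    zero_mul, Finset.sum_const_zero, zero_add, add_zero, Matrix.neg_apply, Matrix.one_apply, neg_mul,
    ite_mul, one_mul, Finset.sum_neg_distrib, Finset.sum_ite_eq, Finset.mem_univ, if_true, mul_neg]
  rw [← sub_eq_neg_add]
  rw [sub_eq_zero]
  apply Finset.sum_congr rfl
  intro i _
  ring

/-- Symplectic transvections are isometries: for every vector v and scalar c the matrix of x ↦ x + c f(x, v) v lies in the symplectic group. -/
theorem result {F : Type*} [Field F] (m : ℕ) (v : Fin m ⊕ Fin m → F) (c : F) : Cfsg.sympTransvection m v c ∈ Matrix.symplecticGroup (Fin m) F := by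
  rw [SymplecticGroup.mem_iff]
  unfold Cfsg.sympTransvection
  set w := Matrix.mulVec (Matrix.J (Fin m) F) v with hw
  rw [Matrix.transpose_add, Matrix.transpose_one, Matrix.transpose_smul, Matrix.transpose_vecMulVec]
  rw [add_mul, one_mul, mul_add, mul_one, add_mul]
  rw [Matrix.smul_mul, Matrix.vecMulVec_mul, Matrix.mul_smul, Matrix.mul_vecMulVec,
    Matrix.smul_mul, Matrix.mul_smul, Matrix.vecMulVec_mul_vecMulVec]
  rw [hw, J_mulVec_vecMul_J, J_mulVec_J_mulVec, dotProduct_J_mulVec_self]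
  simp

end Cfsg.Agent.S0764
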