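import Mathlib
import Cfsg.Statements.S0766
import Cfsg.Agent.S0764

set_option autoImplicit false
open Cfsg

namespace Cfsg.Agent.S0766

open Matrix

theorem form_add_left {F : Type*} [Field F] (m : ℕ) (x y z : Fin m ⊕ Fin m → F) :
    sympForm m F (x + y) z = sympForm m F x z + sympForm m F y z := by
  unfold sympForm; rw [add_dotProduct]

theorem form_add_right {F : Type*} [Field F] (m : ℕ) (x y z : Fin m ⊕ Fin m → F) :
    sympForm m F x (y + z) = sympForm m F x y + sympForm m F x z := by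
  unfold sympForm; rw [Matrix.mulVec_add, dotProduct_add]

theorem form_sub_right {F : Type*} [Field F] (m : ℕ) (x y z : Fin m ⊕ Fin m → F) :
    sympForm m F x (y - z) = sympForm m F x y - sympForm m F x z := by
  unfold sympForm; rw [Matrix.mulVec_sub, dotProduct_sub]

theorem form_self {F : Type*} [Field F] (m : ℕ) (x : Fin m ⊕ Fin m → F) :
    sympForm m F x x = 0 := Cfsg.Agent.S0764.dotProduct_J_mulVec_self m x

theorem form_swap {F : Type*} [Field F] (m : ℕ) (x y : Fin m ⊕ Fin m → F) :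
    sympForm m F x y = - sympForm m F y x := by
  have h := form_self m (x + y)
  rw [form_add_left, form_add_right, form_add_right, form_self, form_self] at h
  linear_combination h

theorem form_nondeg {F : Type*} [Field F] (m : ℕ) (x : Fin m ⊕ Fin m → F) (hx : x ≠ 0) :
    ∃ y, sympForm m F x y ≠ 0 := by
  obtain ⟨i, hi⟩ : ∃ i, x i ≠ 0 := by
    by_contra hcon
    push Not at hcon
    exact hx (funext hcon)
  refine ⟨Matrix.J (Fin m) F *ᵥ Pi.single i 1, ?_⟩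
  unfold sympForm
  rw [Cfsg.Agent.S0764.J_mulVec_J_mulVec]
  simpa using hi

theorem form_pres {F : Type*} [Field F] (m : ℕ) (A : Matrix.symplecticGroup (Fin m) F)
    (x y : Fin m ⊕ Fin m → F) :
    sympForm m F ((A : Matrix (Fin m ⊕ Fin m) (Fin m ⊕ Fin m) F) *ᵥ x)
      ((A : Matrix (Fin m ⊕ Fin m) (Fin m ⊕ Fin m) F) *ᵥ y) = sympForm m F x y := by
  have hA := SymplecticGroup.mem_iff'.mp A.2
  unfold sympForm
  have e : ∀ (z : Fin m ⊕ Fin m → F),
      ((A : Matrix (Fin m ⊕ Fin m) (Fin m ⊕ Fin m) F) *ᵥ x) ⬝ᵥ z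
        = x ⬝ᵥ ((A : Matrix (Fin m ⊕ Fin m) (Fin m ⊕ Fin m) F)ᵀ *ᵥ z) := by
    intro z
    rw [dotProduct_comm, Matrix.dotProduct_mulVec, ← Matrix.mulVec_transpose, dotProduct_comm]
  rw [e, Matrix.mulVec_mulVec, Matrix.mulVec_mulVec, hA]

theorem tv_mulVec {F : Type*} [Field F] (m : ℕ) (w x : Fin m ⊕ Fin m → F) (c : F) :
    (sympTransvection m w c) *ᵥ x = x + (c * sympForm m F x w) • w := by
  unfold sympTransvection sympForm
  rw [Matrix.add_mulVec, Matrix.one_mulVec, Matrix.smul_mulVec, Matrix.vecMulVec_mulVec,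
    dotProduct_comm, op_smul_eq_smul, smul_smul]

theorem step {F : Type*} [Field F] (m : ℕ) (T : Subgroup (Matrix.symplecticGroup (Fin m) F))
    (hT : ∀ (w : Fin m ⊕ Fin m → F) (c : F), ∃ A ∈ T,
      (A : Matrix (Fin m ⊕ Fin m) (Fin m ⊕ Fin m) F) = Cfsg.sympTransvection m w c)
    (x y : Fin m ⊕ Fin m → F) (hxy : sympForm m F x y ≠ 0) :
    ∃ A ∈ T, (A : Matrix (Fin m ⊕ Fin m) (Fin m ⊕ Fin m) F) *ᵥ x = y ∧
      ∀ z, sympForm m F z (y - x) = 0 →
        (A : Matrix (Fin m ⊕ Fin m) (Fin m ⊕ Fin m) F) *ᵥ z = z := by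
  obtain ⟨A, hA, hAeq⟩ := hT (y - x) (sympForm m F x y)⁻¹
  refine ⟨A, hA, ?_, ?_⟩
  · rw [hAeq, tv_mulVec, form_sub_right, form_self, sub_zero, inv_mul_cancel₀ hxy, one_smul]
    abel
  · intro z hz
    rw [hAeq, tv_mulVec, hz, mul_zero, zero_smul, add_zero]

theorem trans_vec {F : Type*} [Field F] (m : ℕ) (T : Subgroup (Matrix.symplecticGroup (Fin m) F))
    (hT : ∀ (w : Fin m ⊕ Fin m → F) (c : F), ∃ A ∈ T,
      (A : Matrix (Fin m ⊕ Fin m) (Fin m ⊕ Fin m) F) = Cfsg.sympTransvection m w c)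
    (u u' : Fin m ⊕ Fin m → F) (hu : u ≠ 0) (hu' : u' ≠ 0) :
    ∃ A ∈ T, (A : Matrix (Fin m ⊕ Fin m) (Fin m ⊕ Fin m) F) *ᵥ u = u' := by
  by_cases h : sympForm m F u u' = 0
  · obtain ⟨z, hz1, hz2⟩ : ∃ z, sympForm m F u z ≠ 0 ∧ sympForm m F z u' ≠ 0 := by
      obtain ⟨x, hx⟩ := form_nondeg m u hu
      obtain ⟨y, hy⟩ := form_nondeg m u' hu'
      by_cases h1 : sympForm m F u' x = 0
      · by_cases h2 : sympForm m F u y = 0
        · refine ⟨x + y, ?_, ?_⟩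
          · rw [form_add_right, h2, add_zero]; exact hx
          · rw [form_swap, form_add_right, h1, zero_add, neg_ne_zero]; exact hy
        · refine ⟨y, h2, ?_⟩
          rw [form_swap, neg_ne_zero]; exact hy
      · refine ⟨x, hx, ?_⟩
        rw [form_swap, neg_ne_zero]; exact h1
    obtain ⟨A, hA, hA1, -⟩ := step m T hT u z hz1
    obtain ⟨B, hB, hB1, -⟩ := step m T hT z u' hz2
    refine ⟨B * A, T.mul_mem hB hA, ?_⟩
    rw [Submonoid.coe_mul, ← Matrix.mulVec_mulVec, hA1, hB1]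
  · obtain ⟨A, hA, hA1, -⟩ := step m T hT u u' h
    exact ⟨A, hA, hA1⟩

theorem trans_pair_fix {F : Type*} [Field F] (m : ℕ)
    (T : Subgroup (Matrix.symplecticGroup (Fin m) F))
    (hT : ∀ (w : Fin m ⊕ Fin m → F) (c : F), ∃ A ∈ T,
      (A : Matrix (Fin m ⊕ Fin m) (Fin m ⊕ Fin m) F) = Cfsg.sympTransvection m w c)
    (u v v' : Fin m ⊕ Fin m → F) (h : sympForm m F u v = 1) (h' : sympForm m F u v' = 1) :
    ∃ A ∈ T, (A : Matrix (Fin m ⊕ Fin m) (Fin m ⊕ Fin m) F) *ᵥ u = u ∧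
      (A : Matrix (Fin m ⊕ Fin m) (Fin m ⊕ Fin m) F) *ᵥ v = v' := by
  by_cases hvv : sympForm m F v v' = 0
  · have h1 : sympForm m F v (u + v) ≠ 0 := by
      rw [form_add_right, form_self, add_zero, form_swap, h]
      simp
    have h2 : sympForm m F (u + v) v' ≠ 0 := by
      rw [form_add_left, h', hvv, add_zero]
      exact one_ne_zero
    obtain ⟨A, hA, hA1, hA2⟩ := step m T hT v (u + v) h1
    obtain ⟨B, hB, hB1, hB2⟩ := step m T hT (u + v) v' h2
    refine ⟨B * A, T.mul_mem hB hA, ?_, ?_⟩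
    · rw [Submonoid.coe_mul, ← Matrix.mulVec_mulVec,
        hA2 u (by rw [add_sub_cancel_right, form_self]),
        hB2 u (by rw [form_sub_right, form_add_right, h', form_self, h]; ring)]
    · rw [Submonoid.coe_mul, ← Matrix.mulVec_mulVec, hA1, hB1]
  · obtain ⟨A, hA, hA1, hA2⟩ := step m T hT v v' hvv
    exact ⟨A, hA, hA2 u (by rw [form_sub_right, h, h', sub_self]), hA1⟩

/-- The subgroup generated by the symplectic transvections acts transitively on ordered pairs (u, v) with f(u, v) = 1. -/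
theorem result {F : Type*} [Field F] (m : ℕ) (u v u' v' : Fin m ⊕ Fin m → F) (h : Cfsg.sympForm m F u v = 1) (h' : Cfsg.sympForm m F u' v' = 1) : ∃ A ∈ Subgroup.closure {A : Matrix.symplecticGroup (Fin m) F | ∃ (w : Fin m ⊕ Fin m → F) (c : F), (A : Matrix (Fin m ⊕ Fin m) (Fin m ⊕ Fin m) F) = Cfsg.sympTransvection m w c}, (A : Matrix (Fin m ⊕ Fin m) (Fin m ⊕ Fin m) F).mulVec u = u' ∧ (A : Matrix (Fin m ⊕ Fin m) (Fin m ⊕ Fin m) F).mulVec v = v' := by
  set T := Subgroup.closure {A : Matrix.symplecticGroup (Fin m) F | ∃ (w : Fin m ⊕ Fin m → F) (c : F), (A : Matrix (Fin m ⊕ Fin m) (Fin m ⊕ Fin m) F) = Cfsg.sympTransvection m w c} with hTdef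
  have hT : ∀ (w : Fin m ⊕ Fin m → F) (c : F), ∃ A ∈ T,
      (A : Matrix (Fin m ⊕ Fin m) (Fin m ⊕ Fin m) F) = Cfsg.sympTransvection m w c :=
    fun w c => ⟨⟨_, Cfsg.Agent.S0764.result m w c⟩, Subgroup.subset_closure ⟨w, c, rfl⟩, rfl⟩
  have hu : u ≠ 0 := by
    rintro rfl
    simp [sympForm] at h
  have hu' : u' ≠ 0 := by
    rintro rfl
    simp [sympForm] at h'
  obtain ⟨A, hA, hAu⟩ := trans_vec m T hT u u' hu hu'
  have hpres : sympForm m F ((A : Matrix (Fin m ⊕ Fin m) (Fin m ⊕ Fin m) F) *ᵥ u)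
      ((A : Matrix (Fin m ⊕ Fin m) (Fin m ⊕ Fin m) F) *ᵥ v) = 1 := by
    rw [form_pres, h]
  rw [hAu] at hpres
  obtain ⟨B, hB, hBu, hBv⟩ := trans_pair_fix m T hT u' _ v' hpres h'
  refine ⟨B * A, T.mul_mem hB hA, ?_, ?_⟩
  · rw [Submonoid.coe_mul, ← Matrix.mulVec_mulVec, hAu, hBu]
  · rw [Submonoid.coe_mul, ← Matrix.mulVec_mulVec, hBv]
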