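import Cfsg.Statements.S3836
import Cfsg.Agent.Lib.Helper21.Subnormal

set_option autoImplicit false
open Cfsg

namespace Cfsg.Agent.S3836

open Cfsg.Agent.Lib.Helper21

/-- Let G be a finite group that is p-stable in the normalizer form: for every p-subgroup Q and every x ∈ N_G(Q) with [Q, x, x] = 1, the image of x in N_G(Q)/C_G(Q) lies in O_p(N_G(Q)/C_G(Q)). Then every subgroup of G is p-stable in the same sense. -/
theorem result {G : Type*} [Group G] [Finite G] {p : ℕ} [Fact p.Prime] (hst : Cfsg.IsNormalizerPStable p G) (H : Subgroup G) : Cfsg.IsNormalizerPStable p ↥H := by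
  intro P hP g hg hquad
  have hP'p : IsPGroup p (P.map H.subtype) := hP.map _
  have hg' : (g : G) ∈ Subgroup.normalizer ((P.map H.subtype : Subgroup G) : Set G) :=
    Subgroup.le_normalizer_map H.subtype ⟨g, hg, rfl⟩
  have hquad' : ⁅⁅P.map H.subtype, Subgroup.zpowers (g : G)⁆, Subgroup.zpowers (g : G)⁆ = ⊥ := by
    have h1 : Subgroup.zpowers (g : G) = (Subgroup.zpowers g).map H.subtype := by
      rw [MonoidHom.map_zpowers]; rfl
    rw [h1, ← Subgroup.map_commutator, ← Subgroup.map_commutator, hquad, Subgroup.map_bot]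
  have key := hst (P.map H.subtype) hP'p (g : G) hg' hquad'
  let f : ↥(Subgroup.normalizer (P : Set H)) →*
      ↥(Subgroup.normalizer ((P.map H.subtype : Subgroup G) : Set G)) :=
    MonoidHom.codRestrict (H.subtype.comp (Subgroup.normalizer (P : Set H)).subtype) _
      (fun x => Subgroup.le_normalizer_map H.subtype ⟨x, x.2, rfl⟩)
  have hle : (Subgroup.centralizer (P : Set H)).subgroupOf (Subgroup.normalizer (P : Set H)) ≤
      ((Subgroup.centralizer ((P.map H.subtype : Subgroup G) : Set G)).subgroupOf
        (Subgroup.normalizer ((P.map H.subtype : Subgroup G) : Set G))).comap f := by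
    intro x hx
    rw [Subgroup.mem_comap, Subgroup.mem_subgroupOf]
    rw [Subgroup.mem_subgroupOf] at hx
    show ((x : H) : G) ∈ Subgroup.centralizer ((P.map H.subtype : Subgroup G) : Set G)
    rw [Subgroup.mem_centralizer_iff]
    rintro _ ⟨y, hy, rfl⟩
    have h1 := Subgroup.mem_centralizer_iff.mp hx y hy
    exact congrArg Subtype.val h1
  let ψ := QuotientGroup.map _ _ f hle
  have hinj : Function.Injective ψ := by
    rw [injective_iff_map_eq_one]
    intro q
    induction q using QuotientGroup.induction_on with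
    | H x =>
      intro hx
      rw [QuotientGroup.map_mk, QuotientGroup.eq_one_iff, Subgroup.mem_subgroupOf] at hx
      rw [QuotientGroup.eq_one_iff, Subgroup.mem_subgroupOf, Subgroup.mem_centralizer_iff]
      intro y hy
      have h1 := Subgroup.mem_centralizer_iff.mp hx (y : G) ⟨y, hy, rfl⟩
      exact Subtype.ext h1
  have hnorm : ((Cfsg.pCore p _).comap ψ).Normal := inferInstance
  have hpg : IsPGroup p ((Cfsg.pCore p _).comap ψ) :=
    (pCore_isPGroup p).comap_of_injective ψ hinj
  have hmem : (QuotientGroup.mk ⟨g, hg⟩ : _ ⧸ _) ∈ (Cfsg.pCore p _).comap ψ := by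
    rw [Subgroup.mem_comap]
    exact key
  have hle2 : (Cfsg.pCore p _).comap ψ ≤ Cfsg.pCore p _ := le_sSup ⟨hnorm, hpg⟩
  exact hle2 hmem

end Cfsg.Agent.S3836
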