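import Cfsg.Statements.S3080
import Mathlib
import Cfsg.Agent.Lib.Helper1.SCLocal
import Cfsg.Agent.Lib.Helper14.FamilyCtl
import Cfsg.Agent.Lib.Helper2.ZJeFunctor
import Cfsg.Agent.S3836

set_option autoImplicit false
open Cfsg

namespace Cfsg.Agent.S3080

open Cfsg.Agent.Lib Cfsg.Agent.Lib.Helper6
open scoped commutatorElement

universe u

section glob

variable {G : Type u} [Group G]

/-- The part of `R` fused into `D`. -/
def dpart (D R : Subgroup G) : Subgroup G :=
  Subgroup.closure {x | x ∈ R ∧ ∃ g : G, g * x * g⁻¹ ∈ D}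

open Classical in
/-- The part of `R` fused into `D`, or `R` itself when that part is trivial. -/
noncomputable def dsel (D R : Subgroup G) : Subgroup G :=
  if dpart D R = ⊥ then R else dpart D R

/-- The conjugacy functor attached to a strongly closed subgroup. -/
noncomputable def WD (e : ℕ) (D : Subgroup G) (R : Subgroup G) : Subgroup G :=
  sInf (famX e (dsel D R))

theorem dpart_le (D R : Subgroup G) : dpart D R ≤ R := by
  unfold dpart
  rw [Subgroup.closure_le]
  intro x hx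
  exact hx.1

theorem dpart_map_conj (D R : Subgroup G) (g : G) :
    dpart D (R.map (MulAut.conj g).toMonoidHom) =
      (dpart D R).map (MulAut.conj g).toMonoidHom := by
  unfold dpart
  rw [MonoidHom.map_closure]
  congr 1
  ext x
  constructor
  · rintro ⟨⟨y, hy, rfl⟩, k, hk⟩
    refine ⟨y, ⟨hy, k * g, ?_⟩, rfl⟩
    have e : k * g * y * (k * g)⁻¹ = k * (g * y * g⁻¹) * k⁻¹ := by group
    rw [e]
    simpa using hk
  · rintro ⟨y, ⟨hy, k, hk⟩, rfl⟩
    refine ⟨⟨y, hy, rfl⟩, k * g⁻¹, ?_⟩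
    have e : k * g⁻¹ * (g * y * g⁻¹) * (k * g⁻¹)⁻¹ = k * y * k⁻¹ := by group
    show k * g⁻¹ * (g * y * g⁻¹) * (k * g⁻¹)⁻¹ ∈ D
    rw [e]
    exact hk

theorem dsel_le (D R : Subgroup G) : dsel D R ≤ R := by
  unfold dsel
  split_ifs with h
  · exact le_rfl
  · exact dpart_le D R

theorem dsel_ne_bot (D R : Subgroup G) (hR : R ≠ ⊥) : dsel D R ≠ ⊥ := by
  unfold dsel
  split_ifs with h
  · exact hR
  · exact h

theorem dsel_map_conj (D R : Subgroup G) (g : G) :
    dsel D (R.map (MulAut.conj g).toMonoidHom) =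
      (dsel D R).map (MulAut.conj g).toMonoidHom := by
  unfold dsel
  rw [dpart_map_conj]
  by_cases h : dpart D R = ⊥
  · rw [if_pos h, if_pos (by rw [h, Subgroup.map_bot])]
  · rw [if_neg h, if_neg]
    rw [Subgroup.map_eq_bot_iff_of_injective _ (MulAut.conj g).injective]
    exact h

theorem dpart_of_le {D P R : Subgroup G} (hD : Cfsg.IsStronglyClosed D P) (hR : R ≤ P) :
    dpart D R = R ⊓ D := by
  unfold dpart
  have hset : {x | x ∈ R ∧ ∃ g : G, g * x * g⁻¹ ∈ D} = ((R ⊓ D : Subgroup G) : Set G) := by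
    ext x
    constructor
    · rintro ⟨hx, g, hg⟩
      refine Subgroup.mem_inf.mpr ⟨hx, ?_⟩
      have h1 := hD.2 _ hg g⁻¹
      have e : g⁻¹ * (g * x * g⁻¹) * g⁻¹⁻¹ = x := by group
      rw [e] at h1
      exact h1 (hR hx)
    · intro hx
      obtain ⟨hxR, hxD⟩ := Subgroup.mem_inf.mp hx
      exact ⟨hxR, 1, by simpa using hxD⟩
  rw [hset, Subgroup.closure_eq]

theorem sInf_famX_le [Finite G] (e : ℕ) (Y : Subgroup G) : sInf (famX e Y) ≤ Y := by
  obtain ⟨A₀, hA₀⟩ := famX_nonempty e Y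
  exact (sInf_le hA₀).trans (famX_le e Y A₀ hA₀)

theorem sInf_famX_map_conj [Finite G] (e : ℕ) (Y : Subgroup G) (g : G) :
    sInf (famX e (Y.map (MulAut.conj g).toMonoidHom)) =
      (sInf (famX e Y)).map (MulAut.conj g).toMonoidHom :=
  (map_sInf_famX_of_injOn e (MulAut.conj g).toMonoidHom Y
    ((MulAut.conj g).injective.injOn)).symm

/-- A central element of exponent `e` lies in all members of the family. -/
theorem mem_sInf_famX_of_central [Finite G] (e : ℕ) (Y : Subgroup G) (z : G) (hzY : z ∈ Y)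
    (hzc : ∀ y ∈ Y, y * z = z * y) (hze : z ^ e = 1) : z ∈ sInf (famX e Y) := by
  rw [Subgroup.mem_sInf]
  intro A hA
  have hcomm := isMulCommutative_sup_zpowers A hA.2.1 z (fun a ha => hzc a (hA.1 ha))
  have hexp : ∀ y ∈ A ⊔ Subgroup.zpowers z, y ^ e = 1 := by
    apply pow_eq_one_of_mem_sup_comm A _ hcomm e hA.2.2.1
    rintro _ ⟨k, rfl⟩
    show (z ^ k) ^ e = 1
    rw [← zpow_natCast, ← zpow_mul, mul_comm, zpow_mul, zpow_natCast, hze, one_zpow]
  have hle : A ⊔ Subgroup.zpowers z ≤ Y := sup_le hA.1 (Subgroup.zpowers_le.mpr hzY)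
  have hcard := hA.2.2.2 _ hle hcomm hexp
  have heq : A = A ⊔ Subgroup.zpowers z := Subgroup.eq_of_le_of_card_ge le_sup_left hcard
  rw [heq]
  exact Subgroup.mem_sup_right (Subgroup.mem_zpowers z)

/-- A nontrivial `p`-subgroup has a central element of order `p`. -/
theorem exists_central_order_p [Finite G] {p : ℕ} [Fact p.Prime] (Y : Subgroup G)
    (hY : IsPGroup p Y) (hne : Y ≠ ⊥) :
    ∃ z ∈ Y, z ≠ 1 ∧ z ^ p = 1 ∧ ∀ y ∈ Y, y * z = z * y := by
  have hpr : p.Prime := Fact.out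
  haveI : Nontrivial ↥Y := (Subgroup.nontrivial_iff_ne_bot Y).mpr hne
  haveI : Nontrivial ↥(Subgroup.center ↥Y) := hY.center_nontrivial
  have hZp : IsPGroup p ↥(Subgroup.center ↥Y) := hY.to_subgroup _
  obtain ⟨n, hn⟩ := IsPGroup.iff_card.mp hZp
  have hdvd : p ∣ Nat.card ↥(Subgroup.center ↥Y) := by
    rw [hn]
    have hn0 : n ≠ 0 := by
      rintro rfl
      rw [pow_zero] at hn
      have := Finite.one_lt_card (α := ↥(Subgroup.center ↥Y))
      omega
    exact dvd_pow_self p hn0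
  obtain ⟨x, hx⟩ := exists_prime_orderOf_dvd_card' p hdvd
  refine ⟨((x : ↥Y) : G), (x : ↥Y).2, ?_, ?_, ?_⟩
  · intro h1
    have h2 : x = 1 := by
      apply Subtype.ext
      apply Subtype.ext
      simpa using h1
    rw [h2, orderOf_one] at hx
    exact hpr.one_lt.ne hx
  · have h1 : x ^ p = 1 := by rw [← hx]; exact pow_orderOf_eq_one x
    have h2 := congrArg (fun w : ↥(Subgroup.center ↥Y) => ((w : ↥Y) : G)) h1
    simpa using h2
  · intro y hy
    have h1 := Subgroup.mem_center_iff.mp x.2 ⟨y, hy⟩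
    have h2 := congrArg Subtype.val h1
    simpa using h2

theorem sInf_famX_ne_bot [Finite G] {p : ℕ} [Fact p.Prime] (e : ℕ) (he : e = 0 ∨ e = p)
    (Y : Subgroup G) (hY : IsPGroup p Y) (hne : Y ≠ ⊥) : sInf (famX e Y) ≠ ⊥ := by
  obtain ⟨z, hzY, hz1, hzp, hzc⟩ := exists_central_order_p Y hY hne
  have hze : z ^ e = 1 := by
    rcases he with rfl | rfl
    · exact pow_zero z
    · exact hzp
  intro hbot
  have := mem_sInf_famX_of_central e Y z hzY hzc hze
  rw [hbot, Subgroup.mem_bot] at this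
  exact hz1 this

theorem isConjugacyFunctor_WD [Finite G] {p : ℕ} [Fact p.Prime] (e : ℕ) (he : e = 0 ∨ e = p)
    (D : Subgroup G) : Cfsg.IsConjugacyFunctor p (WD e D) := by
  intro R hR
  refine ⟨(sInf_famX_le e _).trans (dsel_le D R), ?_, ?_⟩
  · intro hne
    exact sInf_famX_ne_bot e he _ (hR.to_le (dsel_le D R)) (dsel_ne_bot D R hne)
  · intro g
    unfold WD
    rw [dsel_map_conj, sInf_famX_map_conj]

open Cfsg.Agent.Lib.Helper14 in
theorem chain_mem_normalizer {𝓦 : Set (Subgroup G → Subgroup G)}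
    {H T V : Subgroup G} (hV : ∀ W' ∈ 𝓦, W' T = V) {A : Set G} {c : G}
    (h : LChain 𝓦 H T A c) : c ∈ Subgroup.normalizer (V : Set G) := by
  induction h with
  | nil _ => exact one_mem _
  | snoc c₀ y W' _ hW' hy _ ih =>
    have h1 := (Subgroup.mem_inf.mp hy).2
    rw [hV W' hW'] at h1
    exact mul_mem h1 ih

/-- The local step: the functor controls strong fusion in the normalizer of a fully normalized
subgroup of the Sylow subgroup. -/
theorem local_family [Finite G] {p : ℕ} [Fact p.Prime] (hp : p ≠ 2) (P : Sylow p G)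
    (D : Subgroup G) (hD : Cfsg.IsStronglyClosed D (P : Subgroup G))
    (hst : Cfsg.IsNormalizerPStable p G)
    (hc : ∀ U : Subgroup G, U ≤ (P : Subgroup G) → U ≠ ⊥ →
      Cfsg.IsPConstrained p ↥(Subgroup.normalizer (U : Set G)))
    (e : ℕ) (T : Subgroup G) (hTP : T ≤ (P : Subgroup G)) (hT : T ≠ ⊥)
    (hfn : ¬ p ∣ ((P : Subgroup G) ⊓ Subgroup.normalizer (T : Set G)).relIndex
      (Subgroup.normalizer (T : Set G))) :
    Cfsg.FamilyControlsStrongFusionIn p ({WD e D} : Set (Subgroup G → Subgroup G))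
      (Subgroup.normalizer (T : Set G)) := by
  have hcH := hc T hTP hT
  have hstH : Cfsg.IsNormalizerPStable p ↥(Subgroup.normalizer (T : Set G)) :=
    Cfsg.Agent.S3836.result hst _
  obtain ⟨H, hH⟩ : ∃ H, H = Subgroup.normalizer (T : Set G) := ⟨_, rfl⟩
  rw [← hH] at hfn hcH hstH ⊢
  obtain ⟨T', hT'⟩ : ∃ T', T' = (P : Subgroup G) ⊓ H := ⟨_, rfl⟩
  rw [← hT'] at hfn
  have hT'H : T' ≤ H := hT' ▸ inf_le_right
  have hT'P : T' ≤ P := hT' ▸ inf_le_left
  have hT'p : IsPGroup p T' := P.isPGroup'.to_le hT'P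
  refine ⟨T', hT'H, hT'p, hfn, ?_⟩
  intro A h hh hA hAh
  have hT'sub : IsPGroup p (T'.subgroupOf H) := hT'p.comap_subtype
  obtain ⟨PH, hPH⟩ : ∃ PH : Sylow p ↥H, (PH : Subgroup ↥H) = T'.subgroupOf H :=
    ⟨hT'sub.toSylow hfn, rfl⟩
  obtain ⟨Dl, hDl⟩ : ∃ Dl, Dl = dsel D T' := ⟨_, rfl⟩
  have hDlT' : Dl ≤ T' := hDl ▸ dsel_le D T'
  have hDlsc : ∀ x ∈ Dl, ∀ k ∈ H, k * x * k⁻¹ ∈ T' → k * x * k⁻¹ ∈ Dl := by
    intro x hx k hk hkx
    rw [hDl] at hx ⊢
    unfold dsel at hx ⊢
    rw [dpart_of_le hD hT'P] at hx ⊢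
    by_cases hbot : T' ⊓ D = ⊥
    · rw [if_pos hbot]; exact hkx
    · rw [if_neg hbot] at hx ⊢
      exact Subgroup.mem_inf.mpr ⟨hkx, hD.2 x (Subgroup.mem_inf.mp hx).2 k (hT'P hkx)⟩
  have hDH : Cfsg.IsStronglyClosed (Dl.subgroupOf H) (PH : Subgroup ↥H) := by
    rw [hPH]
    refine ⟨?_, ?_⟩
    · intro x hx
      exact Subgroup.mem_subgroupOf.mpr (hDlT' (Subgroup.mem_subgroupOf.mp hx))
    · intro x hx k hkx
      rw [Subgroup.mem_subgroupOf] at hx hkx ⊢
      exact hDlsc _ hx k k.2 hkx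
  have hAH : ∀ a ∈ A, a ∈ H := fun a ha => hT'H (hA ha)
  obtain ⟨x, hx, hxeq⟩ := Cfsg.Agent.Lib.Helper1.SCLocal.local_ctl hp PH (Dl.subgroupOf H) hDH
    hstH hcH e (H.subtype ⁻¹' A)
    (by
      intro a ha
      rw [SetLike.mem_coe, hPH]
      exact Subgroup.mem_subgroupOf.mpr (hA ha))
    ⟨h, hh⟩
    (by
      intro a ha
      rw [hPH]
      exact Subgroup.mem_subgroupOf.mpr (hAh ⟨(a : G), ha, rfl⟩))
  have hxN : (x : G) ∈ Subgroup.normalizer ((WD e D T' : Subgroup G) : Set G) := by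
    have h1 : (sInf (famX e (Dl.subgroupOf H))).map H.subtype = WD e D T' := by
      rw [map_sInf_famX_of_injOn e H.subtype _ (H.subtype_injective.injOn),
        Subgroup.map_subgroupOf_eq_of_le (hDlT'.trans hT'H), hDl]
      rfl
    rw [← h1]
    exact Subgroup.le_normalizer_map H.subtype ⟨x, hx, rfl⟩
  have hxa : ∀ a ∈ A, h * a * h⁻¹ = (x : G) * a * (x : G)⁻¹ := by
    intro a ha
    have h1 := hxeq ⟨a, hAH a ha⟩ ha
    have h2 := congrArg Subtype.val h1
    simpa using h2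
  refine ⟨1, ![1, (x : G)], rfl, ?_, ?_, ?_⟩
  · intro i
    refine ⟨WD e D, rfl, ?_⟩
    have hi : i = 0 := Subsingleton.elim _ _
    subst hi
    have e1 : (![1, (x : G)] : Fin 2 → G) (Fin.succ (0 : Fin 1)) = (x : G) := rfl
    have e2 : (![1, (x : G)] : Fin 2 → G) (Fin.castSucc (0 : Fin 1)) = 1 := rfl
    rw [e1, e2, inv_one, mul_one]
    exact Subgroup.mem_inf.mpr ⟨x.2, hxN⟩
  · intro i
    rintro _ ⟨a, ha, rfl⟩
    fin_cases i
    · show (1 : G) * a * (1 : G)⁻¹ ∈ T'
      simpa using hA ha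
    · show (x : G) * a * (x : G)⁻¹ ∈ T'
      rw [← hxa a ha]
      exact hAh ⟨a, ha, rfl⟩
  · intro a ha
    show (x : G) * a * (x : G)⁻¹ = h * a * h⁻¹
    exact (hxa a ha).symm

/-- The main statement for the families `famX e D`, `e = 0` or `e = p`. -/
theorem main [Finite G] {p : ℕ} [Fact p.Prime] (hp : p ≠ 2) (P : Sylow p G)
    (D : Subgroup G) (hD : Cfsg.IsStronglyClosed D (P : Subgroup G))
    (hst : Cfsg.IsNormalizerPStable p G)
    (hc : ∀ U : Subgroup G, U ≤ (P : Subgroup G) → U ≠ ⊥ →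
      Cfsg.IsPConstrained p ↥(Subgroup.normalizer (U : Set G)))
    (e : ℕ) (he : e = 0 ∨ e = p) (A : Set G) (hA : A ⊆ ((P : Subgroup G) : Set G)) :
    Cfsg.ControlsStrongFusionOf
      (Subgroup.normalizer ((sInf (famX e D) : Subgroup G) : Set G)) (P : Subgroup G) A := by
  refine ⟨hA, fun g hg => ?_⟩
  by_cases hDbot : D = ⊥
  · refine ⟨g, ?_, fun a _ => rfl⟩
    have h1 : sInf (famX e D) = ⊥ :=
      eq_bot_iff.mpr ((sInf_famX_le e D).trans (le_of_eq hDbot))
    rw [h1, Subgroup.normalizer_eq_top_iff.mpr inferInstance]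
    trivial
  · have h𝓦 : ∀ W ∈ ({WD e D} : Set (Subgroup G → Subgroup G)),
        Cfsg.IsConjugacyFunctor p W := by
      intro W hW
      rw [Set.mem_singleton_iff] at hW
      rw [hW]
      exact isConjugacyFunctor_WD e he D
    have hcl : Subgroup.closure A ≤ (P : Subgroup G) := (Subgroup.closure_le _).mpr hA
    have hPg : (Subgroup.closure A).map (MulAut.conj g).toMonoidHom ≤ (P : Subgroup G) := by
      rw [MonoidHom.map_closure, Subgroup.closure_le]
      rintro _ ⟨a, ha, rfl⟩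
      have := hg ⟨a, ha, rfl⟩
      simpa using this
    obtain ⟨c, hc', hceq⟩ := (Cfsg.Agent.Lib.Helper14.reach_all P h𝓦
      (fun T hTP hT hfn => local_family hp P D hD hst hc e T hTP hT hfn) _
      (Subgroup.closure A) hcl rfl g hPg).mono Subgroup.subset_closure
    refine ⟨c, ?_, fun a ha => (hceq a ha).symm⟩
    have hWP : WD e D (P : Subgroup G) = sInf (famX e D) := by
      unfold WD dsel
      rw [dpart_of_le hD le_rfl, inf_eq_right.mpr hD.1, if_neg hDbot]
    rw [← hWP]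
    refine chain_mem_normalizer ?_ hc'
    intro W' hW'
    rw [Set.mem_singleton_iff] at hW'
    rw [hW']

end glob

/-- Let p be an odd prime, G a finite group that is p-stable in the normalizer form, P a Sylow p-subgroup such that N_G(U) is p-constrained for every nontrivial subgroup U of P, and D a subgroup of P strongly closed in P with respect to G. Then N_G(Z(J(D))) controls strong G-fusion in P (for every subset A of P and every g ∈ G with gAg⁻¹ ⊆ P, some element of that normalizer acts on A exactly as g does; J(D) is generated by the abelian subgroups of D of largest order), and so does N_G(Ω₁(Z(J_e(D)))) (J_e(D) generated by the elementary abelian subgroups of largest order). -/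
theorem result {G : Type*} [Group G] [Finite G] {p : ℕ} [Fact p.Prime] (hp : p ≠ 2) (P : Sylow p G) (D : Subgroup G) (hD : Cfsg.IsStronglyClosed D (P : Subgroup G)) (hst : Cfsg.IsNormalizerPStable p G) (hc : ∀ U : Subgroup G, U ≤ (P : Subgroup G) → U ≠ ⊥ → Cfsg.IsPConstrained p ↥(Subgroup.normalizer (U : Set G))) : (∀ A : Set G, A ⊆ (P : Subgroup G) → Cfsg.ControlsStrongFusionOf (Subgroup.normalizer ((Cfsg.centerThompsonAOf D) : Set G)) (P : Subgroup G) A) ∧ (∀ A : Set G, A ⊆ (P : Subgroup G) → Cfsg.ControlsStrongFusionOf (Subgroup.normalizer ((Cfsg.omegaOne p (Cfsg.centerThompsonOf p D)) : Set G)) (P : Subgroup G) A) := by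
  constructor
  · rw [← Cfsg.Agent.Lib.Helper6.sInf_famX_zero]
    exact fun A hA => main hp P D hD hst hc 0 (Or.inl rfl) A hA
  · have h1 : Cfsg.omegaOne p (Cfsg.centerThompsonOf p D) =
        sInf (Cfsg.Agent.Lib.Helper6.famX p D) := by
      rw [← Cfsg.Agent.Lib.Helper2.inducedFunctor_zjFun']
      unfold Cfsg.inducedFunctor
      rw [Cfsg.Agent.S3079.omegaOne_map_subtype, ← Cfsg.Agent.Lib.Helper6.map_sInf_famX_top,
        ← Cfsg.Agent.Lib.Helper6.omegaCenterThompson_eq_sInf]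
      rfl
    rw [h1]
    exact fun A hA => main hp P D hD hst hc p (Or.inr rfl) A hA

end Cfsg.Agent.S3080
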