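import Mathlib
import Cfsg.Statements.S0854
import Cfsg.Agent.Lib.Helper2.CharMono

set_option autoImplicit false
open Cfsg

namespace Cfsg.Agent.S0854

open Cfsg.Agent.Lib.Helper2

/-- Clifford correspondence, surjectivity and multiplicities: if ϑ is an irreducible character of a normal subgroup H with inertia group T, every irreducible character χ of G whose restriction contains ϑ is induced from an irreducible character ψ of T containing ϑ with the same multiplicity as χ does. -/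
theorem result {G : Type*} [Group G] [Fintype G] (H : Subgroup G) [hN : H.Normal] [Fintype H] (ϑ : H → ℂ) (hϑ : Cfsg.IsIrrCharacter H ϑ) (T : Subgroup G) [Fintype T] (hT : ∀ g : G, g ∈ T ↔ ∀ n : H, ϑ ⟨g * n * g⁻¹, hN.conj_mem (n : G) n.2 g⟩ = ϑ n) (hHT : H ≤ T) (χ : G → ℂ) (hχ : Cfsg.IsIrrCharacter G χ) (hcon : Cfsg.classInner (fun n : H => χ n) ϑ ≠ 0) : ∃ ψ : T → ℂ, Cfsg.IsIrrCharacter T ψ ∧ Cfsg.indFun T ψ = χ ∧ Cfsg.classInner (fun n : H => ψ ⟨(n : G), hHT n.2⟩) ϑ = Cfsg.classInner (fun n : H => χ n) ϑ := by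
  classical
  have := Fintype.ofFinite (H.subgroupOf T)
  have hθTirr : Cfsg.IsIrrCharacter (H.subgroupOf T)
      (fun x : H.subgroupOf T => ϑ ⟨((x : T) : G), Subgroup.mem_subgroupOf.mp x.2⟩) :=
    Cfsg.Agent.S1489.isIrrCharacter_comp_iso hϑ (Subgroup.subgroupOfEquivOfLe hHT)
  have hχT : Cfsg.IsCharacter T (fun t : T => χ t) :=
    IsCharacter.restrict (isCharacter_of_isIrrCharacter hχ) T
  have hΘ : Cfsg.classInner (Cfsg.indFun (H.subgroupOf T)
      (fun x : H.subgroupOf T => ϑ ⟨((x : T) : G), Subgroup.mem_subgroupOf.mp x.2⟩))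
      (fun t : T => χ t) ≠ 0 := by
    rw [frobenius_reciprocity (H.subgroupOf T) _ _ (isClassFunction_of_isCharacter hχT)]
    have e1 : Cfsg.classInner (fun x : H.subgroupOf T =>
          ϑ ⟨((x : T) : G), Subgroup.mem_subgroupOf.mp x.2⟩)
        (fun h : H.subgroupOf T => χ ((h : T) : G))
        = Cfsg.classInner ϑ (fun a : H => χ a) :=
      Cfsg.Agent.S1489.classInner_comp_iso (Subgroup.subgroupOfEquivOfLe hHT) ϑ
        (fun a : H => χ a)
    rw [e1, ← classInner_conj_symm]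
    intro h0
    apply hcon
    have := congrArg (starRingEnd ℂ) h0
    simpa using this
  obtain ⟨ψ, hψ, hc, hψχ⟩ := exists_common_constituent
    (isClassFunction_of_isCharacter (indFun_isCharacter _ (isCharacter_of_isIrrCharacter hθTirr))) hΘ
  have hχc : Cfsg.classInner (Cfsg.indFun T ψ) χ ≠ 0 := by
    rw [frobenius_reciprocity T ψ _ (isClassFunction_of_isIrrCharacter hχ),
      ← classInner_conj_symm]
    intro h0
    apply hψχ
    have := congrArg (starRingEnd ℂ) h0
    simpa using this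
  obtain ⟨m1, m2⟩ := Cfsg.Agent.S1489.main H T ϑ hϑ hT hHT ψ hψ hc χ hχ hχc
  refine ⟨ψ, hψ, m1, ?_⟩
  have e2 : Cfsg.classInner (fun x : H.subgroupOf T => χ ((x : T) : G))
        (fun x : H.subgroupOf T => ϑ ⟨((x : T) : G), Subgroup.mem_subgroupOf.mp x.2⟩)
        = Cfsg.classInner (fun a : H => χ a) ϑ :=
    Cfsg.Agent.S1489.classInner_comp_iso (Subgroup.subgroupOfEquivOfLe hHT)
      (fun a : H => χ a) ϑ
  have e3 : Cfsg.classInner (fun x : H.subgroupOf T => ψ (x : T))
        (fun x : H.subgroupOf T => ϑ ⟨((x : T) : G), Subgroup.mem_subgroupOf.mp x.2⟩)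
        = Cfsg.classInner (fun a : H => ψ ⟨(a : G), hHT a.2⟩) ϑ :=
    Cfsg.Agent.S1489.classInner_comp_iso (Subgroup.subgroupOfEquivOfLe hHT)
      (fun a : H => ψ ⟨(a : G), hHT a.2⟩) ϑ
  rw [← e2, ← e3]
  have m2' : Cfsg.classInner (fun n : H.subgroupOf T => χ ((n : T) : G))
          (fun x => ϑ ⟨(x : T), Subgroup.mem_subgroupOf.mp x.2⟩)
        = Cfsg.classInner (fun n : H.subgroupOf T => ψ n)
          (fun x => ϑ ⟨(x : T), Subgroup.mem_subgroupOf.mp x.2⟩) := by
    convert m2 using 2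
  exact m2'.symm

end Cfsg.Agent.S0854
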