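import Cfsg.Statements.S0029
import Cfsg.Agent.Lib.Helper1.Coprime

set_option autoImplicit false
open Cfsg

namespace Cfsg.Agent.S0029

open Cfsg.Agent.Lib.Helper1

/-- An action that is trivial on the Frattini quotient and coprime on the Frattini subgroup is trivial: if A normalises K, the orders of A and of the Frattini subgroup of K are coprime, and every commutator of an element of A with an element of K lies in the Frattini subgroup of K, then A centralises K. -/
theorem result {G : Type*} [Group G] [Finite G] (A K : Subgroup G)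
    (hAK : A ≤ Subgroup.normalizer (K : Set G))
    (hcop : (Nat.card A).Coprime (Nat.card (frattini K)))
    (htriv : ∀ a ∈ A, ∀ k ∈ K, a * k * a⁻¹ * k⁻¹ ∈ (frattini K).map K.subtype) :
    A ≤ Subgroup.centralizer (K : Set G) := by
  obtain ⟨N, hNdef⟩ : ∃ N : Subgroup G, N = (frattini K).map K.subtype := ⟨_, rfl⟩
  rw [← hNdef] at htriv
  have hnn := normalizer_le_normalizer_map_of_characteristic (frattini K)
  rw [← hNdef] at hnn
  have hKN : K ≤ Subgroup.normalizer (N : Set G) := Subgroup.le_normalizer.trans hnn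
  have hAN : A ≤ Subgroup.normalizer (N : Set G) := hAK.trans hnn
  have hcardN : Nat.card N = Nat.card (frattini K) := by
    rw [hNdef]; exact Subgroup.card_map_of_injective K.subtype_injective
  have hcop' : (Nat.card A).Coprime (Nat.card N) := by rw [hcardN]; exact hcop
  have hNK : N ≤ K := hNdef ▸ Subgroup.map_subtype_le _
  haveI : Group.IsNilpotent (frattini K) := frattini_nilpotent
  have hsolvN : Group.IsSolvable N := hNdef ▸ isSolvable_map K.subtype (frattini K)
  have hNA : N ⊓ A = ⊥ := inf_eq_bot_of_coprime_card hcop'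
  have key : ∀ k ∈ K, ∃ n ∈ N, k * n ∈ K ⊓ Subgroup.centralizer (A : Set G) := by
    intro k hk
    have hx : ∀ a ∈ A, k⁻¹ * a * k * a⁻¹ ∈ N := by
      intro a ha
      have h1 := N.inv_mem (htriv a ha k⁻¹ (K.inv_mem hk))
      convert h1 using 1
      group
    obtain ⟨n, hn, hconj⟩ := coprime_conj_fixed A N hAN hcop' (Or.inr hsolvN) k hx
    have hcK : k * n ∈ K := K.mul_mem hk (hNK hn)
    refine ⟨n, hn, Subgroup.mem_inf.mpr ⟨hcK, ?_⟩⟩
    apply mem_centralizer_of_conj_smul_eq hNA hconj
    intro a ha
    have h1 := N.inv_mem (htriv a ha (k * n) hcK)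
    convert h1 using 1
    group
  have htop : ((K ⊓ Subgroup.centralizer (A : Set G)).subgroupOf K) ⊔ frattini K = ⊤ := by
    rw [eq_top_iff]
    intro k _
    obtain ⟨n, hn, hkn⟩ := key k k.2
    rw [hNdef] at hn
    obtain ⟨f, hf, hfn⟩ := hn
    have h1 : k = (k * f) * f⁻¹ := by group
    rw [h1]
    refine Subgroup.mul_mem_sup ?_ (Subgroup.inv_mem _ hf)
    rw [Subgroup.mem_subgroupOf]
    have h2 : ((k * f : K) : G) = (k : G) * n := by rw [← hfn]; rfl
    rw [h2]; exact hkn
  have h3 := frattini_nongenerating htop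
  rw [Subgroup.subgroupOf_eq_top] at h3
  rw [Subgroup.le_centralizer_iff]
  exact h3.trans inf_le_right

end Cfsg.Agent.S0029
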