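import Cfsg.Statements.S4218
import Mathlib
import Cfsg.Agent.S0012
import Cfsg.Agent.S0029
import Cfsg.Agent.Lib.Helper6.PSolv3
import Cfsg.Agent.Lib.Helper18.Frattini

set_option autoImplicit false
open Cfsg

namespace Cfsg.Agent.S4218

open scoped commutatorElement

theorem key {X : Type*} [Group X] [Finite X] {p : ℕ} [Fact p.Prime]
    (hsol : Cfsg.IsPSolvable p X) (hO : Cfsg.pPrimeCore p X = ⊥) (h : X)
    (hh : ∀ x ∈ Cfsg.pCore p X, h * x * h⁻¹ * x⁻¹ ∈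
      (frattini ↥(Cfsg.pCore p X)).map (Cfsg.pCore p X).subtype) :
    h ∈ Cfsg.pCore p X := by
  have hcent0 := Cfsg.Agent.Lib.Helper6.centralizer_pCore_le_of_isPSolvable hsol hO
  have hPn0 : (Cfsg.pCore p X).Normal := inferInstance
  have hPp0 : IsPGroup p (Cfsg.pCore p X) := Cfsg.Agent.Lib.Helper14.pCore_isPGroup p
  have hle0 : ∀ C : Subgroup X, C.Normal → IsPGroup p C → C ≤ Cfsg.pCore p X :=
    fun C h1 h2 => Cfsg.Agent.Lib.Helper14.le_pCore p h1 h2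
  obtain ⟨P, hPdef⟩ : ∃ P : Subgroup X, P = Cfsg.pCore p X := ⟨_, rfl⟩
  rw [← hPdef] at hh hcent0 hPn0 hPp0 hle0 ⊢
  have hPn : P.Normal := hPn0
  have hPp : IsPGroup p P := hPp0
  have hcent : Subgroup.centralizer (P : Set X) ≤ P := hcent0
  have hΦn0 : ((frattini ↥P).map P.subtype).Normal := by
    have h1 := Cfsg.Agent.Lib.Helper18.normalizer_le_normalizer_map_frattini P
    have h2 : Subgroup.normalizer (P : Set X) = ⊤ := Subgroup.normalizer_eq_top_iff.mpr hPn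
    rw [h2, top_le_iff] at h1
    exact Subgroup.normalizer_eq_top_iff.mp h1
  obtain ⟨Φ, hΦdef⟩ : ∃ Φ : Subgroup X, Φ = (frattini ↥P).map P.subtype := ⟨_, rfl⟩
  rw [← hΦdef] at hh hΦn0
  have hΦn : Φ.Normal := hΦn0
  let C : Subgroup X :=
    { carrier := {c | ∀ x ∈ P, c * x * c⁻¹ * x⁻¹ ∈ Φ}
      one_mem' := by
        show ∀ x ∈ P, 1 * x * 1⁻¹ * x⁻¹ ∈ Φ
        intro x hx
        simp [Φ.one_mem]
      mul_mem' := by
        intro a b ha hb
        show ∀ x ∈ P, a * b * x * (a * b)⁻¹ * x⁻¹ ∈ Φ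
        intro x hx
        have e : a * b * x * (a * b)⁻¹ * x⁻¹
            = a * (b * x * b⁻¹ * x⁻¹) * a⁻¹ * (a * x * a⁻¹ * x⁻¹) := by group
        rw [e]
        exact Φ.mul_mem (hΦn.conj_mem _ (hb x hx) a) (ha x hx)
      inv_mem' := by
        intro a ha
        show ∀ x ∈ P, a⁻¹ * x * a⁻¹⁻¹ * x⁻¹ ∈ Φ
        intro x hx
        have e : a⁻¹ * x * a⁻¹⁻¹ * x⁻¹ = a⁻¹ * (a * x * a⁻¹ * x⁻¹)⁻¹ * a⁻¹⁻¹ := by group
        rw [e]
        exact hΦn.conj_mem _ (Φ.inv_mem (ha x hx)) a⁻¹ }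
  have hCmem : ∀ c : X, c ∈ C ↔ ∀ x ∈ P, c * x * c⁻¹ * x⁻¹ ∈ Φ := fun c => Iff.rfl
  have hCn : C.Normal := by
    constructor
    intro c hc k
    rw [hCmem] at hc ⊢
    intro x hx
    have hx' : k⁻¹ * x * k ∈ P := by
      have := hPn.conj_mem x hx k⁻¹
      simpa using this
    have e : k * c * k⁻¹ * x * (k * c * k⁻¹)⁻¹ * x⁻¹
        = k * (c * (k⁻¹ * x * k) * c⁻¹ * (k⁻¹ * x * k)⁻¹) * k⁻¹ := by group
    rw [e]
    exact hΦn.conj_mem _ (hc _ hx') k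
  have hpp : p.Prime := Fact.out
  have hCp : IsPGroup p C := by
    rintro ⟨c, hc⟩
    obtain ⟨k, m, hm, hkm⟩ := Nat.exists_eq_pow_mul_and_not_dvd (orderOf_pos c).ne' p hpp.ne_one
    refine ⟨k, ?_⟩
    apply Subtype.ext
    rw [Subgroup.coe_pow]
    show c ^ p ^ k = 1
    obtain ⟨c', hc'def⟩ : ∃ c', c' = c ^ p ^ k := ⟨_, rfl⟩
    rw [← hc'def]
    have hc'C : c' ∈ C := hc'def ▸ C.pow_mem hc _
    have hc'm : c' ^ m = 1 := by
      rw [hc'def, ← pow_mul, ← hkm]; exact pow_orderOf_eq_one c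
    have hmp : Nat.Coprime m p := ((Nat.Prime.coprime_iff_not_dvd hpp).mpr hm).symm
    have hA : Subgroup.zpowers c' ≤ Subgroup.centralizer (P : Set X) := by
      apply Cfsg.Agent.S0029.result (Subgroup.zpowers c') P
      · rw [Subgroup.normalizer_eq_top_iff.mpr hPn]; exact le_top
      · have h1 : Nat.card (Subgroup.zpowers c') ∣ m := by
          rw [Nat.card_zpowers]; exact orderOf_dvd_of_pow_eq_one hc'm
        obtain ⟨j, hj⟩ := IsPGroup.iff_card.mp (hPp.to_subgroup (frattini ↥P))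
        rw [hj]
        exact Nat.Coprime.pow_right _ (Nat.Coprime.coprime_dvd_left h1 hmp)
      · intro a ha x hx
        rw [← hΦdef]
        exact (hCmem a).mp ((Subgroup.zpowers_le.mpr hc'C) ha) x hx
    have hc'P : c' ∈ P := hcent (hA (Subgroup.mem_zpowers c'))
    obtain ⟨j, hj⟩ := hPp ⟨c', hc'P⟩
    have hj' : c' ^ p ^ j = 1 := congrArg Subtype.val hj
    have h1 : orderOf c' ∣ m := orderOf_dvd_of_pow_eq_one hc'm
    have h2 : orderOf c' ∣ p ^ j := orderOf_dvd_of_pow_eq_one hj'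
    have h3 : Nat.Coprime m (p ^ j) := Nat.Coprime.pow_right _ hmp
    have h4 : orderOf c' = 1 := Nat.eq_one_of_dvd_coprimes h3 h1 h2
    exact orderOf_eq_one_iff.mp h4
  exact hle0 C hCn hCp ((hCmem h).mpr hh)

theorem transl {G : Type*} [Group G] [Finite G] (N₀ : Subgroup G) [N₀.Normal]
    (Pb : Subgroup (G ⧸ N₀)) (w : G) :
    w ∈ ((frattini (↥(Pb.comap (QuotientGroup.mk' N₀)) ⧸
          N₀.subgroupOf (Pb.comap (QuotientGroup.mk' N₀)))).comap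
        (QuotientGroup.mk' (N₀.subgroupOf (Pb.comap (QuotientGroup.mk' N₀))))).map
          (Pb.comap (QuotientGroup.mk' N₀)).subtype
      ↔ QuotientGroup.mk' N₀ w ∈ (frattini ↥Pb).map Pb.subtype := by
  have hP₁mem : ∀ x : G, x ∈ Pb.comap (QuotientGroup.mk' N₀) ↔ QuotientGroup.mk' N₀ x ∈ Pb :=
    fun x => Iff.rfl
  obtain ⟨P₁, hP₁⟩ : ∃ P₁ : Subgroup G, P₁ = Pb.comap (QuotientGroup.mk' N₀) := ⟨_, rfl⟩
  rw [← hP₁] at hP₁mem ⊢
  let ψ : ↥P₁ →* ↥Pb := ((QuotientGroup.mk' N₀).comp P₁.subtype).codRestrict Pb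
    (fun y => (hP₁mem _).mp y.2)
  have hψ : ∀ y : ↥P₁, (ψ y : G ⧸ N₀) = QuotientGroup.mk' N₀ (y : G) := fun y => rfl
  have hψsurj : Function.Surjective ψ := by
    rintro ⟨q, hq⟩
    obtain ⟨x, rfl⟩ := QuotientGroup.mk'_surjective N₀ q
    exact ⟨⟨x, (hP₁mem _).mpr hq⟩, Subtype.ext rfl⟩
  have hker : N₀.subgroupOf P₁ = ψ.ker := by
    ext y
    rw [Subgroup.mem_subgroupOf, MonoidHom.mem_ker]
    constructor
    · intro hy
      apply Subtype.ext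
      rw [hψ]
      exact (QuotientGroup.eq_one_iff _).mpr hy
    · intro hy
      have := congrArg Subtype.val hy
      rw [hψ] at this
      exact (QuotientGroup.eq_one_iff _).mp this
  let e : (↥P₁ ⧸ N₀.subgroupOf P₁) ≃* ↥Pb :=
    (QuotientGroup.quotientMulEquivOfEq hker).trans
      (QuotientGroup.quotientKerEquivOfSurjective ψ hψsurj)
  have he : ∀ y : ↥P₁, e (QuotientGroup.mk' (N₀.subgroupOf P₁) y) = ψ y := fun y => rfl
  have hfr := Cfsg.Agent.Lib.Helper18.frattini_map_equiv e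
  have hmem : ∀ y : ↥P₁, QuotientGroup.mk' (N₀.subgroupOf P₁) y ∈
      frattini (↥P₁ ⧸ N₀.subgroupOf P₁) ↔ ψ y ∈ frattini ↥Pb := by
    intro y
    rw [← hfr, ← he]
    constructor
    · intro h; exact Subgroup.mem_map_of_mem _ h
    · rintro ⟨q, hq, hqe⟩
      have : q = QuotientGroup.mk' (N₀.subgroupOf P₁) y := e.injective hqe
      rw [← this]; exact hq
  constructor
  · rintro ⟨y, hy, rfl⟩
    have hy' := (hmem y).mp hy
    exact ⟨ψ y, hy', rfl⟩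
  · rintro ⟨q, hq, hqw⟩
    have hw : w ∈ P₁ := by
      rw [hP₁mem]
      have : QuotientGroup.mk' N₀ w = (q : G ⧸ N₀) := hqw.symm
      rw [this]; exact q.2
    refine ⟨⟨w, hw⟩, ?_, rfl⟩
    have : ψ ⟨w, hw⟩ = q := Subtype.ext hqw.symm
    exact (hmem _).mpr (by rw [this]; exact hq)

/-- Let `G` be a finite `p`-solvable group, `N₀ = O_{p'}(G)`, `P₁ = O_{p',p}(G)`, and let `F ≤ P₁` be the preimage of the Frattini subgroup of `P₁/N₀`. Then an element `g` of `G` induces the identity on `P₁/F` by conjugation (that is, `g x g⁻¹ x⁻¹ ∈ F` for all `x ∈ P₁`) if and only if `g ∈ P₁`: the group `G/P₁` acts faithfully on `P₁/F`. -/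
theorem result {G : Type*} [Group G] [Finite G] {p : ℕ} [Fact p.Prime] (hG : Cfsg.IsPSolvable p G) (g : G) : (∀ x ∈ Cfsg.pPrimePCore p G, g * x * g⁻¹ * x⁻¹ ∈ ((frattini (↥(Cfsg.pPrimePCore p G) ⧸ (Cfsg.pPrimeCore p G).subgroupOf (Cfsg.pPrimePCore p G))).comap (QuotientGroup.mk' ((Cfsg.pPrimeCore p G).subgroupOf (Cfsg.pPrimePCore p G)))).map (Cfsg.pPrimePCore p G).subtype) ↔ g ∈ Cfsg.pPrimePCore p G := by
  have hT : ∀ w : G, w ∈ ((frattini (↥(Cfsg.pPrimePCore p G) ⧸ (Cfsg.pPrimeCore p G).subgroupOf (Cfsg.pPrimePCore p G))).comap (QuotientGroup.mk' ((Cfsg.pPrimeCore p G).subgroupOf (Cfsg.pPrimePCore p G)))).map (Cfsg.pPrimePCore p G).subtype ↔ QuotientGroup.mk' (Cfsg.pPrimeCore p G) w ∈ (frattini ↥(Cfsg.pCore p (G ⧸ Cfsg.pPrimeCore p G))).map (Cfsg.pCore p (G ⧸ Cfsg.pPrimeCore p G)).subtype :=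
    fun w => transl (Cfsg.pPrimeCore p G) (Cfsg.pCore p (G ⧸ Cfsg.pPrimeCore p G)) w
  have hpp : p.Prime := Fact.out
  constructor
  · intro hg
    show QuotientGroup.mk' (Cfsg.pPrimeCore p G) g ∈ Cfsg.pCore p (G ⧸ Cfsg.pPrimeCore p G)
    apply key (Cfsg.Agent.Lib.Helper6.isPSolvable_quotient hpp _ hG)
      Cfsg.Agent.Lib.Helper6.pPrimeCore_quotient_pPrimeCore_eq_bot
    intro x' hx'
    obtain ⟨x, rfl⟩ := QuotientGroup.mk'_surjective _ x'
    have h1 := (hT _).mp (hg x hx')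
    simpa using h1
  · intro hg x hx
    rw [hT]
    have hg' : QuotientGroup.mk' (Cfsg.pPrimeCore p G) g ∈ Cfsg.pCore p (G ⧸ Cfsg.pPrimeCore p G) := hg
    have hx' : QuotientGroup.mk' (Cfsg.pPrimeCore p G) x ∈ Cfsg.pCore p (G ⧸ Cfsg.pPrimeCore p G) := hx
    have hS := Cfsg.Agent.S0012.result (G := ↥(Cfsg.pCore p (G ⧸ Cfsg.pPrimeCore p G))) p
      (Cfsg.Agent.Lib.Helper14.pCore_isPGroup p)
    refine ⟨⁅(⟨_, hg'⟩ : ↥(Cfsg.pCore p (G ⧸ Cfsg.pPrimeCore p G))), ⟨_, hx'⟩⁆, hS.1 ?_, ?_⟩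
    · rw [commutator_def]
      exact Subgroup.commutator_mem_commutator (Subgroup.mem_top _) (Subgroup.mem_top _)
    · simp [commutatorElement_def]

end Cfsg.Agent.S4218
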