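import Cfsg.Statements.S4227
import Mathlib
import Cfsg.Agent.Lib.Helper6.PSolv2
import Cfsg.Agent.S4218
import Cfsg.Agent.S0144
import Cfsg.Agent.Lib.Helper1.SZ
import Cfsg.Agent.Lib.Helper18.PGroupFrat

set_option autoImplicit false
open Cfsg

namespace Cfsg.Agent.S4227


universe u

open scoped commutatorElement

/-- the commutative computation: four norm relations force `α w = w` -/
theorem lemT {A : Type*} [Group A] (hc : ∀ x y : A, x * y = y * x) (h3 : ∀ y : A, y ^ 3 = 1)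
    (α β : A →* A) (hα2 : ∀ y, α (α y) = y) (u v w : A)
    (h1 : u * v * w = 1) (h2 : α (β u) * α v * w = 1) (h3' : α u * β v * w = 1)
    (h4 : β u * α (β v) * w = 1) : α w = w := by
  have hlc : ∀ x y z : A, x * (y * z) = y * (x * z) := by
    intro x y z
    rw [← mul_assoc, hc x y, mul_assoc]
  have hT : ∀ y : A, α (y * α (β y) * α y * β y) = y * α (β y) * α y * β y := by
    intro y
    rw [map_mul, map_mul, map_mul, hα2, hα2]
    simp only [mul_assoc, hc, hlc]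
  have e4 : w ^ 4 = w * w * w * w := by simp only [pow_succ, pow_zero, one_mul]
  have hprod : (u * α (β u) * α u * β u) * (v * α (β v) * α v * β v) * w ^ 4 = 1 := by
    have e : (u * α (β u) * α u * β u) * (v * α (β v) * α v * β v) * w ^ 4
        = (u * v * w) * (α (β u) * α v * w) * (α u * β v * w) * (β u * α (β v) * w) := by
      rw [e4]
      simp only [mul_assoc, hc, hlc]
    rw [e, h1, h2, h3', h4]
    simp
  have hw4 : w ^ 4 = w := by rw [pow_succ, h3 w, one_mul]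
  rw [hw4] at hprod
  have hw : w = ((u * α (β u) * α u * β u) * (v * α (β v) * α v * β v))⁻¹ :=
    eq_inv_of_mul_eq_one_right hprod
  have hfin : α (((u * α (β u) * α u * β u) * (v * α (β v) * α v * β v))⁻¹)
      = ((u * α (β u) * α u * β u) * (v * α (β v) * α v * β v))⁻¹ := by
    rw [map_inv, map_mul, hT u, hT v]
  rw [hw]
  exact hfin

/-- word relations in the quotient -/
theorem lemQ {Q : Type*} [Group Q] (ξ α : Q) (h1 : ξ ^ 3 = 1) (h2 : α ^ 2 = 1)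
    (h3 : α * (ξ⁻¹ * α * ξ) = (ξ⁻¹ * α * ξ) * α)
    (h4 : α * (ξ⁻¹ * α * ξ) * (ξ⁻¹ * (ξ⁻¹ * α * ξ) * ξ) = 1) :
    (ξ * α) ^ 3 = 1 ∧ (ξ * (ξ⁻¹ * α * ξ)) ^ 3 = 1 ∧
      (ξ * (ξ⁻¹ * (ξ⁻¹ * α * ξ) * ξ)) ^ 3 = 1 ∧
      (ξ⁻¹ * α * ξ) ^ 2 = 1 ∧ (ξ⁻¹ * α * ξ) * α * (ξ⁻¹ * (ξ⁻¹ * α * ξ) * ξ)⁻¹ = 1 := by
  obtain ⟨β, hβ⟩ : ∃ β : Q, β = ξ⁻¹ * α * ξ := ⟨_, rfl⟩
  rw [← hβ] at h3 h4 ⊢
  obtain ⟨γ, hγ⟩ : ∃ γ : Q, γ = ξ⁻¹ * β * ξ := ⟨_, rfl⟩
  rw [← hγ] at h4 ⊢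
  have hξ3 : ξ * ξ * ξ = 1 := by rw [← h1]; simp only [pow_succ, pow_zero, one_mul]
  have hαα : α * α = 1 := by rw [← h2]; simp only [pow_succ, pow_zero, one_mul]
  have hξ2 : ξ⁻¹ * ξ⁻¹ = ξ := by
    calc ξ⁻¹ * ξ⁻¹ = ξ⁻¹ * ξ⁻¹ * (ξ * ξ * ξ) := by rw [hξ3, mul_one]
      _ = ξ := by group
  have hαξ : α * ξ = ξ * β := by rw [hβ]; group
  have hβξ : β * ξ = ξ * γ := by rw [hγ]; group
  have hγξ : γ * ξ = ξ * α := by
    calc γ * ξ = (ξ⁻¹ * ξ⁻¹) * α * (ξ * ξ * ξ) := by rw [hγ, hβ]; group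
      _ = ξ * α := by rw [hξ2, hξ3, mul_one]
  have hββ : β * β = 1 := by
    calc β * β = ξ⁻¹ * (α * α) * ξ := by rw [hβ]; group
      _ = 1 := by rw [hαα]; group
  have hsq : (α * β) * (α * β) = 1 := by
    calc (α * β) * (α * β) = α * (β * α) * β := by group
      _ = α * (α * β) * β := by rw [← h3]
      _ = (α * α) * (β * β) := by group
      _ = 1 := by rw [hαα, hββ, mul_one]
  have hinv : (α * β)⁻¹ = α * β := inv_eq_of_mul_eq_one_right hsq
  have hγ' : γ = α * β := by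
    have h5 : γ = (α * β)⁻¹ := eq_inv_of_mul_eq_one_right h4
    rw [h5, hinv]
  have c3 : ∀ g : Q, g ^ 3 = g * g * g := by
    intro g; simp only [pow_succ, pow_zero, one_mul]
  refine ⟨?_, ?_, ?_, ?_, ?_⟩
  · rw [c3]
    calc ξ * α * (ξ * α) * (ξ * α) = ξ * (α * ξ) * (α * ξ) * α := by group
      _ = ξ * (ξ * β) * (ξ * β) * α := by rw [hαξ]
      _ = ξ * ξ * (β * ξ) * β * α := by group
      _ = ξ * ξ * (ξ * γ) * β * α := by rw [hβξ]
      _ = (ξ * ξ * ξ) * γ * β * α := by group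
      _ = γ * β * α := by rw [hξ3, one_mul]
      _ = α * β * β * α := by rw [hγ']
      _ = α * (β * β) * α := by group
      _ = 1 := by rw [hββ, mul_one, hαα]
  · rw [c3]
    calc ξ * β * (ξ * β) * (ξ * β) = ξ * (β * ξ) * (β * ξ) * β := by group
      _ = ξ * (ξ * γ) * (ξ * γ) * β := by rw [hβξ]
      _ = ξ * ξ * (γ * ξ) * γ * β := by group
      _ = ξ * ξ * (ξ * α) * γ * β := by rw [hγξ]
      _ = (ξ * ξ * ξ) * α * γ * β := by group
      _ = α * γ * β := by rw [hξ3, one_mul]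
      _ = α * (α * β) * β := by rw [hγ']
      _ = (α * α) * (β * β) := by group
      _ = 1 := by rw [hαα, hββ, mul_one]
  · rw [c3]
    calc ξ * γ * (ξ * γ) * (ξ * γ) = ξ * (γ * ξ) * (γ * ξ) * γ := by group
      _ = ξ * (ξ * α) * (ξ * α) * γ := by rw [hγξ]
      _ = ξ * ξ * (α * ξ) * α * γ := by group
      _ = ξ * ξ * (ξ * β) * α * γ := by rw [hαξ]
      _ = (ξ * ξ * ξ) * β * α * γ := by group
      _ = β * α * γ := by rw [hξ3, one_mul]
      _ = β * α * (α * β) := by rw [hγ']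
      _ = β * (α * α) * β := by group
      _ = 1 := by rw [hαα, mul_one, hββ]
  · rw [pow_two]; exact hββ
  · rw [hγ', hinv]
    calc β * α * (α * β) = β * (α * α) * β := by group
      _ = 1 := by rw [hαα, mul_one, hββ]

/-- conjugation `w ↦ g⁻¹ w g` on a normal subgroup -/
def cj {K : Type*} [Group K] (W : Subgroup K) [hWn : W.Normal] (g : K) : W →* W where
  toFun w := ⟨g⁻¹ * w * g, by have h := hWn.conj_mem w w.2 g⁻¹; rwa [inv_inv] at h⟩
  map_one' := by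
    apply Subtype.ext
    show g⁻¹ * ((1 : W) : K) * g = ((1 : W) : K)
    rw [Subgroup.coe_one, mul_one, inv_mul_cancel]
  map_mul' u v := by
    apply Subtype.ext
    show g⁻¹ * ((u * v : W) : K) * g = (g⁻¹ * (u : K) * g) * (g⁻¹ * (v : K) * g)
    rw [Subgroup.coe_mul]; group

theorem cj_coe {K : Type*} [Group K] (W : Subgroup K) [hWn : W.Normal] (g : K) (w : W) :
    ((cj W g w : W) : K) = g⁻¹ * (w : K) * g := rfl

theorem lemV {K : Type*} [Group K] (W : Subgroup K) [hWn : W.Normal] (hexp : ∀ g : K, g ^ 6 = 1)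
    (hab : ∀ u ∈ W, ∀ v ∈ W, u * v = v * u) (h3 : ∀ u ∈ W, u ^ 3 = 1) (x a : K)
    (hx : x ^ 3 ∈ W) (ha2 : a ^ 2 ∈ W)
    (hcomm : a * (x⁻¹ * a * x) * a⁻¹ * (x⁻¹ * a * x)⁻¹ ∈ W)
    (habc : a * (x⁻¹ * a * x) * (x⁻¹ * (x⁻¹ * a * x) * x) ∈ W) :
    ∀ w ∈ W, a⁻¹ * w * a = w := by
  -- relations in the quotient
  have r1 : (QuotientGroup.mk' W x) ^ 3 = 1 := by
    rw [← map_pow]; exact (QuotientGroup.eq_one_iff _).mpr hx
  have r2 : (QuotientGroup.mk' W a) ^ 2 = 1 := by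
    rw [← map_pow]; exact (QuotientGroup.eq_one_iff _).mpr ha2
  have r3 : QuotientGroup.mk' W a * ((QuotientGroup.mk' W x)⁻¹ * QuotientGroup.mk' W a *
      QuotientGroup.mk' W x) = ((QuotientGroup.mk' W x)⁻¹ * QuotientGroup.mk' W a *
      QuotientGroup.mk' W x) * QuotientGroup.mk' W a := by
    have h0 : QuotientGroup.mk' W (a * (x⁻¹ * a * x) * a⁻¹ * (x⁻¹ * a * x)⁻¹) = 1 :=
      (QuotientGroup.eq_one_iff _).mpr hcomm
    simp only [map_mul, map_inv] at h0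
    exact mul_inv_eq_iff_eq_mul.mp (mul_inv_eq_one.mp h0)
  have r4 : QuotientGroup.mk' W a * ((QuotientGroup.mk' W x)⁻¹ * QuotientGroup.mk' W a *
      QuotientGroup.mk' W x) * ((QuotientGroup.mk' W x)⁻¹ * ((QuotientGroup.mk' W x)⁻¹ *
      QuotientGroup.mk' W a * QuotientGroup.mk' W x) * QuotientGroup.mk' W x) = 1 := by
    have h0 : QuotientGroup.mk' W (a * (x⁻¹ * a * x) * (x⁻¹ * (x⁻¹ * a * x) * x)) = 1 :=
      (QuotientGroup.eq_one_iff _).mpr habc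
    simp only [map_mul, map_inv] at h0
    exact h0
  obtain ⟨q1, q2, q3, q4, q5⟩ := lemQ _ _ r1 r2 r3 r4
  obtain ⟨b, hb⟩ : ∃ b : K, b = x⁻¹ * a * x := ⟨_, rfl⟩
  obtain ⟨c, hc⟩ : ∃ c : K, c = x⁻¹ * b * x := ⟨_, rfl⟩
  have hxa : (x * a) ^ 3 ∈ W := by
    apply (QuotientGroup.eq_one_iff _).mp
    have h0 : QuotientGroup.mk' W ((x * a) ^ 3) = 1 := by
      rw [map_pow, map_mul]; exact q1
    exact h0
  have hxb : (x * b) ^ 3 ∈ W := by
    apply (QuotientGroup.eq_one_iff _).mp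
    have h0 : QuotientGroup.mk' W ((x * b) ^ 3) = 1 := by
      rw [hb]; simp only [map_pow, map_mul, map_inv]; exact q2
    exact h0
  have hxc : (x * c) ^ 3 ∈ W := by
    apply (QuotientGroup.eq_one_iff _).mp
    have h0 : QuotientGroup.mk' W ((x * c) ^ 3) = 1 := by
      rw [hc, hb]; simp only [map_pow, map_mul, map_inv]; exact q3
    exact h0
  have hb2 : b ^ 2 ∈ W := by
    apply (QuotientGroup.eq_one_iff _).mp
    have h0 : QuotientGroup.mk' W (b ^ 2) = 1 := by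
      rw [hb]; simp only [map_pow, map_mul, map_inv]; exact q4
    exact h0
  have hbac : b * a * c⁻¹ ∈ W := by
    apply (QuotientGroup.eq_one_iff _).mp
    have h0 : QuotientGroup.mk' W (b * a * c⁻¹) = 1 := by
      rw [hc, hb]; simp only [map_mul, map_inv]; exact q5
    exact h0
  rw [← hb] at hcomm
  -- exact consequences
  have hconj : ∀ g : K, ∀ w ∈ W, g⁻¹ * w * g ∈ W := by
    intro g w hw
    have h := hWn.conj_mem w hw g⁻¹
    rwa [inv_inv] at h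
  have hcube : ∀ g : K, g ^ 3 ∈ W → g ^ 3 = 1 := by
    intro g hg
    have e1 : (g ^ 3) ^ 3 = 1 := h3 _ hg
    have e2 : (g ^ 3) ^ 2 = 1 := by rw [← pow_mul]; exact hexp g
    have e3 : (g ^ 3) ^ 3 = (g ^ 3) ^ 2 * g ^ 3 := pow_succ (g ^ 3) 2
    rw [e1, e2, one_mul] at e3
    exact e3.symm
  have hN : ∀ g : K, g ^ 3 ∈ W → ∀ w ∈ W,
      (g⁻¹ * g⁻¹ * w * g * g) * (g⁻¹ * w * g) * w = 1 := by
    intro g hg w hw
    have hg1 := hcube g hg
    have e : (g * w) ^ 3 = g ^ 3 * ((g⁻¹ * g⁻¹ * w * g * g) * (g⁻¹ * w * g) * w) := by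
      simp only [pow_succ, pow_zero, one_mul]; group
    have c1 : g⁻¹ * w * g ∈ W := hconj g w hw
    have c2 : g⁻¹ * g⁻¹ * w * g * g ∈ W := by
      have e' : g⁻¹ * g⁻¹ * w * g * g = g⁻¹ * (g⁻¹ * w * g) * g := by group
      rw [e']; exact hconj g _ c1
    have hgw : (g * w) ^ 3 ∈ W := by
      rw [e, hg1, one_mul]
      exact W.mul_mem (W.mul_mem c2 c1) hw
    have hgw1 := hcube (g * w) hgw
    rw [e, hg1, one_mul] at hgw1
    exact hgw1
  have hx1 : x ^ 3 = 1 := hcube x hx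
  have hxxx : x * x * x = 1 := by rw [← hx1]; simp only [pow_succ, pow_zero, one_mul]
  have hxi : x⁻¹ * x⁻¹ * x⁻¹ = 1 := by
    rw [← mul_inv_rev, ← mul_inv_rev, ← mul_assoc, hxxx, inv_one]
  have hxcx : x⁻¹ * c * x = a := by
    calc x⁻¹ * c * x = (x⁻¹ * x⁻¹ * x⁻¹) * a * (x * x * x) := by rw [hc, hb]; group
      _ = a := by rw [hxi, hxxx, one_mul, mul_one]
  have Hc : ∀ z ∈ W, ∀ y ∈ W, z⁻¹ * y * z = y := by
    intro z hz y hy
    rw [mul_assoc, hab y hy z hz, ← mul_assoc, inv_mul_cancel, one_mul]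
  have Hc' : ∀ z ∈ W, ∀ y ∈ W, z * y * z⁻¹ = y := by
    intro z hz y hy
    rw [hab z hz y hy, mul_assoc, mul_inv_cancel, mul_one]
  have F1 : ∀ y ∈ W, a⁻¹ * (a⁻¹ * y * a) * a = y := by
    intro y hy
    have e : a⁻¹ * (a⁻¹ * y * a) * a = (a ^ 2)⁻¹ * y * a ^ 2 := by rw [pow_two]; group
    rw [e]; exact Hc _ ha2 y hy
  have F2 : ∀ y ∈ W, b⁻¹ * (b⁻¹ * y * b) * b = y := by
    intro y hy
    have e : b⁻¹ * (b⁻¹ * y * b) * b = (b ^ 2)⁻¹ * y * b ^ 2 := by rw [pow_two]; group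
    rw [e]; exact Hc _ hb2 y hy
  have F3 : ∀ y ∈ W, b⁻¹ * (a⁻¹ * y * a) * b = a⁻¹ * (b⁻¹ * y * b) * a := by
    intro y hy
    calc b⁻¹ * (a⁻¹ * y * a) * b
        = (b * a)⁻¹ * ((a * b * a⁻¹ * b⁻¹)⁻¹ * y * (a * b * a⁻¹ * b⁻¹)) * (b * a) := by group
      _ = (b * a)⁻¹ * y * (b * a) := by rw [Hc _ hcomm y hy]
      _ = a⁻¹ * (b⁻¹ * y * b) * a := by group
  have F4 : ∀ y ∈ W, c⁻¹ * y * c = a⁻¹ * (b⁻¹ * y * b) * a := by
    intro y hy
    calc c⁻¹ * y * c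
        = (b * a)⁻¹ * ((b * a * c⁻¹) * y * (b * a * c⁻¹)⁻¹) * (b * a) := by group
      _ = (b * a)⁻¹ * y * (b * a) := by rw [Hc' _ hbac y hy]
      _ = a⁻¹ * (b⁻¹ * y * b) * a := by group
  intro w hw
  have I0 := hN x hx w hw
  have I1 := hN (x * a) hxa w hw
  have I2 := hN (x * b) hxb w hw
  have I3 := hN (x * c) hxc w hw
  obtain ⟨u, hu⟩ : ∃ u : K, u = x⁻¹ * x⁻¹ * w * x * x := ⟨_, rfl⟩
  obtain ⟨v, hv⟩ : ∃ v : K, v = x⁻¹ * w * x := ⟨_, rfl⟩
  have hvW : v ∈ W := hv ▸ hconj x w hw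
  have huW : u ∈ W := by
    have e' : u = x⁻¹ * v * x := by rw [hu, hv]; group
    rw [e']; exact hconj x v hvW
  have hcW : ∀ y z : W, y * z = z * y := fun y z => Subtype.ext (hab y y.2 z z.2)
  have h3W : ∀ y : W, y ^ 3 = 1 := fun y => Subtype.ext (by
    rw [Subgroup.coe_pow, Subgroup.coe_one]; exact h3 y y.2)
  have hα2 : ∀ y : W, cj W a (cj W a y) = y := fun y => Subtype.ext (by
    rw [cj_coe, cj_coe]; exact F1 y y.2)
  have H1 : (⟨u, huW⟩ : W) * ⟨v, hvW⟩ * ⟨w, hw⟩ = 1 := by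
    apply Subtype.ext
    show u * v * w = 1
    rw [hu, hv]; exact I0
  have H2 : cj W a (cj W b ⟨u, huW⟩) * cj W a ⟨v, hvW⟩ * ⟨w, hw⟩ = 1 := by
    apply Subtype.ext
    show a⁻¹ * (b⁻¹ * u * b) * a * (a⁻¹ * v * a) * w = 1
    have e' : a⁻¹ * (b⁻¹ * u * b) * a * (a⁻¹ * v * a) * w
        = ((x * a)⁻¹ * (x * a)⁻¹ * w * (x * a) * (x * a)) * ((x * a)⁻¹ * w * (x * a)) * w := by
      rw [hu, hv, hb]; group
    rw [e']; exact I1
  have H3 : cj W a ⟨u, huW⟩ * cj W b ⟨v, hvW⟩ * ⟨w, hw⟩ = 1 := by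
    apply Subtype.ext
    show a⁻¹ * u * a * (b⁻¹ * v * b) * w = 1
    have e1 : a⁻¹ * u * a = b⁻¹ * (c⁻¹ * u * c) * b := by
      rw [F4 u huW, F3 _ (hconj b u huW), F2 u huW]
    have e' : b⁻¹ * (c⁻¹ * u * c) * b * (b⁻¹ * v * b) * w
        = ((x * b)⁻¹ * (x * b)⁻¹ * w * (x * b) * (x * b)) * ((x * b)⁻¹ * w * (x * b)) * w := by
      rw [hu, hv, hc]; group
    rw [e1, e']; exact I2
  have H4 : cj W b ⟨u, huW⟩ * cj W a (cj W b ⟨v, hvW⟩) * ⟨w, hw⟩ = 1 := by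
    apply Subtype.ext
    show b⁻¹ * u * b * (a⁻¹ * (b⁻¹ * v * b) * a) * w = 1
    have e1 : b⁻¹ * u * b = c⁻¹ * (a⁻¹ * u * a) * c := by
      rw [F4 _ (hconj a u huW), F3 u huW, F1 _ (hconj b u huW)]
    have e2 : a⁻¹ * (b⁻¹ * v * b) * a = c⁻¹ * v * c := (F4 v hvW).symm
    have e' : c⁻¹ * (a⁻¹ * u * a) * c * (c⁻¹ * v * c) * w
        = ((x * c)⁻¹ * (x * c)⁻¹ * w * (x * c) * (x * c)) * ((x * c)⁻¹ * w * (x * c)) * w := by
      have e3 : (x * c) * (x * c) = x * x * a * c := by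
        calc (x * c) * (x * c) = x * x * (x⁻¹ * c * x) * c := by group
          _ = x * x * a * c := by rw [hxcx]
      have e4 : (x * c)⁻¹ * (x * c)⁻¹ * w * (x * c) * (x * c)
          = ((x * c) * (x * c))⁻¹ * w * ((x * c) * (x * c)) := by group
      rw [e4, e3, hu, hv]; group
    rw [e1, e2, e']; exact I3
  have hfin := lemT hcW h3W (cj W a) (cj W b) hα2 ⟨u, huW⟩ ⟨v, hvW⟩ ⟨w, hw⟩ H1 H2 H3 H4
  have hfin' := congrArg Subtype.val hfin
  rw [cj_coe] at hfin'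
  exact hfin'

theorem psolv_of_solv (p : ℕ) (hp : p.Prime) : ∀ (n : ℕ) (G : Type u) [Group G] [Finite G],
    Group.IsSolvable G → Nat.card G = n → IsPSolvable p G := by
  intro n
  induction n using Nat.strong_induction_on with
  | _ n ih =>
    intro G _ _ hsol hcard
    by_cases htriv : Subsingleton G
    · refine ⟨0, fun _ => ⊥, rfl, Subsingleton.elim _ _, fun _ _ _ => le_refl _,
        fun _ => Subgroup.normal_bot, fun i => i.elim0⟩
    · rw [not_subsingleton_iff_nontrivial] at htriv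
      have hsol' : Group.IsSolvable G := hsol
      obtain ⟨q, hq, Q, hQn, hQne, hQp⟩ := Cfsg.Agent.Lib.Helper1.exists_normal_pgroup G
      have hQcard : 1 < Nat.card Q := by
        rw [Finite.one_lt_card_iff_nontrivial]
        exact (Subgroup.nontrivial_iff_ne_bot Q).mpr hQne
      have hlt : Nat.card (G ⧸ Q) < n := by
        rw [← hcard, Subgroup.card_eq_card_quotient_mul_card_subgroup Q]
        have hpos : 0 < Nat.card (G ⧸ Q) := Nat.card_pos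
        nlinarith
      have hsolq : Group.IsSolvable (G ⧸ Q) :=
        Group.isSolvable_of_surjective (QuotientGroup.mk'_surjective Q)
      obtain ⟨m, H, h0, hl, hm, hn, hfac⟩ := ih _ hlt (G ⧸ Q) hsolq rfl
      refine ⟨m + 1, Fin.cons ⊥ (fun i => (H i).comap (QuotientGroup.mk' Q)), ?_, ?_, ?_, ?_, ?_⟩
      · rfl
      · rw [← Fin.succ_last, Fin.cons_succ, hl, Subgroup.comap_top]
      · rw [Fin.monotone_iff_le_succ]
        intro i
        refine Fin.cases ?_ ?_ i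
        · rw [Fin.castSucc_zero, Fin.cons_zero]
          exact bot_le
        · intro j
          rw [← Fin.succ_castSucc, Fin.cons_succ, Fin.cons_succ]
          exact Subgroup.comap_mono (hm (Fin.castSucc_lt_succ (i := j)).le)
      · intro i
        refine Fin.cases ?_ ?_ i
        · rw [Fin.cons_zero]; exact Subgroup.normal_bot
        · intro j
          rw [Fin.cons_succ]
          exact (hn j).comap _
      · intro i
        refine Fin.cases ?_ ?_ i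
        · rw [Fin.castSucc_zero, Fin.cons_zero, Fin.cons_succ, h0, Subgroup.relIndex_bot_left]
          have hker : Nat.card ((⊥ : Subgroup (G ⧸ Q)).comap (QuotientGroup.mk' Q)) = Nat.card Q := by
            have : (⊥ : Subgroup (G ⧸ Q)).comap (QuotientGroup.mk' Q) = Q := by
              rw [MonoidHom.comap_bot, QuotientGroup.ker_mk']
            rw [this]
          rw [hker]
          have hqf : Fact q.Prime := ⟨hq⟩
          obtain ⟨k, hk⟩ := IsPGroup.iff_card.mp hQp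
          by_cases hqp : q = p
          · left; exact ⟨k, by rw [hk, hqp]⟩
          · right
            rw [hk]
            exact Nat.Coprime.pow_left k ((Nat.coprime_primes hq hp).mpr hqp)
        · intro j
          rw [← Fin.succ_castSucc, Fin.cons_succ, Fin.cons_succ, Subgroup.relIndex_comap,
            Subgroup.map_comap_eq_self_of_surjective (QuotientGroup.mk'_surjective Q)]
          exact hfac j

theorem exp6_solvable {G : Type u} [Group G] [Finite G] (h : ∀ x : G, x ^ 6 = 1) :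
    Group.IsSolvable G := by
  have hn : Nat.card G ≠ 0 := Nat.card_pos.ne'
  obtain ⟨a, m, hm2, hm⟩ := Nat.exists_eq_pow_mul_and_not_dvd hn 2 (by norm_num)
  have hm0 : m ≠ 0 := by
    rintro rfl
    rw [mul_zero] at hm
    exact hn hm
  obtain ⟨b, m', hm3, hm'⟩ := Nat.exists_eq_pow_mul_and_not_dvd hm0 3 (by norm_num)
  have hm1 : m' = 1 := by
    by_contra hne
    obtain ⟨r, hr, hrm⟩ := Nat.exists_prime_and_dvd hne
    have hrn : r ∣ Nat.card G := by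
      rw [hm, hm']
      exact dvd_mul_of_dvd_right (dvd_mul_of_dvd_right hrm _) _
    haveI : Fact r.Prime := ⟨hr⟩
    obtain ⟨x, hx⟩ := exists_prime_orderOf_dvd_card' r hrn
    have h6 : r ∣ 6 := by
      rw [← hx]
      exact orderOf_dvd_of_pow_eq_one (h x)
    have h6' : r ∣ 2 * 3 := h6
    rcases (Nat.Prime.dvd_mul hr).mp h6' with h2 | h3
    · have : r = 2 := (Nat.prime_dvd_prime_iff_eq hr Nat.prime_two).mp h2
      rw [this] at hrm
      exact hm2 (by rw [hm']; exact dvd_mul_of_dvd_right hrm _)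
    · have : r = 3 := (Nat.prime_dvd_prime_iff_eq hr Nat.prime_three).mp h3
      rw [this] at hrm
      exact hm3 hrm
  rw [hm1, mul_one] at hm'
  rw [hm'] at hm
  exact Cfsg.Agent.S0144.result 2 3 a b Nat.prime_two Nat.prime_three hm

theorem pow_two_of_pow {K : Type*} [Group K] (hexp : ∀ g : K, g ^ 6 = 1) (g : K) (k : ℕ)
    (hg : g ^ 2 ^ k = 1) : g ^ 2 = 1 := by
  have h1 : orderOf g ∣ 2 ^ k := orderOf_dvd_of_pow_eq_one hg
  have h2 : orderOf g ∣ 2 * 3 := orderOf_dvd_of_pow_eq_one (hexp g)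
  have h3 : Nat.Coprime (orderOf g) 3 :=
    Nat.Coprime.coprime_dvd_left h1 (Nat.Coprime.pow_left k (by norm_num))
  exact orderOf_dvd_iff_pow_eq_one.mp (Nat.Coprime.dvd_of_dvd_mul_right h3 h2)

theorem pow_three_of_pow {K : Type*} [Group K] (hexp : ∀ g : K, g ^ 6 = 1) (g : K) (k : ℕ)
    (hg : g ^ 3 ^ k = 1) : g ^ 3 = 1 := by
  have h1 : orderOf g ∣ 3 ^ k := orderOf_dvd_of_pow_eq_one hg
  have h2 : orderOf g ∣ 2 * 3 := orderOf_dvd_of_pow_eq_one (hexp g)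
  have h3 : Nat.Coprime (orderOf g) 2 :=
    Nat.Coprime.coprime_dvd_left h1 (Nat.Coprime.pow_left k (by norm_num))
  exact orderOf_dvd_iff_pow_eq_one.mp (Nat.Coprime.dvd_of_dvd_mul_left h3 h2)

theorem comm_of_sq {K : Type*} [Group K] (x y : K) (hx : x ^ 2 = 1) (hy : y ^ 2 = 1)
    (hxy : (y * x) ^ 2 = 1) : x * y = y * x := by
  have hx' : x * x = 1 := by rw [← pow_two]; exact hx
  have hy' : y * y = 1 := by rw [← pow_two]; exact hy
  have hxy' : (y * x) * (y * x) = 1 := by rw [← pow_two]; exact hxy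
  calc x * y = (y * y) * (x * y) * (x * x) := by rw [hx', hy', one_mul, mul_one]
    _ = y * ((y * x) * (y * x)) * x := by group
    _ = y * x := by rw [hxy', mul_one]

theorem class_le_one_of_comm {S : Type*} [Group S] [Group.IsNilpotent S]
    (hc : ∀ x y : S, x * y = y * x) : Group.nilpotencyClass S ≤ 1 := by
  rw [← Subgroup.lowerCentralSeries_eq_bot_iff_nilpotencyClass_le]
  rw [Subgroup.top_lowerCentralSeries_one, _root_.commutator_def,
    Subgroup.commutator_eq_bot_iff_le_centralizer]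
  intro x _
  rw [Subgroup.mem_centralizer_iff]
  intro y _
  exact hc y x

theorem lemA {Q : Type*} [Group Q] (T : Subgroup Q) [hTn : T.Normal] (hT2 : ∀ t ∈ T, t ^ 2 = 1)
    (hcent : Subgroup.centralizer (T : Set Q) ≤ T) (ξ : Q) (h3 : ξ ^ 3 = 1) (hξ : ξ ≠ 1) :
    ∃ α : Q, α ≠ 1 ∧ α ^ 2 = 1 ∧ α * (ξ⁻¹ * α * ξ) * α⁻¹ * (ξ⁻¹ * α * ξ)⁻¹ = 1 ∧
      α * (ξ⁻¹ * α * ξ) * (ξ⁻¹ * (ξ⁻¹ * α * ξ) * ξ) = 1 := by
  have hconj : ∀ g : Q, ∀ t ∈ T, g⁻¹ * t * g ∈ T := by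
    intro g t ht
    have h := hTn.conj_mem t ht g⁻¹
    rwa [inv_inv] at h
  have hTc : ∀ s ∈ T, ∀ t ∈ T, s * t = t * s := by
    intro s hs t ht
    exact comm_of_sq s t (hT2 s hs) (hT2 t ht) (hT2 _ (T.mul_mem ht hs))
  have hξ3 : ξ * ξ * ξ = 1 := by rw [← h3]; simp only [pow_succ, pow_zero, one_mul]
  have hξT : ξ ∉ T := by
    intro hmem
    have h2 := hT2 ξ hmem
    have h2' : ξ * ξ = 1 := by rw [← pow_two]; exact h2
    apply hξ
    calc ξ = (ξ * ξ)⁻¹ * (ξ * ξ * ξ) := by group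
      _ = 1 := by rw [hξ3, h2']; simp
  have hnc : ξ ∉ Subgroup.centralizer (T : Set Q) := fun h => hξT (hcent h)
  rw [Subgroup.mem_centralizer_iff] at hnc
  push Not at hnc
  obtain ⟨τ, hτT, hτ⟩ := hnc
  have hτT' : τ ∈ T := hτT
  obtain ⟨σ, hσ⟩ : ∃ σ : Q, σ = ξ⁻¹ * τ * ξ := ⟨_, rfl⟩
  obtain ⟨ρ, hρ⟩ : ∃ ρ : Q, ρ = ξ⁻¹ * σ * ξ := ⟨_, rfl⟩
  have hσT : σ ∈ T := hσ ▸ hconj ξ τ hτT'
  have hρT : ρ ∈ T := hρ ▸ hconj ξ σ hσT
  have hρξ : ξ⁻¹ * ρ * ξ = τ := by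
    calc ξ⁻¹ * ρ * ξ = (ξ * ξ * ξ)⁻¹ * τ * (ξ * ξ * ξ) := by rw [hρ, hσ]; group
      _ = τ := by rw [hξ3]; simp
  have hττ : τ * τ = 1 := by rw [← pow_two]; exact hT2 τ hτT'
  have hσσ : σ * σ = 1 := by rw [← pow_two]; exact hT2 σ hσT
  have hρρ : ρ * ρ = 1 := by rw [← pow_two]; exact hT2 ρ hρT
  refine ⟨τ * σ, ?_, ?_, ?_, ?_⟩
  · intro h1
    apply hτ
    have e1 : σ = τ := by
      calc σ = (τ * τ) * σ := by rw [hττ, one_mul]
        _ = τ * (τ * σ) := by group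
        _ = τ := by rw [h1, mul_one]
    rw [hσ] at e1
    calc τ * ξ = ξ * (ξ⁻¹ * τ * ξ) := by group
      _ = ξ * τ := by rw [e1]
  · exact hT2 _ (T.mul_mem hτT' hσT)
  · have hα : τ * σ ∈ T := T.mul_mem hτT' hσT
    have hβ : ξ⁻¹ * (τ * σ) * ξ ∈ T := hconj ξ _ hα
    rw [hTc _ hα _ hβ]; group
  · have eβ : ξ⁻¹ * (τ * σ) * ξ = σ * ρ := by rw [hρ, hσ]; group
    have eγ : ξ⁻¹ * (σ * ρ) * ξ = ρ * τ := by
      calc ξ⁻¹ * (σ * ρ) * ξ = (ξ⁻¹ * σ * ξ) * (ξ⁻¹ * ρ * ξ) := by group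
        _ = ρ * τ := by rw [← hρ, hρξ]
    rw [eβ, eγ]
    calc τ * σ * (σ * ρ) * (ρ * τ) = τ * (σ * σ) * (ρ * ρ) * τ := by group
      _ = 1 := by rw [hσσ, hρρ, mul_one, mul_one, hττ]

theorem core3_aux {H : Type*} [Group H] [Finite H] (W : Subgroup H) [hWn : W.Normal]
    (hW : IsPGroup 3 W) (hexp : ∀ g : H, g ^ 6 = 1) (x a : H) (hx : x ^ 3 ∈ W) (ha2 : a ^ 2 ∈ W)
    (hcomm : a * (x⁻¹ * a * x) * a⁻¹ * (x⁻¹ * a * x)⁻¹ ∈ W)
    (habc : a * (x⁻¹ * a * x) * (x⁻¹ * (x⁻¹ * a * x) * x) ∈ W) :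
    ∀ w ∈ W, a * w * a⁻¹ * w⁻¹ ∈ (frattini ↥W).map W.subtype := by
  have hf3 : Fact (Nat.Prime 3) := ⟨Nat.prime_three⟩
  have hΦn0 : ((frattini ↥W).map W.subtype).Normal := by
    have h1 := Cfsg.Agent.Lib.Helper18.normalizer_le_normalizer_map_frattini W
    have h2 : Subgroup.normalizer (W : Set H) = ⊤ := Subgroup.normalizer_eq_top_iff.mpr hWn
    rw [h2, top_le_iff] at h1
    exact Subgroup.normalizer_eq_top_iff.mp h1
  have hΦW0 : (frattini ↥W).map W.subtype ≤ W := by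
    rintro _ ⟨y, -, rfl⟩
    exact y.2
  have hcomm0 : ∀ u ∈ W, ∀ v ∈ W, u * v * u⁻¹ * v⁻¹ ∈ (frattini ↥W).map W.subtype := by
    intro u hu v hv
    have hnil : Group.IsNilpotent ↥W := hW.isNilpotent
    have h1 : ⁅(⟨u, hu⟩ : W), ⟨v, hv⟩⁆ ∈ _root_.commutator ↥W :=
      Subgroup.commutator_mem_commutator (Subgroup.mem_top _) (Subgroup.mem_top _)
    have h2 := Cfsg.Agent.Lib.Helper18.commutator_le_frattini_of_isNilpotent h1
    exact ⟨_, h2, rfl⟩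
  obtain ⟨Φ, hΦdef⟩ : ∃ Φ : Subgroup H, Φ = (frattini ↥W).map W.subtype := ⟨_, rfl⟩
  rw [← hΦdef] at hΦn0 hΦW0 hcomm0 ⊢
  have hΦn : Φ.Normal := hΦn0
  have hmem : ∀ h : H, QuotientGroup.mk' Φ h ∈ W.map (QuotientGroup.mk' Φ) ↔ h ∈ W := by
    intro h
    constructor
    · rintro ⟨w, hw, hwh⟩
      have h1 : w⁻¹ * h ∈ Φ := QuotientGroup.eq.mp hwh
      have e : h = w * (w⁻¹ * h) := by group
      rw [e]
      exact W.mul_mem hw (hΦW0 h1)
    · intro hh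
      exact ⟨h, hh, rfl⟩
  have hŴn : (W.map (QuotientGroup.mk' Φ)).Normal :=
    hWn.map _ (QuotientGroup.mk'_surjective Φ)
  have hexpK : ∀ g : H ⧸ Φ, g ^ 6 = 1 := by
    intro g
    obtain ⟨g, rfl⟩ := QuotientGroup.mk'_surjective Φ g
    rw [← map_pow, hexp g, map_one]
  have hab : ∀ u ∈ W.map (QuotientGroup.mk' Φ), ∀ v ∈ W.map (QuotientGroup.mk' Φ),
      u * v = v * u := by
    rintro _ ⟨u, hu, rfl⟩ _ ⟨v, hv, rfl⟩
    have h2 : QuotientGroup.mk' Φ (u * v * u⁻¹ * v⁻¹) = 1 :=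
      (QuotientGroup.eq_one_iff _).mpr (hcomm0 u hu v hv)
    rw [map_mul, map_mul, map_mul, map_inv, map_inv] at h2
    exact mul_inv_eq_iff_eq_mul.mp (mul_inv_eq_one.mp h2)
  have h3 : ∀ u ∈ W.map (QuotientGroup.mk' Φ), u ^ 3 = 1 := by
    rintro _ ⟨u, hu, rfl⟩
    obtain ⟨k, hk⟩ := hW ⟨u, hu⟩
    have hk' : u ^ 3 ^ k = 1 := congrArg Subtype.val hk
    rw [← map_pow, pow_three_of_pow hexp u k hk', map_one]
  have key := lemV (W.map (QuotientGroup.mk' Φ)) hexpK hab h3 (QuotientGroup.mk' Φ x)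
    (QuotientGroup.mk' Φ a)
    (by rw [← map_pow]; exact (hmem _).mpr hx)
    (by rw [← map_pow]; exact (hmem _).mpr ha2)
    (by have := (hmem _).mpr hcomm; simpa only [map_mul, map_inv] using this)
    (by have := (hmem _).mpr habc; simpa only [map_mul, map_inv] using this)
  intro w hw
  have hw' : a * w * a⁻¹ ∈ W := hWn.conj_mem w hw a
  have h1 := key _ ((hmem _).mpr hw')
  apply (QuotientGroup.eq_one_iff _).mp
  show QuotientGroup.mk' Φ (a * w * a⁻¹ * w⁻¹) = 1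
  rw [map_mul, map_inv, mul_inv_eq_one, ← h1]
  simp only [map_mul, map_inv]
  group

theorem core3 {H : Type u} [Group H] [Finite H] (hexp : ∀ g : H, g ^ 6 = 1)
    (hO : pPrimeCore 3 H = ⊥) : (pCore 3 H).index.Coprime 3 := by
  have hf3 : Fact (Nat.Prime 3) := ⟨Nat.prime_three⟩
  have hf2 : Fact (Nat.Prime 2) := ⟨Nat.prime_two⟩
  by_contra hcop
  have hdvd : 3 ∣ (pCore 3 H).index := by
    by_contra hnd
    exact hcop ((Nat.Prime.coprime_iff_not_dvd Nat.prime_three).mpr hnd).symm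
  have hexpQ : ∀ g : H ⧸ pCore 3 H, g ^ 6 = 1 := by
    intro g
    obtain ⟨g, rfl⟩ := QuotientGroup.mk'_surjective (pCore 3 H) g
    rw [← map_pow, hexp g, map_one]
  have hcardQ : 3 ∣ Nat.card (H ⧸ pCore 3 H) := hdvd
  obtain ⟨ξ, hξ⟩ := exists_prime_orderOf_dvd_card' 3 hcardQ
  have hξ3 : ξ ^ 3 = 1 := by
    have h0 := pow_orderOf_eq_one ξ
    rwa [hξ] at h0
  have hξ1 : ξ ≠ 1 := by
    intro h1
    rw [h1, orderOf_one] at hξ
    norm_num at hξ
  have hp3 : pCore 3 (H ⧸ pCore 3 H) = ⊥ := Cfsg.Agent.Lib.Helper6.pCore_quotient_pCore_eq_bot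
  have hp2' : pPrimeCore 2 (H ⧸ pCore 3 H) = ⊥ := by
    rw [eq_bot_iff, ← hp3]
    apply Cfsg.Agent.Lib.Helper14.le_pCore 3 inferInstance
    rintro ⟨g, hg⟩
    refine ⟨1, Subtype.ext ?_⟩
    rw [Subgroup.coe_pow, Subgroup.coe_one, pow_one]
    show g ^ 3 = 1
    have h1 : orderOf g ∣ Nat.card (pPrimeCore 2 (H ⧸ pCore 3 H)) := by
      have := orderOf_dvd_natCard (⟨g, hg⟩ : pPrimeCore 2 (H ⧸ pCore 3 H))
      rwa [Subgroup.orderOf_mk] at this
    have h2 : Nat.Coprime (orderOf g) 2 :=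
      Nat.Coprime.coprime_dvd_left h1 (Cfsg.Agent.Lib.Helper14.pPrimeCore_coprime 2)
    have h3 : orderOf g ∣ 2 * 3 := orderOf_dvd_of_pow_eq_one (hexpQ g)
    exact orderOf_dvd_iff_pow_eq_one.mp (Nat.Coprime.dvd_of_dvd_mul_left h2 h3)
  have hsolQ : IsPSolvable 2 (H ⧸ pCore 3 H) :=
    psolv_of_solv 2 Nat.prime_two _ _ (exp6_solvable hexpQ) rfl
  have hcent := Cfsg.Agent.Lib.Helper6.centralizer_pCore_le_of_isPSolvable hsolQ hp2'
  have hT2 : ∀ t ∈ pCore 2 (H ⧸ pCore 3 H), t ^ 2 = 1 := by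
    intro t ht
    obtain ⟨k, hk⟩ := (Cfsg.Agent.Lib.Helper14.pCore_isPGroup 2) ⟨t, ht⟩
    have hk' : t ^ 2 ^ k = 1 := congrArg Subtype.val hk
    exact pow_two_of_pow hexpQ t k hk'
  obtain ⟨α, hα1, hα2, hαc, hαp⟩ := lemA (pCore 2 (H ⧸ pCore 3 H)) hT2 hcent ξ hξ3 hξ1
  obtain ⟨x, rfl⟩ := QuotientGroup.mk'_surjective (pCore 3 H) ξ
  obtain ⟨a, rfl⟩ := QuotientGroup.mk'_surjective (pCore 3 H) α
  have hx : x ^ 3 ∈ pCore 3 H := by
    apply (QuotientGroup.eq_one_iff _).mp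
    have h0 : QuotientGroup.mk' (pCore 3 H) (x ^ 3) = 1 := by rw [map_pow]; exact hξ3
    exact h0
  have ha2 : a ^ 2 ∈ pCore 3 H := by
    apply (QuotientGroup.eq_one_iff _).mp
    have h0 : QuotientGroup.mk' (pCore 3 H) (a ^ 2) = 1 := by rw [map_pow]; exact hα2
    exact h0
  have haW : a ∉ pCore 3 H := fun h => hα1 ((QuotientGroup.eq_one_iff _).mpr h)
  have hcomm : a * (x⁻¹ * a * x) * a⁻¹ * (x⁻¹ * a * x)⁻¹ ∈ pCore 3 H := by
    apply (QuotientGroup.eq_one_iff _).mp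
    have h0 : QuotientGroup.mk' (pCore 3 H) (a * (x⁻¹ * a * x) * a⁻¹ * (x⁻¹ * a * x)⁻¹) = 1 := by
      simp only [map_mul, map_inv]; exact hαc
    exact h0
  have habc : a * (x⁻¹ * a * x) * (x⁻¹ * (x⁻¹ * a * x) * x) ∈ pCore 3 H := by
    apply (QuotientGroup.eq_one_iff _).mp
    have h0 : QuotientGroup.mk' (pCore 3 H) (a * (x⁻¹ * a * x) * (x⁻¹ * (x⁻¹ * a * x) * x)) = 1 := by
      simp only [map_mul, map_inv]; exact hαp
    exact h0
  have hsolH : IsPSolvable 3 H := psolv_of_solv 3 Nat.prime_three _ _ (exp6_solvable hexp) rfl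
  apply haW
  apply Cfsg.Agent.S4218.key hsolH hO a
  exact core3_aux (pCore 3 H) (Cfsg.Agent.Lib.Helper14.pCore_isPGroup 3) hexp x a hx ha2 hcomm habc

/-- A finite group in which every element has order dividing `6` has `2`-length at most `1` and `3`-length at most `1`. -/
theorem result {G : Type*} [Group G] [Finite G] (h : ∀ x : G, x ^ 6 = 1) : Cfsg.PLengthLE 2 1 G ∧ Cfsg.PLengthLE 3 1 G := by
  have hf3 : Fact (Nat.Prime 3) := ⟨Nat.prime_three⟩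
  have hf2 : Fact (Nat.Prime 2) := ⟨Nat.prime_two⟩
  constructor
  · have hsol2 : IsPSolvable 2 G := psolv_of_solv 2 Nat.prime_two _ G (exp6_solvable h) rfl
    obtain ⟨S⟩ : Nonempty (Sylow 2 G) := inferInstance
    apply Cfsg.Agent.Lib.Helper6.plength_le_class_aux 1 G hsol2 S
    have hnil : Group.IsNilpotent ↥(S : Subgroup G) := S.2.isNilpotent
    apply class_le_one_of_comm
    have hS2 : ∀ s : ↥(S : Subgroup G), s ^ 2 = 1 := by
      intro s
      obtain ⟨k, hk⟩ := S.2 s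
      apply Subtype.ext
      rw [Subgroup.coe_pow, Subgroup.coe_one]
      have hk' : (s : G) ^ 2 ^ k = 1 := by
        have := congrArg Subtype.val hk
        rwa [Subgroup.coe_pow, Subgroup.coe_one] at this
      exact pow_two_of_pow h s k hk'
    intro x y
    exact comm_of_sq x y (hS2 x) (hS2 y) (hS2 _)
  · show (upperPSeries 3 G (2 + 1)).1 = ⊤
    have e3 := Cfsg.Agent.Lib.Helper6.upperPSeries_succ_even (p := 3) (G := G) 2 (by decide)
    have e2 : (upperPSeries 3 G 2).1 = (pCore 3 (G ⧸ (upperPSeries 3 G 1).1)).comap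
        (QuotientGroup.mk' (upperPSeries 3 G 1).1) :=
      Cfsg.Agent.Lib.Helper6.upperPSeries_succ_odd (p := 3) (G := G) 1 (by decide)
    have e1 : (upperPSeries 3 G 1).1 = (pPrimeCore 3 (G ⧸ (upperPSeries 3 G 0).1)).comap
        (QuotientGroup.mk' (upperPSeries 3 G 0).1) :=
      Cfsg.Agent.Lib.Helper6.upperPSeries_succ_even (p := 3) (G := G) 0 (by decide)
    have hO : pPrimeCore 3 (G ⧸ (upperPSeries 3 G 1).1) = ⊥ :=
      Cfsg.Agent.Lib.Helper6.pPrimeCore_quotient_comap_eq_bot (upperPSeries 3 G 0).1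
        (upperPSeries 3 G 1).1 e1
    have hexpH : ∀ g : G ⧸ (upperPSeries 3 G 1).1, g ^ 6 = 1 := by
      intro g
      obtain ⟨g, rfl⟩ := QuotientGroup.mk'_surjective _ g
      rw [← map_pow, h g, map_one]
    have hc := core3 hexpH hO
    have hidx : (upperPSeries 3 G 2).1.index
        = (pCore 3 (G ⧸ (upperPSeries 3 G 1).1)).index := by
      rw [e2]
      exact Subgroup.index_comap_of_surjective _ (QuotientGroup.mk'_surjective _)
    rw [e3, Cfsg.Agent.Lib.Helper6.pPrimeCore_eq_top_of_coprime, Subgroup.comap_top]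
    show ((upperPSeries 3 G 2).1.index).Coprime 3
    rw [hidx]
    exact hc

end Cfsg.Agent.S4227
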