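import Mathlib
import Cfsg.Statements.S0895
import Cfsg.Agent.Lib.Helper2.CharBridge
import Cfsg.Agent.Lib.Helper8.SchurAux

set_option autoImplicit false
open Cfsg

namespace Cfsg.Agent.S0895

open Cfsg.Agent.Lib.Helper2
open scoped ComplexConjugate Matrix

/-- an invariant submodule of an irreducible representation is trivial or everything -/
theorem invariant_bot_or_top {G V : Type*} [Group G] [AddCommGroup V] [Module ℂ V]
    (ρ : Representation ℂ G V) (hρ : ρ.IsIrreducible) (U : Submodule ℂ V)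
    (hU : ∀ g : G, ∀ v ∈ U, ρ g v ∈ U) : U = ⊥ ∨ U = ⊤ := by
  have := hρ
  rcases IsSimpleOrder.eq_bot_or_eq_top
    (⟨U, fun g v hv => hU g v hv⟩ : Subrepresentation ρ) with h | h
  · left; exact congrArg Subrepresentation.toSubmodule h
  · right; exact congrArg Subrepresentation.toSubmodule h

/-- entry formula -/
theorem entry_single {n : ℕ} (A B : Matrix (Fin n) (Fin n) ℂ) (i j a b : Fin n) :
    (A * Matrix.single i j (1 : ℂ) * B) a b = A a i * B j b := by
  classical
  rw [Matrix.mul_apply, Finset.sum_eq_single j]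
  · rw [Matrix.mul_single_apply_same (1 : ℂ) i j a A, mul_one]
  · intro k _ hk
    rw [Matrix.mul_single_apply_of_ne (1 : ℂ) i j a k hk A, zero_mul]
  · intro h; exact absurd (Finset.mem_univ j) h

theorem twist {n : ℕ} (A A' W : Matrix (Fin n) (Fin n) ℂ) (hA : A' * A = 1)
    (hW : A * W * Aᵀ = W) : A * W = W * A'ᵀ := by
  calc A * W = A * W * (Aᵀ * A'ᵀ) := by
        rw [← Matrix.transpose_mul, hA, Matrix.transpose_one, Matrix.mul_one]
    _ = (A * W * Aᵀ) * A'ᵀ := by rw [Matrix.mul_assoc (A * W)]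
    _ = W * A'ᵀ := by rw [hW]

theorem symm_of_invariant {G : Type*} [Group G] {n : ℕ} (hn : Odd n)
    (ρ : Representation ℂ G (Fin n → ℂ)) (hρ : ρ.IsIrreducible)
    (W : Matrix (Fin n) (Fin n) ℂ)
    (hW : ∀ g : G, LinearMap.toMatrix' (ρ g) * W * (LinearMap.toMatrix' (ρ g))ᵀ = W) :
    Wᵀ = W := by
  classical
  by_cases h0 : W = 0
  · rw [h0, Matrix.transpose_zero]
  have hmul : ∀ g h : G, LinearMap.toMatrix' (ρ (g * h))
      = LinearMap.toMatrix' (ρ g) * LinearMap.toMatrix' (ρ h) := fun g h => by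
    rw [map_mul, Module.End.mul_eq_comp, LinearMap.toMatrix'_comp]
  have hone : LinearMap.toMatrix' (ρ (1 : G)) = 1 := by
    rw [map_one, Module.End.one_eq_id, LinearMap.toMatrix'_id]
  have hinv : ∀ g : G, LinearMap.toMatrix' (ρ g⁻¹) * LinearMap.toMatrix' (ρ g) = 1 := fun g => by
    rw [← hmul, inv_mul_cancel, hone]
  have h1 : ∀ g : G, LinearMap.toMatrix' (ρ g) * W = W * (LinearMap.toMatrix' (ρ g⁻¹))ᵀ :=
    fun g => twist _ _ W (hinv g) (hW g)
  have he : ∀ g : G, ρ g = Matrix.toLin' (LinearMap.toMatrix' (ρ g)) := fun g => by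
    rw [Matrix.toLin'_toMatrix']
  -- range invariant
  have hU : ∀ g : G, ∀ v ∈ LinearMap.range (Matrix.toLin' W),
      ρ g v ∈ LinearMap.range (Matrix.toLin' W) := by
    intro g v hv
    obtain ⟨u, rfl⟩ := hv
    refine ⟨Matrix.toLin' (LinearMap.toMatrix' (ρ g⁻¹))ᵀ u, ?_⟩
    rw [he g, ← LinearMap.comp_apply, ← LinearMap.comp_apply, ← Matrix.toLin'_mul,
      ← Matrix.toLin'_mul, h1 g]
  rcases invariant_bot_or_top ρ hρ _ hU with hb | ht
  · exfalso; apply h0
    have : Matrix.toLin' W = 0 := LinearMap.range_eq_bot.1 hb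
    simpa using this
  have hunit : IsUnit W := by
    rw [← Matrix.mulVec_surjective_iff_isUnit]
    intro v
    have : v ∈ LinearMap.range (Matrix.toLin' W) := by rw [ht]; trivial
    obtain ⟨u, hu⟩ := this
    exact ⟨u, by simpa [Matrix.toLin'_apply] using hu⟩
  have hdet : IsUnit W.det := (Matrix.isUnit_iff_isUnit_det W).1 hunit
  have hWt : ∀ g : G,
      LinearMap.toMatrix' (ρ g) * Wᵀ * (LinearMap.toMatrix' (ρ g))ᵀ = Wᵀ := by
    intro g
    have := congrArg Matrix.transpose (hW g)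
    rw [Matrix.transpose_mul, Matrix.transpose_mul, Matrix.transpose_transpose,
      ← Matrix.mul_assoc] at this
    exact this
  have h1t : ∀ g : G, LinearMap.toMatrix' (ρ g) * Wᵀ = Wᵀ * (LinearMap.toMatrix' (ρ g⁻¹))ᵀ :=
    fun g => twist _ _ Wᵀ (hinv g) (hWt g)
  have h2 : ∀ g : G, W⁻¹ * LinearMap.toMatrix' (ρ g)
      = (LinearMap.toMatrix' (ρ g⁻¹))ᵀ * W⁻¹ := by
    intro g
    calc W⁻¹ * LinearMap.toMatrix' (ρ g)
        = W⁻¹ * (LinearMap.toMatrix' (ρ g) * W) * W⁻¹ := by
          rw [Matrix.mul_assoc, Matrix.mul_assoc, Matrix.mul_nonsing_inv _ hdet, Matrix.mul_one]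
      _ = W⁻¹ * (W * (LinearMap.toMatrix' (ρ g⁻¹))ᵀ) * W⁻¹ := by rw [h1 g]
      _ = (LinearMap.toMatrix' (ρ g⁻¹))ᵀ * W⁻¹ := by
          rw [← Matrix.mul_assoc, Matrix.nonsing_inv_mul _ hdet, Matrix.one_mul]
  have hcomm : ∀ g : G, (Wᵀ * W⁻¹) * LinearMap.toMatrix' (ρ g)
      = LinearMap.toMatrix' (ρ g) * (Wᵀ * W⁻¹) := by
    intro g
    rw [Matrix.mul_assoc, h2 g, ← Matrix.mul_assoc, ← h1t g, Matrix.mul_assoc]
  obtain ⟨c, hc⟩ := Cfsg.Agent.Lib.Helper8.schur_scalar ρ hρ (Matrix.toLin' (Wᵀ * W⁻¹)) (by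
    intro g
    rw [he g, ← Matrix.toLin'_mul, ← Matrix.toLin'_mul, hcomm g])
  have hc' : Wᵀ * W⁻¹ = c • (1 : Matrix (Fin n) (Fin n) ℂ) := by
    have := congrArg LinearMap.toMatrix' hc
    rw [LinearMap.toMatrix'_toLin'] at this
    rw [this, map_smul]
    congr 1
    exact LinearMap.toMatrix'_id
  have hWc : Wᵀ = c • W := by
    have := congrArg (· * W) hc'
    simp only [Matrix.mul_assoc, Matrix.nonsing_inv_mul _ hdet, Matrix.mul_one, Matrix.smul_mul,
      Matrix.one_mul] at this
    exact this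
  have hcc : c * c = 1 := by
    have := congrArg Matrix.transpose hWc
    rw [Matrix.transpose_transpose, Matrix.transpose_smul, hWc, smul_smul] at this
    by_contra hne
    apply h0
    have h3 : (1 - c * c) • W = 0 := by rw [sub_smul, one_smul, ← this, sub_self]
    rcases smul_eq_zero.1 h3 with h | h
    · exact absurd (sub_eq_zero.1 h).symm hne
    · exact h
  rcases mul_self_eq_one_iff.1 hcc with rfl | rfl
  · rw [hWc, one_smul]
  · exfalso
    have hd := congrArg Matrix.det hWc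
    rw [Matrix.det_transpose, Matrix.det_smul, Fintype.card_fin, hn.neg_one_pow] at hd
    have : W.det = 0 := by linear_combination hd / 2
    exact hdet.ne_zero this

/-- A consequence of the Brauer–Speiser theorem: a real-valued irreducible character of odd degree has Frobenius–Schur indicator +1 (it is afforded by a real representation, never of quaternionic type). -/
theorem result {G : Type*} [Group G] [Fintype G] (χ : G → ℂ) (hχ : Cfsg.IsIrrCharacter G χ) (hreal : ∀ g : G, (χ g).im = 0) (d : ℕ) (hd : χ 1 = d) (hodd : Odd d) : (Nat.card G : ℂ)⁻¹ * ∑ s : G, χ (s * s) = 1 := by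
  classical
  have h1 := classInner_irr_self hχ
  obtain ⟨n, ρ, hρ, rfl⟩ := hχ
  have htr : ∀ g : G, ρ.character g = Matrix.trace (LinearMap.toMatrix' (ρ g)) := by
    intro g
    have := LinearMap.trace_eq_matrix_trace ℂ (Pi.basisFun ℂ (Fin n)) (ρ g)
    rw [LinearMap.toMatrix_eq_toMatrix'] at this
    exact this
  have hmul : ∀ g h : G, LinearMap.toMatrix' (ρ (g * h))
      = LinearMap.toMatrix' (ρ g) * LinearMap.toMatrix' (ρ h) := fun g h => by
    rw [map_mul, Module.End.mul_eq_comp, LinearMap.toMatrix'_comp]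
  have hn : Odd n := by
    have h1 : ρ.character 1 = n := by
      rw [Representation.char_one]; simp
    have h2 : (n : ℂ) = d := by rw [← h1, hd]
    have h3 : n = d := by exact_mod_cast h2
    rw [h3]; exact hodd
  have hTinv : ∀ (W : Matrix (Fin n) (Fin n) ℂ) (h : G),
      LinearMap.toMatrix' (ρ h) *
        (∑ g : G, LinearMap.toMatrix' (ρ g) * W * (LinearMap.toMatrix' (ρ g))ᵀ) *
        (LinearMap.toMatrix' (ρ h))ᵀ
      = ∑ g : G, LinearMap.toMatrix' (ρ g) * W * (LinearMap.toMatrix' (ρ g))ᵀ := by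
    intro W h
    rw [Finset.mul_sum, Finset.sum_mul]
    apply Fintype.sum_equiv (Equiv.mulLeft h)
    intro g
    simp only [Equiv.coe_mulLeft, hmul, Matrix.transpose_mul, Matrix.mul_assoc]
  have hsym : ∀ W : Matrix (Fin n) (Fin n) ℂ,
      (∑ g : G, LinearMap.toMatrix' (ρ g) * W * (LinearMap.toMatrix' (ρ g))ᵀ)ᵀ
        = ∑ g : G, LinearMap.toMatrix' (ρ g) * W * (LinearMap.toMatrix' (ρ g))ᵀ := fun W =>
    symm_of_invariant hn ρ hρ _ (hTinv W)
  have hent : ∀ i j : Fin n,
      ∑ g : G, LinearMap.toMatrix' (ρ g) i j * LinearMap.toMatrix' (ρ g) j i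
        = ∑ g : G, LinearMap.toMatrix' (ρ g) i i * LinearMap.toMatrix' (ρ g) j j := by
    intro i j
    have := congrFun (congrFun (hsym (Matrix.single i j 1)) i) j
    rw [Matrix.transpose_apply, Matrix.sum_apply, Matrix.sum_apply] at this
    simp only [entry_single, Matrix.transpose_apply] at this
    rw [← this]
    apply Finset.sum_congr rfl
    intros; ring
  have hsq : ∑ g : G, ρ.character (g * g) = ∑ g : G, ρ.character g * ρ.character g := by
    simp only [htr, hmul, Matrix.trace, Matrix.diag, Matrix.mul_apply, Finset.sum_mul_sum]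
    rw [Finset.sum_comm]
    conv_rhs => rw [Finset.sum_comm]
    apply Finset.sum_congr rfl; intro i _
    rw [Finset.sum_comm]
    conv_rhs => rw [Finset.sum_comm]
    apply Finset.sum_congr rfl; intro j _
    exact hent i j
  have hreal' : ∀ g : G, conj (ρ.character g) = ρ.character g :=
    fun g => Complex.conj_eq_iff_im.2 (hreal g)
  rw [classInner_def] at h1
  rw [hsq, ← h1]
  congr 1
  apply Finset.sum_congr rfl
  intro g _
  rw [hreal' g]

end Cfsg.Agent.S0895
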