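import Mathlib
import Cfsg.Statements.S0886
import Cfsg.Agent.Lib.Helper2.CharBridge
import Cfsg.Agent.Lib.Helper2.CharComplete
import Cfsg.Agent.Lib.Helper8.SchurAux
import Cfsg.Agent.S0895

set_option autoImplicit false
open Cfsg

namespace Cfsg.Agent.S0886

open Cfsg.Agent.Lib.Helper2
open scoped ComplexConjugate

/-- the subgroup of pairs `(a, g)` with `a` intertwining `r` and its `g`-conjugate -/
def twistSub {G : Type*} [Group G] (N : Subgroup G) [hN : N.Normal] {U : Type*} [Group U]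
    (r : N →* U) : Subgroup (U × G) where
  carrier := {x | ∀ n : N, x.1 * r n * x.1⁻¹ = r (MulAut.conjNormal x.2 n)}
  one_mem' := by
    intro n
    simp
  mul_mem' := by
    intro x y hx hy n
    have h1 := hy n
    have h2 := hx (MulAut.conjNormal y.2 n)
    simp only [Prod.fst_mul, Prod.snd_mul, map_mul, MulAut.mul_apply]
    rw [← h2, ← h1]
    group
  inv_mem' := by
    intro x hx n
    have h1 := hx (MulAut.conjNormal x.2⁻¹ n)
    simp only [Prod.fst_inv, Prod.snd_inv, inv_inv]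
    have h2 : MulAut.conjNormal x.2 (MulAut.conjNormal x.2⁻¹ n) = n := by
      rw [← MulAut.mul_apply, ← map_mul, mul_inv_cancel, map_one, MulAut.one_apply]
    rw [h2] at h1
    rw [← h1]
    group

theorem extend_of_twist {G : Type*} [Group G] (N : Subgroup G) [hN : N.Normal]
    {U : Type*} [Group U] (r : N →* U) (g₀ : G) (A : U)
    (hgen : ∀ g : G, ∃ (i : ℤ) (n : N), g = g₀ ^ i * n)
    (hA : ∀ n : N, A * r n * A⁻¹ = r (MulAut.conjNormal g₀ n))
    (m : ℕ) (hm : ∀ i : ℤ, g₀ ^ i ∈ N → (m : ℤ) ∣ i) (hmN : g₀ ^ m ∈ N)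
    (hAm : A ^ m = r ⟨g₀ ^ m, hmN⟩) :
    ∃ R : G →* U, ∀ n : N, R n = r n := by
  have hS1 : ((A, g₀) : U × G) ∈ twistSub N r := hA
  have hz : ∀ (j : ℤ) (n : N), A ^ j * r n * (A ^ j)⁻¹ = r (MulAut.conjNormal (g₀ ^ j) n) := by
    intro j n
    have := (twistSub N r).zpow_mem hS1 j n
    simpa using this
  have hconj : ∀ (g : G) (n : N), ((MulAut.conjNormal g n : N) : G) = g * n * g⁻¹ := by
    intro g n; rfl
  -- the graph subgroup
  let Gh : Subgroup (U × G) :=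
    { carrier := {x | ∃ (i : ℤ) (n : N), x.2 = g₀ ^ i * n ∧ x.1 = A ^ i * r n}
      one_mem' := ⟨0, 1, by simp, by simp⟩
      mul_mem' := by
        rintro x y ⟨i, n, hx2, hx1⟩ ⟨j, n', hy2, hy1⟩
        refine ⟨i + j, MulAut.conjNormal (g₀ ^ (-j)) n * n', ?_, ?_⟩
        · rw [Prod.snd_mul, hx2, hy2, Subgroup.coe_mul, hconj]
          group
        · rw [Prod.fst_mul, hx1, hy1, map_mul, ← hz]
          group
      inv_mem' := by
        rintro x ⟨i, n, hx2, hx1⟩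
        refine ⟨-i, MulAut.conjNormal (g₀ ^ i) n⁻¹, ?_, ?_⟩
        · rw [Prod.snd_inv, hx2, hconj, Subgroup.coe_inv]
          group
        · rw [Prod.fst_inv, hx1, ← hz, map_inv]
          group }
  have hmemN : ∀ n : N, ((r n, (n : G)) : U × G) ∈ Gh := fun n => ⟨0, n, by simp, by simp⟩
  let π : Gh →* G := (MonoidHom.snd U G).comp Gh.subtype
  have hsurj : Function.Surjective π := by
    intro g
    obtain ⟨i, n, hg⟩ := hgen g
    exact ⟨⟨(A ^ i * r n, g), ⟨i, n, hg, rfl⟩⟩, rfl⟩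
  have hinj : Function.Injective π := by
    rw [injective_iff_map_eq_one]
    rintro ⟨⟨T, g⟩, ⟨i, n, hx2, hx1⟩⟩ hπ
    have hg1 : g = 1 := hπ
    subst hg1
    simp only at hx2 hx1
    have hgi : g₀ ^ i = ((n⁻¹ : N) : G) := by
      rw [Subgroup.coe_inv, eq_inv_iff_mul_eq_one, ← hx2]
    have hgiN : g₀ ^ i ∈ N := by rw [hgi]; exact (n⁻¹).2
    obtain ⟨k, hk⟩ := hm i hgiN
    have hAi : A ^ i = r (n⁻¹) := by
      rw [hk, zpow_mul, zpow_natCast, hAm, ← map_zpow]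
      congr 1
      apply Subtype.ext
      rw [Subgroup.coe_zpow, ← hgi, hk, zpow_mul, zpow_natCast]
    apply Subtype.ext
    apply Prod.ext
    · change T = 1
      rw [hx1, hAi, ← map_mul, inv_mul_cancel, map_one]
    · rfl
  let e : Gh ≃* G := MulEquiv.ofBijective π ⟨hinj, hsurj⟩
  refine ⟨((MonoidHom.fst U G).comp Gh.subtype).comp e.symm.toMonoidHom, ?_⟩
  intro n
  have h1 : e ⟨(r n, (n : G)), hmemN n⟩ = (n : G) := rfl
  have h2 : e.symm (n : G) = ⟨(r n, (n : G)), hmemN n⟩ :=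
    (MulEquiv.symm_apply_eq e).2 h1.symm
  change ((MonoidHom.fst U G).comp Gh.subtype) (e.symm (n : G)) = r n
  rw [h2]
  rfl

/-- a representation twisted by an automorphism -/
@[reducible] def twRep {N V : Type*} [Group N] [AddCommGroup V] [Module ℂ V]
    (ρ : Representation ℂ N V) (α : N ≃* N) : Representation ℂ N V := ρ.comp α.toMonoidHom

/-- if every `σ`-invariant submodule is `ρ`-invariant and `ρ` is irreducible, so is `σ` -/
theorem irr_of_invariant {G H V : Type*} [Group G] [Group H] [AddCommGroup V] [Module ℂ V]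
    (ρ : Representation ℂ G V) (σ : Representation ℂ H V) (hρ : ρ.IsIrreducible)
    (h : ∀ U : Submodule ℂ V, (∀ x : H, ∀ v ∈ U, σ x v ∈ U) → ∀ g : G, ∀ v ∈ U, ρ g v ∈ U) :
    σ.IsIrreducible := by
  have := hρ
  refine { exists_pair_ne := ⟨⊥, ⊤, ?_⟩, eq_bot_or_eq_top := ?_ }
  · intro h0
    have h1 : (⊥ : Submodule ℂ V) = ⊤ :=
      congrArg (fun a : Subrepresentation σ => a.toSubmodule) h0
    have hnt : Nontrivial V := irr_nontrivial ρ
    exact bot_ne_top h1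
  · intro a
    rcases Cfsg.Agent.S0895.invariant_bot_or_top ρ hρ a.toSubmodule
      (h a.toSubmodule (fun x v hv => a.apply_mem_toSubmodule x hv)) with hb | ht
    · left; exact Subrepresentation.toSubmodule_injective hb
    · right; exact Subrepresentation.toSubmodule_injective ht

/-- precomposing an irreducible representation with an automorphism keeps it irreducible -/
theorem irr_comp_equiv {N V : Type*} [Group N] [AddCommGroup V] [Module ℂ V]
    (ρ : Representation ℂ N V) (hρ : ρ.IsIrreducible) (α : N ≃* N) :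
    (twRep ρ α).IsIrreducible := by
  apply irr_of_invariant ρ (twRep ρ α) hρ
  intro U hU n v hv
  have := hU (α.symm n) v hv
  simpa using this

/-- If N is normal in G with G/N cyclic, every G-invariant irreducible character of N extends to an irreducible character of G. -/
theorem result {G : Type*} [Group G] [Finite G] (N : Subgroup G) [hN : N.Normal] (hcyc : IsCyclic (G ⧸ N)) (ϑ : N → ℂ) (hϑ : Cfsg.IsIrrCharacter N ϑ) (hinv : ∀ (g : G) (n : N), ϑ ⟨g * n * g⁻¹, hN.conj_mem (n : G) n.2 g⟩ = ϑ n) : ∃ χ : G → ℂ, Cfsg.IsIrrCharacter G χ ∧ ∀ n : N, χ n = ϑ n := by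
  classical
  have := Fintype.ofFinite G
  have := Fintype.ofFinite N
  have hϑϑ := classInner_irr_self hϑ
  obtain ⟨d, ρ, hρ, rfl⟩ := hϑ
  have := hρ
  have hnt : Nontrivial (Fin d → ℂ) := irr_nontrivial ρ
  -- generator
  obtain ⟨q, hq⟩ := hcyc.exists_generator
  obtain ⟨g₀, rfl⟩ := QuotientGroup.mk_surjective q
  have hgen : ∀ g : G, ∃ (i : ℤ) (n : N), g = g₀ ^ i * n := by
    intro g
    obtain ⟨i, hi⟩ := Subgroup.mem_zpowers_iff.1 (hq (QuotientGroup.mk g))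
    have h1 : (g₀ ^ i)⁻¹ * g ∈ N := by
      rw [← QuotientGroup.eq, QuotientGroup.mk_zpow]
      exact hi
    exact ⟨i, ⟨(g₀ ^ i)⁻¹ * g, h1⟩, by simp⟩
  -- the twisted representation
  have hirr' : (twRep ρ (MulAut.conjNormal g₀ : N ≃* N)).IsIrreducible :=
    irr_comp_equiv ρ hρ _
  have hchar : (twRep ρ (MulAut.conjNormal g₀ : N ≃* N)).character = ρ.character := by
    funext n
    exact hinv g₀ n
  have hne : Nonempty (Representation.Equiv ρ (twRep ρ (MulAut.conjNormal g₀ : N ≃* N))) := by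
    have h1 := classInner_char_irr (twRep ρ (MulAut.conjNormal g₀ : N ≃* N)) ρ
    rw [hchar, hϑϑ] at h1
    by_contra hcon
    rw [if_neg hcon] at h1
    exact one_ne_zero h1
  obtain ⟨φ⟩ := hne
  let A₀ : (Module.End ℂ (Fin d → ℂ))ˣ :=
    ⟨φ.toLinearEquiv.toLinearMap, φ.toLinearEquiv.symm.toLinearMap,
      LinearMap.ext (fun v => φ.toLinearEquiv.apply_symm_apply v),
      LinearMap.ext (fun v => φ.toLinearEquiv.symm_apply_apply v)⟩
  have hA₀ : ∀ n : N, A₀ * ρ.asGroupHom n * A₀⁻¹ = ρ.asGroupHom (MulAut.conjNormal g₀ n) := by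
    intro n
    rw [mul_inv_eq_iff_eq_mul]
    apply Units.ext
    apply LinearMap.ext
    intro v
    exact Representation.IntertwiningMap.isIntertwining _ _ φ.toIntertwiningMap n v
  -- the order of g₀ modulo N
  have hm0 : 0 < orderOf (QuotientGroup.mk g₀ : G ⧸ N) := orderOf_pos _
  have hmN : g₀ ^ orderOf (QuotientGroup.mk g₀ : G ⧸ N) ∈ N := by
    rw [← QuotientGroup.eq_one_iff, QuotientGroup.mk_pow, pow_orderOf_eq_one]
  have hm : ∀ i : ℤ, g₀ ^ i ∈ N → ((orderOf (QuotientGroup.mk g₀ : G ⧸ N) : ℕ) : ℤ) ∣ i := by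
    intro i hi
    rw [orderOf_dvd_iff_zpow_eq_one, ← QuotientGroup.mk_zpow, QuotientGroup.eq_one_iff]
    exact hi
  -- Schur
  have hz : ∀ (j : ℕ) (n : N), A₀ ^ j * ρ.asGroupHom n * (A₀ ^ j)⁻¹
      = ρ.asGroupHom (MulAut.conjNormal (g₀ ^ j) n) := by
    intro j n
    have hS1 : ((A₀, g₀) : (Module.End ℂ (Fin d → ℂ))ˣ × G) ∈ twistSub N ρ.asGroupHom := hA₀
    have := (twistSub N ρ.asGroupHom).pow_mem hS1 j n
    simpa using this
  have hcomm : ∀ n : N,
      ((ρ.asGroupHom ⟨_, hmN⟩)⁻¹ * A₀ ^ orderOf (QuotientGroup.mk g₀ : G ⧸ N)) * ρ.asGroupHom n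
        = ρ.asGroupHom n * ((ρ.asGroupHom ⟨_, hmN⟩)⁻¹ * A₀ ^ orderOf (QuotientGroup.mk g₀ : G ⧸ N)) := by
    intro n
    have h1 := hz (orderOf (QuotientGroup.mk g₀ : G ⧸ N)) n
    have h2 : (MulAut.conjNormal (g₀ ^ orderOf (QuotientGroup.mk g₀ : G ⧸ N)) n : N)
        = ⟨_, hmN⟩ * n * (⟨_, hmN⟩ : N)⁻¹ := by
      apply Subtype.ext; rfl
    rw [h2, map_mul, map_mul, map_inv] at h1
    have h3 : A₀ ^ orderOf (QuotientGroup.mk g₀ : G ⧸ N) * ρ.asGroupHom n
        = ρ.asGroupHom ⟨_, hmN⟩ * ρ.asGroupHom n * (ρ.asGroupHom ⟨_, hmN⟩)⁻¹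
          * A₀ ^ orderOf (QuotientGroup.mk g₀ : G ⧸ N) := by
      rw [← h1]; group
    rw [mul_assoc, h3]; group
  obtain ⟨c, hc⟩ := Cfsg.Agent.Lib.Helper8.schur_scalar ρ hρ
    (((ρ.asGroupHom ⟨_, hmN⟩)⁻¹ * A₀ ^ orderOf (QuotientGroup.mk g₀ : G ⧸ N) :
      (Module.End ℂ (Fin d → ℂ))ˣ) : Module.End ℂ (Fin d → ℂ)) (by
    intro n
    exact congrArg Units.val (hcomm n))
  have hc0 : c ≠ 0 := by
    rintro rfl
    rw [zero_smul] at hc
    exact (Units.ne_zero _) hc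
  obtain ⟨b, hb⟩ := IsAlgClosed.exists_pow_nat_eq (c⁻¹ : ℂ) hm0
  have hb0 : b ≠ 0 := by
    rintro rfl
    rw [zero_pow hm0.ne'] at hb
    exact inv_ne_zero hc0 hb.symm
  let z : (Module.End ℂ (Fin d → ℂ))ˣ :=
    Units.map (algebraMap ℂ (Module.End ℂ (Fin d → ℂ))).toMonoidHom (Units.mk0 b hb0)
  have hzc : ∀ a : (Module.End ℂ (Fin d → ℂ))ˣ, z * a = a * z := by
    intro a
    apply Units.ext
    exact Algebra.commutes b (a : Module.End ℂ (Fin d → ℂ))
  have hA : ∀ n : N, (z * A₀) * ρ.asGroupHom n * (z * A₀)⁻¹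
      = ρ.asGroupHom (MulAut.conjNormal g₀ n) := by
    intro n
    rw [← hA₀ n, mul_inv_rev, hzc A₀]
    have : A₀ * z * ρ.asGroupHom n * (A₀⁻¹ * z⁻¹) = A₀ * (z * (ρ.asGroupHom n * A₀⁻¹)) * z⁻¹ := by
      group
    rw [this, hzc, mul_assoc A₀, mul_assoc A₀, mul_inv_cancel_right, ← mul_assoc]
  have hAm : (z * A₀) ^ orderOf (QuotientGroup.mk g₀ : G ⧸ N) = ρ.asGroupHom ⟨_, hmN⟩ := by
    rw [(show Commute z A₀ from hzc A₀).mul_pow]
    have h1 : (z ^ orderOf (QuotientGroup.mk g₀ : G ⧸ N)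
        * ((ρ.asGroupHom ⟨_, hmN⟩)⁻¹ * A₀ ^ orderOf (QuotientGroup.mk g₀ : G ⧸ N)) :
          (Module.End ℂ (Fin d → ℂ))ˣ) = 1 := by
      apply Units.ext
      rw [Units.val_mul, hc, Units.val_pow_eq_pow_val]
      change (algebraMap ℂ (Module.End ℂ (Fin d → ℂ)) b) ^ _ * _ = _
      rw [← map_pow, hb, Algebra.algebraMap_eq_smul_one, smul_mul_smul_comm, mul_one,
        inv_mul_cancel₀ hc0, one_smul]
      rfl
    have h2 : z ^ orderOf (QuotientGroup.mk g₀ : G ⧸ N)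
        * ((ρ.asGroupHom ⟨_, hmN⟩)⁻¹ * A₀ ^ orderOf (QuotientGroup.mk g₀ : G ⧸ N))
        = (ρ.asGroupHom ⟨_, hmN⟩)⁻¹ * (z ^ orderOf (QuotientGroup.mk g₀ : G ⧸ N)
          * A₀ ^ orderOf (QuotientGroup.mk g₀ : G ⧸ N)) := by
      rw [← mul_assoc, ((show Commute z _ from hzc (ρ.asGroupHom ⟨_, hmN⟩)⁻¹).pow_left _).eq,
        mul_assoc]
    rw [h2, inv_mul_eq_one] at h1
    exact h1.symm
  obtain ⟨R, hR⟩ := extend_of_twist N ρ.asGroupHom g₀ (z * A₀) hgen hA _ hm hmN hAm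
  -- the extended representation
  let Rep : Representation ℂ G (Fin d → ℂ) := (Units.coeHom (Module.End ℂ (Fin d → ℂ))).comp R
  have hRep : ∀ n : N, Rep (n : G) = ρ n := by
    intro n
    change ((R (n : G) : (Module.End ℂ (Fin d → ℂ))ˣ) : Module.End ℂ (Fin d → ℂ)) = ρ n
    rw [hR n, Representation.asGroupHom_apply]
  have hirr : Rep.IsIrreducible := by
    apply irr_of_invariant ρ Rep hρ
    intro U hU n v hv
    have := hU (n : G) v hv
    rwa [hRep n] at this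
  refine ⟨Rep.character, ⟨d, Rep, hirr, rfl⟩, ?_⟩
  intro n
  change LinearMap.trace ℂ _ (Rep (n : G)) = LinearMap.trace ℂ _ (ρ n)
  rw [hRep n]

end Cfsg.Agent.S0886
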