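import Mathlib
import Cfsg.Statements.S1496

set_option autoImplicit false
open Cfsg

namespace Cfsg.Agent.S1496

variable {G : Type*} [Group G]

theorem conj_pow_mem (H : Subgroup G) (g : G) (hnorm : ∀ w ∈ H, g * w * g⁻¹ ∈ H) (k : ℕ) :
    ∀ w ∈ H, g ^ k * w * (g ^ k)⁻¹ ∈ H := by
  induction k with
  | zero => intro w hw; simpa using hw
  | succ k ih =>
    intro w hw
    have : g ^ (k + 1) * w * (g ^ (k + 1))⁻¹ = g * (g ^ k * w * (g ^ k)⁻¹) * g⁻¹ := by
      rw [pow_succ']; group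
    rw [this]; exact hnorm _ (ih w hw)

theorem coset_pow (H : Subgroup G) (g a : G) (hnorm : ∀ w ∈ H, g * w * g⁻¹ ∈ H)
    (ha : a * g⁻¹ ∈ H) (k : ℕ) : a ^ k * (g ^ k)⁻¹ ∈ H := by
  induction k with
  | zero => simp
  | succ k ih =>
    have : a ^ (k + 1) * (g ^ (k + 1))⁻¹ = (a * g⁻¹) * (g * (a ^ k * (g ^ k)⁻¹) * g⁻¹) := by
      rw [pow_succ' a, pow_succ' g]; group
    rw [this]; exact H.mul_mem ha (hnorm _ ih)

theorem pow_eq_one_of_dvd' (z : G) {N k : ℕ} (hz : z ^ N = 1) (h : N ∣ k) : z ^ k = 1 := by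
  obtain ⟨c, rfl⟩ := h
  rw [pow_mul, hz, one_pow]

theorem pow_eq_self_of_modEq (z : G) {N k : ℕ} (hz : z ^ N = 1) (h : k ≡ 1 [MOD N]) : z ^ k = z := by
  have h1 : orderOf z ∣ N := orderOf_dvd_of_pow_eq_one hz
  have h2 : z ^ k = z ^ 1 := pow_eq_pow_iff_modEq.mpr (h.of_dvd h1)
  rwa [pow_one] at h2

/-- Prime power case: a fixed point argument. -/
theorem conj_of_prime_pow [Finite G] (q e : ℕ) [Fact q.Prime] (H : Subgroup G) (g a : G)
    (hnorm : ∀ w ∈ H, g * w * g⁻¹ ∈ H) (ha : a * g⁻¹ ∈ H)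
    (hg : g ^ (q ^ e) = 1) (ha' : a ^ (q ^ e) = 1) (hq : ¬ q ∣ Nat.card H) :
    ∃ x ∈ H, x * a * x⁻¹ = g := by
  classical
  let Ω := {ω : G // ∃ x ∈ H, ω = x * g * x⁻¹}
  have : Fintype Ω := Fintype.ofFinite Ω
  have hmap : ∀ ω : Ω, ∃ x ∈ H, a * ω.1 * a⁻¹ = x * g * x⁻¹ := by
    rintro ⟨ω, x, hx, rfl⟩
    exact ⟨a * g⁻¹ * (g * x * g⁻¹), H.mul_mem ha (hnorm x hx), by group⟩
  let f : Function.End Ω := fun ω => ⟨a * ω.1 * a⁻¹, hmap ω⟩
  have hfpow : ∀ (j : ℕ) (ω : Ω), ((f ^ j) ω).1 = a ^ j * ω.1 * (a ^ j)⁻¹ := by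
    intro j
    induction j with
    | zero => intro ω; rw [pow_zero, pow_zero]; show ω.1 = _; group
    | succ j ih =>
      intro ω
      rw [pow_succ' f]
      show a * ((f ^ j) ω).1 * a⁻¹ = _
      rw [ih ω, pow_succ' a]; group
  have hf : f ^ q ^ e = 1 := by
    funext ω
    apply Subtype.ext
    rw [hfpow, ha']
    show _ = ω.1
    group
  have hmod := Equiv.Perm.card_fixedPoints_modEq (f := f) (p := q) (n := e) hf
  have hcard : Fintype.card Ω ∣ Nat.card H := by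
    let _ : MulAction H G := MulAction.compHom G ((MulAut.conj : G →* MulAut G).comp H.subtype)
    have hsmul : ∀ (x : H) (ω : G), x • ω = (x : G) * ω * (x : G)⁻¹ := by
      intro x ω; rfl
    have h1 : Fintype.card Ω = (MulAction.orbit H g).ncard := by
      rw [← Nat.card_eq_fintype_card, ← Nat.card_coe_set_eq]
      apply Nat.card_congr
      apply Equiv.subtypeEquivRight
      intro ω
      constructor
      · rintro ⟨x, hx, rfl⟩
        exact ⟨⟨x, hx⟩, hsmul _ _⟩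
      · rintro ⟨x, rfl⟩
        exact ⟨x.1, x.2, hsmul _ _⟩
    rw [h1, ← MulAction.index_stabilizer]
    exact Subgroup.index_dvd_card _
  have hfix : 0 < Fintype.card (Function.fixedPoints f) := by
    by_contra h0
    have h0' : Fintype.card (Function.fixedPoints f) = 0 := by omega
    rw [h0'] at hmod
    have : q ∣ Fintype.card Ω := (Nat.modEq_zero_iff_dvd).mp hmod
    exact hq (this.trans hcard)
  obtain ⟨⟨ω, hωfix⟩⟩ := Fintype.card_pos_iff.mp hfix
  obtain ⟨x, hx, hωx⟩ := ω.2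
  have hcomm : a * ω.1 * a⁻¹ = ω.1 := congrArg Subtype.val hωfix
  have hcomm' : Commute a ω.1 := by
    show a * ω.1 = ω.1 * a
    calc a * ω.1 = (a * ω.1 * a⁻¹) * a := by group
      _ = ω.1 * a := by rw [hcomm]
  -- d = a ω⁻¹ ∈ H has q-power order
  have hd : a * ω.1⁻¹ ∈ H := by
    rw [hωx]
    have : a * (x * g * x⁻¹)⁻¹ = (a * g⁻¹) * (g * x * g⁻¹) * x⁻¹ := by group
    rw [this]
    exact H.mul_mem (H.mul_mem ha (hnorm x hx)) (H.inv_mem hx)
  have hωpow : ω.1 ^ (q ^ e) = 1 := by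
    rw [hωx, conj_pow, hg]; group
  have hdpow : (a * ω.1⁻¹) ^ (q ^ e) = 1 := by
    rw [(hcomm'.inv_right).mul_pow, ha', inv_pow, hωpow]; group
  have hd1 : a * ω.1⁻¹ = 1 := by
    have h1 : orderOf (a * ω.1⁻¹) ∣ q ^ e := orderOf_dvd_of_pow_eq_one hdpow
    have h2 : orderOf (a * ω.1⁻¹) ∣ Nat.card H := by
      have := orderOf_dvd_natCard (⟨a * ω.1⁻¹, hd⟩ : H)
      rwa [← Subgroup.orderOf_coe] at this
    have hcop : Nat.Coprime (q ^ e) (Nat.card H) :=
      Nat.Coprime.pow_left e ((Nat.Prime.coprime_iff_not_dvd (Fact.out)).mpr hq)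
    exact orderOf_eq_one_iff.mp (Nat.eq_one_of_dvd_coprimes hcop h1 h2)
  have haω : a = ω.1 := mul_inv_eq_one.mp hd1
  refine ⟨x⁻¹, H.inv_mem hx, ?_⟩
  rw [haω, hωx]; group

/-- Conjugacy of cyclic complements in the coprime case. -/
theorem conj_of_coprime [Finite G] : ∀ (N : ℕ) (H : Subgroup G) (g a : G),
    (∀ w ∈ H, g * w * g⁻¹ ∈ H) → a * g⁻¹ ∈ H → g ^ N = 1 → a ^ N = 1 →
    Nat.Coprime N (Nat.card H) → ∃ x ∈ H, x * a * x⁻¹ = g := by
  intro N
  induction N using Nat.strong_induction_on with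
  | _ N ih =>
    intro H g a hnorm ha hgN haN hcop
    rcases Nat.eq_zero_or_pos N with hN0 | hNpos
    · subst hN0
      have hH : Nat.card H = 1 := by simpa using hcop
      have hbot : H = ⊥ := (Subgroup.eq_bot_iff_card H).mpr hH
      rw [hbot] at ha
      have : a = g := mul_inv_eq_one.mp (Subgroup.mem_bot.mp ha)
      exact ⟨1, H.one_mem, by rw [this]; group⟩
    by_cases hN1 : N = 1
    · subst hN1
      rw [pow_one] at hgN haN
      exact ⟨1, H.one_mem, by rw [hgN, haN]; group⟩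
    obtain ⟨q, hq, hqN⟩ := Nat.exists_prime_and_dvd hN1
    have : Fact q.Prime := ⟨hq⟩
    obtain ⟨e, N', hqN', hNeq⟩ := Nat.exists_eq_pow_mul_and_not_dvd hNpos.ne' q hq.ne_one
    have hN'pos : 0 < N' := by
      rcases Nat.eq_zero_or_pos N' with h | h
      · rw [h] at hqN'; exact absurd (dvd_zero q) hqN'
      · exact h
    have he : e ≠ 0 := by
      intro he0
      rw [he0, pow_zero, one_mul] at hNeq
      rw [hNeq] at hqN
      exact hqN' hqN
    have hqe2 : 2 ≤ q ^ e := by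
      calc 2 ≤ q := hq.two_le
        _ = q ^ 1 := (pow_one q).symm
        _ ≤ q ^ e := Nat.pow_le_pow_right hq.pos (Nat.pos_of_ne_zero he)
    have hN'lt : N' < N := by
      rw [hNeq]; nlinarith
    have hcopqN : Nat.Coprime (q ^ e) N' :=
      Nat.Coprime.pow_left e ((Nat.Prime.coprime_iff_not_dvd hq).mpr hqN')
    obtain ⟨v, hv1, hv0⟩ := Nat.chineseRemainder hcopqN 1 0
    obtain ⟨u, hu0, hu1⟩ := Nat.chineseRemainder hcopqN 0 1
    have hNv : N ∣ v * q ^ e := by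
      obtain ⟨c, hc⟩ := (Nat.modEq_zero_iff_dvd).mp hv0
      exact ⟨c, by rw [hc, hNeq]; ring⟩
    have hNu : N ∣ u * N' := by
      obtain ⟨c, hc⟩ := (Nat.modEq_zero_iff_dvd).mp hu0
      exact ⟨c, by rw [hc, hNeq]; ring⟩
    have hvu : v + u ≡ 1 [MOD N] := by
      rw [hNeq]
      apply (Nat.modEq_and_modEq_iff_modEq_mul hcopqN).mp
      exact ⟨by simpa using hv1.add hu0, by simpa using hv0.add hu1⟩
    have hqH : ¬ q ∣ Nat.card H := by
      intro h
      exact hq.one_lt.ne' (Nat.eq_one_of_dvd_coprimes hcop hqN h)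
    -- step 1
    have hx₁ := conj_of_prime_pow q e H (g ^ v) (a ^ v) (conj_pow_mem H g hnorm v)
      (coset_pow H g a hnorm ha v)
      (by rw [← pow_mul]; exact pow_eq_one_of_dvd' g hgN hNv)
      (by rw [← pow_mul]; exact pow_eq_one_of_dvd' a haN hNv) hqH
    obtain ⟨x₁, hx₁H, hx₁eq⟩ := hx₁
    set a' := x₁ * a * x₁⁻¹ with ha'def
    have ha'H : a' * g⁻¹ ∈ H := by
      have : a' * g⁻¹ = x₁ * (a * g⁻¹) * (g * x₁⁻¹ * g⁻¹) := by rw [ha'def]; group
      rw [this]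
      exact H.mul_mem (H.mul_mem hx₁H ha) (hnorm _ (H.inv_mem hx₁H))
    have ha'N : a' ^ N = 1 := by
      rw [ha'def, conj_pow, haN]; group
    have ha'v : a' ^ v = g ^ v := by
      rw [ha'def, conj_pow]; exact hx₁eq
    -- step 2
    set g₁ := g ^ v with hg₁
    set H₂ := H ⊓ Subgroup.centralizer ({g₁} : Set G) with hH₂
    have hcomm_g : Commute g₁ (g ^ u) := (Commute.refl g).pow_pow v u
    have hnorm₂ : ∀ w ∈ H₂, g ^ u * w * (g ^ u)⁻¹ ∈ H₂ := by
      intro w hw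
      refine ⟨conj_pow_mem H g hnorm u w hw.1, ?_⟩
      show _ ∈ Subgroup.centralizer ({g₁} : Set G)
      rw [Subgroup.mem_centralizer_iff]
      intro z hz
      rw [Set.mem_singleton_iff] at hz
      subst hz
      have hwc : g₁ * w = w * g₁ := (Subgroup.mem_centralizer_iff.mp hw.2) g₁ (Set.mem_singleton _)
      have h1 : g₁ * g ^ u = g ^ u * g₁ := hcomm_g.eq
      have h2 : g₁ * (g ^ u)⁻¹ = (g ^ u)⁻¹ * g₁ := (hcomm_g.inv_right).eq
      calc g₁ * (g ^ u * w * (g ^ u)⁻¹) = (g₁ * g ^ u) * w * (g ^ u)⁻¹ := by group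
        _ = g ^ u * (g₁ * w) * (g ^ u)⁻¹ := by rw [h1]; group
        _ = g ^ u * w * (g₁ * (g ^ u)⁻¹) := by rw [hwc]; group
        _ = g ^ u * w * (g ^ u)⁻¹ * g₁ := by rw [h2]; group
    have ha₂ : a' ^ u * (g ^ u)⁻¹ ∈ H₂ := by
      refine ⟨coset_pow H g a' hnorm ha'H u, ?_⟩
      show _ ∈ Subgroup.centralizer ({g₁} : Set G)
      rw [Subgroup.mem_centralizer_iff]
      intro z hz
      rw [Set.mem_singleton_iff] at hz
      subst hz
      have h1 : Commute g₁ (a' ^ u) := by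
        rw [← ha'v]; exact (Commute.refl a').pow_pow v u
      exact (h1.mul_right hcomm_g.inv_right).eq
    have hcop₂ : Nat.Coprime N' (Nat.card H₂) := by
      have h1 : N' ∣ N := Dvd.intro_left _ hNeq.symm
      have h2 : Nat.card H₂ ∣ Nat.card H := Subgroup.card_dvd_of_le inf_le_left
      exact Nat.Coprime.coprime_dvd_left h1 (Nat.Coprime.coprime_dvd_right h2 hcop)
    obtain ⟨x₂, hx₂H, hx₂eq⟩ := ih N' hN'lt H₂ (g ^ u) (a' ^ u) hnorm₂ ha₂
      (by rw [← pow_mul]; exact pow_eq_one_of_dvd' g hgN hNu)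
      (by rw [← pow_mul]; exact pow_eq_one_of_dvd' a' ha'N hNu) hcop₂
    refine ⟨x₂ * x₁, H.mul_mem hx₂H.1 hx₁H, ?_⟩
    have hx₂c : x₂ * g₁ * x₂⁻¹ = g₁ := by
      have := (Subgroup.mem_centralizer_iff.mp hx₂H.2) g₁ (Set.mem_singleton _)
      rw [← this]; group
    have ha'split : a' = a' ^ v * a' ^ u := by
      rw [← pow_add]; exact (pow_eq_self_of_modEq a' ha'N hvu).symm
    have hgsplit : g = g ^ v * g ^ u := by
      rw [← pow_add]; exact (pow_eq_self_of_modEq g hgN hvu).symm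
    calc x₂ * x₁ * a * (x₂ * x₁)⁻¹ = x₂ * a' * x₂⁻¹ := by rw [ha'def]; group
      _ = x₂ * (a' ^ v * a' ^ u) * x₂⁻¹ := by rw [← ha'split]
      _ = (x₂ * g₁ * x₂⁻¹) * (x₂ * a' ^ u * x₂⁻¹) := by rw [ha'v]; group
      _ = g₁ * g ^ u := by rw [hx₂c, hx₂eq]
      _ = g := hgsplit.symm

/-- Let H be a subgroup of the finite group G and g an element normalising H whose order is coprime to the order of H. Then for every h ∈ H there are x ∈ H and c ∈ H commuting with g such that x * (h * g) * x⁻¹ = c * g. -/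
theorem result {G : Type*} [Group G] [Finite G] (H : Subgroup G) (g : G) (hg : g ∈ Subgroup.normalizer (H : Set G)) (hcop : Nat.Coprime (orderOf g) (Nat.card H)) (h : G) (hh : h ∈ H) : ∃ x ∈ H, ∃ c ∈ H, c * g = g * c ∧ x * (h * g) * x⁻¹ = c * g := by
  have hnorm : ∀ w ∈ H, g * w * g⁻¹ ∈ H := fun w hw =>
    (Subgroup.mem_set_normalizer_iff.mp hg w).mp hw
  set N := orderOf g with hN
  set m := Nat.card H with hm
  set y := h * g with hy
  have hyg : y * g⁻¹ ∈ H := by rw [hy]; simpa using hh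
  have hgN : g ^ N = 1 := pow_orderOf_eq_one g
  have hyN : y ^ N ∈ H := by
    have := coset_pow H g y hnorm hyg N
    rwa [hgN, inv_one, mul_one] at this
  have hyNm : y ^ (N * m) = 1 := by
    rw [pow_mul]
    have h1 : (⟨y ^ N, hyN⟩ : H) ^ Nat.card H = 1 := pow_card_eq_one'
    have h2 := congrArg Subtype.val h1
    rw [Subgroup.coe_pow, Subgroup.coe_one] at h2
    exact h2
  obtain ⟨s, hs1, hs0⟩ := Nat.chineseRemainder hcop 1 0
  obtain ⟨t, ht0, ht1⟩ := Nat.chineseRemainder hcop 0 1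
  have hst : s + t ≡ 1 [MOD N * m] := by
    apply (Nat.modEq_and_modEq_iff_modEq_mul hcop).mp
    exact ⟨by simpa using hs1.add ht0, by simpa using hs0.add ht1⟩
  set a := y ^ s with ha
  set b := y ^ t with hb
  have hab : y = a * b := by
    rw [ha, hb, ← pow_add]; exact (pow_eq_self_of_modEq y hyNm hst).symm
  have hcommab : Commute a b := (Commute.refl y).pow_pow s t
  have hgs : g ^ s = g := pow_eq_self_of_modEq g hgN hs1
  have hgt : g ^ t = 1 := by
    apply pow_eq_one_of_dvd' g hgN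
    exact (Nat.modEq_zero_iff_dvd).mp ht0
  have haH : a * g⁻¹ ∈ H := by
    have := coset_pow H g y hnorm hyg s
    rwa [hgs] at this
  have hbH : b ∈ H := by
    have := coset_pow H g y hnorm hyg t
    rwa [hgt, inv_one, mul_one] at this
  have haN : a ^ N = 1 := by
    rw [ha, ← pow_mul]
    apply pow_eq_one_of_dvd' y hyNm
    obtain ⟨c, hc⟩ := (Nat.modEq_zero_iff_dvd).mp hs0
    exact ⟨c, by rw [hc]; ring⟩
  obtain ⟨x, hxH, hxeq⟩ := conj_of_coprime N H g a hnorm haH hgN haN hcop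
  refine ⟨x, hxH, x * b * x⁻¹, H.mul_mem (H.mul_mem hxH hbH) (H.inv_mem hxH), ?_, ?_⟩
  · have h1 : Commute (x * b * x⁻¹) (x * a * x⁻¹) := by
      show x * b * x⁻¹ * (x * a * x⁻¹) = x * a * x⁻¹ * (x * b * x⁻¹)
      have := hcommab.eq
      calc x * b * x⁻¹ * (x * a * x⁻¹) = x * (b * a) * x⁻¹ := by group
        _ = x * (a * b) * x⁻¹ := by rw [this]
        _ = x * a * x⁻¹ * (x * b * x⁻¹) := by group
    rw [hxeq] at h1
    exact h1.eq
  · rw [hab, hcommab.eq, ← hxeq]; group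

end Cfsg.Agent.S1496
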