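import Cfsg.Statements.S4387
-- import your own Cfsg.Agent.* helpers here

set_option autoImplicit false
open Pointwise
open Cfsg

namespace Cfsg.Agent.S4387

theorem exists_derangement {G : Type*} [Group G] [Finite G] (M : Subgroup G) (hM : M ≠ ⊤) :
    ∃ g : G, ∀ k : G, k⁻¹ * g * k ∉ M := by
  classical
  by_contra hcon
  have hcon' : ∀ g : G, ∃ k : G, k⁻¹ * g * k ∈ M := by
    intro g
    by_contra h
    exact hcon ⟨g, fun k hk => h ⟨k, hk⟩⟩
  let _ := Fintype.ofFinite G
  let _ : Fintype (G ⧸ M) := Fintype.ofFinite _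
  have hB := MulAction.sum_card_fixedBy_eq_card_orbits_mul_card_group G (G ⧸ M)
  have hΩ : Fintype.card (Quotient (MulAction.orbitRel G (G ⧸ M))) = 1 := by
    rw [Fintype.card_eq_one_iff]
    refine ⟨Quotient.mk'' (QuotientGroup.mk 1), ?_⟩
    intro y
    induction y using Quotient.inductionOn' with
    | _ y =>
      apply Quotient.sound'
      exact MulAction.exists_smul_eq G _ _
  rw [hΩ, one_mul] at hB
  have h1 : ∀ g : G, 1 ≤ Fintype.card (MulAction.fixedBy (G ⧸ M) g) := by
    intro g
    obtain ⟨k, hk⟩ := hcon' g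
    refine Fintype.card_pos_iff.mpr ⟨⟨QuotientGroup.mk k, ?_⟩⟩
    rw [MulAction.mem_fixedBy, MulAction.Quotient.smul_mk, eq_comm, QuotientGroup.eq]
    simpa [mul_assoc] using hk
  have h2 : 2 ≤ Fintype.card (MulAction.fixedBy (G ⧸ M) (1 : G)) := by
    have hidx : 1 < M.index := Subgroup.one_lt_index_of_ne_top hM
    rw [Subgroup.index_eq_card, Nat.card_eq_fintype_card] at hidx
    have hinj : Function.Injective
        (fun x : G ⧸ M => (⟨x, by rw [MulAction.mem_fixedBy, one_smul]⟩ :
          MulAction.fixedBy (G ⧸ M) (1 : G))) := by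
      intro a b hab
      exact congrArg Subtype.val hab
    have h4 := Fintype.card_le_of_injective _ hinj
    convert le_trans hidx h4 using 1
  have h3 : Fintype.card G + 1 ≤ ∑ g : G, Fintype.card (MulAction.fixedBy (G ⧸ M) g) := by
    calc Fintype.card G + 1 = ∑ g : G, (1 + if g = 1 then 1 else 0) := by
          rw [Finset.sum_add_distrib, Finset.sum_ite_eq' Finset.univ (1 : G)]
          simp
      _ ≤ _ := Finset.sum_le_sum (fun g _ => by
          by_cases h : g = 1
          · subst h; simpa using h2
          · simpa [h] using h1 g)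
  omega

open scoped Pointwise


/-- Let G be a non-trivial finite group in which any two maximal subgroups are conjugate. Then G is cyclic of prime-power order. -/
theorem result {G : Type*} [Group G] [Finite G] [Nontrivial G]
    (h : ∀ M N : Subgroup G, IsCoatom M → IsCoatom N → ∃ g : G, N = MulAut.conj g • M) :
    IsCyclic G ∧ IsPrimePow (Nat.card G) := by
  classical
  have hbt : (⊥ : Subgroup G) ≠ ⊤ := bot_ne_top
  obtain ⟨M0, hM0, -⟩ := (eq_top_or_exists_le_coatom (⊥ : Subgroup G)).resolve_left hbt
  constructor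
  · obtain ⟨g, hg⟩ := exists_derangement M0 hM0.1
    have htop : Subgroup.zpowers g = ⊤ := by
      by_contra hne
      obtain ⟨N, hN, hle⟩ := (eq_top_or_exists_le_coatom (Subgroup.zpowers g)).resolve_left hne
      obtain ⟨k, hk⟩ := h M0 N hM0 hN
      have hgN : g ∈ N := hle (Subgroup.mem_zpowers g)
      rw [hk, Subgroup.mem_pointwise_smul_iff_inv_smul_mem, MulAut.smul_def,
        MulAut.conj_inv_apply] at hgN
      exact hg k hgN
    exact isCyclic_iff_exists_zpowers_eq_top.mpr ⟨g, htop⟩
  · by_contra hnpp
    have hdvd : ∀ r : ℕ, r.Prime → r ^ (Nat.card G).factorization r ∣ Nat.card M0 := by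
      intro r hr
      have : Fact r.Prime := ⟨hr⟩
      obtain ⟨P⟩ := (Sylow.nonempty : Nonempty (Sylow r G))
      have hPtop : (P : Subgroup G) ≠ ⊤ := by
        intro hP
        apply hnpp
        have hc : Nat.card G = r ^ (Nat.card G).factorization r := by
          rw [← P.card_eq_multiplicity]
          rw [hP, Subgroup.card_top]
        have hk : (Nat.card G).factorization r ≠ 0 := by
          intro h0
          rw [h0, pow_zero] at hc
          exact (Finite.one_lt_card (α := G)).ne' hc
        rw [hc]
        exact hr.isPrimePow.pow hk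
      obtain ⟨N, hN, hle⟩ := (eq_top_or_exists_le_coatom (P : Subgroup G)).resolve_left hPtop
      obtain ⟨k, hk⟩ := h M0 N hM0 hN
      have hcN : Nat.card N = Nat.card M0 := by
        rw [hk]
        exact (Nat.card_congr (Subgroup.equivSMul (MulAut.conj k) M0).toEquiv).symm
      rw [← hcN, ← P.card_eq_multiplicity]
      exact Subgroup.card_dvd_of_le hle
    have hG0 : Nat.card G ≠ 0 := Nat.card_pos.ne'
    have hM00 : Nat.card M0 ≠ 0 := Nat.card_pos.ne'
    have hdiv : Nat.card G ∣ Nat.card M0 := by
      rw [← Nat.factorization_prime_le_iff_dvd hG0 hM00]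
      intro r hr
      exact (hr.pow_dvd_iff_le_factorization hM00).mp (hdvd r hr)
    have hle : Nat.card G ≤ Nat.card M0 := Nat.le_of_dvd Nat.card_pos hdiv
    exact hM0.1 (Subgroup.eq_top_of_le_card _ hle)

end Cfsg.Agent.S4387
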