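import Mathlib
import Cfsg.Statements.S1507
import Cfsg.Agent.S1506
import Cfsg.Agent.Lib.Helper12.DualAux

set_option autoImplicit false
open Cfsg

namespace Cfsg.Agent.S1507

open Cfsg.Agent.Lib.Helper12

theorem comb {R C : Type*} [Fintype R] [Fintype C] [DecidableEq R] [DecidableEq C]
    (f : R → ℂ) (g : C → ℂ) (n : ℕ)
    (hR : n ≤ Fintype.card R) (hC : n + 2 ≤ Fintype.card C)
    (hN : (Finset.univ.filter (fun p : R × C => f p.1 + g p.2 ≠ 0)).card < 2 * n) :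
    (∀ r c, f r + g c = 0) ∨ (∃ c₀ a, ∀ r c, f r + g c = if c = c₀ then a else 0) ∨
      (∃ r₀ a, ∀ r c, f r + g c = if r = r₀ then a else 0) := by
  classical
  set m : R → ℕ := fun r => (Finset.univ.filter (fun c : C => f r + g c ≠ 0)).card with hm
  have hNsum : (Finset.univ.filter (fun p : R × C => f p.1 + g p.2 ≠ 0)).card = ∑ r, m r := by
    rw [Finset.card_filter, Fintype.sum_prod_type]
    apply Finset.sum_congr rfl
    intro r _
    show _ = (Finset.univ.filter (fun c : C => f r + g c ≠ 0)).card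
    rw [Finset.card_filter]
  rw [hNsum] at hN
  by_cases hall : ∀ r, 2 ≤ m r
  · exfalso
    have : 2 * Fintype.card R ≤ ∑ r, m r := by
      calc 2 * Fintype.card R = ∑ r : R, 2 := by simp [mul_comm]
        _ ≤ ∑ r, m r := Finset.sum_le_sum (fun r _ => hall r)
    omega
  push Not at hall
  obtain ⟨r₁, hr₁⟩ := hall
  by_cases h0 : m r₁ = 0
  · have hg : ∀ c, g c = - f r₁ := by
      intro c
      by_contra hc
      have hmem : c ∈ Finset.univ.filter (fun c : C => f r₁ + g c ≠ 0) := by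
        rw [Finset.mem_filter]
        refine ⟨Finset.mem_univ _, ?_⟩
        intro h; apply hc; linear_combination h
      have h0' : Finset.univ.filter (fun c : C => f r₁ + g c ≠ 0) = ∅ := Finset.card_eq_zero.mp h0
      rw [h0'] at hmem
      exact absurd hmem (Finset.notMem_empty _)
    have hm' : ∀ r, m r = if f r ≠ f r₁ then Fintype.card C else 0 := by
      intro r
      by_cases hr : f r = f r₁
      · rw [if_neg (not_not.mpr hr)]
        apply Finset.card_eq_zero.mpr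
        apply Finset.filter_eq_empty_iff.mpr
        intro c _
        rw [hg c, hr]; simp
      · rw [if_pos hr]
        show (Finset.univ.filter (fun c : C => f r + g c ≠ 0)).card = _
        rw [Finset.filter_true_of_mem, Finset.card_univ]
        intro c _
        rw [hg c]
        intro h; apply hr; linear_combination h
    have hNt : ∑ r, m r = Fintype.card C * (Finset.univ.filter (fun r : R => f r ≠ f r₁)).card := by
      simp only [hm']
      rw [← Finset.sum_filter, Finset.sum_const, smul_eq_mul, mul_comm]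
    by_cases ht : 2 ≤ (Finset.univ.filter (fun r : R => f r ≠ f r₁)).card
    · exfalso
      have : Fintype.card C * 2 ≤ ∑ r, m r := by
        rw [hNt]; exact Nat.mul_le_mul_left _ ht
      omega
    · by_cases ht0 : (Finset.univ.filter (fun r : R => f r ≠ f r₁)).card = 0
      · left
        intro r c
        have hr : f r = f r₁ := by
          by_contra hr
          have hmem : r ∈ Finset.univ.filter (fun r : R => f r ≠ f r₁) := by
            rw [Finset.mem_filter]; exact ⟨Finset.mem_univ _, hr⟩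
          rw [Finset.card_eq_zero.mp ht0] at hmem
          exact absurd hmem (Finset.notMem_empty _)
        rw [hg c, hr]; ring
      · right; right
        have ht1 : (Finset.univ.filter (fun r : R => f r ≠ f r₁)).card = 1 := by omega
        obtain ⟨r₀, hr₀⟩ := Finset.card_eq_one.mp ht1
        refine ⟨r₀, f r₀ - f r₁, ?_⟩
        intro r c
        rw [hg c]
        by_cases hr : r = r₀
        · rw [if_pos hr, hr]; ring
        · rw [if_neg hr]
          have : f r = f r₁ := by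
            by_contra hne
            have hmem : r ∈ Finset.univ.filter (fun r : R => f r ≠ f r₁) := by
              rw [Finset.mem_filter]; exact ⟨Finset.mem_univ _, hne⟩
            rw [hr₀, Finset.mem_singleton] at hmem
            exact hr hmem
          rw [this]; ring
  · have h1 : m r₁ = 1 := by omega
    obtain ⟨c₁, hc₁⟩ := Finset.card_eq_one.mp h1
    have hg : ∀ c, c ≠ c₁ → g c = - f r₁ := by
      intro c hc
      by_contra hne
      have hmem : c ∈ Finset.univ.filter (fun c : C => f r₁ + g c ≠ 0) := by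
        rw [Finset.mem_filter]
        refine ⟨Finset.mem_univ _, ?_⟩
        intro h; apply hne; linear_combination h
      rw [hc₁, Finset.mem_singleton] at hmem
      exact hc hmem
    have hc₁' : f r₁ + g c₁ ≠ 0 := by
      have hmem : c₁ ∈ Finset.univ.filter (fun c : C => f r₁ + g c ≠ 0) := by
        rw [hc₁]; exact Finset.mem_singleton_self _
      exact (Finset.mem_filter.mp hmem).2
    by_cases hf : ∀ r, f r = f r₁
    · right; left
      refine ⟨c₁, f r₁ + g c₁, ?_⟩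
      intro r c
      by_cases hc : c = c₁
      · rw [if_pos hc, hc, hf r]
      · rw [if_neg hc, hg c hc, hf r]; ring
    · exfalso
      push Not at hf
      obtain ⟨r₂, hr₂⟩ := hf
      have hm2 : Fintype.card C - 1 ≤ m r₂ := by
        calc Fintype.card C - 1 = (Finset.univ.erase c₁).card := by
              rw [Finset.card_erase_of_mem (Finset.mem_univ _), Finset.card_univ]
          _ ≤ m r₂ := by
              apply Finset.card_le_card
              intro c hc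
              rw [Finset.mem_erase] at hc
              rw [Finset.mem_filter]
              refine ⟨Finset.mem_univ _, ?_⟩
              rw [hg c hc.1]
              intro h; apply hr₂; linear_combination h
      have hm1 : ∀ r, 1 ≤ m r := by
        intro r
        apply Finset.card_pos.mpr
        by_cases hr : f r = f r₁
        · refine ⟨c₁, ?_⟩
          rw [Finset.mem_filter]
          refine ⟨Finset.mem_univ _, ?_⟩
          rw [hr]; exact hc₁'
        · have hex : ∃ c, c ≠ c₁ := by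
            by_contra hne
            push Not at hne
            have : Fintype.card C ≤ 1 :=
              Fintype.card_le_one_iff.mpr (fun a b => by rw [hne a, hne b])
            omega
          obtain ⟨c, hc⟩ := hex
          refine ⟨c, ?_⟩
          rw [Finset.mem_filter]
          refine ⟨Finset.mem_univ _, ?_⟩
          rw [hg c hc]
          intro h; apply hr; linear_combination h
      have hsum : (Fintype.card C - 1) + (Fintype.card R - 1) ≤ ∑ r, m r := by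
        rw [← Finset.add_sum_erase Finset.univ m (Finset.mem_univ r₂)]
        apply add_le_add hm2
        calc Fintype.card R - 1 = ∑ r ∈ Finset.univ.erase r₂, 1 := by
              rw [Finset.sum_const, Finset.card_erase_of_mem (Finset.mem_univ _), Finset.card_univ]
              simp
          _ ≤ _ := Finset.sum_le_sum (fun r _ => hm1 r)
      omega


theorem card_hom_of_comm {A : Type*} [Group A] [Finite A] (hcomm : ∀ a b : A, a * b = b * a) :
    Nat.card (A →* ℂˣ) = Nat.card A := by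
  let _ : CommGroup A := { (inferInstance : Group A) with mul_comm := hcomm }
  have : NeZero ((Monoid.exponent A : ℕ) : ℂ) :=
    ⟨by exact_mod_cast Monoid.exponent_ne_zero_of_finite⟩
  exact CommGroup.card_monoidHom_of_hasEnoughRootsOfUnity A ℂ

/-- the multiplication map `W₁ × W₂ → W₁ ⊔ W₂` -/
def prodHom {G : Type*} [Group G] (W₁ W₂ : Subgroup G)
    (hcomm : ∀ a ∈ W₁, ∀ b ∈ W₂, a * b = b * a) : W₁ × W₂ →* ↥(W₁ ⊔ W₂) where
  toFun p := ⟨(p.1 : G) * (p.2 : G), Subgroup.mul_mem_sup p.1.2 p.2.2⟩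
  map_one' := by apply Subtype.ext; simp
  map_mul' := by
    rintro ⟨a, b⟩ ⟨a', b'⟩
    apply Subtype.ext
    show ((a : G) * a') * ((b : G) * b') = ((a : G) * b) * ((a' : G) * b')
    have h := hcomm a' a'.2 b b.2
    calc ((a : G) * a') * ((b : G) * b') = (a : G) * ((a' : G) * b) * b' := by group
      _ = (a : G) * ((b : G) * a') * b' := by rw [h]
      _ = ((a : G) * b) * ((a' : G) * b') := by group

theorem prodHom_injective {G : Type*} [Group G] (W₁ W₂ : Subgroup G)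
    (hcomm : ∀ a ∈ W₁, ∀ b ∈ W₂, a * b = b * a) (hdisj : W₁ ⊓ W₂ = ⊥) :
    Function.Injective (prodHom W₁ W₂ hcomm) := by
  rintro ⟨a, b⟩ ⟨a', b'⟩ heq
  have heq' : (a : G) * b = a' * b' := congrArg Subtype.val heq
  have hz : (a' : G)⁻¹ * a = b' * (b : G)⁻¹ := by
    calc (a' : G)⁻¹ * a = (a' : G)⁻¹ * ((a : G) * b) * (b : G)⁻¹ := by group
      _ = (a' : G)⁻¹ * ((a' : G) * b') * (b : G)⁻¹ := by rw [heq']
      _ = b' * (b : G)⁻¹ := by group
  have hz1 : (a' : G)⁻¹ * a = 1 := by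
    have hmem : (a' : G)⁻¹ * a ∈ W₁ ⊓ W₂ :=
      ⟨W₁.mul_mem (W₁.inv_mem a'.2) a.2, by rw [hz]; exact W₂.mul_mem b'.2 (W₂.inv_mem b.2)⟩
    rw [hdisj] at hmem
    exact Subgroup.mem_bot.mp hmem
  have ha : a = a' := by
    apply Subtype.ext
    exact (inv_mul_eq_one.mp hz1).symm
  have hb : b = b' := by
    apply Subtype.ext
    rw [hz1] at hz
    have : (b' : G) * (b : G)⁻¹ = 1 := hz.symm
    exact (mul_inv_eq_one.mp this).symm
  rw [ha, hb]

theorem prodHom_surjective {G : Type*} [Group G] (W₁ W₂ : Subgroup G)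
    (hcomm : ∀ a ∈ W₁, ∀ b ∈ W₂, a * b = b * a) :
    Function.Surjective (prodHom W₁ W₂ hcomm) := by
  intro w
  let K : Subgroup G := (prodHom W₁ W₂ hcomm).range.map (W₁ ⊔ W₂).subtype
  have hK : W₁ ⊔ W₂ ≤ K := by
    apply sup_le
    · intro a ha
      exact ⟨prodHom W₁ W₂ hcomm (⟨a, ha⟩, 1), ⟨_, rfl⟩, by simp [prodHom]⟩
    · intro b hb
      exact ⟨prodHom W₁ W₂ hcomm (1, ⟨b, hb⟩), ⟨_, rfl⟩, by simp [prodHom]⟩
  obtain ⟨w', ⟨p, hp⟩, hww⟩ := hK w.2
  refine ⟨p, ?_⟩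
  rw [hp]
  exact Subtype.ext hww

noncomputable def prodEquiv {G : Type*} [Group G] (W₁ W₂ : Subgroup G)
    (hcomm : ∀ a ∈ W₁, ∀ b ∈ W₂, a * b = b * a) (hdisj : W₁ ⊓ W₂ = ⊥) :
    W₁ × W₂ ≃* ↥(W₁ ⊔ W₂) :=
  MulEquiv.ofBijective (prodHom W₁ W₂ hcomm)
    ⟨prodHom_injective W₁ W₂ hcomm hdisj, prodHom_surjective W₁ W₂ hcomm⟩

/-- the linear character of `W₁ ⊔ W₂` with given restrictions -/
noncomputable def mk {G : Type*} [Group G] (W₁ W₂ : Subgroup G)
    (hcomm : ∀ a ∈ W₁, ∀ b ∈ W₂, a * b = b * a) (hdisj : W₁ ⊓ W₂ = ⊥)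
    (α : W₁ →* ℂˣ) (β : W₂ →* ℂˣ) : ↥(W₁ ⊔ W₂) →* ℂˣ :=
  (α.coprod β).comp (prodEquiv W₁ W₂ hcomm hdisj).symm.toMonoidHom

theorem mk_apply {G : Type*} [Group G] (W₁ W₂ : Subgroup G)
    (hcomm : ∀ a ∈ W₁, ∀ b ∈ W₂, a * b = b * a) (hdisj : W₁ ⊓ W₂ = ⊥)
    (α : W₁ →* ℂˣ) (β : W₂ →* ℂˣ) (a : W₁) (b : W₂) :
    mk W₁ W₂ hcomm hdisj α β (prodHom W₁ W₂ hcomm (a, b)) = α a * β b := by
  have h : (prodEquiv W₁ W₂ hcomm hdisj).symm (prodHom W₁ W₂ hcomm (a, b)) = (a, b) :=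
    (prodEquiv W₁ W₂ hcomm hdisj).symm_apply_apply (a, b)
  show (α.coprod β) ((prodEquiv W₁ W₂ hcomm hdisj).symm (prodHom W₁ W₂ hcomm (a, b))) = _
  rw [h, MonoidHom.coprod_apply]

open Classical in
/-- Let W₁, W₂ ≤ G form a self-normalising cyclic subgroup W = W₁ ⊔ W₂ of odd order with Nat.card W₁ < Nat.card W₂, and χ an orthonormal family of irreducible characters of G up to sign, indexed by the linear characters ω of W, with χ_1 = 1, χ_ω = ω on W outside W₁ ∪ W₂, and the induction identity for (1 − φ)(1 − ψ). Let θ be a class function of G vanishing on W outside W₁ ∪ W₂, and suppose fewer than 2 · Nat.card W₁ linear characters ω of W have ⟨θ, χ ω⟩ ≠ 0. Then one of: all ⟨θ, χ ω⟩ vanish; or there are ψ₀ and a with ⟨θ, χ ω⟩ = a when ω ψ₀⁻¹ is trivial on W₂ and 0 otherwise; or there are φ₀ and a with ⟨θ, χ ω⟩ = a when ω φ₀⁻¹ is trivial on W₁ and 0 otherwise. -/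
theorem result {G : Type*} [Group G] [Fintype G] (W₁ W₂ : Subgroup G) (hW : Cfsg.IsSelfNormalizingCyclic W₁ W₂) (hodd : Odd (Nat.card ↥(W₁ ⊔ W₂))) (χ : (↥(W₁ ⊔ W₂) →* ℂˣ) → (G → ℂ)) (hχ : Cfsg.IsCyclicTIFamily W₁ W₂ χ) (hlt : Nat.card W₁ < Nat.card W₂) (θ : G → ℂ) (hθ : Cfsg.IsClassFunction G θ) (hθV : ∀ w : ↥(W₁ ⊔ W₂), (w : G) ∉ W₁ → (w : G) ∉ W₂ → θ w = 0) (hfew : Nat.card {ω : ↥(W₁ ⊔ W₂) →* ℂˣ // Cfsg.classInner θ (χ ω) ≠ 0} < 2 * Nat.card W₁) : (∀ ω, Cfsg.classInner θ (χ ω) = 0) ∨ (∃ (ψ₀ : ↥(W₁ ⊔ W₂) →* ℂˣ) (a : ℂ), ∀ ω, Cfsg.classInner θ (χ ω) = if (∀ w : ↥(W₁ ⊔ W₂), (w : G) ∈ W₂ → (ω * ψ₀⁻¹) w = 1) then a else 0) ∨ (∃ (φ₀ : ↥(W₁ ⊔ W₂) →* ℂˣ) (a : ℂ), ∀ ω, Cfsg.classInner θ (χ ω) = if (∀ w : ↥(W₁ ⊔ W₂), (w : G) ∈ W₁ → (ω * φ₀⁻¹) w = 1) then a else 0) := by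
  obtain ⟨hW1, hW2, hdisj, hcomm, hcyc, hnorm⟩ := hW
  have hcommW : ∀ a b : ↥(W₁ ⊔ W₂), a * b = b * a := fun a b =>
    (IsCyclic.commGroup (α := ↥(W₁ ⊔ W₂))).mul_comm a b
  set P := prodHom W₁ W₂ hcomm with hP
  have hsurj := prodHom_surjective W₁ W₂ hcomm
  set mk' := mk W₁ W₂ hcomm hdisj with hmk
  have hmk_apply : ∀ (α : W₁ →* ℂˣ) (β : W₂ →* ℂˣ) (a : W₁) (b : W₂),
      mk' α β (P (a, b)) = α a * β b := mk_apply W₁ W₂ hcomm hdisj
  set a : (↥(W₁ ⊔ W₂) →* ℂˣ) → ℂ := fun ω => Cfsg.classInner θ (χ ω) with ha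
  have hP1 : ∀ w : ↥(W₁ ⊔ W₂), ∀ h : (w : G) ∈ W₁, w = P (⟨w, h⟩, 1) := by
    intro w h; apply Subtype.ext; simp [hP, prodHom]
  have hP2 : ∀ w : ↥(W₁ ⊔ W₂), ∀ h : (w : G) ∈ W₂, w = P (1, ⟨w, h⟩) := by
    intro w h; apply Subtype.ext; simp [hP, prodHom]
  have hPmem1 : ∀ x : W₁, ((P (x, 1) : ↥(W₁ ⊔ W₂)) : G) ∈ W₁ := by
    intro x; simp [hP, prodHom]
  have hPmem2 : ∀ y : W₂, ((P (1, y) : ↥(W₁ ⊔ W₂)) : G) ∈ W₂ := by
    intro y; simp [hP, prodHom]
  let res₁ : (↥(W₁ ⊔ W₂) →* ℂˣ) → (W₁ →* ℂˣ) := fun ω =>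
    ω.comp (Subgroup.inclusion le_sup_left)
  let res₂ : (↥(W₁ ⊔ W₂) →* ℂˣ) → (W₂ →* ℂˣ) := fun ω =>
    ω.comp (Subgroup.inclusion le_sup_right)
  have hres₁ : ∀ (ω : ↥(W₁ ⊔ W₂) →* ℂˣ) (x : W₁), res₁ ω x = ω (P (x, 1)) := by
    intro ω x
    show ω (Subgroup.inclusion le_sup_left x) = _
    congr 1
    apply Subtype.ext
    simp [hP, prodHom]
  have hres₂ : ∀ (ω : ↥(W₁ ⊔ W₂) →* ℂˣ) (y : W₂), res₂ ω y = ω (P (1, y)) := by
    intro ω y
    show ω (Subgroup.inclusion le_sup_right y) = _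
    congr 1
    apply Subtype.ext
    simp [hP, prodHom]
  have hPsplit : ∀ (x : W₁) (y : W₂), P (x, y) = P (x, 1) * P (1, y) := by
    intro x y
    rw [← map_mul]
    simp
  have hmkres : ∀ ω : ↥(W₁ ⊔ W₂) →* ℂˣ, mk' (res₁ ω) (res₂ ω) = ω := by
    intro ω
    ext w
    obtain ⟨⟨x, y⟩, rfl⟩ := hsurj w
    rw [hmk_apply, hres₁, hres₂, ← map_mul, ← hPsplit]
  have hresmk₁ : ∀ (α : W₁ →* ℂˣ) (β : W₂ →* ℂˣ), res₁ (mk' α β) = α := by
    intro α β
    ext x
    rw [hres₁, hmk_apply, map_one, mul_one]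
  have hresmk₂ : ∀ (α : W₁ →* ℂˣ) (β : W₂ →* ℂˣ), res₂ (mk' α β) = β := by
    intro α β
    ext y
    rw [hres₂, hmk_apply, map_one, one_mul]
  let E : (↥(W₁ ⊔ W₂) →* ℂˣ) ≃ (W₁ →* ℂˣ) × (W₂ →* ℂˣ) :=
    { toFun := fun ω => (res₁ ω, res₂ ω)
      invFun := fun p => mk' p.1 p.2
      left_inv := hmkres
      right_inv := fun p => by
        show (res₁ (mk' p.1 p.2), res₂ (mk' p.1 p.2)) = p
        rw [hresmk₁, hresmk₂] }
  set f : (W₁ →* ℂˣ) → ℂ := fun α => a (mk' α 1) - a 1 with hf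
  set g : (W₂ →* ℂˣ) → ℂ := fun β => a (mk' 1 β) with hg
  have hkey : ∀ (α : W₁ →* ℂˣ) (β : W₂ →* ℂˣ), a (mk' α β) = f α + g β := by
    intro α β
    have e : mk' α β = mk' α 1 * mk' 1 β := by
      ext w
      obtain ⟨⟨x, y⟩, rfl⟩ := hsurj w
      rw [MonoidHom.mul_apply, hmk_apply, hmk_apply, hmk_apply]
      simp
    have h1 : ∀ w : ↥(W₁ ⊔ W₂), (w : G) ∈ W₂ → mk' α 1 w = 1 := by
      intro w hw
      rw [hP2 w hw, hmk_apply]
      simp
    have h2 : ∀ w : ↥(W₁ ⊔ W₂), (w : G) ∈ W₁ → mk' 1 β w = 1 := by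
      intro w hw
      rw [hP1 w hw, hmk_apply]
      simp
    have hk := S1506.key W₁ W₂ χ hχ θ hθ hθV (mk' α 1) (mk' 1 β) h1 h2
    show Cfsg.classInner θ (χ (mk' α β)) = (Cfsg.classInner θ (χ (mk' α 1))
      - Cfsg.classInner θ (χ 1)) + Cfsg.classInner θ (χ (mk' 1 β))
    rw [e, hk]
    ring
  have hakey : ∀ ω : ↥(W₁ ⊔ W₂) →* ℂˣ, a ω = f (res₁ ω) + g (res₂ ω) := by
    intro ω
    rw [← hkey, hmkres]
  have : Fintype (W₁ →* ℂˣ) := Fintype.ofFinite _
  have : Fintype (W₂ →* ℂˣ) := Fintype.ofFinite _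
  have hc1 : Fintype.card (W₁ →* ℂˣ) = Nat.card W₁ := by
    rw [← Nat.card_eq_fintype_card]
    apply card_hom_of_comm
    intro x y
    apply Subtype.ext
    have h := congrArg Subtype.val (hcommW ⟨x, (le_sup_left : W₁ ≤ W₁ ⊔ W₂) x.2⟩
      ⟨y, (le_sup_left : W₁ ≤ W₁ ⊔ W₂) y.2⟩)
    exact h
  have hc2 : Fintype.card (W₂ →* ℂˣ) = Nat.card W₂ := by
    rw [← Nat.card_eq_fintype_card]
    apply card_hom_of_comm
    intro x y
    apply Subtype.ext
    have h := congrArg Subtype.val (hcommW ⟨x, (le_sup_right : W₂ ≤ W₁ ⊔ W₂) x.2⟩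
      ⟨y, (le_sup_right : W₂ ≤ W₁ ⊔ W₂) y.2⟩)
    exact h
  have hcount : Nat.card {ω : ↥(W₁ ⊔ W₂) →* ℂˣ // Cfsg.classInner θ (χ ω) ≠ 0}
      = (Finset.univ.filter (fun p : (W₁ →* ℂˣ) × (W₂ →* ℂˣ) => f p.1 + g p.2 ≠ 0)).card := by
    rw [← Fintype.card_subtype, ← Nat.card_eq_fintype_card]
    apply Nat.card_congr
    exact E.subtypeEquiv (fun ω => by
      show a ω ≠ 0 ↔ f (res₁ ω) + g (res₂ ω) ≠ 0
      rw [hakey])
  have hw12 : Nat.card W₁ + 2 ≤ Nat.card W₂ := by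
    have hd1 : Nat.card W₁ ∣ Nat.card ↥(W₁ ⊔ W₂) := Subgroup.card_dvd_of_le le_sup_left
    have hd2 : Nat.card W₂ ∣ Nat.card ↥(W₁ ⊔ W₂) := Subgroup.card_dvd_of_le le_sup_right
    have ho1 : Odd (Nat.card W₁) := Odd.of_dvd_nat hodd hd1
    have ho2 : Odd (Nat.card W₂) := Odd.of_dvd_nat hodd hd2
    obtain ⟨k, hk⟩ := ho1
    obtain ⟨l, hl⟩ := ho2
    omega
  have hcomb := comb f g (Nat.card W₁) (by rw [hc1]) (by rw [hc2]; exact hw12)
    (by rw [← hcount]; exact hfew)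
  rcases hcomb with h | ⟨c₀, a₀, h⟩ | ⟨r₀, a₀, h⟩
  · left
    intro ω
    show a ω = 0
    rw [hakey]
    exact h _ _
  · right; left
    refine ⟨mk' 1 c₀, a₀, ?_⟩
    intro ω
    show a ω = _
    rw [hakey, h]
    have hiff : (res₂ ω = c₀) ↔
        (∀ w : ↥(W₁ ⊔ W₂), (w : G) ∈ W₂ → (ω * (mk' 1 c₀)⁻¹) w = 1) := by
      constructor
      · intro hh w hw
        rw [MonoidHom.mul_apply, MonoidHom.inv_apply, hP2 w hw, hmk_apply, ← hres₂, hh]
        simp
      · intro hh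
        ext y
        have := hh (P (1, y)) (hPmem2 y)
        rw [MonoidHom.mul_apply, MonoidHom.inv_apply, hmk_apply, map_one, one_mul,
          mul_inv_eq_one] at this
        rw [hres₂, this]
    by_cases hc : res₂ ω = c₀
    · rw [if_pos hc, if_pos (hiff.mp hc)]
    · rw [if_neg hc, if_neg (fun hh => hc (hiff.mpr hh))]
  · right; right
    refine ⟨mk' r₀ 1, a₀, ?_⟩
    intro ω
    show a ω = _
    rw [hakey, h]
    have hiff : (res₁ ω = r₀) ↔
        (∀ w : ↥(W₁ ⊔ W₂), (w : G) ∈ W₁ → (ω * (mk' r₀ 1)⁻¹) w = 1) := by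
      constructor
      · intro hh w hw
        rw [MonoidHom.mul_apply, MonoidHom.inv_apply, hP1 w hw, hmk_apply, ← hres₁, hh]
        simp
      · intro hh
        ext x
        have := hh (P (x, 1)) (hPmem1 x)
        rw [MonoidHom.mul_apply, MonoidHom.inv_apply, hmk_apply, map_one, mul_one,
          mul_inv_eq_one] at this
        rw [hres₁, this]
    by_cases hc : res₁ ω = r₀
    · rw [if_pos hc, if_pos (hiff.mp hc)]
    · rw [if_neg hc, if_neg (fun hh => hc (hiff.mpr hh))]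

end Cfsg.Agent.S1507
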