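import Mathlib
import Cfsg.Statements.S1490
import Cfsg.Agent.S1489
import Cfsg.Agent.S1507
import Cfsg.Agent.Lib.Helper12.DualAux
import Cfsg.Agent.Lib.Helper2.CharProd
import Cfsg.Agent.Lib.Helper2.CharLinear

set_option autoImplicit false
open Cfsg

namespace Cfsg.Agent.S1490

open Cfsg.Agent.Lib.Helper2 Cfsg.Agent.Lib.Helper12
open scoped ComplexConjugate

/-- class functions with the same inner products against all irreducible characters agree -/
theorem class_fun_ext {G : Type*} [Group G] [Fintype G] {Θ₁ Θ₂ : G → ℂ}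
    (h₁ : Cfsg.IsClassFunction G Θ₁) (h₂ : Cfsg.IsClassFunction G Θ₂)
    (h : ∀ χ : G → ℂ, Cfsg.IsIrrCharacter G χ → Cfsg.classInner Θ₁ χ = Cfsg.classInner Θ₂ χ) :
    Θ₁ = Θ₂ := by
  classical
  have := Fintype.ofFinite (Cfsg.IrrCharacter G)
  rw [class_fun_expand Θ₁ h₁, class_fun_expand Θ₂ h₂]
  apply Finset.sum_congr rfl
  intro χ _
  rw [h χ χ.2]

/-- transitivity of induction -/
theorem indFun_trans {G : Type*} [Group G] [Fintype G] (H T : Subgroup G) [Fintype T]
    (hHT : H ≤ T) (θ : H → ℂ) :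
    Cfsg.indFun T (Cfsg.indFun (H.subgroupOf T)
      (fun x => θ ⟨(x : T), Subgroup.mem_subgroupOf.mp x.2⟩)) = Cfsg.indFun H θ := by
  classical
  have := Fintype.ofFinite H
  have := Fintype.ofFinite (H.subgroupOf T)
  apply class_fun_ext (indFun_isClassFunction _ _) (indFun_isClassFunction _ _)
  intro χ hχ
  have hcl := isClassFunction_of_isIrrCharacter hχ
  rw [frobenius_reciprocity T _ χ hcl, frobenius_reciprocity H θ χ hcl]
  have hclT : Cfsg.IsClassFunction T (fun t : T => χ t) := by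
    intro t s
    exact hcl t s
  rw [frobenius_reciprocity (H.subgroupOf T) _ (fun t : T => χ t) hclT]
  exact S1489.classInner_comp_iso (Subgroup.subgroupOfEquivOfLe hHT) θ (fun h : H => χ h)

/-- linearity of induction -/
theorem indFun_smul_sum {G : Type*} [Group G] [Fintype G] (T : Subgroup G) (c : ℂ)
    (s : Finset (T → ℂ)) :
    Cfsg.indFun T (c • ∑ ψ ∈ s, ψ) = c • ∑ ψ ∈ s, Cfsg.indFun T ψ := by
  classical
  have := Fintype.ofFinite T
  apply class_fun_ext (indFun_isClassFunction _ _)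
    (IsClassFunction.smul c (IsClassFunction.sum s (fun ψ _ => indFun_isClassFunction T ψ)))
  intro χ hχ
  have hcl := isClassFunction_of_isIrrCharacter hχ
  rw [frobenius_reciprocity T _ χ hcl, classInner_smul_left, classInner_sum_left,
    classInner_smul_left, classInner_sum_left]
  congr 1
  apply Finset.sum_congr rfl
  intro ψ _
  rw [frobenius_reciprocity T ψ χ hcl]

theorem norm_hom_apply {A : Type*} [Group A] [Finite A] (lam : A →* ℂˣ) (x : A) :
    ‖((lam x : ℂˣ) : ℂ)‖ = 1 := by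
  have h : ((lam x : ℂˣ) : ℂ) ^ orderOf x = 1 := by
    rw [← Units.val_pow_eq_pow_val, ← map_pow, pow_orderOf_eq_one, map_one, Units.val_one]
  exact Complex.norm_eq_one_of_pow_eq_one h (orderOf_pos x).ne'

open Classical in
/-- column orthogonality for the dual of a finite abelian group -/
theorem sum_dual {A : Type*} [Group A] [Finite A] (hcomm : ∀ a b : A, a * b = b * a)
    [Fintype (A →* ℂˣ)] (a : A) :
    ∑ lam : A →* ℂˣ, ((lam a : ℂˣ) : ℂ) = if a = 1 then (Nat.card A : ℂ) else 0 := by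
  by_cases ha : a = 1
  · rw [if_pos ha, ha]
    simp only [map_one, Units.val_one, Finset.sum_const, Finset.card_univ, nsmul_eq_mul, mul_one]
    rw [← Nat.card_eq_fintype_card, S1507.card_hom_of_comm hcomm]
  · rw [if_neg ha]
    obtain ⟨φ₀, -, hne⟩ := exists_hom_trivial_on hcomm (⊥ : Subgroup A) (y := a)
      (by simpa using ha)
    have := sum_hom_units_eq_zero ((Units.coeHom ℂ).comp (MonoidHom.eval a)) (by
      intro h
      apply hne
      have := DFunLike.congr_fun h φ₀
      simpa using this)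
    simpa using this

/-- the case of an invariant character with abelian quotient -/
theorem abelian_quotient {T : Type*} [Group T] [Fintype T] (N : Subgroup T) [hN : N.Normal]
    (θ : N → ℂ) (hθ : Cfsg.IsIrrCharacter N θ)
    (hinv : ∀ t : T, Lib.Helper2.conjFun N θ t = θ)
    (hab : ∀ x y : T, x * y * x⁻¹ * y⁻¹ ∈ N) :
    ∃ (e : ℕ) (C : Finset (T → ℂ)), 0 < e ∧ (∀ ψ ∈ C, Cfsg.IsIrrCharacter T ψ) ∧
      e ^ 2 * C.card = N.index ∧ Cfsg.indFun N θ = (e : ℂ) • ∑ ψ ∈ C, ψ ∧
      (∀ ψ ∈ C, ψ 1 = (e : ℂ) * θ 1) ∧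
      (∀ ψ ∈ C, Cfsg.classInner (Cfsg.indFun N θ) ψ ≠ 0) := by
  classical
  have := Fintype.ofFinite N
  have hθc := isCharacter_of_isIrrCharacter hθ
  have hInd : Cfsg.IsCharacter T (Cfsg.indFun N θ) := indFun_isCharacter N hθc
  obtain ⟨a, ha0, ha⟩ := irr_apply_one hθ
  have hInd0 : Cfsg.indFun N θ ≠ 0 := by
    intro h
    have h1 := congrFun h 1
    rw [indFun_apply_one, ha] at h1
    have h2 : ((N.index * a : ℕ) : ℂ) = 0 := by
      push_cast
      exact h1
    have h3 : N.index * a = 0 := by exact_mod_cast h2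
    have hidx : N.index ≠ 0 := Subgroup.index_ne_zero_of_finite
    rcases Nat.mul_eq_zero.mp h3 with h | h
    · exact hidx h
    · omega
  obtain ⟨χ, hχ, hne⟩ := exists_irr_constituent hInd hInd0
  have hχc := isCharacter_of_isIrrCharacter hχ
  have hχcl := isClassFunction_of_isIrrCharacter hχ
  have hfr := frobenius_reciprocity N θ χ hχcl
  obtain ⟨e, he⟩ := classInner_isCharacter_nat (IsCharacter.restrict hχc N) hθc
  have hne' : Cfsg.classInner (fun n : N => χ n) θ ≠ 0 := by
    intro h0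
    apply hne
    rw [hfr, ← classInner_conj_symm, h0, map_zero]
  have he0 : 0 < e := by
    rcases Nat.eq_zero_or_pos e with h | h
    · exfalso
      apply hne'
      rw [he, h]
      simp
    · exact h
  have hres : (fun n : N => χ n) = (e : ℂ) • θ := by
    have := S1489.restrict_eq_smul N hθ hinv hχ hne'
    rw [he] at this
    exact this
  have hcommA : ∀ x y : T ⧸ N, x * y = y * x := by
    intro x y
    induction x using QuotientGroup.induction_on with | _ x => ?_
    induction y using QuotientGroup.induction_on with | _ y => ?_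
    rw [← QuotientGroup.mk_mul, ← QuotientGroup.mk_mul, QuotientGroup.eq]
    have := hab y⁻¹ x⁻¹
    convert this using 1
    group
  have : Fintype ((T ⧸ N) →* ℂˣ) := Fintype.ofFinite _
  set X : ((T ⧸ N) →* ℂˣ) → (T → ℂ) := fun lam t =>
    ((lam (QuotientGroup.mk t) : ℂˣ) : ℂ) * χ t with hX
  have hXirr : ∀ lam, Cfsg.IsIrrCharacter T (X lam) := by
    intro lam
    have hlin : Cfsg.IsIrrCharacter T
        (fun t => ((lam.comp (QuotientGroup.mk' N) t : ℂˣ) : ℂ)) := isIrrCharacter_of_hom _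
    have hchar : Cfsg.IsCharacter T (X lam) :=
      IsCharacter.mul (isCharacter_of_isIrrCharacter hlin) hχc
    apply isIrrCharacter_of_norm_one hchar
    rw [← classInner_irr_self hχ, classInner_def, classInner_def]
    congr 1
    apply Finset.sum_congr rfl
    intro t _
    show ((lam (QuotientGroup.mk t) : ℂˣ) : ℂ) * χ t
      * conj (((lam (QuotientGroup.mk t) : ℂˣ) : ℂ) * χ t) = _
    rw [map_mul]
    have h1 : ((lam (QuotientGroup.mk t) : ℂˣ) : ℂ)
        * conj ((lam (QuotientGroup.mk t) : ℂˣ) : ℂ) = 1 := by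
      rw [Complex.mul_conj, Complex.normSq_eq_norm_sq, norm_hom_apply]
      simp
    linear_combination (χ t * conj (χ t)) * h1
  have hkey : (e : ℂ) • Cfsg.indFun N θ = ∑ lam : (T ⧸ N) →* ℂˣ, X lam := by
    funext t
    rw [Pi.smul_apply, smul_eq_mul, Finset.sum_apply]
    show _ = ∑ lam : (T ⧸ N) →* ℂˣ, ((lam (QuotientGroup.mk t) : ℂˣ) : ℂ) * χ t
    rw [← Finset.sum_mul, sum_dual hcommA]
    rw [indFun_apply, ← mul_assoc, mul_comm (e : ℂ), mul_assoc, Finset.mul_sum]
    have hterm : ∀ x : T, (e : ℂ) * Cfsg.extendByZero N θ (x⁻¹ * t * x)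
        = if t ∈ N then χ t else 0 := by
      intro x
      by_cases ht : t ∈ N
      · have hx : x⁻¹ * t * x ∈ N := by
          have := hN.conj_mem t ht x⁻¹
          simpa using this
        rw [if_pos ht, extendByZero_of_mem N θ hx]
        have h1 := congrFun hres ⟨x⁻¹ * t * x, hx⟩
        rw [Pi.smul_apply, smul_eq_mul] at h1
        rw [← h1]
        show χ (x⁻¹ * t * x) = χ t
        have h2 := hχcl t x⁻¹
        simpa using h2
      · have hx : x⁻¹ * t * x ∉ N := by
          intro h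
          apply ht
          have h1 := hN.conj_mem _ h x
          have e1 : x * (x⁻¹ * t * x) * x⁻¹ = t := by group
          rwa [e1] at h1
        rw [if_neg ht, extendByZero_of_not_mem N θ hx, mul_zero]
    simp only [hterm]
    rw [Finset.sum_const, Finset.card_univ, nsmul_eq_mul]
    by_cases ht : t ∈ N
    · rw [if_pos ht, if_pos ((QuotientGroup.eq_one_iff t).mpr ht)]
      have hcard : (Nat.card (T ⧸ N) : ℂ) * (Nat.card N : ℂ) = (Fintype.card T : ℂ) := by
        have h1 := Subgroup.card_eq_card_quotient_mul_card_subgroup N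
        rw [← Nat.card_eq_fintype_card]
        exact_mod_cast h1.symm
      have hN0 : (Nat.card N : ℂ) ≠ 0 := by exact_mod_cast (Nat.card_pos (α := N)).ne'
      rw [← hcard]
      field_simp
    · rw [if_neg ht, if_neg (fun h => ht ((QuotientGroup.eq_one_iff t).mp h))]
      simp
  set C : Finset (T → ℂ) := Finset.univ.image X with hC
  have hCirr : ∀ ψ ∈ C, Cfsg.IsIrrCharacter T ψ := by
    intro ψ hψ
    obtain ⟨lam, -, rfl⟩ := Finset.mem_image.mp hψ
    exact hXirr lam
  have hXres : ∀ lam, (fun n : N => X lam n) = (e : ℂ) • θ := by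
    intro lam
    rw [← hres]
    funext n
    show ((lam (QuotientGroup.mk (n : T)) : ℂˣ) : ℂ) * χ n = χ n
    rw [(QuotientGroup.eq_one_iff (n : T)).mpr n.2, map_one, Units.val_one, one_mul]
  have hinner : ∀ ψ ∈ C, Cfsg.classInner (Cfsg.indFun N θ) ψ = (e : ℂ) := by
    intro ψ hψ
    obtain ⟨lam, -, rfl⟩ := Finset.mem_image.mp hψ
    rw [frobenius_reciprocity N θ (X lam) (isClassFunction_of_isIrrCharacter (hXirr lam)),
      hXres, classInner_smul_right, classInner_irr_self hθ]
    simp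
  set k : (T → ℂ) → ℕ := fun ψ => (Finset.univ.filter (fun lam => X lam = ψ)).card with hk
  have hsumk : ∑ lam : (T ⧸ N) →* ℂˣ, X lam = ∑ ψ ∈ C, (k ψ : ℂ) • ψ := by
    symm
    rw [hC]
    apply Finset.sum_image'
    intro lam _
    rw [Finset.sum_congr rfl (fun j hj => (Finset.mem_filter.mp hj).2), Finset.sum_const]
    show ((Finset.univ.filter (fun j => X j = X lam)).card : ℂ) • X lam = _
    rw [Nat.cast_smul_eq_nsmul]
  have hkval : ∀ ψ ∈ C, k ψ = e ^ 2 := by
    intro ψ hψ
    have h1 : Cfsg.classInner ((e : ℂ) • Cfsg.indFun N θ) ψ = (e : ℂ) * e := by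
      rw [classInner_smul_left, hinner ψ hψ]
    rw [hkey, hsumk, classInner_sum_left] at h1
    rw [Finset.sum_eq_single ψ] at h1
    · rw [classInner_smul_left, classInner_irr_self (hCirr ψ hψ), mul_one] at h1
      have h2 : ((k ψ : ℕ) : ℂ) = ((e ^ 2 : ℕ) : ℂ) := by
        rw [h1]; push_cast; ring
      exact_mod_cast h2
    · intro ψ' hψ' hne
      rw [classInner_smul_left, classInner_irr_ne (hCirr ψ' hψ') (hCirr ψ hψ) hne, mul_zero]
    · intro h
      exact absurd hψ h
  refine ⟨e, C, he0, hCirr, ?_, ?_, ?_, ?_⟩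
  · have h1 : Fintype.card ((T ⧸ N) →* ℂˣ) = ∑ ψ ∈ C, k ψ := by
      rw [← Finset.card_univ, hC]
      exact Finset.card_eq_sum_card_image X Finset.univ
    rw [Finset.sum_congr rfl hkval, Finset.sum_const, smul_eq_mul] at h1
    have h2 : Fintype.card ((T ⧸ N) →* ℂˣ) = N.index := by
      rw [← Nat.card_eq_fintype_card, S1507.card_hom_of_comm hcommA]
      rfl
    rw [← h2, h1, mul_comm]
  · have h1 : (e : ℂ) • Cfsg.indFun N θ = (e : ℂ) • ((e : ℂ) • ∑ ψ ∈ C, ψ) := by
      rw [hkey, hsumk, Finset.sum_congr rfl (fun ψ hψ => by rw [hkval ψ hψ]), ← Finset.smul_sum,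
        smul_smul]
      congr 1
      push_cast
      ring
    exact smul_right_injective _ (by exact_mod_cast he0.ne' : (e : ℂ) ≠ 0) h1
  · intro ψ hψ
    obtain ⟨lam, -, rfl⟩ := Finset.mem_image.mp hψ
    have h1 := congrFun (hXres lam) 1
    rw [Pi.smul_apply, smul_eq_mul] at h1
    exact h1
  · intro ψ hψ
    rw [hinner ψ hψ]
    exact_mod_cast he0.ne'

/-- Let H be a normal subgroup of the finite group G, θ an irreducible character of H with inertia group T, and suppose the commutator of any two elements of T lies in H (T/H abelian). Then there are a positive integer e and a finite set C of irreducible characters of G with e ^ 2 * |C| * |H| = |T|, such that the function induced from θ is e times the sum of the members of C and every member of C has degree [G:T] * e * θ(1). -/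
theorem result {G : Type*} [Group G] [Fintype G] (H T : Subgroup G) [hN : H.Normal] (θ : H → ℂ) (hθ : Cfsg.IsIrrCharacter H θ) (hT : ∀ g : G, g ∈ T ↔ ∀ h : H, θ ⟨g * h * g⁻¹, hN.conj_mem h h.2 g⟩ = θ h) (hab : ∀ x ∈ T, ∀ y ∈ T, x * y * x⁻¹ * y⁻¹ ∈ H) : ∃ (e : ℕ) (C : Finset (G → ℂ)), 0 < e ∧ (∀ χ ∈ C, Cfsg.IsIrrCharacter G χ) ∧ e ^ 2 * C.card * Nat.card H = Nat.card T ∧ Cfsg.indFun H θ = (e : ℂ) • ∑ χ ∈ C, χ ∧ ∀ χ ∈ C, χ 1 = (T.index : ℂ) * e * θ 1 := by
  classical
  have := Fintype.ofFinite T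
  have := Fintype.ofFinite H
  have hθcl := isClassFunction_of_isIrrCharacter hθ
  have hHT : H ≤ T := by
    intro g hg
    rw [hT]
    intro h
    exact hθcl h ⟨g, hg⟩
  have := Fintype.ofFinite (H.subgroupOf T)
  have hθ'irr : Cfsg.IsIrrCharacter (H.subgroupOf T)
      (fun x => θ ⟨(x : T), Subgroup.mem_subgroupOf.mp x.2⟩) :=
    S1489.isIrrCharacter_comp_iso hθ (Subgroup.subgroupOfEquivOfLe hHT)
  have hinv : ∀ t : T, Lib.Helper2.conjFun (H.subgroupOf T)
      (fun x => θ ⟨(x : T), Subgroup.mem_subgroupOf.mp x.2⟩) t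
        = (fun x : H.subgroupOf T => θ ⟨(x : T), Subgroup.mem_subgroupOf.mp x.2⟩) := by
    intro t
    funext n
    rw [conjFun_apply]
    exact (hT t).mp t.2 ⟨((n : T) : G), Subgroup.mem_subgroupOf.mp n.2⟩
  have hab' : ∀ x y : T, x * y * x⁻¹ * y⁻¹ ∈ H.subgroupOf T := by
    intro x y
    exact Subgroup.mem_subgroupOf.mpr (hab x x.2 y y.2)
  obtain ⟨e, C₀, he0, hC₀irr, hcard, hind, hdeg, hcons⟩ :=
    abelian_quotient (H.subgroupOf T) _ hθ'irr hinv hab'
  have hclif := fun ψ hψ ψ' hψ' => S1489.result H T θ hθ hT hHT ψ ψ' (hC₀irr ψ hψ)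
    (hC₀irr ψ' hψ') (hcons ψ hψ) (hcons ψ' hψ')
  have hinj : ∀ ψ ∈ C₀, ∀ ψ' ∈ C₀, Cfsg.indFun T ψ = Cfsg.indFun T ψ' → ψ = ψ' := by
    intro ψ hψ ψ' hψ' heq
    exact (hclif ψ hψ ψ' hψ').2 heq
  refine ⟨e, C₀.image (Cfsg.indFun T), he0, ?_, ?_, ?_, ?_⟩
  · intro χ hχ
    obtain ⟨ψ, hψ, rfl⟩ := Finset.mem_image.mp hχ
    exact (hclif ψ hψ ψ hψ).1
  · rw [Finset.card_image_of_injOn (fun ψ hψ ψ' hψ' h => hinj ψ hψ ψ' hψ' h), hcard]
    have h1 : Nat.card (H.subgroupOf T) = Nat.card H :=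
      Nat.card_congr (Subgroup.subgroupOfEquivOfLe hHT).toEquiv
    rw [← h1]
    exact Subgroup.index_mul_card (H.subgroupOf T)
  · rw [← indFun_trans H T hHT θ, hind, indFun_smul_sum, Finset.sum_image hinj]
  · intro χ hχ
    obtain ⟨ψ, hψ, rfl⟩ := Finset.mem_image.mp hχ
    rw [indFun_apply_one, hdeg ψ hψ]
    show (T.index : ℂ) * ((e : ℂ) * θ 1) = _
    ring

end Cfsg.Agent.S1490
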