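import Cfsg.Statements.S4447
import Mathlib
import Cfsg.Agent.Lib.Helper1.SZ
import Cfsg.Agent.Lib.Helper2.CharClifford
import Cfsg.Agent.Lib.Helper2.CharMore
import Cfsg.Agent.S1489

set_option autoImplicit false
open Cfsg

namespace Cfsg.Agent.S4447

open Cfsg.Agent.Lib.Helper2 Cfsg.Agent.Lib.Helper1
open scoped ComplexConjugate Pointwise

universe u

/-- Glauberman's lemma in subgroup form: if `S` complements the normal Hall subgroup `H`
(one of them solvable) and `T` is any supplement of `H`, then some `H`-conjugate of `S` lies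
in `T`. -/
theorem glauberman {Q : Type u} [Group Q] [Finite Q] (H S T : Subgroup Q) [H.Normal]
    (hHS : H ⊔ S = ⊤) (hcop : (Nat.card H).Coprime (Nat.card S))
    (hsolv : Group.IsSolvable H ∨ Group.IsSolvable S)
    (hT : H ⊔ T = ⊤) : ∃ n ∈ H, MulAut.conj n • S ≤ T := by
  have hc : H.IsComplement' S := by
    apply Subgroup.isComplement'_of_disjoint_and_mul_eq_univ
      (Subgroup.disjoint_of_coprime_natCard hcop)
    rw [← Subgroup.normal_mul, hHS]
    rfl
  have hidx : H.index = Nat.card S := hc.symm.index_eq_card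
  have hKidx : (H.subgroupOf T).index = Nat.card S := by
    have h1 : H.relIndex T = H.index := by
      rw [← Subgroup.relIndex_sup_right T H, sup_comm, hT, Subgroup.relIndex_top_right]
    rw [← hidx, ← h1]
    rfl
  have hKcop : (Nat.card (H.subgroupOf T)).Coprime (H.subgroupOf T).index := by
    rw [hKidx]
    exact Nat.Coprime.coprime_dvd_left (card_subgroupOf_dvd H T) hcop
  obtain ⟨B', hB'⟩ := Subgroup.exists_right_complement'_of_coprime hKcop
  have hB'card : Nat.card B' = Nat.card S := by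
    rw [← hKidx]
    exact hB'.symm.index_eq_card.symm
  obtain ⟨B, hBdef⟩ : ∃ B : Subgroup Q, B = B'.map T.subtype := ⟨_, rfl⟩
  have hBT : B ≤ T := by
    rw [hBdef]
    exact Subgroup.map_subtype_le B'
  have hBcard : Nat.card B = Nat.card S := by
    rw [hBdef, ← hB'card]
    exact Nat.card_congr (B'.equivMapOfInjective T.subtype T.subtype_injective).toEquiv.symm
  have hcB : H.IsComplement' B := by
    apply Subgroup.isComplement'_of_coprime
    · rw [hBcard]; exact hc.card_mul_card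
    · rw [hBcard]; exact hcop
  have hcop' : (Nat.card H).Coprime H.index := by
    rw [hidx]; exact hcop
  obtain ⟨n, hn, hnS⟩ := sz_conj H hcop' S B hc hcB hsolv
  exact ⟨n, hn, hnS ▸ hBT⟩


/-- Inside a finite group Γ let S normalise G and also normalise a normal subgroup N of G, with the order of S coprime to the index of N in G and S or G/N solvable. Then for every S-invariant irreducible character χ of G, the restriction of χ to N has an S-invariant irreducible constituent. -/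
theorem result {Γ : Type*} [Group Γ] [Fintype Γ] (G S N : Subgroup Γ) [Fintype G] [Fintype N] (hnorm : ∀ s ∈ S, ∀ g ∈ G, s * g * s⁻¹ ∈ G) (hNG : N ≤ G) [hNn : (N.subgroupOf G).Normal] (hNS : ∀ s ∈ S, ∀ n ∈ N, s * n * s⁻¹ ∈ N) (hcop : (N.relIndex G).Coprime (Nat.card S)) (hsolv : Group.IsSolvable S ∨ Group.IsSolvable (G ⧸ N.subgroupOf G)) (χ : Cfsg.IrrCharacter G) (hinv : (∀ s ∈ S, ∀ g g' : G, (g' : Γ) = s * g * s⁻¹ → (χ : G → ℂ) g' = (χ : G → ℂ) g)) : ∃ θ : Cfsg.IrrCharacter N, Cfsg.classInner (fun n : N => (χ : G → ℂ) ⟨n, hNG n.2⟩) (θ : N → ℂ) ≠ 0 ∧ (∀ s ∈ S, ∀ g g' : N, (g' : Γ) = s * g * s⁻¹ → (θ : N → ℂ) g' = (θ : N → ℂ) g) := by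
  classical
  -- normalizer facts
  have hSG : S ≤ Subgroup.normalizer (G : Set Γ) := by
    intro s hs
    rw [Subgroup.mem_normalizer_iff]
    intro g
    constructor
    · intro hg; exact hnorm s hs g hg
    · intro hg
      have := hnorm s⁻¹ (S.inv_mem hs) _ hg
      simpa [mul_assoc] using this
  have hSN : S ≤ Subgroup.normalizer (N : Set Γ) := by
    intro s hs
    rw [Subgroup.mem_normalizer_iff]
    intro g
    constructor
    · intro hg; exact hNS s hs g hg
    · intro hg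
      have := hNS s⁻¹ (S.inv_mem hs) _ hg
      simpa [mul_assoc] using this
  have hGN : G ≤ Subgroup.normalizer (N : Set Γ) :=
    (Subgroup.normal_subgroupOf_iff_le_normalizer hNG).mp hNn
  obtain ⟨L, hL⟩ : ∃ L : Subgroup Γ, L = G ⊔ S := ⟨_, rfl⟩
  have hGL : G ≤ L := hL ▸ le_sup_left
  have hSL : S ≤ L := hL ▸ le_sup_right
  have hNL : N ≤ L := hNG.trans hGL
  have hLN : L ≤ Subgroup.normalizer (N : Set Γ) := hL ▸ sup_le hGN hSN
  have hLG : L ≤ Subgroup.normalizer (G : Set Γ) := hL ▸ sup_le Subgroup.le_normalizer hSG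
  have hGLn : (G.subgroupOf L).Normal :=
    (Subgroup.normal_subgroupOf_iff_le_normalizer hGL).mpr hLG
  have hNLn : (N.subgroupOf L).Normal :=
    (Subgroup.normal_subgroupOf_iff_le_normalizer hNL).mpr hLN
  have hNGL : N.subgroupOf L ≤ G.subgroupOf L := fun x hx => hNG hx
  have : Fintype (N.subgroupOf G) := Fintype.ofFinite _
  -- the action on N
  obtain ⟨act, hact⟩ : ∃ act : L →* MulAut N, ∀ (x : L) (n : N),
      ((act x n : N) : Γ) = x * n * (x : Γ)⁻¹ :=
    ⟨N.normalizerMonoidHom.comp (Subgroup.inclusion hLN), fun x n => rfl⟩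
  have hsup : G.subgroupOf L ⊔ S.subgroupOf L = ⊤ := by
    rw [← Subgroup.subgroupOf_sup hGL hSL, ← hL, Subgroup.subgroupOf_self]
  -- χ is invariant under L
  have hPG : ∀ g : L, (g : Γ) ∈ G → ∀ n : N,
      (χ : G → ℂ) ⟨act g n, hNG (act g n).2⟩ = (χ : G → ℂ) ⟨n, hNG n.2⟩ := by
    intro g hg n
    have h1 := (isClassFunction_of_isIrrCharacter χ.2) ⟨n, hNG n.2⟩ ⟨g, hg⟩
    have h2 : (⟨act g n, hNG (act g n).2⟩ : G) = ⟨g, hg⟩ * ⟨n, hNG n.2⟩ * (⟨g, hg⟩ : G)⁻¹ :=
      Subtype.ext (by rw [hact]; rfl)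
    rw [h2]
    exact h1
  have hPS : ∀ s : L, (s : Γ) ∈ S → ∀ n : N,
      (χ : G → ℂ) ⟨act s n, hNG (act s n).2⟩ = (χ : G → ℂ) ⟨n, hNG n.2⟩ := by
    intro s hs n
    exact hinv s hs ⟨n, hNG n.2⟩ ⟨act s n, hNG (act s n).2⟩ (hact s n)
  have hP : ∀ (x : L) (n : N),
      (χ : G → ℂ) ⟨act x n, hNG (act x n).2⟩ = (χ : G → ℂ) ⟨n, hNG n.2⟩ := by
    intro x n
    have hx : x ∈ ((G.subgroupOf L : Set L) * (S.subgroupOf L : Set L)) := by
      rw [← Subgroup.normal_mul, hsup]
      trivial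
    obtain ⟨g, hg, s, hs, rfl⟩ := hx
    rw [map_mul, MulAut.mul_apply, hPG g hg, hPS s hs]
  have hinner : ∀ (x : L) (ψ : N → ℂ),
      Cfsg.classInner (fun n : N => (χ : G → ℂ) ⟨n, hNG n.2⟩) (ψ ∘ act x)
        = Cfsg.classInner (fun n : N => (χ : G → ℂ) ⟨n, hNG n.2⟩) ψ := by
    intro x ψ
    rw [classInner_def, classInner_def]
    congr 1
    apply Fintype.sum_equiv (act x).toEquiv
    intro n
    show (χ : G → ℂ) ⟨n, hNG n.2⟩ * conj (ψ (act x n))
      = (χ : G → ℂ) ⟨act x n, hNG (act x n).2⟩ * conj (ψ (act x n))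
    rw [hP x n]
  -- transport between N.subgroupOf G and N
  obtain ⟨e, he⟩ : ∃ e : N.subgroupOf G ≃* N, ∀ n' : N.subgroupOf G,
      ((e n' : N) : Γ) = ((n' : G) : Γ) :=
    ⟨Subgroup.subgroupOfEquivOfLe hNG, fun _ => rfl⟩
  have hres : (fun n' : N.subgroupOf G => (χ : G → ℂ) n')
      = (fun n : N => (χ : G → ℂ) ⟨n, hNG n.2⟩) ∘ e := by
    funext n'
    show (χ : G → ℂ) n' = (χ : G → ℂ) ⟨e n', hNG (e n').2⟩
    exact congrArg (χ : G → ℂ) (Subtype.ext (he n').symm)
  have htr : ∀ ψ : N → ℂ, Cfsg.classInner (fun n' : N.subgroupOf G => (χ : G → ℂ) n') (ψ ∘ e)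
      = Cfsg.classInner (fun n : N => (χ : G → ℂ) ⟨n, hNG n.2⟩) ψ := by
    intro ψ
    rw [hres]
    exact Cfsg.Agent.S1489.classInner_comp_iso e _ ψ
  -- an irreducible constituent
  have hR' : Cfsg.IsCharacter (N.subgroupOf G) (fun n' : N.subgroupOf G => (χ : G → ℂ) n') :=
    IsCharacter.restrict (isCharacter_of_isIrrCharacter χ.2) (N.subgroupOf G)
  have hR'ne : (fun n' : N.subgroupOf G => (χ : G → ℂ) n') ≠ 0 := by
    intro h0
    have h1 := congrFun h0 1
    obtain ⟨d, hd, hd1⟩ := irr_apply_one χ.2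
    have h2 : (χ : G → ℂ) 1 = 0 := h1
    rw [hd1] at h2
    have : d = 0 := by exact_mod_cast h2
    omega
  obtain ⟨ψ₀', hψ₀'irr, hψ₀'c⟩ := exists_irr_constituent hR' hR'ne
  obtain ⟨ψ₀, hψ₀def⟩ : ∃ ψ₀ : N → ℂ, ψ₀ = ψ₀' ∘ e.symm := ⟨_, rfl⟩
  have hψ₀irr : Cfsg.IsIrrCharacter N ψ₀ := by
    rw [hψ₀def]
    exact Cfsg.Agent.S1489.isIrrCharacter_comp_iso hψ₀'irr e.symm
  have hψ₀e : ψ₀ ∘ e = ψ₀' := by
    funext n'
    rw [hψ₀def]
    simp
  have hψ₀c : Cfsg.classInner (fun n : N => (χ : G → ℂ) ⟨n, hNG n.2⟩) ψ₀ ≠ 0 := by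
    rw [← htr, hψ₀e]
    exact hψ₀'c
  -- Clifford, transported
  have hcliff : ∀ ψ : N → ℂ, Cfsg.IsIrrCharacter N ψ →
      Cfsg.classInner (fun n : N => (χ : G → ℂ) ⟨n, hNG n.2⟩) ψ ≠ 0 →
      ∃ g : L, (g : Γ) ∈ G ∧ ψ = ψ₀ ∘ act g := by
    intro ψ hψ hψc
    by_contra hno
    apply hψc
    rw [← htr]
    apply clifford_conj (N.subgroupOf G) χ.2 hψ₀'irr hψ₀'c
      (Cfsg.Agent.S1489.isIrrCharacter_comp_iso hψ e)
    intro g heq
    apply hno
    refine ⟨⟨g, hGL g.2⟩, g.2, ?_⟩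
    funext n
    have h1 := congrFun heq (e.symm n)
    simp only [Function.comp_apply, MulEquiv.apply_symm_apply] at h1
    rw [conjFun_apply] at h1
    rw [h1, hψ₀def]
    show ψ₀' _ = ψ₀' (e.symm (act _ n))
    congr 1
    apply e.injective
    rw [MulEquiv.apply_symm_apply]
    apply Subtype.ext
    have h5 := he (e.symm n)
    rw [MulEquiv.apply_symm_apply] at h5
    rw [he, hact]
    simp only [Subgroup.coe_mul, Subgroup.coe_inv]
    rw [← h5]
  -- the stabilizer of ψ₀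
  obtain ⟨T₀, hT₀mem⟩ : ∃ T₀ : Subgroup L, ∀ x : L, x ∈ T₀ ↔ ∀ n : N, ψ₀ (act x n) = ψ₀ n := by
    refine ⟨{ carrier := {x | ∀ n : N, ψ₀ (act x n) = ψ₀ n}
              mul_mem' := ?_
              one_mem' := ?_
              inv_mem' := ?_ }, fun x => Iff.rfl⟩
    · intro x y hx hy n
      rw [map_mul, MulAut.mul_apply, hx, hy]
    · intro n
      rw [map_one, MulAut.one_apply]
    · intro x hx n
      have h1 := hx (act x⁻¹ n)
      rw [← MulAut.mul_apply, ← map_mul, mul_inv_cancel, map_one, MulAut.one_apply] at h1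
      exact h1.symm
  have hNT₀ : N.subgroupOf L ≤ T₀ := by
    intro x hx
    rw [hT₀mem]
    intro n
    have h1 := (isClassFunction_of_isIrrCharacter hψ₀irr) n ⟨x, hx⟩
    have h2 : act x n = ⟨x, hx⟩ * n * (⟨x, hx⟩ : N)⁻¹ :=
      Subtype.ext (by rw [hact]; rfl)
    rw [h2]
    exact h1
  have hGT₀ : G.subgroupOf L ⊔ T₀ = ⊤ := by
    rw [eq_top_iff]
    intro x _
    obtain ⟨g, hg, hgx⟩ := hcliff (ψ₀ ∘ act x) (isIrrCharacter_comp_mulEquiv hψ₀irr (act x))
      (by rw [hinner]; exact hψ₀c)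
    have h1 : x * g⁻¹ ∈ T₀ := by
      rw [hT₀mem]
      intro n
      have h2 := congrFun hgx (act g⁻¹ n)
      simp only [Function.comp_apply] at h2
      rw [map_mul, MulAut.mul_apply, h2, ← MulAut.mul_apply, ← map_mul, mul_inv_cancel, map_one,
        MulAut.one_apply]
    have h3 : x = (x * g⁻¹) * g := by group
    rw [h3]
    exact Subgroup.mul_mem _ (le_sup_right (a := G.subgroupOf L) h1)
      (le_sup_left (b := T₀) (show g ∈ G.subgroupOf L from hg))
  -- pass to the quotient by N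
  have hπs : Function.Surjective (QuotientGroup.mk' (N.subgroupOf L)) :=
    QuotientGroup.mk'_surjective _
  have hHn : ((G.subgroupOf L).map (QuotientGroup.mk' (N.subgroupOf L))).Normal :=
    Subgroup.Normal.map hGLn _ hπs
  have hHS : (G.subgroupOf L).map (QuotientGroup.mk' (N.subgroupOf L))
      ⊔ (S.subgroupOf L).map (QuotientGroup.mk' (N.subgroupOf L)) = ⊤ := by
    rw [← Subgroup.map_sup, hsup, Subgroup.map_top_of_surjective _ hπs]
  have hHT : (G.subgroupOf L).map (QuotientGroup.mk' (N.subgroupOf L))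
      ⊔ T₀.map (QuotientGroup.mk' (N.subgroupOf L)) = ⊤ := by
    rw [← Subgroup.map_sup, hGT₀, Subgroup.map_top_of_surjective _ hπs]
  have hHcard : Nat.card ((G.subgroupOf L).map (QuotientGroup.mk' (N.subgroupOf L)))
      = N.relIndex G := by
    have h1 := Subgroup.relIndex_map_map (QuotientGroup.mk' (N.subgroupOf L)) ⊥ (G.subgroupOf L)
    rw [Subgroup.map_bot, Subgroup.relIndex_bot_left, bot_sup_eq, QuotientGroup.ker_mk',
      sup_eq_left.mpr hNGL, Subgroup.relIndex_subgroupOf hGL] at h1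
    exact h1
  have hScard : Nat.card ((S.subgroupOf L).map (QuotientGroup.mk' (N.subgroupOf L)))
      ∣ Nat.card S := by
    have h1 := Subgroup.card_map_dvd (H := S.subgroupOf L) (QuotientGroup.mk' (N.subgroupOf L))
    rwa [Nat.card_congr (Subgroup.subgroupOfEquivOfLe hSL).toEquiv] at h1
  have hcop' : (Nat.card ((G.subgroupOf L).map (QuotientGroup.mk' (N.subgroupOf L)))).Coprime
      (Nat.card ((S.subgroupOf L).map (QuotientGroup.mk' (N.subgroupOf L)))) := by
    rw [hHcard]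
    exact Nat.Coprime.coprime_dvd_right hScard hcop
  have hsolv' : Group.IsSolvable ((G.subgroupOf L).map (QuotientGroup.mk' (N.subgroupOf L)))
      ∨ Group.IsSolvable ((S.subgroupOf L).map (QuotientGroup.mk' (N.subgroupOf L))) := by
    rcases hsolv with h | h
    · right
      have h1 : Group.IsSolvable (S.subgroupOf L) :=
        Group.isSolvable_of_surjective (f := (Subgroup.subgroupOfEquivOfLe hSL).symm.toMonoidHom)
          (Subgroup.subgroupOfEquivOfLe hSL).symm.surjective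
      exact Group.isSolvable_of_surjective
        (f := (QuotientGroup.mk' (N.subgroupOf L)).subgroupMap (S.subgroupOf L))
        (MonoidHom.subgroupMap_surjective _ _)
    · left
      obtain ⟨f, hf⟩ : ∃ f : G →* ((G.subgroupOf L).map (QuotientGroup.mk' (N.subgroupOf L))),
          Function.Surjective f ∧ N.subgroupOf G ≤ f.ker := by
        refine ⟨((QuotientGroup.mk' (N.subgroupOf L)).subgroupMap (G.subgroupOf L)).comp
          (Subgroup.subgroupOfEquivOfLe hGL).symm.toMonoidHom, ?_, ?_⟩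
        · exact (MonoidHom.subgroupMap_surjective _ _).comp
            (Subgroup.subgroupOfEquivOfLe hGL).symm.surjective
        · intro n hn
          rw [MonoidHom.mem_ker]
          apply Subtype.ext
          show (QuotientGroup.mk' (N.subgroupOf L))
            (((Subgroup.subgroupOfEquivOfLe hGL).symm n : G.subgroupOf L) : L) = 1
          rw [QuotientGroup.mk'_apply, QuotientGroup.eq_one_iff]
          exact hn
      exact Group.isSolvable_of_surjective (f := QuotientGroup.lift (N.subgroupOf G) f hf.2)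
        (QuotientGroup.lift_surjective_of_surjective _ _ hf.1 _)
  obtain ⟨n₀, hn₀, hconj⟩ := glauberman _ _ _ hHS hcop' hsolv' hHT
  obtain ⟨g₀, hg₀, rfl⟩ := Subgroup.mem_map.mp hn₀
  have hkey : ∀ s : L, (s : Γ) ∈ S → g₀ * s * g₀⁻¹ ∈ T₀ := by
    intro s hs
    have h1 : (QuotientGroup.mk' (N.subgroupOf L)) (g₀ * s * g₀⁻¹)
        ∈ T₀.map (QuotientGroup.mk' (N.subgroupOf L)) := by
      apply hconj
      rw [map_mul, map_mul, map_inv]
      have h2 : (QuotientGroup.mk' (N.subgroupOf L)) s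
          ∈ (S.subgroupOf L).map (QuotientGroup.mk' (N.subgroupOf L)) :=
        Subgroup.mem_map_of_mem _ (show s ∈ S.subgroupOf L from hs)
      exact Subgroup.smul_mem_pointwise_smul _ _ _ h2
    obtain ⟨t, ht, hteq⟩ := Subgroup.mem_map.mp h1
    have h3 : t⁻¹ * (g₀ * s * g₀⁻¹) ∈ N.subgroupOf L := by
      rw [← QuotientGroup.eq]
      exact hteq
    have h4 : g₀ * s * g₀⁻¹ = t * (t⁻¹ * (g₀ * s * g₀⁻¹)) := by group
    rw [h4]
    exact T₀.mul_mem ht (hNT₀ h3)
  refine ⟨⟨ψ₀ ∘ act g₀, isIrrCharacter_comp_mulEquiv hψ₀irr (act g₀)⟩, ?_, ?_⟩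
  · show Cfsg.classInner (fun n : N => (χ : G → ℂ) ⟨n, hNG n.2⟩) (ψ₀ ∘ act g₀) ≠ 0
    rw [hinner]
    exact hψ₀c
  · intro s hs g g' hgg'
    show ψ₀ (act g₀ g') = ψ₀ (act g₀ g)
    have h1 : g' = act ⟨s, hSL hs⟩ g := by
      apply Subtype.ext
      rw [hact, hgg']
    have h2 := (hT₀mem _).mp (hkey ⟨s, hSL hs⟩ hs) (act g₀ g)
    rw [← h2, h1, ← MulAut.mul_apply, ← MulAut.mul_apply, ← map_mul, ← map_mul]
    congr 2
    group

end Cfsg.Agent.S4447
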