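import Mathlib
import Cfsg.Statements.S0868
import Cfsg.Agent.Lib.Helper2.CharProd
import Cfsg.Agent.Lib.Helper8.CharTools

set_option autoImplicit false
open Cfsg

namespace Cfsg.Agent.S0868

open Cfsg.Agent.Lib.Helper2 Cfsg.Agent.Lib.Helper8
open scoped ComplexConjugate

/-- averaging a sum over the group along a subgroup -/
theorem sum_avg {G : Type*} [Group G] [Fintype G] (N : Subgroup G) [Fintype N] (F : G → ℂ) :
    ∑ g : G, F g = (Nat.card N : ℂ)⁻¹ * ∑ g : G, ∑ n : N, F ((n : G) * g) := by
  rw [Finset.sum_comm]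
  have h1 : ∀ n : N, ∑ g : G, F ((n : G) * g) = ∑ g : G, F g := by
    intro n
    exact Fintype.sum_equiv (Equiv.mulLeft (n : G)) _ _ (fun g => rfl)
  simp only [h1]
  rw [Finset.sum_const, Finset.card_univ, ← Nat.card_eq_fintype_card, nsmul_eq_mul, ← mul_assoc,
    inv_mul_cancel₀ (card_ne_zero_complex N), one_mul]

/-- If χ ∈ Irr(G) restricts irreducibly to the normal subgroup N and ψ ∈ Irr(G), then the coset averages η(g) = (1/[N:1]) Σ_{x∈Ng} ψ(x)·conj χ(x) form an irreducible character of G when ψ_N contains χ_N, vanish identically otherwise, and are identically 1 when ψ = χ. -/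
theorem result {G : Type*} [Group G] [Fintype G] (N : Subgroup G) [N.Normal] [Fintype N] (χ : G → ℂ) (hχ : Cfsg.IsIrrCharacter G χ) (hχN : Cfsg.IsIrrCharacter N (fun n : N => χ n)) (ψ : G → ℂ) (hψ : Cfsg.IsIrrCharacter G ψ) (η : G → ℂ) (hη : η = fun g => (Nat.card N : ℂ)⁻¹ * ∑ n : N, ψ ((n : G) * g) * conj (χ ((n : G) * g))) : (Cfsg.classInner (fun n : N => ψ n) (fun n : N => χ n) ≠ 0 → Cfsg.IsIrrCharacter G η) ∧ (Cfsg.classInner (fun n : N => ψ n) (fun n : N => χ n) = 0 → η = 0) ∧ (ψ = χ → η = fun _ => 1) := by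
  classical
  have := Fintype.ofFinite (Cfsg.IrrCharacter G)
  have hηg : ∀ g : G, η g = (Nat.card N : ℂ)⁻¹
      * ∑ n : N, ψ ((n : G) * g) * conj (χ ((n : G) * g)) := fun g => by rw [hη]
  have hN0 : (Nat.card N : ℂ) ≠ 0 := card_ne_zero_complex N
  have hχcf := isClassFunction_of_isIrrCharacter hχ
  have hψcf := isClassFunction_of_isIrrCharacter hψ
  have hχc := isCharacter_of_isIrrCharacter hχ
  have hψc := isCharacter_of_isIrrCharacter hψ
  -- η is a class function
  have hηcf : Cfsg.IsClassFunction G η := by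
    intro g h
    rw [hηg, hηg]
    congr 1
    apply Fintype.sum_equiv (MulAut.conjNormal h⁻¹ : N ≃* N).toEquiv
    intro n
    have e : (n : G) * (h * g * h⁻¹)
        = h * ((((MulAut.conjNormal h⁻¹ : N ≃* N).toEquiv n : N) : G) * g) * h⁻¹ := by
      change (n : G) * (h * g * h⁻¹) = h * ((h⁻¹ * (n : G) * h⁻¹⁻¹) * g) * h⁻¹
      group
    rw [e, hψcf, hχcf]
  -- η is constant on cosets
  have hηN : ∀ (m : N) (g : G), η ((m : G) * g) = η g := by
    intro m g
    rw [hηg, hηg]
    congr 1
    apply Fintype.sum_equiv (Equiv.mulRight m)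
    intro n
    rw [Equiv.coe_mulRight, Subgroup.coe_mul, mul_assoc]
  -- value at one
  have hη1 : η 1 = Cfsg.classInner (fun n : N => ψ n) (fun n : N => χ n) := by
    rw [hηg, classInner_def]
    simp only [mul_one]
  -- inner products with irreducibles
  have hnat : ∀ β : G → ℂ, Cfsg.IsIrrCharacter G β → ∃ k : ℕ, Cfsg.classInner η β = (k : ℂ) := by
    intro β hβ
    obtain ⟨a, ha01, hab⟩ := avg_normal N β hβ
    obtain ⟨k, hk⟩ := classInner_isCharacter_nat hψc
      (IsCharacter.mul hχc (isCharacter_of_isIrrCharacter hβ))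
    have hconj : conj a = a := by
      rcases ha01 with rfl | rfl <;> simp
    have key : Cfsg.classInner η β = a * Cfsg.classInner ψ (χ * β) := by
      rw [classInner_def, classInner_def]
      have h1 : ∑ g : G, η g * conj (β g)
          = (Nat.card N : ℂ)⁻¹ * ∑ n : N, ∑ g : G,
              ψ ((n : G) * g) * conj (χ ((n : G) * g)) * conj (β g) := by
        rw [Finset.sum_comm, Finset.mul_sum]
        apply Finset.sum_congr rfl
        intro g _
        rw [hηg, mul_assoc, Finset.sum_mul]
      have h2 : ∀ n : N, ∑ g : G, ψ ((n : G) * g) * conj (χ ((n : G) * g)) * conj (β g)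
          = ∑ g : G, ψ g * conj (χ g) * conj (β ((n⁻¹ : N) * g)) := by
        intro n
        apply Fintype.sum_equiv (Equiv.mulLeft (n : G))
        intro g
        rw [Equiv.coe_mulLeft, Subgroup.coe_inv, inv_mul_cancel_left]
      simp only [h2] at h1
      rw [Finset.sum_comm] at h1
      have h3 : ∀ g : G, ∑ n : N, ψ g * conj (χ g) * conj (β ((n⁻¹ : N) * g))
          = ψ g * conj (χ g) * conj (a * (Nat.card N : ℂ) * β g) := by
        intro g
        rw [← Finset.mul_sum, ← map_sum]
        congr 2
        rw [← hab g]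
        exact Fintype.sum_equiv (Equiv.inv N) _ _ (fun n => rfl)
      simp only [h3] at h1
      rw [h1]
      have h4 : ∑ x : G, ψ x * conj (χ x) * conj (a * (Nat.card N : ℂ) * β x)
          = (a * (Nat.card N : ℂ)) * ∑ g : G, ψ g * conj ((χ * β) g) := by
        rw [Finset.mul_sum]
        apply Finset.sum_congr rfl
        intro g _
        simp only [Pi.mul_apply, map_mul, hconj, Complex.conj_natCast]
        ring
      rw [h4]
      field_simp
    rw [key, hk]
    rcases ha01 with rfl | rfl
    · exact ⟨0, by simp⟩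
    · exact ⟨k, by simp⟩
  have hηchar : Cfsg.IsCharacter G η := isCharacter_of_nat_inner η hηcf hnat
  refine ⟨?_, ?_, ?_⟩
  · intro hne
    apply isIrrCharacter_of_norm_one hηchar
    obtain ⟨k, hk⟩ := classInner_isCharacter_nat hηchar hηchar
    have hΘ : Cfsg.IsCharacter G (χ * η) := IsCharacter.mul hχc hηchar
    -- the two inner product identities
    have ha : Cfsg.classInner (χ * η) ψ = Cfsg.classInner η η := by
      rw [classInner_def, classInner_def]
      congr 1
      rw [sum_avg N]
      rw [Finset.mul_sum]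
      apply Finset.sum_congr rfl
      intro g _
      have h1 : ∀ n : N, (χ * η) ((n : G) * g) * conj (ψ ((n : G) * g))
          = η g * conj (ψ ((n : G) * g) * conj (χ ((n : G) * g))) := by
        intro n
        rw [Pi.mul_apply, hηN n g, map_mul, Complex.conj_conj]
        ring
      simp only [h1]
      rw [← Finset.mul_sum, ← map_sum]
      have h2 : ∑ n : N, ψ ((n : G) * g) * conj (χ ((n : G) * g)) = (Nat.card N : ℂ) * η g := by
        rw [hηg, ← mul_assoc, mul_inv_cancel₀ hN0, one_mul]
      rw [h2, map_mul, Complex.conj_natCast]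
      field_simp
    have hb : Cfsg.classInner (χ * η) (χ * η) = Cfsg.classInner η η := by
      rw [classInner_def, classInner_def]
      congr 1
      rw [sum_avg N]
      rw [Finset.mul_sum]
      apply Finset.sum_congr rfl
      intro g _
      have h1 : ∀ n : N, (χ * η) ((n : G) * g) * conj ((χ * η) ((n : G) * g))
          = (χ ((n : G) * g) * conj (χ ((n : G) * g))) * (η g * conj (η g)) := by
        intro n
        rw [Pi.mul_apply, hηN n g, map_mul]
        ring
      simp only [h1]
      rw [← Finset.sum_mul, coset_norm N χ hχ hχN g, ← mul_assoc, inv_mul_cancel₀ hN0, one_mul]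
    -- Parseval
    have hpars := classInner_eq_sum (χ * η) (χ * η) (isClassFunction_of_isCharacter hΘ)
    rw [hb, hk] at hpars
    have h3 : ∀ φ : Cfsg.IrrCharacter G, Cfsg.classInner (χ * η) φ
        * conj (Cfsg.classInner (χ * η) φ)
        = ((Complex.normSq (Cfsg.classInner (χ * η) φ) : ℝ) : ℂ) :=
      fun φ => Complex.mul_conj _
    simp only [h3] at hpars
    rw [← Complex.ofReal_sum] at hpars
    have h4 : (k : ℝ) = ∑ φ : Cfsg.IrrCharacter G, Complex.normSq (Cfsg.classInner (χ * η) φ) := by
      exact_mod_cast hpars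
    have h5 : Complex.normSq (Cfsg.classInner (χ * η) (⟨ψ, hψ⟩ : Cfsg.IrrCharacter G))
        ≤ ∑ φ : Cfsg.IrrCharacter G, Complex.normSq (Cfsg.classInner (χ * η) φ) :=
      Finset.single_le_sum (f := fun φ : Cfsg.IrrCharacter G =>
        Complex.normSq (Cfsg.classInner (χ * η) φ)) (fun φ _ => Complex.normSq_nonneg _)
        (Finset.mem_univ _)
    have h6 : Complex.normSq (Cfsg.classInner (χ * η) (⟨ψ, hψ⟩ : Cfsg.IrrCharacter G))
        = (k : ℝ) * k := by
      change Complex.normSq (Cfsg.classInner (χ * η) ψ) = _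
      rw [ha, hk, Complex.normSq_natCast]
    rw [h6, ← h4] at h5
    have h7 : k * k ≤ k := by exact_mod_cast h5
    have hk0 : k ≠ 0 := by
      rintro rfl
      apply hne
      rw [← hη1]
      have h8 : Cfsg.classInner η η = 0 := by rw [hk]; simp
      rw [classInner_def] at h8
      have h9 : ∑ g : G, η g * conj (η g) = 0 := by
        rcases mul_eq_zero.1 h8 with h | h
        · exact absurd h (inv_ne_zero (card_ne_zero_complex G))
        · exact h
      have h10 : ∀ g : G, η g * conj (η g) = ((Complex.normSq (η g) : ℝ) : ℂ) :=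
        fun g => Complex.mul_conj _
      simp only [h10] at h9
      rw [← Complex.ofReal_sum] at h9
      have h11 : ∑ g : G, Complex.normSq (η g) = 0 := by exact_mod_cast h9
      have h12 := (Finset.sum_eq_zero_iff_of_nonneg
        (fun g _ => Complex.normSq_nonneg (η g))).1 h11 1 (Finset.mem_univ _)
      exact Complex.normSq_eq_zero.1 h12
    have hk1 : k = 1 := by
      have : k ≤ 1 := by
        by_contra hlt
        push Not at hlt
        nlinarith
      omega
    rw [hk, hk1]; simp
  · intro h0
    apply char_eq_zero_of_apply_one hηchar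
    rw [hη1, h0]
  · intro hψχ
    funext g
    rw [hηg, hψχ, coset_norm N χ hχ hχN g, inv_mul_cancel₀ hN0]

end Cfsg.Agent.S0868
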