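import Cfsg.Statements.S0072
import Mathlib
import Cfsg.Agent.Lib.Helper1.FrobPC
import Cfsg.Agent.Lib.Helper1.Cores
import Cfsg.Agent.Lib.Helper1.SZ
import Cfsg.Agent.S0071

set_option autoImplicit false
open Cfsg

namespace Cfsg.Agent.S0072

open Cfsg.Agent.Lib.Helper1

theorem isComplement'_sylow_of_coprime {H : Type*} [Group H] [Finite H] {p : ℕ} [Fact p.Prime]
    (M : Subgroup H) (hcop : (Nat.card M).Coprime p) {j : ℕ} (hidx : M.index = p ^ j)
    (P : Sylow p H) : M.IsComplement' (P : Subgroup H) := by
  have hp : p.Prime := Fact.out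
  have hcard : Nat.card M * p ^ j = Nat.card H := by
    rw [← hidx]
    exact Subgroup.card_mul_index _
  have hN0 : Nat.card M ≠ 0 := Nat.card_pos.ne'
  have hndvd : ¬ p ∣ Nat.card M := by
    intro h
    have := Nat.Coprime.eq_one_of_dvd hcop.symm h
    exact hp.one_lt.ne' this
  have hfact : (Nat.card H).factorization p = j := by
    rw [← hcard, Nat.factorization_mul hN0 (pow_pos hp.pos j).ne',
      Nat.Prime.factorization_pow hp]
    simp [Nat.factorization_eq_zero_of_not_dvd hndvd]
  have hPcard : Nat.card (P : Subgroup H) = p ^ j := by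
    rw [← hfact]
    exact P.card_eq_multiplicity
  apply Subgroup.isComplement'_of_coprime
  · rw [hPcard]
    exact hcard
  · rw [hPcard]
    exact Nat.Coprime.pow_right j hcop

/-- A finite group has a normal p-complement if and only if every p-local subgroup (normalizer of a nontrivial p-subgroup) has one. -/
theorem result {G : Type*} [Group G] [Finite G] (p : ℕ) [Fact p.Prime] : Cfsg.HasNormalPComplement p G ↔ ∀ Q : Subgroup G, IsPGroup p Q → Q ≠ ⊥ → Cfsg.HasNormalPComplement p (Subgroup.normalizer (Q : Set G)) := by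
  have hp : p.Prime := Fact.out
  constructor
  · rintro ⟨P, N, hNn, hNc⟩ Q hQ hQne
    obtain ⟨L, hLdef⟩ : ∃ L : Subgroup G, L = Subgroup.normalizer (Q : Set G) := ⟨_, rfl⟩
    rw [← hLdef]
    obtain ⟨PL⟩ : Nonempty (Sylow p L) := inferInstance
    haveI := hNn
    refine ⟨PL, N.subgroupOf L, inferInstance, ?_⟩
    obtain ⟨k, hk⟩ := IsPGroup.iff_card.mp P.2
    have hidxN : N.index = p ^ k := by
      rw [← hk]
      exact hNc.symm.index_eq_card
    have h1 : N.relIndex L ∣ p ^ k := hidxN ▸ Subgroup.relIndex_dvd_index_of_normal N L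
    obtain ⟨j, -, hj⟩ := (Nat.dvd_prime_pow hp).mp h1
    have hcardN : (Nat.card N).Coprime p := by
      have h2 : (P : Subgroup G).index = Nat.card N := hNc.index_eq_card
      rw [← h2]
      exact ((Nat.Prime.coprime_iff_not_dvd hp).mpr P.not_dvd_index).symm
    exact isComplement'_sylow_of_coprime (N.subgroupOf L)
      (Nat.Coprime.coprime_dvd_left (card_subgroupOf_dvd N L) hcardN) (j := j) hj PL
  · intro h
    obtain ⟨P⟩ : Nonempty (Sylow p G) := inferInstance
    have hF : FrobCond p G := by
      intro Q hQ g hg hcop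
      by_cases hQne : Q = ⊥
      · rw [hQne, Subgroup.mem_centralizer_iff]
        intro q hq
        rw [SetLike.mem_coe, Subgroup.mem_bot] at hq
        rw [hq, one_mul, mul_one]
      · obtain ⟨L, hLdef⟩ : ∃ L : Subgroup G, L = Subgroup.normalizer (Q : Set G) := ⟨_, rfl⟩
        have hcomp := h Q hQ hQne
        rw [← hLdef] at hcomp hg
        obtain ⟨PL, M, hMn, hMc⟩ := hcomp
        have hQL : Q ≤ L := hLdef ▸ Subgroup.le_normalizer
        have hQn : (Q.subgroupOf L).Normal := by
          rw [hLdef]
          exact Subgroup.normal_in_normalizer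
        have hQPL : Q.subgroupOf L ≤ PL :=
          normal_pgroup_le_sylow hQn (hQ.comap_subtype (K := L)) PL
        have h3 := (Cfsg.Agent.S0071.result PL).mp ⟨M, hMn, hMc⟩ (Q.subgroupOf L) hQPL ⟨g, hg⟩
          (by
            haveI := hQn
            rw [Subgroup.normalizer_eq_top]
            exact Subgroup.mem_top _)
          (by rw [Subgroup.orderOf_mk]; exact hcop)
        rw [Subgroup.mem_centralizer_iff] at h3 ⊢
        intro q hq
        have h4 := h3 ⟨q, hQL hq⟩ hq
        exact congrArg Subtype.val h4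
    exact ⟨P, Cfsg.pResidual p G, pResidual_normal p, frobCond_isComplement' hF P⟩

end Cfsg.Agent.S0072
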