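import Cfsg.Statements.S0081
import Mathlib
import Cfsg.Agent.Lib.Helper1.Tate
import Cfsg.Agent.S0072

set_option autoImplicit false
open Cfsg

namespace Cfsg.Agent.S0081

open Cfsg.Agent.Lib.Helper1
open Pointwise

theorem pResidual_map_mulEquiv {H : Type*} [Group H] (p : ℕ) (φ : H ≃* H) {x : H}
    (hx : x ∈ Cfsg.pResidual p H) : φ x ∈ Cfsg.pResidual p H := by
  unfold Cfsg.pResidual at hx ⊢
  induction hx using Subgroup.closure_induction with
  | mem y hy =>
    apply Subgroup.subset_closure
    show Nat.Coprime (orderOf (φ y)) p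
    rw [MulEquiv.orderOf_eq]
    exact hy
  | one => rw [map_one]; exact Subgroup.one_mem _
  | mul a b _ _ iha ihb => rw [map_mul]; exact Subgroup.mul_mem _ iha ihb
  | inv a _ iha => rw [map_inv]; exact Subgroup.inv_mem _ iha

/-- If a normal subgroup meets a Sylow p-subgroup P inside the Frattini subgroup of P, then it has a normal p-complement. -/
theorem result {G : Type*} [Group G] [Finite G] {p : ℕ} [Fact p.Prime] (P : Sylow p G) (N : Subgroup G) [N.Normal] (h : N ⊓ (P : Subgroup G) ≤ (frattini P).map (P : Subgroup G).subtype) : Cfsg.HasNormalPComplement p N := by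
  have hp : p.Prime := Fact.out
  obtain ⟨K, hKdef⟩ : ∃ K : Subgroup G, K = (Cfsg.pResidual p N).map N.subtype := ⟨_, rfl⟩
  have hKN : K ≤ N := hKdef ▸ Subgroup.map_subtype_le _
  haveI hKn : K.Normal := by
    constructor
    intro k hk g
    rw [hKdef] at hk ⊢
    obtain ⟨n, hn, rfl⟩ := hk
    exact ⟨MulAut.conjNormal g n, pResidual_map_mulEquiv p (MulAut.conjNormal g) hn, rfl⟩
  have hKgen : K ≤ Subgroup.closure {g : G | g ∈ K ∧ (orderOf g).Coprime p} := by
    conv_lhs => rw [hKdef]
    unfold Cfsg.pResidual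
    rw [MonoidHom.map_closure, Subgroup.closure_le]
    rintro _ ⟨n, hn, rfl⟩
    apply Subgroup.subset_closure
    refine ⟨?_, ?_⟩
    · rw [hKdef]
      exact Subgroup.mem_map_of_mem _ (Subgroup.subset_closure hn)
    · show Nat.Coprime (orderOf (N.subtype n)) p
      rw [Subgroup.coe_subtype, Subgroup.orderOf_coe]
      exact hn
  have hKP : K ⊓ (P : Subgroup G) ≤ (frattini P).map (P : Subgroup G).subtype :=
    le_trans (inf_le_inf_right _ hKN) h
  have hbot := tate_aux P K hKgen hKP
  have hcopK : (Nat.card K).Coprime p := by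
    rw [Nat.coprime_comm, Nat.Prime.coprime_iff_not_dvd hp]
    intro hdvd
    obtain ⟨k, hk⟩ := exists_prime_orderOf_dvd_card' p hdvd
    have hzp : IsPGroup p (Subgroup.zpowers (k : G)) := by
      apply IsPGroup.of_card (n := 1)
      rw [Nat.card_zpowers, pow_one, Subgroup.orderOf_coe]
      exact hk
    obtain ⟨Q, hQ⟩ := hzp.exists_le_sylow
    obtain ⟨g, hg⟩ := MulAction.exists_smul_eq G Q P
    have h1 : g * (k : G) * g⁻¹ ∈ (P : Subgroup G) := by
      rw [← hg, Sylow.coe_subgroup_smul, mem_conj_smul_iff]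
      apply hQ
      convert Subgroup.mem_zpowers (k : G) using 1
      group
    have h2 : g * (k : G) * g⁻¹ ∈ K := hKn.conj_mem _ k.2 g
    have h3 : g * (k : G) * g⁻¹ ∈ K ⊓ (P : Subgroup G) := Subgroup.mem_inf.mpr ⟨h2, h1⟩
    rw [hbot, Subgroup.mem_bot] at h3
    have h4 : (k : G) = 1 := by
      have e : (k : G) = g⁻¹ * (g * (k : G) * g⁻¹) * g := by group
      rw [e, h3]
      group
    have h5 : k = 1 := Subtype.ext h4
    rw [h5, orderOf_one] at hk
    exact hp.one_lt.ne' hk.symm
  obtain ⟨PN⟩ : Nonempty (Sylow p N) := inferInstance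
  have hcopM : (Nat.card (Cfsg.pResidual p N)).Coprime p := by
    rw [← Subgroup.card_map_of_injective N.subtype_injective, ← hKdef]
    exact hcopK
  have hnorm := pResidual_normal (G := N) p
  obtain ⟨j, hj⟩ := IsPGroup.iff_card.mp (isPGroup_quotient_pResidual (G := N) p)
  exact ⟨PN, Cfsg.pResidual p N, hnorm,
    Cfsg.Agent.S0072.isComplement'_sylow_of_coprime _ hcopM (j := j) hj PN⟩

end Cfsg.Agent.S0081
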