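import Mathlib
import Cfsg.Statements.S0164
import Cfsg.Agent.Lib.Helper2.BrauerQE

set_option autoImplicit false
open Cfsg

namespace Cfsg.Agent.S0164

open Cfsg.Agent.Lib.Helper2 Cfsg.Agent.Lib.Helper12

/-- Brauer's characterisation of characters: a class function on a finite group whose restriction to every elementary subgroup is a generalized character is a generalized character. -/
theorem result {G : Type*} [Group G] [Finite G] (θ : G → ℂ) (hθ : Cfsg.IsClassFunction G θ) (hE : ∀ (E : Subgroup G) (p : ℕ), p.Prime → Cfsg.IsElementary p E → Cfsg.IsGeneralizedCharacter E (fun e : E => θ e)) : Cfsg.IsGeneralizedCharacter G θ := by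
  classical
  have := Fintype.ofFinite G
  obtain ⟨l, hl, h1⟩ := brauer_char (isCharacter_of_isIrrCharacter (isIrrCharacter_one (G := G)))
  have hθ1 : θ = (fun _ => (1 : ℂ)) * θ := by
    funext g
    simp
  rw [hθ1, h1]
  clear h1 hθ1
  induction l with
  | nil => simpa using genChar_zero
  | cons a l ih =>
    rw [List.map_cons, List.sum_cons, add_mul]
    apply genChar_add
    · obtain ⟨p, hp, hel⟩ := hl a List.mem_cons_self
      have h2 := Cfsg.Agent.S0856.indFun_mul a.1 (fun e => (a.2.1 e : ℂ)) (fun e : a.1 => θ e) θ hθ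
        (fun n => rfl)
      rw [smul_mul_assoc, ← h2]
      have h3 : Cfsg.IsGeneralizedCharacter a.1
          ((fun e => (a.2.1 e : ℂ)) * fun e : a.1 => θ e) := by
        obtain ⟨α, β, hα, hβ, hαβ⟩ := hE a.1 p hp hel
        have hlin := isCharacter_of_isIrrCharacter (isIrrCharacter_of_hom a.2.1)
        refine ⟨(fun e => (a.2.1 e : ℂ)) * α, (fun e => (a.2.1 e : ℂ)) * β,
          IsCharacter.mul hlin hα, IsCharacter.mul hlin hβ, ?_⟩
        rw [hαβ, mul_sub]
      have h4 := genChar_zsmul a.2.2 (genChar_indFun a.1 h3)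
      convert h4 using 1
      funext g
      simp
    · exact ih (fun t ht => hl t (List.mem_cons_of_mem _ ht))

end Cfsg.Agent.S0164
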