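import Mathlib
import Cfsg.Statements.S0129
import Cfsg.Agent.S1894
import Cfsg.Agent.Lib.Helper2.CyclicMax

set_option autoImplicit false
open Cfsg

namespace Cfsg.Agent.S0129

open Cfsg.Agent.Lib.Helper2
open scoped commutatorElement

theorem exists_step {G : Type*} [Group G] [Finite G] {p : ℕ} [Fact p.Prime] (hG : IsPGroup p G)
    (C B : Subgroup G) [C.Normal] [B.Normal] (hCB : C < B) :
    ∃ x ∈ B, x ∉ C ∧ x ^ p ∈ C ∧ ⁅Subgroup.zpowers x, (⊤ : Subgroup G)⁆ ≤ C := by
  classical
  have hnil : Group.IsNilpotent G := hG.isNilpotent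
  obtain ⟨x, hxB, hxC, hcomm⟩ := Cfsg.Agent.S1894.exists_mem_not_mem_comm B C (not_le_of_gt hCB)
  obtain ⟨k, hk⟩ := hG x
  have hex : ∃ j, x ^ (p ^ j) ∈ C := ⟨k, by rw [hk]; exact C.one_mem⟩
  have hj := Nat.find_spec hex
  have hj0 : Nat.find hex ≠ 0 := by
    intro h0
    rw [h0, pow_zero, pow_one] at hj
    exact hxC hj
  obtain ⟨i, hi⟩ := Nat.exists_eq_succ_of_ne_zero hj0
  have hmin : x ^ (p ^ i) ∉ C := Nat.find_min hex (by omega)
  refine ⟨x ^ (p ^ i), B.pow_mem hxB _, hmin, ?_, ?_⟩
  · rw [← pow_mul, ← pow_succ]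
    rw [hi] at hj
    exact hj
  · refine le_trans (Subgroup.commutator_mono ?_ le_rfl) hcomm
    exact Subgroup.zpowers_le.mpr (Subgroup.pow_mem _ (Subgroup.mem_zpowers x) _)

theorem card_centralizer_le {G : Type*} [Group G] [Finite G] (C : Subgroup G) (x : G)
    (hx : ∀ g ∈ Subgroup.centralizer (C : Set G), g * x * g⁻¹ * x⁻¹ ∈ C) :
    Nat.card (Subgroup.centralizer (C : Set G))
      ≤ Nat.card (Subgroup.centralizer ((C ⊔ Subgroup.zpowers x : Subgroup G) : Set G))
        * Nat.card C := by
  classical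
  have := Fintype.ofFinite (Subgroup.centralizer (C : Set G))
  have := Fintype.ofFinite C
  let f : Subgroup.centralizer (C : Set G) → C :=
    fun g => ⟨(g : G) * x * (g : G)⁻¹ * x⁻¹, hx g g.2⟩
  have hfib : ∀ b ∈ (Finset.univ : Finset (Subgroup.centralizer (C : Set G))).image f,
      (Finset.univ.filter (fun a => f a = b)).card
        ≤ Nat.card (Subgroup.centralizer ((C ⊔ Subgroup.zpowers x : Subgroup G) : Set G)) := by
    intro b hb
    obtain ⟨g₀, -, rfl⟩ := Finset.mem_image.mp hb
    rw [← Fintype.card_subtype, ← Nat.card_eq_fintype_card]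
    have hmem : ∀ g : Subgroup.centralizer (C : Set G), f g = f g₀ →
        (g₀ : G)⁻¹ * (g : G)
          ∈ Subgroup.centralizer ((C ⊔ Subgroup.zpowers x : Subgroup G) : Set G) := by
      intro g hg
      have h1 : (g : G) * x * (g : G)⁻¹ * x⁻¹ = (g₀ : G) * x * (g₀ : G)⁻¹ * x⁻¹ :=
        congrArg Subtype.val hg
      have h2 : (g₀ : G)⁻¹ * (g : G) ∈ Subgroup.centralizer (C : Set G) :=
        Subgroup.mul_mem _ (Subgroup.inv_mem _ g₀.2) g.2
      have h4 : (g : G) * x * (g : G)⁻¹ = (g₀ : G) * x * (g₀ : G)⁻¹ := by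
        have := congrArg (· * x) h1
        simpa using this
      have h3 : x * ((g₀ : G)⁻¹ * (g : G)) = ((g₀ : G)⁻¹ * (g : G)) * x := by
        calc x * ((g₀ : G)⁻¹ * (g : G))
            = (g₀ : G)⁻¹ * ((g₀ : G) * x * (g₀ : G)⁻¹) * g := by group
          _ = (g₀ : G)⁻¹ * ((g : G) * x * (g : G)⁻¹) * g := by rw [h4]
          _ = ((g₀ : G)⁻¹ * (g : G)) * x := by group
      rw [Subgroup.mem_centralizer_iff]
      intro y hy
      have h5 : C ⊔ Subgroup.zpowers x
          ≤ Subgroup.centralizer ({(g₀ : G)⁻¹ * (g : G)} : Set G) := by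
        apply sup_le
        · intro c hc
          rw [Subgroup.mem_centralizer_singleton_iff]
          exact Subgroup.mem_centralizer_iff.mp h2 c hc
        · rw [Subgroup.zpowers_le, Subgroup.mem_centralizer_singleton_iff]
          exact h3
      have h6 := h5 hy
      rw [Subgroup.mem_centralizer_singleton_iff] at h6
      exact h6
    apply Nat.card_le_card_of_injective
      (fun g : {g : Subgroup.centralizer (C : Set G) // f g = f g₀} =>
        (⟨(g₀ : G)⁻¹ * ((g : Subgroup.centralizer (C : Set G)) : G), hmem g.1 g.2⟩ :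
          Subgroup.centralizer ((C ⊔ Subgroup.zpowers x : Subgroup G) : Set G)))
    intro g g' hgg
    have h7 : (g₀ : G)⁻¹ * ((g : Subgroup.centralizer (C : Set G)) : G)
        = (g₀ : G)⁻¹ * ((g' : Subgroup.centralizer (C : Set G)) : G) := congrArg Subtype.val hgg
    exact Subtype.ext (Subtype.ext (mul_left_cancel h7))
  have h3 := Finset.card_le_mul_card_image (f := f) Finset.univ _ hfib
  rw [Finset.card_univ, ← Nat.card_eq_fintype_card] at h3
  refine le_trans h3 (Nat.mul_le_mul_left _ ?_)
  rw [Nat.card_eq_fintype_card, ← Finset.card_univ]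
  exact Finset.card_le_card (Finset.subset_univ _)

/-- The order of a p-group is bounded by p^(a(a+1)/2) when it has a maximal normal abelian subgroup of order p^a. -/
theorem result {G : Type*} [Group G] [Finite G] {p : ℕ} [Fact p.Prime] (hG : IsPGroup p G) (A : Subgroup G) [A.Normal] (hA : IsMulCommutative A) (hmax : ∀ B : Subgroup G, B.Normal → IsMulCommutative B → A ≤ B → B = A) (a : ℕ) (ha : Nat.card A = p ^ a) : Nat.card G ≤ p ^ (a * (a + 1) / 2) := by
  classical
  have hp : p.Prime := Fact.out
  -- A is self-centralizing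
  obtain ⟨C, hCn, hAC, hscn⟩ := Cfsg.Agent.S1894.result hG ⊤ A le_top hA
  have hcC : Subgroup.centralizer (C : Set G) = C := by
    have := hscn.2.2
    rwa [top_inf_eq] at this
  have hCcomm : IsMulCommutative C :=
    Subgroup.le_centralizer_iff_isMulCommutative.mp (le_of_eq hcC.symm)
  have hCA : C = A := hmax C hCn hCcomm hAC
  rw [hCA] at hcC
  have key : ∀ c ≤ a, ∃ C : Subgroup G, C.Normal ∧ C ≤ A ∧ Nat.card C = p ^ c ∧
      Nat.card G ≤ Nat.card (Subgroup.centralizer (C : Set G)) * p ^ (c.choose 2) := by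
    intro c
    induction c with
    | zero =>
      intro _
      refine ⟨⊥, inferInstance, bot_le, by simp, ?_⟩
      have h1 : Subgroup.centralizer (((⊥ : Subgroup G) : Subgroup G) : Set G) = ⊤ := by
        rw [eq_top_iff]
        intro g _
        rw [Subgroup.mem_centralizer_iff]
        intro h hh
        have : h = 1 := Subgroup.mem_bot.mp hh
        rw [this, one_mul, mul_one]
      rw [h1]
      simp
    | succ c ih =>
      intro hc
      obtain ⟨C, hCn, hCA, hCcard, hle⟩ := ih (by omega)
      have hCltA : C < A := by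
        refine lt_of_le_of_ne hCA ?_
        rintro rfl
        rw [ha] at hCcard
        have := Nat.pow_right_injective hp.two_le hCcard
        omega
      obtain ⟨x, hxA, hxC, hxp, hcomm⟩ := exists_step hG C A hCltA
      have hC'n : (C ⊔ Subgroup.zpowers x).Normal := normal_sup_of_commutator_le C _ hcomm
      refine ⟨C ⊔ Subgroup.zpowers x, hC'n, sup_le hCA (Subgroup.zpowers_le.mpr hxA), ?_, ?_⟩
      · rw [card_sup_zpowers_of_pow_mem C x p hxC hxp, hCcard, pow_succ]
      · have h1 := card_centralizer_le C x (fun g _ => by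
          have h2 : ⁅x, g⁆ ∈ C := hcomm (Subgroup.commutator_mem_commutator
            (Subgroup.mem_zpowers x) (Subgroup.mem_top g))
          have h3 := C.inv_mem h2
          rw [commutatorElement_def] at h3
          have h4 : (x * g * x⁻¹ * g⁻¹)⁻¹ = g * x * g⁻¹ * x⁻¹ := by group
          rw [h4] at h3
          exact h3)
        have harith : (c + 1).choose 2 = c + c.choose 2 := by
          rw [Nat.choose_succ_succ' c 1, Nat.choose_one_right]
        calc Nat.card G ≤ Nat.card (Subgroup.centralizer (C : Set G)) * p ^ (c.choose 2) := hle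
          _ ≤ (Nat.card (Subgroup.centralizer ((C ⊔ Subgroup.zpowers x : Subgroup G) : Set G))
                * Nat.card C) * p ^ (c.choose 2) := Nat.mul_le_mul_right _ h1
          _ = Nat.card (Subgroup.centralizer ((C ⊔ Subgroup.zpowers x : Subgroup G) : Set G))
                * p ^ ((c + 1).choose 2) := by
            rw [hCcard, mul_assoc, ← pow_add, harith]
  obtain ⟨C, hCn, hCA, hCcard, hle⟩ := key a le_rfl
  have hCeq : C = A := Subgroup.eq_of_le_of_card_ge hCA (by rw [ha, hCcard])
  rw [hCeq, hcC, ha, ← pow_add] at hle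
  have harith : a * (a + 1) / 2 = a + a.choose 2 := by
    have h1 : (a + 1).choose 2 = a + a.choose 2 := by
      rw [Nat.choose_succ_succ' a 1, Nat.choose_one_right]
    rw [← h1, Nat.choose_two_right, Nat.add_sub_cancel, mul_comm]
  rw [harith]
  exact hle

end Cfsg.Agent.S0129
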