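import Cfsg.Statements.S3733
import Cfsg.Agent.Lib.Helper21.Norm

set_option autoImplicit false
open Cfsg

namespace Cfsg.Agent.S3733

open Cfsg.Agent.Lib.Helper21
open scoped IsMulCommutative

/-- Let A and V be subgroups of a finite group with V abelian and nontrivial and A normalizing V. Suppose a nonempty finite family of proper subgroups of A partitions A: every non-identity element of A lies in exactly one member. If the number of members minus one is coprime to the order of V, then some member B of the family has a non-identity fixed point on V, that is V ∩ C(B) ≠ 1. -/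
theorem result {G : Type*} [Group G] [Finite G] (A V : Subgroup G) (hVab : IsMulCommutative V) (hV : V ≠ ⊥) (hAV : A ≤ Subgroup.normalizer (V : Set G)) (𝒜 : Finset (Subgroup G)) (hne : 𝒜.Nonempty) (hprop : ∀ B ∈ 𝒜, B < A) (hpart : ∀ a ∈ A, a ≠ 1 → ∃! B, B ∈ 𝒜 ∧ a ∈ B) (hk : (𝒜.card - 1).Coprime (Nat.card V)) : ∃ B ∈ 𝒜, V ⊓ Subgroup.centralizer (B : Set G) ≠ ⊥ := by
  classical
  by_contra hcon
  push Not at hcon
  let φ : ↥A →* MulAut ↥V := V.normalizerMonoidHom.comp (Subgroup.inclusion hAV)
  have hφ : ∀ (a : ↥A) (v : ↥V), ((φ a v : ↥V) : G) = (a : G) * v * (a : G)⁻¹ := fun a v => rfl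
  have key : ∀ v : ↥V, v = 1 := by
    apply partition_norm φ 𝒜 (fun B => B.subgroupOf A) hne
    · intro a ha
      have ha' : (a : G) ≠ 1 := fun h => ha (Subtype.ext h)
      obtain ⟨B, ⟨hB, haB⟩, huniq⟩ := hpart a.1 a.2 ha'
      refine ⟨B, ⟨hB, Subgroup.mem_subgroupOf.mpr haB⟩, ?_⟩
      rintro B' ⟨hB', haB'⟩
      exact huniq B' ⟨hB', Subgroup.mem_subgroupOf.mp haB'⟩
    · exact hk
    · intro B hB v hv
      have hmem : (v : G) ∈ V ⊓ Subgroup.centralizer (B : Set G) := by
        refine ⟨v.2, ?_⟩
        show (v : G) ∈ Subgroup.centralizer (B : Set G)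
        rw [Subgroup.mem_centralizer_iff]
        intro b hb
        have hbA : b ∈ A := (hprop B hB).le hb
        have h1 := hv ⟨b, hbA⟩ (Subgroup.mem_subgroupOf.mpr hb)
        have h2 : b * (v : G) * b⁻¹ = v := by
          have := congrArg (Subtype.val) h1
          rw [hφ] at this
          exact this
        calc b * (v : G) = b * v * b⁻¹ * b := by group
          _ = v * b := by rw [h2]
      rw [hcon B hB, Subgroup.mem_bot] at hmem
      exact Subtype.ext hmem
  apply hV
  rw [Subgroup.eq_bot_iff_forall]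
  intro x hx
  have := key ⟨x, hx⟩
  exact congrArg Subtype.val this

end Cfsg.Agent.S3733
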