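import Cfsg.Statements.S4436
import Cfsg.Agent.S4435
import Cfsg.Agent.S0917
import Cfsg.Agent.Lib.Helper24.BlockMat

set_option autoImplicit false
open Cfsg

namespace Cfsg.Agent.S4436

open Cfsg.Agent.Lib.Helper2 Cfsg.Agent.Lib.Helper8 Cfsg.Agent.Lib.Helper25 Cfsg.Agent.Lib.Helper24 in
/-- Let N be a normal subgroup of the finite group G, b a block of N (relative to a maximal ideal M of the algebraic integers containing p), T the stabilizer of b in G, N ≤ T, and B′ a block of T covering b (some member of B′ has a constituent in b on restriction to N) that induces the block B of G. Then every defect group of B′ is a defect group of B, and for every ψ ∈ B′ the induced character ψ^G is an irreducible character of G lying in B with the same height as ψ. -/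
theorem result {G : Type*} [Group G] [Fintype G] (p : ℕ) [Fact p.Prime] (M : Ideal Cfsg.AlgInt) (hM : Cfsg.IsPModular p M) (N : Subgroup G) [hN : N.Normal] [Fintype N] (b : Set (Cfsg.IrrCharacter N)) (hb : Cfsg.IsPBlock M b) (T : Subgroup G) [Fintype T] (hT : ∀ g : G, g ∈ T ↔ ∀ θ ∈ b, ∀ θ' : Cfsg.IrrCharacter N, (∀ n : N, (θ' : N → ℂ) n = (θ : N → ℂ) ⟨g * n * g⁻¹, hN.conj_mem n n.2 g⟩) → θ' ∈ b) (hNT : N ≤ T) (B' : Set (Cfsg.IrrCharacter T)) (hB' : Cfsg.IsPBlock M B') (hcov : (∃ ψ ∈ B', ∃ θ ∈ b, Cfsg.classInner (fun n : N => (ψ : T → ℂ) ⟨(n : G), hNT n.2⟩) (θ : N → ℂ) ≠ 0)) (B : Set (Cfsg.IrrCharacter G)) (hind : Cfsg.IsInducedBlock M T B' B) : (∀ D : Subgroup T, Cfsg.IsDefectGroup p M B' D → Cfsg.IsDefectGroup p M B (D.map T.subtype)) ∧ ∀ ψ ∈ B', ∃ χ ∈ B, (χ : G → ℂ) = Cfsg.indFun T (ψ : T → ℂ) ∧ Cfsg.blockHeight p B (χ : G → ℂ) = Cfsg.blockHeight p B' (ψ : T → ℂ) := by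
  classical
  have hpr := isPrime_of_isPModular hM
  have hp : p.Prime := Fact.out
  have hB : IsPBlock M B := hind.2.1
  obtain ⟨B₁, hind₁, -, hirrall, hchar₁⟩ :=
    (Cfsg.Agent.S4435.result p M hM N b hb T hT hNT).1 B' hB' hcov
  -- the induced characters lie in `B`
  have hmemB : ∀ (B₂ : Set (IrrCharacter G)), IsInducedBlock M T B' B₂ → ∀ ψ ∈ B',
      ∀ hirr : IsIrrCharacter G (indFun T (ψ : T → ℂ)), (⟨_, hirr⟩ : IrrCharacter G) ∈ B₂ := by
    intro B₂ hind₂ ψ hψ hirr
    obtain ⟨χ₀, hχ₀⟩ := isPBlock_nonempty hM hind₂.2.1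
    have hs : SameBlock M (χ₀ : G → ℂ) (indFun T (ψ : T → ℂ)) := by
      intro g
      have h1 := hind₂.2.2 ψ hψ χ₀ hχ₀ g
      rw [inducedCentralChar_eq T _ (irr_one_ne_zero ψ.2)] at h1
      have h2 := MemLocalIdeal.neg M h1
      rwa [neg_sub] at h2
    exact blockClosed_of_isPBlock M hind₂.2.1 χ₀ hχ₀ ⟨_, hirr⟩ hs
  obtain ⟨ψ₀, hψ₀, h0, hmin⟩ := exists_height_zero p B' (isPBlock_nonempty hM hB')
  have hBB₁ : B = B₁ :=
    isPBlock_eq_of_mem hM hB hind₁.2.1 (hmemB B hind ψ₀ hψ₀ (hirrall ψ₀ hψ₀))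
      (hmemB B₁ hind₁ ψ₀ hψ₀ (hirrall ψ₀ hψ₀))
  have hchar : ∀ χ : IrrCharacter G, χ ∈ B ↔ ∃ ψ ∈ B', (χ : G → ℂ) = indFun T (ψ : T → ℂ) := by
    rw [hBB₁]
    exact hchar₁
  -- degrees
  have hidx : T.index ≠ 0 := Subgroup.index_ne_zero_of_finite
  set c := T.index.factorization p with hc
  have hdeg : ∀ ψ : IrrCharacter T,
      (charDegree (indFun T (ψ : T → ℂ))).factorization p
        = c + (charDegree (ψ : T → ℂ)).factorization p := by
    intro ψ
    obtain ⟨d, hd1, hdpos, -, hdcd⟩ := irr_degree ψ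
    have hΦ1 : indFun T (ψ : T → ℂ) 1 = ((T.index * d : ℕ) : ℂ) := by
      rw [Cfsg.Agent.Lib.Helper8.indFun_one, hd1]; push_cast; ring
    have hdeg' : charDegree (indFun T (ψ : T → ℂ)) = T.index * d := by
      unfold charDegree
      rw [hΦ1]
      have hre : ((T.index * d : ℕ) : ℂ).re = ((T.index * d : ℕ) : ℝ) := Complex.natCast_re _
      rw [hre, Nat.floor_natCast]
    rw [hdeg', hdcd, Nat.factorization_mul hidx hdpos.ne']
    rfl
  set h' := (charDegree (ψ₀ : T → ℂ)).factorization p with hh'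
  have hSne' : ((fun ψ : IrrCharacter T => (charDegree (ψ : T → ℂ)).factorization p) '' B').Nonempty :=
    (isPBlock_nonempty hM hB').image _
  have hsInf' : sInf ((fun ψ : IrrCharacter T => (charDegree (ψ : T → ℂ)).factorization p) '' B') = h' := by
    apply le_antisymm
    · exact Nat.sInf_le ⟨ψ₀, hψ₀, rfl⟩
    · apply le_csInf hSne'
      rintro _ ⟨ξ, hξ, rfl⟩
      exact hmin ξ hξ
  have hχ₀B : (⟨_, hirrall ψ₀ hψ₀⟩ : IrrCharacter G) ∈ B := hmemB B hind ψ₀ hψ₀ (hirrall ψ₀ hψ₀)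
  have hSne : ((fun χ : IrrCharacter G => (charDegree (χ : G → ℂ)).factorization p) '' B).Nonempty :=
    ⟨_, ⟨_, hχ₀B, rfl⟩⟩
  have hsInf : sInf ((fun χ : IrrCharacter G => (charDegree (χ : G → ℂ)).factorization p) '' B)
      = c + h' := by
    apply le_antisymm
    · have h1 := Nat.sInf_le (s := (fun χ : IrrCharacter G =>
          (charDegree (χ : G → ℂ)).factorization p) '' B) ⟨_, hχ₀B, rfl⟩
      have h2 := hdeg ψ₀
      exact h1.trans (le_of_eq h2)
    · apply le_csInf hSne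
      rintro _ ⟨χ, hχ, rfl⟩
      obtain ⟨ψ, hψ, hχψ⟩ := (hchar χ).mp hχ
      have h2 := hdeg ψ
      have h3 := hmin ψ hψ
      show c + h' ≤ (charDegree (χ : G → ℂ)).factorization p
      rw [hχψ, h2]
      omega
  have hcard : Nat.card G = Nat.card T * T.index := (Subgroup.card_mul_index T).symm
  have haGT : (Nat.card G).factorization p = (Nat.card T).factorization p + c := by
    rw [hcard, Nat.factorization_mul Nat.card_pos.ne' hidx]
    rfl
  have hdefeq : blockDefect p B = blockDefect p B' := by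
    unfold blockDefect
    rw [hsInf, hsInf', haGT]
    omega
  constructor
  · intro D hD
    obtain ⟨E, hE, hDE⟩ := Cfsg.Agent.S0917.result p M hM T B' hB' B hB hind D hD
    have hcE := card_of_isDefectGroup hM B hB E hE
    have hcD := card_of_isDefectGroup hM B' hB' D hD
    have hcmap : Nat.card (D.map T.subtype) = Nat.card D :=
      Subgroup.card_map_of_injective T.subtype_injective
    have heq : D.map T.subtype = E := by
      apply Subgroup.eq_of_le_of_card_ge hDE
      rw [hcmap, hcE, hcD, hdefeq]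
    rw [heq]
    exact hE
  · intro ψ hψ
    have hirr := hirrall ψ hψ
    refine ⟨⟨_, hirr⟩, hmemB B hind ψ hψ hirr, rfl, ?_⟩
    unfold blockHeight
    rw [hsInf, hsInf']
    show (charDegree (indFun T (ψ : T → ℂ))).factorization p - (c + h')
      = (charDegree (ψ : T → ℂ)).factorization p - h'
    rw [hdeg ψ]
    omega

end Cfsg.Agent.S4436
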