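import Mathlib
import Cfsg.Statements.S0911
import Cfsg.Agent.Lib.Helper8.BlockRing

set_option autoImplicit false
open Cfsg

namespace Cfsg.Agent.S0911

open Cfsg.Agent.Lib.Helper2 Cfsg.Agent.Lib.Helper25 Cfsg.Agent.Lib.Helper8

theorem result {G : Type*} [Group G] [Finite G] (p : ℕ) [Fact p.Prime] (M : Ideal Cfsg.AlgInt) (hM : Cfsg.IsPModular p M) (B : Set (Cfsg.IrrCharacter G)) (hB : Cfsg.IsPBlock M B) (g : G) (hg : Cfsg.IsDefectClass M B g) (D : Sylow p (Subgroup.centralizer ({g} : Set G))) (h : G) : (Cfsg.MemLocalRing M (Cfsg.blockCoeff B h) → ¬ Cfsg.MemLocalIdeal M (Cfsg.blockCoeff B h) → ∃ (x : G) (Q : Sylow p (Subgroup.centralizer ({h} : Set G))), (Q : Subgroup (Subgroup.centralizer ({h} : Set G))).map (Subgroup.centralizer ({h} : Set G)).subtype ≤ ((D : Subgroup (Subgroup.centralizer ({g} : Set G))).map (Subgroup.centralizer ({g} : Set G)).subtype).map (MulAut.conj x).toMonoidHom) ∧ ((∃ χ ∈ B, ¬ Cfsg.MemLocalIdeal M (Cfsg.centralChar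 (χ : G → ℂ) h)) → ∃ (x : G) (Q : Sylow p (Subgroup.centralizer ({h} : Set G))), ((D : Subgroup (Subgroup.centralizer ({g} : Set G))).map (Subgroup.centralizer ({g} : Set G)).subtype).map (MulAut.conj x).toMonoidHom ≤ (Q : Subgroup (Subgroup.centralizer ({h} : Set G))).map (Subgroup.centralizer ({h} : Set G)).subtype) := by
  classical
  have : Fintype G := Fintype.ofFinite G
  have hpr := isPrime_of_isPModular hM
  obtain ⟨hloc, hnot, hcc⟩ := hg
  constructor
  · intro _ hne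
    obtain ⟨χ₀, hχ₀⟩ := hB
    have hχ₀B : χ₀ ∈ B := by rw [hχ₀]; exact sameBlock_refl M _
    obtain ⟨P, x, hP⟩ := lowDefect_of_centralChar hM B ⟨χ₀, hχ₀⟩ g χ₀ hχ₀B (hcc χ₀ hχ₀B) D h hne
    exact ⟨x, P, hP⟩
  · rintro ⟨χ, hχ, hne⟩
    obtain ⟨Q₀⟩ : Nonempty (Sylow p (Subgroup.centralizer ({h} : Set G))) := inferInstance
    have hd := lowDefect_of_centralChar hM B hB h χ hχ hne Q₀ g hnot
    obtain ⟨x', hx'⟩ := conj_le_of_defLE hd
      ((D : Subgroup (Subgroup.centralizer ({g} : Set G))).map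
        (Subgroup.centralizer ({g} : Set G)).subtype) (D.isPGroup'.map _)
      (by
        intro s hs
        obtain ⟨u, -, rfl⟩ := Subgroup.mem_map.mp hs
        exact u.2)
    refine ⟨x'⁻¹, Q₀, ?_⟩
    intro s hs
    rw [mem_map_conj] at hs
    have h2 := hx' hs
    rw [mem_map_conj] at h2
    have e : x'⁻¹ * (x'⁻¹⁻¹ * s * x'⁻¹) * x' = s := by group
    rw [e] at h2
    exact h2

end Cfsg.Agent.S0911
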