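import Cfsg.Statements.S4491
import Cfsg.Agent.Lib.Helper24.BlockMat
import Cfsg.Agent.Lib.Helper2.CharClifford
import Cfsg.Agent.Lib.Helper2.CharMore
import Cfsg.Agent.Lib.Helper2.CharLinear
import Cfsg.Agent.Lib.Helper25.CharSum

set_option autoImplicit false
open Cfsg

namespace Cfsg.Agent.S4491

section aux

open Cfsg.Agent.Lib.Helper2 Cfsg.Agent.Lib.Helper25 Cfsg.Agent.Lib.Helper24 Cfsg.Agent.S4426
open scoped ComplexConjugate

variable {G : Type*} [Group G] [Fintype G]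

/-- the permutation character on the cosets of a Sylow subgroup vanishes at the nontrivial
`p`-regular elements -/
theorem perm_vanish (p : ℕ) [Fact p.Prime] (P : Sylow p G) (g : G) (hg : ¬ p ∣ orderOf g)
    (hg1 : g ≠ 1) : indFun (P : Subgroup G) (fun _ => (1 : ℂ)) g = 0 := by
  have hp : p.Prime := Fact.out
  rw [indFun_apply, Finset.sum_eq_zero, mul_zero]
  intro x _
  apply extendByZero_of_not_mem
  intro hmem
  obtain ⟨k, hk⟩ := P.isPGroup' ⟨x⁻¹ * g * x, hmem⟩
  have hk' : (x⁻¹ * g * x) ^ (p ^ k) = 1 := by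
    have := congrArg Subtype.val hk
    simpa using this
  have hord : orderOf (x⁻¹ * g * x) = orderOf g := by
    have := orderOf_conj' g x⁻¹
    rwa [inv_inv] at this
  have hdvd : orderOf g ∣ p ^ k := by
    rw [← hord]; exact orderOf_dvd_of_pow_eq_one hk'
  obtain ⟨j, -, hj⟩ := (Nat.dvd_prime_pow hp).mp hdvd
  rcases Nat.eq_zero_or_pos j with h0 | hpos
  · rw [h0, pow_zero] at hj
    exact hg1 (orderOf_eq_one_iff.mp hj)
  · apply hg
    rw [hj]
    exact dvd_pow_self p hpos.ne'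

/-- the data of the permutation character on the cosets of a Sylow subgroup: natural
multiplicities `a`, with `χ 1 = ∑ a ξ * [χ̃, ξ]` for every irreducible `χ` -/
theorem exists_mult (p : ℕ) [Fact p.Prime] [Fintype (IrrCharacter G)] :
    ∃ a : IrrCharacter G → ℕ, ∀ χ : IrrCharacter G,
      (charDegree (χ : G → ℂ) : ℤ) = ∑ ξ : IrrCharacter G, (a ξ : ℤ) * mInt p χ ξ := by
  classical
  have hp : p.Prime := Fact.out
  obtain ⟨P⟩ : Nonempty (Sylow p G) := inferInstance
  set Φ := indFun (P : Subgroup G) (fun _ => (1 : ℂ)) with hΦ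
  have hΦc : IsCharacter G Φ :=
    indFun_isCharacter (P : Subgroup G) (isCharacter_of_isIrrCharacter isIrrCharacter_one)
  have hΦcf : IsClassFunction G Φ := indFun_isClassFunction _ _
  have hnat : ∀ ξ : IrrCharacter G, ∃ n : ℕ, classInner Φ (ξ : G → ℂ) = (n : ℂ) :=
    fun ξ => classInner_isCharacter_nat hΦc (isCharacter_of_isIrrCharacter ξ.2)
  choose a ha using hnat
  refine ⟨a, fun χ => ?_⟩
  have hexp : Φ = ∑ ξ : IrrCharacter G, (a ξ : ℂ) • (ξ : G → ℂ) := by
    have h := class_fun_expand Φ hΦcf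
    refine h.trans ?_
    apply Finset.sum_congr rfl
    intro ξ _
    rw [ha]
  have h1 : classInner (trunc p (χ : G → ℂ)) Φ
      = ∑ ξ : IrrCharacter G, (a ξ : ℂ) * (mInt p χ ξ : ℂ) := by
    conv_lhs => rw [hexp]
    rw [classInner_sum_right]
    apply Finset.sum_congr rfl
    intro ξ _
    rw [classInner_smul_right, mInt_spec]
    simp
  have hΦ1 : Φ 1 = ((P : Subgroup G).index : ℂ) := by
    rw [hΦ, indFun_apply_one, mul_one]
  have hidx : ((P : Subgroup G).index : ℂ) * ((p ^ (Nat.card G).factorization p : ℕ) : ℂ)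
      = (Nat.card G : ℂ) := by
    rw [← Nat.cast_mul, ← P.card_eq_multiplicity, Subgroup.index_mul_card]
  have hne : (Nat.card G : ℂ) ≠ 0 := by exact_mod_cast Nat.card_pos.ne'
  obtain ⟨d, hd1, -, -, hdeg⟩ := irr_degree χ
  have h2 : classInner (trunc p (χ : G → ℂ)) Φ = (d : ℂ) := by
    rw [classInner_def, Finset.sum_eq_single (1 : G)]
    · have h1' : ¬ p ∣ orderOf (1 : G) := by
        rw [orderOf_one]
        exact hp.one_lt.not_ge ∘ Nat.le_of_dvd one_pos
      simp only [trunc, if_neg h1']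
      rw [hΦ1, hd1, Complex.conj_natCast, ← hidx]
      have hp0 : ((p ^ (Nat.card G).factorization p : ℕ) : ℂ) ≠ 0 := by
        exact_mod_cast (pow_pos hp.pos _).ne'
      have hi0 : ((P : Subgroup G).index : ℂ) ≠ 0 := by
        intro h0
        rw [h0, zero_mul] at hidx
        exact hne hidx.symm
      field_simp
    · intro y _ hy
      by_cases hyp : p ∣ orderOf y
      · simp [trunc, hyp]
      · rw [hΦ, perm_vanish p P y hyp hy]
        simp
    · intro h; exact absurd (Finset.mem_univ _) h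
  rw [h1] at h2
  rw [hdeg]
  exact_mod_cast h2.symm

/-- the expansion of the truncation at the identity -/
theorem expand_one (p : ℕ) [Fact p.Prime] [Fintype (IrrCharacter G)] (χ : IrrCharacter G) :
    (p : ℤ) ^ (Nat.card G).factorization p * (charDegree (χ : G → ℂ) : ℤ)
      = ∑ ξ : IrrCharacter G, mInt p χ ξ * (charDegree (ξ : G → ℂ) : ℤ) := by
  have hp : p.Prime := Fact.out
  have hcf : IsClassFunction G (trunc p (χ : G → ℂ)) :=
    trunc_isClassFunction p (isClassFunction_of_isIrrCharacter χ.2)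
  have h := congrFun (class_fun_expand (trunc p (χ : G → ℂ)) hcf) 1
  rw [Finset.sum_apply] at h
  have h1' : ¬ p ∣ orderOf (1 : G) := by
    rw [orderOf_one]
    exact hp.one_lt.not_ge ∘ Nat.le_of_dvd one_pos
  have hl : trunc p (χ : G → ℂ) 1
      = (((p : ℤ) ^ (Nat.card G).factorization p * (charDegree (χ : G → ℂ) : ℤ) : ℤ) : ℂ) := by
    obtain ⟨d, hd1, -, -, hdeg⟩ := irr_degree χ
    simp only [trunc, if_neg h1']
    rw [hd1, hdeg]
    push_cast
    ring
  have hr : ∑ ξ : IrrCharacter G, (classInner (trunc p (χ : G → ℂ)) (ξ : G → ℂ) • (ξ : G → ℂ)) 1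
      = ((∑ ξ : IrrCharacter G, mInt p χ ξ * (charDegree (ξ : G → ℂ) : ℤ) : ℤ) : ℂ) := by
    push_cast
    apply Finset.sum_congr rfl
    intro ξ _
    obtain ⟨d, hd1, -, -, hdeg⟩ := irr_degree ξ
    rw [Pi.smul_apply, smul_eq_mul, mInt_spec, hd1, hdeg]
  rw [hl, hr] at h
  exact_mod_cast h

end aux

open Cfsg.Agent.Lib.Helper2 Cfsg.Agent.Lib.Helper25 Cfsg.Agent.Lib.Helper24 Cfsg.Agent.S4426 in
/-- Let B be a p-block of defect d of the finite group G (relative to a maximal ideal M of the algebraic integers containing p), and let p^a be the p-part of the order of G. Then the exact power of p dividing the sum of the squares of the degrees of the irreducible characters in B is p^(2a − d). -/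
theorem result {G : Type*} [Group G] [Finite G] (p : ℕ) [Fact p.Prime] (M : Ideal Cfsg.AlgInt) (hM : Cfsg.IsPModular p M) (B : Set (Cfsg.IrrCharacter G)) (hB : Cfsg.IsPBlock M B) : (∑ᶠ χ ∈ B, Cfsg.charDegree (χ : G → ℂ) ^ 2).factorization p = 2 * (Nat.card G).factorization p - Cfsg.blockDefect p B := by
  classical
  haveI : Fintype G := Fintype.ofFinite G
  haveI : Fintype (IrrCharacter G) := Fintype.ofFinite _
  haveI := isPrime_of_isPModular hM
  have hp : p.Prime := Fact.out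
  have hBne := isPBlock_nonempty hM hB
  obtain ⟨χ₀, hχ₀, h0, hmin⟩ := exists_height_zero p B hBne
  set a := (Nat.card G).factorization p with ha
  set h := (charDegree (χ₀ : G → ℂ)).factorization p with hh
  have hha : h ≤ a := by
    obtain ⟨hd0, hdd⟩ := Cfsg.Agent.S4424.degree_facts χ₀
    exact (Nat.factorization_le_iff_dvd hd0 Nat.card_pos.ne').mpr hdd p
  have hdef : blockDefect p B = a - h := by
    unfold blockDefect
    have hSne : ((fun ψ : IrrCharacter G => (charDegree (ψ : G → ℂ)).factorization p) '' B).Nonempty :=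
      hBne.image _
    have h1 : sInf ((fun ψ : IrrCharacter G => (charDegree (ψ : G → ℂ)).factorization p) '' B) = h := by
      apply le_antisymm
      · exact Nat.sInf_le ⟨χ₀, hχ₀, rfl⟩
      · apply le_csInf hSne
        rintro _ ⟨ξ, hξ, rfl⟩
        exact hmin ξ hξ
    rw [h1]
  set d : IrrCharacter G → ℕ := fun ξ => charDegree (ξ : G → ℂ) with hd
  obtain ⟨m, hm⟩ := exists_mult (G := G) p
  set FB := Finset.univ.filter (· ∈ B) with hFB
  have hmemFB : ∀ ξ : IrrCharacter G, ξ ∈ FB ↔ ξ ∈ B := fun ξ => by simp [hFB]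
  -- sums over the block
  have hF5 : ∀ χ ∈ B, (d χ : ℤ) = ∑ ξ ∈ FB, (m ξ : ℤ) * mInt p χ ξ := by
    intro χ hχ
    rw [hm χ, hFB, Finset.sum_filter]
    apply Finset.sum_congr rfl
    intro ξ _
    split_ifs with hξ
    · rfl
    · rw [mInt_eq_zero_of_not_mem hM B hB χ hχ ξ hξ, mul_zero]
  have hE1 : ∀ χ ∈ B, (p : ℤ) ^ a * (d χ : ℤ) = ∑ ξ ∈ FB, mInt p χ ξ * (d ξ : ℤ) := by
    intro χ hχ
    rw [expand_one p χ, hFB, Finset.sum_filter]
    apply Finset.sum_congr rfl
    intro ξ _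
    split_ifs with hξ
    · rfl
    · rw [mInt_eq_zero_of_not_mem hM B hB χ hχ ξ hξ, zero_mul]
  -- identity A
  have hA : ∑ χ ∈ FB, (d χ : ℤ) ^ 2 = (p : ℤ) ^ a * ∑ χ ∈ FB, (m χ : ℤ) * (d χ : ℤ) := by
    rw [Finset.mul_sum]
    have e1 : ∀ χ ∈ FB, (p : ℤ) ^ a * ((m χ : ℤ) * (d χ : ℤ))
        = ∑ ξ ∈ FB, (m χ : ℤ) * mInt p χ ξ * (d ξ : ℤ) := by
      intro χ hχ
      rw [mul_left_comm, hE1 χ ((hmemFB χ).mp hχ), Finset.mul_sum]
      apply Finset.sum_congr rfl
      intro ξ _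
      ring
    rw [Finset.sum_congr rfl e1, Finset.sum_comm]
    apply Finset.sum_congr rfl
    intro ξ hξ
    have e2 : ∑ χ ∈ FB, (m χ : ℤ) * mInt p χ ξ * (d ξ : ℤ)
        = (∑ χ ∈ FB, (m χ : ℤ) * mInt p ξ χ) * (d ξ : ℤ) := by
      rw [Finset.sum_mul]
      apply Finset.sum_congr rfl
      intro χ _
      rw [mInt_symm p χ ξ]
    rw [e2, ← hF5 ξ ((hmemFB ξ).mp hξ)]
    ring
  -- the integers `t`
  have hN := not_dvd_compl (G := G) p
  set N := Nat.card G / p ^ (Nat.card G).factorization p with hNdef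
  have ht : ∀ ξ : IrrCharacter G, ∃ t : ℤ,
      omegaFun (ξ : G → ℂ) (rfun p (χ₀ : G → ℂ)) = (t : ℂ) ∧
        (N : ℤ) * mInt p χ₀ ξ = (d ξ : ℤ) * t :=
    fun ξ => exists_t p χ₀ ξ _ (mInt_spec p χ₀ ξ)
  choose t ht1 ht2 using ht
  have hsame := isPBlock_sameBlock hM hB
  have hcong : ∀ ξ ∈ B, (p : ℤ) ∣ t ξ - t χ₀ := by
    intro ξ hξ
    have hloc := sameBlock_omegaFun ξ χ₀ (hsame ξ hξ χ₀ hχ₀) (rfun p (χ₀ : G → ℂ))
      (rfun_isClassFunction p (isClassFunction_of_isIrrCharacter χ₀.2))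
      (by
        intro g
        simp only [rfun]
        split_ifs
        · exact memLocalRing_zero M
        · exact memLocalRing_of_isIntegral M (irr_isIntegral χ₀ _))
    rw [ht1, ht1] at hloc
    rw [← memLocalIdeal_intCast_iff hM]
    push_cast
    exact hloc
  have ht0 : ¬ (p : ℤ) ∣ t χ₀ :=
    (cond_iff p hN (degree_pos χ₀) (ht2 χ₀)).mp (mInt_of_height_zero hM B hB χ₀ hχ₀ h0 χ₀ hχ₀)
  -- the natural number `n_B`
  set nB : ℕ := ∑ ξ ∈ FB, m ξ * d ξ with hnB
  have hdvd_d : ∀ ξ ∈ B, p ^ h ∣ d ξ := by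
    intro ξ hξ
    have hξ0 := (Cfsg.Agent.S4424.degree_facts ξ).1
    exact (hp.pow_dvd_iff_le_factorization hξ0).mpr (hmin ξ hξ)
  have hnB1 : p ^ h ∣ nB := by
    apply Finset.dvd_sum
    intro ξ hξ
    exact Dvd.dvd.mul_left (hdvd_d ξ ((hmemFB ξ).mp hξ)) _
  have hkey : (p : ℤ) ^ (h + 1) ∣ (N : ℤ) * (d χ₀ : ℤ) - t χ₀ * (nB : ℤ) := by
    have e : (N : ℤ) * (d χ₀ : ℤ) - t χ₀ * (nB : ℤ)
        = ∑ ξ ∈ FB, (m ξ : ℤ) * ((d ξ : ℤ) * (t ξ - t χ₀)) := by
      rw [hF5 χ₀ hχ₀, hnB]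
      push_cast
      rw [Finset.mul_sum, Finset.mul_sum, ← Finset.sum_sub_distrib]
      apply Finset.sum_congr rfl
      intro ξ _
      have := ht2 ξ
      linear_combination (m ξ : ℤ) * this
    rw [e]
    apply Finset.dvd_sum
    intro ξ hξ
    apply Dvd.dvd.mul_left
    rw [pow_succ]
    apply mul_dvd_mul
    · exact_mod_cast hdvd_d ξ ((hmemFB ξ).mp hξ)
    · exact hcong ξ ((hmemFB ξ).mp hξ)
  have hd0 : d χ₀ ≠ 0 := (Cfsg.Agent.S4424.degree_facts χ₀).1
  have hN0 : N ≠ 0 := by rintro h'; apply hN; rw [h']; exact dvd_zero p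
  have hnot : ¬ (p : ℤ) ^ (h + 1) ∣ (N : ℤ) * (d χ₀ : ℤ) := by
    intro hdv
    have hdv' : p ^ (h + 1) ∣ N * d χ₀ := by exact_mod_cast hdv
    have h1 := (hp.pow_dvd_iff_le_factorization (Nat.mul_ne_zero hN0 hd0)).mp hdv'
    rw [Nat.factorization_mul hN0 hd0, Finsupp.add_apply,
      Nat.factorization_eq_zero_of_not_dvd hN] at h1
    have h2 : (d χ₀).factorization p = h := rfl
    omega
  have hnB2 : ¬ p ^ (h + 1) ∣ nB := by
    intro hdv
    apply hnot
    have hdv' : (p : ℤ) ^ (h + 1) ∣ t χ₀ * (nB : ℤ) :=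
      Dvd.dvd.mul_left (by exact_mod_cast hdv) _
    have := dvd_add hkey hdv'
    simpa using this
  have hnB0 : nB ≠ 0 := by
    intro h'
    apply hnB2
    rw [h']
    exact dvd_zero _
  have hfac : nB.factorization p = h := by
    have h1 := (hp.pow_dvd_iff_le_factorization hnB0).mp hnB1
    have h2 : ¬ h + 1 ≤ nB.factorization p :=
      fun h' => hnB2 ((hp.pow_dvd_iff_le_factorization hnB0).mpr h')
    omega
  -- conclusion
  have hsumeq : ∑ᶠ χ ∈ B, Cfsg.charDegree (χ : G → ℂ) ^ 2 = p ^ a * nB := by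
    rw [finsum_mem_eq_sum_indicator]
    have e1 : ∑ χ : IrrCharacter G, B.indicator (fun χ => charDegree (χ : G → ℂ) ^ 2) χ
        = ∑ χ ∈ FB, d χ ^ 2 := by
      rw [hFB, Finset.sum_filter]
      apply Finset.sum_congr rfl
      intro χ _
      rw [Set.indicator_apply]
    rw [e1]
    have e2 : ((∑ χ ∈ FB, d χ ^ 2 : ℕ) : ℤ) = ((p ^ a * nB : ℕ) : ℤ) := by
      rw [hnB]
      push_cast
      exact hA
    exact_mod_cast e2
  rw [hsumeq, hdef, Nat.factorization_mul (pow_pos hp.pos a).ne' hnB0, Finsupp.add_apply,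
    hp.factorization_pow, Finsupp.single_eq_same, hfac]
  have hfin : a + h = 2 * a - (a - h) := by omega
  exact hfin

end Cfsg.Agent.S4491
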