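import Cfsg.Statements.S4494
import Cfsg.Agent.Lib.Helper24.BlockMat

set_option autoImplicit false
open Cfsg

namespace Cfsg.Agent.S4494

open Cfsg.Agent.Lib.Helper2 Cfsg.Agent.Lib.Helper25 Cfsg.Agent.Lib.Helper24 in
/-- The Brauer–Feit bound. Let B be a p-block of the finite group G (relative to a maximal ideal M of the algebraic integers containing p) and let d be its defect. Then the number k(B) of irreducible characters in B satisfies k(B) ≤ p^(2d)/4 + 1, stated here as 4·k(B) ≤ p^(2d) + 4. -/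
theorem result {G : Type*} [Group G] [Finite G] (p : ℕ) [Fact p.Prime] (M : Ideal Cfsg.AlgInt) (hM : Cfsg.IsPModular p M) (B : Set (Cfsg.IrrCharacter G)) (hB : Cfsg.IsPBlock M B) : 4 * Nat.card B ≤ p ^ (2 * Cfsg.blockDefect p B) + 4 := by
  classical
  haveI : Fintype G := Fintype.ofFinite G
  haveI : Fintype (IrrCharacter G) := Fintype.ofFinite _
  have hp : p.Prime := Fact.out
  have hBne := isPBlock_nonempty hM hB
  obtain ⟨χ₀, hχ₀, h0, hmin⟩ := exists_height_zero p B hBne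
  set a := (Nat.card G).factorization p with ha
  set h := (charDegree (χ₀ : G → ℂ)).factorization p with hh
  have hha : h ≤ a := by
    obtain ⟨hd0, hdd⟩ := Cfsg.Agent.S4424.degree_facts χ₀
    exact (Nat.factorization_le_iff_dvd hd0 Nat.card_pos.ne').mpr hdd p
  have hdef : blockDefect p B = a - h := by
    unfold blockDefect
    have hSne : ((fun ψ : IrrCharacter G => (charDegree (ψ : G → ℂ)).factorization p) '' B).Nonempty :=
      hBne.image _
    have h1 : sInf ((fun ψ : IrrCharacter G => (charDegree (ψ : G → ℂ)).factorization p) '' B) = h := by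
      apply le_antisymm
      · exact Nat.sInf_le ⟨χ₀, hχ₀, rfl⟩
      · apply le_csInf hSne
        rintro _ ⟨ξ, hξ, rfl⟩
        exact hmin ξ hξ
    rw [h1]
  have hdiv : ∀ ξ : IrrCharacter G, ξ ∈ B → ∃ n : ℤ, mInt p χ₀ ξ = (p : ℤ) ^ h * n ∧ n ≠ 0 := by
    intro ξ hξ
    obtain ⟨hz0, -⟩ := mInt_of_height_zero hM B hB χ₀ hχ₀ h0 ξ hξ
    obtain ⟨n, hn⟩ := pow_dvd_mInt_left p χ₀ ξ
    refine ⟨n, hn, ?_⟩
    rintro rfl
    apply hz0
    rw [hn, mul_zero]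
  choose! n hn hn0 using hdiv
  set FB := Finset.univ.filter (· ∈ B) with hFB
  have hsum : ∑ ξ ∈ FB, mInt p χ₀ ξ ^ 2 = (p : ℤ) ^ a * mInt p χ₀ χ₀ := by
    rw [← mInt_sum_sq p χ₀, hFB, Finset.sum_filter]
    apply Finset.sum_congr rfl
    intro ξ _
    split_ifs with hξ
    · rfl
    · rw [mInt_eq_zero_of_not_mem hM B hB χ₀ hχ₀ ξ hξ]; simp
  have hsum2 : ∑ ξ ∈ FB, n ξ ^ 2 = (p : ℤ) ^ (a - h) * n χ₀ := by
    have hp0 : ((p : ℤ) ^ h) ^ 2 ≠ 0 := by
      have : (p : ℤ) ≠ 0 := by exact_mod_cast hp.ne_zero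
      positivity
    apply mul_left_cancel₀ hp0
    rw [Finset.mul_sum]
    calc ∑ ξ ∈ FB, ((p : ℤ) ^ h) ^ 2 * n ξ ^ 2 = ∑ ξ ∈ FB, mInt p χ₀ ξ ^ 2 := by
          apply Finset.sum_congr rfl
          intro ξ hξ
          rw [hn ξ (Finset.mem_filter.mp hξ).2]; ring
      _ = (p : ℤ) ^ a * mInt p χ₀ χ₀ := hsum
      _ = ((p : ℤ) ^ h) ^ 2 * ((p : ℤ) ^ (a - h) * n χ₀) := by
          rw [hn χ₀ hχ₀]
          have e : (p : ℤ) ^ a = (p : ℤ) ^ h * (p : ℤ) ^ (a - h) := by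
            rw [← pow_add]; congr 1; omega
          rw [e]; ring
  have hmem : χ₀ ∈ FB := Finset.mem_filter.mpr ⟨Finset.mem_univ _, hχ₀⟩
  have hsplit := Finset.add_sum_erase FB (fun ξ => n ξ ^ 2) hmem
  have hge : ((FB.erase χ₀).card : ℤ) ≤ ∑ ξ ∈ FB.erase χ₀, n ξ ^ 2 := by
    have h1 : ∑ ξ ∈ FB.erase χ₀, (1 : ℤ) ≤ ∑ ξ ∈ FB.erase χ₀, n ξ ^ 2 := by
      apply Finset.sum_le_sum
      intro ξ hξ
      have hξB : ξ ∈ B := (Finset.mem_filter.mp (Finset.mem_of_mem_erase hξ)).2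
      have h2 := hn0 ξ hξB
      have h3 : 0 < n ξ ^ 2 := by positivity
      omega
    simpa using h1
  have hcard : Nat.card B = FB.card := by
    rw [Nat.card_eq_fintype_card, hFB]
    exact Fintype.card_subtype (· ∈ B)
  have hcard2 : (FB.erase χ₀).card = FB.card - 1 := Finset.card_erase_of_mem hmem
  have hpos : 0 < FB.card := Finset.card_pos.mpr ⟨χ₀, hmem⟩
  have key : 4 * ∑ ξ ∈ FB.erase χ₀, n ξ ^ 2 ≤ ((p : ℤ) ^ (a - h)) ^ 2 := by
    have e : ∑ ξ ∈ FB.erase χ₀, n ξ ^ 2 = (p : ℤ) ^ (a - h) * n χ₀ - n χ₀ ^ 2 := by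
      have := hsplit
      linarith
    rw [e]
    nlinarith [sq_nonneg ((p : ℤ) ^ (a - h) - 2 * n χ₀)]
  rw [hdef, hcard]
  have hfin : (4 * (FB.card : ℤ)) ≤ ((p ^ (2 * (a - h)) + 4 : ℕ) : ℤ) := by
    have h1 : ((FB.erase χ₀).card : ℤ) = (FB.card : ℤ) - 1 := by
      rw [hcard2, Nat.cast_sub hpos]; simp
    have h2 : ((p ^ (2 * (a - h)) + 4 : ℕ) : ℤ) = ((p : ℤ) ^ (a - h)) ^ 2 + 4 := by
      push_cast; ring
    rw [h2]
    linarith
  exact_mod_cast hfin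

end Cfsg.Agent.S4494
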