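import Cfsg.Statements.S4757
import Mathlib
import Cfsg.Agent.Lib.Helper2.CharOrtho
import Cfsg.Agent.Lib.Helper2.CharLinear
import Cfsg.Agent.Lib.Helper1.Cores

set_option autoImplicit false
open Cfsg

namespace Cfsg.Agent.S4757

section aux

open Cfsg.Agent.Lib.Helper2 Cfsg.Agent.Lib.Helper1
open scoped ComplexConjugate commutatorElement

variable {G : Type*} [Group G] [Fintype G]

/-- weighted column orthogonality at a nonidentity element -/
theorem sum_deg_mul (u : G) (hu : u ≠ 1) [Fintype (IrrCharacter G)] :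
    ∑ χ : IrrCharacter G, (χ : G → ℂ) 1 * (χ : G → ℂ) u = 0 := by
  classical
  have h := column_orthogonality u (1 : G)
  have h0 : colFun (1 : G) u = 0 := by
    unfold colFun
    apply Finset.sum_eq_zero
    intro x _
    rw [if_neg]
    intro hx
    apply hu
    have h1 : u = x⁻¹ * (x * u * x⁻¹) * x := by group
    rw [h1, hx]; group
  rw [h0] at h
  rw [← h]
  apply Finset.sum_congr rfl
  intro χ _
  obtain ⟨n, -, hn⟩ := irr_apply_one χ.2
  rw [hn, Complex.conj_natCast, mul_comm]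

/-- the sum of the squared absolute values at `u` is the order of the centralizer -/
theorem sum_norm_sq (u : G) [Fintype (IrrCharacter G)] :
    ∑ χ : IrrCharacter G, (χ : G → ℂ) u * conj ((χ : G → ℂ) u)
      = (Nat.card (Subgroup.centralizer ({u} : Set G)) : ℂ) := by
  classical
  rw [column_orthogonality u u]
  unfold colFun
  rw [Finset.sum_boole]
  congr 1
  rw [← Fintype.card_subtype, ← Nat.card_eq_fintype_card]
  apply Nat.card_congr
  apply Equiv.subtypeEquivRight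
  intro x
  rw [Subgroup.mem_centralizer_iff]
  constructor
  · intro hx h hh
    rw [Set.mem_singleton_iff] at hh
    subst hh
    have h1 : x * h = (x * h * x⁻¹) * x := by group
    rw [h1, hx]
  · intro hx
    have h1 := hx u (Set.mem_singleton u)
    rw [← h1]; group

theorem sum_real (u : G) (hu : u ≠ 1) [Fintype (IrrCharacter G)] (a : IrrCharacter G → ℝ)
    (ha : ∀ χ : IrrCharacter G, (χ : G → ℂ) 1 * (χ : G → ℂ) u = (a χ : ℂ)) :
    ∑ χ : IrrCharacter G, a χ = 0 := by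
  have h := sum_deg_mul u hu
  rw [Finset.sum_congr rfl (fun χ _ => ha χ)] at h
  exact_mod_cast h

/-- the principal character -/
noncomputable def trivChar (G : Type*) [Group G] [Fintype G] : IrrCharacter G :=
  ⟨fun _ => 1, isIrrCharacter_one⟩

/-- the irreducible character of a homomorphism to the units -/
noncomputable def linChar (μ : G →* ℂˣ) : IrrCharacter G :=
  ⟨fun g => (μ g : ℂ), isIrrCharacter_of_hom μ⟩

theorem no_nonneg (u : G) (hu : u ≠ 1)
    (h : ∀ χ : IrrCharacter G, (χ : G → ℂ) ≠ (fun _ => (1 : ℂ)) →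
      ∃ r : ℝ, 0 ≤ r ∧ (χ : G → ℂ) 1 * (χ : G → ℂ) u = (r : ℂ)) : False := by
  classical
  haveI : Fintype (IrrCharacter G) := Fintype.ofFinite _
  have h' : ∀ χ : IrrCharacter G, ∃ r : ℝ, ((χ : G → ℂ) = (fun _ => (1 : ℂ)) → r = 1) ∧ 0 ≤ r ∧
      (χ : G → ℂ) 1 * (χ : G → ℂ) u = (r : ℂ) := by
    intro χ
    by_cases hχ : (χ : G → ℂ) = (fun _ => (1 : ℂ))
    · exact ⟨1, fun _ => rfl, zero_le_one, by rw [hχ]; simp⟩
    · obtain ⟨r, hr, hr'⟩ := h χ hχ
      exact ⟨r, fun h => absurd h hχ, hr, hr'⟩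
  choose a ha1 ha0 ha using h'
  have hsum := sum_real u hu a ha
  have h1 : a (trivChar G) = 1 := ha1 _ rfl
  have h2 : a (trivChar G) ≤ ∑ χ : IrrCharacter G, a χ :=
    Finset.single_le_sum (fun χ _ => ha0 χ) (Finset.mem_univ _)
  linarith

theorem zero_of_two (u : G) (hu : u ≠ 1) (χ₁ : IrrCharacter G)
    (hχ₁ : (χ₁ : G → ℂ) ≠ (fun _ => (1 : ℂ)))
    (h1 : (χ₁ : G → ℂ) 1 * (χ₁ : G → ℂ) u = -1)
    (h : ∀ χ : IrrCharacter G, (χ : G → ℂ) ≠ (fun _ => (1 : ℂ)) → χ ≠ χ₁ →
      ∃ r : ℝ, 0 ≤ r ∧ (χ : G → ℂ) 1 * (χ : G → ℂ) u = (r : ℂ)) :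
    ∀ χ : IrrCharacter G, (χ : G → ℂ) ≠ (fun _ => (1 : ℂ)) → χ ≠ χ₁ →
      (χ : G → ℂ) 1 * (χ : G → ℂ) u = 0 := by
  classical
  haveI : Fintype (IrrCharacter G) := Fintype.ofFinite _
  have h' : ∀ χ : IrrCharacter G, ∃ r : ℝ, ((χ : G → ℂ) = (fun _ => (1 : ℂ)) → r = 1) ∧
      (χ = χ₁ → r = -1) ∧ ((χ : G → ℂ) ≠ (fun _ => (1 : ℂ)) → χ ≠ χ₁ → 0 ≤ r) ∧
      (χ : G → ℂ) 1 * (χ : G → ℂ) u = (r : ℂ) := by
    intro χ
    by_cases hχ : (χ : G → ℂ) = (fun _ => (1 : ℂ))
    · refine ⟨1, fun _ => rfl, ?_, fun h => absurd hχ h, by rw [hχ]; simp⟩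
      intro h
      rw [h] at hχ
      exact absurd hχ hχ₁
    · by_cases hχ' : χ = χ₁
      · exact ⟨-1, fun h => absurd h hχ, fun _ => rfl, fun _ h => absurd hχ' h,
          by rw [hχ', h1]; simp⟩
      · obtain ⟨r, hr, hr'⟩ := h χ hχ hχ'
        exact ⟨r, fun h => absurd h hχ, fun h => absurd h hχ', fun _ _ => hr, hr'⟩
  choose a ha1 ha2 ha0 ha using h'
  have hsum := sum_real u hu a ha
  set t := trivChar G with ht
  have ht1 : χ₁ ≠ t := by
    intro h
    apply hχ₁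
    rw [h]; rfl
  have hsplit : ∑ χ : IrrCharacter G, a χ
      = a t + (a χ₁ + ∑ χ ∈ (Finset.univ.erase t).erase χ₁, a χ) := by
    rw [Finset.add_sum_erase (Finset.univ.erase t) a
      (Finset.mem_erase.mpr ⟨ht1, Finset.mem_univ _⟩),
      Finset.add_sum_erase Finset.univ a (Finset.mem_univ t)]
  rw [hsplit, ha1 t rfl, ha2 χ₁ rfl] at hsum
  have hrest : ∑ χ ∈ (Finset.univ.erase t).erase χ₁, a χ = 0 := by linarith
  have hnn : ∀ χ ∈ (Finset.univ.erase t).erase χ₁, 0 ≤ a χ := by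
    intro χ hχ
    rw [Finset.mem_erase, Finset.mem_erase] at hχ
    apply ha0 χ _ hχ.1
    intro h; apply hχ.2.1; exact Subtype.ext h
  have hz := (Finset.sum_eq_zero_iff_of_nonneg hnn).mp hrest
  intro χ hχ hχ'
  have hmem : χ ∈ (Finset.univ.erase t).erase χ₁ := by
    rw [Finset.mem_erase, Finset.mem_erase]
    exact ⟨hχ', fun h => hχ (by rw [h]; rfl), Finset.mem_univ _⟩
  rw [ha χ, hz χ hmem]; simp

theorem linChar_ne (μ : G →* ℂˣ) (hμ : μ ≠ 1) :
    ((linChar μ : IrrCharacter G) : G → ℂ) ≠ (fun _ => (1 : ℂ)) := by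
  intro h
  apply hμ
  ext g
  have h1 := congrFun h g
  simpa [linChar] using h1

theorem lin_val (u : G) (c : ℂ)
    (hyp : ∀ χ : Cfsg.IrrCharacter G, (χ : G → ℂ) ≠ (fun _ => (1 : ℂ)) →
      ((χ : G → ℂ) 1 - (χ : G → ℂ) u = c ∨ (χ : G → ℂ) u = 0))
    (μ : G →* ℂˣ) (hμ : μ ≠ 1) : 1 - ((μ u : ℂˣ) : ℂ) = c := by
  rcases hyp (linChar μ) (linChar_ne μ hμ) with h | h
  · simpa [linChar] using h
  · exact absurd h (Units.ne_zero _)

theorem exists_hom_ne_one (h : commutator G ≠ ⊤) : ∃ μ : G →* ℂˣ, μ ≠ 1 := by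
  have hnt : ∃ a : Abelianization G, a ≠ 1 := by
    by_contra hcon
    apply h
    rw [eq_top_iff]
    intro g _
    have h1 : Abelianization.of g = 1 := by
      by_contra h2
      exact hcon ⟨_, h2⟩
    have h3 : g ∈ (Abelianization.of : G →* Abelianization G).ker := MonoidHom.mem_ker.mpr h1
    rwa [Abelianization.ker_of] at h3
  obtain ⟨a, ha⟩ := hnt
  obtain ⟨φ, hφ⟩ := CommGroup.exists_apply_ne_one_of_hasEnoughRootsOfUnity (Abelianization G) ℂ ha
  refine ⟨φ.comp Abelianization.of, ?_⟩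
  intro h1
  obtain ⟨g, rfl⟩ := QuotientGroup.mk_surjective a
  apply hφ
  have h2 : (φ.comp Abelianization.of) g = (1 : G →* ℂˣ) g := DFunLike.congr_fun h1 g
  exact h2

theorem hom_eq_one_of_perfect (h : commutator G = ⊤) (μ : G →* ℂˣ) : μ = 1 := by
  have h1 := Abelianization.commutator_subset_ker μ
  rw [h] at h1
  ext g
  have hg : g ∈ μ.ker := h1 (Subgroup.mem_top g)
  simp [MonoidHom.mem_ker.mp hg]

theorem not_perfect_data (u : G) (hu : u ≠ 1) (c : ℂ)
    (hyp : ∀ χ : Cfsg.IrrCharacter G, (χ : G → ℂ) ≠ (fun _ => (1 : ℂ)) →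
      ((χ : G → ℂ) 1 - (χ : G → ℂ) u = c ∨ (χ : G → ℂ) u = 0))
    (h : commutator G ≠ ⊤) :
    c = 2 ∧ ∃ μ : G →* ℂˣ, μ ≠ 1 ∧ μ * μ = 1 ∧ ((μ u : ℂˣ) : ℂ) = -1 := by
  obtain ⟨μ, hμ⟩ := exists_hom_ne_one h
  have hc0 : c ≠ 0 := by
    intro hc
    apply no_nonneg u hu
    intro χ hχ
    obtain ⟨n, hn, hn1⟩ := irr_apply_one χ.2
    rcases hyp χ hχ with h1 | h1
    · refine ⟨(n : ℝ) * n, by positivity, ?_⟩
      rw [hc, sub_eq_zero] at h1
      rw [← h1, hn1]; push_cast; ring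
    · exact ⟨0, le_refl _, by rw [h1]; simp⟩
  have h1 := lin_val u c hyp μ hμ
  have hsq : μ * μ = 1 := by
    by_contra hne
    have h2 := lin_val u c hyp (μ * μ) hne
    apply hc0
    have h3 : ((μ u : ℂˣ) : ℂ) * (μ u : ℂˣ) = (μ u : ℂˣ) := by
      have h4 : (((μ * μ) u : ℂˣ) : ℂ) = ((μ u : ℂˣ) : ℂ) * (μ u : ℂˣ) := by simp
      rw [h4] at h2
      linear_combination h1 - h2
    have h4 : ((μ u : ℂˣ) : ℂ) = 1 := by
      have hne0 : ((μ u : ℂˣ) : ℂ) ≠ 0 := Units.ne_zero _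
      exact mul_left_cancel₀ hne0 (by rw [h3, mul_one])
    rw [← h1, h4]; ring
  have hu2 : ((μ u : ℂˣ) : ℂ) * (μ u : ℂˣ) = 1 := by
    have h5 := DFunLike.congr_fun hsq u
    have h6 : (((μ * μ) u : ℂˣ) : ℂ) = 1 := by rw [h5]; simp
    simpa using h6
  have hune : ((μ u : ℂˣ) : ℂ) ≠ 1 := by
    intro h6; apply hc0; rw [← h1, h6]; ring
  have hum : ((μ u : ℂˣ) : ℂ) = -1 := by
    have h7 : (((μ u : ℂˣ) : ℂ) - 1) * (((μ u : ℂˣ) : ℂ) + 1) = 0 := by linear_combination hu2
    rcases mul_eq_zero.mp h7 with h8 | h8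
    · exact absurd (sub_eq_zero.mp h8) hune
    · linear_combination h8
  exact ⟨by rw [← h1, hum]; ring, μ, hμ, hsq, hum⟩

theorem not_perfect_of_two (u : G) (hu : u ≠ 1)
    (hyp : ∀ χ : Cfsg.IrrCharacter G, (χ : G → ℂ) ≠ (fun _ => (1 : ℂ)) →
      ((χ : G → ℂ) 1 - (χ : G → ℂ) u = 2 ∨ (χ : G → ℂ) u = 0)) :
    commutator G ≠ ⊤ := by
  intro hperf
  apply no_nonneg u hu
  intro χ hχ
  obtain ⟨n, hn, hn1⟩ := irr_apply_one χ.2
  have hn2 : 2 ≤ n := by
    by_contra hlt
    have hn' : n = 1 := by omega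
    rw [hn'] at hn1
    obtain ⟨μ, hμ⟩ := hom_of_irr_deg_one χ.2 (by simpa using hn1)
    apply hχ
    rw [hμ, hom_eq_one_of_perfect hperf μ]
    funext g; simp
  rcases hyp χ hχ with h1 | h1
  · refine ⟨(n : ℝ) * (n - 2), ?_, ?_⟩
    · have h2 : (2 : ℝ) ≤ n := by exact_mod_cast hn2
      exact mul_nonneg (by linarith) (by linarith)
    · have h3 : (χ : G → ℂ) u = n - 2 := by rw [hn1] at h1; linear_combination -h1
      rw [h3, hn1]; push_cast; ring
  · exact ⟨0, le_refl _, by rw [h1]; simp⟩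

theorem a_of_data (u : G) (hu : u ≠ 1)
    (hyp : ∀ χ : Cfsg.IrrCharacter G, (χ : G → ℂ) ≠ (fun _ => (1 : ℂ)) →
      ((χ : G → ℂ) 1 - (χ : G → ℂ) u = 2 ∨ (χ : G → ℂ) u = 0))
    (μ : G →* ℂˣ) (hμ : μ ≠ 1) (hsq : μ * μ = 1) (hμu : ((μ u : ℂˣ) : ℂ) = -1) :
    orderOf u = 2 ∧ Subgroup.zpowers u ⊔ Cfsg.oddCore G = ⊤ ∧
      Subgroup.centralizer ({u} : Set G) = Subgroup.zpowers u := by
  classical
  haveI : Fintype (IrrCharacter G) := Fintype.ofFinite _
  have hvan : ∀ χ : IrrCharacter G, (χ : G → ℂ) ≠ (fun _ => (1 : ℂ)) → χ ≠ linChar μ →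
      (χ : G → ℂ) u = 0 := by
    have hz := zero_of_two u hu (linChar μ) (linChar_ne μ hμ) (by simp [linChar, hμu]) ?_
    · intro χ hχ hχ'
      have h0 := hz χ hχ hχ'
      obtain ⟨n, hn, hn1⟩ := irr_apply_one χ.2
      rw [hn1] at h0
      rcases mul_eq_zero.mp h0 with h | h
      · exact absurd (by exact_mod_cast h) hn.ne'
      · exact h
    · intro χ hχ hχ'
      obtain ⟨n, hn, hn1⟩ := irr_apply_one χ.2
      have hn2 : 2 ≤ n := by
        by_contra hlt
        have hn' : n = 1 := by omega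
        rw [hn'] at hn1
        obtain ⟨ν, hν⟩ := hom_of_irr_deg_one χ.2 (by simpa using hn1)
        have hν1 : ν ≠ 1 := by
          intro h; apply hχ; rw [hν, h]; funext g; simp
        have hνμ : ν ≠ μ := by
          intro h; apply hχ'; apply Subtype.ext; rw [hν, h]; rfl
        have h1 := lin_val u 2 hyp ν hν1
        have hprod : μ * ν = 1 := by
          by_contra hne
          have h2 := lin_val u 2 hyp (μ * ν) hne
          have h4 : (((μ * ν) u : ℂˣ) : ℂ) = ((μ u : ℂˣ) : ℂ) * (ν u : ℂˣ) := by simp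
          rw [h4, hμu] at h2
          have h5 : ((ν u : ℂˣ) : ℂ) = -1 := by linear_combination -h1
          rw [h5] at h2
          norm_num at h2
        apply hνμ
        have h6 : μ * ν = μ * μ := by rw [hprod, hsq]
        exact mul_left_cancel h6
      rcases hyp χ hχ with h1 | h1
      · refine ⟨(n : ℝ) * (n - 2), ?_, ?_⟩
        · have h2 : (2 : ℝ) ≤ n := by exact_mod_cast hn2
          exact mul_nonneg (by linarith) (by linarith)
        · have h3 : (χ : G → ℂ) u = n - 2 := by rw [hn1] at h1; linear_combination -h1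
          rw [h3, hn1]; push_cast; ring
      · exact ⟨0, le_refl _, by rw [h1]; simp⟩
  have hcard : Nat.card (Subgroup.centralizer ({u} : Set G)) = 2 := by
    have h1 := sum_norm_sq u
    have ht1 : trivChar G ≠ linChar μ := by
      intro h
      apply linChar_ne μ hμ
      rw [← h]; rfl
    rw [Fintype.sum_eq_add (trivChar G) (linChar μ) ht1] at h1
    · have h2 : ((trivChar G : IrrCharacter G) : G → ℂ) u = 1 := rfl
      have h3 : ((linChar μ : IrrCharacter G) : G → ℂ) u = -1 := hμu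
      rw [h2, h3] at h1
      have h4 : ((2 : ℕ) : ℂ) = (Nat.card (Subgroup.centralizer ({u} : Set G)) : ℂ) := by
        rw [← h1]; simp; norm_num
      exact_mod_cast h4.symm
    · intro χ ⟨hχ1, hχ2⟩
      rw [hvan χ (fun h => hχ1 (Subtype.ext h)) hχ2, zero_mul]
  have hzle : Subgroup.zpowers u ≤ Subgroup.centralizer ({u} : Set G) := by
    rw [Subgroup.zpowers_le, Subgroup.mem_centralizer_iff]
    intro h hh
    rw [Set.mem_singleton_iff] at hh
    rw [hh]
  have hord : orderOf u = 2 := by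
    have h1 : orderOf u ∣ 2 := by
      rw [← hcard, ← Nat.card_zpowers]
      exact Subgroup.card_dvd_of_le hzle
    rcases (Nat.dvd_prime Nat.prime_two).mp h1 with h | h
    · exact absurd (orderOf_eq_one_iff.mp h) hu
    · exact h
  have hcent : Subgroup.centralizer ({u} : Set G) = Subgroup.zpowers u := by
    symm
    apply Subgroup.eq_of_le_of_card_ge hzle
    rw [hcard, Nat.card_zpowers, hord]
  have huu : u * u = 1 := by
    have h1 := pow_orderOf_eq_one u
    rw [hord, pow_two] at h1; exact h1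
  have hui : u⁻¹ = u := inv_eq_of_mul_eq_one_left huu
  have hzp : ∀ x ∈ Subgroup.zpowers u, x = 1 ∨ x = u := by
    intro x hx
    obtain ⟨k, rfl⟩ := Subgroup.mem_zpowers_iff.mp hx
    rcases Int.emod_two_eq_zero_or_one k with h | h
    · left
      rw [← zpow_mod_orderOf, hord]
      norm_num [h]
    · right
      rw [← zpow_mod_orderOf, hord]
      norm_num [h]
  set K : Subgroup G := μ.ker with hK
  have huK : u ∉ K := by
    intro h
    have h1 : μ u = 1 := MonoidHom.mem_ker.mp h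
    rw [h1] at hμu
    norm_num at hμu
  have hKodd : ¬ 2 ∣ Nat.card K := by
    intro h2
    haveI : Fact (Nat.Prime 2) := ⟨Nat.prime_two⟩
    obtain ⟨t, ht⟩ := exists_prime_orderOf_dvd_card' 2 h2
    let f : K → K := fun k => ⟨(k : G)⁻¹ * (u * (k : G) * u⁻¹), by
      show (k : G)⁻¹ * (u * (k : G) * u⁻¹) ∈ μ.ker
      rw [MonoidHom.mem_ker]
      have h3 : μ (k : G) = 1 := MonoidHom.mem_ker.mp k.2
      simp [map_mul, map_inv, h3]⟩
    have hf : Function.Injective f := by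
      intro k k' hkk
      have h1 : (k : G)⁻¹ * (u * (k : G) * u⁻¹) = (k' : G)⁻¹ * (u * (k' : G) * u⁻¹) :=
        congrArg Subtype.val hkk
      have h2 : ((k' : G) * (k : G)⁻¹) ∈ Subgroup.centralizer ({u} : Set G) := by
        rw [Subgroup.mem_centralizer_iff]
        intro h hh
        rw [Set.mem_singleton_iff] at hh
        subst hh
        have h3 : (k : G)⁻¹ * h * k = (k' : G)⁻¹ * h * k' := by
          calc (k : G)⁻¹ * h * k = (k : G)⁻¹ * (h * k * h⁻¹) * h := by group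
            _ = (k' : G)⁻¹ * (h * k' * h⁻¹) * h := by rw [h1]
            _ = (k' : G)⁻¹ * h * k' := by group
        calc h * ((k' : G) * (k : G)⁻¹) = k' * ((k' : G)⁻¹ * h * k') * (k : G)⁻¹ := by group
          _ = k' * ((k : G)⁻¹ * h * k) * (k : G)⁻¹ := by rw [h3]
          _ = (k' : G) * (k : G)⁻¹ * h := by group
      rw [hcent] at h2
      have h4 : ((k' : G) * (k : G)⁻¹) ∈ K := K.mul_mem k'.2 (K.inv_mem k.2)
      rcases hzp _ h2 with h5 | h5
      · apply Subtype.ext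
        exact (mul_inv_eq_one.mp h5).symm
      · rw [h5] at h4; exact absurd h4 huK
    obtain ⟨k, hk⟩ := (Finite.injective_iff_surjective.mp hf) t
    have ht2 : (t : G) * (t : G) = 1 := by
      have h1 := pow_orderOf_eq_one t
      rw [ht, pow_two] at h1
      exact congrArg Subtype.val h1
    have htk : (t : G) = (k : G)⁻¹ * (u * (k : G) * u⁻¹) := (congrArg Subtype.val hk).symm
    have e1 : u⁻¹ * ((k : G)⁻¹ * (u * (k : G) * u⁻¹)) * u
        = ((k : G)⁻¹ * (u⁻¹ * (k : G) * u))⁻¹ := by group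
    rw [hui] at e1 htk
    rw [← htk] at e1
    have hti : (t : G)⁻¹ = t := inv_eq_of_mul_eq_one_left ht2
    rw [hti] at e1
    have htc : (t : G) ∈ Subgroup.centralizer ({u} : Set G) := by
      rw [Subgroup.mem_centralizer_iff]
      intro h hh
      rw [Set.mem_singleton_iff] at hh
      subst hh
      calc h * (t : G) = h * t * h * h⁻¹ := by group
        _ = t * h⁻¹ := by rw [e1]
        _ = t * h := by rw [hui]
    rw [hcent] at htc
    rcases hzp _ htc with h5 | h5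
    · have h6 : t = 1 := Subtype.ext h5
      rw [h6, orderOf_one] at ht
      norm_num at ht
    · exact huK (h5 ▸ t.2)
  have hKO : K ≤ oddCore G := by
    apply le_pPrimeCore 2 (MonoidHom.normal_ker μ)
    exact ((Nat.Prime.coprime_iff_not_dvd Nat.prime_two).mpr hKodd).symm
  refine ⟨hord, ?_, hcent⟩
  rw [eq_top_iff]
  intro g _
  have hg2 : ((μ g : ℂˣ) : ℂ) * (μ g : ℂˣ) = 1 := by
    have h5 := DFunLike.congr_fun hsq g
    have h6 : (((μ * μ) g : ℂˣ) : ℂ) = 1 := by rw [h5]; simp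
    simpa using h6
  have h7 : (((μ g : ℂˣ) : ℂ) - 1) * (((μ g : ℂˣ) : ℂ) + 1) = 0 := by linear_combination hg2
  rcases mul_eq_zero.mp h7 with h8 | h8
  · have h9 : g ∈ K := by
      rw [hK, MonoidHom.mem_ker]
      apply Units.ext
      rw [sub_eq_zero.mp h8]; simp
    exact Subgroup.mem_sup_right (hKO h9)
  · have hg1 : ((μ g : ℂˣ) : ℂ) = -1 := by linear_combination h8
    have h9 : u⁻¹ * g ∈ K := by
      rw [hK, MonoidHom.mem_ker]
      apply Units.ext
      rw [map_mul, map_inv, Units.val_mul, Units.val_inv_eq_inv_val, hμu, hg1]; norm_num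
    have h10 : g = u * (u⁻¹ * g) := by group
    rw [h10]
    exact Subgroup.mul_mem_sup (Subgroup.mem_zpowers u) (hKO h9)

theorem not_perfect_of_a (u : G) (h2 : orderOf u = 2)
    (hsup : Subgroup.zpowers u ⊔ Cfsg.oddCore G = ⊤) : commutator G ≠ ⊤ := by
  intro hperf
  haveI hO : (oddCore G).Normal := Cfsg.Agent.Lib.Helper1.pPrimeCore_normal 2
  have hcop := pPrimeCore_coprime (G := G) 2
  have hle : commutator G ≤ oddCore G := by
    rw [commutator_def, Subgroup.commutator_le]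
    intro a _ b _
    have hrep : ∀ g : G, ∃ k : ℤ,
        (QuotientGroup.mk g : G ⧸ oddCore G) = (QuotientGroup.mk u) ^ k := by
      intro g
      have hg : g ∈ ((Subgroup.zpowers u ⊔ oddCore G : Subgroup G) : Set G) := by
        rw [hsup]; trivial
      rw [Subgroup.mul_normal] at hg
      obtain ⟨y, hy, z, hz, rfl⟩ := Set.mem_mul.mp hg
      obtain ⟨k, rfl⟩ := Subgroup.mem_zpowers_iff.mp hy
      refine ⟨k, ?_⟩
      rw [QuotientGroup.mk_mul, (QuotientGroup.eq_one_iff z).mpr hz, mul_one,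
        QuotientGroup.mk_zpow]
    obtain ⟨i, hi⟩ := hrep a
    obtain ⟨j, hj⟩ := hrep b
    rw [← QuotientGroup.eq_one_iff]
    have h3 : (QuotientGroup.mk ⁅a, b⁆ : G ⧸ oddCore G)
        = ⁅(QuotientGroup.mk a : G ⧸ oddCore G), QuotientGroup.mk b⁆ := by
      simp [commutatorElement_def]
    rw [h3, hi, hj, commutatorElement_eq_one_iff_commute]
    exact Commute.zpow_zpow_self _ i j
  rw [hperf, top_le_iff] at hle
  have hu : u ∈ oddCore G := by rw [hle]; trivial
  have hdvd : orderOf u ∣ Nat.card (oddCore G) := Subgroup.orderOf_dvd_natCard _ hu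
  rw [h2] at hdvd
  have h4 := Nat.Coprime.eq_one_of_dvd hcop.symm hdvd
  omega

end aux

/-- Let u ≠ 1 be an element of the finite group G and c a complex number such that every non-principal irreducible character χ satisfies χ(1) − χ(u) = c or χ(u) = 0. Then the following are equivalent: (a) u has order 2, G is generated by u together with O(G), the largest normal subgroup of G of odd order, and the centralizer of u is {1, u}; (b) G is not perfect; (c) c = 2. -/
theorem result {G : Type*} [Group G] [Finite G] (u : G) (hu : u ≠ 1) (c : ℂ) (hyp : ∀ χ : Cfsg.IrrCharacter G, (χ : G → ℂ) ≠ (fun _ => (1 : ℂ)) → ((χ : G → ℂ) 1 - (χ : G → ℂ) u = c ∨ (χ : G → ℂ) u = 0)) : ((orderOf u = 2 ∧ Subgroup.zpowers u ⊔ Cfsg.oddCore G = ⊤ ∧ Subgroup.centralizer ({u} : Set G) = Subgroup.zpowers u) ↔ commutator G ≠ ⊤) ∧ (commutator G ≠ ⊤ ↔ c = 2) := by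
  classical
  haveI : Fintype G := Fintype.ofFinite G
  refine ⟨⟨fun ⟨h2, hsup, _⟩ => not_perfect_of_a u h2 hsup, fun h => ?_⟩,
    ⟨fun h => (not_perfect_data u hu c hyp h).1, fun h => ?_⟩⟩
  · obtain ⟨hc, μ, hμ, hsq, hμu⟩ := not_perfect_data u hu c hyp h
    subst hc
    exact a_of_data u hu hyp μ hμ hsq hμu
  · subst h
    exact not_perfect_of_two u hu hyp

end Cfsg.Agent.S4757
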