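import Mathlib
import Cfsg.Statements.S0191
import Cfsg.Agent.Lib.Helper2.CharGalois
import Cfsg.Agent.Lib.Helper2.CharBridge

set_option autoImplicit false
open Cfsg

namespace Cfsg.Agent.S0191

open Cfsg.Agent.Lib.Helper2

open Representation Module
open scoped ComplexConjugate

section aux

theorem sum_ge_card_of_prod_ge_one {ι : Type*} [Fintype ι] [Nonempty ι] (z : ι → ℝ)
    (hz : ∀ i, 0 ≤ z i) (hprod : 1 ≤ ∏ i, z i) : (Fintype.card ι : ℝ) ≤ ∑ i, z i := by
  have hc : (0 : ℝ) < Fintype.card ι := by exact_mod_cast Fintype.card_pos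
  have h := Real.geom_mean_le_arith_mean_weighted Finset.univ
    (fun _ => (Fintype.card ι : ℝ)⁻¹) z (fun i _ => by positivity)
    (by
      rw [Finset.sum_const, Finset.card_univ, nsmul_eq_mul]
      field_simp) (fun i _ => hz i)
  rw [Real.finsetProd_rpow _ _ (fun i _ => hz i), ← Finset.mul_sum] at h
  have h1 : (1 : ℝ) ≤ (∏ i, z i) ^ (Fintype.card ι : ℝ)⁻¹ :=
    Real.one_le_rpow hprod (by positivity)
  have h2 : 1 ≤ (Fintype.card ι : ℝ)⁻¹ * ∑ i, z i := h1.trans h
  calc (Fintype.card ι : ℝ) = Fintype.card ι * 1 := (mul_one _).symm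
    _ ≤ Fintype.card ι * ((Fintype.card ι : ℝ)⁻¹ * ∑ i, z i) :=
        mul_le_mul_of_nonneg_left h2 hc.le
    _ = ∑ i, z i := by field_simp

variable {G : Type*} [Group G] [Fintype G]
variable {V : Type*} [AddCommGroup V] [Module ℂ V] [FiniteDimensional ℂ V]

theorem sum_norm_sq (ρ : Representation ℂ G V) [ρ.IsIrreducible] :
    ∑ g : G, ‖ρ.character g‖ ^ 2 = (Nat.card G : ℝ) := by
  have hirr := isIrrCharacter_of_rep ρ
  have h1 := classInner_irr_self hirr
  rw [classInner_def] at h1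
  have hne := card_ne_zero_complex G
  have h2 : ∑ g : G, ρ.character g * conj (ρ.character g) = (Nat.card G : ℂ) := by
    calc ∑ g : G, ρ.character g * conj (ρ.character g)
        = (Nat.card G : ℂ) * ((Nat.card G : ℂ)⁻¹ * ∑ g : G, ρ.character g * conj (ρ.character g)) := by
          field_simp
      _ = (Nat.card G : ℂ) := by rw [h1, mul_one]
  have h3 : ((∑ g : G, ‖ρ.character g‖ ^ 2 : ℝ) : ℂ) = (Nat.card G : ℂ) := by
    rw [← h2]
    push_cast
    apply Finset.sum_congr rfl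
    intro g _
    rw [Complex.mul_conj, Complex.normSq_eq_norm_sq]
    push_cast
    ring
  exact_mod_cast h3

end aux


/-- An irreducible complex representation of a finite group of degree greater than 1 has a character that vanishes somewhere. -/
theorem result {G : Type*} [Group G] [Finite G] {V : Type*} [AddCommGroup V] [Module ℂ V] [FiniteDimensional ℂ V] (ρ : Representation ℂ G V) [ρ.IsIrreducible] (hdeg : 1 < Module.finrank ℂ V) : ∃ g : G, ρ.character g = 0 := by
  classical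
  have := Fintype.ofFinite G
  by_contra hno
  push Not at hno
  have hnz : NeZero (Nat.card G) := ⟨Nat.card_pos.ne'⟩
  have hm : ∀ σ : CycK (Nat.card G) ≃ₐ[ℚ] CycK (Nat.card G),
      ∃ m : ℕ, m.Coprime (Nat.card G) ∧ σ (cycZeta (Nat.card G)) = cycZeta (Nat.card G) ^ m :=
    aut_zeta (Nat.card G)
  choose m hmcop hmσ using hm
  have hΓne : Nonempty (CycK (Nat.card G) ≃ₐ[ℚ] CycK (Nat.card G)) := ⟨AlgEquiv.refl⟩
  have hkey : ∀ g : G, (Fintype.card (CycK (Nat.card G) ≃ₐ[ℚ] CycK (Nat.card G)) : ℝ)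
      ≤ ∑ σ : CycK (Nat.card G) ≃ₐ[ℚ] CycK (Nat.card G), ‖ρ.character (g ^ m σ)‖ ^ 2 := by
    intro g
    obtain ⟨x, hx1, hx⟩ := char_lift_self (Nat.card G) ρ g (orderOf_dvd_natCard g)
    have hxint : IsIntegral ℤ x := by
      have h1 := char_isIntegral ρ g
      rw [← hx1] at h1
      exact (isIntegral_algHom_iff ((cycEmb (Nat.card G)).restrictScalars ℤ)
        (cycEmb_injective (Nat.card G))).mp h1
    have hx0 : x ≠ 0 := by
      intro e
      apply hno g
      rw [← hx1, e, map_zero]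
    obtain ⟨k, hk⟩ := IsIntegrallyClosed.isIntegral_iff.mp (Algebra.isIntegral_norm ℚ hxint)
    have hk0 : k ≠ 0 := by
      intro e
      rw [e] at hk
      have h2 : Algebra.norm ℚ x = 0 := by
        rw [← hk]
        simp
      exact hx0 (Algebra.norm_eq_zero_iff.mp h2)
    have hprodC := congrArg (cycEmb (Nat.card G)) (Algebra.norm_eq_prod_automorphisms ℚ x)
    rw [map_prod] at hprodC
    have hL : cycEmb (Nat.card G) (algebraMap ℚ (CycK (Nat.card G)) (Algebra.norm ℚ x))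
        = (k : ℂ) := by
      rw [AlgHom.commutes, ← hk]
      simp
    rw [hL] at hprodC
    have hprodnorm : (1 : ℝ)
        ≤ ∏ σ : CycK (Nat.card G) ≃ₐ[ℚ] CycK (Nat.card G), ‖ρ.character (g ^ m σ)‖ ^ 2 := by
      have h1 : ∏ σ : CycK (Nat.card G) ≃ₐ[ℚ] CycK (Nat.card G), ‖ρ.character (g ^ m σ)‖
          = ‖(k : ℂ)‖ := by
        rw [hprodC, norm_prod]
        apply Finset.prod_congr rfl
        intro σ _
        rw [hx σ (m σ) (hmσ σ)]
      rw [Finset.prod_pow, h1, Complex.norm_intCast]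
      have h2 : (1 : ℝ) ≤ |(k : ℝ)| := by
        have h3 : (1 : ℤ) ≤ |k| := Int.one_le_abs hk0
        exact_mod_cast h3
      nlinarith [h2]
    exact sum_ge_card_of_prod_ge_one _ (fun σ => by positivity) hprodnorm
  have hΓpos : (0 : ℝ) < (Fintype.card (CycK (Nat.card G) ≃ₐ[ℚ] CycK (Nat.card G)) : ℝ) := by
    exact_mod_cast Fintype.card_pos
  have htotal : ∑ g : G, ∑ σ : CycK (Nat.card G) ≃ₐ[ℚ] CycK (Nat.card G),
      ‖ρ.character (g ^ m σ)‖ ^ 2
      = (Fintype.card (CycK (Nat.card G) ≃ₐ[ℚ] CycK (Nat.card G)) : ℝ) * (Nat.card G : ℝ) := by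
    rw [Finset.sum_comm]
    have hinner : ∀ σ : CycK (Nat.card G) ≃ₐ[ℚ] CycK (Nat.card G),
        ∑ g : G, ‖ρ.character (g ^ m σ)‖ ^ 2 = (Nat.card G : ℝ) := by
      intro σ
      have hcop : (Nat.card G).Coprime (m σ) := (hmcop σ).symm
      rw [← sum_norm_sq ρ]
      exact Fintype.sum_equiv (powCoprime hcop) _ _ (fun g => rfl)
    simp only [hinner]
    rw [Finset.sum_const, Finset.card_univ, nsmul_eq_mul]
  have hlower : (Fintype.card (CycK (Nat.card G) ≃ₐ[ℚ] CycK (Nat.card G)) : ℝ) * (Nat.card G : ℝ)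
      < ∑ g : G, ∑ σ : CycK (Nat.card G) ≃ₐ[ℚ] CycK (Nat.card G),
        ‖ρ.character (g ^ m σ)‖ ^ 2 := by
    rw [← Finset.add_sum_erase Finset.univ _ (Finset.mem_univ (1 : G))]
    have h1 : ∑ σ : CycK (Nat.card G) ≃ₐ[ℚ] CycK (Nat.card G),
        ‖ρ.character ((1 : G) ^ m σ)‖ ^ 2
        = (Fintype.card (CycK (Nat.card G) ≃ₐ[ℚ] CycK (Nat.card G)) : ℝ)
          * (finrank ℂ V : ℝ) ^ 2 := by
      simp only [one_pow, Representation.char_one, Complex.norm_natCast]
      rw [Finset.sum_const, Finset.card_univ, nsmul_eq_mul]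
    have h2 : (Fintype.card (CycK (Nat.card G) ≃ₐ[ℚ] CycK (Nat.card G)) : ℝ)
        * ((Nat.card G : ℝ) - 1)
        ≤ ∑ g ∈ Finset.univ.erase (1 : G),
          ∑ σ : CycK (Nat.card G) ≃ₐ[ℚ] CycK (Nat.card G), ‖ρ.character (g ^ m σ)‖ ^ 2 := by
      have h3 : ∑ g ∈ Finset.univ.erase (1 : G),
          (Fintype.card (CycK (Nat.card G) ≃ₐ[ℚ] CycK (Nat.card G)) : ℝ)
          ≤ ∑ g ∈ Finset.univ.erase (1 : G),
            ∑ σ : CycK (Nat.card G) ≃ₐ[ℚ] CycK (Nat.card G), ‖ρ.character (g ^ m σ)‖ ^ 2 :=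
        Finset.sum_le_sum (fun g _ => hkey g)
      rw [Finset.sum_const, Finset.card_erase_of_mem (Finset.mem_univ _), Finset.card_univ,
        nsmul_eq_mul] at h3
      have hc : ((Fintype.card G - 1 : ℕ) : ℝ) = (Nat.card G : ℝ) - 1 := by
        rw [Nat.cast_sub Fintype.card_pos, ← Nat.card_eq_fintype_card]
        simp
      rw [hc] at h3
      linarith [h3]
    rw [h1]
    have hd2 : (2 : ℝ) ≤ (finrank ℂ V : ℝ) := by exact_mod_cast hdeg
    have h4 : (Fintype.card (CycK (Nat.card G) ≃ₐ[ℚ] CycK (Nat.card G)) : ℝ) * 1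
        < (Fintype.card (CycK (Nat.card G) ≃ₐ[ℚ] CycK (Nat.card G)) : ℝ)
          * (finrank ℂ V : ℝ) ^ 2 := by
      apply mul_lt_mul_of_pos_left _ hΓpos
      nlinarith [hd2]
    linarith [h2, h4]
  linarith [htotal, hlower]

end Cfsg.Agent.S0191
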