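import Mathlib
import Cfsg.Statements.S0924
import Cfsg.Agent.Lib.Helper8.SecondMain3
import Cfsg.Agent.S0923

set_option autoImplicit false
open Cfsg

namespace Cfsg.Agent.S0924

open Cfsg.Agent.Lib.Helper8 Cfsg.Agent.Lib.Helper2 Cfsg.Agent.Lib.Helper25

/-- Let χ be an irreducible character of the finite group G and g ∈ G, and fix a maximal ideal M of the algebraic integers containing the prime p. If the p-part of g is contained in no defect group of the block of χ, then χ g = 0. -/
theorem result {G : Type*} [Group G] [Finite G] (p : ℕ) [Fact p.Prime] (M : Ideal Cfsg.AlgInt) (hM : Cfsg.IsPModular p M) (χ : Cfsg.IrrCharacter G) (g x : G) (hx : Cfsg.IsPPart p g x) (hD : ∀ D : Subgroup G, Cfsg.IsDefectGroup p M (Cfsg.blockOf M (χ : G → ℂ)) D → x ∉ D) : (χ : G → ℂ) g = 0 := by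
  classical
  have : Fintype G := Fintype.ofFinite G
  have hpr := isPrime_of_isPModular hM
  obtain ⟨y, hxy, hcomm, hxp, hy⟩ := hx
  have : Fintype (Subgroup.centralizer ({x} : Set G)) := Fintype.ofFinite _
  have : Fintype (IrrCharacter (Subgroup.centralizer ({x} : Set G))) := Fintype.ofFinite _
  have hyC : y ∈ Subgroup.centralizer ({x} : Set G) :=
    Subgroup.mem_centralizer_singleton_iff.mpr hcomm.eq.symm
  have hB : IsPBlock M (blockOf M (χ : G → ℂ)) := ⟨χ, rfl⟩
  have hχB : χ ∈ blockOf M (χ : G → ℂ) := sameBlock_refl M _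
  have hno : ∀ b : Set (IrrCharacter (Subgroup.centralizer ({x} : Set G))),
      ¬ IsInducedBlock M (Subgroup.centralizer ({x} : Set G)) b (blockOf M (χ : G → ℂ)) := by
    intro b hind
    obtain ⟨E, hE, hxE⟩ := mem_defectGroup_of_induced_centralizer hM x hxp b _ hind
    exact hD E hE hxE
  have hcf := isClassFunction_translate x (χ : G → ℂ) (isClassFunction_of_isIrrCharacter χ.2)
  have hsum := sum_blockPart_eq hM _ hcf ⟨y, hyC⟩
  rw [← hxy]
  refine hsum.symm.trans ?_
  apply Finset.sum_eq_zero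
  intro b hb
  obtain ⟨ψ, -, rfl⟩ := Finset.mem_image.mp hb
  exact Cfsg.Agent.S0923.result p M hM x hxp _ hB χ hχB _ ⟨ψ, rfl⟩ (hno _) ⟨y, hyC⟩
    (by rw [← Subgroup.orderOf_coe]; exact hy)

end Cfsg.Agent.S0924
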