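import Mathlib
import Cfsg.Statements.S0969
import Cfsg.Agent.Lib.Helper8.CentralDefect
import Cfsg.Agent.Lib.Helper8.DefectLocal
import Cfsg.Agent.Lib.Helper8.DefectClass
import Cfsg.Agent.Lib.Helper8.SylowAux
import Cfsg.Agent.Lib.Helper8.ElemAux
import Cfsg.Agent.S0924
import Cfsg.Agent.S0912
import Cfsg.Agent.S0908

set_option autoImplicit false
open Cfsg

namespace Cfsg.Agent.S0969

open Cfsg.Agent.Lib.Helper8 Cfsg.Agent.Lib.Helper2 Cfsg.Agent.Lib.Helper25

theorem rat_memLocalIdeal {p : ℕ} {M : Ideal AlgInt} [Fact p.Prime] (hM : IsPModular p M)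
    (N K : ℕ) (hN : N ≠ 0) (hK : K ≠ 0) (h : K.factorization p < N.factorization p) :
    MemLocalIdeal M ((N : ℂ) / (K : ℂ)) := by
  have hpr := isPrime_of_isPModular hM
  have hp : p.Prime := Fact.out
  have h1 : (p * K).factorization p ≤ N.factorization p := by
    rw [Nat.factorization_mul hp.ne_zero hK, Finsupp.add_apply, hp.factorization_self]
    omega
  have h2 := rat_memLocalRing hM N (p * K) hN (mul_ne_zero hp.ne_zero hK) h1
  have h3 : MemLocalIdeal M (p : ℂ) := (memLocalIdeal_natCast_iff hM p).mpr dvd_rfl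
  have hpC : (p : ℂ) ≠ 0 := by exact_mod_cast hp.ne_zero
  have hKC : (K : ℂ) ≠ 0 := by exact_mod_cast hK
  have e : (N : ℂ) / (K : ℂ) = (p : ℂ) * ((N : ℂ) / ((p * K : ℕ) : ℂ)) := by
    push_cast
    field_simp
  rw [e]
  exact MemLocalIdeal.mul_right M h3 h2

/-- Let D be a central p-subgroup of the finite group G and χ an irreducible character with the exponent of p in χ(1) equal to the exponent of p in the index of D; fix a maximal ideal M of the algebraic integers containing p. Then D is a defect group of the block of χ, and χ g = 0 whenever the p-part of g does not lie in D. -/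
theorem result {G : Type*} [Group G] [Finite G] (p : ℕ) [Fact p.Prime] (M : Ideal Cfsg.AlgInt) (hM : Cfsg.IsPModular p M) (D : Subgroup G) (hD : IsPGroup p D) (hDZ : D ≤ Subgroup.center G) (χ : Cfsg.IrrCharacter G) (hdeg : (Cfsg.charDegree (χ : G → ℂ)).factorization p = D.index.factorization p) : Cfsg.IsDefectGroup p M (Cfsg.blockOf M (χ : G → ℂ)) D ∧ ∀ g x : G, Cfsg.IsPPart p g x → x ∉ D → (χ : G → ℂ) g = 0 := by
  classical
  have : Fintype G := Fintype.ofFinite G
  have hpr := isPrime_of_isPModular hM
  have hp : p.Prime := Fact.out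
  have hB : IsPBlock M (blockOf M (χ : G → ℂ)) := ⟨χ, rfl⟩
  have hχB : χ ∈ blockOf M (χ : G → ℂ) := sameBlock_refl M _
  obtain ⟨d, hd, hdeg', hdpos, -, -⟩ := Cfsg.Agent.S0914.irr_degree_data χ
  obtain ⟨h, hh⟩ := exists_value_not_mem hM D hDZ χ hdeg
  have hDn : D.Normal := normal_of_le_center' hDZ
  have hDcore : D ≤ pCore p G := le_pCore' hDn hD
  have hDC : D ≤ Subgroup.centralizer ({h} : Set G) := by
    intro z hz
    rw [Subgroup.mem_centralizer_singleton_iff]
    exact (Subgroup.mem_center_iff.mp (hDZ hz) h).symm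
  have hidxC := index_factorization (p := p) h
  have hcardD0 : Nat.card D ≠ 0 := Nat.card_pos.ne'
  have hidx0 : D.index ≠ 0 := by
    intro h0
    have := Subgroup.card_mul_index D
    rw [h0, mul_zero] at this
    exact Nat.card_pos.ne' this.symm
  have hidxD : D.index.factorization p + (Nat.card D).factorization p
      = (Nat.card G).factorization p := by
    have h1 := Subgroup.card_mul_index D
    rw [← h1, Nat.factorization_mul hcardD0 hidx0, Finsupp.add_apply, add_comm]
  have hcardC0 : Nat.card (Subgroup.centralizer ({h} : Set G)) ≠ 0 := Nat.card_pos.ne'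
  have hDle : (Nat.card D).factorization p
      ≤ (Nat.card (Subgroup.centralizer ({h} : Set G))).factorization p :=
    (Nat.factorization_le_iff_dvd hcardD0 hcardC0).mpr (Subgroup.card_dvd_of_le hDC) p
  have hCidx0 : (Subgroup.centralizer ({h} : Set G)).index ≠ 0 := by
    intro h0
    have := Subgroup.card_mul_index (Subgroup.centralizer ({h} : Set G))
    rw [h0, mul_zero] at this
    exact Nat.card_pos.ne' this.symm
  have hdC : (d : ℂ) ≠ 0 := by exact_mod_cast hdpos.ne'
  have hCidxC : ((Subgroup.centralizer ({h} : Set G)).index : ℂ) ≠ 0 := by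
    exact_mod_cast hCidx0
  rw [hdeg'] at hdeg
  have hge : d.factorization p
      ≤ ((Subgroup.centralizer ({h} : Set G)).index).factorization p := by
    by_contra hlt
    push Not at hlt
    apply hh
    have h1 := rat_memLocalIdeal hM d _ hdpos.ne' hCidx0 hlt
    have h2 := memLocalRing_of_isIntegral M (centralChar_isIntegral χ h)
    have e : (χ : G → ℂ) h = (d : ℂ) / ((Subgroup.centralizer ({h} : Set G)).index : ℂ)
        * centralChar (χ : G → ℂ) h := by
      rw [centralChar_eq_div, hd]
      field_simp
    rw [e]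
    exact MemLocalIdeal.mul_right M h1 h2
  have hCeq : (Nat.card (Subgroup.centralizer ({h} : Set G))).factorization p
      = (Nat.card D).factorization p := by omega
  have hne : ¬ MemLocalIdeal M (centralChar (χ : G → ℂ) h) := by
    intro hmem
    apply hh
    apply char_mem_of_centralChar_mem hM χ h _ hmem
    rw [hdeg']
    omega
  obtain ⟨E, hE⟩ := exists_defectGroup' hM _ hB
  have hcardE := Cfsg.Agent.S0908.result p M hM _ hB E hE
  obtain ⟨y, hy⟩ := defectGroup_le_centralizer_conj hM hB hE h hχB hne
  have hEC : E ≤ Subgroup.centralizer ({y * h * y⁻¹} : Set G) := by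
    intro e he
    rw [Subgroup.mem_centralizer_singleton_iff]
    exact hy e he
  have hdB : blockDefect p (blockOf M (χ : G → ℂ))
      ≤ (Nat.card D).factorization p := by
    have h1 := Subgroup.card_dvd_of_le hEC
    rw [hcardE, card_centralizer_conj] at h1
    rw [← hCeq]
    exact (hp.pow_dvd_iff_le_factorization hcardC0).mp h1
  obtain ⟨δ, hδ⟩ := hD.exists_card_eq
  have hδ' : (Nat.card D).factorization p = δ := by
    rw [hδ, hp.factorization_pow, Finsupp.single_eq_same]
  have hall : ∀ D' : Subgroup G, IsDefectGroup p M (blockOf M (χ : G → ℂ)) D' → D = D' := by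
    intro D' hD'
    have hle : D ≤ D' := hDcore.trans (Cfsg.Agent.S0912.result p M hM _ hB D' hD')
    have hc' := Cfsg.Agent.S0908.result p M hM _ hB D' hD'
    apply Subgroup.eq_of_le_of_card_ge hle
    rw [hc', hδ]
    exact Nat.pow_le_pow_right hp.pos (by omega)
  have hDE : D = E := hall E hE
  refine ⟨by rw [hDE]; exact hE, ?_⟩
  intro g x hx hxD
  apply Cfsg.Agent.S0924.result p M hM χ g x hx
  intro D' hD' hxD'
  rw [← hall D' hD'] at hxD'
  exact hxD hxD'

end Cfsg.Agent.S0969
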