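import Cfsg.Statements.S4437
import Cfsg.Agent.Lib.Helper24.ExtFirstMain
import Cfsg.Agent.S0912

set_option autoImplicit false
open Cfsg

namespace Cfsg.Agent.S4437

open Cfsg.Agent.Lib.Helper2 Cfsg.Agent.Lib.Helper25 Cfsg.Agent.Lib.Helper8 Cfsg.Agent.Lib.Helper24 in
/-- Let P be a p-subgroup of the finite group G, H = P·C_G(P), and b a block of H (relative to a maximal ideal M of the algebraic integers containing p) having P as a defect group; let B be the block of G induced by b. Let T be the stabilizer of b in N_G(P): the elements g of N_G(P) such that the g-conjugate of every member of b is again a member of b. Then B has defect group P if and only if p does not divide the index of H in T. -/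
theorem result {G : Type*} [Group G] [Fintype G] (p : ℕ) [Fact p.Prime] (M : Ideal Cfsg.AlgInt) (hM : Cfsg.IsPModular p M) (P : Subgroup G) (hP : IsPGroup p P) (H : Subgroup G) [Fintype H] (hH : H = P ⊔ Subgroup.centralizer (P : Set G)) (b : Set (Cfsg.IrrCharacter H)) (hb : Cfsg.IsPBlock M b) (hbP : Cfsg.IsDefectGroup p M b (P.subgroupOf H)) (B : Set (Cfsg.IrrCharacter G)) (hind : Cfsg.IsInducedBlock M H b B) (T : Subgroup G) (hT : ∀ g : G, g ∈ T ↔ (g ∈ Subgroup.normalizer (P : Set G) ∧ ∀ θ ∈ b, ∀ θ' : Cfsg.IrrCharacter H, (∀ h h' : H, (h' : G) = g * h * g⁻¹ → (θ' : H → ℂ) h' = (θ : H → ℂ) h) → θ' ∈ b)) : Cfsg.IsDefectGroup p M B P ↔ ¬ p ∣ H.relIndex T := by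
  classical
  subst hH
  have hp : p.Prime := Fact.out
  haveI hpr := isPrime_of_isPModular hM
  have hLN := sup_centralizer_le_normalizer P
  haveI : Fintype ↥(Subgroup.normalizer (P : Set G)) := Fintype.ofFinite _
  haveI : Fintype ↥((P ⊔ Subgroup.centralizer (P : Set G)).subgroupOf
      (Subgroup.normalizer (P : Set G))) := Fintype.ofFinite _
  haveI hKn : ((P ⊔ Subgroup.centralizer (P : Set G)).subgroupOf
      (Subgroup.normalizer (P : Set G))).Normal :=
    (Subgroup.normal_subgroupOf_iff_le_normalizer hLN).mpr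
      (normalizer_le_normalizer_sup_centralizer P)
  have hPN : P ≤ Subgroup.normalizer (P : Set G) := Subgroup.le_normalizer
  haveI hQn : (P.subgroupOf (Subgroup.normalizer (P : Set G))).Normal :=
    (Subgroup.normal_subgroupOf_iff_le_normalizer hPN).mpr le_rfl
  have hQp : IsPGroup p (P.subgroupOf (Subgroup.normalizer (P : Set G))) := hP.comap_subtype
  have hCK : Subgroup.centralizer
      ((P.subgroupOf (Subgroup.normalizer (P : Set G)) : Subgroup _) : Set _)
      ≤ (P ⊔ Subgroup.centralizer (P : Set G)).subgroupOf (Subgroup.normalizer (P : Set G)) := by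
    intro n hn
    rw [Subgroup.mem_subgroupOf]
    apply le_sup_right (α := Subgroup G)
    rw [Subgroup.mem_centralizer_iff]
    intro u hu
    have := Subgroup.mem_centralizer_iff.mp hn ⟨u, hPN hu⟩ (Subgroup.mem_subgroupOf.mpr hu)
    exact congrArg Subtype.val this
  have hQN : P.subgroupOf (Subgroup.normalizer (P : Set G))
      ≤ (P ⊔ Subgroup.centralizer (P : Set G)).subgroupOf (Subgroup.normalizer (P : Set G)) :=
    fun x hx => Subgroup.mem_subgroupOf.mpr
      (le_sup_left (α := Subgroup G) (Subgroup.mem_subgroupOf.mp hx))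
  have hTK : T ≤ Subgroup.normalizer (P : Set G) := fun g hg => ((hT g).mp hg).1
  have hHT : P ⊔ Subgroup.centralizer (P : Set G) ≤ T := by
    intro h hh
    refine (hT h).mpr ⟨hLN hh, fun θ₀ hθ₀ θ'₀ hc => ?_⟩
    have : θ'₀ = θ₀ := by
      apply Subtype.ext
      funext x
      have h1 := hc ((⟨h, hh⟩ : ↥(P ⊔ Subgroup.centralizer (P : Set G)))⁻¹ * x * ⟨h, hh⟩) x
        (by simp [mul_assoc])
      rw [h1]
      have h2 := isClassFunction_of_isIrrCharacter θ₀.2 x
        (⟨h, hh⟩ : ↥(P ⊔ Subgroup.centralizer (P : Set G)))⁻¹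
      rw [inv_inv] at h2
      exact h2
    rw [this]
    exact hθ₀
  obtain ⟨θ, hθ⟩ := isPBlock_nonempty' hM hb
  obtain ⟨ξ, hξ, hβ⟩ := exists_normalizer_block hM P hP B b hind θ hθ
  set φ : ↥(P ⊔ Subgroup.centralizer (P : Set G)) ≃* ↥((P ⊔ Subgroup.centralizer (P : Set G)).subgroupOf
      (Subgroup.normalizer (P : Set G))) := (Subgroup.subgroupOfEquivOfLe hLN).symm with hφ
  set bK : Set (IrrCharacter ↥((P ⊔ Subgroup.centralizer (P : Set G)).subgroupOf
      (Subgroup.normalizer (P : Set G)))) := isoIrr φ '' b with hbKdef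
  have hbK : IsPBlock M bK := isPBlock_image_isoIrr φ hb
  haveI : Fintype ↥(T.subgroupOf (Subgroup.normalizer (P : Set G))) := Fintype.ofFinite _
  have hNTK : (P ⊔ Subgroup.centralizer (P : Set G)).subgroupOf (Subgroup.normalizer (P : Set G))
      ≤ T.subgroupOf (Subgroup.normalizer (P : Set G)) :=
    fun x hx => Subgroup.mem_subgroupOf.mpr (hHT (Subgroup.mem_subgroupOf.mp hx))
  have hstab : ∀ k : ↥(Subgroup.normalizer (P : Set G)),
      k ∈ T.subgroupOf (Subgroup.normalizer (P : Set G)) ↔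
      ∀ θ ∈ bK, ∀ θ' : IrrCharacter ↥((P ⊔ Subgroup.centralizer (P : Set G)).subgroupOf
        (Subgroup.normalizer (P : Set G))),
      (∀ n : ↥((P ⊔ Subgroup.centralizer (P : Set G)).subgroupOf
        (Subgroup.normalizer (P : Set G))),
        (θ' : ↥((P ⊔ Subgroup.centralizer (P : Set G)).subgroupOf
          (Subgroup.normalizer (P : Set G))) → ℂ) n
        = (θ : ↥((P ⊔ Subgroup.centralizer (P : Set G)).subgroupOf
          (Subgroup.normalizer (P : Set G))) → ℂ)
          ⟨k * n * k⁻¹, hKn.conj_mem (n : ↥(Subgroup.normalizer (P : Set G))) n.2 k⟩) →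
        θ' ∈ bK := by
    intro k
    constructor
    · intro hk θ₁ hθ₁ θ' h
      rw [hbKdef] at hθ₁
      obtain ⟨θ₀, hθ₀, rfl⟩ := hθ₁
      rw [hbKdef]
      refine ⟨(isoIrr φ).symm θ', ?_, (isoIrr φ).apply_symm_apply θ'⟩
      have hk' : ((k : G))⁻¹ ∈ T := inv_mem (Subgroup.mem_subgroupOf.mp hk)
      apply ((hT _).mp hk').2 θ₀ hθ₀
      intro x x' hxx'
      have h1 := h (φ x')
      change (θ' : ↥((P ⊔ Subgroup.centralizer (P : Set G)).subgroupOf
          (Subgroup.normalizer (P : Set G))) → ℂ) (φ x') = _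
      rw [h1, isoIrr_apply]
      refine congrArg _ (Subtype.ext ?_)
      change (k : G) * (x' : G) * ((k⁻¹ : ↥(Subgroup.normalizer (P : Set G))) : G) = (x : G)
      rw [hxx']
      simp [mul_assoc]
    · intro h
      rw [Subgroup.mem_subgroupOf]
      have : ((k : G))⁻¹ ∈ T := by
        refine (hT _).mpr ⟨inv_mem k.2, fun θ₀ hθ₀ θ'₀ hc => ?_⟩
        have h1 := h (isoIrr φ θ₀) ⟨θ₀, hθ₀, rfl⟩ (isoIrr φ θ'₀) (by
          intro n
          rw [isoIrr_apply, isoIrr_apply]
          apply hc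
          change (n : G) = (k : G)⁻¹ * ((k : G) * (n : G)
            * ((k⁻¹ : ↥(Subgroup.normalizer (P : Set G))) : G)) * ((k : G)⁻¹)⁻¹
          simp [mul_assoc])
        rw [hbKdef] at h1
        exact (Function.Injective.mem_set_image (isoIrr φ).injective).mp h1
      have := inv_mem this
      rwa [inv_inv] at this
  have key := defect_of_covering_centric hM _ bK hbK
    (T.subgroupOf (Subgroup.normalizer (P : Set G))) hstab hNTK
    (P.subgroupOf (Subgroup.normalizer (P : Set G))) hQp hQN hCK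
    (blockOf M (ξ : ↥(Subgroup.normalizer (P : Set G)) → ℂ)) ⟨ξ, rfl⟩
    ⟨ξ, sameBlock_refl M _, isoIrr φ θ, ⟨θ, hθ, rfl⟩, hξ⟩
  rw [hbKdef, blockDefect_image_isoIrr, Subgroup.relIndex_subgroupOf hTK] at key
  have cP : Nat.card P = p ^ blockDefect p b := by
    have := Cfsg.Agent.S0908.result p M hM b hb _ hbP
    rw [← this]
    exact (Nat.card_congr (Subgroup.subgroupOfEquivOfLe
      (le_sup_left : P ≤ P ⊔ Subgroup.centralizer (P : Set G))).toEquiv).symm
  obtain ⟨D₁, hD₁⟩ := exists_defectGroup' hM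
    (blockOf M (ξ : ↥(Subgroup.normalizer (P : Set G)) → ℂ)) ⟨ξ, rfl⟩
  have cD₁ := Cfsg.Agent.S0908.result p M hM _ ⟨ξ, rfl⟩ D₁ hD₁
  have hrel : (P ⊔ Subgroup.centralizer (P : Set G)).relIndex T ≠ 0 := by
    change ((P ⊔ Subgroup.centralizer (P : Set G)).subgroupOf T).index ≠ 0
    exact Subgroup.index_ne_zero_of_finite
  constructor
  · intro hBP
    obtain ⟨E, hE, hDE⟩ := defectGroup_le_of_induced hM _ hβ D₁ hD₁
    have cE := Cfsg.Agent.S0908.result p M hM B hind.2.1 E hE
    have cPB := Cfsg.Agent.S0908.result p M hM B hind.2.1 P hBP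
    have c1 : Nat.card D₁ ≤ Nat.card E := by
      rw [Nat.card_congr (D₁.equivMapOfInjective _ (Subgroup.subtype_injective _)).toEquiv]
      exact Subgroup.card_le_of_le hDE
    rw [cD₁, cE, ← cPB, cP, key] at c1
    have h0 : ((P ⊔ Subgroup.centralizer (P : Set G)).relIndex T).factorization p = 0 := by
      have := (Nat.pow_le_pow_iff_right hp.one_lt).mp c1
      omega
    intro hdvd
    have := hp.factorization_pos_of_dvd hrel hdvd
    omega
  · intro hnd
    have h0 : ((P ⊔ Subgroup.centralizer (P : Set G)).relIndex T).factorization p = 0 :=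
      Nat.factorization_eq_zero_of_not_dvd hnd
    rw [h0, add_zero] at key
    have hle := Cfsg.Agent.S0912.normal_le_defect p M hM _ ⟨ξ, rfl⟩ D₁ hD₁
      (P.subgroupOf (Subgroup.normalizer (P : Set G))) hQp
    have hD₁eq : P.subgroupOf (Subgroup.normalizer (P : Set G)) = D₁ := by
      apply Subgroup.eq_of_le_of_card_ge hle
      rw [cD₁, key, ← cP]
      exact le_of_eq (Nat.card_congr (Subgroup.subgroupOfEquivOfLe hPN).toEquiv).symm
    rw [← hD₁eq] at hD₁
    obtain ⟨B₂, hB₂, hB₂P, hB₂ind⟩ := first_main_induce hM P hP _ ⟨ξ, rfl⟩ hD₁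
    have := isInducedBlock_unique hM _ hB₂ind hβ
    rw [← this]
    exact hB₂P

end Cfsg.Agent.S4437
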