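import Cfsg.Statements.S5092
import Cfsg.Agent.Lib.Helper26.FusionFocal
import Cfsg.Agent.Lib.Helper27.Alperin
import Cfsg.Agent.Lib.Helper18.Basic
import Cfsg.Agent.S5077

set_option autoImplicit false
open Cfsg Cfsg.Agent.Lib.Helper26

namespace Cfsg.Agent.S5092

open scoped commutatorElement

/-- For a saturated fusion system over a finite p-group S, the focal subgroup is the product of the hyperfocal subgroup and the derived subgroup of S. -/
theorem result {Ω : Type*} [Group Ω] {S : Subgroup Ω} [Finite S] (p : ℕ) [Fact p.Prime] (hS : IsPGroup p S) (F : Cfsg.FusionSystem S) (hF : F.IsSaturated p) : F.focalSubgroup = F.hyperfocalSubgroup p ⊔ ⁅(S : Subgroup Ω), (S : Subgroup Ω)⁆ := by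
  apply le_antisymm
  · have hle : F ≤ Fusion.focSys F (F.hyperfocalSubgroup p ⊔ ⁅(S : Subgroup Ω), (S : Subgroup Ω)⁆)
        le_sup_right := by
      apply Cfsg.Agent.Lib.Helper27.alperin p hS F hF
      intro P hP α hα
      have hPa : F.IsFullyAutomized p P := by
        rcases hP with rfl | hP
        · exact Fusion.top_fullyAutomized F hF
        · exact (((Cfsg.Agent.S5077.result p hS F).mp hF).1 P hP.2.1).2
      have hPS : P ≤ S := hPa.1
      have hPfin : Finite P := Fusion.finite_of_le hPS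
      obtain ⟨-, R, hR⟩ := hPa
      apply Subgroup.subset_closure
      refine ⟨(Fusion.mem_autGroup_iff F hPS).1 hα, fun x => ?_⟩
      have htop := Cfsg.Agent.Lib.Helper18.pResidual_sup_sylow R
      have hmem : (⟨α, hα⟩ : F.autGroup P) ∈
          pResidual p (F.autGroup P) ⊔ (R : Subgroup (F.autGroup P)) := by
        rw [htop]
        trivial
      obtain ⟨β, hβ, γ, hγ, hβγ⟩ := Subgroup.mem_sup_of_normal_left.mp hmem
      have hγ' : γ ∈ (autInducedBy S P).subgroupOf (F.autGroup P) := by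
        rw [← hR]
        exact hγ
      obtain ⟨g, hg, hgγ⟩ := Fusion.mem_autInducedBy_iff.1 (Subgroup.mem_subgroupOf.mp hγ')
      have hαx : (α x : P) = (β : MulAut P) ((γ : MulAut P) x) := by
        have := congrArg (fun a : F.autGroup P => (a : MulAut P) x) hβγ
        exact this.symm
      show (x : Ω)⁻¹ * ((α x : P) : Ω) ∈ _
      rw [hαx]
      have h1 : (x : Ω)⁻¹ * (((β : MulAut P) ((γ : MulAut P) x) : P) : Ω) =
          ((x : Ω)⁻¹ * (((γ : MulAut P) x : P) : Ω)) *
            ((((γ : MulAut P) x : P) : Ω)⁻¹ * (((β : MulAut P) ((γ : MulAut P) x) : P) : Ω)) := by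
        group
      rw [h1]
      refine Subgroup.mul_mem _ (Subgroup.mem_sup_right ?_) (Subgroup.mem_sup_left ?_)
      · rw [hgγ]
        have h2 : (x : Ω)⁻¹ * (g * x * g⁻¹) = ⁅(x : Ω)⁻¹, g⁆ := by
          rw [commutatorElement_def]
          group
        rw [h2]
        exact Subgroup.commutator_mem_commutator (S.inv_mem (hPS x.2)) hg
      · exact Subgroup.subset_closure ⟨P, β, (γ : MulAut P) x, hPS, hβ, rfl⟩
    rw [Cfsg.FusionSystem.focalSubgroup, Subgroup.closure_le]
    rintro _ ⟨P, φ, x, hφ, rfl⟩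
    exact (hle P hφ).2 x
  · apply sup_le
    · rw [Cfsg.FusionSystem.hyperfocalSubgroup, Subgroup.closure_le]
      rintro _ ⟨P, α, x, hP, -, rfl⟩
      exact Subgroup.subset_closure ⟨P, P.subtype.comp ((α : MulAut P) : P ≃* P).toMonoidHom, x,
        (Fusion.mem_autGroup_iff F hP).1 α.2, rfl⟩
    · rw [Subgroup.commutator_le]
      intro g₁ hg₁ g₂ hg₂
      apply Subgroup.subset_closure
      refine ⟨S, conjHom S g₂, ⟨g₁⁻¹, S.inv_mem hg₁⟩, F.conj_mem le_rfl hg₂, ?_⟩
      show ⁅g₁, g₂⁆ = (g₁⁻¹)⁻¹ * (g₂ * g₁⁻¹ * g₂⁻¹)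
      rw [commutatorElement_def]
      group

end Cfsg.Agent.S5092
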