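import Cfsg.Statements.S1552
import Cfsg.Agent.Lib.Helper4.Sx4

set_option autoImplicit false
open scoped Pointwise
open Cfsg

namespace Cfsg.Agent.S1552

open Cfsg.Agent.Lib.Helper4 Cfsg.Agent.Lib.Helper4.Golay Cfsg.Agent.Lib.Helper4.Sx in

/-- A sextet stabiliser has four orbits on the 1771 sextets, of sizes 1, 90, 240, 1440; and the stabiliser is a maximal proper subgroup. -/
theorem result (S : Finset (Finset Cfsg.GolayPt)) (hS : S ∈ Cfsg.sextets) : ∃ X₁ ∈ Cfsg.sextets, ∃ X₂ ∈ Cfsg.sextets, ∃ X₃ ∈ Cfsg.sextets, (MulAction.orbit ↥(MulAction.stabilizer Cfsg.M24 S) X₁).ncard = 90 ∧ (MulAction.orbit ↥(MulAction.stabilizer Cfsg.M24 S) X₂).ncard = 240 ∧ (MulAction.orbit ↥(MulAction.stabilizer Cfsg.M24 S) X₃).ncard = 1440 ∧ Cfsg.sextets = {S} ∪ MulAction.orbit ↥(MulAction.stabilizer Cfsg.M24 S) X₁ ∪ MulAction.orbit ↥(MulAction.stabilizer Cfsg.M24 S) X₂ ∪ MulAction.orbit ↥(MulAction.stabilizer Cfsg.M24 S) X₃ ∧ IsCoatom (MulAction.stabilizer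 Cfsg.M24 S) := by
  classical
  obtain ⟨X, hX, n1, n2, n3, hcov, hne, w12, w23, w31⟩ := Sx.main hS
  have orbEq : ∀ R : Finset (Finset GolayPt),
      MulAction.orbit ↥(MulAction.stabilizer M24 S) R = {Z | Orb S R Z} := by
    intro R
    ext Z
    exact mem_orbit_iff S R Z
  refine ⟨X 1, hX 1, X 2, hX 2, X 3, hX 3, ?_, ?_, ?_, ?_, ?_⟩
  · rw [orbEq]
    exact n1
  · rw [orbEq]
    exact n2
  · rw [orbEq]
    exact n3
  · rw [orbEq, orbEq, orbEq]
    ext Z
    simp only [Set.mem_union, Set.mem_singleton_iff, Set.mem_ofPred_eq]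
    constructor
    · intro hZ
      rcases hcov Z hZ with h | h | h | h
      · exact Or.inl (Or.inl (Or.inl h))
      · exact Or.inl (Or.inl (Or.inr h))
      · exact Or.inl (Or.inr h)
      · exact Or.inr h
    · rintro (((h | h) | h) | h)
      · rw [h]
        exact hS
      · exact orb_sextet (hX 1) h
      · exact orb_sextet (hX 2) h
      · exact orb_sextet (hX 3) h
  · have memK : ∀ g : ↥M24, g ∈ MulAction.stabilizer M24 S ↔
        (g : Equiv.Perm GolayPt) • S = S := by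
      intro g
      rw [MulAction.mem_stabilizer_iff]
      rfl
    refine ⟨?_, fun H hH => ?_⟩
    · intro htop
      obtain ⟨k, hk, o1, -⟩ := w12
      have hmem : (⟨k, hk⟩ : ↥M24) ∈ MulAction.stabilizer M24 S := by
        rw [htop]
        exact Subgroup.mem_top _
      have e : k • S = S := (memK _).1 hmem
      rw [e] at o1
      exact hne o1
    · obtain ⟨hKH, x, hxH, hxK⟩ := SetLike.lt_iff_le_and_exists.1 hH
      have A : ∀ R Z : Finset (Finset GolayPt), Orb S R Z →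
          (∃ y : ↥M24, y ∈ H ∧ (y : Equiv.Perm GolayPt) • S = R) →
          ∃ y : ↥M24, y ∈ H ∧ (y : Equiv.Perm GolayPt) • S = Z := by
        rintro R Z ⟨g, hg, gS, rfl⟩ ⟨y, hy, rfl⟩
        refine ⟨⟨g, hg⟩ * y, H.mul_mem (hKH ((memK _).2 gS)) hy, ?_⟩
        rw [Subgroup.coe_mul, mul_smul]
      have C2 : ∀ (d : Finset (Finset GolayPt)) (k : Equiv.Perm GolayPt), k ∈ M24 →
          (∃ y : ↥M24, y ∈ H ∧ (y : Equiv.Perm GolayPt) • S = d) →
          (∃ y : ↥M24, y ∈ H ∧ (y : Equiv.Perm GolayPt) • S = k • S) →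
          ∃ y : ↥M24, y ∈ H ∧ (y : Equiv.Perm GolayPt) • S = k • d := by
        rintro d k hk ⟨y1, hy1, rfl⟩ ⟨y2, hy2, e2⟩
        have hK : (y2⁻¹ * ⟨k, hk⟩ : ↥M24) ∈ H := by
          apply hKH
          rw [memK, Subgroup.coe_mul, mul_smul]
          show ((y2⁻¹ : ↥M24) : Equiv.Perm GolayPt) • k • S = S
          rw [← e2, Subgroup.coe_inv, inv_smul_smul]
        have hkH : (⟨k, hk⟩ : ↥M24) ∈ H := by
          have := H.mul_mem hy2 hK
          rwa [mul_inv_cancel_left] at this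
        refine ⟨⟨k, hk⟩ * y1, H.mul_mem hkH hy1, ?_⟩
        rw [Subgroup.coe_mul, mul_smul]
      have hxS : (x : Equiv.Perm GolayPt) • S ∈ sextets := smul_sextet x.2 hS
      have hxne : (x : Equiv.Perm GolayPt) • S ≠ S := fun e => hxK ((memK x).2 e)
      have Ωx : ∃ y : ↥M24, y ∈ H ∧ (y : Equiv.Perm GolayPt) • S
          = (x : Equiv.Perm GolayPt) • S := ⟨x, hxH, rfl⟩
      have ΩS : ∃ y : ↥M24, y ∈ H ∧ (y : Equiv.Perm GolayPt) • S = S :=
        ⟨1, H.one_mem, one_smul _ _⟩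
      have step : ∀ c c' : ℕ, (∃ k ∈ M24, Orb S (X c) (k • S) ∧ Orb S (X c') (k • X c)) →
          (∃ y : ↥M24, y ∈ H ∧ (y : Equiv.Perm GolayPt) • S = X c) →
          ∃ y : ↥M24, y ∈ H ∧ (y : Equiv.Perm GolayPt) • S = X c' := by
        rintro c c' ⟨k, hk, o1, o2⟩ hΩ
        have h1 := A _ _ o1 hΩ
        have h2 := C2 (X c) k hk hΩ h1
        exact A _ _ (orb_symm o2) h2
      have s12 := step 1 2 w12
      have s23 := step 2 3 w23
      have s31 := step 3 1 w31
      have all : (∃ y : ↥M24, y ∈ H ∧ (y : Equiv.Perm GolayPt) • S = X 1) ∧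
          (∃ y : ↥M24, y ∈ H ∧ (y : Equiv.Perm GolayPt) • S = X 2) ∧
          (∃ y : ↥M24, y ∈ H ∧ (y : Equiv.Perm GolayPt) • S = X 3) := by
        rcases hcov _ hxS with h | h | h | h
        · exact absurd h hxne
        · have a1 := A _ _ (orb_symm h) Ωx
          exact ⟨a1, s12 a1, s23 (s12 a1)⟩
        · have a2 := A _ _ (orb_symm h) Ωx
          exact ⟨s31 (s23 a2), a2, s23 a2⟩
        · have a3 := A _ _ (orb_symm h) Ωx
          exact ⟨s31 a3, s12 (s31 a3), a3⟩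
      have allΩ : ∀ Z ∈ sextets, ∃ y : ↥M24, y ∈ H ∧ (y : Equiv.Perm GolayPt) • S = Z := by
        intro Z hZ
        rcases hcov Z hZ with h | h | h | h
        · rw [h]
          exact ΩS
        · exact A _ _ h all.1
        · exact A _ _ h all.2.1
        · exact A _ _ h all.2.2
      rw [eq_top_iff]
      intro g _
      obtain ⟨y, hy, e⟩ := allΩ _ (smul_sextet g.2 hS)
      have h1 : y⁻¹ * g ∈ H := by
        apply hKH
        rw [memK, Subgroup.coe_mul, mul_smul, ← e, Subgroup.coe_inv, inv_smul_smul]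
      have h2 := H.mul_mem hy h1
      rwa [mul_inv_cancel_left] at h2

end Cfsg.Agent.S1552
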