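import Mathlib
import Cfsg.Statements.S0206
import Cfsg.Agent.Lib.Helper2.Dihedral

set_option autoImplicit false
open Cfsg

namespace Cfsg.Agent.S0206

open Cfsg.Agent.Lib.Helper2

variable {G : Type*} [Group G]

/-- auxiliary map on rotations -/
noncomputable def phi (a : G) (i : ZMod (orderOf a)) : G := a ^ i.val

theorem phi_add (a : G) [NeZero (orderOf a)] (i j : ZMod (orderOf a)) :
    phi a (i + j) = phi a i * phi a j := by
  unfold phi
  rw [ZMod.val_add, pow_mod_orderOf, pow_add]

theorem phi_zero (a : G) [NeZero (orderOf a)] : phi a 0 = 1 := by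
  unfold phi
  rw [ZMod.val_zero, pow_zero]

theorem phi_sub (a : G) [NeZero (orderOf a)] (i j : ZMod (orderOf a)) :
    phi a (j - i) = (phi a i)⁻¹ * phi a j := by
  have h := phi_add a i (j - i)
  rw [add_sub_cancel] at h
  rw [h]; group

theorem x_mul_phi {x y : G} (hx : orderOf x = 2) (hy : orderOf y = 2)
    (i : ZMod (orderOf (x * y))) : x * phi (x * y) i = (phi (x * y) i)⁻¹ * x := by
  unfold phi
  have := invol_mul_zpow hx hy (i.val : ℤ)
  rw [zpow_neg, zpow_natCast] at this
  exact this

theorem phi_mul_x {x y : G} (hx : orderOf x = 2) (hy : orderOf y = 2)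
    (i : ZMod (orderOf (x * y))) : phi (x * y) i * x = x * (phi (x * y) i)⁻¹ := by
  have h := x_mul_phi hx hy i
  calc phi (x * y) i * x = phi (x * y) i * (x * phi (x * y) i) * (phi (x * y) i)⁻¹ := by group
    _ = phi (x * y) i * ((phi (x * y) i)⁻¹ * x) * (phi (x * y) i)⁻¹ := by rw [h]
    _ = x * (phi (x * y) i)⁻¹ := by group

/-- the underlying function of the hom -/
noncomputable def toFun (x y : G) : DihedralGroup (orderOf (x * y)) → G
  | DihedralGroup.r i => phi (x * y) i
  | DihedralGroup.sr i => x * phi (x * y) i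

theorem toFun_mul {x y : G} [NeZero (orderOf (x * y))] (hx : orderOf x = 2) (hy : orderOf y = 2)
    (u v : DihedralGroup (orderOf (x * y))) : toFun x y (u * v) = toFun x y u * toFun x y v := by
  rcases u with i | i <;> rcases v with j | j
  · change phi (x * y) (i + j) = phi (x * y) i * phi (x * y) j
    exact phi_add _ _ _
  · change x * phi (x * y) (j - i) = phi (x * y) i * (x * phi (x * y) j)
    rw [phi_sub, ← mul_assoc (phi (x * y) i), phi_mul_x hx hy]; group
  · change x * phi (x * y) (i + j) = x * phi (x * y) i * phi (x * y) j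
    rw [phi_add, mul_assoc]
  · change phi (x * y) (j - i) = x * phi (x * y) i * (x * phi (x * y) j)
    rw [phi_sub, x_mul_phi hx hy]
    calc (phi (x * y) i)⁻¹ * phi (x * y) j = (phi (x * y) i)⁻¹ * 1 * phi (x * y) j := by group
      _ = (phi (x * y) i)⁻¹ * (x * x) * phi (x * y) j := by rw [invol_sq hx]
      _ = (phi (x * y) i)⁻¹ * x * (x * phi (x * y) j) := by group

/-- the hom from the dihedral group -/
noncomputable def hom {x y : G} [NeZero (orderOf (x * y))] (hx : orderOf x = 2) (hy : orderOf y = 2) :
    DihedralGroup (orderOf (x * y)) →* G :=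
  MonoidHom.mk' (toFun x y) (toFun_mul hx hy)

theorem hom_injective {x y : G} [NeZero (orderOf (x * y))] (hx : orderOf x = 2) (hy : orderOf y = 2)
    (hxy : x ≠ y) : Function.Injective (hom hx hy) := by
  rw [injective_iff_map_eq_one]
  intro u hu
  rcases u with i | i
  · change (x * y) ^ i.val = 1 at hu
    have h1 : orderOf (x * y) ∣ i.val := orderOf_dvd_of_pow_eq_one hu
    have h2 : i.val < orderOf (x * y) := ZMod.val_lt i
    have h3 : i.val = 0 := Nat.eq_zero_of_dvd_of_lt h1 h2
    have h4 : i = 0 := (ZMod.val_eq_zero i).mp h3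
    rw [h4]; rfl
  · exfalso
    change x * (x * y) ^ i.val = 1 at hu
    have hxe : x = ((x * y) ^ i.val)⁻¹ := eq_inv_of_mul_eq_one_left hu
    have hc : Commute x (x * y) := by
      have hc' : Commute (((x * y) ^ i.val)⁻¹) (x * y) :=
        ((Commute.refl (x * y)).pow_left i.val).inv_left
      rw [← hxe] at hc'
      exact hc'
    have h1 := invol_mul_zpow hx hy 1
    rw [zpow_one] at h1
    have h2 : (x * y) * x = (x * y) ^ (-1 : ℤ) * x := by rw [← h1]; exact hc.eq.symm
    have h3 : (x * y) = (x * y) ^ (-1 : ℤ) := mul_right_cancel h2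
    have h4 : (x * y) ^ 2 = 1 := by
      rw [pow_two]
      nth_rewrite 1 [h3]
      rw [zpow_neg, zpow_one, inv_mul_cancel]
    have h5 : orderOf (x * y) ∣ 2 := orderOf_dvd_of_pow_eq_one h4
    have h6 : orderOf (x * y) ≤ 2 := Nat.le_of_dvd (by norm_num) h5
    have h7 : i.val < orderOf (x * y) := ZMod.val_lt i
    have h8 : i.val = 0 ∨ i.val = 1 := by omega
    rcases h8 with h8 | h8
    · rw [h8, pow_zero, mul_one] at hu
      exact invol_ne_one hx hu
    · rw [h8, pow_one, ← mul_assoc, invol_sq hx, one_mul] at hu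
      exact invol_ne_one hy hu

theorem hom_range {x y : G} [NeZero (orderOf (x * y))] (hx : orderOf x = 2) (hy : orderOf y = 2) :
    (hom hx hy).range = Subgroup.closure ({x, y} : Set G) := by
  apply le_antisymm
  · rintro _ ⟨u, rfl⟩
    rcases u with i | i
    · change (x * y) ^ i.val ∈ _
      exact Subgroup.pow_mem _ (Subgroup.mul_mem _ invol_mem_closure_left invol_mem_closure_right) _
    · change x * (x * y) ^ i.val ∈ _
      exact Subgroup.mul_mem _ invol_mem_closure_left
        (Subgroup.pow_mem _ (Subgroup.mul_mem _ invol_mem_closure_left invol_mem_closure_right) _)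
  · rw [Subgroup.closure_le]
    rintro z (rfl | hz)
    · refine ⟨DihedralGroup.sr 0, ?_⟩
      change z * (z * y) ^ (0 : ZMod (orderOf (z * y))).val = z
      rw [ZMod.val_zero, pow_zero, mul_one]
    · rw [Set.mem_singleton_iff] at hz
      subst hz
      refine ⟨DihedralGroup.sr 1, ?_⟩
      change x * (x * z) ^ (1 : ZMod (orderOf (x * z))).val = z
      rw [ZMod.val_one_eq_one_mod, pow_mod_orderOf, pow_one, ← mul_assoc, invol_sq hx, one_mul]

/-- Two distinct involutions x, y of a finite group generate a subgroup isomorphic to the dihedral group of order 2·|xy|. -/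
theorem result {G : Type*} [Group G] [Finite G] (x y : G) (hx : orderOf x = 2) (hy : orderOf y = 2) (hxy : x ≠ y) : Nonempty (↥(Subgroup.closure ({x, y} : Set G)) ≃* DihedralGroup (orderOf (x * y))) := by
  have : NeZero (orderOf (x * y)) := ⟨(orderOf_pos (x * y)).ne'⟩
  have e1 : DihedralGroup (orderOf (x * y)) ≃* (hom hx hy).range :=
    MonoidHom.ofInjective (hom_injective hx hy hxy)
  have e2 : (hom hx hy).range ≃* Subgroup.closure ({x, y} : Set G) :=
    MulEquiv.subgroupCongr (hom_range hx hy)
  exact ⟨(e1.trans e2).symm⟩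

end Cfsg.Agent.S0206
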