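import Cfsg.Statements.S3224
import Cfsg.Agent.S0206
import Cfsg.Agent.Lib.Helper2.MaxClass
import Cfsg.Agent.Lib.Helper19.ElemAbFixed
import Cfsg.Agent.Lib.Helper18.Subnormal

set_option autoImplicit false
open Cfsg

namespace Cfsg.Agent.S3224

open Subgroup

universe u

theorem invol_sq' {S : Type*} [Group S] {x : S} (hx : orderOf x = 2) : x * x = 1 := by
  have := pow_orderOf_eq_one x
  rwa [hx, sq] at this

theorem zpow_invol {S : Type*} [Group S] {x : S} (hxx : x * x = 1) (k : ℤ) :
    x ^ k = 1 ∨ x ^ k = x := by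
  obtain ⟨l, hl | hl⟩ := Int.even_or_odd' k
  · left
    rw [hl, zpow_mul, zpow_two, hxx, one_zpow]
  · right
    rw [hl, zpow_add, zpow_mul, zpow_two, hxx, one_zpow, one_mul, zpow_one]

theorem self_mem_centralizer {S : Type*} [Group S] (x : S) : x ∈ centralizer ({x} : Set S) := by
  rw [mem_centralizer_iff]
  intro y hy
  rw [Set.mem_singleton_iff] at hy
  subst hy
  rfl

theorem mem_centralizer_singleton {S : Type*} [Group S] (x g : S) :
    g ∈ centralizer ({x} : Set S) ↔ x * g = g * x := by
  rw [mem_centralizer_iff]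
  constructor
  · intro h
    exact h x rfl
  · intro h y hy
    rw [Set.mem_singleton_iff] at hy
    subst hy
    exact h

/-- centre ⊔ ⟨x⟩ has twice the order of the centre, and lies in the centralizer of `x`. -/
theorem card_center_sup {S : Type*} [Group S] [Finite S] (x : S) (hx : orderOf x = 2)
    (hx' : x ∉ center S) :
    Nat.card (center S ⊔ zpowers x : Subgroup S) = 2 * Nat.card (center S) ∧
      center S ⊔ zpowers x ≤ centralizer ({x} : Set S) := by
  have : Fact (Nat.Prime 2) := ⟨Nat.prime_two⟩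
  refine ⟨Cfsg.Agent.Lib.Helper19.card_sup_zpowers_prime (center S) hx hx' (by
    rw [normalizer_eq_top]; exact mem_top x), ?_⟩
  apply sup_le
  · exact center_le_centralizer _
  · rw [zpowers_le]
    exact self_mem_centralizer x

theorem card_center_two {S : Type*} [Group S] [Finite S] (hS : IsPGroup 2 S) (x : S)
    (hx : orderOf x = 2) (hC : Nat.card (centralizer ({x} : Set S)) = 4) (hx' : x ∉ center S) :
    Nat.card (center S) = 2 := by
  have : Fact (Nat.Prime 2) := ⟨Nat.prime_two⟩
  obtain ⟨h1, hle⟩ := card_center_sup x hx hx'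
  have h2 := Subgroup.card_dvd_of_le hle
  rw [h1, hC] at h2
  have h3 : Nat.card (center S) ∣ 2 := by
    have h4 : 2 * Nat.card (center S) ∣ 2 * 2 := h2
    exact Nat.dvd_of_mul_dvd_mul_left (by norm_num) h4
  have hnt : Nontrivial S := ⟨⟨x, 1, fun h => by rw [h, orderOf_one] at hx; omega⟩⟩
  have hne : Nat.card (center S) ≠ 1 := by
    intro h
    have hb := Subgroup.eq_bot_of_card_eq _ h
    have := hS.center_nontrivial
    exact (Subgroup.nontrivial_iff_ne_bot _).mp this hb
  rcases (Nat.dvd_prime Nat.prime_two).mp h3 with h | h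
  · exact absurd h hne
  · exact h

theorem base_case (S : Type u) [Group S] [Finite S] (hcard : Nat.card S = 2 ^ 3) (x : S)
    (hx : orderOf x = 2) (hC : Nat.card (centralizer ({x} : Set S)) = 4) :
    ∃ c : S, (zpowers c).index = 2 ∧ x ∉ zpowers c := by
  have hxx : x * x = 1 := invol_sq' hx
  have hne : centralizer ({x} : Set S) ≠ ⊤ := by
    intro h
    rw [h, Subgroup.card_top, hcard] at hC
    norm_num at hC
  obtain ⟨g, hg⟩ : ∃ g, g ∉ centralizer ({x} : Set S) := by
    by_contra hall
    push Not at hall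
    exact hne (eq_top_iff.mpr fun g _ => hall g)
  have hgx : x * g ≠ g * x := fun h => hg ((mem_centralizer_singleton x g).mpr h)
  have key : ∀ c : S, c * c ≠ 1 → x * c ≠ c * x →
      ∃ c : S, (zpowers c).index = 2 ∧ x ∉ zpowers c := by
    intro c hc2 hcx
    refine ⟨c, ?_, ?_⟩
    · have hdvd : orderOf c ∣ 2 ^ 3 := by
        rw [← hcard]
        exact orderOf_dvd_natCard c
      obtain ⟨i, hi, hoi⟩ := (Nat.dvd_prime_pow Nat.prime_two).mp hdvd
      have hi3 : i ≠ 3 := by
        rintro rfl
        have hcyc : IsCyclic S := isCyclic_of_orderOf_eq_card c (by rw [hoi, hcard])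
        obtain ⟨d, hd⟩ := hcyc.exists_generator
        obtain ⟨a, rfl⟩ := mem_zpowers_iff.mp (hd x)
        obtain ⟨b, rfl⟩ := mem_zpowers_iff.mp (hd c)
        exact hcx (by rw [← zpow_add, ← zpow_add, add_comm])
      have hi0 : i ≠ 0 := by
        rintro rfl
        apply hc2
        have h1 : c = 1 := orderOf_eq_one_iff.mp (by rw [hoi, pow_zero])
        rw [h1, one_mul]
      have hi1 : i ≠ 1 := by
        rintro rfl
        apply hc2
        have h1 := pow_orderOf_eq_one c
        rwa [hoi, pow_one, sq] at h1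
      have hi2 : i = 2 := by omega
      have h4 : Nat.card (zpowers c) = 4 := by
        rw [Nat.card_zpowers, hoi, hi2]
        norm_num
      have h5 := Subgroup.card_mul_index (zpowers c)
      rw [h4, hcard] at h5
      omega
    · intro hx'
      obtain ⟨k, rfl⟩ := mem_zpowers_iff.mp hx'
      exact hcx ((Commute.zpow_left (Commute.refl c) k).eq)
  by_cases hg2 : g * g = 1
  · apply key (g * x)
    · intro h
      apply hgx
      calc x * g = (g * g) * x * g * (x * x) := by rw [hg2, hxx, one_mul, mul_one]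
        _ = g * (g * x * (g * x)) * x := by group
        _ = g * x := by rw [h, mul_one]
    · intro h
      apply hgx
      calc x * g = x * (g * x) * x⁻¹ := by group
        _ = g * x * x * x⁻¹ := by rw [h]
        _ = g * x := by group
  · exact key g hg2 hgx

/-- the centralizer of the image of `x` in the central quotient again has order four -/
theorem card_centralizer_quot (S : Type u) [Group S] [Finite S] (m : ℕ)
    (hcard : Nat.card S = 2 ^ (m + 4)) (x : S)
    (hC : Nat.card (centralizer ({x} : Set S)) = 4)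
    (hZ2 : Nat.card (center S) = 2) (hQcard : Nat.card (S ⧸ center S) = 2 ^ (m + 3))
    (hxbar : orderOf (QuotientGroup.mk x : S ⧸ center S) = 2) :
    Nat.card (centralizer ({(QuotientGroup.mk x : S ⧸ center S)} : Set (S ⧸ center S))) = 4 := by
  have : Fact (Nat.Prime 2) := ⟨Nat.prime_two⟩
  obtain ⟨Cb, hCb⟩ : ∃ Cb : Subgroup (S ⧸ center S),
      Cb = centralizer ({(QuotientGroup.mk x : S ⧸ center S)} : Set (S ⧸ center S)) := ⟨_, rfl⟩
  rw [← hCb]
  obtain ⟨T, hT⟩ : ∃ T : Subgroup S, T = Cb.comap (QuotientGroup.mk' (center S)) := ⟨_, rfl⟩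
  have hidx : T.index = Cb.index := by
    rw [hT]
    exact Subgroup.index_comap_of_surjective Cb (QuotientGroup.mk'_surjective _)
  have h1 := Subgroup.card_mul_index T
  have h2 := Subgroup.card_mul_index Cb
  rw [hidx, hcard] at h1
  rw [hQcard] at h2
  have hcT : Nat.card T = 2 * Nat.card Cb := by
    have hpos : 0 < Cb.index := Nat.pos_of_ne_zero Subgroup.index_ne_zero_of_finite
    have h3 : Nat.card T * Cb.index = (2 * Nat.card Cb) * Cb.index := by
      rw [h1, mul_assoc, h2]
      ring
    exact Nat.eq_of_mul_eq_mul_right hpos h3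
  have hmemT : ∀ g : S, g ∈ T → g * x * g⁻¹ * x⁻¹ ∈ center S := by
    intro g hg
    rw [hT, Subgroup.mem_comap, hCb, mem_centralizer_singleton] at hg
    have hg' : (QuotientGroup.mk x : S ⧸ center S) * QuotientGroup.mk g =
        QuotientGroup.mk g * QuotientGroup.mk x := hg
    rw [← QuotientGroup.eq_one_iff]
    simp only [QuotientGroup.mk_mul, QuotientGroup.mk_inv]
    rw [← hg']
    group
  let φ : T →* center S :=
    { toFun := fun g => ⟨g.1 * x * g.1⁻¹ * x⁻¹, hmemT g.1 g.2⟩
      map_one' := by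
        apply Subtype.ext
        simp
      map_mul' := by
        intro g h
        apply Subtype.ext
        have hu := hmemT h.1 h.2
        have hu' := mem_center_iff.mp hu g.1
        show (g.1 * h.1) * x * (g.1 * h.1)⁻¹ * x⁻¹ =
          (g.1 * x * g.1⁻¹ * x⁻¹) * (h.1 * x * h.1⁻¹ * x⁻¹)
        calc (g.1 * h.1) * x * (g.1 * h.1)⁻¹ * x⁻¹
            = (g.1 * (h.1 * x * h.1⁻¹ * x⁻¹)) * x * g.1⁻¹ * x⁻¹ := by group
          _ = ((h.1 * x * h.1⁻¹ * x⁻¹) * g.1) * x * g.1⁻¹ * x⁻¹ := by rw [hu']
          _ = (h.1 * x * h.1⁻¹ * x⁻¹) * (g.1 * x * g.1⁻¹ * x⁻¹) := by group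
          _ = (g.1 * x * g.1⁻¹ * x⁻¹) * (h.1 * x * h.1⁻¹ * x⁻¹) :=
            (mem_center_iff.mp hu _).symm }
  have hker : Nat.card φ.ker ≤ 4 := by
    rw [← hC]
    let f : φ.ker → centralizer ({x} : Set S) := fun g => ⟨g.1.1, by
      rw [mem_centralizer_singleton]
      have hg : φ g.1 = 1 := g.2
      have hg' : g.1.1 * x * g.1.1⁻¹ * x⁻¹ = 1 := congrArg Subtype.val hg
      calc x * g.1.1 = (g.1.1 * x * g.1.1⁻¹ * x⁻¹)⁻¹ * (g.1.1 * x) := by group
        _ = g.1.1 * x := by rw [hg', inv_one, one_mul]⟩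
    have hf : Function.Injective f := by
      intro a b hab
      have h3 := congrArg Subtype.val hab
      exact Subtype.ext (Subtype.ext h3)
    exact Nat.card_le_card_of_injective f hf
  have hrange : Nat.card φ.range ≤ 2 := by
    rw [← hZ2]
    exact φ.range.card_le_card_group
  have hT8 : Nat.card T ≤ 8 := by
    have h3 := Subgroup.card_mul_index φ.ker
    rw [Subgroup.index_ker] at h3
    rw [← h3]
    calc Nat.card φ.ker * Nat.card φ.range ≤ 4 * 2 := Nat.mul_le_mul hker hrange
      _ = 8 := by norm_num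
  have hge4 : 4 ≤ Nat.card Cb := by
    have hQp : IsPGroup 2 (S ⧸ center S) := IsPGroup.of_card hQcard
    by_cases hxc : (QuotientGroup.mk x : S ⧸ center S) ∈ center (S ⧸ center S)
    · have htop : Cb = ⊤ := by
        rw [hCb, eq_top_iff]
        intro g _
        rw [mem_centralizer_singleton]
        exact (mem_center_iff.mp hxc g).symm
      rw [htop, Subgroup.card_top, hQcard]
      calc 4 ≤ 2 ^ 3 := by norm_num
        _ ≤ 2 ^ (m + 3) := Nat.pow_le_pow_right (by norm_num) (by omega)
    · obtain ⟨h5, hle⟩ := card_center_sup _ hxbar hxc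
      have hnt : Nontrivial (S ⧸ center S) :=
        ⟨⟨QuotientGroup.mk x, 1, fun h => by rw [h, orderOf_one] at hxbar; omega⟩⟩
      have hne : Nat.card (center (S ⧸ center S)) ≠ 1 := by
        intro h
        have hb := Subgroup.eq_bot_of_card_eq _ h
        have := hQp.center_nontrivial
        exact (Subgroup.nontrivial_iff_ne_bot _).mp this hb
      have hpos : 0 < Nat.card (center (S ⧸ center S)) := Nat.card_pos
      have h6 := Subgroup.card_le_of_le hle
      rw [h5, ← hCb] at h6
      omega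
  omega

theorem step_case (m : ℕ)
    (ih : ∀ (S : Type u) [Group S] [Finite S], Nat.card S = 2 ^ (m + 3) → ∀ x : S,
      orderOf x = 2 → Nat.card (centralizer ({x} : Set S)) = 4 →
      ∃ c : S, (zpowers c).index = 2 ∧ x ∉ zpowers c)
    (S : Type u) [Group S] [Finite S] (hcard : Nat.card S = 2 ^ (m + 4)) (x : S)
    (hx : orderOf x = 2) (hC : Nat.card (centralizer ({x} : Set S)) = 4) :
    ∃ c : S, (zpowers c).index = 2 ∧ x ∉ zpowers c := by
  have : Fact (Nat.Prime 2) := ⟨Nat.prime_two⟩
  have hS : IsPGroup 2 S := IsPGroup.of_card hcard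
  have hxx : x * x = 1 := invol_sq' hx
  have hxZ : x ∉ center S := by
    intro h
    have htop : centralizer ({x} : Set S) = ⊤ := by
      rw [eq_top_iff]
      intro g _
      rw [mem_centralizer_singleton]
      exact (mem_center_iff.mp h g).symm
    rw [htop, Subgroup.card_top, hcard] at hC
    have h2 : 2 ^ (m + 4) = 2 ^ 2 := by rw [hC]; norm_num
    have := Nat.pow_right_injective (le_refl 2) h2
    omega
  have hZ2 := card_center_two hS x hx hC hxZ
  have hQcard : Nat.card (S ⧸ center S) = 2 ^ (m + 3) := by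
    have h1 := Subgroup.card_eq_card_quotient_mul_card_subgroup (center S)
    rw [hcard, hZ2] at h1
    have h2 : 2 ^ (m + 4) = 2 ^ (m + 3) * 2 := by ring
    omega
  have hxbar : orderOf (QuotientGroup.mk x : S ⧸ center S) = 2 := by
    apply orderOf_eq_prime
    · rw [← QuotientGroup.mk_pow, sq, hxx]
      rfl
    · intro h
      exact hxZ ((QuotientGroup.eq_one_iff x).mp h)
  have hCbar := card_centralizer_quot S m hcard x hC hZ2 hQcard hxbar
  obtain ⟨cb, hcb, hxcb⟩ := ih (S ⧸ center S) hQcard _ hxbar hCbar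
  obtain ⟨c, rfl⟩ := QuotientGroup.mk_surjective cb
  have hocb : orderOf (QuotientGroup.mk c : S ⧸ center S) = 2 ^ (m + 2) := by
    have h1 := Subgroup.card_mul_index (zpowers (QuotientGroup.mk c : S ⧸ center S))
    rw [hcb, hQcard, Nat.card_zpowers] at h1
    have h2 : 2 ^ (m + 3) = 2 ^ (m + 2) * 2 := by ring
    omega
  have hdvd : orderOf c ∣ 2 ^ (m + 4) := by
    rw [← hcard]
    exact orderOf_dvd_natCard c
  obtain ⟨j, hj, hoc⟩ := (Nat.dvd_prime_pow Nat.prime_two).mp hdvd
  have hjm : m + 2 ≤ j := by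
    have h1 : orderOf (QuotientGroup.mk c : S ⧸ center S) ∣ orderOf c := by
      apply orderOf_dvd_of_pow_eq_one
      rw [← QuotientGroup.mk_pow, pow_orderOf_eq_one]
      rfl
    rw [hocb, hoc] at h1
    exact (Nat.pow_dvd_pow_iff_le_right (by norm_num)).mp h1
  obtain ⟨w, hw⟩ : ∃ w, w = c ^ (2 ^ (j - 1)) := ⟨_, rfl⟩
  have hww : w * w = 1 := by
    rw [hw, ← pow_add, ← two_mul, ← pow_succ', show j - 1 + 1 = j by omega, ← hoc,
      pow_orderOf_eq_one]
  have hw1 : w ≠ 1 := by
    rw [hw]
    apply pow_ne_one_of_lt_orderOf (by positivity)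
    rw [hoc]
    exact Nat.pow_lt_pow_right (by norm_num) (by omega)
  have hwc : w ∈ zpowers c := by
    rw [hw]
    exact pow_mem (mem_zpowers c) _
  have hnorm : (zpowers (QuotientGroup.mk c : S ⧸ center S)).Normal :=
    Subgroup.normal_of_index_eq_two hcb
  have h1 := hnorm.conj_mem _ (mem_zpowers (QuotientGroup.mk c : S ⧸ center S))
    (QuotientGroup.mk x)
  obtain ⟨i, hi⟩ := mem_zpowers_iff.mp h1
  have hu : (c ^ i)⁻¹ * (x * c * x⁻¹) ∈ center S := by
    rw [← QuotientGroup.eq]
    simp only [QuotientGroup.mk_zpow, QuotientGroup.mk_mul, QuotientGroup.mk_inv]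
    exact hi
  obtain ⟨u, hud⟩ : ∃ u, u = (c ^ i)⁻¹ * (x * c * x⁻¹) := ⟨_, rfl⟩
  rw [← hud] at hu
  have hxc : x * c * x⁻¹ = c ^ i * u := by
    rw [hud]
    group
  have huu : u * u = 1 := by
    have h2 := pow_card_eq_one' (G := center S) (x := ⟨u, hu⟩)
    rw [hZ2] at h2
    have h3 := congrArg Subtype.val h2
    simpa [sq] using h3
  have hxcc : x * (c * c) * x⁻¹ = (c * c) ^ i := by
    have hcu : c ^ i * u = u * c ^ i := mem_center_iff.mp hu (c ^ i)
    calc x * (c * c) * x⁻¹ = (x * c * x⁻¹) * (x * c * x⁻¹) := by group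
      _ = (c ^ i * u) * (c ^ i * u) := by rw [hxc]
      _ = c ^ i * (u * c ^ i) * u := by group
      _ = c ^ i * (c ^ i * u) * u := by rw [hcu]
      _ = c ^ i * c ^ i * (u * u) := by group
      _ = (c * c) ^ i := by rw [huu, mul_one, (Commute.refl c).mul_zpow]
  have hwcc : w = (c * c) ^ (2 ^ (j - 2)) := by
    rw [hw, ← sq, ← pow_mul, ← pow_succ', show j - 2 + 1 = j - 1 by omega]
  have hxw : x * w * x⁻¹ = w := by
    have h2 : x * w * x⁻¹ = w ^ i := by
      rw [hwcc, ← conj_pow, hxcc, ← zpow_natCast, ← zpow_natCast, ← zpow_mul, ← zpow_mul,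
        mul_comm]
    rcases zpow_invol hww i with h3 | h3
    · exfalso
      rw [h3] at h2
      apply hw1
      have h4 : w = x⁻¹ * (x * w * x⁻¹) * x := by group
      rw [h4, h2]
      group
    · rw [h2, h3]
  have hwC : w ∈ centralizer ({x} : Set S) := by
    rw [mem_centralizer_singleton]
    calc x * w = (x * w * x⁻¹) * x := by group
      _ = w * x := by rw [hxw]
  obtain ⟨hc1, hle⟩ := card_center_sup x hx hxZ
  have hCeq : center S ⊔ zpowers x = centralizer ({x} : Set S) := by
    apply Subgroup.eq_of_le_of_card_ge hle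
    rw [hc1, hZ2, hC]
  have hwZ : w ∈ center S := by
    rw [← hCeq, sup_comm] at hwC
    obtain ⟨a, ha, d, hd, hwad⟩ := Cfsg.Agent.Lib.Helper18.mem_sup_of_le_normalizer
      (by rw [normalizer_eq_top]; exact le_top) hwC
    obtain ⟨k, rfl⟩ := mem_zpowers_iff.mp ha
    rcases zpow_invol hxx k with h3 | h3
    · rw [hwad, h3, one_mul]
      exact hd
    · exfalso
      apply hxcb
      have h4 : (QuotientGroup.mk x : S ⧸ center S) = QuotientGroup.mk w := by
        rw [hwad, h3, QuotientGroup.mk_mul, (QuotientGroup.eq_one_iff d).mpr hd, mul_one]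
      rw [h4, hw, QuotientGroup.mk_pow]
      exact pow_mem (mem_zpowers _) _
  have hZc : center S ≤ zpowers c := by
    intro v hv
    have h2 : (⟨v, hv⟩ : center S) ∈ zpowers (⟨w, hwZ⟩ : center S) :=
      mem_zpowers_of_prime_card hZ2 (fun h0 => hw1 (congrArg Subtype.val h0))
    obtain ⟨k, hk⟩ := mem_zpowers_iff.mp h2
    have h3 : w ^ k = v := congrArg Subtype.val hk
    rw [← h3]
    exact zpow_mem hwc k
  refine ⟨c, ?_, ?_⟩
  · have hcomap : (zpowers (QuotientGroup.mk c : S ⧸ center S)).comap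
        (QuotientGroup.mk' (center S)) = zpowers c := by
      apply le_antisymm
      · intro g hg
        rw [Subgroup.mem_comap] at hg
        obtain ⟨k, hk⟩ := mem_zpowers_iff.mp hg
        have h2 : (c ^ k)⁻¹ * g ∈ center S := by
          rw [← QuotientGroup.eq, QuotientGroup.mk_zpow]
          exact hk
        have h3 : g = c ^ k * ((c ^ k)⁻¹ * g) := by group
        rw [h3]
        exact mul_mem (zpow_mem (mem_zpowers c) k) (hZc h2)
      · rw [zpowers_le, Subgroup.mem_comap]
        exact mem_zpowers _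
    rw [← hcomap, Subgroup.index_comap_of_surjective _ (QuotientGroup.mk'_surjective _), hcb]
  · intro hx'
    apply hxcb
    obtain ⟨k, rfl⟩ := mem_zpowers_iff.mp hx'
    rw [QuotientGroup.mk_zpow]
    exact zpow_mem (mem_zpowers _) k

theorem exists_cyclic_index_two : ∀ (m : ℕ) (S : Type u) [Group S] [Finite S],
    Nat.card S = 2 ^ (m + 3) → ∀ x : S, orderOf x = 2 →
    Nat.card (centralizer ({x} : Set S)) = 4 →
    ∃ c : S, (zpowers c).index = 2 ∧ x ∉ zpowers c := by
  intro m
  induction m with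
  | zero =>
    intro S _ _ hcard x hx hC
    exact base_case S hcard x hx hC
  | succ m ih =>
    intro S _ _ hcard x hx hC
    exact step_case m ih S hcard x hx hC

/-- A finite 2-group containing an involution whose centralizer has order 4 is dihedral, quasi-dihedral (semidihedral), or of order 4. -/
theorem result {S : Type*} [Group S] [Finite S] (hS : IsPGroup 2 S)
    (x : S) (hx : orderOf x = 2) (hC : Nat.card ↥(Subgroup.centralizer ({x} : Set S)) = 4) :
    (∃ n : ℕ, Nonempty (S ≃* DihedralGroup n)) ∨ Cfsg.IsQuasiDihedral S ∨ Nat.card S = 4 := by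
  have : Fact (Nat.Prime 2) := ⟨Nat.prime_two⟩
  obtain ⟨k, hk⟩ := IsPGroup.iff_card.mp hS
  have hxx : x * x = 1 := invol_sq' hx
  have hCle : 4 ≤ 2 ^ k := by
    rw [← hk, ← hC]
    exact Subgroup.card_le_card_group _
  have hk2 : 2 ≤ k := by
    by_contra h
    have h1 : k ≤ 1 := by omega
    have h2 := Nat.pow_le_pow_right (show 0 < 2 by norm_num) h1
    omega
  rcases Nat.lt_or_ge k 3 with h3 | h3
  · right
    right
    have h4 : k = 2 := by omega
    rw [hk, h4]
    norm_num
  obtain ⟨m, rfl⟩ : ∃ m, k = m + 3 := ⟨k - 3, by omega⟩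
  obtain ⟨c, hci, hxc⟩ := exists_cyclic_index_two m S hk x hx hC
  have hoc : orderOf c = 2 ^ (m + 2) := by
    have h1 := Subgroup.card_mul_index (zpowers c)
    rw [hci, hk, Nat.card_zpowers] at h1
    have h2 : 2 ^ (m + 3) = 2 ^ (m + 2) * 2 := by ring
    omega
  have hcn : (zpowers c).Normal := Subgroup.normal_of_index_eq_two hci
  have h1 := hcn.conj_mem c (mem_zpowers c) x
  rw [← mem_powers_iff_mem_zpowers] at h1
  obtain ⟨r, hr⟩ := h1
  have hr' : c ^ r = x * c * x⁻¹ := hr
  have hxinv : x⁻¹ = x := inv_eq_of_mul_eq_one_right hxx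
  have hconj : ∀ k : ℕ, x * c ^ k * x⁻¹ = c ^ (r * k) := by
    intro k
    rw [← conj_pow, ← hr', ← pow_mul]
  have hr2 : r ^ 2 ≡ 1 [MOD 2 ^ (m + 1 + 1)] := by
    have h2 : c ^ (r * r) = c ^ 1 := by
      rw [← hconj r, hr', hxinv, pow_one]
      calc x * (x * c * x) * x = (x * x) * c * (x * x) := by group
        _ = c := by rw [hxx, one_mul, mul_one]
    have h3 := pow_eq_pow_iff_modEq.mp h2
    rw [hoc] at h3
    rw [sq]
    exact h3
  have hv : ¬ (x * c ^ (2 ^ m) = c ^ (2 ^ m) * x) := by
    intro hcomm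
    have hov : orderOf (c ^ (2 ^ m)) = 4 := by
      rw [orderOf_pow_of_dvd (by positivity) (by rw [hoc]; exact pow_dvd_pow 2 (by omega)), hoc,
        pow_add, Nat.mul_div_cancel_left _ (by positivity)]
      norm_num
    have hle : zpowers (c ^ (2 ^ m)) ≤ centralizer ({x} : Set S) := by
      rw [zpowers_le, mem_centralizer_singleton]
      exact hcomm
    have heq : zpowers (c ^ (2 ^ m)) = centralizer ({x} : Set S) := by
      apply Subgroup.eq_of_le_of_card_ge hle
      rw [Nat.card_zpowers, hov, hC]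
    have hxmem : x ∈ zpowers (c ^ (2 ^ m)) := by
      rw [heq]
      exact self_mem_centralizer x
    exact hxc (zpowers_le.mpr (pow_mem (mem_zpowers c) _) hxmem)
  have hcpow : c ^ (2 ^ (m + 2)) = 1 := by
    rw [← hoc]
    exact pow_orderOf_eq_one c
  rcases Cfsg.Agent.Lib.Helper2.sq_modEq_one_two_pow (m + 1) r (by omega) hr2 with
    ⟨t, ht, hdv⟩ | ⟨t, ht, hdv⟩
  · exfalso
    apply hv
    have h2 := hconj (2 ^ m)
    have h3 : r * 2 ^ m = 2 ^ m + 2 ^ (m + 2) * t := by
      rw [ht]
      ring
    rw [h3, pow_add, pow_mul, hcpow, one_pow, mul_one] at h2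
    calc x * c ^ (2 ^ m) = (x * c ^ (2 ^ m) * x⁻¹) * x := by group
      _ = c ^ (2 ^ m) * x := by rw [h2]
  · obtain ⟨s, hs⟩ := hdv
    have hr1 : r + 1 = 4 * (t + 1) := by omega
    rcases Nat.even_or_odd' s with ⟨s', hs' | hs'⟩
    · left
      have h2 : c ^ r * c = 1 := by
        rw [← pow_succ]
        have h3 : r + 1 = 2 ^ (m + 2) * s' := by
          rw [hr1, hs, hs']
          ring
        rw [h3, pow_mul, hcpow, one_pow]
      have hxcx : x * c * x⁻¹ = c⁻¹ := by
        rw [← hr']
        exact eq_inv_of_mul_eq_one_left h2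
      have hy2 : orderOf (x * c) = 2 := by
        apply orderOf_eq_prime
        · rw [sq]
          calc x * c * (x * c) = (x * c * x⁻¹) * (x * x) * c := by group
            _ = 1 := by rw [hxcx, hxx, mul_one, inv_mul_cancel]
        · intro h
          apply hxc
          have h4 : x = c⁻¹ := eq_inv_of_mul_eq_one_left h
          rw [h4]
          exact inv_mem (mem_zpowers c)
      have hne : x ≠ x * c := by
        intro h
        have hc1 : c = 1 := by
          have h4 : x * c = x * 1 := by rw [mul_one]; exact h.symm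
          exact mul_left_cancel h4
        rw [hc1, orderOf_one] at hoc
        have h5 : 1 < 2 ^ (m + 2) := Nat.one_lt_two_pow (by omega)
        omega
      obtain ⟨e⟩ := Cfsg.Agent.S0206.result x (x * c) hx hy2 hne
      have hord : orderOf (x * (x * c)) = 2 ^ (m + 2) := by
        rw [← mul_assoc, hxx, one_mul, hoc]
      rw [hord] at e
      have htop : closure ({x, x * c} : Set S) = ⊤ := by
        rw [← Subgroup.card_eq_iff_eq_top, Nat.card_congr e.toEquiv, DihedralGroup.nat_card, hk]
        ring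
      exact ⟨2 ^ (m + 2),
        ⟨(Subgroup.topEquiv.symm.trans (MulEquiv.subgroupCongr htop.symm)).trans e⟩⟩
    · right
      left
      have h4 : r + 1 = 2 ^ (m + 2) * s' + 2 ^ (m + 1) := by
        rw [hr1, hs, hs']
        ring
      have hpos : 1 ≤ 2 ^ (m + 1) := Nat.one_le_two_pow
      have h3 : r = 2 ^ (m + 2) * s' + (2 ^ (m + 1) - 1) := by omega
      have hxcx : x * c * x⁻¹ = c ^ (2 ^ (m + 1) - 1) := by
        rw [← hr', h3, pow_add, pow_mul, hcpow, one_pow, one_mul]
      have hm1 : 1 ≤ m := by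
        by_contra hm0
        have hm00 : m = 0 := by omega
        subst hm00
        apply hv
        have h5 : x * c * x⁻¹ = c := by
          rw [hxcx]
          norm_num
        rw [pow_zero, pow_one]
        calc x * c = (x * c * x⁻¹) * x := by group
          _ = c * x := by rw [h5]
      exact ⟨m + 2, by omega, hk, c, x, hoc, hx, hxcx⟩

end Cfsg.Agent.S3224
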