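import Cfsg.Statements.S0519
import Cfsg.Agent.S1894
import Cfsg.Agent.S3224
import Cfsg.Agent.Lib.Lead.UniqueSubgroup
import Cfsg.Agent.Lib.Helper11.NormalFour
import Cfsg.Agent.Lib.Helper2.CyclicMax
import Cfsg.Agent.Lib.Helper10.DihSyl

set_option autoImplicit false
open Cfsg

namespace Cfsg.Agent.S0519

open Cfsg.Agent.Lib.Helper10

/-- In a finite cyclic group `⟨a⟩`, an element killed by `d` lies in the subgroup generated by
any element of order `d`. -/
theorem mem_zpowers_of_order {P : Type*} [Group P] [Finite P] (a : P) {x y : P} (d : ℕ)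
    (hx : x ∈ Subgroup.zpowers a) (hy : y ∈ Subgroup.zpowers a) (hyd : orderOf y = d)
    (hxd : x ^ d = 1) : x ∈ Subgroup.zpowers y := by
  have hN : orderOf a ≠ 0 := (orderOf_pos a).ne'
  have hdN : d ∣ orderOf a := hyd ▸ orderOf_dvd_of_mem_zpowers hy
  have hd0 : d ≠ 0 := by rw [← hyd]; exact (orderOf_pos y).ne'
  obtain ⟨b, hb⟩ : ∃ b, b = a ^ (orderOf a / d) := ⟨_, rfl⟩
  have hbo : orderOf b = d := by rw [hb]; exact orderOf_pow_orderOf_div hN hdN
  have key : ∀ w ∈ Subgroup.zpowers a, w ^ d = 1 → w ∈ Subgroup.zpowers b := by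
    intro w hw hwd
    obtain ⟨i, rfl⟩ := Subgroup.mem_zpowers_iff.mp hw
    have h1 : (orderOf a : ℤ) ∣ i * d := by
      rw [orderOf_dvd_iff_zpow_eq_one, zpow_mul, zpow_natCast]; exact hwd
    obtain ⟨q, hq⟩ := hdN
    have hq' : orderOf a / d = q := by
      rw [hq]; exact Nat.mul_div_cancel_left q (Nat.pos_of_ne_zero hd0)
    have h2 : (q : ℤ) ∣ i := by
      apply Int.dvd_of_mul_dvd_mul_right (Int.natCast_ne_zero.mpr hd0)
      have h3 : ((q : ℤ) * (d : ℤ)) = (orderOf a : ℤ) := by rw [hq]; push_cast; ring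
      rw [h3]; exact h1
    obtain ⟨j, rfl⟩ := h2
    rw [hb, hq']
    refine Subgroup.mem_zpowers_iff.mpr ⟨j, ?_⟩
    rw [← zpow_natCast, ← zpow_mul]
  have hyb : y ∈ Subgroup.zpowers b := key y hy (by rw [← hyd]; exact pow_orderOf_eq_one y)
  have heq : Subgroup.zpowers y = Subgroup.zpowers b := by
    apply Subgroup.eq_of_le_of_card_ge (Subgroup.zpowers_le.mpr hyb)
    rw [Nat.card_zpowers, Nat.card_zpowers, hbo, hyd]
  rw [heq]; exact key x hx hxd

/-- Let P be a finite p-group in which every abelian normal subgroup is cyclic, but which has a non-cyclic abelian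
subgroup. Then p = 2 and P is generalized quaternion, dihedral of order at least 16, or quasi-dihedral. -/
theorem result {P : Type*} [Group P] [Finite P] (p : ℕ) [Fact p.Prime]
    (hP : IsPGroup p P) (hn : ∀ A : Subgroup P, A.Normal → IsMulCommutative A → IsCyclic A)
    (hm : ∃ B : Subgroup P, IsMulCommutative B ∧ ¬ IsCyclic B) :
    p = 2 ∧ ((∃ n : ℕ, Nonempty (P ≃* QuaternionGroup n)) ∨ (∃ n : ℕ, 8 ≤ n ∧ Nonempty (P ≃* DihedralGroup n)) ∨
      Cfsg.IsQuasiDihedral P) := by
  classical
  have hp : p.Prime := Fact.out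
  obtain ⟨B, hBc, hBnc⟩ := hm
  have hPnc : ¬ IsCyclic P := by
    intro h
    exact hBnc (Subgroup.isCyclic B)
  have hp2 : p = 2 := by
    by_contra hne
    obtain ⟨E, hEn, ⟨hEc, hEexp⟩, hEcard⟩ :=
      Cfsg.Agent.Lib.Helper2.exists_normal_elementary_abelian_sq hne hP hPnc
    have hcyc := hn E hEn hEc
    have h1 : Monoid.exponent E = Nat.card E := @IsCyclic.exponent_eq_card E _ hcyc
    have h2 : Monoid.exponent E ∣ p :=
      Monoid.exponent_dvd_of_forall_pow_eq_one (fun x => Subtype.ext (by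
        have := hEexp x.1 x.2
        simpa using this))
    rw [h1, hEcard] at h2
    have h3 := Nat.le_of_dvd hp.pos h2
    nlinarith [hp.one_lt]
  subst hp2
  refine ⟨rfl, ?_⟩
  have hbot : IsMulCommutative (⊥ : Subgroup P) :=
    ⟨⟨fun a b => Subtype.ext (by
      rw [Subgroup.coe_mul, Subgroup.coe_mul, Subgroup.mem_bot.mp a.2, Subgroup.mem_bot.mp b.2])⟩⟩
  obtain ⟨A, hAn, -, -, -, hAC⟩ := Cfsg.Agent.S1894.result hP ⊤ ⊥ bot_le hbot
  have hcentA : Subgroup.centralizer (A : Set P) = A := by rwa [top_inf_eq] at hAC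
  have hAcomm : IsMulCommutative A := Subgroup.le_centralizer_iff_isMulCommutative.mp hcentA.ge
  have hAcyc := hn A hAn hAcomm
  obtain ⟨a, rfl⟩ : ∃ a : P, A = Subgroup.zpowers a := by
    obtain ⟨g, hg⟩ := hAcyc.exists_generator
    refine ⟨(g : P), le_antisymm ?_ ?_⟩
    · intro x hx
      obtain ⟨i, hi⟩ := Subgroup.mem_zpowers_iff.mp (hg ⟨x, hx⟩)
      refine Subgroup.mem_zpowers_iff.mpr ⟨i, ?_⟩
      have := congrArg Subtype.val hi
      simpa using this
    · rw [Subgroup.zpowers_le]; exact g.2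
  have hcent : ∀ g : P, g * a = a * g → g ∈ Subgroup.zpowers a := by
    intro g hg
    rw [← hcentA, Subgroup.mem_centralizer_iff]
    intro h hh
    obtain ⟨i, rfl⟩ := Subgroup.mem_zpowers_iff.mp hh
    exact ((Commute.zpow_left (show Commute a g from hg.symm) i)).eq
  -- an involution outside `A`
  have hBp : IsPGroup 2 B := hP.to_subgroup B
  have hnu : ¬ Cfsg.Agent.Lib.Lead.UniqP 2 B := fun hU =>
    hBnc (Cfsg.Agent.Lib.Helper11.isCyclic_of_uniqP_two_comm hBp hU
      (fun x y => hBc.is_comm.comm x y))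
  unfold Cfsg.Agent.Lib.Lead.UniqP at hnu
  push Not at hnu
  obtain ⟨x, y, hx, hy, hx1, hyx⟩ := hnu
  obtain ⟨t, htA, htt, ht1⟩ : ∃ t : P, t ∉ Subgroup.zpowers a ∧ t * t = 1 ∧ t ≠ 1 := by
    have hx' : (x : P) ^ 2 = 1 := by have := congrArg Subtype.val hx; simpa using this
    have hy' : (y : P) ^ 2 = 1 := by have := congrArg Subtype.val hy; simpa using this
    have hx1' : (x : P) ≠ 1 := fun h => hx1 (Subtype.ext h)
    by_cases hxA : (x : P) ∈ Subgroup.zpowers a
    · have hyA : (y : P) ∉ Subgroup.zpowers a := by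
        intro hyA
        apply hyx
        have hox : orderOf (x : P) = 2 := orderOf_eq_prime hx' hx1'
        have h1 := mem_zpowers_of_order a 2 hyA hxA hox hy'
        obtain ⟨k, hk⟩ := Subgroup.mem_zpowers_iff.mp h1
        exact Subgroup.mem_zpowers_iff.mpr ⟨k, Subtype.ext (by simpa using hk)⟩
      have hy1 : (y : P) ≠ 1 := fun h => hyA (h ▸ Subgroup.one_mem _)
      exact ⟨y, hyA, by rw [← pow_two]; exact hy', hy1⟩
    · exact ⟨x, hxA, by rw [← pow_two]; exact hx', hx1'⟩
  -- power action
  have hconj : ∀ g : P, ∃ r : ℕ, ∀ x ∈ Subgroup.zpowers a, g * x * g⁻¹ = x ^ r := by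
    intro g
    have h1 : g * a * g⁻¹ ∈ Subgroup.zpowers a := hAn.conj_mem a (Subgroup.mem_zpowers a) g
    obtain ⟨r, hr⟩ := (Submonoid.mem_powers_iff _ _).mp (mem_powers_iff_mem_zpowers.mpr h1)
    refine ⟨r, fun x hx => ?_⟩
    obtain ⟨i, rfl⟩ := Subgroup.mem_zpowers_iff.mp hx
    rw [← conj_zpow, ← hr, ← zpow_natCast, ← zpow_natCast, ← zpow_mul, ← zpow_mul, mul_comm]
  have hcomm0 : ∀ g u : P, g⁻¹ * u⁻¹ * g * u ∈ Subgroup.zpowers a := by
    intro g u
    apply hcent
    obtain ⟨r, hr⟩ := hconj g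
    obtain ⟨s, hs⟩ := hconj u
    have haA := Subgroup.mem_zpowers a
    have h1 : g * u * a * (g * u)⁻¹ = u * g * a * (u * g)⁻¹ := by
      have e1 : g * u * a * (g * u)⁻¹ = g * (u * a * u⁻¹) * g⁻¹ := by group
      have e2 : u * g * a * (u * g)⁻¹ = u * (g * a * g⁻¹) * u⁻¹ := by group
      rw [e1, e2, hs a haA, hr a haA, hr _ (Subgroup.pow_mem _ haA s),
        hs _ (Subgroup.pow_mem _ haA r), ← pow_mul, ← pow_mul, mul_comm]
    calc g⁻¹ * u⁻¹ * g * u * a = (u * g)⁻¹ * (g * u * a * (g * u)⁻¹) * (g * u) := by group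
      _ = (u * g)⁻¹ * (u * g * a * (u * g)⁻¹) * (g * u) := by rw [h1]
      _ = a * (g⁻¹ * u⁻¹ * g * u) := by group
  have hcomm : ∀ g u : P, g * u * g⁻¹ * u⁻¹ ∈ Subgroup.zpowers a := by
    intro g u
    have h1 := hcomm0 g⁻¹ u
    rw [inv_inv] at h1
    have h2 := hAn.conj_mem _ (Subgroup.inv_mem _ h1) u
    have e : u * (g * u⁻¹ * g⁻¹ * u)⁻¹ * u⁻¹ = g * u * g⁻¹ * u⁻¹ := by group
    rw [e] at h2
    exact h2
  obtain ⟨n, hn'⟩ := (IsPGroup.iff_orderOf.mp hP) a
  have hn2 : 2 ≤ n := by
    by_contra hlt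
    have ha2 : a ^ 2 = 1 := by
      have h1 : orderOf a ∣ 2 := by
        rw [hn']
        have h2 : (2 : ℕ) ^ n ∣ 2 ^ 1 := pow_dvd_pow 2 (by omega : n ≤ 1)
        simpa using h2
      exact orderOf_dvd_iff_pow_eq_one.mp h1
    apply htA
    apply hcent
    obtain ⟨r, hr⟩ := hconj t
    have h1 := hr a (Subgroup.mem_zpowers a)
    rcases Nat.mod_two_eq_zero_or_one r with h | h
    · have h2 : a ^ r = 1 := by
        rw [← Nat.div_add_mod r 2, h, add_zero, pow_mul, ha2, one_pow]
      rw [h2] at h1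
      have h3 : a = 1 := by
        have e : a = t⁻¹ * (t * a * t⁻¹) * t := by group
        rw [e, h1]; group
      rw [h3]; simp
    · have h2 : a ^ r = a := by
        rw [← Nat.div_add_mod r 2, h, pow_add, pow_mul, ha2, one_pow, one_mul, pow_one]
      rw [h2] at h1
      calc t * a = t * a * t⁻¹ * t := by group
        _ = a * t := by rw [h1]
  have h4 : 4 ∣ orderOf a := by
    rw [hn']
    have h2 : (2 : ℕ) ^ 2 ∣ 2 ^ n := pow_dvd_pow 2 hn2
    simpa using h2
  obtain ⟨v, hv⟩ : ∃ v, v = a ^ (orderOf a / 4) := ⟨_, rfl⟩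
  have hvo : orderOf v = 4 := by rw [hv]; exact orderOf_pow_orderOf_div (orderOf_pos a).ne' h4
  have hvA : v ∈ Subgroup.zpowers a := by
    rw [hv]; exact Subgroup.pow_mem _ (Subgroup.mem_zpowers a) _
  have hv4 : v ^ 4 = 1 := by rw [← hvo]; exact pow_orderOf_eq_one v
  obtain ⟨z, hz⟩ : ∃ z, z = v * v := ⟨_, rfl⟩
  have hzA : z ∈ Subgroup.zpowers a := by rw [hz]; exact Subgroup.mul_mem _ hvA hvA
  have hzz : z * z = 1 := by
    rw [hz]
    calc v * v * (v * v) = v ^ 4 := by
          rw [show (4 : ℕ) = 2 + 2 from rfl, pow_add, pow_two]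
      _ = 1 := hv4
  have hz1 : z ≠ 1 := by
    intro h
    have h1 : orderOf v ∣ 2 := orderOf_dvd_of_pow_eq_one (by rw [pow_two, ← hz]; exact h)
    rw [hvo] at h1
    norm_num at h1
  have hzo : orderOf z = 2 := orderOf_eq_prime (by rw [pow_two]; exact hzz) hz1
  have hzinv : z⁻¹ = z := inv_eq_of_mul_eq_one_left hzz
  have hvinv : v⁻¹ = v ^ 3 := by
    apply inv_eq_of_mul_eq_one_right
    rw [← pow_succ', hv4]
  have F1 : ∀ g : P, g * v * g⁻¹ = v ∨ g * v * g⁻¹ = v⁻¹ := by
    intro g
    obtain ⟨r, hr⟩ := hconj g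
    have h1 := hr v hvA
    have h2 : v ^ r = v ^ (r % 4) := by rw [← hvo]; exact (pow_mod_orderOf v r).symm
    rw [h2] at h1
    have ho : orderOf (g * v * g⁻¹) = 4 := by rw [orderOf_conj_eq, hvo]
    obtain ⟨m, hm⟩ : ∃ m, m = r % 4 := ⟨_, rfl⟩
    have h3 : m < 4 := by rw [hm]; exact Nat.mod_lt _ (by norm_num)
    rw [← hm] at h1
    interval_cases m
    · exfalso
      rw [h1, pow_zero, orderOf_one] at ho
      norm_num at ho
    · left; rw [h1, pow_one]
    · exfalso
      have h5 : orderOf (g * v * g⁻¹) ∣ 2 := by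
        apply orderOf_dvd_of_pow_eq_one
        rw [h1, ← pow_mul]; exact hv4
      rw [ho] at h5
      norm_num at h5
    · right; rw [h1, hvinv]
  have hzconj : ∀ g : P, g * z * g⁻¹ = z := by
    intro g
    have e : g * z * g⁻¹ = (g * v * g⁻¹) * (g * v * g⁻¹) := by rw [hz]; group
    rw [e]
    rcases F1 g with h | h
    · rw [h, ← hz]
    · rw [h, ← mul_inv_rev, ← hz, hzinv]
  -- an involution outside `A` cannot centralize `v`
  have X' : ∀ u : P, u ∉ Subgroup.zpowers a → u * u = 1 → u * v = v * u → False := by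
    intro u huA huu huv
    have hu1 : u ≠ 1 := fun h => huA (h ▸ Subgroup.one_mem _)
    have huinv : u⁻¹ = u := inv_eq_of_mul_eq_one_left huu
    obtain ⟨r, hr⟩ := hconj u
    have hr4 : r ≡ 1 [MOD 4] := by
      have h1 := hr v hvA
      have h2 : u * v * u⁻¹ = v := by rw [huv]; group
      rw [h2] at h1
      have h3 : v ^ r = v ^ 1 := by rw [pow_one]; exact h1.symm
      rw [← hvo]; exact pow_eq_pow_iff_modEq.mp h3
    have huz : u * z = z * u := by
      rw [hz]
      calc u * (v * v) = (u * v) * v := by group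
        _ = (v * u) * v := by rw [huv]
        _ = v * (u * v) := by group
        _ = v * (v * u) := by rw [huv]
        _ = v * v * u := by group
    obtain ⟨E, hE, hEmem⟩ := exists_four u z hu1 hz1 (fun h => huA (h ▸ hzA)) huu hzz huz
    have hEn : E.Normal := by
      constructor
      intro x hx g
      have hgz : g * z * g⁻¹ = z := hzconj g
      have hgu : g * u * g⁻¹ = u ∨ g * u * g⁻¹ = u * z := by
        have hw : g * u * g⁻¹ * u⁻¹ ∈ Subgroup.zpowers a := hcomm g u
        obtain ⟨w, hwdef⟩ : ∃ w, w = g * u * g⁻¹ * u⁻¹ := ⟨_, rfl⟩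
        rw [← hwdef] at hw
        have hgu' : g * u * g⁻¹ = w * u := by rw [hwdef]; group
        have h1 : (w * u) * (w * u) = 1 := by
          rw [← hgu']
          calc g * u * g⁻¹ * (g * u * g⁻¹) = g * (u * u) * g⁻¹ := by group
            _ = 1 := by rw [huu]; group
        have h2 : u * w * u⁻¹ = w ^ r := hr w hw
        have h3 : w ^ (1 + r) = 1 := by
          rw [pow_add, pow_one, ← h2]
          calc w * (u * w * u⁻¹) = (w * u) * (w * u) * (u⁻¹ * u⁻¹) := by group
            _ = 1 := by rw [h1, huinv, huu]; group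
        obtain ⟨j, hj⟩ := (IsPGroup.iff_orderOf.mp hP) w
        have h4' : orderOf w ∣ 1 + r := orderOf_dvd_of_pow_eq_one h3
        have hj1 : j ≤ 1 := by
          by_contra hj2
          have h5 : (2 : ℕ) ^ 2 ∣ 1 + r := by
            rw [hj] at h4'
            exact (pow_dvd_pow 2 (by omega : 2 ≤ j)).trans h4'
          have h6 := hr4
          unfold Nat.ModEq at h6
          omega
        have hw2 : w ^ 2 = 1 := by
          apply orderOf_dvd_iff_pow_eq_one.mp
          rw [hj]
          have h7 : (2 : ℕ) ^ j ∣ 2 ^ 1 := pow_dvd_pow 2 hj1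
          simpa using h7
        have hwz : w ∈ Subgroup.zpowers z := mem_zpowers_of_order a 2 hw hzA hzo hw2
        rcases (mem_zpowers_invol z hzz w).mp hwz with h | h
        · left; rw [hgu', h, one_mul]
        · right; rw [hgu', h, huz]
      rcases (hEmem x).mp hx with rfl | rfl | rfl | rfl
      · rw [mul_one, mul_inv_cancel]; exact E.one_mem
      · rcases hgu with h | h
        · rw [h]; exact (hEmem _).mpr (Or.inr (Or.inl rfl))
        · rw [h]; exact (hEmem _).mpr (Or.inr (Or.inr (Or.inr rfl)))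
      · rw [hgz]; exact (hEmem _).mpr (Or.inr (Or.inr (Or.inl rfl)))
      · have e : g * (u * z) * g⁻¹ = (g * u * g⁻¹) * (g * z * g⁻¹) := by group
        rw [e, hgz]
        rcases hgu with h | h
        · rw [h]; exact (hEmem _).mpr (Or.inr (Or.inr (Or.inr rfl)))
        · rw [h]
          have e2 : u * z * z = u := by rw [mul_assoc, hzz, mul_one]
          rw [e2]; exact (hEmem _).mpr (Or.inr (Or.inl rfl))
    have hEc : IsMulCommutative E := @IsKleinFour.isMulCommutative _ _ hE
    exact (@IsKleinFour.not_isCyclic _ _ hE) (hn E hEn hEc)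
  have htinv : t⁻¹ = t := inv_eq_of_mul_eq_one_left htt
  have htv : ¬ (t * v = v * t) := fun h => X' t htA htt h
  have htv' : t * v * t⁻¹ = v⁻¹ := (F1 t).resolve_left (fun h => htv (by
    calc t * v = t * v * t⁻¹ * t := by group
      _ = v * t := by rw [h]))
  obtain ⟨ρ, hρ⟩ := hconj t
  have hρ4 : ρ ≡ 3 [MOD 4] := by
    have h1 := hρ v hvA
    rw [htv', hvinv] at h1
    rw [← hvo]; exact pow_eq_pow_iff_modEq.mp h1.symm
  have hCA : ∀ w ∈ Subgroup.zpowers a, t * w = w * t → w = 1 ∨ w = z := by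
    intro w hw hc
    have h1 := hρ w hw
    have h2 : t * w * t⁻¹ = w := by rw [hc]; group
    rw [h2] at h1
    have h3 : ρ ≡ 1 [MOD orderOf w] := pow_eq_pow_iff_modEq.mp (by rw [pow_one]; exact h1.symm)
    obtain ⟨j, hj⟩ := (IsPGroup.iff_orderOf.mp hP) w
    have hj1 : j ≤ 1 := by
      by_contra hj2
      have h5 : ρ ≡ 1 [MOD 2 ^ 2] := h3.of_dvd (by
        rw [hj]; exact pow_dvd_pow 2 (by omega : 2 ≤ j))
      have h6 := hρ4
      unfold Nat.ModEq at h5 h6
      omega
    have hw2 : w ^ 2 = 1 := by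
      apply orderOf_dvd_iff_pow_eq_one.mp
      rw [hj]
      have h7 : (2 : ℕ) ^ j ∣ 2 ^ 1 := pow_dvd_pow 2 hj1
      simpa using h7
    have hwz := mem_zpowers_of_order a 2 hw hzA hzo hw2
    exact (mem_zpowers_invol z hzz w).mp hwz
  have hiii : ∀ (k : ℕ) (g : P), g ^ (2 ^ k) = 1 → g ∉ Subgroup.zpowers a → g * v = v * g →
      g * t = t * g → False := by
    intro k
    induction k with
    | zero =>
      intro g hg hgA _ _
      rw [pow_zero, pow_one] at hg
      exact hgA (hg ▸ Subgroup.one_mem _)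
    | succ k ih =>
      intro g hg hgA hgv hgt
      by_cases hg2 : g * g ∈ Subgroup.zpowers a
      · have hc : t * (g * g) = (g * g) * t := by
          rw [← mul_assoc, ← hgt, mul_assoc, ← hgt, mul_assoc]
        rcases hCA (g * g) hg2 hc with h | h
        · exact X' g hgA h hgv
        · apply X' (v * g)
          · intro hmem
            apply hgA
            have h1 := Subgroup.mul_mem _ (Subgroup.inv_mem _ hvA) hmem
            rwa [inv_mul_cancel_left] at h1
          · calc v * g * (v * g) = v * (g * v) * g := by group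
              _ = v * (v * g) * g := by rw [hgv]
              _ = (v * v) * (g * g) := by group
              _ = 1 := by rw [h, ← hz, hzz]
          · calc v * g * v = v * (g * v) := by group
              _ = v * (v * g) := by rw [hgv]
      · apply ih (g * g) ?_ hg2 ?_ ?_
        · rw [← pow_two, ← pow_mul, ← pow_succ']; exact hg
        · calc g * g * v = g * (g * v) := by group
            _ = g * (v * g) := by rw [hgv]
            _ = (g * v) * g := by group
            _ = v * g * g := by rw [hgv]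
            _ = v * (g * g) := by group
        · calc g * g * t = g * (g * t) := by group
            _ = g * (t * g) := by rw [hgt]
            _ = (g * t) * g := by group
            _ = t * g * g := by rw [hgt]
            _ = t * (g * g) := by group
  have hiv : ∀ g : P, g * t = t * g → g = 1 ∨ g = z ∨ g = t ∨ g = z * t := by
    intro g hgt
    have hA_of : ∀ g' : P, g' * t = t * g' → g' * v = v * g' → g' ∈ Subgroup.zpowers a := by
      intro g' h1 h2
      by_contra hnA
      obtain ⟨k, hk⟩ := (IsPGroup.iff_orderOf.mp hP) g'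
      exact hiii k g' (by rw [← hk]; exact pow_orderOf_eq_one g') hnA h2 h1
    by_cases hgv : g * v = v * g
    · have hgA := hA_of g hgt hgv
      rcases hCA g hgA hgt.symm with h | h
      · left; exact h
      · right; left; exact h
    · have hgv' : g * v * g⁻¹ = v⁻¹ := (F1 g).resolve_left (fun h => hgv (by
        calc g * v = g * v * g⁻¹ * g := by group
          _ = v * g := by rw [h]))
      have h1 : (g * t) * v = v * (g * t) := by
        have h0 : g * t * v * (g * t)⁻¹ = v := by
          calc g * t * v * (g * t)⁻¹ = g * (t * v * t⁻¹) * g⁻¹ := by group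
            _ = g * v⁻¹ * g⁻¹ := by rw [htv']
            _ = (g * v * g⁻¹)⁻¹ := by group
            _ = v := by rw [hgv', inv_inv]
        calc g * t * v = g * t * v * (g * t)⁻¹ * (g * t) := by group
          _ = v * (g * t) := by rw [h0]
      have h2 : (g * t) * t = t * (g * t) := by rw [← mul_assoc, hgt]
      have hgtA := hA_of (g * t) h2 h1
      rcases hCA (g * t) hgtA h2.symm with h | h
      · right; right; left
        calc g = g * t * t⁻¹ := by group
          _ = t := by rw [h, one_mul, htinv]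
      · right; right; right
        calc g = g * t * t⁻¹ := by group
          _ = z * t := by rw [h, htinv]
  have htz : t * z = z * t := by
    have h1 := hzconj t
    calc t * z = t * z * t⁻¹ * t := by group
      _ = z * t := by rw [h1]
  obtain ⟨U, hU, hUmem⟩ := exists_four t z ht1 hz1 (fun h => htA (h ▸ hzA)) htt hzz htz
  have hCU : Subgroup.centralizer ({t} : Set P) = U := by
    ext g
    rw [Subgroup.mem_centralizer_iff, hUmem]
    constructor
    · intro h
      have h1 : g * t = t * g := (h t rfl).symm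
      rcases hiv g h1 with h | h | h | h
      · left; exact h
      · right; right; left; exact h
      · right; left; exact h
      · right; right; right; rw [h, htz]
    · rintro (rfl | rfl | rfl | rfl) h hh
      all_goals (rw [Set.mem_singleton_iff] at hh; subst hh)
      · simp
      · rfl
      · exact htz
      · rw [← mul_assoc, htt, one_mul, mul_assoc, ← htz, ← mul_assoc, htt, one_mul]
  have hC : Nat.card ↥(Subgroup.centralizer ({t} : Set P)) = 4 := by
    rw [hCU]; exact hU.card_four
  have hto : orderOf t = 2 := orderOf_eq_prime (by rw [pow_two]; exact htt) ht1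
  have hcard8 : 8 ≤ Nat.card P := by
    have h1 : Nat.card (Subgroup.zpowers a) = 2 ^ n := by rw [Nat.card_zpowers, hn']
    have h2 := Subgroup.card_mul_index (Subgroup.zpowers a)
    have h3 : (Subgroup.zpowers a).index ≠ 1 := by
      intro h
      rw [Subgroup.index_eq_one] at h
      exact htA (h ▸ Subgroup.mem_top t)
    have h4' : (Subgroup.zpowers a).index ≠ 0 := Subgroup.index_ne_zero_of_finite
    have h5 : 4 ≤ 2 ^ n := by
      calc 4 = 2 ^ 2 := by norm_num
        _ ≤ 2 ^ n := Nat.pow_le_pow_right (by norm_num) hn2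
    rw [h1] at h2
    have h6 : 2 ≤ (Subgroup.zpowers a).index := by omega
    nlinarith
  rcases Cfsg.Agent.S3224.result hP t hto hC with ⟨m, ⟨e⟩⟩ | hQD | h4c
  · right; left
    have hm2 : Nat.card P = 2 * m := by rw [Nat.card_congr e.toEquiv, DihedralGroup.nat_card]
    by_cases hm8 : 8 ≤ m
    · exact ⟨m, hm8, ⟨e⟩⟩
    · exfalso
      obtain ⟨K, hK⟩ := IsPGroup.iff_card.mp hP
      have hK3 : K ≤ 3 := by
        by_contra hK4
        have h1 : 2 ^ 4 ≤ 2 ^ K := Nat.pow_le_pow_right (by norm_num) (by omega)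
        omega
      have hP8 : Nat.card P = 8 := by
        have h1 : 2 ^ K ≤ 2 ^ 3 := Nat.pow_le_pow_right (by norm_num) hK3
        omega
      have hidx : U.index = 2 := by
        have h1 := Subgroup.card_mul_index U
        rw [hU.card_four, hP8] at h1
        omega
      have hUn : U.Normal := Subgroup.normal_of_index_eq_two hidx
      exact (@IsKleinFour.not_isCyclic _ _ hU) (hn U hUn (@IsKleinFour.isMulCommutative _ _ hU))
  · right; right; exact hQD
  · omega

end Cfsg.Agent.S0519
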