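import Cfsg.Statements.S0631
import Cfsg.Agent.Lib.Helper11.FStarLocal
import Cfsg.Agent.Lib.Helper6.PConstr
import Cfsg.Agent.Lib.Helper18.SylowRel

set_option autoImplicit false
open Cfsg

namespace Cfsg.Agent.S0631

open Cfsg.Agent.Lib.Helper6

universe u

section aux

variable {p : ℕ} [Fact p.Prime]

/-- the condition `C(O_p) ≤ O_p` is invariant under isomorphism -/
lemma cent_pCore_le_of_mulEquiv {A B : Type u} [Group A] [Group B] (e : A ≃* B)
    (h : Subgroup.centralizer (pCore p B : Set B) ≤ pCore p B) :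
    Subgroup.centralizer (pCore p A : Set A) ≤ pCore p A := by
  intro x hx
  have hcomap := pCore_comap_mulEquiv (p := p) e
  rw [← hcomap, Subgroup.mem_comap]
  apply h
  rw [Subgroup.mem_centralizer_iff]
  intro y hy
  have hy' : e.symm y ∈ pCore p A := by
    rw [← hcomap, Subgroup.mem_comap]; simpa using hy
  have := Subgroup.mem_centralizer_iff.mp hx _ hy'
  have h2 := congrArg e this
  simpa using h2

/-- transfer of `p`-constraint along a surjection with `p'`-kernel -/
lemma isPConstrained_of_surjective {X Y : Type u} [Group X] [Group Y] [Finite X] [Finite Y]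
    (φ : X →* Y) (hφ : Function.Surjective φ) (hker : (Nat.card φ.ker).Coprime p)
    (hO : pPrimeCore p Y = ⊥)
    (hC : Subgroup.centralizer (pCore p Y : Set Y) ≤ pCore p Y) : IsPConstrained p X := by
  have hk : pPrimeCore p X = φ.ker := by
    apply le_antisymm
    · intro x hx
      rw [MonoidHom.mem_ker]
      have h1 : ((pPrimeCore p X).map φ).Normal := (Cfsg.pPrimeCore_normal p X).map φ hφ
      have h2 : (Nat.card ((pPrimeCore p X).map φ)).Coprime p :=
        Nat.Coprime.coprime_dvd_left (Subgroup.card_map_dvd _ _)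
          (Cfsg.Agent.Lib.Helper14.pPrimeCore_coprime p)
      have h3 := Cfsg.Agent.Lib.Helper14.le_pPrimeCore p h1 h2
      rw [hO] at h3
      exact Subgroup.mem_bot.mp (h3 ⟨x, hx, rfl⟩)
    · exact Cfsg.Agent.Lib.Helper14.le_pPrimeCore p (MonoidHom.normal_ker φ) hker
  rw [isPConstrained_iff_quotient]
  exact cent_pCore_le_of_mulEquiv
    ((QuotientGroup.quotientMulEquivOfEq hk).trans
      (QuotientGroup.quotientKerEquivOfSurjective φ hφ)) hC

/-- normal subgroups inherit `O_{p'} = 1` and `C(O_p) ≤ O_p` -/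
lemma normal_inherit {M : Type u} [Group M] [Finite M] (hO : pPrimeCore p M = ⊥)
    (hC : Subgroup.centralizer (pCore p M : Set M) ≤ pCore p M) (Y : Subgroup M)
    [hY : Y.Normal] :
    pPrimeCore p ↥Y = ⊥ ∧ Subgroup.centralizer (pCore p ↥Y : Set ↥Y) ≤ pCore p ↥Y := by
  have hp : p.Prime := Fact.out
  constructor
  · have h1 := pPrimeCore_map_subtype_normal (p := p) Y
    have h2 : (Nat.card ((pPrimeCore p ↥Y).map Y.subtype)).Coprime p := by
      rw [Subgroup.card_map_of_injective Y.subtype_injective]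
      exact Cfsg.Agent.Lib.Helper14.pPrimeCore_coprime p
    have h3 := Cfsg.Agent.Lib.Helper14.le_pPrimeCore p h1 h2
    rw [hO] at h3
    rw [eq_bot_iff]
    intro y hy
    have h4 := h3 ⟨y, hy, rfl⟩
    rw [Subgroup.mem_bot] at h4 ⊢
    exact Subtype.ext h4
  · intro y hy
    obtain ⟨R, hR⟩ : ∃ R : Subgroup M, R = (pCore p ↥Y).map Y.subtype := ⟨_, rfl⟩
    have hRn : R.Normal := hR ▸ pCore_map_subtype_normal (p := p) Y
    have hQY : pCore p M ⊓ Y ≤ R := by
      intro z hz
      have h1 : ((pCore p M).subgroupOf Y).Normal := (Cfsg.pCore_normal p M).subgroupOf Y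
      have h2 : IsPGroup p ((pCore p M).subgroupOf Y) :=
        (Cfsg.Agent.Lib.Helper14.pCore_isPGroup p).comap_subtype
      have h3 := Cfsg.Agent.Lib.Helper14.le_pCore p h1 h2
      rw [hR]
      exact ⟨⟨z, hz.2⟩, h3 (by simpa [Subgroup.mem_subgroupOf] using hz.1), rfl⟩
    obtain ⟨D, hD⟩ : ∃ D : Subgroup M, D = Y ⊓ Subgroup.centralizer (R : Set M) := ⟨_, rfl⟩
    have hDn : D.Normal := by rw [hD]; infer_instance
    have hyD : (y : M) ∈ D := by
      rw [hD, Subgroup.mem_inf]
      refine ⟨y.2, ?_⟩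
      rw [Subgroup.mem_centralizer_iff]
      intro r hr
      rw [hR] at hr
      obtain ⟨r₀, hr₀, rfl⟩ := hr
      exact congrArg Subtype.val (Subgroup.mem_centralizer_iff.mp hy r₀ hr₀)
    have key : ∀ x ∈ D, (orderOf x).Coprime p → x = 1 := by
      intro x hx hxo
      rw [hD] at hx
      have hxQ : x ∈ Subgroup.centralizer (pCore p M : Set M) := by
        rw [Subgroup.mem_centralizer_iff]
        intro q hq
        obtain ⟨c, hc⟩ : ∃ c, c = q * x * q⁻¹ * x⁻¹ := ⟨_, rfl⟩
        have hc1 : c ∈ pCore p M := by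
          have h1 : x * q⁻¹ * x⁻¹ ∈ pCore p M :=
            (Cfsg.pCore_normal p M).conj_mem _ ((pCore p M).inv_mem hq) x
          have h2 := (pCore p M).mul_mem hq h1
          have e : q * (x * q⁻¹ * x⁻¹) = c := by rw [hc]; group
          rwa [e] at h2
        have hc2 : c ∈ Y := by
          rw [hc]
          exact Y.mul_mem (hY.conj_mem x hx.1 q) (Y.inv_mem hx.1)
        have hcR : c ∈ R := hQY ⟨hc1, hc2⟩
        have hcx : Commute c x := Subgroup.mem_centralizer_iff.mp hx.2 _ hcR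
        have h1 : q * x * q⁻¹ = c * x := by rw [hc]; group
        have h3 : q * x ^ (orderOf x) * q⁻¹ = c ^ (orderOf x) * x ^ (orderOf x) := by
          rw [← conj_pow, h1, hcx.mul_pow]
        rw [pow_orderOf_eq_one, mul_one, mul_inv_cancel, mul_one] at h3
        obtain ⟨e, he⟩ := exists_pow_eq_one_of_mem_pCore hc1
        have hc1' : c = 1 := by
          have hd1 : orderOf c ∣ orderOf x := orderOf_dvd_of_pow_eq_one h3.symm
          have hd2 : orderOf c ∣ p ^ e := orderOf_dvd_of_pow_eq_one he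
          exact orderOf_eq_one_iff.mp (Nat.eq_one_of_dvd_coprimes (hxo.pow_right e) hd1 hd2)
        rw [hc1', one_mul] at h1
        calc q * x = q * x * q⁻¹ * q := by group
          _ = x * q := by rw [h1]
      obtain ⟨e, he⟩ := exists_pow_eq_one_of_mem_pCore (hC hxQ)
      have hd : orderOf x ∣ p ^ e := orderOf_dvd_of_pow_eq_one he
      exact orderOf_eq_one_iff.mp (Nat.eq_one_of_dvd_coprimes (hxo.pow_right e) dvd_rfl hd)
    have hDp : IsPGroup p D := by
      rintro ⟨g, hg⟩
      obtain ⟨k, m, hm, hkm⟩ := Nat.exists_eq_pow_mul_and_not_dvd (orderOf_pos g).ne' p hp.ne_one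
      refine ⟨k, Subtype.ext ?_⟩
      show g ^ p ^ k = 1
      apply key _ (D.pow_mem hg _)
      have h1 : (g ^ p ^ k) ^ m = 1 := by rw [← pow_mul, ← hkm, pow_orderOf_eq_one]
      exact Nat.Coprime.coprime_dvd_left (orderOf_dvd_of_pow_eq_one h1)
        ((Nat.Prime.coprime_iff_not_dvd hp).mpr hm).symm
    have hDQ : D ≤ pCore p M := Cfsg.Agent.Lib.Helper14.le_pCore p hDn hDp
    have hyR : (y : M) ∈ R := hQY ⟨hDQ hyD, y.2⟩
    rw [hR] at hyR
    obtain ⟨y', hy', hyy⟩ := hyR
    have : y' = y := Subtype.ext hyy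
    rwa [this] at hy'

end aux

section main

open Cfsg.Agent.Lib.Helper18

variable {G : Type u} [Group G] [Finite G] {p : ℕ} [Fact p.Prime]

omit [Finite G] [Fact p.Prime] in
lemma eq_one_of_mem_p_pprime (O : Subgroup G) (hO : (Nat.card O).Coprime p) (P : Subgroup G)
    (hP : IsPGroup p P) : ∀ z ∈ P, z ∈ O → z = 1 := by
  intro z hzP hzO
  obtain ⟨k, hk⟩ := hP ⟨z, hzP⟩
  have hk' : z ^ p ^ k = 1 := congrArg Subtype.val hk
  have h1 : orderOf z ∣ p ^ k := orderOf_dvd_of_pow_eq_one hk'
  have h2 : orderOf z ∣ Nat.card O := by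
    have := orderOf_dvd_natCard (⟨z, hzO⟩ : O)
    rwa [Subgroup.orderOf_mk] at this
  exact orderOf_eq_one_iff.mp (Nat.eq_one_of_dvd_coprimes (hO.pow_right k) h2 h1)

/-- preimages of elements normalizing the image of a `p`-subgroup modulo a normal
`p'`-subgroup -/
lemma exists_normalizer_preimage (O : Subgroup G) [hOn : O.Normal] (hO : (Nat.card O).Coprime p)
    (P : Subgroup G) (hP : IsPGroup p P) (x : G)
    (hx : QuotientGroup.mk' O x ∈ Subgroup.normalizer
      ((P.map (QuotientGroup.mk' O) : Subgroup (G ⧸ O)) : Set (G ⧸ O))) :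
    ∃ o ∈ O, o * x ∈ Subgroup.normalizer (P : Set G) := by
  obtain ⟨K, hK⟩ : ∃ K : Subgroup G, K = P ⊔ O := ⟨_, rfl⟩
  have hsyl : IsSylowIn p P K := by
    refine ⟨hK ▸ le_sup_left, hP, ?_⟩
    intro R hR hPR hRK
    apply le_antisymm _ hPR
    intro r hr
    have hrK : r ∈ P ⊔ O := hK ▸ hRK hr
    obtain ⟨t, ht, o, ho, rfl⟩ := Subgroup.mem_sup_of_normal_right.mp hrK
    have hoR : o ∈ R := by
      have := R.mul_mem (R.inv_mem (hPR ht)) hr
      simpa using this
    have ho1 : o = 1 := eq_one_of_mem_p_pprime O hO R hR o hoR ho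
    rw [ho1, mul_one]; exact ht
  have hxP : ∀ t ∈ P, x * t * x⁻¹ ∈ K := by
    intro t ht
    have h1 : QuotientGroup.mk' O (x * t * x⁻¹) ∈ P.map (QuotientGroup.mk' O) := by
      rw [map_mul, map_mul, map_inv]
      exact (Subgroup.mem_normalizer_iff.mp hx _).mp ⟨t, ht, rfl⟩
    obtain ⟨t', ht', he⟩ := h1
    have h2 : t'⁻¹ * (x * t * x⁻¹) ∈ O := by
      apply (QuotientGroup.eq_one_iff _).mp
      show QuotientGroup.mk' O (t'⁻¹ * (x * t * x⁻¹)) = 1
      rw [map_mul, map_inv, he, inv_mul_cancel]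
    rw [hK]
    have e : x * t * x⁻¹ = t' * (t'⁻¹ * (x * t * x⁻¹)) := by group
    rw [e]
    exact Subgroup.mul_mem_sup ht' h2
  have hKx : K.map (MulAut.conj x).toMonoidHom = K := by
    apply Subgroup.eq_of_le_of_card_ge
    · rw [Subgroup.map_le_iff_le_comap, hK]
      refine sup_le ?_ ?_
      · intro t ht
        rw [Subgroup.mem_comap]
        exact hK ▸ hxP t ht
      · intro o ho
        rw [Subgroup.mem_comap]
        exact Subgroup.mem_sup_right (hOn.conj_mem o ho x)
    · rw [card_map_conj]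
  have hsyl' : IsSylowIn p (P.map (MulAut.conj x).toMonoidHom) K := by
    have := hsyl.map_conj x
    rwa [hKx] at this
  obtain ⟨c, hcK, hc⟩ := hsyl.exists_conj_eq hsyl'
  rw [hK, sup_comm] at hcK
  obtain ⟨o, ho, t, ht, rfl⟩ := Subgroup.mem_sup_of_normal_left.mp hcK
  refine ⟨o⁻¹, O.inv_mem ho, ?_⟩
  apply mem_normalizer_of_map_conj_eq
  rw [map_conj_mul, hc, map_conj_mul,
    map_conj_eq_of_mem_normalizer P (Subgroup.le_normalizer ht), ← map_conj_mul, inv_mul_cancel,
    map_conj_one]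

end main

/-- In a p-constrained group the normalizer and the centralizer of any p-subgroup are again p-constrained. -/
theorem result {G : Type*} [Group G] [Finite G] {p : ℕ} [Fact p.Prime] (hG : Cfsg.IsPConstrained p G) (P : Subgroup G) (hP : IsPGroup p P) : Cfsg.IsPConstrained p ↥(Subgroup.normalizer (P : Set G)) ∧ Cfsg.IsPConstrained p ↥(Subgroup.centralizer (P : Set G)) := by
  classical
  have hOc : (Nat.card (pPrimeCore p G)).Coprime p := Cfsg.Agent.Lib.Helper14.pPrimeCore_coprime p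
  have hO' : pPrimeCore p (G ⧸ pPrimeCore p G) = ⊥ := pPrimeCore_quotient_pPrimeCore_eq_bot
  have hlayer : Cfsg.layer (G ⧸ pPrimeCore p G) = ⊥ :=
    (Cfsg.Agent.Lib.Helper11.pLayer_eq_bot_iff p).mp
      ((Cfsg.Agent.Lib.Helper11.isPConstrained_iff_pLayer_eq_bot p).mp hG)
  have hF : Cfsg.generalizedFittingSubgroup (G ⧸ pPrimeCore p G)
      = pCore p (G ⧸ pPrimeCore p G) := by
    unfold Cfsg.generalizedFittingSubgroup
    rw [hlayer, bot_sup_eq]
    exact Cfsg.Agent.Lib.Helper11.fitting_eq_pCore_of_pPrimeCore_eq_bot p hO'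
  obtain ⟨Pb, hPbdef⟩ : ∃ Pb : Subgroup (G ⧸ pPrimeCore p G),
      Pb = P.map (QuotientGroup.mk' (pPrimeCore p G)) := ⟨_, rfl⟩
  have hPb : IsPGroup p Pb := hPbdef ▸ hP.map _
  have hM := Cfsg.Agent.Lib.Helper11.genFitting_normalizer_eq_pCore p hF Pb hPb
  obtain ⟨M, hMdef⟩ : ∃ M : Subgroup (G ⧸ pPrimeCore p G),
      M = Subgroup.normalizer (Pb : Set (G ⧸ pPrimeCore p G)) := ⟨_, rfl⟩
  rw [← hMdef] at hM
  have hMC : Subgroup.centralizer (pCore p ↥M : Set ↥M) ≤ pCore p ↥M := by
    have := Cfsg.Agent.Lib.Helper11.centralizer_genFitting_le (G := ↥M)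
    rwa [hM] at this
  have hMO : pPrimeCore p ↥M = ⊥ := by
    have hcop : (Nat.card (pPrimeCore p ↥M)).Coprime (Nat.card (pCore p ↥M)) := by
      obtain ⟨k, hk⟩ := IsPGroup.iff_card.mp (Cfsg.Agent.Lib.Helper14.pCore_isPGroup (G := ↥M) p)
      rw [hk]
      exact Nat.Coprime.pow_right k (Cfsg.Agent.Lib.Helper14.pPrimeCore_coprime p)
    have hdisj := Subgroup.disjoint_of_coprime_natCard hcop
    have h1 : ⁅pPrimeCore p ↥M, pCore p ↥M⁆ = ⊥ := by
      rw [eq_bot_iff]
      exact (Subgroup.commutator_le_inf _ _).trans hdisj.le_bot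
    have h2 : pPrimeCore p ↥M ≤ Subgroup.centralizer (pCore p ↥M : Set ↥M) :=
      Subgroup.commutator_eq_bot_iff_le_centralizer.mp h1
    rw [eq_bot_iff]
    exact (le_inf le_rfl (h2.trans hMC)).trans hdisj.le_bot
  have hmapN : ∀ x : G, x ∈ Subgroup.normalizer (P : Set G) →
      QuotientGroup.mk' (pPrimeCore p G) x ∈ M := by
    intro x hx
    rw [hMdef, hPbdef]
    exact Subgroup.le_normalizer_map _ ⟨x, hx, rfl⟩
  constructor
  · let φ : ↥(Subgroup.normalizer (P : Set G)) →* ↥M :=
      ((QuotientGroup.mk' (pPrimeCore p G)).comp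
        (Subgroup.normalizer (P : Set G)).subtype).codRestrict M (fun x => hmapN x.1 x.2)
    refine isPConstrained_of_surjective φ ?_ ?_ hMO hMC
    · rintro ⟨ybar, hy⟩
      obtain ⟨y, rfl⟩ := QuotientGroup.mk'_surjective _ ybar
      obtain ⟨o, ho, hoy⟩ := exists_normalizer_preimage (pPrimeCore p G) hOc P hP y
        (by rw [← hPbdef, ← hMdef]; exact hy)
      refine ⟨⟨o * y, hoy⟩, Subtype.ext ?_⟩
      show QuotientGroup.mk' (pPrimeCore p G) (o * y) = QuotientGroup.mk' (pPrimeCore p G) y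
      rw [map_mul, show QuotientGroup.mk' (pPrimeCore p G) o = 1 from
        (QuotientGroup.eq_one_iff o).mpr ho, one_mul]
    · have h1 : (φ.ker.map (Subgroup.normalizer (P : Set G)).subtype) ≤ pPrimeCore p G := by
        rintro _ ⟨x, hx, rfl⟩
        have hx' : φ x = 1 := MonoidHom.mem_ker.mp hx
        have := congrArg Subtype.val hx'
        exact (QuotientGroup.eq_one_iff _).mp this
      have h2 := Subgroup.card_dvd_of_le h1
      rw [Subgroup.card_map_of_injective (Subgroup.subtype_injective _)] at h2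
      exact Nat.Coprime.coprime_dvd_left h2 hOc
  · obtain ⟨Y, hYdef⟩ : ∃ Y : Subgroup ↥M,
        Y = (Subgroup.centralizer (Pb : Set (G ⧸ pPrimeCore p G))).subgroupOf M := ⟨_, rfl⟩
    have hYn : Y.Normal := by
      rw [hYdef]
      constructor
      intro c hc n
      rw [Subgroup.mem_subgroupOf] at hc ⊢
      rw [Subgroup.mem_centralizer_iff] at hc ⊢
      intro t ht
      have hn : (n : G ⧸ pPrimeCore p G) ∈ Subgroup.normalizer (Pb : Set (G ⧸ pPrimeCore p G)) :=
        hMdef ▸ n.2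
      have ht' : (n : G ⧸ pPrimeCore p G)⁻¹ * t * (n : G ⧸ pPrimeCore p G) ∈ Pb := by
        refine (Subgroup.mem_normalizer_iff.mp hn _).mpr ?_
        have e : (n : G ⧸ pPrimeCore p G) * ((n : G ⧸ pPrimeCore p G)⁻¹ * t * n) *
            (n : G ⧸ pPrimeCore p G)⁻¹ = t := by group
        rw [e]; exact ht
      have h3 := hc _ ht'
      have e1 : t * ((n : G ⧸ pPrimeCore p G) * c * (n : G ⧸ pPrimeCore p G)⁻¹)
          = n * ((n : G ⧸ pPrimeCore p G)⁻¹ * t * n * c) * (n : G ⧸ pPrimeCore p G)⁻¹ := by group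
      have e2 : (n : G ⧸ pPrimeCore p G) * c * (n : G ⧸ pPrimeCore p G)⁻¹ * t
          = n * (c * ((n : G ⧸ pPrimeCore p G)⁻¹ * t * n)) * (n : G ⧸ pPrimeCore p G)⁻¹ := by group
      show t * ((n : G ⧸ pPrimeCore p G) * c * (n : G ⧸ pPrimeCore p G)⁻¹)
        = (n : G ⧸ pPrimeCore p G) * c * (n : G ⧸ pPrimeCore p G)⁻¹ * t
      rw [e1, e2, h3]
    obtain ⟨hYO, hYC⟩ := normal_inherit hMO hMC Y
    have hCN : Subgroup.centralizer (P : Set G) ≤ Subgroup.normalizer (P : Set G) := by
      intro c hc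
      rw [Subgroup.mem_normalizer_iff]
      intro t
      rw [Subgroup.mem_centralizer_iff] at hc
      constructor
      · intro ht
        have e : c * t * c⁻¹ = t := by rw [← hc t ht, mul_inv_cancel_right]
        rw [e]; exact ht
      · intro ht
        have e := hc _ ht
        have e2 : t = c * t * c⁻¹ := by
          have : c * t * c⁻¹ * c = c * (c * t * c⁻¹) := e
          have h3 : c * t = c * (c * t * c⁻¹) := by rw [← this]; group
          exact mul_left_cancel h3
        rw [e2]; exact ht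
    let ψ : ↥(Subgroup.centralizer (P : Set G)) →* ↥M :=
      ((QuotientGroup.mk' (pPrimeCore p G)).comp
        (Subgroup.centralizer (P : Set G)).subtype).codRestrict M
        (fun x => hmapN x.1 (hCN x.2))
    have hψY : ∀ x : ↥(Subgroup.centralizer (P : Set G)), ψ x ∈ Y := by
      intro x
      rw [hYdef, Subgroup.mem_subgroupOf, Subgroup.mem_centralizer_iff, hPbdef]
      rintro _ ⟨t, ht, rfl⟩
      show QuotientGroup.mk' (pPrimeCore p G) t * QuotientGroup.mk' (pPrimeCore p G) (x : G)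
        = QuotientGroup.mk' (pPrimeCore p G) (x : G) * QuotientGroup.mk' (pPrimeCore p G) t
      rw [← map_mul, ← map_mul, Subgroup.mem_centralizer_iff.mp x.2 t ht]
    let φ : ↥(Subgroup.centralizer (P : Set G)) →* ↥Y := ψ.codRestrict Y hψY
    refine isPConstrained_of_surjective φ ?_ ?_ hYO hYC
    · rintro ⟨⟨ybar, hyM⟩, hyY⟩
      obtain ⟨y, rfl⟩ := QuotientGroup.mk'_surjective _ ybar
      obtain ⟨o, ho, hoy⟩ := exists_normalizer_preimage (pPrimeCore p G) hOc P hP y
        (by rw [← hPbdef, ← hMdef]; exact hyM)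
      have hπo : QuotientGroup.mk' (pPrimeCore p G) o = 1 := (QuotientGroup.eq_one_iff o).mpr ho
      have hcen : o * y ∈ Subgroup.centralizer (P : Set G) := by
        rw [Subgroup.mem_centralizer_iff]
        intro t ht
        have hc1 : (o * y) * t * (o * y)⁻¹ * t⁻¹ ∈ P :=
          P.mul_mem ((Subgroup.mem_normalizer_iff.mp hoy t).mp ht) (P.inv_mem ht)
        have hc2 : (o * y) * t * (o * y)⁻¹ * t⁻¹ ∈ pPrimeCore p G := by
          apply (QuotientGroup.eq_one_iff _).mp
          show QuotientGroup.mk' (pPrimeCore p G) ((o * y) * t * (o * y)⁻¹ * t⁻¹) = 1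
          have hcomm : QuotientGroup.mk' (pPrimeCore p G) t * QuotientGroup.mk' (pPrimeCore p G) y
              = QuotientGroup.mk' (pPrimeCore p G) y * QuotientGroup.mk' (pPrimeCore p G) t := by
            rw [hYdef, Subgroup.mem_subgroupOf] at hyY
            exact Subgroup.mem_centralizer_iff.mp hyY _ (hPbdef ▸ ⟨t, ht, rfl⟩)
          rw [map_mul, map_mul, map_mul, map_inv, map_inv, map_mul, hπo, one_mul, ← hcomm,
            mul_inv_cancel_right, mul_inv_cancel]
        have h1 := eq_one_of_mem_p_pprime (pPrimeCore p G) hOc P hP _ hc1 hc2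
        have h2 : (o * y) * t * (o * y)⁻¹ = t := by
          have h3 := mul_eq_one_iff_eq_inv.mp h1
          rwa [inv_inv] at h3
        calc t * (o * y) = ((o * y) * t * (o * y)⁻¹) * (o * y) := by rw [h2]
          _ = (o * y) * t := by group
      refine ⟨⟨o * y, hcen⟩, Subtype.ext (Subtype.ext ?_)⟩
      show QuotientGroup.mk' (pPrimeCore p G) (o * y) = QuotientGroup.mk' (pPrimeCore p G) y
      rw [map_mul, hπo, one_mul]
    · have h1 : (φ.ker.map (Subgroup.centralizer (P : Set G)).subtype) ≤ pPrimeCore p G := by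
        rintro _ ⟨x, hx, rfl⟩
        have hx' : φ x = 1 := MonoidHom.mem_ker.mp hx
        have := congrArg (fun z : ↥Y => ((z : ↥M) : G ⧸ pPrimeCore p G)) hx'
        exact (QuotientGroup.eq_one_iff _).mp this
      have h2 := Subgroup.card_dvd_of_le h1
      rw [Subgroup.card_map_of_injective (Subgroup.subtype_injective _)] at h2
      exact Nat.Coprime.coprime_dvd_left h2 hOc

end Cfsg.Agent.S0631
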