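import Cfsg.Statements.S0609
import Cfsg.Agent.S0631
import Cfsg.Agent.Lib.Helper6.Thompson
import Cfsg.Agent.Lib.Helper6.PSolv3
import Cfsg.Agent.Lib.Helper14.Cores

set_option autoImplicit false
open Cfsg

namespace Cfsg.Agent.S0609

open Cfsg.Agent.Lib.Helper6

universe u

section aux

variable {G : Type u} [Group G] [Finite G] {p : ℕ} [Fact p.Prime]

/-- centralizer lifting through a normal `p'`-subgroup -/
lemma exists_centralizer_preimage (O : Subgroup G) [hOn : O.Normal] (hO : (Nat.card O).Coprime p)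
    (P : Subgroup G) (hP : IsPGroup p P) (x : G)
    (hx : QuotientGroup.mk' O x ∈ Subgroup.centralizer
      ((P.map (QuotientGroup.mk' O) : Subgroup (G ⧸ O)) : Set (G ⧸ O))) :
    ∃ o ∈ O, o * x ∈ Subgroup.centralizer (P : Set G) := by
  have hxN : QuotientGroup.mk' O x ∈ Subgroup.normalizer
      ((P.map (QuotientGroup.mk' O) : Subgroup (G ⧸ O)) : Set (G ⧸ O)) := by
    rw [Subgroup.mem_normalizer_iff]
    intro t
    rw [Subgroup.mem_centralizer_iff] at hx
    constructor
    · intro ht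
      have e : QuotientGroup.mk' O x * t * (QuotientGroup.mk' O x)⁻¹ = t := by
        rw [← hx t ht, mul_inv_cancel_right]
      rw [e]; exact ht
    · intro ht
      have e := hx _ ht
      have e2 : t = QuotientGroup.mk' O x * t * (QuotientGroup.mk' O x)⁻¹ := by
        have h3 : QuotientGroup.mk' O x * t
            = QuotientGroup.mk' O x * (QuotientGroup.mk' O x * t * (QuotientGroup.mk' O x)⁻¹) := by
          rw [← e]; group
        exact mul_left_cancel h3
      rw [e2]; exact ht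
  obtain ⟨o, ho, hoy⟩ := Cfsg.Agent.S0631.exists_normalizer_preimage O hO P hP x hxN
  have hπo : QuotientGroup.mk' O o = 1 := (QuotientGroup.eq_one_iff o).mpr ho
  refine ⟨o, ho, ?_⟩
  rw [Subgroup.mem_centralizer_iff]
  intro t ht
  have hc1 : (o * x) * t * (o * x)⁻¹ * t⁻¹ ∈ P :=
    P.mul_mem ((Subgroup.mem_normalizer_iff.mp hoy t).mp ht) (P.inv_mem ht)
  have hc2 : (o * x) * t * (o * x)⁻¹ * t⁻¹ ∈ O := by
    apply (QuotientGroup.eq_one_iff _).mp
    show QuotientGroup.mk' O ((o * x) * t * (o * x)⁻¹ * t⁻¹) = 1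
    have hcomm : QuotientGroup.mk' O t * QuotientGroup.mk' O x
        = QuotientGroup.mk' O x * QuotientGroup.mk' O t :=
      Subgroup.mem_centralizer_iff.mp hx _ ⟨t, ht, rfl⟩
    rw [map_mul, map_mul, map_mul, map_inv, map_inv, map_mul, hπo, one_mul, ← hcomm,
      mul_inv_cancel_right, mul_inv_cancel]
  have h1 := Cfsg.Agent.S0631.eq_one_of_mem_p_pprime O hO P hP _ hc1 hc2
  have h2 : (o * x) * t * (o * x)⁻¹ = t := by
    have h3 := mul_eq_one_iff_eq_inv.mp h1
    rwa [inv_inv] at h3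
  calc t * (o * x) = ((o * x) * t * (o * x)⁻¹) * (o * x) := by rw [h2]
    _ = (o * x) * t := by group

/-- `Ω₁(Z(S))` maps onto `Ω₁(Z(S̄))` modulo a normal `p'`-subgroup. -/
lemma omegaOne_center_map (O : Subgroup G) [hOn : O.Normal] (hO : (Nat.card O).Coprime p)
    (S : Subgroup G) (hS : IsPGroup p S) :
    omegaOne p ((S.map (QuotientGroup.mk' O)) ⊓
        Subgroup.centralizer ((S.map (QuotientGroup.mk' O) : Subgroup (G ⧸ O)) : Set (G ⧸ O)))
      = (omegaOne p (S ⊓ Subgroup.centralizer (S : Set G))).map (QuotientGroup.mk' O) := by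
  unfold omegaOne
  rw [MonoidHom.map_closure]
  congr 1
  ext y
  constructor
  · rintro ⟨⟨⟨x, hxS, rfl⟩, hyC⟩, hyp⟩
    have hyC' := Subgroup.mem_centralizer_iff.mp hyC
    refine ⟨x, ⟨⟨hxS, ?_⟩, ?_⟩, rfl⟩
    · show x ∈ Subgroup.centralizer (S : Set G)
      rw [Subgroup.mem_centralizer_iff]
      intro s hs
      have hc1 : s * x * (x * s)⁻¹ ∈ S := S.mul_mem (S.mul_mem hs hxS) (S.inv_mem (S.mul_mem hxS hs))
      have hc2 : s * x * (x * s)⁻¹ ∈ O := by
        apply (QuotientGroup.eq_one_iff _).mp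
        show QuotientGroup.mk' O (s * x * (x * s)⁻¹) = 1
        have := hyC' _ ⟨s, hs, rfl⟩
        rw [map_mul, map_mul, map_inv, map_mul, this, mul_inv_cancel]
      have h1 := Cfsg.Agent.S0631.eq_one_of_mem_p_pprime O hO S hS _ hc1 hc2
      exact mul_inv_eq_one.mp h1
    · have hc1 : x ^ p ∈ S := S.pow_mem hxS p
      have hc2 : x ^ p ∈ O := by
        apply (QuotientGroup.eq_one_iff _).mp
        show QuotientGroup.mk' O (x ^ p) = 1
        rw [map_pow]; exact hyp
      exact Cfsg.Agent.S0631.eq_one_of_mem_p_pprime O hO S hS _ hc1 hc2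
  · rintro ⟨x, ⟨⟨hxS, hxC⟩, hxp⟩, rfl⟩
    refine ⟨⟨⟨x, hxS, rfl⟩, ?_⟩, ?_⟩
    · show QuotientGroup.mk' O x ∈ Subgroup.centralizer
        ((S.map (QuotientGroup.mk' O) : Subgroup (G ⧸ O)) : Set (G ⧸ O))
      rw [Subgroup.mem_centralizer_iff]
      rintro _ ⟨s, hs, rfl⟩
      rw [← map_mul, ← map_mul, Subgroup.mem_centralizer_iff.mp hxC s hs]
    · show QuotientGroup.mk' O x ^ p = 1
      rw [← map_pow, hxp, map_one]

/-- `J(S)` maps onto `J(S̄)` modulo a normal `p'`-subgroup. -/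
lemma thompsonSubgroupOf_map (O : Subgroup G) [hOn : O.Normal] (hO : (Nat.card O).Coprime p)
    (S : Subgroup G) (hS : IsPGroup p S) :
    thompsonSubgroupOf p (S.map (QuotientGroup.mk' O))
      = (thompsonSubgroupOf p S).map (QuotientGroup.mk' O) := by
  have hinj : Function.Injective ((QuotientGroup.mk' O).subgroupMap S) := by
    rw [injective_iff_map_eq_one]
    intro a ha
    have h1 : QuotientGroup.mk' O (a : G) = 1 := congrArg Subtype.val ha
    have h2 : (a : G) ∈ O := (QuotientGroup.eq_one_iff _).mp h1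
    exact Subtype.ext (Cfsg.Agent.S0631.eq_one_of_mem_p_pprime O hO S hS _ a.2 h2)
  let e : ↥S ≃* ↥(S.map (QuotientGroup.mk' O)) :=
    MulEquiv.ofBijective ((QuotientGroup.mk' O).subgroupMap S)
      ⟨hinj, (QuotientGroup.mk' O).subgroupMap_surjective S⟩
  have h := thompsonSubgroup_map_equiv p e
  unfold thompsonSubgroupOf
  rw [← h, Subgroup.map_map, Subgroup.map_map]
  rfl

end aux

/-- Thompson factorizability passes to and from the quotient by the largest normal subgroup of order prime to p. -/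
theorem result {G : Type*} [Group G] [Finite G] {p : ℕ} [Fact p.Prime] : Cfsg.IsThompsonFactorizable p G ↔ Cfsg.IsThompsonFactorizable p (G ⧸ Cfsg.pPrimeCore p G) := by
  classical
  have hOc : (Nat.card (pPrimeCore p G)).Coprime p := Cfsg.Agent.Lib.Helper14.pPrimeCore_coprime p
  have hO' : pPrimeCore p (G ⧸ pPrimeCore p G) = ⊥ := pPrimeCore_quotient_pPrimeCore_eq_bot
  have hπ : Function.Surjective (QuotientGroup.mk' (pPrimeCore p G)) := QuotientGroup.mk'_surjective _
  constructor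
  · intro hG Sb gb
    obtain ⟨S, rfl⟩ := Sylow.mapSurjective_surjective hπ p Sb
    obtain ⟨g, rfl⟩ := hπ gb
    obtain ⟨x, hx, c, hc, n, hn, hg⟩ := hG S g
    have hcoe : ((S.mapSurjective hπ : Sylow p (G ⧸ pPrimeCore p G)) : Subgroup (G ⧸ pPrimeCore p G))
        = (S : Subgroup G).map (QuotientGroup.mk' (pPrimeCore p G)) := Sylow.coe_mapSurjective hπ S
    rw [hcoe, omegaOne_center_map (pPrimeCore p G) hOc S S.2,
      thompsonSubgroupOf_map (pPrimeCore p G) hOc S S.2]
    refine ⟨1, Subgroup.one_mem _, QuotientGroup.mk' (pPrimeCore p G) c, ?_,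
      QuotientGroup.mk' (pPrimeCore p G) n, ?_, ?_⟩
    · rw [Subgroup.mem_centralizer_iff]
      rintro _ ⟨z, hz, rfl⟩
      rw [← map_mul, ← map_mul, Subgroup.mem_centralizer_iff.mp hc z hz]
    · exact Subgroup.le_normalizer_map _ ⟨n, hn, rfl⟩
    · have hπx : QuotientGroup.mk' (pPrimeCore p G) x = 1 := (QuotientGroup.eq_one_iff x).mpr hx
      rw [hg, map_mul, map_mul, hπx]
  · intro hQ S g
    obtain ⟨xb, hxb, cb, hcb, nb, hnb, hg⟩ := hQ (S.mapSurjective hπ)
      (QuotientGroup.mk' (pPrimeCore p G) g)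
    have hcoe : ((S.mapSurjective hπ : Sylow p (G ⧸ pPrimeCore p G)) : Subgroup (G ⧸ pPrimeCore p G))
        = (S : Subgroup G).map (QuotientGroup.mk' (pPrimeCore p G)) := Sylow.coe_mapSurjective hπ S
    rw [hcoe, omegaOne_center_map (pPrimeCore p G) hOc S S.2] at hcb
    rw [hcoe, thompsonSubgroupOf_map (pPrimeCore p G) hOc S S.2] at hnb
    rw [hO', Subgroup.mem_bot] at hxb
    obtain ⟨c0, rfl⟩ := hπ cb
    obtain ⟨n0, rfl⟩ := hπ nb
    have hZ1 : IsPGroup p ↥(omegaOne p ((S : Subgroup G) ⊓ Subgroup.centralizer ((S : Subgroup G) : Set G))) := by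
      refine S.2.to_le ?_
      unfold omegaOne
      rw [Subgroup.closure_le]
      intro z hz
      exact hz.1.1
    have hJ : IsPGroup p ↥(thompsonSubgroupOf p (S : Subgroup G)) := by
      refine S.2.to_le ?_
      unfold thompsonSubgroupOf
      exact Subgroup.map_subtype_le _
    obtain ⟨o1, ho1, hc⟩ := exists_centralizer_preimage (pPrimeCore p G) hOc _ hZ1 c0 hcb
    obtain ⟨o2, ho2, hn⟩ := Cfsg.Agent.S0631.exists_normalizer_preimage (pPrimeCore p G) hOc _ hJ n0 hnb
    refine ⟨g * (o1 * c0 * (o2 * n0))⁻¹, ?_, o1 * c0, hc, o2 * n0, hn, by group⟩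
    apply (QuotientGroup.eq_one_iff _).mp
    show QuotientGroup.mk' (pPrimeCore p G) (g * (o1 * c0 * (o2 * n0))⁻¹) = 1
    have hπ1 : QuotientGroup.mk' (pPrimeCore p G) o1 = 1 := (QuotientGroup.eq_one_iff o1).mpr ho1
    have hπ2 : QuotientGroup.mk' (pPrimeCore p G) o2 = 1 := (QuotientGroup.eq_one_iff o2).mpr ho2
    rw [map_mul, map_inv, map_mul, map_mul, map_mul, hπ1, hπ2, one_mul, one_mul, hg, hxb, one_mul,
      mul_inv_cancel]

end Cfsg.Agent.S0609
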