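import Cfsg.Statements.S0632
import Cfsg.Agent.S0609
import Cfsg.Agent.Lib.Helper6.PConstr

set_option autoImplicit false
open Cfsg

namespace Cfsg.Agent.S0632

open Cfsg.Agent.Lib.Helper6

universe u

section aux

variable {p : ℕ} [Fact p.Prime]

/-- membership of an image in the largest normal `p`-subgroup of a quotient -/
lemma map_le_pCore_quotient_iff {N : Type u} [Group N] [Finite N] (C : Subgroup N) [C.Normal]
    (A : Subgroup N) :
    A.map (QuotientGroup.mk' C) ≤ pCore p (N ⧸ C) ↔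
      ∃ M : Subgroup N, M.Normal ∧ C ≤ M ∧ A ≤ M ∧ ∀ m ∈ M, ∃ k : ℕ, m ^ (p ^ k) ∈ C := by
  constructor
  · intro h
    refine ⟨(pCore p (N ⧸ C)).comap (QuotientGroup.mk' C),
      Subgroup.Normal.comap (Cfsg.pCore_normal p (N ⧸ C)) _, ?_, ?_, ?_⟩
    · intro x hx
      rw [Subgroup.mem_comap]
      have h1 : QuotientGroup.mk' C x = 1 := (QuotientGroup.eq_one_iff x).mpr hx
      rw [h1]
      exact Subgroup.one_mem _
    · intro a ha
      exact h ⟨a, ha, rfl⟩
    · intro m hm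
      rw [Subgroup.mem_comap] at hm
      obtain ⟨k, hk⟩ := (Cfsg.Agent.Lib.Helper14.pCore_isPGroup (G := N ⧸ C) p) ⟨_, hm⟩
      refine ⟨k, ?_⟩
      have h1 : (QuotientGroup.mk' C m) ^ (p ^ k) = 1 := congrArg Subtype.val hk
      rw [← map_pow] at h1
      exact (QuotientGroup.eq_one_iff _).mp h1
  · rintro ⟨M, hMn, hCM, hAM, hMp⟩
    have hn : (M.map (QuotientGroup.mk' C)).Normal := hMn.map _ (QuotientGroup.mk'_surjective C)
    have hpg : IsPGroup p (M.map (QuotientGroup.mk' C)) := by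
      rintro ⟨_, m, hm, rfl⟩
      obtain ⟨k, hk⟩ := hMp m hm
      refine ⟨k, Subtype.ext ?_⟩
      show (QuotientGroup.mk' C m) ^ (p ^ k) = 1
      rw [← map_pow]
      exact (QuotientGroup.eq_one_iff _).mpr hk
    exact (Subgroup.map_mono hAM).trans (Cfsg.Agent.Lib.Helper14.le_pCore p hn hpg)

/-- the `p`-stability conclusion in elementwise form -/
lemma stab_iff {G : Type u} [Group G] [Finite G] (P A : Subgroup G) :
    ((A.subgroupOf (Subgroup.normalizer (P : Set G))).map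
        (QuotientGroup.mk' ((Subgroup.centralizer (P : Set G)).subgroupOf
          (Subgroup.normalizer (P : Set G))))
      ≤ pCore p _) ↔
    ∃ M : Subgroup G, Subgroup.centralizer (P : Set G) ≤ M ∧ M ≤ Subgroup.normalizer (P : Set G) ∧
      (∀ n ∈ Subgroup.normalizer (P : Set G), ∀ m ∈ M, n * m * n⁻¹ ∈ M) ∧
      A ⊓ Subgroup.normalizer (P : Set G) ≤ M ∧
      ∀ m ∈ M, ∃ k : ℕ, m ^ (p ^ k) ∈ Subgroup.centralizer (P : Set G) := by
  rw [map_le_pCore_quotient_iff]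
  constructor
  · rintro ⟨M', hMn, hCM, hAM, hMp⟩
    refine ⟨M'.map (Subgroup.normalizer (P : Set G)).subtype, ?_, Subgroup.map_subtype_le _, ?_, ?_, ?_⟩
    · intro x hx
      have hxN : x ∈ Subgroup.normalizer (P : Set G) := Subgroup.centralizer_le_normalizer _ hx
      exact ⟨⟨x, hxN⟩, hCM (Subgroup.mem_subgroupOf.mpr hx), rfl⟩
    · rintro n hn _ ⟨m', hm', rfl⟩
      exact ⟨⟨n, hn⟩ * m' * ⟨n, hn⟩⁻¹, hMn.conj_mem m' hm' ⟨n, hn⟩, rfl⟩
    · rintro x ⟨hxA, hxN⟩
      exact ⟨⟨x, hxN⟩, hAM (Subgroup.mem_subgroupOf.mpr hxA), rfl⟩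
    · rintro _ ⟨m', hm', rfl⟩
      obtain ⟨k, hk⟩ := hMp m' hm'
      refine ⟨k, ?_⟩
      have := Subgroup.mem_subgroupOf.mp hk
      simpa using this
  · rintro ⟨M, hCM, hMN, hMn, hAM, hMp⟩
    refine ⟨M.subgroupOf (Subgroup.normalizer (P : Set G)), ?_, ?_, ?_, ?_⟩
    · constructor
      intro m' hm' n'
      rw [Subgroup.mem_subgroupOf] at hm' ⊢
      exact hMn n'.1 n'.2 _ hm'
    · intro x hx
      rw [Subgroup.mem_subgroupOf] at hx ⊢
      exact hCM hx
    · intro x hx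
      rw [Subgroup.mem_subgroupOf] at hx ⊢
      exact hAM ⟨hx, x.2⟩
    · intro m' hm'
      rw [Subgroup.mem_subgroupOf] at hm'
      obtain ⟨k, hk⟩ := hMp _ hm'
      refine ⟨k, ?_⟩
      rw [Subgroup.mem_subgroupOf]
      simpa using hk

/-- a `p`-subgroup of the quotient by a normal `p'`-subgroup lifts to a `p`-subgroup -/
lemma exists_lift_pgroup {G : Type u} [Group G] [Finite G] (O : Subgroup G) [O.Normal]
    (Tb : Subgroup (G ⧸ O)) (hTb : IsPGroup p Tb) :
    ∃ T : Subgroup G, IsPGroup p T ∧ T.map (QuotientGroup.mk' O) = Tb := by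
  obtain ⟨Sb, hSb⟩ := hTb.exists_le_sylow
  obtain ⟨S, rfl⟩ := Sylow.mapSurjective_surjective (QuotientGroup.mk'_surjective O) p Sb
  have hcoe : ((S.mapSurjective (QuotientGroup.mk'_surjective O) : Sylow p (G ⧸ O)) : Subgroup (G ⧸ O))
      = (S : Subgroup G).map (QuotientGroup.mk' O) := Sylow.coe_mapSurjective _ S
  rw [hcoe] at hSb
  refine ⟨(S : Subgroup G) ⊓ Tb.comap (QuotientGroup.mk' O), S.2.to_le inf_le_left, ?_⟩
  apply le_antisymm
  · rintro _ ⟨x, hx, rfl⟩
    exact hx.2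
  · intro y hy
    obtain ⟨s, hs, rfl⟩ := hSb hy
    exact ⟨s, ⟨hs, hy⟩, rfl⟩

omit [Fact p.Prime] in
lemma mem_normalizer_of_conj_mem {G : Type u} [Group G] (A P : Subgroup G)
    (h : ∀ a ∈ A, ∀ x ∈ P, a * x * a⁻¹ ∈ P) {a : G} (ha : a ∈ A) :
    a ∈ Subgroup.normalizer (P : Set G) := by
  rw [Subgroup.mem_normalizer_iff]
  intro x
  constructor
  · exact h a ha x
  · intro hx
    have := h a⁻¹ (A.inv_mem ha) _ hx
    have e : a⁻¹ * (a * x * a⁻¹) * a⁻¹⁻¹ = x := by group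
    rwa [e] at this

end aux

/-- For a group with a nontrivial normal p-subgroup, p-stability passes to and from the quotient by the largest normal subgroup of order prime to p. -/
theorem result {G : Type*} [Group G] [Finite G] {p : ℕ} [Fact p.Prime] (hO : Cfsg.pCore p G ≠ ⊥) : Cfsg.IsPStable p G ↔ Cfsg.IsPStable p (G ⧸ Cfsg.pPrimeCore p G) := by
  classical
  have hOc : (Nat.card (pPrimeCore p G)).Coprime p := Cfsg.Agent.Lib.Helper14.pPrimeCore_coprime p
  have hO' : pPrimeCore p (G ⧸ pPrimeCore p G) = ⊥ := pPrimeCore_quotient_pPrimeCore_eq_bot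
  have hπ : Function.Surjective (QuotientGroup.mk' (pPrimeCore p G)) := QuotientGroup.mk'_surjective _
  have hPPb : pPrimePCore p (G ⧸ pPrimeCore p G) = pCore p (G ⧸ pPrimeCore p G) :=
    pPrimePCore_eq_pCore_of_pPrimeCore_eq_bot hO'
  have hπone : ∀ x : G, x ∈ pPrimeCore p G → QuotientGroup.mk' (pPrimeCore p G) x = 1 :=
    fun x hx => (QuotientGroup.eq_one_iff x).mpr hx
  have hπone' : ∀ x : G, QuotientGroup.mk' (pPrimeCore p G) x = 1 → x ∈ pPrimeCore p G :=
    fun x hx => (QuotientGroup.eq_one_iff x).mp hx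
  constructor
  · rintro ⟨hodd, hOp, hst⟩
    refine ⟨hodd, ?_, ?_⟩
    · intro hbot
      apply hO
      have hn : ((pCore p G).map (QuotientGroup.mk' (pPrimeCore p G))).Normal :=
        (Cfsg.pCore_normal p G).map _ hπ
      have hpg : IsPGroup p ((pCore p G).map (QuotientGroup.mk' (pPrimeCore p G))) :=
        (Cfsg.Agent.Lib.Helper14.pCore_isPGroup (G := G) p).map _
      have hle := Cfsg.Agent.Lib.Helper14.le_pCore p hn hpg
      rw [hbot] at hle
      rw [eq_bot_iff]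
      intro x hx
      have h1 : QuotientGroup.mk' (pPrimeCore p G) x = 1 := Subgroup.mem_bot.mp (hle ⟨x, hx, rfl⟩)
      exact Subgroup.mem_bot.mpr (Cfsg.Agent.S0631.eq_one_of_mem_p_pprime (pPrimeCore p G) hOc
        (pCore p G) (Cfsg.Agent.Lib.Helper14.pCore_isPGroup (G := G) p) x hx (hπone' x h1))
    · intro Ab Pb hAb hPb hnorm hPle hPn hquad
      rw [hO', bot_sup_eq] at hPn
      rw [hPPb] at hPle
      have hTb : IsPGroup p (Ab ⊔ Pb : Subgroup (G ⧸ pPrimeCore p G)) :=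
        IsPGroup.to_sup_of_normal_right hAb hPb
      obtain ⟨T, hT, hTmap⟩ := exists_lift_pgroup (pPrimeCore p G) _ hTb
      obtain ⟨P, hPdef⟩ : ∃ P : Subgroup G, P = T ⊓ Pb.comap (QuotientGroup.mk' (pPrimeCore p G)) :=
        ⟨_, rfl⟩
      obtain ⟨A, hAdef⟩ : ∃ A : Subgroup G, A = T ⊓ Ab.comap (QuotientGroup.mk' (pPrimeCore p G)) :=
        ⟨_, rfl⟩
      have hPT : P ≤ T := hPdef ▸ inf_le_left
      have hAT : A ≤ T := hAdef ▸ inf_le_left
      have hPmap : P.map (QuotientGroup.mk' (pPrimeCore p G)) = Pb := by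
        apply le_antisymm
        · rintro _ ⟨x, hx, rfl⟩
          rw [hPdef] at hx
          exact hx.2
        · intro y hy
          have hy' : y ∈ T.map (QuotientGroup.mk' (pPrimeCore p G)) := by
            rw [hTmap]; exact Subgroup.mem_sup_right hy
          obtain ⟨t, ht, rfl⟩ := hy'
          exact ⟨t, hPdef ▸ ⟨ht, hy⟩, rfl⟩
      have hAmap : A.map (QuotientGroup.mk' (pPrimeCore p G)) = Ab := by
        apply le_antisymm
        · rintro _ ⟨x, hx, rfl⟩
          rw [hAdef] at hx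
          exact hx.2
        · intro y hy
          have hy' : y ∈ T.map (QuotientGroup.mk' (pPrimeCore p G)) := by
            rw [hTmap]; exact Subgroup.mem_sup_left hy
          obtain ⟨t, ht, rfl⟩ := hy'
          exact ⟨t, hAdef ▸ ⟨ht, hy⟩, rfl⟩
      have hPp : IsPGroup p P := hT.to_le hPT
      have hAp : IsPGroup p A := hT.to_le hAT
      have hinj : ∀ t ∈ T, QuotientGroup.mk' (pPrimeCore p G) t = 1 → t = 1 := fun t ht h1 =>
        Cfsg.Agent.S0631.eq_one_of_mem_p_pprime (pPrimeCore p G) hOc T hT t ht (hπone' t h1)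
      have hnormA : ∀ a ∈ A, ∀ x ∈ P, a * x * a⁻¹ ∈ P := by
        intro a ha x hx
        rw [hPdef]
        refine Subgroup.mem_inf.mpr
          ⟨T.mul_mem (T.mul_mem (hAT ha) (hPT hx)) (T.inv_mem (hAT ha)), Subgroup.mem_comap.mpr ?_⟩
        rw [map_mul, map_mul, map_inv]
        exact hnorm _ (hAmap ▸ ⟨a, ha, rfl⟩) _ (hPmap ▸ ⟨x, hx, rfl⟩)
      have hPle' : P ≤ pPrimePCore p G := by
        intro x hx
        unfold pPrimePCore
        rw [Subgroup.mem_comap]
        exact hPle (hPmap ▸ ⟨x, hx, rfl⟩)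
      have hPn' : (pPrimeCore p G ⊔ P).Normal := by
        have h1 := Subgroup.comap_map_eq (QuotientGroup.mk' (pPrimeCore p G)) P
        rw [QuotientGroup.ker_mk', hPmap] at h1
        rw [sup_comm, ← h1]
        exact Subgroup.Normal.comap hPn _
      have hquad' : ⁅⁅P, A⁆, A⁆ = ⊥ := by
        rw [eq_bot_iff]
        intro w hw
        have hwT : w ∈ T := by
          have h1 : ⁅P, A⁆ ≤ T := (Subgroup.commutator_mono hPT hAT).trans (Subgroup.commutator_le_self T)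
          exact ((Subgroup.commutator_mono h1 hAT).trans (Subgroup.commutator_le_self T)) hw
        have hw1 : QuotientGroup.mk' (pPrimeCore p G) w = 1 := by
          have h2 : QuotientGroup.mk' (pPrimeCore p G) w ∈
              (⁅⁅P, A⁆, A⁆).map (QuotientGroup.mk' (pPrimeCore p G)) := ⟨w, hw, rfl⟩
          rw [Subgroup.map_commutator, Subgroup.map_commutator, hPmap, hAmap, hquad] at h2
          exact Subgroup.mem_bot.mp h2
        exact Subgroup.mem_bot.mpr (hinj w hwT hw1)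
      obtain ⟨M, hCM, hMN, hMn, hAM, hMp⟩ := (stab_iff P A).mp (hst A P hAp hPp hnormA hPle' hPn' hquad')
      rw [stab_iff]
      refine ⟨M.map (QuotientGroup.mk' (pPrimeCore p G)), ?_, ?_, ?_, ?_, ?_⟩
      · intro y hy
        obtain ⟨x0, rfl⟩ := hπ y
        rw [← hPmap] at hy
        obtain ⟨o, ho, hox⟩ := Cfsg.Agent.S0609.exists_centralizer_preimage (pPrimeCore p G) hOc P hPp x0 hy
        refine ⟨o * x0, hCM hox, ?_⟩
        rw [map_mul, hπone o ho, one_mul]
      · rw [← hPmap]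
        exact (Subgroup.map_mono hMN).trans (Subgroup.le_normalizer_map _)
      · rintro n hn _ ⟨m0, hm0, rfl⟩
        obtain ⟨n0, rfl⟩ := hπ n
        rw [← hPmap] at hn
        obtain ⟨o, ho, hon⟩ := Cfsg.Agent.S0631.exists_normalizer_preimage (pPrimeCore p G) hOc P hPp n0 hn
        refine ⟨(o * n0) * m0 * (o * n0)⁻¹, hMn _ hon _ hm0, ?_⟩
        rw [map_mul, map_mul, map_inv, map_mul, hπone o ho, one_mul]
      · rintro y ⟨hyA, -⟩
        rw [← hAmap] at hyA
        obtain ⟨a, ha, rfl⟩ := hyA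
        exact ⟨a, hAM ⟨ha, mem_normalizer_of_conj_mem A P hnormA ha⟩, rfl⟩
      · rintro _ ⟨m0, hm0, rfl⟩
        obtain ⟨k, hk⟩ := hMp m0 hm0
        refine ⟨k, ?_⟩
        rw [← map_pow, ← hPmap, Subgroup.mem_centralizer_iff]
        rintro _ ⟨t, ht, rfl⟩
        rw [← map_mul, ← map_mul, Subgroup.mem_centralizer_iff.mp hk t ht]
  · rintro ⟨hodd, -, hst⟩
    refine ⟨hodd, hO, ?_⟩
    intro A P hA hP hnorm hPle hPn hquad
    rw [stab_iff]
    obtain ⟨Ab, hAb⟩ : ∃ Ab, Ab = A.map (QuotientGroup.mk' (pPrimeCore p G)) := ⟨_, rfl⟩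
    obtain ⟨Pb, hPb⟩ : ∃ Pb, Pb = P.map (QuotientGroup.mk' (pPrimeCore p G)) := ⟨_, rfl⟩
    have hAbp : IsPGroup p Ab := hAb ▸ hA.map _
    have hPbp : IsPGroup p Pb := hPb ▸ hP.map _
    have hnorm' : ∀ a ∈ Ab, ∀ x ∈ Pb, a * x * a⁻¹ ∈ Pb := by
      intro a ha x hx
      rw [hAb] at ha
      rw [hPb] at hx ⊢
      obtain ⟨a0, ha0, rfl⟩ := ha
      obtain ⟨x0, hx0, rfl⟩ := hx
      exact ⟨a0 * x0 * a0⁻¹, hnorm a0 ha0 x0 hx0, by rw [map_mul, map_mul, map_inv]⟩
    have hPle' : Pb ≤ pPrimePCore p (G ⧸ pPrimeCore p G) := by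
      rw [hPPb, hPb]
      rintro _ ⟨x, hx, rfl⟩
      have := hPle hx
      unfold pPrimePCore at this
      exact Subgroup.mem_comap.mp this
    have hPn' : (pPrimeCore p (G ⧸ pPrimeCore p G) ⊔ Pb).Normal := by
      rw [hO', bot_sup_eq]
      have h1 : Pb = (pPrimeCore p G ⊔ P).map (QuotientGroup.mk' (pPrimeCore p G)) := by
        rw [Subgroup.map_sup, hPb]
        have h2 : (pPrimeCore p G).map (QuotientGroup.mk' (pPrimeCore p G)) = ⊥ := by
          rw [eq_bot_iff]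
          rintro _ ⟨x, hx, rfl⟩
          exact Subgroup.mem_bot.mpr (hπone x hx)
        rw [h2, bot_sup_eq]
      rw [h1]
      exact hPn.map _ hπ
    have hquad' : ⁅⁅Pb, Ab⁆, Ab⁆ = ⊥ := by
      rw [hPb, hAb, ← Subgroup.map_commutator, ← Subgroup.map_commutator, hquad, Subgroup.map_bot]
    obtain ⟨Mb, h1, h2, h3, h4, h5⟩ := (stab_iff Pb Ab).mp (hst Ab Pb hAbp hPbp hnorm' hPle' hPn' hquad')
    have hNmap : ∀ n ∈ Subgroup.normalizer (P : Set G),
        QuotientGroup.mk' (pPrimeCore p G) n ∈ Subgroup.normalizer (Pb : Set (G ⧸ pPrimeCore p G)) := by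
      intro n hn
      rw [hPb]
      exact Subgroup.le_normalizer_map _ ⟨n, hn, rfl⟩
    have hCmap : ∀ c ∈ Subgroup.centralizer (P : Set G),
        QuotientGroup.mk' (pPrimeCore p G) c ∈ Subgroup.centralizer (Pb : Set (G ⧸ pPrimeCore p G)) := by
      intro c hc
      rw [hPb, Subgroup.mem_centralizer_iff]
      rintro _ ⟨t, ht, rfl⟩
      rw [← map_mul, ← map_mul, Subgroup.mem_centralizer_iff.mp hc t ht]
    refine ⟨Mb.comap (QuotientGroup.mk' (pPrimeCore p G)) ⊓ Subgroup.normalizer (P : Set G),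
      ?_, inf_le_right, ?_, ?_, ?_⟩
    · intro x hx
      exact Subgroup.mem_inf.mpr
        ⟨Subgroup.mem_comap.mpr (h1 (hCmap x hx)), Subgroup.centralizer_le_normalizer _ hx⟩
    · intro n hn m hm
      obtain ⟨hm1, hm2⟩ := Subgroup.mem_inf.mp hm
      refine Subgroup.mem_inf.mpr ⟨Subgroup.mem_comap.mpr ?_,
        Subgroup.mul_mem _ (Subgroup.mul_mem _ hn hm2) (Subgroup.inv_mem _ hn)⟩
      rw [map_mul, map_mul, map_inv]
      exact h3 _ (hNmap n hn) _ (Subgroup.mem_comap.mp hm1)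
    · intro x hx
      obtain ⟨hxA, hxN⟩ := Subgroup.mem_inf.mp hx
      refine Subgroup.mem_inf.mpr ⟨Subgroup.mem_comap.mpr ?_, hxN⟩
      exact h4 (Subgroup.mem_inf.mpr ⟨hAb ▸ ⟨x, hxA, rfl⟩, hNmap x hxN⟩)
    · intro m hm
      obtain ⟨hm1, hm2⟩ := Subgroup.mem_inf.mp hm
      obtain ⟨k, hk⟩ := h5 _ (Subgroup.mem_comap.mp hm1)
      refine ⟨k, ?_⟩
      have hxN : m ^ (p ^ k) ∈ Subgroup.normalizer (P : Set G) := Subgroup.pow_mem _ hm2 _
      rw [← map_pow] at hk
      rw [Subgroup.mem_centralizer_iff]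
      intro t ht
      have hc1 : m ^ (p ^ k) * t * (m ^ (p ^ k))⁻¹ * t⁻¹ ∈ P :=
        P.mul_mem ((Subgroup.mem_normalizer_iff.mp hxN t).mp ht) (P.inv_mem ht)
      have hc2 : m ^ (p ^ k) * t * (m ^ (p ^ k))⁻¹ * t⁻¹ ∈ pPrimeCore p G := by
        apply hπone'
        have htb : QuotientGroup.mk' (pPrimeCore p G) t ∈ Pb := hPb ▸ ⟨t, ht, rfl⟩
        have hcomm := Subgroup.mem_centralizer_iff.mp hk _ htb
        rw [map_mul, map_mul, map_mul, map_inv, map_inv, ← hcomm, mul_inv_cancel_right, mul_inv_cancel]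
      have h6 := Cfsg.Agent.S0631.eq_one_of_mem_p_pprime (pPrimeCore p G) hOc P hP _ hc1 hc2
      have h7 : m ^ (p ^ k) * t * (m ^ (p ^ k))⁻¹ = t := by
        have h8 := mul_eq_one_iff_eq_inv.mp h6
        rwa [inv_inv] at h8
      calc t * m ^ (p ^ k) = (m ^ (p ^ k) * t * (m ^ (p ^ k))⁻¹) * m ^ (p ^ k) := by rw [h7]
        _ = m ^ (p ^ k) * t := by group

end Cfsg.Agent.S0632
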