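import Cfsg.Statements.S0667
import Cfsg.Agent.Lib.Helper6.ZJMap
import Cfsg.Agent.S0632

set_option autoImplicit false
open Cfsg

namespace Cfsg.Agent.S0667

open Cfsg.Agent.Lib.Helper6
open scoped commutatorElement

universe u

section aux

variable {G : Type u} [Group G] [Finite G] {p : ℕ} [Fact p.Prime]

omit [Finite G] [Fact p.Prime] in
lemma eq_one_of_pgroup_coprime (O R : Subgroup G) (hO : (Nat.card O).Coprime p)
    (hR : IsPGroup p R) (z : G) (hzR : z ∈ R) (hzO : z ∈ O) : z = 1 := by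
  obtain ⟨k, hk⟩ := hR ⟨z, hzR⟩
  have hk' : z ^ (p ^ k) = 1 := by
    have := congrArg Subtype.val hk
    simpa using this
  have h1 : orderOf z ∣ p ^ k := orderOf_dvd_of_pow_eq_one hk'
  have h2 : orderOf z ∣ Nat.card O := by
    have := orderOf_dvd_natCard (⟨z, hzO⟩ : O)
    rwa [Subgroup.orderOf_mk] at this
  have h3 : orderOf z = 1 :=
    Nat.eq_one_of_dvd_coprimes (Nat.Coprime.pow_right k hO) h2 h1
  exact orderOf_eq_one_iff.mp h3

omit [Finite G] [Fact p.Prime] in
lemma injOn_mk_of_pgroup (O R : Subgroup G) [O.Normal] (hO : (Nat.card O).Coprime p)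
    (hR : IsPGroup p R) : Set.InjOn (QuotientGroup.mk' O) (R : Set G) := by
  intro x hx y hy hxy
  have h1 : x⁻¹ * y ∈ O := QuotientGroup.eq.mp hxy
  have h2 := eq_one_of_pgroup_coprime O R hO hR _ (R.mul_mem (R.inv_mem hx) hy) h1
  exact inv_mul_eq_one.mp h2

/-- The case `O_{p'}(G) = 1`. -/
lemma zj_normal_of_pPrimeCore_eq_bot (hp : p ≠ 2) (hO : pPrimeCore p G = ⊥)
    (hc : IsPConstrained p G) (hs : IsPStable p G) (P : Sylow p G) :
    (centerThompsonAOf (P : Subgroup G)).Normal := by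
  have hc' : Subgroup.centralizer (pCore p G : Set G) ≤ pCore p G :=
    (isPConstrained_iff_of_pPrimeCore_eq_bot hO).mp hc
  have hKQ : pPrimePCore p G = pCore p G := pPrimePCore_eq_pCore_of_pPrimeCore_eq_bot hO
  have hst : ∀ (V : Subgroup G) [V.Normal], IsPGroup p V → ∀ a : G,
      IsPGroup p (Subgroup.zpowers a) → ⁅⁅V, Subgroup.zpowers a⁆, Subgroup.zpowers a⁆ = ⊥ →
      (QuotientGroup.mk a : G ⧸ Subgroup.centralizer (V : Set G)) ∈
        pCore p (G ⧸ Subgroup.centralizer (V : Set G)) := by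
    intro V hVn hV a ha hq
    have hVle : V ≤ pPrimePCore p G := by
      rw [hKQ]; exact Cfsg.Agent.Lib.Helper18.le_pCore hVn hV
    have hn : (pPrimeCore p G ⊔ V).Normal := by
      rw [hO, bot_sup_eq]; exact hVn
    have h1 := hs.2.2 (Subgroup.zpowers a) V ha hV (fun a' _ x hx => hVn.conj_mem x hx a')
      hVle hn hq
    rw [Cfsg.Agent.S0632.stab_iff] at h1
    obtain ⟨M, hCM, -, hMn, hAM, hMp⟩ := h1
    have hNtop : Subgroup.normalizer (V : Set G) = ⊤ := Subgroup.normalizer_eq_top_iff.mpr hVn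
    have hMnormal : M.Normal := by
      refine ⟨fun m hm g => hMn g ?_ m hm⟩
      rw [hNtop]; trivial
    have haM : Subgroup.zpowers a ≤ M := by
      refine le_trans ?_ hAM
      rw [hNtop, inf_top_eq]
    have h2 := (Cfsg.Agent.S0632.map_le_pCore_quotient_iff (p := p)
      (Subgroup.centralizer (V : Set G)) (Subgroup.zpowers a)).mpr ⟨M, hMnormal, hCM, haM, hMp⟩
    exact h2 ⟨a, Subgroup.mem_zpowers a, rfl⟩
  rw [← sInf_famX_zero]
  exact zj_normal (famX 0) (famX_comm 0) (famX_le 0)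
    (fun P A g hA hg => by
      have h := famX_aut 0 (MulAut.conj g) P A hA
      rw [Cfsg.Agent.Lib.Helper18.map_conj_eq_of_mem_normalizer P hg] at h
      exact h)
    (famX_mono 0)
    (fun P B hP hBn hBP A hA hBA hnot => famX_repl hp 0 P B hP hBn hBP A hA hBA hnot)
    hst hc' P (famX_nonempty 0 _)

end aux

section aux2

variable {G : Type u} [Group G] [Finite G] {p : ℕ} [Fact p.Prime]

/-- The general case: `G = O_{p'}(G) N_G(Z(J(P)))`. -/
lemma sup_normalizer_eq_top (hp : p ≠ 2) (hc : IsPConstrained p G) (hs : IsPStable p G)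
    (P : Sylow p G) :
    pPrimeCore p G ⊔ Subgroup.normalizer (centerThompsonAOf (P : Subgroup G) : Set G) = ⊤ := by
  obtain ⟨O, hOdef⟩ : ∃ O, O = pPrimeCore p G := ⟨_, rfl⟩
  have hOn : O.Normal := by rw [hOdef]; infer_instance
  have hOc : (Nat.card O).Coprime p := hOdef ▸ Cfsg.Agent.Lib.Helper14.pPrimeCore_coprime p
  have hcQ : IsPConstrained p (G ⧸ pPrimeCore p G) :=
    isPConstrained_iff_isPConstrained_quotient.mp hc
  have hsQ : IsPStable p (G ⧸ pPrimeCore p G) := (Cfsg.Agent.S0632.result hs.2.1).mp hs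
  have hOQ : pPrimeCore p (G ⧸ pPrimeCore p G) = ⊥ := pPrimeCore_quotient_pPrimeCore_eq_bot
  have hsurj : Function.Surjective (QuotientGroup.mk' (pPrimeCore p G)) :=
    QuotientGroup.mk'_surjective _
  have hZbn := zj_normal_of_pPrimeCore_eq_bot hp hOQ hcQ hsQ (P.mapSurjective hsurj)
  rw [Sylow.coe_mapSurjective] at hZbn
  subst hOdef
  obtain ⟨π, hπ⟩ : ∃ π : G →* G ⧸ pPrimeCore p G, π = QuotientGroup.mk' (pPrimeCore p G) :=
    ⟨_, rfl⟩
  rw [← hπ] at hZbn
  have hker : ∀ x, π x = 1 ↔ x ∈ pPrimeCore p G := by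
    intro x; rw [hπ]; exact QuotientGroup.eq_one_iff x
  have hinjP : ∀ R : Subgroup G, IsPGroup p R → Set.InjOn π (R : Set G) := by
    intro R hR
    rw [hπ]
    exact injOn_mk_of_pgroup _ R hOc hR
  obtain ⟨Z, hZ⟩ : ∃ Z, Z = centerThompsonAOf (P : Subgroup G) := ⟨_, rfl⟩
  rw [← hZ]
  have hZP : Z ≤ P := by
    rw [hZ]
    unfold centerThompsonAOf thompsonSubgroupAOf
    exact inf_le_left.trans (Subgroup.map_subtype_le _)
  have hZp : IsPGroup p Z := P.isPGroup'.to_le hZP
  have hmap : centerThompsonAOf ((P : Subgroup G).map π) = Z.map π := by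
    rw [hZ, ← sInf_famX_zero, ← sInf_famX_zero,
      map_sInf_famX_of_injOn 0 π P (hinjP P P.isPGroup')]
  rw [hmap] at hZbn
  obtain ⟨M, hM⟩ : ∃ M, M = (Z.map π).comap π := ⟨_, rfl⟩
  have hMn : M.Normal := by rw [hM]; infer_instance
  have hZM : Z ≤ M := by
    rw [hM]; exact Subgroup.le_comap_map π Z
  have hMle : M ≤ pPrimeCore p G ⊔ Z := by
    intro m hm
    rw [hM] at hm
    obtain ⟨z, hz, hzm⟩ := Subgroup.mem_comap.mp hm
    have h1 : z⁻¹ * m ∈ pPrimeCore p G := by
      rw [← hker, map_mul, map_inv, hzm, inv_mul_cancel]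
    have e : m = z * (z⁻¹ * m) := by group
    rw [e]
    exact Subgroup.mul_mem_sup hz h1 |> fun h => by rwa [sup_comm] at h
  have hSyl : Cfsg.Agent.Lib.Helper18.IsSylowIn p Z M := by
    refine ⟨hZM, hZp, ?_⟩
    intro R' hR' hle hR'M
    have h1 : R'.map π ≤ Z.map π := by
      rintro _ ⟨r, hr, rfl⟩
      have := hR'M hr
      rw [hM] at this
      exact Subgroup.mem_comap.mp this
    have h2 : Nat.card R' ≤ Nat.card Z := by
      rw [← card_map_of_injOn_sub π R' (hinjP R' hR'), ← card_map_of_injOn_sub π Z (hinjP Z hZp)]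
      exact Subgroup.card_le_of_le h1
    exact (Subgroup.eq_of_le_of_card_ge hle h2).symm
  rw [eq_top_iff]
  intro g _
  have h1 := hSyl.map_conj g
  have hMg : M.map (MulAut.conj g).toMonoidHom = M :=
    Cfsg.Agent.Lib.Helper18.map_conj_eq_of_mem_normalizer M
      (by rw [Subgroup.normalizer_eq_top_iff.mpr hMn]; trivial)
  rw [hMg] at h1
  obtain ⟨c, hc, hceq⟩ := hSyl.exists_conj_eq h1
  have h2 : c⁻¹ * g ∈ Subgroup.normalizer (Z : Set G) := by
    apply Cfsg.Agent.Lib.Helper18.mem_normalizer_of_map_conj_eq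
    rw [Cfsg.Agent.Lib.Helper18.map_conj_mul, hceq, ← Cfsg.Agent.Lib.Helper18.map_conj_mul,
      inv_mul_cancel, Cfsg.Agent.Lib.Helper18.map_conj_one]
  have hc' : c ∈ pPrimeCore p G ⊔ Subgroup.normalizer (Z : Set G) :=
    (sup_le_sup_left Subgroup.le_normalizer _) (hMle hc)
  have e : g = c * (c⁻¹ * g) := by group
  rw [e]
  exact Subgroup.mul_mem _ hc' (Subgroup.mem_sup_right h2)

end aux2

/-- Glauberman's Theorem in the p-constrained, p-stable vocabulary: for odd p such a group is the product of its largest normal subgroup of order prime to p with the normalizer of Z(J(P)), and Z(J(P)) is normal when that p'-subgroup is trivial. -/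
theorem result {G : Type*} [Group G] [Finite G] {p : ℕ} [Fact p.Prime] (hp : p ≠ 2) (hc : Cfsg.IsPConstrained p G) (hs : Cfsg.IsPStable p G) (P : Sylow p G) : Cfsg.pPrimeCore p G ⊔ Subgroup.normalizer (Cfsg.centerThompsonAOf ((P : Subgroup G)) : Set G) = ⊤ ∧ (Cfsg.pPrimeCore p G = ⊥ → (Cfsg.centerThompsonAOf ((P : Subgroup G))).Normal) := by
  exact ⟨sup_normalizer_eq_top hp hc hs P, fun hO => zj_normal_of_pPrimeCore_eq_bot hp hO hc hs P⟩

end Cfsg.Agent.S0667
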