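import Cfsg.Statements.S0658
import Cfsg.Agent.S0667

set_option autoImplicit false
open Cfsg

namespace Cfsg.Agent.S0658

open Cfsg.Agent.Lib.Helper6
open scoped commutatorElement

universe u

section aux

variable {G : Type u} [Group G] [Finite G] {p : ℕ} [Fact p.Prime]

omit [Finite G] [Fact p.Prime] in
/-- The normalizer of `R` normalizes the intersection of the family of `R`. -/
lemma normalizer_le_normalizer_sInf (R : Subgroup G) :
    Subgroup.normalizer (R : Set G) ≤ Subgroup.normalizer ((sInf (famX 0 R) : Subgroup G) : Set G) := by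
  intro g hg
  apply mem_normalizer_of_conj_mem_sub (Subgroup.normalizer (R : Set G)) _ _ hg
  intro g hg w hw
  refine sInf_conj_mem (famX 0) ?_ R g hg w hw
  intro P A g hA hg
  have h := famX_aut 0 (MulAut.conj g) P A hA
  rw [Cfsg.Agent.Lib.Helper18.map_conj_eq_of_mem_normalizer P hg] at h
  exact h

/-- For a nontrivial `p`-group `R`, the intersection of its abelian subgroups of largest order is
nontrivial (it contains the centre). -/
lemma sInf_famX_ne_bot (R : Subgroup G) (hR : IsPGroup p R) (hR1 : R ≠ ⊥) :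
    sInf (famX 0 R) ≠ ⊥ := by
  have hnt : Nontrivial ↥R := (Subgroup.nontrivial_iff_ne_bot R).mpr hR1
  have hc := hR.center_nontrivial
  obtain ⟨⟨z, hz⟩, hz1⟩ := exists_ne (1 : Subgroup.center ↥R)
  have hz1' : (z : G) ≠ 1 := by
    intro h
    apply hz1
    apply Subtype.ext
    apply Subtype.ext
    exact h
  have hzc : ∀ r ∈ R, r * (z : G) = (z : G) * r := by
    intro r hr
    have := (Subgroup.mem_center_iff.mp hz) ⟨r, hr⟩
    exact congrArg Subtype.val this
  intro hbot
  apply hz1'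
  have hmem : (z : G) ∈ sInf (famX 0 R) := by
    rw [Subgroup.mem_sInf]
    intro A hA
    have hcomm := isMulCommutative_sup_zpowers A hA.2.1 (z : G) (fun a ha => hzc a (hA.1 ha))
    have hle : A ⊔ Subgroup.zpowers (z : G) ≤ R := sup_le hA.1 (Subgroup.zpowers_le.mpr z.2)
    have hcard := hA.2.2.2 _ hle hcomm (fun b _ => pow_zero b)
    have heq : A = A ⊔ Subgroup.zpowers (z : G) := Subgroup.eq_of_le_of_card_ge le_sup_left hcard
    rw [heq]
    exact Subgroup.mem_sup_right (Subgroup.mem_zpowers _)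
  rw [hbot] at hmem
  exact Subgroup.mem_bot.mp hmem

/-- The ZJ-theorem in a local subgroup, seen in the ambient group. -/
lemma local_zj (hp : p ≠ 2) (Q : Subgroup G)
    (hloc : Cfsg.pPrimeCore p ↥(Subgroup.normalizer (Q : Set G)) = ⊥ ∧
      Cfsg.IsPConstrained p ↥(Subgroup.normalizer (Q : Set G)) ∧
      Cfsg.IsPStable p ↥(Subgroup.normalizer (Q : Set G)))
    (R : Subgroup G) (hR : Cfsg.Agent.Lib.Helper18.IsSylowIn p R (Subgroup.normalizer (Q : Set G))) :
    Subgroup.normalizer (Q : Set G) ≤ Subgroup.normalizer ((sInf (famX 0 R) : Subgroup G) : Set G) := by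
  obtain ⟨S_N, hS_N⟩ := hR.exists_sylow
  have h1 := Cfsg.Agent.S0667.zj_normal_of_pPrimeCore_eq_bot hp hloc.1 hloc.2.1 hloc.2.2 S_N
  rw [← sInf_famX_zero] at h1
  have h2 : (sInf (famX 0 (S_N : Subgroup ↥(Subgroup.normalizer (Q : Set G))))).map
      (Subgroup.normalizer (Q : Set G)).subtype = sInf (famX 0 R) := by
    rw [map_sInf_famX_of_injOn 0 (Subgroup.normalizer (Q : Set G)).subtype _
      (Subgroup.subtype_injective _).injOn, hS_N]
  intro n hn
  apply mem_normalizer_of_conj_mem_sub (Subgroup.normalizer (Q : Set G)) _ _ hn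
  intro n hn w hw
  rw [← h2] at hw ⊢
  obtain ⟨w', hw', rfl⟩ := hw
  exact ⟨⟨n, hn⟩ * w' * ⟨n, hn⟩⁻¹, h1.conj_mem w' hw' ⟨n, hn⟩, rfl⟩

end aux

section main

variable {G : Type u} [Group G] [Finite G] {p : ℕ} [Fact p.Prime]

lemma main_ind (hp : p ≠ 2)
    (hloc : ∀ Q : Subgroup G, IsPGroup p Q → Q ≠ ⊥ →
      Cfsg.pPrimeCore p ↥(Subgroup.normalizer (Q : Set G)) = ⊥ ∧
      Cfsg.IsPConstrained p ↥(Subgroup.normalizer (Q : Set G)) ∧
      Cfsg.IsPStable p ↥(Subgroup.normalizer (Q : Set G)))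
    (P : Sylow p G) :
    ∀ (d : ℕ) (Q : Subgroup G), Q ≤ (P : Subgroup G) → Q ≠ ⊥ →
      Nat.card (P : Subgroup G) ≤
        Nat.card ((P : Subgroup G) ⊓ Subgroup.normalizer (Q : Set G) : Subgroup G) + d →
      Subgroup.normalizer (Q : Set G) ≤
        Subgroup.normalizer ((sInf (famX 0 (P : Subgroup G)) : Subgroup G) : Set G) := by
  have hbase : ∀ Q : Subgroup G, Q ≤ (P : Subgroup G) → Q ≠ ⊥ →
      (P : Subgroup G) ≤ Subgroup.normalizer (Q : Set G) →
      Subgroup.normalizer (Q : Set G) ≤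
        Subgroup.normalizer ((sInf (famX 0 (P : Subgroup G)) : Subgroup G) : Set G) := by
    intro Q hQP hQ1 hPN
    exact local_zj hp Q (hloc Q (P.isPGroup'.to_le hQP) hQ1) P
      (Cfsg.Agent.Lib.Helper18.isSylowIn_of_sylow_le P hPN)
  intro d
  induction d with
  | zero =>
    intro Q hQP hQ1 hcard
    apply hbase Q hQP hQ1
    have h1 : (P : Subgroup G) ⊓ Subgroup.normalizer (Q : Set G) = P :=
      Subgroup.eq_of_le_of_card_ge inf_le_left (by omega)
    rw [← h1]; exact inf_le_right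
  | succ d ih =>
    intro Q hQP hQ1 hcard
    by_cases hPN : (P : Subgroup G) ≤ Subgroup.normalizer (Q : Set G)
    · exact hbase Q hQP hQ1 hPN
    obtain ⟨M, hM⟩ : ∃ M, M =
      Subgroup.normalizer ((sInf (famX 0 (P : Subgroup G)) : Subgroup G) : Set G) := ⟨_, rfl⟩
    rw [← hM] at ih ⊢
    obtain ⟨R, hR⟩ : ∃ R, R = (P : Subgroup G) ⊓ Subgroup.normalizer (Q : Set G) := ⟨_, rfl⟩
    rw [← hR] at hcard
    have hRP : R < P := by
      refine lt_of_le_of_ne (hR ▸ inf_le_left) (fun h => hPN ?_)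
      rw [← h, hR]; exact inf_le_right
    have hRN : R ≤ Subgroup.normalizer (Q : Set G) := hR ▸ inf_le_right
    have hQR : Q ≤ R := hR ▸ le_inf hQP Subgroup.le_normalizer
    have hR1 : R ≠ ⊥ := fun h => hQ1 (le_bot_iff.mp (h ▸ hQR))
    have hRp : IsPGroup p R := P.isPGroup'.to_le hRP.le
    have hPM : (P : Subgroup G) ≤ M :=
      hM ▸ (Subgroup.le_normalizer.trans (normalizer_le_normalizer_sInf _))
    have hIH : ∀ Q' : Subgroup G, Q' ≤ (P : Subgroup G) → Q' ≠ ⊥ →
        Nat.card R < Nat.card ((P : Subgroup G) ⊓ Subgroup.normalizer (Q' : Set G) : Subgroup G) →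
        Subgroup.normalizer (Q' : Set G) ≤ M := by
      intro Q' h1 h2 h3
      apply ih Q' h1 h2
      omega
    obtain ⟨x, hxP, hxN, hxR⟩ :=
      Cfsg.Agent.Lib.Helper18.exists_mem_normalizer_not_mem P.isPGroup' hRP
    have hRlt : Nat.card R <
        Nat.card ((P : Subgroup G) ⊓ Subgroup.normalizer (R : Set G) : Subgroup G) := by
      apply card_lt_card_of_lt_sub
      refine lt_of_le_of_ne (le_inf hRP.le Subgroup.le_normalizer) ?_
      intro h
      apply hxR
      rw [h]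
      exact Subgroup.mem_inf.mpr ⟨hxP, hxN⟩
    have hNR : Subgroup.normalizer (R : Set G) ≤ M := hIH R hRP.le hR1 hRlt
    obtain ⟨Rs, hRs, hRRs⟩ := Cfsg.Agent.Lib.Helper18.exists_isSylowIn_ge hRp hRN
    by_cases hRRs' : Rs = R
    · rw [hRRs'] at hRs
      have h1 := local_zj hp Q (hloc Q (P.isPGroup'.to_le hQP) hQ1) R hRs
      refine h1.trans ?_
      obtain ⟨A₀, hA₀⟩ := famX_nonempty 0 R
      have hXP : sInf (famX 0 R) ≤ (P : Subgroup G) := ((sInf_le hA₀).trans hA₀.1).trans hRP.le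
      apply hIH _ hXP (sInf_famX_ne_bot R hRp hR1)
      exact lt_of_lt_of_le hRlt
        (Subgroup.card_le_of_le (inf_le_inf_left _ (normalizer_le_normalizer_sInf R)))
    · have hlt : R < Rs := lt_of_le_of_ne hRRs (Ne.symm hRRs')
      obtain ⟨y, hyRs, hyNR, hyR⟩ :=
        Cfsg.Agent.Lib.Helper18.exists_mem_normalizer_not_mem hRs.2.1 hlt
      obtain ⟨T₀, hT₀⟩ : ∃ T₀, T₀ = R ⊔ Subgroup.zpowers y := ⟨_, rfl⟩
      have hT₀Rs : T₀ ≤ Rs := hT₀ ▸ sup_le hRRs (Subgroup.zpowers_le.mpr hyRs)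
      have hT₀p : IsPGroup p T₀ := hRs.2.1.to_le hT₀Rs
      have hT₀N : T₀ ≤ Subgroup.normalizer (Q : Set G) := hT₀Rs.trans hRs.1
      have hT₀M : T₀ ≤ M :=
        hT₀ ▸ sup_le (hRP.le.trans hPM) (Subgroup.zpowers_le.mpr (hNR hyNR))
      have hRT₀ : R < T₀ := by
        refine lt_of_le_of_ne (hT₀ ▸ le_sup_left) ?_
        intro h
        apply hyR
        rw [h, hT₀]
        exact Subgroup.mem_sup_right (Subgroup.mem_zpowers y)
      obtain ⟨m, hm, hT₀m⟩ :=
        Cfsg.Agent.Lib.Helper18.exists_conj_le_of_sylow_le hT₀p hT₀M P hPM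
      have hback : ((P : Subgroup G).map (MulAut.conj m).toMonoidHom).map
          (MulAut.conj m⁻¹).toMonoidHom = P := by
        rw [← Cfsg.Agent.Lib.Helper18.map_conj_mul, inv_mul_cancel,
          Cfsg.Agent.Lib.Helper18.map_conj_one]
      have hT₀'P : T₀.map (MulAut.conj m⁻¹).toMonoidHom ≤ (P : Subgroup G) :=
        (Subgroup.map_mono hT₀m).trans (le_of_eq hback)
      have hQ'P : Q.map (MulAut.conj m⁻¹).toMonoidHom ≤ (P : Subgroup G) :=
        (Subgroup.map_mono (hQR.trans hRT₀.le)).trans hT₀'P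
      have hQ'1 : Q.map (MulAut.conj m⁻¹).toMonoidHom ≠ ⊥ := by
        rw [Ne, Subgroup.map_eq_bot_iff_of_injective _ (MulAut.conj m⁻¹).injective]
        exact hQ1
      have hT₀'N : T₀.map (MulAut.conj m⁻¹).toMonoidHom ≤
          Subgroup.normalizer ((Q.map (MulAut.conj m⁻¹).toMonoidHom : Subgroup G) : Set G) := by
        rintro _ ⟨t, ht, rfl⟩
        have := Cfsg.Agent.Lib.Helper18.conj_mem_normalizer_map_conj (hT₀N ht) m⁻¹
        simpa [MulAut.conj_apply] using this
      have hcard' : Nat.card R < Nat.card ((P : Subgroup G) ⊓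
          Subgroup.normalizer ((Q.map (MulAut.conj m⁻¹).toMonoidHom : Subgroup G) : Set G) :
            Subgroup G) := by
        have h1 := card_lt_card_of_lt_sub hRT₀
        have h2 := Subgroup.card_le_of_le (le_inf hT₀'P hT₀'N)
        rw [Cfsg.Agent.Lib.Helper18.card_map_conj] at h2
        omega
      have hNQ' := hIH _ hQ'P hQ'1 hcard'
      intro g hg
      have h1 := Cfsg.Agent.Lib.Helper18.conj_mem_normalizer_map_conj hg m⁻¹
      have h2 := hNQ' h1
      have e : g = m * (m⁻¹ * g * m⁻¹⁻¹) * m⁻¹ := by group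
      rw [e]
      exact M.mul_mem (M.mul_mem hm h2) (M.inv_mem hm)

end main

/-- In a group of characteristic p type all of whose p-locals are p-stable (p odd), the normalizer of Z(J(P)) contains the normalizer of every nontrivial subgroup of the Sylow p-subgroup P. -/
theorem result {G : Type*} [Group G] [Finite G] {p : ℕ} [Fact p.Prime] (hp : p ≠ 2) (hloc : ∀ Q : Subgroup G, IsPGroup p Q → Q ≠ ⊥ → Cfsg.pPrimeCore p ↥(Subgroup.normalizer (Q : Set G)) = ⊥ ∧ Cfsg.IsPConstrained p ↥(Subgroup.normalizer (Q : Set G)) ∧ Cfsg.IsPStable p ↥(Subgroup.normalizer (Q : Set G))) (P : Sylow p G) (Q : Subgroup G) (hQP : Q ≤ (P : Subgroup G)) (hQ1 : Q ≠ ⊥) : Subgroup.normalizer (Q : Set G) ≤ Subgroup.normalizer (Cfsg.centerThompsonAOf ((P : Subgroup G)) : Set G) := by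
  rw [← Cfsg.Agent.Lib.Helper6.sInf_famX_zero]
  exact main_ind hp hloc P (Nat.card (P : Subgroup G)) Q hQP hQ1 (Nat.le_add_left _ _)

end Cfsg.Agent.S0658
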