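import Cfsg.Statements.S3071
import Mathlib
import Cfsg.Agent.Lib.Helper14.SecMain
import Cfsg.Agent.Lib.Helper1.AGFam
import Cfsg.Agent.Lib.Helper2.ZJeFunctor
import Cfsg.Agent.Lib.Helper17.QuadSub
import Cfsg.Agent.Lib.Helper17.QuadInv
import Cfsg.Agent.Lib.Helper6.ZJ
import Cfsg.Agent.Lib.Helper6.ZJFam
import Cfsg.Agent.Lib.Helper6.ZJMap
import Cfsg.Agent.Lib.Helper21.CoprimeAbs
import Cfsg.Agent.Lib.Helper18.PGroupFrat
import Cfsg.Agent.Lib.Helper1.Cores

set_option autoImplicit false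
open Cfsg

namespace Cfsg.Agent.S3071

universe u

set_option linter.style.haveILetI false
set_option linter.unusedVariables false
set_option maxHeartbeats 1000000

open scoped commutatorElement

theorem conj_pow_formula {X : Type*} [Group X] (y q c : X) (hc : y * q * y⁻¹ = c * q)
    (hyc : y * c = c * y) (n : ℕ) : y ^ n * q * (y ^ n)⁻¹ = c ^ n * q := by
  induction n with
  | zero => simp
  | succ n ih =>
    have hyc' : y * c ^ n = c ^ n * y := Commute.pow_right (show Commute y c from hyc) n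
    calc y ^ (n + 1) * q * (y ^ (n + 1))⁻¹ = y * (y ^ n * q * (y ^ n)⁻¹) * y⁻¹ := by
          rw [pow_succ']; group
      _ = y * (c ^ n * q) * y⁻¹ := by rw [ih]
      _ = (y * c ^ n) * (q * y⁻¹) := by group
      _ = c ^ n * y * (q * y⁻¹) := by rw [hyc']
      _ = c ^ n * (y * q * y⁻¹) := by group
      _ = c ^ n * (c * q) := by rw [hc]
      _ = c ^ (n + 1) * q := by rw [pow_succ]; group

theorem stable_core {X : Type u} [Group X] [Finite X] {p : ℕ} [Fact p.Prime] (hp : p ≠ 2)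
    (hno : ¬ Cfsg.Involves (Matrix.SpecialLinearGroup (Fin 2) (ZMod p)) X) (a : X) :
    ∀ (n : ℕ) (Q : Subgroup X), Nat.card Q ≤ n → Q.Normal → IsPGroup p Q →
      (∀ q ∈ Q, a * (a * q * a⁻¹ * q⁻¹) * a⁻¹ = a * q * a⁻¹ * q⁻¹) →
      ∃ D : Subgroup X, D.Normal ∧ a ∈ D ∧
        ∀ d ∈ D, ∃ k : ℕ, d ^ p ^ k ∈ Subgroup.centralizer (Q : Set X) := by
  classical
  intro n
  induction n with
  | zero =>
    intro Q hcard
    have := Nat.card_pos (α := Q)
    omega
  | succ n ih =>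
    intro Q hcard hQn hQp hquad
    by_cases hQbot : Q = ⊥
    · refine ⟨⊤, inferInstance, Subgroup.mem_top a, fun d _ => ⟨0, ?_⟩⟩
      rw [hQbot, Subgroup.mem_centralizer_iff]
      intro h hh
      rw [SetLike.mem_coe, Subgroup.mem_bot] at hh
      rw [hh, one_mul, mul_one]
    · haveI := hQn
      obtain ⟨M, hMdef⟩ : ∃ M : Subgroup X, M = (frattini ↥Q).map Q.subtype := ⟨_, rfl⟩
      have hMn : M.Normal := by rw [hMdef]; infer_instance
      have hMQ : M ≤ Q := by rw [hMdef]; exact Subgroup.map_subtype_le _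
      have hMne : M ≠ Q := by
        intro h
        have hnt : Nontrivial ↥Q := by
          rw [Subgroup.nontrivial_iff_ne_bot]; exact hQbot
        have hfr : frattini ↥Q = ⊤ := by
          apply Subgroup.map_injective Q.subtype_injective
          rw [← hMdef, h, ← MonoidHom.range_eq_map, Subgroup.range_subtype]
        rcases eq_top_or_exists_le_coatom (⊥ : Subgroup ↥Q) with h0 | ⟨K, hK, -⟩
        · exact bot_ne_top h0
        · have := frattini_le_coatom hK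
          rw [hfr, top_le_iff] at this
          exact hK.1 this
      have hMlt : M < Q := lt_of_le_of_ne hMQ hMne
      have hMcard : Nat.card M ≤ n := by
        have := Cfsg.Agent.Lib.Helper6.card_lt_card_of_lt_sub hMlt
        omega
      have hMp : IsPGroup p M := hQp.to_le hMQ
      obtain ⟨D₁, hD₁n, haD₁, hD₁⟩ := ih M hMcard hMn hMp (fun q hq => hquad q (hMQ hq))
      haveI := hMn
      obtain ⟨π, hπs, hπk⟩ : ∃ π : X →* X ⧸ M, Function.Surjective π ∧ π.ker = M :=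
        ⟨QuotientGroup.mk' M, QuotientGroup.mk'_surjective M, QuotientGroup.ker_mk' M⟩
      have hQbn : (Q.map π).Normal := hQn.map π hπs
      haveI := hQbn
      have hcomm : ∀ v w : ↥(Q.map π), v * w = w * v := by
        rintro ⟨_, q₁, hq₁, rfl⟩ ⟨_, q₂, hq₂, rfl⟩
        apply Subtype.ext
        show π q₁ * π q₂ = π q₂ * π q₁
        have h1 : ⁅q₁, q₂⁆ ∈ M := by
          rw [hMdef]
          exact Cfsg.Agent.Lib.Helper18.commutator_le_map_frattini hQp
            (Subgroup.commutator_mem_commutator hq₁ hq₂)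
        have h2 : π ⁅q₁, q₂⁆ = 1 := by rw [← MonoidHom.mem_ker, hπk]; exact h1
        rw [commutatorElement_def, map_mul, map_mul, map_mul, map_inv, map_inv] at h2
        calc π q₁ * π q₂ = (π q₁ * π q₂ * (π q₁)⁻¹ * (π q₂)⁻¹) * (π q₂ * π q₁) := by group
          _ = π q₂ * π q₁ := by rw [h2, one_mul]
      letI : CommGroup ↥(Q.map π) :=
        { (inferInstance : Group ↥(Q.map π)) with mul_comm := hcomm }
      have hAp : ∀ v : ↥(Q.map π), v ^ p = 1 := by
        rintro ⟨_, q, hq, rfl⟩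
        apply Subtype.ext
        show π q ^ p = 1
        have h1 : (⟨q, hq⟩ : ↥Q) ^ p ∈ frattini ↥Q :=
          Cfsg.Agent.Lib.Helper21.pow_mem_frattini' hQp ⟨q, hq⟩
        have h2 : q ^ p ∈ M := by
          rw [hMdef]
          exact ⟨_, h1, rfl⟩
        rw [← map_pow, ← MonoidHom.mem_ker, hπk]
        exact h2
      obtain ⟨φ, hφ⟩ : ∃ φ : X →* MulAut ↥(Q.map π), ∀ (x : X) (v : ↥(Q.map π)),
          ((φ x v : ↥(Q.map π)) : X ⧸ M) = π x * v * (π x)⁻¹ :=
        ⟨(MulAut.conjNormal (H := Q.map π)).comp π, fun _ _ => rfl⟩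
      have hqa : Cfsg.Agent.Lib.Helper17.QuadAct φ a := by
        rintro ⟨_, q, hq, rfl⟩
        apply Subtype.ext
        rw [hφ, Subgroup.coe_div, hφ, div_eq_mul_inv]
        show π a * (π a * π q * (π a)⁻¹ * (π q)⁻¹) * (π a)⁻¹ = π a * π q * (π a)⁻¹ * (π q)⁻¹
        have := congrArg π (hquad q hq)
        simpa only [map_mul, map_inv] using this
      obtain ⟨N, hNn, haN, hN⟩ := Cfsg.Agent.Lib.Helper17.quad_involves hp hAp φ hno a hqa
      haveI := hD₁n
      haveI := hNn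
      refine ⟨D₁ ⊓ N, inferInstance, ⟨haD₁, haN⟩, ?_⟩
      rintro d ⟨hd₁, hdN⟩
      obtain ⟨k₁, hk₁⟩ := hD₁ d hd₁
      obtain ⟨k₂, hk₂⟩ := hN d hdN
      obtain ⟨j, hj⟩ := hMp.exists_card_eq
      refine ⟨k₁ + k₂ + j, ?_⟩
      obtain ⟨y, hy⟩ : ∃ y : X, y = d ^ p ^ (k₁ + k₂) := ⟨_, rfl⟩
      have hy1 : y ∈ Subgroup.centralizer (M : Set X) := by
        rw [hy, pow_add, pow_mul]
        exact Subgroup.pow_mem _ hk₁ _
      have hy2 : φ y = 1 := by
        rw [hy, pow_add, mul_comm, pow_mul, map_pow, map_pow, hk₂, one_pow]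
      have hgoal : d ^ p ^ (k₁ + k₂ + j) = y ^ p ^ j := by
        rw [hy, ← pow_mul, ← pow_add]
      rw [hgoal, Subgroup.mem_centralizer_iff]
      intro q hq
      have hc : y * q * y⁻¹ * q⁻¹ ∈ M := by
        have h1 : π y * π q * (π y)⁻¹ = π q := by
          have h0 := hφ y ⟨π q, Subgroup.mem_map_of_mem π hq⟩
          rw [hy2] at h0
          exact h0.symm
        rw [← hπk, MonoidHom.mem_ker, map_mul, map_mul, map_mul, map_inv, map_inv, h1,
          mul_inv_cancel]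
      have hyc : y * (y * q * y⁻¹ * q⁻¹) = (y * q * y⁻¹ * q⁻¹) * y :=
        ((Subgroup.mem_centralizer_iff.mp hy1) _ hc).symm
      have hform := conj_pow_formula y q (y * q * y⁻¹ * q⁻¹) (by group) hyc (p ^ j)
      have hcpow : (y * q * y⁻¹ * q⁻¹) ^ p ^ j = 1 := by
        have h1 : (⟨_, hc⟩ : ↥M) ^ Nat.card ↥M = 1 := pow_card_eq_one'
        rw [hj] at h1
        exact congrArg Subtype.val h1
      rw [hcpow, one_mul] at hform
      calc q * y ^ p ^ j = (y ^ p ^ j * q * (y ^ p ^ j)⁻¹) * y ^ p ^ j := by rw [hform]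
        _ = y ^ p ^ j * q := by group


/-- The functor `Q ↦ Z(J(Q))`, abelian version. -/
def zjAFun : ∀ (Q : Type u) [Group Q], Subgroup Q :=
  fun Q _ => Cfsg.thompsonSubgroupA Q ⊓ Subgroup.centralizer (Cfsg.thompsonSubgroupA Q : Set Q)

theorem inducedFunctor_zjAFun {X : Type u} [Group X] (T : Subgroup X) :
    Cfsg.inducedFunctor zjAFun T = Cfsg.centerThompsonAOf T := by
  unfold Cfsg.inducedFunctor zjAFun Cfsg.centerThompsonAOf Cfsg.thompsonSubgroupAOf
  rw [Cfsg.Agent.Lib.Helper2.map_subtype_inf_centralizer]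

theorem thompsonSubgroupA_map_le (Q R : Type u) [Group Q] [Group R] (φ : Q ≃* R) :
    (Cfsg.thompsonSubgroupA Q).map φ.toMonoidHom ≤ Cfsg.thompsonSubgroupA R := by
  unfold Cfsg.thompsonSubgroupA
  rw [Subgroup.map_le_iff_le_comap]
  apply sSup_le
  intro A hA
  rw [← Subgroup.map_le_iff_le_comap]
  apply le_sSup
  obtain ⟨hA1, hA3⟩ := hA
  refine ⟨inferInstance, ?_⟩
  intro B hB
  have hB' : IsMulCommutative (B.map φ.symm.toMonoidHom) := by
    have := hB
    infer_instance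
  have h1 := hA3 _ hB'
  rw [Subgroup.card_map_of_injective φ.symm.injective] at h1
  rw [Subgroup.card_map_of_injective φ.injective]
  exact h1

theorem zjAFun_map_le (Q R : Type u) [Group Q] [Group R] (φ : Q ≃* R) :
    (zjAFun Q).map φ.toMonoidHom ≤ zjAFun R := by
  rintro _ ⟨x, hx, rfl⟩
  obtain ⟨hx1, hx2⟩ := Subgroup.mem_inf.mp hx
  refine Subgroup.mem_inf.mpr ⟨thompsonSubgroupA_map_le Q R φ (Subgroup.mem_map_of_mem _ hx1), ?_⟩
  rw [Subgroup.mem_centralizer_iff]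
  intro y hy
  have hy' : φ.symm y ∈ Cfsg.thompsonSubgroupA Q :=
    thompsonSubgroupA_map_le R Q φ.symm (Subgroup.mem_map_of_mem _ hy)
  have h1 := (Subgroup.mem_centralizer_iff.mp hx2) _ hy'
  have h2 := congrArg φ h1
  rw [map_mul, map_mul, MulEquiv.apply_symm_apply] at h2
  exact h2

theorem isCharPFunctor_zjAFun (p : ℕ) [Fact p.Prime] : Cfsg.IsCharPFunctor.{u} p zjAFun := by
  have hp : p.Prime := Fact.out
  constructor
  · intro Q _ _ hQ hnt
    obtain ⟨x, hxne⟩ := exists_ne (1 : Q)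
    obtain ⟨A, hA⟩ := Cfsg.Agent.Lib.Helper6.famX_nonempty 0 (⊤ : Subgroup Q)
    have hA' : A ∈ Cfsg.maxAbelianSubgroups Q :=
      (Cfsg.Agent.Lib.Helper6.mem_maxAbelianSubgroups_iff Q A).mpr hA
    have hcard := hA'.2 (Subgroup.zpowers x) inferInstance
    have hAne : A ≠ ⊥ := by
      intro h
      rw [h, Subgroup.card_bot, Nat.card_zpowers] at hcard
      have h1 : orderOf x = 1 := by
        have := orderOf_pos x
        omega
      exact hxne (orderOf_eq_one_iff.mp h1)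
    have hJne : Cfsg.thompsonSubgroupA Q ≠ ⊥ := by
      intro h
      apply hAne
      have : A ≤ Cfsg.thompsonSubgroupA Q := le_sSup hA'
      exact le_bot_iff.mp (h ▸ this)
    have hJnt : Nontrivial ↥(Cfsg.thompsonSubgroupA Q) := by
      obtain ⟨v, hv⟩ := (Subgroup.ne_bot_iff_exists_ne_one).mp hJne
      exact ⟨⟨v, 1, hv⟩⟩
    have hJp : IsPGroup p ↥(Cfsg.thompsonSubgroupA Q) := hQ.to_subgroup _
    have hcnt := hJp.center_nontrivial
    obtain ⟨z, hz1⟩ := exists_ne (1 : ↥(Subgroup.center ↥(Cfsg.thompsonSubgroupA Q)))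
    intro hbot
    have hmem : ((z : ↥(Cfsg.thompsonSubgroupA Q)) : Q) ∈ zjAFun Q := by
      unfold zjAFun
      refine Subgroup.mem_inf.mpr ⟨(z : ↥(Cfsg.thompsonSubgroupA Q)).2, ?_⟩
      rw [Subgroup.mem_centralizer_iff]
      intro y hy
      have h1 := (Subgroup.mem_center_iff.mp z.2) ⟨y, hy⟩
      exact congrArg Subtype.val h1
    rw [hbot, Subgroup.mem_bot] at hmem
    apply hz1
    apply Subtype.ext
    apply Subtype.ext
    exact hmem
  · intro Q R _ _ _ hQ φ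
    apply le_antisymm (zjAFun_map_le Q R φ)
    intro y hy
    have h1 := zjAFun_map_le R Q φ.symm (Subgroup.mem_map_of_mem _ hy)
    refine ⟨φ.symm y, h1, ?_⟩
    simp



open Cfsg.Agent.Lib.Helper6 in
theorem hst_of_free {X : Type u} [Group X] [Finite X] {p : ℕ} [Fact p.Prime] (hp : p ≠ 2)
    (hno : ¬ Cfsg.Involves (Matrix.SpecialLinearGroup (Fin 2) (ZMod p)) X)
    (V : Subgroup X) [hVn : V.Normal] (hV : IsPGroup p V) (a : X)
    (hq : ⁅⁅V, Subgroup.zpowers a⁆, Subgroup.zpowers a⁆ = ⊥) :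
    (QuotientGroup.mk a : X ⧸ Subgroup.centralizer (V : Set X)) ∈
      Cfsg.pCore p (X ⧸ Subgroup.centralizer (V : Set X)) := by
  obtain ⟨D, hDn, haD, hD⟩ := stable_core hp hno a _ V le_rfl hVn hV
    (Cfsg.Agent.Lib.Helper17.quad_elem_of_comm V a hq)
  have hEn : (D.map (QuotientGroup.mk' (Subgroup.centralizer (V : Set X)))).Normal :=
    Subgroup.Normal.map hDn _ (QuotientGroup.mk'_surjective _)
  have hEp : IsPGroup p (D.map (QuotientGroup.mk' (Subgroup.centralizer (V : Set X)))) := by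
    rintro ⟨_, d, hdD, rfl⟩
    obtain ⟨k, hk⟩ := hD d hdD
    refine ⟨k, ?_⟩
    apply Subtype.ext
    rw [Subgroup.coe_pow, Subgroup.coe_one, ← map_pow, ← MonoidHom.mem_ker,
      QuotientGroup.ker_mk']
    exact hk
  exact Cfsg.Agent.Lib.Helper1.le_pCore p hEn hEp ⟨a, haD, rfl⟩

open Cfsg.Agent.Lib.Helper6 in
theorem zjA_normal {X : Type u} [Group X] [Finite X] {p : ℕ} [Fact p.Prime] (hp : p ≠ 2)
    (hno : ¬ Cfsg.Involves (Matrix.SpecialLinearGroup (Fin 2) (ZMod p)) X)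
    (hc : Subgroup.centralizer ((Cfsg.pCore p X : Subgroup X) : Set X) ≤ Cfsg.pCore p X)
    (P : Sylow p X) : (Cfsg.centerThompsonAOf (P : Subgroup X)).Normal := by
  rw [← sInf_famX_zero]
  exact zj_normal (famX 0) (famX_comm 0) (famX_le 0)
    (fun P A g hA hg => by
      have h := famX_aut 0 (MulAut.conj g) P A hA
      rw [Cfsg.Agent.Lib.Helper18.map_conj_eq_of_mem_normalizer P hg] at h
      exact h)
    (famX_mono 0)
    (fun P B hP hBn hBP A hA hBA hnot => famX_repl hp 0 P B hP hBn hBP A hA hBA hnot)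
    (fun V _ hV a _ hq => hst_of_free hp hno V hV a hq) hc P (famX_nonempty 0 _)

open Cfsg.Agent.Lib.Helper14 in
theorem sf_zjA {p : ℕ} [Fact p.Prime] (hp : p ≠ 2) (X : Type u) [Group X] [Finite X]
    (hno : ¬ Cfsg.Involves (Matrix.SpecialLinearGroup (Fin 2) (ZMod p)) X) :
    SF p ({zjAFun} : Set (∀ (Q : Type u) [Group Q], Subgroup Q)) X := by
  have h𝓦 : ∀ W ∈ ({zjAFun} : Set (∀ (Q : Type u) [Group Q], Subgroup Q)),
      Cfsg.IsCharPFunctor.{u} p W := by
    intro W hW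
    rw [Set.mem_singleton_iff] at hW
    exact hW ▸ isCharPFunctor_zjAFun p
  refine sf_of_constrained h𝓦
    (fun Y _ => ¬ Cfsg.Involves (Matrix.SpecialLinearGroup (Fin 2) (ZMod p)) Y) ?_ ?_ ?_
    (Nat.card X) X hno rfl
  · intro Y _ hY H hH
    apply hY
    obtain ⟨K, L, hL, -, he⟩ :=
      Cfsg.Agent.Lib.Helper17.exists_section_of_involves_subgroup H hH
    exact ⟨K, L, hL, he⟩
  · intro Y _ hY N _ hN
    exact hY (Cfsg.Agent.Lib.Helper17.involves_of_surjective_hom (QuotientGroup.mk' N)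
      (QuotientGroup.mk'_surjective N) hN)
  · intro Y _ _ hY hC _ S B y hB hBy
    have hn := zjA_normal hp hY hC S
    exact Reach.step hB ⟨zjAFun, rfl, rfl⟩
      (by
        show y ∈ Subgroup.normalizer
          ((Cfsg.inducedFunctor zjAFun (S : Subgroup Y) : Subgroup Y) : Set Y)
        rw [inducedFunctor_zjAFun, Subgroup.normalizer_eq_top_iff.mpr hn]
        exact Subgroup.mem_top y) hBy

open Cfsg.Agent.Lib.Helper14 in
theorem chain_mem_normalizer {X : Type u} [Group X] {𝓦 : Set (Subgroup X → Subgroup X)}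
    {H T V : Subgroup X} (hV : ∀ W' ∈ 𝓦, W' T = V) {A : Set X} {c : X}
    (h : LChain 𝓦 H T A c) : c ∈ Subgroup.normalizer (V : Set X) := by
  induction h with
  | nil _ => exact one_mem _
  | snoc c₀ y W' _ hW' hy _ ih =>
    have h1 := (Subgroup.mem_inf.mp hy).2
    rw [hV W' hW'] at h1
    exact mul_mem h1 ih

/-- Theorem G in element form. -/
theorem ctl_zjA {p : ℕ} [Fact p.Prime] (hp : p ≠ 2) {X : Type u} [Group X] [Finite X]
    (hno : ¬ Cfsg.Involves (Matrix.SpecialLinearGroup (Fin 2) (ZMod p)) X) (T : Sylow p X)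
    (u y : X) (hu : u ∈ (T : Subgroup X)) (hy : y * u * y⁻¹ ∈ (T : Subgroup X)) :
    ∃ n ∈ Subgroup.normalizer ((Cfsg.centerThompsonAOf (T : Subgroup X) : Subgroup X) : Set X),
      n * u * n⁻¹ = y * u * y⁻¹ := by
  obtain ⟨c, hc, hceq⟩ := sf_zjA hp X hno T {u} y (Set.singleton_subset_iff.mpr hu)
    (by
      rintro _ ⟨a, ha, rfl⟩
      rw [Set.mem_singleton_iff] at ha
      subst ha
      exact hy)
  refine ⟨c, ?_, hceq u rfl⟩
  refine chain_mem_normalizer ?_ hc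
  rintro _ ⟨W', hW', rfl⟩
  rw [Set.mem_singleton_iff] at hW'
  rw [hW']
  show Cfsg.inducedFunctor zjAFun (T : Subgroup X) = _
  rw [inducedFunctor_zjAFun]


open Cfsg.Agent.Lib.Helper6 in
theorem zjA_map_subtype {G : Type u} [Group G] [Finite G] (M : Subgroup G) (T : Subgroup ↥M) :
    (Cfsg.centerThompsonAOf T).map M.subtype = Cfsg.centerThompsonAOf (T.map M.subtype) := by
  rw [← sInf_famX_zero, ← sInf_famX_zero,
    map_sInf_famX_of_injOn 0 M.subtype T (Subgroup.subtype_injective _).injOn]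

open Cfsg.Agent.Lib.Helper6 in
theorem zjA_map_conj {G : Type u} [Group G] [Finite G] (T : Subgroup G) (w : G) :
    (Cfsg.centerThompsonAOf T).map (MulAut.conj w).toMonoidHom =
      Cfsg.centerThompsonAOf (T.map (MulAut.conj w).toMonoidHom) := by
  rw [← sInf_famX_zero, ← sInf_famX_zero,
    map_sInf_famX_of_injOn 0 (MulAut.conj w).toMonoidHom T (MulAut.conj w).injective.injOn]

theorem zjA_le {G : Type u} [Group G] (T : Subgroup G) : Cfsg.centerThompsonAOf T ≤ T := by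
  unfold Cfsg.centerThompsonAOf Cfsg.thompsonSubgroupAOf
  exact inf_le_left.trans (Subgroup.map_subtype_le _)

/-- The normalizer of `T` normalizes `Z(J(T))`. -/
theorem normalizer_le_normalizer_zjA {G : Type u} [Group G] [Finite G] (T : Subgroup G) :
    Subgroup.normalizer (T : Set G) ≤
      Subgroup.normalizer ((Cfsg.centerThompsonAOf T : Subgroup G) : Set G) := by
  intro g hg
  apply Cfsg.Agent.Lib.Helper14.mem_normalizer_of_map_conj_eq
  rw [zjA_map_conj, Cfsg.Agent.Lib.Helper14.map_conj_eq_self_of_mem_normalizer hg]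

/-- Central elements of `T` lie in `Z(J(T))`. -/
theorem center_le_zjA {G : Type u} [Group G] [Finite G] (T : Subgroup G) (z : G) (hz : z ∈ T)
    (hzc : z ∈ Subgroup.centralizer (T : Set G)) : z ∈ Cfsg.centerThompsonAOf T := by
  rw [← Cfsg.Agent.Lib.Helper6.sInf_famX_zero, Subgroup.mem_sInf]
  intro A hA
  obtain ⟨hAT, hAc, -, hAmax⟩ := hA
  obtain ⟨D, hD⟩ : ∃ D : Subgroup G, D = A ⊔ Subgroup.zpowers z := ⟨_, rfl⟩
  have hAD : A ≤ D := by rw [hD]; exact le_sup_left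
  have hzD : z ∈ D := by rw [hD]; exact Subgroup.mem_sup_right (Subgroup.mem_zpowers z)
  have hDT : D ≤ T := by
    rw [hD]
    exact sup_le hAT (by rw [Subgroup.zpowers_le]; exact hz)
  have hzcomm : ∀ a ∈ A, a * z = z * a := fun a ha =>
    Subgroup.mem_centralizer_iff.mp hzc a (hAT ha)
  have hAA : A ≤ Subgroup.centralizer (A : Set G) := by
    intro a ha
    rw [Subgroup.mem_centralizer_iff]
    intro b hb
    have := hAc.is_comm.comm (⟨b, hb⟩ : ↥A) ⟨a, ha⟩
    exact congrArg Subtype.val this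
  have hAz : A ≤ Subgroup.centralizer ({z} : Set G) := by
    intro a ha
    rw [Subgroup.mem_centralizer_iff]
    intro b hb
    rw [Set.mem_singleton_iff] at hb
    rw [hb]
    exact (hzcomm a ha).symm
  have hzA : z ∈ Subgroup.centralizer (A : Set G) := by
    rw [Subgroup.mem_centralizer_iff]
    intro b hb
    exact hzcomm b hb
  have hzz : z ∈ Subgroup.centralizer ({z} : Set G) := by
    rw [Subgroup.mem_centralizer_iff]
    intro b hb
    rw [Set.mem_singleton_iff] at hb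
    rw [hb]
  have hD1 : D ≤ Subgroup.centralizer (A : Set G) ⊓ Subgroup.centralizer ({z} : Set G) := by
    rw [hD]
    refine sup_le (le_inf hAA hAz) ?_
    rw [Subgroup.zpowers_le]
    exact Subgroup.mem_inf.mpr ⟨hzA, hzz⟩
  have hDc : ∀ x ∈ D, ∀ y ∈ D, x * y = y * x := by
    intro x hx
    have hxA := (Subgroup.mem_inf.mp (hD1 hx)).1
    have hxz := (Subgroup.mem_inf.mp (hD1 hx)).2
    have hle : D ≤ Subgroup.centralizer ({x} : Set G) := by
      rw [hD]
      refine sup_le ?_ ?_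
      · intro a ha
        rw [Subgroup.mem_centralizer_iff]
        intro b hb
        rw [Set.mem_singleton_iff] at hb
        rw [hb]
        exact (Subgroup.mem_centralizer_iff.mp hxA a ha).symm
      · rw [Subgroup.zpowers_le, Subgroup.mem_centralizer_iff]
        intro b hb
        rw [Set.mem_singleton_iff] at hb
        rw [hb]
        exact (Subgroup.mem_centralizer_iff.mp hxz z rfl).symm
    intro y hy
    exact Subgroup.mem_centralizer_iff.mp (hle hy) x rfl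
  have hDcomm : IsMulCommutative ↥D :=
    ⟨⟨fun a b => Subtype.ext (hDc a a.2 b b.2)⟩⟩
  have hcard := hAmax D hDT hDcomm (fun b _ => pow_zero b)
  have hEq : A = D := Subgroup.eq_of_le_of_card_ge hAD hcard
  rw [hEq]
  exact hzD

theorem local_step {G : Type u} [Group G] [Finite G] {p : ℕ} [Fact p.Prime] (hp : p ≠ 2)
    (M : Subgroup G) (hM : ¬ Cfsg.Involves (Matrix.SpecialLinearGroup (Fin 2) (ZMod p)) ↥M)
    (T₀ : Sylow p ↥M) (u n : G) (hn : n ∈ M)
    (hu : u ∈ (T₀ : Subgroup ↥M).map M.subtype)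
    (hv : n * u * n⁻¹ ∈ (T₀ : Subgroup ↥M).map M.subtype) :
    ∃ n₁ ∈ Subgroup.normalizer
        ((Cfsg.centerThompsonAOf ((T₀ : Subgroup ↥M).map M.subtype) : Subgroup G) : Set G),
      n₁ * u * n₁⁻¹ = n * u * n⁻¹ := by
  obtain ⟨u', hu', rfl⟩ := hu
  obtain ⟨v', hv', hv'eq⟩ := hv
  have hy : (⟨n, hn⟩ : ↥M) * u' * (⟨n, hn⟩ : ↥M)⁻¹ ∈ (T₀ : Subgroup ↥M) := by
    have : v' = (⟨n, hn⟩ : ↥M) * u' * (⟨n, hn⟩ : ↥M)⁻¹ := Subtype.ext hv'eq
    rw [← this]
    exact hv'
  obtain ⟨n', hn', hn'eq⟩ := ctl_zjA hp hM T₀ u' ⟨n, hn⟩ hu' hy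
  refine ⟨(n' : G), ?_, ?_⟩
  · rw [← zjA_map_subtype]
    exact Subgroup.le_normalizer_map M.subtype ⟨n', hn', rfl⟩
  · have := congrArg Subtype.val hn'eq
    simpa using this


theorem sylow_smul_coe {G : Type u} [Group G] {p : ℕ} (S : Sylow p G) (w : G) :
    ((w • S : Sylow p G) : Subgroup G) = (S : Subgroup G).map (MulAut.conj w).toMonoidHom := rfl

open Cfsg.Agent.Lib.Helper14 in
theorem involves_normalizer_conj {G : Type u} [Group G] (H : Type*) [Group H] (P₀ : Subgroup G)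
    (w : G)
    (h : Cfsg.Involves H ↥(Subgroup.normalizer
      ((P₀.map (MulAut.conj w).toMonoidHom : Subgroup G) : Set G))) :
    Cfsg.Involves H ↥(Subgroup.normalizer (P₀ : Set G)) := by
  obtain ⟨f, hf⟩ : ∃ f : ↥(Subgroup.normalizer (P₀ : Set G)) →*
      ↥(Subgroup.normalizer ((P₀.map (MulAut.conj w).toMonoidHom : Subgroup G) : Set G)),
      ∀ n, ((f n : ↥(Subgroup.normalizer
        ((P₀.map (MulAut.conj w).toMonoidHom : Subgroup G) : Set G))) : G) = w * n * w⁻¹ := by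
    refine ⟨{
      toFun := fun n => ⟨w * n * w⁻¹, by
        rw [mem_normalizer_map_conj_iff]
        have e : w⁻¹ * (w * (n : G) * w⁻¹) * w = n := by group
        rw [e]
        exact n.2⟩
      map_one' := by
        apply Subtype.ext
        show w * ((1 : ↥(Subgroup.normalizer (P₀ : Set G))) : G) * w⁻¹ = 1
        rw [Subgroup.coe_one]
        group
      map_mul' := by
        intro a b
        apply Subtype.ext
        show w * ((a * b : ↥(Subgroup.normalizer (P₀ : Set G))) : G) * w⁻¹ =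
          (w * (a : G) * w⁻¹) * (w * (b : G) * w⁻¹)
        rw [Subgroup.coe_mul]
        group }, fun n => rfl⟩
  have hsurj : Function.Surjective f := by
    intro m
    refine ⟨⟨w⁻¹ * m * w, mem_normalizer_map_conj_iff.mp m.2⟩, ?_⟩
    apply Subtype.ext
    rw [hf]
    show w * (w⁻¹ * (m : G) * w) * w⁻¹ = m
    group
  exact Cfsg.Agent.Lib.Helper17.involves_of_surjective_hom f hsurj h

open Cfsg.Agent.Lib.Helper14 in
theorem free_sylow {G : Type u} [Group G] [Finite G] {p : ℕ} [Fact p.Prime] (S : Sylow p G)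
    (hfree : ∀ P : Subgroup G,
      (S : Subgroup G) ⊓ Subgroup.centralizer ((S : Subgroup G) : Set G) ≤ P → P ≤ S →
      ¬ ∃ (H K : Subgroup G) (hK : (K.subgroupOf H).Normal),
        H ≤ Subgroup.normalizer (P : Set G) ∧
        Nonempty ((H ⧸ K.subgroupOf H) ≃* Matrix.SpecialLinearGroup (Fin 2) (ZMod p)))
    (S' : Sylow p G) (P : Subgroup G)
    (hZ : (S' : Subgroup G) ⊓ Subgroup.centralizer ((S' : Subgroup G) : Set G) ≤ P)
    (hP : P ≤ S') :
    ¬ Cfsg.Involves (Matrix.SpecialLinearGroup (Fin 2) (ZMod p))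
      ↥(Subgroup.normalizer (P : Set G)) := by
  intro hinv
  obtain ⟨w, hw⟩ := MulAction.exists_smul_eq G S S'
  have hS' : (S' : Subgroup G) = (S : Subgroup G).map (MulAut.conj w).toMonoidHom := by
    rw [← hw]
    exact sylow_smul_coe S w
  obtain ⟨P₀, hP₀⟩ : ∃ P₀ : Subgroup G, P₀ = P.map (MulAut.conj w⁻¹).toMonoidHom := ⟨_, rfl⟩
  have hPeq : P = P₀.map (MulAut.conj w).toMonoidHom := by
    rw [hP₀]
    have := map_conj_inv_map_conj P w⁻¹
    rw [inv_inv] at this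
    exact this.symm
  rw [hPeq] at hinv
  have h0 := involves_normalizer_conj _ P₀ w hinv
  obtain ⟨K, L, hL, hKN, he⟩ :=
    Cfsg.Agent.Lib.Helper17.exists_section_of_involves_subgroup _ h0
  refine hfree P₀ ?_ ?_ ⟨K, L, hL, hKN, he⟩
  · intro z hz
    obtain ⟨hzS, hzC⟩ := Subgroup.mem_inf.mp hz
    rw [hP₀, mem_map_conj_iff, inv_inv]
    apply hZ
    refine Subgroup.mem_inf.mpr ⟨?_, ?_⟩
    · rw [hS']
      exact conj_mem_map_conj hzS
    · rw [hS', mem_centralizer_map_conj_iff]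
      have e : w⁻¹ * (w * z * w⁻¹) * w = z := by group
      rw [e]
      exact hzC
  · intro x hx
    rw [hP₀, mem_map_conj_iff, inv_inv] at hx
    have h1 := hP hx
    rw [hS', mem_map_conj_iff] at h1
    have e : w⁻¹ * (w * x * w⁻¹) * w = x := by group
    rwa [e] at h1


open Cfsg.Agent.Lib.Helper14 in
theorem tower {G : Type u} [Group G] [Finite G] {p : ℕ} [Fact p.Prime] (hp : p ≠ 2)
    (HH : ∀ (S' : Sylow p G) (P : Subgroup G),
      (S' : Subgroup G) ⊓ Subgroup.centralizer ((S' : Subgroup G) : Set G) ≤ P → P ≤ S' →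
      ¬ Cfsg.Involves (Matrix.SpecialLinearGroup (Fin 2) (ZMod p))
        ↥(Subgroup.normalizer (P : Set G))) :
    ∀ (k : ℕ) (T' : Subgroup G) (S' : Sylow p G), T' ≤ (S' : Subgroup G) →
      (S' : Subgroup G) ⊓ Subgroup.centralizer ((S' : Subgroup G) : Set G) ≤ T' →
      Nat.card (S' : Subgroup G) - Nat.card T' = k →
      ∀ u v : G, u ∈ T' → v ∈ T' →
      (∃ n ∈ Subgroup.normalizer ((Cfsg.centerThompsonAOf T' : Subgroup G) : Set G),
        n * u * n⁻¹ = v) →
      ∃ S'' : Sylow p G, T' ≤ (S'' : Subgroup G) ∧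
        ∃ n'' ∈ Subgroup.normalizer
          ((Cfsg.centerThompsonAOf (S'' : Subgroup G) : Subgroup G) : Set G),
          n'' * u * n''⁻¹ = v := by
  intro k
  induction k using Nat.strong_induction_on with
  | _ k ih =>
    intro T' S' hTS hZ hk u v hu hv hex
    by_cases hEq : T' = (S' : Subgroup G)
    · subst hEq
      exact ⟨S', le_rfl, hex⟩
    · obtain ⟨n, hn, hnuv⟩ := hex
      obtain ⟨r, hr, hrT⟩ := exists_mem_normalizer_not_mem S'.isPGroup' hTS hEq
      obtain ⟨hrS, hrN⟩ := Subgroup.mem_inf.mp hr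
      obtain ⟨W₁, hW₁⟩ : ∃ W₁ : Subgroup G, W₁ = Cfsg.centerThompsonAOf T' := ⟨_, rfl⟩
      obtain ⟨M, hMdef⟩ : ∃ M : Subgroup G, M = Subgroup.normalizer (W₁ : Set G) := ⟨_, rfl⟩
      have hW₁T : W₁ ≤ T' := by rw [hW₁]; exact zjA_le T'
      have hZW : (S' : Subgroup G) ⊓ Subgroup.centralizer ((S' : Subgroup G) : Set G) ≤ W₁ := by
        intro z hz
        rw [hW₁]
        apply center_le_zjA T' z (hZ hz)
        exact Subgroup.centralizer_le (SetLike.coe_subset_coe.mpr hTS) (Subgroup.mem_inf.mp hz).2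
      have hMfree : ¬ Cfsg.Involves (Matrix.SpecialLinearGroup (Fin 2) (ZMod p)) ↥M := by
        rw [hMdef]
        exact HH S' W₁ hZW (hW₁T.trans hTS)
      have hNTM : Subgroup.normalizer (T' : Set G) ≤ M := by
        rw [hMdef, hW₁]
        exact normalizer_le_normalizer_zjA T'
      have hrM : r ∈ M := hNTM hrN
      have hnM : n ∈ M := by rw [hMdef, hW₁]; exact hn
      obtain ⟨R, hRdef⟩ : ∃ R : Subgroup G,
          R = (S' : Subgroup G) ⊓ Subgroup.normalizer (T' : Set G) := ⟨_, rfl⟩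
      have hRp : IsPGroup p R := by rw [hRdef]; exact S'.isPGroup'.to_le inf_le_left
      have hRM : R ≤ M := by rw [hRdef]; exact inf_le_right.trans hNTM
      have hRp' : IsPGroup p ↥(R.subgroupOf M) := hRp.comap_subtype
      obtain ⟨T₀, hT₀⟩ := hRp'.exists_le_sylow
      obtain ⟨T₁, hT₁⟩ : ∃ T₁ : Subgroup G, T₁ = (T₀ : Subgroup ↥M).map M.subtype := ⟨_, rfl⟩
      have hRT₁ : R ≤ T₁ := by
        intro x hx
        rw [hT₁]
        exact ⟨⟨x, hRM hx⟩, hT₀ (Subgroup.mem_subgroupOf.mpr hx), rfl⟩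
      have hT₁p : IsPGroup p T₁ := by rw [hT₁]; exact T₀.isPGroup'.map _
      have hTT₁ : T' ≤ T₁ := by
        refine le_trans ?_ hRT₁
        rw [hRdef]
        exact le_inf hTS Subgroup.le_normalizer
      have hrT₁ : r ∈ T₁ := hRT₁ (by rw [hRdef]; exact hr)
      have hlt : Nat.card T' < Nat.card T₁ := by
        apply Cfsg.Agent.Lib.Helper6.card_lt_card_of_lt_sub
        exact lt_of_le_of_ne hTT₁ (fun h => hrT (h ▸ hrT₁))
      obtain ⟨S₁, hS₁⟩ := hT₁p.exists_le_sylow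
      have hZ₁ : (S₁ : Subgroup G) ⊓ Subgroup.centralizer ((S₁ : Subgroup G) : Set G) ≤ T₁ := by
        intro z hz
        obtain ⟨hzS, hzC⟩ := Subgroup.mem_inf.mp hz
        have hzM : z ∈ M := by
          rw [hMdef]
          apply Subgroup.centralizer_le_normalizer
          exact Subgroup.centralizer_le
            (SetLike.coe_subset_coe.mpr (hW₁T.trans (hTT₁.trans hS₁))) hzC
        have hQ : IsPGroup p ↥(((S₁ : Subgroup G) ⊓ M).subgroupOf M) :=
          (S₁.isPGroup'.to_le inf_le_left).comap_subtype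
        have hle : (T₀ : Subgroup ↥M) ≤ ((S₁ : Subgroup G) ⊓ M).subgroupOf M := by
          intro x hx
          rw [Subgroup.mem_subgroupOf]
          refine Subgroup.mem_inf.mpr ⟨hS₁ ?_, x.2⟩
          rw [hT₁]
          exact ⟨x, hx, rfl⟩
        have heq := T₀.is_maximal' hQ hle
        have hzT₀ : (⟨z, hzM⟩ : ↥M) ∈ (T₀ : Subgroup ↥M) := by
          rw [← heq, Subgroup.mem_subgroupOf]
          exact Subgroup.mem_inf.mpr ⟨hzS, hzM⟩
        rw [hT₁]
        exact ⟨⟨z, hzM⟩, hzT₀, rfl⟩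
      have hu₁ : u ∈ (T₀ : Subgroup ↥M).map M.subtype := by rw [← hT₁]; exact hTT₁ hu
      have hv₁ : n * u * n⁻¹ ∈ (T₀ : Subgroup ↥M).map M.subtype := by
        rw [← hT₁, hnuv]
        exact hTT₁ hv
      obtain ⟨n₁, hn₁, hn₁eq⟩ := local_step hp M hMfree T₀ u n hnM hu₁ hv₁
      rw [← hT₁] at hn₁
      rw [hnuv] at hn₁eq
      have hcardS : Nat.card (S₁ : Subgroup G) = Nat.card (S' : Subgroup G) := by
        rw [S₁.card_eq_multiplicity, S'.card_eq_multiplicity]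
      have hle₁ : Nat.card T₁ ≤ Nat.card (S₁ : Subgroup G) := Subgroup.card_le_of_le hS₁
      obtain ⟨S'', hS'', hres⟩ := ih (Nat.card (S₁ : Subgroup G) - Nat.card T₁) (by omega)
        T₁ S₁ hS₁ hZ₁ rfl u v (hTT₁ hu) (hTT₁ hv) ⟨n₁, hn₁, hn₁eq⟩
      exact ⟨S'', hTT₁.trans hS'', hres⟩


theorem mem_sup_of_commute' {G : Type u} [Group G] (O D : Subgroup G)
    (hc : ∀ a ∈ O, ∀ b ∈ D, a * b = b * a) {x : G} (hx : x ∈ O ⊔ D) :
    ∃ o ∈ O, ∃ d ∈ D, x = o * d := by
  obtain ⟨E, hE⟩ : ∃ E : Subgroup G, ∀ x, x ∈ E ↔ ∃ o ∈ O, ∃ d ∈ D, x = o * d := by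
    refine ⟨{
      carrier := {x | ∃ o ∈ O, ∃ d ∈ D, x = o * d}
      mul_mem' := by
        rintro _ _ ⟨o, ho, d, hd, rfl⟩ ⟨o', ho', d', hd', rfl⟩
        refine ⟨o * o', mul_mem ho ho', d * d', mul_mem hd hd', ?_⟩
        have h1 := hc o' ho' d hd
        calc o * d * (o' * d') = o * (d * o') * d' := by group
          _ = o * (o' * d) * d' := by rw [h1]
          _ = o * o' * (d * d') := by group
      one_mem' := ⟨1, one_mem _, 1, one_mem _, by group⟩
      inv_mem' := by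
        rintro _ ⟨o, ho, d, hd, rfl⟩
        refine ⟨o⁻¹, inv_mem ho, d⁻¹, inv_mem hd, ?_⟩
        have h1 := hc o⁻¹ (inv_mem ho) d⁻¹ (inv_mem hd)
        rw [h1]
        group }, fun x => Iff.rfl⟩
  have hO : O ≤ E := fun o ho => (hE o).mpr ⟨o, ho, 1, one_mem _, by group⟩
  have hD : D ≤ E := fun d hd => (hE d).mpr ⟨1, one_mem _, d, hd, by group⟩
  exact (hE x).mp (sup_le hO hD hx)

open Cfsg.Agent.Lib.Helper14 Cfsg.Agent.Lib.Helper1.AG in
theorem center_le_of_mem_agFam {G : Type u} [Group G] [Finite G] {p : ℕ} [Fact p.Prime]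
    (S : Sylow p G) (T : Subgroup G) (hT : T ∈ agFam p (S : Subgroup G)) :
    (S : Subgroup G) ⊓ Subgroup.centralizer ((S : Subgroup G) : Set G) ≤ T := by
  obtain ⟨hTS, hcen, hdp, hfn⟩ := hT
  obtain ⟨-, -, hcomm, -, hsup⟩ := hdp
  intro z hz
  obtain ⟨hzS, hzC⟩ := Subgroup.mem_inf.mp hz
  have hzT : z ∈ Subgroup.centralizer (T : Set G) :=
    Subgroup.centralizer_le (SetLike.coe_subset_coe.mpr hTS) hzC
  have hzK := hcen hzT
  rw [← hsup] at hzK
  obtain ⟨o, ho, d, hd, hzod⟩ := mem_sup_of_commute' _ _ hcomm hzK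
  have hoS : o ∈ (S : Subgroup G) := by
    have e : o = z * d⁻¹ := by rw [hzod]; group
    rw [e]
    exact mul_mem hzS (inv_mem (hTS hd))
  have ho1 : o = 1 := eq_one_of_mem_map_pPrimeCore S.isPGroup' hoS ho
  rw [hzod, ho1, one_mul]
  exact hd

open Cfsg.Agent.Lib.Helper14 Cfsg.Agent.Lib.Helper1.AG in
theorem link {G : Type u} [Group G] [Finite G] {p : ℕ} [Fact p.Prime] (hp : p ≠ 2)
    (S : Sylow p G)
    (HH : ∀ (S' : Sylow p G) (P : Subgroup G),
      (S' : Subgroup G) ⊓ Subgroup.centralizer ((S' : Subgroup G) : Set G) ≤ P → P ≤ S' →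
      ¬ Cfsg.Involves (Matrix.SpecialLinearGroup (Fin 2) (ZMod p))
        ↥(Subgroup.normalizer (P : Set G)))
    (m : ℕ)
    (IH : ∀ (P' : Subgroup G) (g' : G), m < Nat.card P' → P' ≤ (S : Subgroup G) →
      P'.map (MulAut.conj g'⁻¹).toMonoidHom ≤ (S : Subgroup G) →
      ∀ x ∈ P', ∃ n ∈ Subgroup.normalizer
        ((Cfsg.centerThompsonAOf (S : Subgroup G) : Subgroup G) : Set G),
        n * x * n⁻¹ = g'⁻¹ * x * g')
    (T : Subgroup G) (hT : T ∈ agFam p (S : Subgroup G)) (hm : m ≤ Nat.card T)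
    (y : G) (hy : y ∈ Subgroup.normalizer (T : Set G)) (a : G) (ha : a ∈ T) :
    ∃ n ∈ Subgroup.normalizer
        ((Cfsg.centerThompsonAOf (S : Subgroup G) : Subgroup G) : Set G),
      n * a * n⁻¹ = y⁻¹ * a * y := by
  have hZT := center_le_of_mem_agFam S T hT
  obtain ⟨hTS, hcen, hdp, hfn⟩ := hT
  obtain ⟨N, hN⟩ : ∃ N : Subgroup G, N = Subgroup.normalizer (T : Set G) := ⟨_, rfl⟩
  rw [← hN] at hfn hy
  have hNfree : ¬ Cfsg.Involves (Matrix.SpecialLinearGroup (Fin 2) (ZMod p)) ↥N := by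
    rw [hN]
    exact HH S T hZT hTS
  have hTN : T ≤ N := by rw [hN]; exact Subgroup.le_normalizer
  have hRp : IsPGroup p ↥(((S : Subgroup G) ⊓ N).subgroupOf N) :=
    (S.isPGroup'.to_le inf_le_left).comap_subtype
  obtain ⟨T₀, hT₀⟩ := hRp.exists_le_sylow
  obtain ⟨T₁, hT₁⟩ : ∃ T₁ : Subgroup G, T₁ = (T₀ : Subgroup ↥N).map N.subtype := ⟨_, rfl⟩
  have hle₁ : (S : Subgroup G) ⊓ N ≤ T₁ := by
    intro x hx
    rw [hT₁]
    exact ⟨⟨x, (Subgroup.mem_inf.mp hx).2⟩, hT₀ (Subgroup.mem_subgroupOf.mpr hx), rfl⟩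
  have hT₁N : T₁ ≤ N := by rw [hT₁]; exact Subgroup.map_subtype_le _
  have hT₁p : IsPGroup p T₁ := by rw [hT₁]; exact T₀.isPGroup'.map _
  have hT₁eq : (S : Subgroup G) ⊓ N = T₁ := eq_of_le_of_relIndex hle₁ hT₁N hT₁p hfn
  have hTT₁ : T ≤ T₁ := by
    rw [← hT₁eq]
    exact le_inf hTS hTN
  have hb : y⁻¹ * a * y ∈ T := by
    have hy' : y⁻¹ ∈ Subgroup.normalizer (T : Set G) := by rw [← hN]; exact inv_mem hy
    have := (Subgroup.mem_normalizer_iff.mp hy' a).mp ha
    rwa [inv_inv] at this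
  have hu₁ : a ∈ (T₀ : Subgroup ↥N).map N.subtype := by rw [← hT₁]; exact hTT₁ ha
  have hv₁ : y⁻¹ * a * y⁻¹⁻¹ ∈ (T₀ : Subgroup ↥N).map N.subtype := by
    rw [← hT₁, inv_inv]
    exact hTT₁ hb
  obtain ⟨n₁, hn₁, hn₁eq⟩ := local_step hp N hNfree T₀ a y⁻¹ (inv_mem hy) hu₁ hv₁
  rw [inv_inv] at hn₁eq
  rw [← hT₁, ← hT₁eq] at hn₁
  by_cases hEq : T = (S : Subgroup G)
  · have hSN : (S : Subgroup G) ⊓ N = S := by
      rw [hN, hEq]
      exact inf_eq_left.mpr Subgroup.le_normalizer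
    rw [hSN] at hn₁
    exact ⟨n₁, hn₁, hn₁eq⟩
  · have hlt : Nat.card T < Nat.card ↥((S : Subgroup G) ⊓ N) := by
      rw [hN]
      exact card_lt_card_normalizer S.isPGroup' hTS hEq
    have haR : a ∈ (S : Subgroup G) ⊓ N := Subgroup.mem_inf.mpr ⟨hTS ha, hTN ha⟩
    have hbR : y⁻¹ * a * y ∈ (S : Subgroup G) ⊓ N := Subgroup.mem_inf.mpr ⟨hTS hb, hTN hb⟩
    obtain ⟨S'', hS'', n'', hn'', hn''eq⟩ := tower hp HH _ ((S : Subgroup G) ⊓ N) S inf_le_left
      (hZT.trans (le_inf hTS hTN)) rfl a (y⁻¹ * a * y) haR hbR ⟨n₁, hn₁, hn₁eq⟩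
    obtain ⟨w, hw⟩ := MulAction.exists_smul_eq G S S''
    have hS''eq : (S'' : Subgroup G) = (S : Subgroup G).map (MulAut.conj w).toMonoidHom := by
      rw [← hw]
      exact sylow_smul_coe S w
    have hP'card : m < Nat.card ↥((S : Subgroup G) ⊓ (S'' : Subgroup G)) :=
      lt_of_le_of_lt hm (lt_of_lt_of_le hlt
        (Subgroup.card_le_of_le (le_inf inf_le_left hS'')))
    have hP'conj : ((S : Subgroup G) ⊓ (S'' : Subgroup G)).map
        (MulAut.conj w⁻¹).toMonoidHom ≤ (S : Subgroup G) := by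
      intro x hx
      rw [mem_map_conj_iff, inv_inv] at hx
      have hx2 := (Subgroup.mem_inf.mp hx).2
      rw [hS''eq, mem_map_conj_iff] at hx2
      have e : w⁻¹ * (w * x * w⁻¹) * w = x := by group
      rwa [e] at hx2
    have ha' : a ∈ (S : Subgroup G) ⊓ (S'' : Subgroup G) :=
      Subgroup.mem_inf.mpr ⟨hTS ha, hS'' haR⟩
    have hb' : y⁻¹ * a * y ∈ (S : Subgroup G) ⊓ (S'' : Subgroup G) :=
      Subgroup.mem_inf.mpr ⟨hTS hb, hS'' hbR⟩
    obtain ⟨m₁, hm₁, hm₁eq⟩ := IH _ w hP'card inf_le_left hP'conj a ha'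
    obtain ⟨m₂, hm₂, hm₂eq⟩ := IH _ w hP'card inf_le_left hP'conj _ hb'
    have hm₃ : w⁻¹ * n'' * w ∈ Subgroup.normalizer
        ((Cfsg.centerThompsonAOf (S : Subgroup G) : Subgroup G) : Set G) := by
      rw [hS''eq, ← zjA_map_conj, mem_normalizer_map_conj_iff] at hn''
      exact hn''
    refine ⟨m₂⁻¹ * (w⁻¹ * n'' * w) * m₁, mul_mem (mul_mem (inv_mem hm₂) hm₃) hm₁, ?_⟩
    calc m₂⁻¹ * (w⁻¹ * n'' * w) * m₁ * a * (m₂⁻¹ * (w⁻¹ * n'' * w) * m₁)⁻¹
        = m₂⁻¹ * (w⁻¹ * n'' * w) * (m₁ * a * m₁⁻¹) * (w⁻¹ * n'' * w)⁻¹ * m₂ := by group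
      _ = m₂⁻¹ * (w⁻¹ * n'' * w) * (w⁻¹ * a * w) * (w⁻¹ * n'' * w)⁻¹ * m₂ := by rw [hm₁eq]
      _ = m₂⁻¹ * (w⁻¹ * (n'' * a * n''⁻¹) * w) * m₂ := by group
      _ = m₂⁻¹ * (w⁻¹ * (y⁻¹ * a * y) * w) * m₂ := by rw [hn''eq]
      _ = m₂⁻¹ * (m₂ * (y⁻¹ * a * y) * m₂⁻¹) * m₂ := by rw [hm₂eq]
      _ = y⁻¹ * a * y := by group

open Cfsg.Agent.Lib.Helper14 Cfsg.Agent.Lib.Helper1.AG in
theorem chain_ctl {G : Type u} [Group G] [Finite G] {p : ℕ} [Fact p.Prime] (hp : p ≠ 2)
    (S : Sylow p G)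
    (HH : ∀ (S' : Sylow p G) (P : Subgroup G),
      (S' : Subgroup G) ⊓ Subgroup.centralizer ((S' : Subgroup G) : Set G) ≤ P → P ≤ S' →
      ¬ Cfsg.Involves (Matrix.SpecialLinearGroup (Fin 2) (ZMod p))
        ↥(Subgroup.normalizer (P : Set G)))
    (m : ℕ)
    (IH : ∀ (P' : Subgroup G) (g' : G), m < Nat.card P' → P' ≤ (S : Subgroup G) →
      P'.map (MulAut.conj g'⁻¹).toMonoidHom ≤ (S : Subgroup G) →
      ∀ x ∈ P', ∃ n ∈ Subgroup.normalizer
        ((Cfsg.centerThompsonAOf (S : Subgroup G) : Subgroup G) : Set G),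
        n * x * n⁻¹ = g'⁻¹ * x * g') :
    ∀ (A : Set G) (k₀ : G), FChain (agFam p (S : Subgroup G)) A k₀ → m ≤ A.ncard →
      ∀ a ∈ A, ∃ n ∈ Subgroup.normalizer
        ((Cfsg.centerThompsonAOf (S : Subgroup G) : Subgroup G) : Set G),
        n * a * n⁻¹ = k₀⁻¹ * a * k₀ := by
  intro A k₀ h
  induction h with
  | nil A =>
    intro _ a _
    exact ⟨1, one_mem _, by group⟩
  | cons A T x g hT hx hA hrest ih =>
    intro hm a ha
    have hmT : m ≤ Nat.card T := by
      calc m ≤ A.ncard := hm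
        _ ≤ (T : Set G).ncard := Set.ncard_le_ncard hA (Set.toFinite _)
        _ = Nat.card T := (Nat.card_coe_set_eq (T : Set G)).symm
    obtain ⟨n₁, hn₁, hn₁eq⟩ := link hp S HH m IH T hT hmT x hx a (hA ha)
    have hm' : m ≤ (conjR x A).ncard := by
      rw [conjR_def, Set.ncard_image_of_injective]
      · exact hm
      · intro a b hab
        have h1 : x⁻¹ * a * x = x⁻¹ * b * x := hab
        exact mul_left_cancel (mul_right_cancel h1)
    obtain ⟨n₂, hn₂, hn₂eq⟩ := ih hm' (x⁻¹ * a * x) (mem_conjR_of_mem ha)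
    refine ⟨n₂ * n₁, mul_mem hn₂ hn₁, ?_⟩
    calc n₂ * n₁ * a * (n₂ * n₁)⁻¹ = n₂ * (n₁ * a * n₁⁻¹) * n₂⁻¹ := by group
      _ = n₂ * (x⁻¹ * a * x) * n₂⁻¹ := by rw [hn₁eq]
      _ = g⁻¹ * (x⁻¹ * a * x) * g := hn₂eq
      _ = (x * g)⁻¹ * a * (x * g) := by group

open Cfsg.Agent.Lib.Helper14 Cfsg.Agent.Lib.Helper1.AG in
theorem main_ctl {G : Type u} [Group G] [Finite G] {p : ℕ} [Fact p.Prime] (hp : p ≠ 2)
    (S : Sylow p G)
    (HH : ∀ (S' : Sylow p G) (P : Subgroup G),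
      (S' : Subgroup G) ⊓ Subgroup.centralizer ((S' : Subgroup G) : Set G) ≤ P → P ≤ S' →
      ¬ Cfsg.Involves (Matrix.SpecialLinearGroup (Fin 2) (ZMod p))
        ↥(Subgroup.normalizer (P : Set G))) :
    ∀ (k : ℕ) (P : Subgroup G) (g : G), Nat.card (S : Subgroup G) - Nat.card P = k →
      P ≤ (S : Subgroup G) → P.map (MulAut.conj g⁻¹).toMonoidHom ≤ (S : Subgroup G) →
      ∀ x ∈ P, ∃ n ∈ Subgroup.normalizer
        ((Cfsg.centerThompsonAOf (S : Subgroup G) : Subgroup G) : Set G),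
        n * x * n⁻¹ = g⁻¹ * x * g := by
  intro k
  induction k using Nat.strong_induction_on with
  | _ k ih =>
    intro P g hk hPS hPg x hx
    obtain ⟨c, hc, k₀, hchain, hg⟩ := ag_main S k P g hk hPS hPg
    have IH : ∀ (P' : Subgroup G) (g' : G), Nat.card P < Nat.card P' →
        P' ≤ (S : Subgroup G) → P'.map (MulAut.conj g'⁻¹).toMonoidHom ≤ (S : Subgroup G) →
        ∀ x ∈ P', ∃ n ∈ Subgroup.normalizer
          ((Cfsg.centerThompsonAOf (S : Subgroup G) : Subgroup G) : Set G),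
          n * x * n⁻¹ = g'⁻¹ * x * g' := by
      intro P' g' hlt hP'S hP'g
      have hle := Subgroup.card_le_of_le hP'S
      have hle2 := Subgroup.card_le_of_le hPS
      exact ih (Nat.card (S : Subgroup G) - Nat.card P') (by omega) P' g' rfl hP'S hP'g
    obtain ⟨n, hn, hneq⟩ := chain_ctl hp S HH (Nat.card P) IH (P : Set G) k₀ hchain
      (Nat.card_coe_set_eq (P : Set G)).le x hx
    refine ⟨n, hn, ?_⟩
    rw [hneq, hg]
    have hcx : x * c = c * x := Subgroup.mem_centralizer_iff.mp hc x hx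
    calc k₀⁻¹ * x * k₀ = k₀⁻¹ * (c⁻¹ * (c * x)) * k₀ := by group
      _ = k₀⁻¹ * (c⁻¹ * (x * c)) * k₀ := by rw [hcx]
      _ = (c * k₀)⁻¹ * x * (c * k₀) := by group

/-- Let p be an odd prime and S a Sylow p-subgroup of the finite group G such that, for every subgroup P with Z(S) ≤ P ≤ S, the normalizer N_G(P) has no section isomorphic to SL₂(p). Let J(S) be the subgroup generated by the abelian subgroups of S of largest order. Then two elements of S are conjugate in G if and only if they are conjugate in N_G(Z(J(S))). -/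
theorem result {G : Type*} [Group G] [Finite G] {p : ℕ} [Fact p.Prime]
    (hp : p ≠ 2) (S : Sylow p G)
    (hfree : ∀ P : Subgroup G, (S : Subgroup G) ⊓ Subgroup.centralizer ((S : Subgroup G) : Set G) ≤ P → P ≤ S →
      ¬ ∃ (H K : Subgroup G) (hK : (K.subgroupOf H).Normal), H ≤ Subgroup.normalizer (P : Set G) ∧
        Nonempty ((H ⧸ K.subgroupOf H) ≃* Matrix.SpecialLinearGroup (Fin 2) (ZMod p))) :
    ∀ x ∈ S, ∀ y ∈ S, (∃ g : G, g * x * g⁻¹ = y) ↔
      ∃ n ∈ Subgroup.normalizer (Cfsg.centerThompsonAOf (S : Subgroup G) : Set G), n * x * n⁻¹ = y := by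
  classical
  intro x hx y hy
  constructor
  · rintro ⟨g, hg⟩
    have HH := free_sylow S hfree
    have hP : Subgroup.zpowers x ≤ (S : Subgroup G) := by
      rw [Subgroup.zpowers_le]
      exact hx
    have hPg : (Subgroup.zpowers x).map (MulAut.conj (g⁻¹)⁻¹).toMonoidHom ≤
        (S : Subgroup G) := by
      rw [inv_inv, MonoidHom.map_zpowers, Subgroup.zpowers_le]
      show (MulAut.conj g) x ∈ (S : Subgroup G)
      rw [MulAut.conj_apply, hg]
      exact hy
    obtain ⟨n, hn, hneq⟩ := main_ctl hp S HH _ (Subgroup.zpowers x) g⁻¹ rfl hP hPg x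
      (Subgroup.mem_zpowers x)
    refine ⟨n, hn, ?_⟩
    rw [hneq, inv_inv, hg]
  · rintro ⟨n, -, hn⟩
    exact ⟨n, hn⟩

end Cfsg.Agent.S3071
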