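import Mathlib
import Cfsg.Statements.S0828
import Cfsg.Agent.S0766

set_option autoImplicit false
open Cfsg

namespace Cfsg.Agent.S0828

theorem card_fiber {α β : Type*} [Finite α] [Finite β] (π : α → β) (k : ℕ)
    (h : ∀ b, Nat.card {a // π a = b} = k) : Nat.card α = Nat.card β * k := by
  classical
  have := Fintype.ofFinite β
  rw [← Nat.card_congr (Equiv.sigmaFiberEquiv π), Nat.card_sigma]
  simp [h, Nat.card_eq_fintype_card]

section aux

variable {F : Type*} [Field F]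

theorem form_smul_left (m : ℕ) (c : F) (x y : Fin m ⊕ Fin m → F) :
    sympForm m F (c • x) y = c * sympForm m F x y := by
  unfold sympForm; rw [smul_dotProduct, smul_eq_mul]

theorem form_smul_right (m : ℕ) (c : F) (x y : Fin m ⊕ Fin m → F) :
    sympForm m F x (c • y) = c * sympForm m F x y := by
  unfold sympForm; rw [Matrix.mulVec_smul, dotProduct_smul, smul_eq_mul]

/-- the linear functional of pairing with `v` -/
def phi (m : ℕ) (v : Fin m ⊕ Fin m → F) : (Fin m ⊕ Fin m → F) →ₗ[F] F where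
  toFun u := sympForm m F v u
  map_add' x y := Cfsg.Agent.S0766.form_add_right m v x y
  map_smul' c x := by
    rw [form_smul_right]
    rfl

theorem phi_apply (m : ℕ) (v u : Fin m ⊕ Fin m → F) : phi m v u = sympForm m F v u := rfl

theorem finrank_ker_phi (v : Fin 2 ⊕ Fin 2 → F) (hv : v ≠ 0) :
    Module.finrank F (LinearMap.ker (phi 2 v)) = 3 := by
  obtain ⟨y, hy⟩ := Cfsg.Agent.S0766.form_nondeg 2 v hv
  have hsurj : Function.Surjective (phi 2 v) := by
    intro c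
    refine ⟨(c / sympForm 2 F v y) • y, ?_⟩
    rw [phi_apply, form_smul_right, div_mul_cancel₀ _ hy]
  have h1 := LinearMap.finrank_range_add_finrank_ker (phi 2 v)
  rw [LinearMap.range_eq_top.mpr hsurj, finrank_top, Module.finrank_self,
    Module.finrank_fintype_fun_eq_card] at h1
  simp at h1
  omega

theorem span_pair (v u : Fin 2 ⊕ Fin 2 → F) (hv : v ≠ 0) (hu : u ∉ F ∙ v) :
    Module.finrank F (Submodule.span F {v, u}) = 2 := by
  classical
  have h1 : F ∙ v < Submodule.span F {v, u} := by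
    refine lt_of_le_of_ne (Submodule.span_mono (by simp)) ?_
    intro h
    apply hu
    rw [h]
    exact Submodule.subset_span (by simp)
  have h2 := Submodule.finrank_lt_finrank_of_lt h1
  rw [finrank_span_singleton hv] at h2
  have h3 : Module.finrank F (Submodule.span F {v, u}) ≤ 2 := by
    have h := finrank_span_finset_le_card (R := F) ({v, u} : Finset (Fin 2 ⊕ Fin 2 → F))
    rw [Finset.coe_insert, Finset.coe_singleton] at h
    exact h.trans Finset.card_le_two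
  omega

theorem span_eq (W : Submodule F (Fin 2 ⊕ Fin 2 → F)) (hW : Module.finrank F W = 2)
    (v u : Fin 2 ⊕ Fin 2 → F) (hv : v ≠ 0) (hvW : v ∈ W) (huW : u ∈ W) (hu : u ∉ F ∙ v) :
    Submodule.span F {v, u} = W := by
  apply Submodule.eq_of_le_of_finrank_eq
  · rw [Submodule.span_le]
    rintro x (rfl | rfl)
    · exact hvW
    · exact huW
  · rw [span_pair v u hv hu, hW]

theorem span_ti (v u : Fin 2 ⊕ Fin 2 → F) (h : sympForm 2 F v u = 0) :
    ∀ x ∈ Submodule.span F {v, u}, ∀ y ∈ Submodule.span F {v, u}, sympForm 2 F x y = 0 := by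
  intro x hx y hy
  rw [Submodule.mem_span_pair] at hx hy
  obtain ⟨a, b, rfl⟩ := hx
  obtain ⟨c, d, rfl⟩ := hy
  have h' : sympForm 2 F u v = 0 := by
    rw [Cfsg.Agent.S0766.form_swap, h, neg_zero]
  simp only [Cfsg.Agent.S0766.form_add_left, Cfsg.Agent.S0766.form_add_right, form_smul_left,
    form_smul_right, Cfsg.Agent.S0766.form_self, h, h']
  ring

end aux

section counting

variable {F : Type*} [Field F] [Fintype F]

theorem card_diff (S T : Submodule F (Fin 2 ⊕ Fin 2 → F)) (hST : S ≤ T) :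
    Nat.card {u : Fin 2 ⊕ Fin 2 → F // u ∈ T ∧ u ∉ S}
      = Fintype.card F ^ Module.finrank F T - Fintype.card F ^ Module.finrank F S := by
  have h1 : Nat.card {u : Fin 2 ⊕ Fin 2 → F // u ∈ T ∧ u ∉ S}
      = ((T : Set (Fin 2 ⊕ Fin 2 → F)) \ (S : Set (Fin 2 ⊕ Fin 2 → F))).ncard :=
    Nat.card_coe_set_eq _
  have h2 : Nat.card T = (T : Set (Fin 2 ⊕ Fin 2 → F)).ncard := Nat.card_coe_set_eq _
  have h3 : Nat.card S = (S : Set (Fin 2 ⊕ Fin 2 → F)).ncard := Nat.card_coe_set_eq _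
  rw [h1, Set.ncard_sdiff (show (S : Set (Fin 2 ⊕ Fin 2 → F)) ⊆ T from hST), ← h2, ← h3,
    Module.natCard_eq_pow_finrank (K := F) (V := T),
    Module.natCard_eq_pow_finrank (K := F) (V := S), Nat.card_eq_fintype_card]

theorem card_through {q : ℕ} (hF : Fintype.card F = q) (v : Fin 2 ⊕ Fin 2 → F) (hv : v ≠ 0) :
    Nat.card {W : Submodule F (Fin 2 ⊕ Fin 2 → F) // Module.finrank F W = 2 ∧ v ∈ W ∧
      ∀ u ∈ W, ∀ w ∈ W, Cfsg.sympForm 2 F u w = 0} = q + 1 := by
  classical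
  have hq : 2 ≤ q := by
    rw [← hF]
    exact Fintype.one_lt_card
  have hvv : F ∙ v ≤ LinearMap.ker (phi 2 v) := by
    rw [Submodule.span_singleton_le_iff_mem, LinearMap.mem_ker, phi_apply]
    exact Cfsg.Agent.S0766.form_self 2 v
  have hA : Nat.card {u : Fin 2 ⊕ Fin 2 → F // sympForm 2 F v u = 0 ∧ u ∉ F ∙ v} = q ^ 3 - q := by
    have h1 := card_diff (F ∙ v) (LinearMap.ker (phi 2 v)) hvv
    rw [finrank_ker_phi v hv, finrank_span_singleton hv, hF, pow_one] at h1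
    rw [← h1]
    exact Nat.card_congr (Equiv.subtypeEquivRight (fun u => by rw [LinearMap.mem_ker, phi_apply]))
  have hfib := card_fiber
    (α := {u : Fin 2 ⊕ Fin 2 → F // sympForm 2 F v u = 0 ∧ u ∉ F ∙ v})
    (β := {W : Submodule F (Fin 2 ⊕ Fin 2 → F) // Module.finrank F W = 2 ∧ v ∈ W ∧
      ∀ u ∈ W, ∀ w ∈ W, Cfsg.sympForm 2 F u w = 0})
    (fun u => ⟨Submodule.span F {v, u.1}, span_pair v u.1 hv u.2.2,
      Submodule.subset_span (by simp), span_ti v u.1 u.2.1⟩) (q ^ 2 - q) (by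
    intro W
    have h1 := card_diff (F ∙ v) W.1 ((Submodule.span_singleton_le_iff_mem _ _).mpr W.2.2.1)
    rw [W.2.1, finrank_span_singleton hv, hF, pow_one] at h1
    rw [← h1]
    refine Nat.card_congr
      { toFun := fun a => ⟨a.1.1, by
          have h := congrArg Subtype.val a.2
          have h' : a.1.1 ∈ Submodule.span F {v, a.1.1} := Submodule.subset_span (by simp)
          rw [← show Submodule.span F {v, a.1.1} = W.1 from h]
          exact h', a.1.2.2⟩
        invFun := fun u => ⟨⟨u.1, W.2.2.2 v W.2.2.1 u.1 u.2.1, u.2.2⟩,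
          Subtype.ext (span_eq W.1 W.2.1 v u.1 hv W.2.2.1 u.2.1 u.2.2)⟩
        left_inv := fun a => Subtype.ext (Subtype.ext rfl)
        right_inv := fun u => Subtype.ext rfl })
  rw [hA] at hfib
  obtain ⟨k, rfl⟩ : ∃ k, q = k + 2 := ⟨q - 2, by omega⟩
  have e1 : (k + 2) ^ 3 - (k + 2) = (k + 2 + 1) * ((k + 2) * (k + 1)) :=
    Nat.sub_eq_of_eq_add (by ring)
  have e2 : (k + 2) ^ 2 - (k + 2) = (k + 2) * (k + 1) := Nat.sub_eq_of_eq_add (by ring)
  rw [e1, e2] at hfib
  exact (Nat.eq_of_mul_eq_mul_right (by positivity) hfib).symm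

end counting

/-- The symplectic generalised quadrangle over a field with q elements: the number of 2-dimensional subspaces of F^4 on which the symplectic form vanishes is (q + 1)(q² + 1), and every non-zero vector lies in exactly q + 1 of them. -/
theorem result {F : Type*} [Field F] [Fintype F] {q : ℕ} (hF : Fintype.card F = q) : Nat.card {W : Submodule F (Fin 2 ⊕ Fin 2 → F) // Module.finrank F W = 2 ∧ ∀ u ∈ W, ∀ v ∈ W, Cfsg.sympForm 2 F u v = 0} = (q + 1) * (q ^ 2 + 1) ∧ ∀ v : Fin 2 ⊕ Fin 2 → F, v ≠ 0 → Nat.card {W : Submodule F (Fin 2 ⊕ Fin 2 → F) // Module.finrank F W = 2 ∧ v ∈ W ∧ ∀ u ∈ W, ∀ w ∈ W, Cfsg.sympForm 2 F u w = 0} = q + 1 := by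
  classical
  refine ⟨?_, fun v hv => card_through hF v hv⟩
  have hq : 2 ≤ q := by
    rw [← hF]
    exact Fintype.one_lt_card
  obtain ⟨P, hP⟩ : ∃ P : Type _, P = {p : {W : Submodule F (Fin 2 ⊕ Fin 2 → F) //
      Module.finrank F W = 2 ∧ ∀ u ∈ W, ∀ v ∈ W, Cfsg.sympForm 2 F u v = 0} ×
        (Fin 2 ⊕ Fin 2 → F) // p.2 ∈ p.1.1 ∧ p.2 ≠ 0} := ⟨_, rfl⟩
  subst hP
  have h1 := card_fiber
    (α := {p : {W : Submodule F (Fin 2 ⊕ Fin 2 → F) //
      Module.finrank F W = 2 ∧ ∀ u ∈ W, ∀ v ∈ W, Cfsg.sympForm 2 F u v = 0} ×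
        (Fin 2 ⊕ Fin 2 → F) // p.2 ∈ p.1.1 ∧ p.2 ≠ 0})
    (β := {W : Submodule F (Fin 2 ⊕ Fin 2 → F) //
      Module.finrank F W = 2 ∧ ∀ u ∈ W, ∀ v ∈ W, Cfsg.sympForm 2 F u v = 0})
    (fun p => p.1.1) (q ^ 2 - 1) (by
    intro W
    have h := card_diff (⊥ : Submodule F (Fin 2 ⊕ Fin 2 → F)) W.1 bot_le
    rw [W.2.1, finrank_bot, hF, pow_zero] at h
    rw [← h]
    refine Nat.card_congr
      { toFun := fun p => ⟨p.1.1.2, by
          have h := p.1.2.1
          rw [p.2] at h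
          exact h, by
          rw [Submodule.mem_bot]
          exact p.1.2.2⟩
        invFun := fun v => ⟨⟨(W, v.1), v.2.1, by
          have h := v.2.2
          rw [Submodule.mem_bot] at h
          exact h⟩, rfl⟩
        left_inv := by
          rintro ⟨⟨⟨W', v⟩, h⟩, rfl⟩
          rfl
        right_inv := fun v => rfl })
  have h2 := card_fiber
    (α := {p : {W : Submodule F (Fin 2 ⊕ Fin 2 → F) //
      Module.finrank F W = 2 ∧ ∀ u ∈ W, ∀ v ∈ W, Cfsg.sympForm 2 F u v = 0} ×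
        (Fin 2 ⊕ Fin 2 → F) // p.2 ∈ p.1.1 ∧ p.2 ≠ 0})
    (β := {v : Fin 2 ⊕ Fin 2 → F // v ≠ 0})
    (fun p => ⟨p.1.2, p.2.2⟩) (q + 1) (by
    intro v
    rw [← card_through hF v.1 v.2]
    refine Nat.card_congr
      { toFun := fun p => ⟨p.1.1.1.1, p.1.1.1.2.1, by
          have h := p.1.2.1
          have h' : p.1.1.2 = v.1 := congrArg Subtype.val p.2
          rw [h'] at h
          exact h, p.1.1.1.2.2⟩
        invFun := fun W => ⟨⟨(⟨W.1, W.2.1, W.2.2.2⟩, v.1), W.2.2.1, v.2⟩, rfl⟩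
        left_inv := by
          rintro ⟨⟨⟨W', v'⟩, h⟩, rfl⟩
          rfl
        right_inv := fun W => rfl })
  have h3 : Nat.card {v : Fin 2 ⊕ Fin 2 → F // v ≠ 0} = q ^ 4 - 1 := by
    have h := card_diff (⊥ : Submodule F (Fin 2 ⊕ Fin 2 → F)) ⊤ bot_le
    rw [finrank_top, finrank_bot, hF, pow_zero, Module.finrank_fintype_fun_eq_card] at h
    have hc : Fintype.card (Fin 2 ⊕ Fin 2) = 4 := by simp
    rw [hc] at h
    rw [← h]
    exact Nat.card_congr (Equiv.subtypeEquivRight (fun u => by simp))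
  rw [h3] at h2
  rw [h2] at h1
  obtain ⟨k, rfl⟩ : ∃ k, q = k + 2 := ⟨q - 2, by omega⟩
  have e1 : (k + 2) ^ 4 - 1 = ((k + 2) ^ 2 + 1) * ((k + 3) * (k + 1)) :=
    Nat.sub_eq_of_eq_add (by ring)
  have e2 : (k + 2) ^ 2 - 1 = (k + 3) * (k + 1) := Nat.sub_eq_of_eq_add (by ring)
  rw [e1, e2] at h1
  have h4 : (k + 2 + 1) * ((k + 2) ^ 2 + 1) * ((k + 3) * (k + 1))
      = Nat.card {W : Submodule F (Fin 2 ⊕ Fin 2 → F) //
      Module.finrank F W = 2 ∧ ∀ u ∈ W, ∀ v ∈ W, Cfsg.sympForm 2 F u v = 0}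
        * ((k + 3) * (k + 1)) := by
    rw [← h1]
    ring
  exact (Nat.eq_of_mul_eq_mul_right (by positivity) h4).symm

end Cfsg.Agent.S0828
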