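import Mathlib
import Cfsg.Statements.S0829
import Cfsg.Agent.S0751
import Cfsg.Agent.S0754
import Cfsg.Agent.S0779
import Cfsg.Agent.S0837
import Cfsg.Agent.S0828

set_option autoImplicit false
open Cfsg

namespace Cfsg.Agent.S0829

open Cfsg.Agent.S0837 (hf Bh Bh_apply Bh_symm Bh_nondeg herm_eq)
open Cfsg.Agent.S0828 (card_fiber)

theorem card_fiber_sum {α β : Type*} [Finite α] [Fintype β] (π : α → β) :
    Nat.card α = ∑ b, Nat.card {a // π a = b} := by
  rw [← Nat.card_congr (Equiv.sigmaFiberEquiv π), Nat.card_sigma]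

theorem span_pair' {K V : Type*} [Field K] [AddCommGroup V] [Module K V] [FiniteDimensional K V]
    (v u : V) (hv : v ≠ 0) (hu : u ∉ K ∙ v) :
    Module.finrank K (Submodule.span K {v, u}) = 2 := by
  classical
  have h1 : K ∙ v < Submodule.span K {v, u} := by
    refine lt_of_le_of_ne (Submodule.span_mono (by simp)) ?_
    intro h
    apply hu
    rw [h]
    exact Submodule.subset_span (by simp)
  have h2 := Submodule.finrank_lt_finrank_of_lt h1
  rw [finrank_span_singleton hv] at h2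
  have h3 : Module.finrank K (Submodule.span K {v, u}) ≤ 2 := by
    have h := finrank_span_finset_le_card (R := K) ({v, u} : Finset V)
    rw [Finset.coe_insert, Finset.coe_singleton] at h
    exact h.trans Finset.card_le_two
  omega

theorem span_eq' {K V : Type*} [Field K] [AddCommGroup V] [Module K V] [FiniteDimensional K V]
    (W : Submodule K V) (hW : Module.finrank K W = 2)
    (v u : V) (hv : v ≠ 0) (hvW : v ∈ W) (huW : u ∈ W) (hu : u ∉ K ∙ v) :
    Submodule.span K {v, u} = W := by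
  apply Submodule.eq_of_le_of_finrank_eq
  · rw [Submodule.span_le]
    rintro x (rfl | rfl)
    · exact hvW
    · exact huW
  · rw [span_pair' v u hv hu, hW]

section form

variable {F : Type*} [Field F] (φ : F →+* F) {q : ℕ}

theorem herm_Bh (hφq : ∀ a : F, φ a = a ^ q) (n : ℕ) (u v : Fin n → F) :
    Cfsg.hermForm n F q u v = Bh φ n v u := by
  rw [herm_eq φ hφq, Bh_apply]

theorem herm_succ (n : ℕ) (u v : Fin (n + 1) → F) :
    Cfsg.hermForm (n + 1) F q u v
      = u 0 * (v 0) ^ q + Cfsg.hermForm n F q (Fin.tail u) (Fin.tail v) := by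
  unfold Cfsg.hermForm
  rw [Fin.sum_univ_succ]
  rfl

theorem herm_zero_right (hq : q ≠ 0) (n : ℕ) (u : Fin n → F) :
    Cfsg.hermForm n F q u 0 = 0 := by
  unfold Cfsg.hermForm
  simp [zero_pow hq]

theorem herm_swap (hφq : ∀ a : F, φ a = a ^ q) (hφ2 : ∀ a : F, φ (φ a) = a) (n : ℕ)
    (u v : Fin n → F) (h : Cfsg.hermForm n F q u v = 0) : Cfsg.hermForm n F q v u = 0 := by
  rw [herm_Bh φ hφq] at h ⊢
  rw [← (Bh_symm φ hφ2 n).eq v u, h, map_zero]

theorem herm_span_pair (hφq : ∀ a : F, φ a = a ^ q) (hφ2 : ∀ a : F, φ (φ a) = a) (n : ℕ)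
    (v u : Fin n → F) (hvv : Cfsg.hermForm n F q v v = 0) (huu : Cfsg.hermForm n F q u u = 0)
    (huv : Cfsg.hermForm n F q u v = 0) :
    ∀ x ∈ Submodule.span F {v, u}, ∀ y ∈ Submodule.span F {v, u},
      Cfsg.hermForm n F q x y = 0 := by
  intro x hx y hy
  rw [Submodule.mem_span_pair] at hx hy
  obtain ⟨a, b, rfl⟩ := hx
  obtain ⟨c, d, rfl⟩ := hy
  have hvu := herm_swap φ hφq hφ2 n u v huv
  rw [herm_Bh φ hφq] at hvv huu huv hvu ⊢
  simp only [map_add, map_smulₛₗ, LinearMap.add_apply, LinearMap.smul_apply, hvv, huu,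
    huv, hvu, smul_zero, add_zero]

theorem herm_span_single (hφq : ∀ a : F, φ a = a ^ q) (n : ℕ)
    (v : Fin n → F) (hvv : Cfsg.hermForm n F q v v = 0) :
    ∀ x ∈ Submodule.span F {v}, ∀ y ∈ Submodule.span F {v},
      Cfsg.hermForm n F q x y = 0 := by
  intro x hx y hy
  obtain ⟨a, rfl⟩ := Submodule.mem_span_singleton.mp hx
  obtain ⟨c, rfl⟩ := Submodule.mem_span_singleton.mp hy
  rw [herm_Bh φ hφq] at hvv ⊢
  simp only [map_smulₛₗ, LinearMap.smul_apply, hvv, smul_zero]

theorem herm_self_pow (hφq : ∀ a : F, φ a = a ^ q) (hφ2 : ∀ a : F, φ (φ a) = a) (n : ℕ)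
    (w : Fin n → F) : (Cfsg.hermForm n F q w w) ^ q = Cfsg.hermForm n F q w w := by
  unfold Cfsg.hermForm
  rw [← hφq, map_sum]
  refine Finset.sum_congr rfl (fun i _ => ?_)
  rw [← hφq (w i), map_mul, hφ2, mul_comm]

end form

section count

variable {F : Type*} [Field F] [Fintype F] {q : ℕ}

theorem two_le_q (hF : Fintype.card F = q ^ 2) : 2 ≤ q := by
  by_contra hlt
  have h1 : q = 0 ∨ q = 1 := by omega
  have h2 := Fintype.one_lt_card (α := F)
  rcases h1 with h1 | h1 <;> rw [hF, h1] at h2 <;> omega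

theorem phi_ne_id (hF : Fintype.card F = q ^ 2) (φ : F →+* F) (hφq : ∀ a : F, φ a = a ^ q) :
    φ ≠ RingHom.id F := by
  classical
  have hq2 := two_le_q hF
  intro hid
  have h1 : ∀ a : F, a ^ q = a := by
    intro a
    rw [← hφq, hid, RingHom.id_apply]
  have h2 : (Polynomial.X ^ q - Polynomial.X : Polynomial F) ≠ 0 :=
    FiniteField.X_pow_card_sub_X_ne_zero F (by omega)
  have h3 : Fintype.card F ≤ (Polynomial.X ^ q - Polynomial.X : Polynomial F).natDegree := by
    have h4 := Polynomial.card_roots' (Polynomial.X ^ q - Polynomial.X : Polynomial F)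
    have h5 : (Polynomial.X ^ q - Polynomial.X : Polynomial F).roots.toFinset = Finset.univ := by
      ext a
      simp [h2, h1]
    have h6 : Fintype.card F ≤ Multiset.card
        (Polynomial.X ^ q - Polynomial.X : Polynomial F).roots := by
      rw [← Finset.card_univ, ← h5]
      exact Multiset.toFinset_card_le _
    exact h6.trans h4
  rw [FiniteField.X_pow_card_sub_X_natDegree_eq F (by omega), hF] at h3
  nlinarith

theorem fib_count [DecidableEq F] (hF : Fintype.card F = q ^ 2) (μ : F) (hμq : μ ^ q = μ) :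
    Nat.card {x : F // x ^ (q + 1) = μ} = if μ = 0 then 1 else q + 1 := by
  split_ifs with h
  · subst h
    rw [Nat.card_eq_one_iff_unique]
    refine ⟨⟨fun a b => Subtype.ext ?_⟩, ⟨⟨0, by simp⟩⟩⟩
    have ha : a.1 = 0 := (pow_eq_zero_iff (Nat.succ_ne_zero q)).mp a.2
    have hb : b.1 = 0 := (pow_eq_zero_iff (Nat.succ_ne_zero q)).mp b.2
    rw [ha, hb]
  · exact Cfsg.Agent.S0754.result hF μ h hμq

theorem a_zero : Nat.card {v : Fin 0 → F // Cfsg.hermForm 0 F q v v = 0} = 1 := by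
  rw [Nat.card_eq_one_iff_unique]
  exact ⟨⟨fun a b => Subtype.ext (Subsingleton.elim _ _)⟩, ⟨⟨0, by simp [Cfsg.hermForm]⟩⟩⟩

theorem a_succ (hF : Fintype.card F = q ^ 2) (φ : F →+* F) (hφq : ∀ a : F, φ a = a ^ q)
    (hφ2 : ∀ a : F, φ (φ a) = a) (n : ℕ) :
    Nat.card {v : Fin (n + 1) → F // Cfsg.hermForm (n + 1) F q v v = 0}
      + q * Nat.card {v : Fin n → F // Cfsg.hermForm n F q v v = 0} = (q + 1) * (q ^ 2) ^ n := by
  classical
  have hfib : ∀ w : Fin n → F,
      Nat.card {v : {v : Fin (n + 1) → F // Cfsg.hermForm (n + 1) F q v v = 0} //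
        Fin.tail v.1 = w} = if Cfsg.hermForm n F q w w = 0 then 1 else q + 1 := by
    intro w
    have hμ : (- Cfsg.hermForm n F q w w) ^ q = - Cfsg.hermForm n F q w w := by
      rw [← hφq, map_neg, hφq, herm_self_pow φ hφq hφ2]
    have h1 := fib_count hF (- Cfsg.hermForm n F q w w) hμ
    rw [neg_eq_zero] at h1
    rw [← h1]
    refine Nat.card_congr
      { toFun := fun v => ⟨v.1.1 0, by
          have h := v.1.2
          rw [herm_succ, v.2] at h
          rw [pow_succ, mul_comm]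
          exact eq_neg_of_add_eq_zero_left h⟩
        invFun := fun x => ⟨⟨Fin.cons x.1 w, by
          rw [herm_succ, Fin.cons_zero, Fin.tail_cons]
          have h := x.2
          rw [pow_succ, mul_comm] at h
          rw [h, neg_add_cancel]⟩, Fin.tail_cons _ _⟩
        left_inv := by
          rintro ⟨⟨v, hv⟩, rfl⟩
          exact Subtype.ext (Subtype.ext (Fin.cons_self_tail v))
        right_inv := fun x => Subtype.ext (by
          change (Fin.cons x.1 w : Fin (n + 1) → F) 0 = x.1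
          rw [Fin.cons_zero]) }
  rw [card_fiber_sum (fun v : {v : Fin (n + 1) → F // Cfsg.hermForm (n + 1) F q v v = 0} =>
    Fin.tail v.1)]
  simp only [hfib]
  rw [Nat.card_eq_fintype_card, Fintype.card_subtype, Finset.card_filter, Finset.mul_sum,
    ← Finset.sum_add_distrib]
  have hterm : ∀ w : Fin n → F, ((if Cfsg.hermForm n F q w w = 0 then 1 else q + 1)
      + q * (if Cfsg.hermForm n F q w w = 0 then 1 else 0)) = q + 1 := by
    intro w
    split_ifs <;> ring
  simp only [hterm]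
  rw [Finset.sum_const, Finset.card_univ, smul_eq_mul, Fintype.card_fun, hF, Fintype.card_fin,
    mul_comm]

end count

section witt

variable {F : Type*} [Field F] [Fintype F] {q : ℕ}

theorem exists_isometry (hF : Fintype.card F = q ^ 2) (φ : F →+* F)
    (hφq : ∀ a : F, φ a = a ^ q) (hφ2 : ∀ a : F, φ (φ a) = a) (n : ℕ) (v v0 : Fin n → F)
    (hv : v ≠ 0) (hv0 : v0 ≠ 0) (hvv : Cfsg.hermForm n F q v v = 0)
    (hv0v0 : Cfsg.hermForm n F q v0 v0 = 0) :
    ∃ g : (Fin n → F) ≃ₗ[F] (Fin n → F),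
      (∀ x y, Cfsg.hermForm n F q (g x) (g y) = Cfsg.hermForm n F q x y) ∧ g v = v0 := by
  obtain ⟨i, hi⟩ : ∃ i, v i ≠ 0 := by
    by_contra h
    push Not at h
    exact hv (funext h)
  obtain ⟨f, hf⟩ : ∃ f : (Fin n → F) →ₗ[F] (Fin n → F), ∀ x, f x = (x i * (v i)⁻¹) • v0 :=
    ⟨((v i)⁻¹ • LinearMap.proj i).smulRight v0, fun x => by
      simp [mul_comm]⟩
  have hfv : ∀ a : F, f (a • v) = a • v0 := by
    intro a
    rw [hf, Pi.smul_apply, smul_eq_mul, mul_assoc, mul_inv_cancel₀ hi, mul_one]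
  obtain ⟨g, hg1, hg2⟩ := Cfsg.Agent.S0751.extend_aux φ (phi_ne_id hF φ hφq) hφ2 (Bh φ n)
    (Bh_symm φ hφ2 n) (Bh_nondeg φ hφ2 n) (Module.finrank F (Fin n → F)) (F ∙ v) f
    (Nat.le_add_left _ _)
    (by
      intro x hx x' hx'
      obtain ⟨a, rfl⟩ := Submodule.mem_span_singleton.mp hx
      obtain ⟨b, rfl⟩ := Submodule.mem_span_singleton.mp hx'
      rw [hfv, hfv]
      rw [herm_Bh φ hφq] at hvv hv0v0
      simp only [map_smulₛₗ, LinearMap.smul_apply, hvv, hv0v0, smul_zero])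
    (by
      intro x hx h0
      obtain ⟨a, rfl⟩ := Submodule.mem_span_singleton.mp hx
      rw [hfv] at h0
      rcases smul_eq_zero.mp h0 with h | h
      · rw [h, zero_smul]
      · exact absurd h hv0)
  refine ⟨g, fun x y => ?_, ?_⟩
  · rw [herm_Bh φ hφq, herm_Bh φ hφq, hg1]
  · have h1 := hg2 v (Submodule.mem_span_singleton_self v)
    have h2 := hfv 1
    rw [one_smul, one_smul] at h2
    rw [h1, h2]

/-- the standard isotropic vector -/
def v0 (k : ℕ) (ζ : F) : Fin (k + 2) → F :=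
  (Fin.cons (1 : F) (Fin.cons ζ (0 : Fin k → F) : Fin (k + 1) → F) : Fin (k + 2) → F)

theorem herm_v0 (hq : q ≠ 0) (k : ℕ) (ζ : F) (u : Fin (k + 2) → F) :
    Cfsg.hermForm (k + 2) F q u (v0 k ζ) = u 0 + u 1 * ζ ^ q := by
  rw [herm_succ, herm_succ]
  unfold v0
  rw [Fin.cons_zero, Fin.tail_cons, Fin.cons_zero, Fin.tail_cons, herm_zero_right hq, one_pow,
    mul_one, add_zero]
  rfl

theorem herm_self2 (k : ℕ) (u : Fin (k + 2) → F) :
    Cfsg.hermForm (k + 2) F q u u = u 0 * (u 0) ^ q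
      + (u 1 * (u 1) ^ q
        + Cfsg.hermForm k F q (Fin.tail (Fin.tail u)) (Fin.tail (Fin.tail u))) := by
  rw [herm_succ, herm_succ]
  rfl

theorem norm_neg (ζ : F) (hζ : ζ ^ (q + 1) = -1) (x : F) :
    (-(ζ ^ q) * x) * (-(ζ ^ q) * x) ^ q = -(x * x ^ q) := by
  have h1 : ((-1 : F)) ^ (q + 1) * (-1) ^ q = -1 := by
    rw [← pow_add]
    exact Odd.neg_one_pow ⟨q, by ring⟩
  calc (-(ζ ^ q) * x) * (-(ζ ^ q) * x) ^ q = (-(ζ ^ q) * x) ^ (q + 1) := (pow_succ' _ _).symm
    _ = ((-1) ^ (q + 1) * (-1) ^ q) * x ^ (q + 1) := by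
      rw [mul_pow, neg_pow, ← pow_mul, mul_comm q (q + 1), pow_mul, hζ]
    _ = -(x * x ^ q) := by
      rw [h1, pow_succ']
      ring

theorem perp_count_std (hq : q ≠ 0) (k : ℕ) (ζ : F) (hζ : ζ ^ (q + 1) = -1) :
    Nat.card {u : Fin (k + 2) → F // Cfsg.hermForm (k + 2) F q u (v0 k ζ) = 0 ∧
        Cfsg.hermForm (k + 2) F q u u = 0}
      = Nat.card F * Nat.card {w : Fin k → F // Cfsg.hermForm k F q w w = 0} := by
  rw [← Nat.card_prod]
  refine Nat.card_congr
    { toFun := fun u => (u.1 1, ⟨Fin.tail (Fin.tail u.1), by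
          have h1 := u.2.1
          have h2 := u.2.2
          rw [herm_v0 hq] at h1
          rw [herm_self2] at h2
          have e : u.1 0 = -(ζ ^ q) * u.1 1 := by linear_combination h1
          rw [e, norm_neg ζ hζ] at h2
          linear_combination h2⟩)
      invFun := fun p => ⟨(Fin.cons (-(ζ ^ q) * p.1) (Fin.cons p.1 p.2.1 : Fin (k + 1) → F) :
          Fin (k + 2) → F), by
          rw [herm_v0 hq, Fin.cons_zero, Fin.cons_one, Fin.cons_zero]
          ring, by
          rw [herm_self2, Fin.cons_zero, Fin.cons_one, Fin.cons_zero, Fin.tail_cons,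
            Fin.tail_cons, norm_neg ζ hζ, p.2.2]
          ring⟩
      left_inv := by
        rintro ⟨u, h1, h2⟩
        apply Subtype.ext
        rw [herm_v0 hq] at h1
        have e : u 0 = -(ζ ^ q) * u 1 := by linear_combination h1
        funext i
        refine Fin.cases ?_ (fun j => ?_) i
        · change (Fin.cons (-(ζ ^ q) * u 1) (Fin.cons (u 1) (Fin.tail (Fin.tail u)) :
            Fin (k + 1) → F) : Fin (k + 2) → F) 0 = u 0
          rw [Fin.cons_zero, e]
        · change (Fin.cons (-(ζ ^ q) * u 1) (Fin.cons (u 1) (Fin.tail (Fin.tail u)) :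
            Fin (k + 1) → F) : Fin (k + 2) → F) j.succ = u j.succ
          rw [Fin.cons_succ]
          refine Fin.cases ?_ (fun l => ?_) j
          · rw [Fin.cons_zero]
            rfl
          · rw [Fin.cons_succ]
            rfl
      right_inv := by
        rintro ⟨x, w, hw⟩
        refine Prod.ext ?_ (Subtype.ext ?_)
        · change (Fin.cons (-(ζ ^ q) * x) (Fin.cons x w : Fin (k + 1) → F) :
            Fin (k + 2) → F) 1 = x
          rw [Fin.cons_one, Fin.cons_zero]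
        · change Fin.tail (Fin.tail (Fin.cons (-(ζ ^ q) * x) (Fin.cons x w : Fin (k + 1) → F) :
            Fin (k + 2) → F)) = w
          rw [Fin.tail_cons, Fin.tail_cons] }

theorem perp_count (hF : Fintype.card F = q ^ 2) (φ : F →+* F)
    (hφq : ∀ a : F, φ a = a ^ q) (hφ2 : ∀ a : F, φ (φ a) = a) (k : ℕ) (v : Fin (k + 2) → F)
    (hv : v ≠ 0) (hvv : Cfsg.hermForm (k + 2) F q v v = 0) :
    Nat.card {u : Fin (k + 2) → F // Cfsg.hermForm (k + 2) F q u v = 0 ∧
        Cfsg.hermForm (k + 2) F q u u = 0}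
      = q ^ 2 * Nat.card {w : Fin k → F // Cfsg.hermForm k F q w w = 0} := by
  have hq2 := two_le_q hF
  have hq : q ≠ 0 := by omega
  obtain ⟨ζ, hζ⟩ : ∃ ζ : F, ζ ^ (q + 1) = -1 := by
    have h := Cfsg.Agent.S0754.result hF (-1) (neg_ne_zero.mpr one_ne_zero)
      (by rw [← hφq, map_neg, map_one])
    have hne : Nonempty {x : F // x ^ (q + 1) = -1} := by
      by_contra hcon
      rw [not_nonempty_iff] at hcon
      rw [Nat.card_of_isEmpty] at h
      omega
    exact ⟨hne.some.1, hne.some.2⟩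
  have hv0 : v0 k ζ ≠ 0 := by
    intro h
    have h1 := congrFun h 0
    unfold v0 at h1
    rw [Fin.cons_zero] at h1
    exact one_ne_zero h1
  have hv0v0 : Cfsg.hermForm (k + 2) F q (v0 k ζ) (v0 k ζ) = 0 := by
    rw [herm_v0 hq]
    unfold v0
    rw [Fin.cons_zero, Fin.cons_one, Fin.cons_zero, ← pow_succ', hζ]
    ring
  obtain ⟨g, hg1, hg2⟩ := exists_isometry hF φ hφq hφ2 (k + 2) v (v0 k ζ) hv hv0 hvv hv0v0
  have hc : Nat.card F = q ^ 2 := by rw [Nat.card_eq_fintype_card, hF]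
  rw [← hc, ← perp_count_std hq k ζ hζ]
  exact Nat.card_congr (Equiv.subtypeEquiv g.toEquiv (fun u => by
    change _ ↔ (Cfsg.hermForm (k + 2) F q (g u) (v0 k ζ) = 0 ∧
      Cfsg.hermForm (k + 2) F q (g u) (g u) = 0)
    rw [← hg2, hg1, hg1]))

end witt

section lines

variable {F : Type*} [Field F] [Fintype F] {q : ℕ}

theorem card_diff' (n : ℕ) (S T : Submodule F (Fin n → F)) (hST : S ≤ T) :
    Nat.card {u : Fin n → F // u ∈ T ∧ u ∉ S}
      = Fintype.card F ^ Module.finrank F T - Fintype.card F ^ Module.finrank F S := by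
  have h1 : Nat.card {u : Fin n → F // u ∈ T ∧ u ∉ S}
      = ((T : Set (Fin n → F)) \ (S : Set (Fin n → F))).ncard :=
    Nat.card_coe_set_eq _
  have h2 : Nat.card T = (T : Set (Fin n → F)).ncard := Nat.card_coe_set_eq _
  have h3 : Nat.card S = (S : Set (Fin n → F)).ncard := Nat.card_coe_set_eq _
  rw [h1, Set.ncard_sdiff (show (S : Set (Fin n → F)) ⊆ T from hST), ← h2, ← h3,
    Module.natCard_eq_pow_finrank (K := F) (V := T),
    Module.natCard_eq_pow_finrank (K := F) (V := S), Nat.card_eq_fintype_card]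

theorem lines_through (hF : Fintype.card F = q ^ 2) (φ : F →+* F)
    (hφq : ∀ a : F, φ a = a ^ q) (hφ2 : ∀ a : F, φ (φ a) = a) (n : ℕ) (v : Fin n → F)
    (hv : v ≠ 0) (hvv : Cfsg.hermForm n F q v v = 0) :
    Nat.card {W : Submodule F (Fin n → F) // Module.finrank F W = 2 ∧ v ∈ W ∧
        ∀ u ∈ W, ∀ w ∈ W, Cfsg.hermForm n F q u w = 0} * (q ^ 4 - q ^ 2) + q ^ 2
      = Nat.card {u : Fin n → F // Cfsg.hermForm n F q u v = 0 ∧
          Cfsg.hermForm n F q u u = 0} := by
  classical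
  have hSC : ((F ∙ v : Submodule F (Fin n → F)) : Set (Fin n → F))
      ⊆ {u : Fin n → F | Cfsg.hermForm n F q u v = 0 ∧ Cfsg.hermForm n F q u u = 0} := by
    intro u hu
    exact ⟨herm_span_single φ hφq n v hvv u hu v (Submodule.mem_span_singleton_self v),
      herm_span_single φ hφq n v hvv u hu u hu⟩
  have hA : Nat.card {u : Fin n → F // (Cfsg.hermForm n F q u v = 0 ∧
        Cfsg.hermForm n F q u u = 0) ∧ u ∉ F ∙ v} + q ^ 2
      = Nat.card {u : Fin n → F // Cfsg.hermForm n F q u v = 0 ∧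
          Cfsg.hermForm n F q u u = 0} := by
    have e1 : Nat.card {u : Fin n → F // (Cfsg.hermForm n F q u v = 0 ∧
        Cfsg.hermForm n F q u u = 0) ∧ u ∉ F ∙ v}
        = ({u : Fin n → F | Cfsg.hermForm n F q u v = 0 ∧ Cfsg.hermForm n F q u u = 0} \
          ((F ∙ v : Submodule F (Fin n → F)) : Set (Fin n → F))).ncard := Nat.card_coe_set_eq _
    have e2 : Nat.card {u : Fin n → F // Cfsg.hermForm n F q u v = 0 ∧
          Cfsg.hermForm n F q u u = 0}
        = ({u : Fin n → F | Cfsg.hermForm n F q u v = 0 ∧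
          Cfsg.hermForm n F q u u = 0}).ncard := Nat.card_coe_set_eq _
    have e3 : Nat.card (F ∙ v : Submodule F (Fin n → F))
        = ((F ∙ v : Submodule F (Fin n → F)) : Set (Fin n → F)).ncard := Nat.card_coe_set_eq _
    have e4 : Nat.card (F ∙ v : Submodule F (Fin n → F)) = q ^ 2 := by
      rw [Module.natCard_eq_pow_finrank (K := F) (V := (F ∙ v : Submodule F (Fin n → F))),
        finrank_span_singleton hv, pow_one, Nat.card_eq_fintype_card, hF]
    rw [e1, e2, ← Set.ncard_sdiff_add_ncard_of_subset hSC, ← e3, e4]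
  have hfib := card_fiber
    (α := {u : Fin n → F // (Cfsg.hermForm n F q u v = 0 ∧
        Cfsg.hermForm n F q u u = 0) ∧ u ∉ F ∙ v})
    (β := {W : Submodule F (Fin n → F) // Module.finrank F W = 2 ∧ v ∈ W ∧
        ∀ u ∈ W, ∀ w ∈ W, Cfsg.hermForm n F q u w = 0})
    (fun u => ⟨Submodule.span F {v, u.1}, span_pair' v u.1 hv u.2.2,
      Submodule.subset_span (by simp),
      herm_span_pair φ hφq hφ2 n v u.1 hvv u.2.1.2 u.2.1.1⟩) (q ^ 4 - q ^ 2) (by
    intro W
    have h1 := card_diff' n (F ∙ v) W.1 ((Submodule.span_singleton_le_iff_mem _ _).mpr W.2.2.1)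
    rw [W.2.1, finrank_span_singleton hv, hF, pow_one, ← pow_mul] at h1
    rw [← h1]
    refine Nat.card_congr
      { toFun := fun a => ⟨a.1.1, by
          have h := congrArg Subtype.val a.2
          have h' : a.1.1 ∈ Submodule.span F {v, a.1.1} := Submodule.subset_span (by simp)
          rw [← show Submodule.span F {v, a.1.1} = W.1 from h]
          exact h', a.1.2.2⟩
        invFun := fun u => ⟨⟨u.1, ⟨W.2.2.2 u.1 u.2.1 v W.2.2.1, W.2.2.2 u.1 u.2.1 u.1 u.2.1⟩,
          u.2.2⟩, Subtype.ext (span_eq' W.1 W.2.1 v u.1 hv W.2.2.1 u.2.1 u.2.2)⟩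
        left_inv := fun a => Subtype.ext (Subtype.ext rfl)
        right_inv := fun u => Subtype.ext rfl })
  rw [← hA, hfib]

theorem total (hF : Fintype.card F = q ^ 2) (n : ℕ) (L : ℕ)
    (hL : ∀ v : Fin n → F, v ≠ 0 → Cfsg.hermForm n F q v v = 0 →
      Nat.card {W : Submodule F (Fin n → F) // Module.finrank F W = 2 ∧ v ∈ W ∧
        ∀ u ∈ W, ∀ w ∈ W, Cfsg.hermForm n F q u w = 0} = L) :
    Nat.card {W : Submodule F (Fin n → F) // Module.finrank F W = 2 ∧
        ∀ u ∈ W, ∀ v ∈ W, Cfsg.hermForm n F q u v = 0} * (q ^ 4 - 1) + L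
      = Nat.card {v : Fin n → F // Cfsg.hermForm n F q v v = 0} * L := by
  classical
  have h1 := card_fiber
    (α := {p : {W : Submodule F (Fin n → F) // Module.finrank F W = 2 ∧
        ∀ u ∈ W, ∀ v ∈ W, Cfsg.hermForm n F q u v = 0} × (Fin n → F) // p.2 ∈ p.1.1 ∧ p.2 ≠ 0})
    (β := {W : Submodule F (Fin n → F) // Module.finrank F W = 2 ∧
        ∀ u ∈ W, ∀ v ∈ W, Cfsg.hermForm n F q u v = 0})
    (fun p => p.1.1) (q ^ 4 - 1) (by
    intro W
    have h := card_diff' n (⊥ : Submodule F (Fin n → F)) W.1 bot_le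
    rw [W.2.1, finrank_bot, hF, pow_zero, ← pow_mul] at h
    rw [← h]
    refine Nat.card_congr
      { toFun := fun p => ⟨p.1.1.2, by
          have h := p.1.2.1
          rw [p.2] at h
          exact h, by
          rw [Submodule.mem_bot]
          exact p.1.2.2⟩
        invFun := fun v => ⟨⟨(W, v.1), v.2.1, by
          have h := v.2.2
          rw [Submodule.mem_bot] at h
          exact h⟩, rfl⟩
        left_inv := by
          rintro ⟨⟨⟨W', v⟩, h⟩, rfl⟩
          rfl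
        right_inv := fun v => rfl })
  have h2 := card_fiber
    (α := {p : {W : Submodule F (Fin n → F) // Module.finrank F W = 2 ∧
        ∀ u ∈ W, ∀ v ∈ W, Cfsg.hermForm n F q u v = 0} × (Fin n → F) // p.2 ∈ p.1.1 ∧ p.2 ≠ 0})
    (β := {v : Fin n → F // Cfsg.hermForm n F q v v = 0 ∧ v ≠ 0})
    (fun p => ⟨p.1.2, p.1.1.2.2 _ p.2.1 _ p.2.1, p.2.2⟩) L (by
    intro v
    rw [← hL v.1 v.2.2 v.2.1]
    refine Nat.card_congr
      { toFun := fun p => ⟨p.1.1.1.1, p.1.1.1.2.1, by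
          have h := p.1.2.1
          have h' : p.1.1.2 = v.1 := congrArg Subtype.val p.2
          rw [h'] at h
          exact h, p.1.1.1.2.2⟩
        invFun := fun W => ⟨⟨(⟨W.1, W.2.1, W.2.2.2⟩, v.1), W.2.2.1, v.2.2⟩, rfl⟩
        left_inv := by
          rintro ⟨⟨⟨W', v'⟩, h⟩, rfl⟩
          rfl
        right_inv := fun W => rfl })
  have h3 : Nat.card {v : Fin n → F // Cfsg.hermForm n F q v v = 0 ∧ v ≠ 0} + 1
      = Nat.card {v : Fin n → F // Cfsg.hermForm n F q v v = 0} := by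
    have e1 : Nat.card {v : Fin n → F // Cfsg.hermForm n F q v v = 0 ∧ v ≠ 0}
        = ({v : Fin n → F | Cfsg.hermForm n F q v v = 0} \ {0}).ncard := Nat.card_coe_set_eq _
    have e2 : Nat.card {v : Fin n → F // Cfsg.hermForm n F q v v = 0}
        = ({v : Fin n → F | Cfsg.hermForm n F q v v = 0}).ncard := Nat.card_coe_set_eq _
    have hsub : ({0} : Set (Fin n → F)) ⊆ {v : Fin n → F | Cfsg.hermForm n F q v v = 0} := by
      intro x hx
      rw [Set.mem_singleton_iff] at hx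
      subst hx
      change Cfsg.hermForm n F q 0 0 = 0
      simp [Cfsg.hermForm]
    rw [e1, e2, ← Set.ncard_sdiff_add_ncard_of_subset hsub, Set.ncard_singleton]
  rw [← h1, h2, ← h3]
  ring

end lines

/-- The unitary quadrangle of PSU_4(q): with |F| = q², the number of 2-dimensional subspaces of F^4 on which the Hermitian form Σ x_i y_i^q vanishes is (q + 1)(q³ + 1). -/
theorem result {F : Type*} [Field F] [Fintype F] {q : ℕ} (hF : Fintype.card F = q ^ 2) : Nat.card {W : Submodule F (Fin 4 → F) // Module.finrank F W = 2 ∧ ∀ u ∈ W, ∀ v ∈ W, Cfsg.hermForm 4 F q u v = 0} = (q + 1) * (q ^ 3 + 1) := by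
  classical
  obtain ⟨φ, hφq, hφ2⟩ := Cfsg.Agent.S0779.exists_frob hF
  have hq2 := two_le_q hF
  have a0 := a_zero (F := F) (q := q)
  have a1 := a_succ hF φ hφq hφ2 0
  have a2 := a_succ hF φ hφq hφ2 1
  have a3 := a_succ hF φ hφq hφ2 2
  have a4 := a_succ hF φ hφq hφ2 3
  have hL : ∀ v : Fin 4 → F, v ≠ 0 → Cfsg.hermForm 4 F q v v = 0 →
      Nat.card {W : Submodule F (Fin 4 → F) // Module.finrank F W = 2 ∧ v ∈ W ∧
        ∀ u ∈ W, ∀ w ∈ W, Cfsg.hermForm 4 F q u w = 0} = q + 1 := by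
    intro v hv hvv
    have h1 := lines_through hF φ hφq hφ2 4 v hv hvv
    rw [perp_count hF φ hφq hφ2 2 v hv hvv] at h1
    obtain ⟨t, rfl⟩ : ∃ t, q = t + 2 := ⟨q - 2, by omega⟩
    have e1 : (t + 2) ^ 4 - (t + 2) ^ 2 = (t + 2) ^ 2 * ((t + 1) * (t + 3)) :=
      Nat.sub_eq_of_eq_add (by ring)
    rw [e1] at h1
    apply Nat.eq_of_mul_eq_mul_right (show 0 < (t + 2) ^ 2 * ((t + 1) * (t + 3)) by positivity)
    zify at h1 a0 a1 a2 ⊢
    linear_combination h1 + ((t : ℤ) + 2) ^ 2 * (a2 - ((t : ℤ) + 2) * a1 + ((t : ℤ) + 2) ^ 2 * a0)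
  have ht := total hF 4 (q + 1) hL
  obtain ⟨t, rfl⟩ : ∃ t, q = t + 2 := ⟨q - 2, by omega⟩
  have e1 : (t + 2) ^ 4 - 1 = (t + 1) * (t + 3) * ((t + 2) ^ 2 + 1) :=
    Nat.sub_eq_of_eq_add (by ring)
  rw [e1] at ht
  apply Nat.eq_of_mul_eq_mul_right (show 0 < (t + 1) * (t + 3) * ((t + 2) ^ 2 + 1) by positivity)
  zify at ht a0 a1 a2 a3 a4 ⊢
  linear_combination ht + ((t : ℤ) + 2 + 1) * (a4 - ((t : ℤ) + 2) * a3 + ((t : ℤ) + 2) ^ 2 * a2
    - ((t : ℤ) + 2) ^ 3 * a1 + ((t : ℤ) + 2) ^ 4 * a0)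

end Cfsg.Agent.S0829
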