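import Mathlib
import Cfsg.Statements.S0780
import Cfsg.Agent.S0751
import Cfsg.Agent.S0755
import Cfsg.Agent.S0779
import Cfsg.Agent.S0829
import Cfsg.Agent.S0837

set_option autoImplicit false
open Cfsg

namespace Cfsg.Agent.S0780

open Cfsg.Agent.S0837 (Bh Bh_apply hf Bh_symm Bh_nondeg)

section gen

variable {F : Type*} [Field F] (φ : F →+* F) {n : ℕ}

local notation "B" => Bh φ n

/-- matrices of determinant one preserving the form -/
def IsSUm (M : Matrix (Fin n) (Fin n) F) : Prop :=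
  M.det = 1 ∧ ∀ x y, B (M.mulVec x) (M.mulVec y) = B x y

theorem IsSUm.mul {M N : Matrix (Fin n) (Fin n) F} (hM : IsSUm φ M) (hN : IsSUm φ N) :
    IsSUm φ (M * N) := by
  refine ⟨by rw [Matrix.det_mul, hM.1, hN.1, one_mul], fun x y => ?_⟩
  rw [← Matrix.mulVec_mulVec, ← Matrix.mulVec_mulVec, hM.2, hN.2]

theorem isSUm_one : IsSUm φ (1 : Matrix (Fin n) (Fin n) F) :=
  ⟨Matrix.det_one, fun x y => by rw [Matrix.one_mulVec, Matrix.one_mulVec]⟩

/-- the generating set: transvections with isotropic centre in `P` -/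
def GenT (q : ℕ) (P : Submodule F (Fin n → F)) : Set (Matrix (Fin n) (Fin n) F) :=
  {M | ∃ v c, v ∈ P ∧ B v v = 0 ∧ φ c = -c ∧ M = Cfsg.unitaryTransvection n q v c}

/-- the monoid they generate -/
def TT (q : ℕ) (P : Submodule F (Fin n → F)) : Submonoid (Matrix (Fin n) (Fin n) F) :=
  Submonoid.closure (GenT φ q P)

theorem TT_mono (q : ℕ) {P P' : Submodule F (Fin n → F)} (h : P ≤ P') :
    TT φ q P ≤ TT φ q P' := by
  apply Submonoid.closure_mono
  rintro M ⟨v, c, hv, h1, h2, h3⟩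
  exact ⟨v, c, h hv, h1, h2, h3⟩

theorem tv_mem (q : ℕ) (P : Submodule F (Fin n → F)) (v : Fin n → F) (c : F) (hv : v ∈ P)
    (h0 : B v v = 0) (hc : φ c = -c) : Cfsg.unitaryTransvection n q v c ∈ TT φ q P :=
  Submonoid.subset_closure ⟨v, c, hv, h0, hc, rfl⟩

theorem mat_ext' {M N : Matrix (Fin n) (Fin n) F} (h : ∀ y, M.mulVec y = N.mulVec y) : M = N := by
  ext i j
  have h1 := congrFun (h (Pi.single j 1)) i
  rw [Matrix.mulVec_single_one, Matrix.mulVec_single_one] at h1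
  simpa [Matrix.col_apply] using h1

theorem perp_span (s : Set (Fin n → F)) (y : Fin n → F) (h : ∀ v ∈ s, B v y = 0) :
    ∀ v ∈ Submodule.span F s, B v y = 0 := by
  intro v hv
  induction hv using Submodule.span_induction with
  | mem x hx => exact h x hx
  | zero => simp
  | add x z _ _ hx hz => rw [map_add, LinearMap.add_apply, hx, hz, add_zero]
  | smul a x _ hx => rw [LinearMap.map_smulₛₗ, LinearMap.smul_apply, hx, smul_zero]

variable {q : ℕ} (hφq : ∀ a : F, φ a = a ^ q)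

include hφq in
theorem tv_mulVec (v : Fin n → F) (c : F) (x : Fin n → F) :
    (Cfsg.unitaryTransvection n q v c).mulVec x = x + (c * B v x) • v := by
  rw [Cfsg.Agent.S0779.mulVec_eq, Cfsg.Agent.S0837.herm_eq φ hφq]
  rfl

variable (hφ2 : ∀ a : F, φ (φ a) = a)

include hφq hφ2 in
theorem tv_isSUm (v : Fin n → F) (c : F) (hv : B v v = 0) (hc : φ c = -c) :
    IsSUm φ (Cfsg.unitaryTransvection n q v c) := by
  have hS := Bh_symm φ hφ2 n
  refine ⟨?_, fun x y => ?_⟩
  · have h3 := Matrix.det_one_add_replicateCol_mul_replicateRow (ι := Fin 1) (c • v)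
      (fun j => (v j) ^ q)
    have h1 : Cfsg.unitaryTransvection n q v c
        = 1 + Matrix.replicateCol (Fin 1) (c • v)
          * Matrix.replicateRow (Fin 1) (fun j => (v j) ^ q) := by
      ext i j
      simp [Cfsg.unitaryTransvection, Matrix.vecMulVec_apply, Matrix.mul_apply]
    have h2 : (fun j => (v j) ^ q) ⬝ᵥ (c • v) = c * B v v := by
      rw [Bh_apply]
      simp only [dotProduct, hf, Pi.smul_apply, smul_eq_mul, Finset.mul_sum, hφq]
      apply Finset.sum_congr rfl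
      intro i _
      ring
    calc (Cfsg.unitaryTransvection n q v c).det
        = (1 + Matrix.replicateCol (Fin 1) (c • v)
          * Matrix.replicateRow (Fin 1) (fun j => (v j) ^ q)).det := by rw [h1]
      _ = 1 + (fun j => (v j) ^ q) ⬝ᵥ (c • v) := h3
      _ = 1 := by rw [h2, hv, mul_zero, add_zero]
  · rw [tv_mulVec φ hφq, tv_mulVec φ hφq]
    have e1 : B x v = φ (B v x) := (hS.eq v x).symm
    simp only [map_add, LinearMap.add_apply, LinearMap.map_smulₛₗ, LinearMap.smul_apply, map_smul,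
      smul_eq_mul, map_mul, hv, e1, hc]
    ring

include hφq hφ2 in
theorem TT_isSUm (P : Submodule F (Fin n → F)) {M : Matrix (Fin n) (Fin n) F}
    (hM : M ∈ TT φ q P) : IsSUm φ M := by
  induction hM using Submonoid.closure_induction with
  | mem x hx =>
    obtain ⟨v, c, _, h0, hc, rfl⟩ := hx
    exact tv_isSUm φ hφq hφ2 v c h0 hc
  | one => exact isSUm_one φ
  | mul x y _ _ hx hy => exact hx.mul φ hy

include hφq in
theorem TT_fix (P : Submodule F (Fin n → F)) {M : Matrix (Fin n) (Fin n) F}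
    (hM : M ∈ TT φ q P) (y : Fin n → F) (hy : ∀ v ∈ P, B v y = 0) : M.mulVec y = y := by
  induction hM using Submonoid.closure_induction with
  | mem x hx =>
    obtain ⟨v, c, hv, _, _, rfl⟩ := hx
    rw [tv_mulVec φ hφq, hy v hv, mul_zero, zero_smul, add_zero]
  | one => rw [Matrix.one_mulVec]
  | mul x z _ _ hx hz => rw [← Matrix.mulVec_mulVec, hz, hx]

end gen

section field

variable {F : Type*} [Field F] (φ : F →+* F) (hφ : φ ≠ RingHom.id F) (hφ2 : ∀ a : F, φ (φ a) = a)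

include hφ in
theorem exists_moved : ∃ x : F, φ x ≠ x := by
  by_contra hcon
  push Not at hcon
  exact hφ (RingHom.ext hcon)

include hφ hφ2 in
theorem exists_skew : ∃ s : F, s ≠ 0 ∧ φ s = -s := by
  obtain ⟨x, hx⟩ := exists_moved φ hφ
  refine ⟨x - φ x, sub_ne_zero.mpr (Ne.symm hx), ?_⟩
  rw [map_sub, hφ2]
  ring

include hφ hφ2 in
theorem exists_unit_norm : ∃ ω : F, ω ≠ 1 ∧ φ ω ≠ 1 ∧ ω * φ ω = 1 := by
  obtain ⟨x, hx⟩ := exists_moved φ hφ
  have hx0 : x ≠ 0 := by
    rintro rfl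
    exact hx (map_zero φ)
  have hφx0 : φ x ≠ 0 := by rwa [Ne, map_eq_zero]
  refine ⟨φ x / x, ?_, ?_, ?_⟩
  · intro h
    rw [div_eq_one_iff_eq hx0] at h
    exact hx h
  · rw [map_div₀, hφ2]
    intro h
    rw [div_eq_one_iff_eq hφx0] at h
    exact hx h.symm
  · rw [map_div₀, hφ2]
    field_simp

variable {n : ℕ}

local notation "B" => Bh φ n

include hφ hφ2 in
theorem scale [Finite F] (x : Fin n → F) (hx : B x x ≠ 0) : ∃ l : F, B (l • x) (l • x) = 1 := by
  have hS := Bh_symm φ hφ2 n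
  have hfix : φ (B x x) = B x x := hS.eq x x
  obtain ⟨l, hl⟩ := Cfsg.Agent.S0755.norm_surj φ hφ hφ2 (B x x)⁻¹ (by rw [map_inv₀, hfix])
    (inv_ne_zero hx)
  refine ⟨l, ?_⟩
  have h : φ l * l * B x x = 1 := by rw [hl, inv_mul_cancel₀ hx]
  simp only [LinearMap.map_smulₛₗ, LinearMap.smul_apply, map_smul, smul_eq_mul]
  linear_combination h

theorem det_rank_two (a1 b1 a2 b2 : Fin n → F) :
    (1 + Matrix.vecMulVec a1 (fun j => φ (b1 j)) + Matrix.vecMulVec a2 (fun j => φ (b2 j))).det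
      = (1 + B b1 a1) * (1 + B b2 a2) - B b1 a2 * B b2 a1 := by
  let A : Matrix (Fin n) (Fin 2) F := Matrix.of fun i k => if k = 0 then a1 i else a2 i
  let C : Matrix (Fin 2) (Fin n) F := Matrix.of fun k j => if k = 0 then φ (b1 j) else φ (b2 j)
  have h1 : 1 + Matrix.vecMulVec a1 (fun j => φ (b1 j)) + Matrix.vecMulVec a2 (fun j => φ (b2 j))
      = 1 + A * C := by
    ext i j
    simp [A, C, Matrix.mul_apply, Fin.sum_univ_two, Matrix.vecMulVec_apply, add_assoc]
  have h00 : (C * A) 0 0 = B b1 a1 := by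
    simp [Matrix.mul_apply, A, C, Bh_apply, hf, mul_comm]
  have h01 : (C * A) 0 1 = B b1 a2 := by
    simp [Matrix.mul_apply, A, C, Bh_apply, hf, mul_comm]
  have h10 : (C * A) 1 0 = B b2 a1 := by
    simp [Matrix.mul_apply, A, C, Bh_apply, hf, mul_comm]
  have h11 : (C * A) 1 1 = B b2 a2 := by
    simp [Matrix.mul_apply, A, C, Bh_apply, hf, mul_comm]
  rw [h1, Matrix.det_one_add_mul_comm, Matrix.det_fin_two]
  simp only [Matrix.add_apply, h00, h01, h10, h11, Matrix.one_apply_eq]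
  simp

theorem rank_two_mulVec (a1 b1 a2 b2 y : Fin n → F) :
    (1 + Matrix.vecMulVec a1 (fun j => φ (b1 j))
        + Matrix.vecMulVec a2 (fun j => φ (b2 j))).mulVec y
      = y + (B b1 y) • a1 + (B b2 y) • a2 := by
  have h1 : ∀ b : Fin n → F, (fun j => φ (b j)) ⬝ᵥ y = B b y := by
    intro b
    rw [Bh_apply]
    simp [dotProduct, hf, mul_comm]
  rw [Matrix.add_mulVec, Matrix.add_mulVec, Matrix.one_mulVec, Matrix.vecMulVec_mulVec,
    Matrix.vecMulVec_mulVec, h1, h1]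
  simp

end field

section moves

variable {F : Type*} [Field F] [Finite F] (φ : F →+* F) {n : ℕ} {q : ℕ}
  (hφq : ∀ a : F, φ a = a ^ q) (hφ : φ ≠ RingHom.id F) (hφ2 : ∀ a : F, φ (φ a) = a)

local notation "B" => Bh φ n

include hφq hφ2 in
theorem elim1 (e f : Fin n → F) (hee : B e e = 0) (hff : B f f = 0) (hef : B e f = 1)
    (a c : F) (ha : φ a = a) (hc : φ c = -c) (hc0 : c ≠ 0) :
    ∃ t ∈ TT φ q (Submodule.span F {e, f}), t.mulVec (a • e + c • f) = e := by
  have hS := Bh_symm φ hφ2 n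
  have hfe : B f e = 1 := by rw [← hS.eq e f, hef, map_one]
  have he : e ∈ Submodule.span F {e, f} := Submodule.subset_span (by simp)
  have hf' : f ∈ Submodule.span F {e, f} := Submodule.subset_span (by simp)
  refine ⟨Cfsg.unitaryTransvection n q f (-c) * Cfsg.unitaryTransvection n q e ((1 - a) / c),
    mul_mem (tv_mem φ q _ f (-c) hf' hff (by rw [map_neg, hc]))
      (tv_mem φ q _ e _ he hee (by rw [map_div₀, map_sub, map_one, ha, hc, div_neg])), ?_⟩
  rw [← Matrix.mulVec_mulVec, tv_mulVec φ hφq, tv_mulVec φ hφq]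
  simp only [map_add, map_smul, smul_eq_mul, hee, hef, hfe, hff, mul_zero, mul_one, zero_add,
    add_zero]
  funext i
  simp only [Pi.add_apply, Pi.smul_apply, smul_eq_mul]
  field_simp
  ring

include hφq hφ hφ2 in
theorem elim (e f : Fin n → F) (hee : B e e = 0) (hff : B f f = 0) (hef : B e f = 1)
    (a c : F) (ha : φ a = a) (hc : φ c = -c) (hac : a ≠ 0 ∨ c ≠ 0) :
    ∃ t ∈ TT φ q (Submodule.span F {e, f}), t.mulVec (a • e + c • f) = e := by
  by_cases hc0 : c = 0
  · have ha0 : a ≠ 0 := by tauto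
    obtain ⟨s, hs0, hs⟩ := exists_skew φ hφ hφ2
    have hS := Bh_symm φ hφ2 n
    have hfe : B f e = 1 := by rw [← hS.eq e f, hef, map_one]
    obtain ⟨t', ht', h'⟩ := elim1 φ hφq hφ2 e f hee hff hef a (s * a) ha
      (by rw [map_mul, hs, ha, neg_mul]) (mul_ne_zero hs0 ha0)
    refine ⟨t' * Cfsg.unitaryTransvection n q f s,
      mul_mem ht' (tv_mem φ q _ f s (Submodule.subset_span (by simp)) hff hs), ?_⟩
    have h2 : (Cfsg.unitaryTransvection n q f s).mulVec (a • e + c • f)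
        = a • e + (s * a) • f := by
      rw [tv_mulVec φ hφq, hc0]
      simp only [map_add, map_smul, smul_eq_mul, hfe, mul_one, add_zero, zero_smul, map_zero]
    rw [← Matrix.mulVec_mulVec, h2, h']
  · exact elim1 φ hφq hφ2 e f hee hff hef a c ha hc hc0

include hφq hφ hφ2 in
theorem D2h (e f : Fin n → F) (hee : B e e = 0) (hff : B f f = 0) (hef : B e f = 1)
    (M : Matrix (Fin n) (Fin n) F) (hM : IsSUm φ M)
    (hfix : ∀ y, B e y = 0 → B f y = 0 → M.mulVec y = y) :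
    ∃ t ∈ TT φ q (Submodule.span F {e, f}), t * M = 1 := by
  have hS := Bh_symm φ hφ2 n
  have hfe : B f e = 1 := by rw [← hS.eq e f, hef, map_one]
  have he : e ∈ Submodule.span F {e, f} := Submodule.subset_span (by simp)
  have hf' : f ∈ Submodule.span F {e, f} := Submodule.subset_span (by simp)
  have hdec : ∀ N : Matrix (Fin n) (Fin n) F, (∀ y, B e y = 0 → B f y = 0 → N.mulVec y = y) →
      ∀ y, N.mulVec y = y + (B f y) • (N.mulVec e - e) + (B e y) • (N.mulVec f - f) := by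
    intro N hN y
    have h0 := hN (y - (B f y) • e - (B e y) • f)
      (by simp only [map_sub, map_smul, smul_eq_mul, hee, hef]; ring)
      (by simp only [map_sub, map_smul, smul_eq_mul, hfe, hff]; ring)
    rw [Matrix.mulVec_sub, Matrix.mulVec_sub, Matrix.mulVec_smul, Matrix.mulVec_smul] at h0
    funext i
    have h1 := congrFun h0 i
    simp only [Pi.sub_apply, Pi.add_apply, Pi.smul_apply, smul_eq_mul] at h1 ⊢
    linear_combination h1
  have hspan : ∀ N : Matrix (Fin n) (Fin n) F, IsSUm φ N →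
      (∀ y, B e y = 0 → B f y = 0 → N.mulVec y = y) → ∀ p0,
      (∀ y0, B e y0 = 0 → B f y0 = 0 → B y0 p0 = 0) →
      N.mulVec p0 = (B f (N.mulVec p0)) • e + (B e (N.mulVec p0)) • f := by
    intro N hN hNfix p0 hp0
    obtain ⟨p, hp⟩ : ∃ p, N.mulVec p0 = p := ⟨_, rfl⟩
    rw [hp]
    have hz : p - (B f p) • e - (B e p) • f = 0 := by
      apply (Bh_nondeg φ hφ2 n).2
      intro y
      obtain ⟨z, hzdef⟩ : ∃ z, z = p - (B f p) • e - (B e p) • f := ⟨_, rfl⟩
      rw [← hzdef]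
      obtain ⟨y0, hy0⟩ : ∃ y0, y0 = y - (B f y) • e - (B e y) • f := ⟨_, rfl⟩
      have hy0e : B e y0 = 0 := by
        rw [hy0]; simp only [map_sub, map_smul, smul_eq_mul, hee, hef]; ring
      have hy0f : B f y0 = 0 := by
        rw [hy0]; simp only [map_sub, map_smul, smul_eq_mul, hfe, hff]; ring
      have hze : B e z = 0 := by
        rw [hzdef]; simp only [map_sub, map_smul, smul_eq_mul, hee, hef]; ring
      have hzf : B f z = 0 := by
        rw [hzdef]; simp only [map_sub, map_smul, smul_eq_mul, hfe, hff]; ring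
      have h1 : B y0 p = 0 := by
        have h2 := hN.2 y0 p0
        rw [hNfix y0 hy0e hy0f, hp] at h2
        rw [h2]
        exact hp0 y0 hy0e hy0f
      have h2 : B y0 e = 0 := by rw [← hS.eq, hy0e, map_zero]
      have h3 : B y0 f = 0 := by rw [← hS.eq, hy0f, map_zero]
      have h4 : B y0 z = 0 := by
        rw [hzdef]; simp only [map_sub, map_smul, smul_eq_mul, h1, h2, h3]; ring
      have hy : y = y0 + (B f y) • e + (B e y) • f := by rw [hy0]; abel
      rw [hy]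
      simp only [map_add, LinearMap.add_apply, LinearMap.map_smulₛₗ, LinearMap.smul_apply,
        smul_eq_mul, h4, hze, hzf]
      ring
    funext i
    have h1 := congrFun hz i
    simp only [Pi.sub_apply, Pi.add_apply, Pi.smul_apply, smul_eq_mul, Pi.zero_apply] at h1 ⊢
    linear_combination h1
  have hMe := hspan M hM hfix e (fun y0 h1 _ => by rw [← hS.eq, h1, map_zero])
  have hMf := hspan M hM hfix f (fun y0 _ h2 => by rw [← hS.eq, h2, map_zero])
  have h4 : B f (M.mulVec e) * B e (M.mulVec f) - B f (M.mulVec f) * B e (M.mulVec e) = 1 := by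
    have hMeq : M = 1 + Matrix.vecMulVec (M.mulVec e - e) (fun j => φ (f j))
        + Matrix.vecMulVec (M.mulVec f - f) (fun j => φ (e j)) := by
      apply mat_ext'
      intro y
      rw [rank_two_mulVec, hdec M hfix y]
    have hdet := hM.1
    rw [hMeq, det_rank_two] at hdet
    simp only [map_sub, hfe, hef, hee, hff] at hdet
    linear_combination hdet
  obtain ⟨a, ha⟩ : ∃ a, B f (M.mulVec e) = a := ⟨_, rfl⟩
  obtain ⟨c, hc⟩ : ∃ c, B e (M.mulVec e) = c := ⟨_, rfl⟩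
  obtain ⟨b, hb⟩ : ∃ b, B f (M.mulVec f) = b := ⟨_, rfl⟩
  obtain ⟨d, hd⟩ : ∃ d, B e (M.mulVec f) = d := ⟨_, rfl⟩
  rw [ha, hc] at hMe
  rw [hb, hd] at hMf
  rw [ha, hb, hc, hd] at h4
  have h1 : φ a * c + φ c * a = 0 := by
    have h := hM.2 e e
    rw [hMe, hee] at h
    simp only [map_add, LinearMap.add_apply, LinearMap.map_smulₛₗ, LinearMap.smul_apply, map_smul,
      smul_eq_mul, hee, hef, hfe, hff] at h
    linear_combination h
  have h3 : φ a * d + φ c * b = 1 := by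
    have h := hM.2 e f
    rw [hMe, hMf, hef] at h
    simp only [map_add, LinearMap.add_apply, LinearMap.map_smulₛₗ, LinearMap.smul_apply, map_smul,
      smul_eq_mul, hee, hef, hfe, hff] at h
    linear_combination h
  have hcc : φ c = -c := by linear_combination (-(φ c)) * h4 - c * h3 + d * h1
  have haa : φ a = a := by linear_combination (-(φ a)) * h4 + a * h3 - b * h1
  have hac : a ≠ 0 ∨ c ≠ 0 := by
    by_contra hcon
    push Not at hcon
    rw [hcon.1, hcon.2] at h4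
    simp at h4
  obtain ⟨t1, ht1, ht1e⟩ := elim φ hφq hφ hφ2 e f hee hff hef a c haa hcc hac
  have hM1 : IsSUm φ (t1 * M) := (TT_isSUm φ hφq hφ2 _ ht1).mul φ hM
  have hM1e : (t1 * M).mulVec e = e := by rw [← Matrix.mulVec_mulVec, hMe, ht1e]
  have hperp : ∀ y, B e y = 0 → B f y = 0 → ∀ v ∈ Submodule.span F {e, f}, B v y = 0 := by
    intro y h1 h2
    apply perp_span
    intro v hv
    simp only [Set.mem_insert_iff, Set.mem_singleton_iff] at hv
    rcases hv with rfl | rfl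
    · exact h1
    · exact h2
  have hM1fix : ∀ y, B e y = 0 → B f y = 0 → (t1 * M).mulVec y = y := by
    intro y h1 h2
    rw [← Matrix.mulVec_mulVec, hfix y h1 h2, TT_fix φ hφq _ ht1 y (hperp y h1 h2)]
  have hM1f := hspan (t1 * M) hM1 hM1fix f (fun y0 _ h2 => by rw [← hS.eq, h2, map_zero])
  have hd1 : B e ((t1 * M).mulVec f) = 1 := by
    have h := hM1.2 e f
    rw [hM1e, hef] at h
    exact h
  rw [hd1] at hM1f
  obtain ⟨b', hb'⟩ : ∃ b', B f ((t1 * M).mulVec f) = b' := ⟨_, rfl⟩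
  rw [hb'] at hM1f
  have hb'' : φ b' = -b' := by
    have h := hM1.2 f f
    rw [hM1f, hff] at h
    simp only [map_add, LinearMap.add_apply, LinearMap.map_smulₛₗ, LinearMap.smul_apply, map_smul,
      smul_eq_mul, hee, hef, hfe, hff, map_one] at h
    linear_combination h
  have ht2 : Cfsg.unitaryTransvection n q e (-b') ∈ TT φ q (Submodule.span F {e, f}) :=
    tv_mem φ q _ e (-b') he hee (by rw [map_neg, hb'', neg_neg])
  have hM2e : (Cfsg.unitaryTransvection n q e (-b') * (t1 * M)).mulVec e = e := by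
    rw [← Matrix.mulVec_mulVec, hM1e, tv_mulVec φ hφq, hee, mul_zero, zero_smul, add_zero]
  have hM2f : (Cfsg.unitaryTransvection n q e (-b') * (t1 * M)).mulVec f = f := by
    rw [← Matrix.mulVec_mulVec, hM1f, tv_mulVec φ hφq]
    simp only [map_add, map_smul, smul_eq_mul, hee, hef, mul_zero, mul_one, zero_add]
    funext i
    simp only [Pi.add_apply, Pi.smul_apply, smul_eq_mul]
    ring
  have hM2fix : ∀ y, B e y = 0 → B f y = 0 →
      (Cfsg.unitaryTransvection n q e (-b') * (t1 * M)).mulVec y = y := by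
    intro y h1 h2
    rw [← Matrix.mulVec_mulVec, hM1fix y h1 h2, TT_fix φ hφq _ ht2 y (hperp y h1 h2)]
  refine ⟨Cfsg.unitaryTransvection n q e (-b') * t1, mul_mem ht2 ht1, ?_⟩
  rw [Matrix.mul_assoc]
  apply mat_ext'
  intro y
  rw [hdec _ hM2fix y, hM2e, hM2f]
  simp only [sub_self, smul_zero, add_zero, Matrix.one_mulVec]

include hφq hφ hφ2 in
theorem D2 (u x : Fin n → F) (huu : B u u = 1) (hxx : B x x = 1) (hux : B u x = 0)
    (M : Matrix (Fin n) (Fin n) F) (hM : IsSUm φ M)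
    (hfix : ∀ y, B u y = 0 → B x y = 0 → M.mulVec y = y) :
    ∃ t ∈ TT φ q (Submodule.span F {u, x}), t * M = 1 := by
  have hS := Bh_symm φ hφ2 n
  have hxu : B x u = 0 := by rw [← hS.eq u x, hux, map_zero]
  obtain ⟨ζ, hζ⟩ := Cfsg.Agent.S0755.norm_surj φ hφ hφ2 (-1) (by rw [map_neg, map_one])
    (neg_ne_zero.mpr one_ne_zero)
  obtain ⟨ω, hω1, hφω1, hω⟩ := exists_unit_norm φ hφ hφ2
  have hζ0 : ζ ≠ 0 := by
    rintro rfl
    simp at hζ
  have hφζ0 : φ ζ ≠ 0 := by rwa [Ne, map_eq_zero]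
  obtain ⟨e, he_def⟩ : ∃ e, e = u + ζ • x := ⟨_, rfl⟩
  obtain ⟨f0, hf0_def⟩ : ∃ f0, f0 = u + (ζ * ω) • x := ⟨_, rfl⟩
  have hee : B e e = 0 := by
    rw [he_def]
    simp only [map_add, LinearMap.add_apply, LinearMap.map_smulₛₗ, LinearMap.smul_apply, map_smul,
      smul_eq_mul, huu, hxx, hux, hxu]
    linear_combination hζ
  have hf0 : B f0 f0 = 0 := by
    rw [hf0_def]
    simp only [map_add, LinearMap.add_apply, LinearMap.map_smulₛₗ, LinearMap.smul_apply, map_smul,
      smul_eq_mul, huu, hxx, hux, hxu, map_mul]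
    linear_combination (ω * φ ω) * hζ - hω
  have hef0 : B e f0 = 1 - ω := by
    rw [he_def, hf0_def]
    simp only [map_add, LinearMap.add_apply, LinearMap.map_smulₛₗ, LinearMap.smul_apply, map_smul,
      smul_eq_mul, huu, hxx, hux, hxu]
    linear_combination ω * hζ
  have h1ω : (1 - ω) ≠ 0 := sub_ne_zero.mpr (Ne.symm hω1)
  obtain ⟨f, hf_def⟩ : ∃ f, f = (1 - ω)⁻¹ • f0 := ⟨_, rfl⟩
  have hff : B f f = 0 := by
    rw [hf_def]
    simp only [LinearMap.map_smulₛₗ, LinearMap.smul_apply, map_smul, smul_eq_mul, hf0, mul_zero]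
  have hef : B e f = 1 := by
    rw [hf_def, map_smul, hef0, smul_eq_mul, inv_mul_cancel₀ h1ω]
  have hu : u ∈ Submodule.span F {u, x} := Submodule.subset_span (by simp)
  have hx : x ∈ Submodule.span F {u, x} := Submodule.subset_span (by simp)
  have he : e ∈ Submodule.span F {u, x} := by
    rw [he_def]
    exact add_mem hu (Submodule.smul_mem _ _ hx)
  have hf' : f ∈ Submodule.span F {u, x} := by
    rw [hf_def, hf0_def]
    exact Submodule.smul_mem _ _ (add_mem hu (Submodule.smul_mem _ _ hx))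
  have hle : Submodule.span F {e, f} ≤ Submodule.span F {u, x} := by
    apply Submodule.span_le.mpr
    intro v hv
    simp only [Set.mem_insert_iff, Set.mem_singleton_iff] at hv
    rcases hv with rfl | rfl
    · exact he
    · exact hf'
  have hfix' : ∀ y, B e y = 0 → B f y = 0 → M.mulVec y = y := by
    intro y h1 h2
    rw [he_def] at h1
    rw [hf_def, hf0_def] at h2
    simp only [map_add, LinearMap.add_apply, LinearMap.map_smulₛₗ, LinearMap.smul_apply,
      smul_eq_mul, map_mul, map_inv₀, map_sub, map_one] at h1 h2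
    have h3 : B u y + φ ζ * φ ω * B x y = 0 := by
      rcases mul_eq_zero.mp h2 with h | h
      · exfalso
        rw [inv_eq_zero] at h
        exact hφω1 (by linear_combination -h)
      · exact h
    have h4 : B x y = 0 := by
      have h5 : (φ ζ * (1 - φ ω)) * B x y = 0 := by linear_combination h1 - h3
      rcases mul_eq_zero.mp h5 with h | h
      · exfalso
        rcases mul_eq_zero.mp h with h' | h'
        · exact hφζ0 h'
        · exact hφω1 (by linear_combination -h')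
      · exact h
    have h6 : B u y = 0 := by
      rw [h4, mul_zero, add_zero] at h1
      exact h1
    exact hfix y h6 h4
  obtain ⟨t, ht, htM⟩ := D2h φ hφq hφ hφ2 e f hee hff hef M hM hfix'
  exact ⟨t, TT_mono φ q hle ht, htM⟩

include hφq hφ hφ2 in
theorem PM (u x : Fin n → F) (huu : B u u = 1) (hxx : B x x = 1) (hux : B u x = 0) :
    ∃ t ∈ TT φ q (Submodule.span F {u, x}), t.mulVec u = x := by
  have hS := Bh_symm φ hφ2 n
  have hxu : B x u = 0 := by rw [← hS.eq u x, hux, map_zero]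
  obtain ⟨R, hR⟩ : ∃ R : Matrix (Fin n) (Fin n) F, R = 1 + Matrix.vecMulVec (u - x)
      (fun j => φ (x j)) + Matrix.vecMulVec (-x - u) (fun j => φ (u j)) := ⟨_, rfl⟩
  have hRy : ∀ y, R.mulVec y = y + (B x y) • (u - x) + (B u y) • (-x - u) := by
    intro y
    rw [hR]
    exact rank_two_mulVec φ _ _ _ _ y
  have hRx : R.mulVec x = u := by
    rw [hRy, hxx, hux, one_smul, zero_smul, add_zero]
    abel
  have hRSU : IsSUm φ R := by
    refine ⟨?_, fun y y' => ?_⟩
    · rw [hR, det_rank_two]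
      simp only [map_sub, map_neg, hxx, hxu, hux, huu]
      ring
    · rw [hRy, hRy]
      have e1 : B y u = φ (B u y) := (hS.eq u y).symm
      have e2 : B y x = φ (B x y) := (hS.eq x y).symm
      simp only [map_add, map_sub, map_neg, LinearMap.add_apply, LinearMap.sub_apply,
        LinearMap.neg_apply, LinearMap.map_smulₛₗ, LinearMap.smul_apply, map_smul, smul_eq_mul,
        huu, hxx, hux, hxu, e1, e2]
      ring
  have hRfix : ∀ y, B u y = 0 → B x y = 0 → R.mulVec y = y := by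
    intro y h1 h2
    rw [hRy, h1, h2, zero_smul, zero_smul, add_zero, add_zero]
  obtain ⟨t, ht, htR⟩ := D2 φ hφq hφ hφ2 u x huu hxx hux R hRSU hRfix
  refine ⟨t, ht, ?_⟩
  calc t.mulVec u = t.mulVec (R.mulVec x) := by rw [hRx]
    _ = x := by rw [Matrix.mulVec_mulVec, htR, Matrix.one_mulVec]

include hφq hφ hφ2 in
theorem CP (P : Submodule F (Fin n → F)) (u w x : Fin n → F) (hu : u ∈ P) (hw : w ∈ P)
    (hx : x ∈ P) (huu : B u u = 1) (hww : B w w = 1) (hxx : B x x = 1) (hux : B u x = 0)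
    (hwx : B w x = 0) : ∃ t ∈ TT φ q P, t.mulVec u = w := by
  have hS := Bh_symm φ hφ2 n
  have hxw : B x w = 0 := by rw [← hS.eq w x, hwx, map_zero]
  obtain ⟨t1, ht1, h1⟩ := PM φ hφq hφ hφ2 u x huu hxx hux
  obtain ⟨t2, ht2, h2⟩ := PM φ hφq hφ hφ2 x w hxx hww hxw
  refine ⟨t2 * t1, mul_mem (TT_mono φ q (Submodule.span_le.mpr ?_) ht2)
    (TT_mono φ q (Submodule.span_le.mpr ?_) ht1), ?_⟩
  · intro v hv
    simp only [Set.mem_insert_iff, Set.mem_singleton_iff] at hv
    rcases hv with rfl | rfl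
    · exact hx
    · exact hw
  · intro v hv
    simp only [Set.mem_insert_iff, Set.mem_singleton_iff] at hv
    rcases hv with rfl | rfl
    · exact hu
    · exact hx
  · rw [← Matrix.mulVec_mulVec, h1, h2]

end moves

section moves2

variable {F : Type*} [Field F] [Finite F] (φ : F →+* F) {n : ℕ} {q : ℕ}
  (hφq : ∀ a : F, φ a = a ^ q) (hφ : φ ≠ RingHom.id F) (hφ2 : ∀ a : F, φ (φ a) = a)

local notation "B" => Bh φ n

omit [Finite F] in
include hφq in
theorem EH (v r : Fin n → F) (s ρ : F) (hvv : B v v = 0) (hvr : B v r = 0)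
    (x : Fin n → F) (hx : B r x = 0) :
    (Cfsg.unitaryTransvection n q v s * Cfsg.unitaryTransvection n q (v + ρ • r) (-s)).mulVec x
      = x - (s * ρ * B v x) • r := by
  rw [← Matrix.mulVec_mulVec, tv_mulVec φ hφq, tv_mulVec φ hφq]
  simp only [map_add, LinearMap.add_apply, LinearMap.map_smulₛₗ, LinearMap.smul_apply, map_smul,
    smul_eq_mul, hvv, hvr, hx, mul_zero, add_zero]
  funext i
  simp only [Pi.add_apply, Pi.sub_apply, Pi.smul_apply, smul_eq_mul]
  ring

omit [Finite F] in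
include hφ2 in
theorem iso_add (v r : Fin n → F) (ρ : F) (hvv : B v v = 0) (hvr : B v r = 0) (hrr : B r r = 0) :
    B (v + ρ • r) (v + ρ • r) = 0 := by
  have hS := Bh_symm φ hφ2 n
  have hrv : B r v = 0 := by rw [← hS.eq v r, hvr, map_zero]
  simp only [map_add, LinearMap.add_apply, LinearMap.map_smulₛₗ, LinearMap.smul_apply, map_smul,
    smul_eq_mul, hvv, hvr, hrr, hrv, mul_zero, add_zero]

include hφq hφ hφ2 in
theorem EI (u1 u2 r : Fin n → F) (h11 : B u1 u1 = 1) (h22 : B u2 u2 = 1) (h12 : B u1 u2 = 0)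
    (hrr : B r r = 0) (h1r : B u1 r = 0) (h2r : B u2 r = 0) (γ : F) :
    ∃ t ∈ TT φ q (Submodule.span F {u1, u2, r}),
      t.mulVec u1 = u1 ∧ t.mulVec u2 = u2 + γ • r := by
  have hS := Bh_symm φ hφ2 n
  have h21 : B u2 u1 = 0 := by rw [← hS.eq u1 u2, h12, map_zero]
  have hr1 : B r u1 = 0 := by rw [← hS.eq u1 r, h1r, map_zero]
  have hr2 : B r u2 = 0 := by rw [← hS.eq u2 r, h2r, map_zero]
  obtain ⟨s, hs0, hs⟩ := exists_skew φ hφ hφ2
  obtain ⟨ζ, hζ⟩ := Cfsg.Agent.S0755.norm_surj φ hφ hφ2 (-1) (by rw [map_neg, map_one])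
    (neg_ne_zero.mpr one_ne_zero)
  obtain ⟨ω, hω1, hφω1, hω⟩ := exists_unit_norm φ hφ hφ2
  have hζ0 : ζ ≠ 0 := by
    rintro rfl
    simp at hζ
  have hφζ0 : φ ζ ≠ 0 := by rwa [Ne, map_eq_zero]
  obtain ⟨v1, hv1⟩ : ∃ v1, v1 = u1 + ζ • u2 := ⟨_, rfl⟩
  obtain ⟨v2, hv2⟩ : ∃ v2, v2 = u1 + (ζ * ω) • u2 := ⟨_, rfl⟩
  have hv1v1 : B v1 v1 = 0 := by
    rw [hv1]
    simp only [map_add, LinearMap.add_apply, LinearMap.map_smulₛₗ, LinearMap.smul_apply, map_smul,
      smul_eq_mul, h11, h22, h12, h21]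
    linear_combination hζ
  have hv2v2 : B v2 v2 = 0 := by
    rw [hv2]
    simp only [map_add, LinearMap.add_apply, LinearMap.map_smulₛₗ, LinearMap.smul_apply, map_smul,
      smul_eq_mul, h11, h22, h12, h21, map_mul]
    linear_combination (ω * φ ω) * hζ - hω
  have hv1r : B v1 r = 0 := by
    rw [hv1]
    simp only [map_add, LinearMap.add_apply, LinearMap.map_smulₛₗ, LinearMap.smul_apply,
      smul_eq_mul, h1r, h2r, mul_zero, add_zero]
  have hv2r : B v2 r = 0 := by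
    rw [hv2]
    simp only [map_add, LinearMap.add_apply, LinearMap.map_smulₛₗ, LinearMap.smul_apply,
      smul_eq_mul, h1r, h2r, mul_zero, add_zero]
  have hv1u1 : B v1 u1 = 1 := by
    rw [hv1]
    simp only [map_add, LinearMap.add_apply, LinearMap.map_smulₛₗ, LinearMap.smul_apply,
      smul_eq_mul, h11, h21, mul_zero, add_zero]
  have hv1u2 : B v1 u2 = φ ζ := by
    rw [hv1]
    simp only [map_add, LinearMap.add_apply, LinearMap.map_smulₛₗ, LinearMap.smul_apply,
      smul_eq_mul, h12, h22, mul_one, zero_add]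
  have hv2u1 : B v2 u1 = 1 := by
    rw [hv2]
    simp only [map_add, LinearMap.add_apply, LinearMap.map_smulₛₗ, LinearMap.smul_apply,
      smul_eq_mul, h11, h21, mul_zero, add_zero]
  have hv2u2 : B v2 u2 = φ ζ * φ ω := by
    rw [hv2]
    simp only [map_add, LinearMap.add_apply, LinearMap.map_smulₛₗ, LinearMap.smul_apply,
      smul_eq_mul, h12, h22, mul_one, zero_add, map_mul]
  have hu1 : u1 ∈ Submodule.span F {u1, u2, r} := Submodule.subset_span (by simp)
  have hu2 : u2 ∈ Submodule.span F {u1, u2, r} := Submodule.subset_span (by simp)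
  have hr : r ∈ Submodule.span F {u1, u2, r} := Submodule.subset_span (by simp)
  have hv1P : v1 ∈ Submodule.span F {u1, u2, r} := by
    rw [hv1]
    exact add_mem hu1 (Submodule.smul_mem _ _ hu2)
  have hv2P : v2 ∈ Submodule.span F {u1, u2, r} := by
    rw [hv2]
    exact add_mem hu1 (Submodule.smul_mem _ _ hu2)
  have hden : s * (φ ζ * (φ ω - 1)) ≠ 0 :=
    mul_ne_zero hs0 (mul_ne_zero hφζ0 (sub_ne_zero.mpr hφω1))
  obtain ⟨ρ, hρ⟩ : ∃ ρ, ρ = γ / (s * (φ ζ * (φ ω - 1))) := ⟨_, rfl⟩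
  have hsn : φ (-s) = -(-s) := by rw [map_neg, hs]
  have hE1 := EH φ hφq v1 r s ρ hv1v1 hv1r
  have hE2 := EH φ hφq v2 r s (-ρ) hv2v2 hv2r
  have hm1 : Cfsg.unitaryTransvection n q v1 s * Cfsg.unitaryTransvection n q (v1 + ρ • r) (-s)
      ∈ TT φ q (Submodule.span F {u1, u2, r}) :=
    mul_mem (tv_mem φ q _ v1 s hv1P hv1v1 hs)
      (tv_mem φ q _ _ (-s) (add_mem hv1P (Submodule.smul_mem _ _ hr))
        (iso_add φ hφ2 v1 r ρ hv1v1 hv1r hrr) hsn)
  have hm2 : Cfsg.unitaryTransvection n q v2 s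
      * Cfsg.unitaryTransvection n q (v2 + (-ρ) • r) (-s)
      ∈ TT φ q (Submodule.span F {u1, u2, r}) :=
    mul_mem (tv_mem φ q _ v2 s hv2P hv2v2 hs)
      (tv_mem φ q _ _ (-s) (add_mem hv2P (Submodule.smul_mem _ _ hr))
        (iso_add φ hφ2 v2 r (-ρ) hv2v2 hv2r hrr) hsn)
  refine ⟨_, mul_mem hm1 hm2, ?_, ?_⟩
  · rw [← Matrix.mulVec_mulVec, hE2 u1 hr1, hE1 _ (by
      simp only [map_sub, map_smul, smul_eq_mul, hr1, hrr, mul_zero, sub_zero])]
    simp only [map_sub, map_smul, smul_eq_mul, hv1u1, hv2u1, hv1r, mul_zero, sub_zero, mul_one]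
    funext i
    simp only [Pi.sub_apply, Pi.smul_apply, smul_eq_mul]
    ring
  · rw [← Matrix.mulVec_mulVec, hE2 u2 hr2, hE1 _ (by
      simp only [map_sub, map_smul, smul_eq_mul, hr2, hrr, mul_zero, sub_zero])]
    simp only [map_sub, map_smul, smul_eq_mul, hv1u2, hv2u2, hv1r, mul_zero, sub_zero]
    funext i
    simp only [Pi.sub_apply, Pi.add_apply, Pi.smul_apply, smul_eq_mul]
    rw [hρ]
    field_simp
    ring

omit [Finite F] in
theorem inv_add_inv_ne (a b : F) (ha : a ≠ 0) (hb : b ≠ 0) (h : a + b ≠ 0) : a⁻¹ + b⁻¹ ≠ 0 := by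
  rw [inv_add_inv ha hb]
  exact div_ne_zero h (mul_ne_zero ha hb)

omit [Finite F] in
include hφ2 in
theorem norm_inv (β : F) : φ ((φ β)⁻¹) * (φ β)⁻¹ = (β * φ β)⁻¹ := by
  rw [map_inv₀, hφ2, ← mul_inv]

omit [Finite F] in
include hφ hφ2 in
theorem CL3 (β1 β2 β3 : F) : ∃ ξ1 ξ2 ξ3 : F, ξ1 * φ β1 + ξ2 * φ β2 + ξ3 * φ β3 = 0 ∧
    φ ξ1 * ξ1 + φ ξ2 * ξ2 + φ ξ3 * ξ3 ≠ 0 := by
  by_cases h1 : β1 = 0
  · exact ⟨1, 0, 0, by simp [h1], by simp⟩
  by_cases h2 : β2 = 0
  · exact ⟨0, 1, 0, by simp [h2], by simp⟩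
  by_cases h3 : β3 = 0
  · exact ⟨0, 0, 1, by simp [h3], by simp⟩
  have hφ1 : φ β1 ≠ 0 := by rwa [Ne, map_eq_zero]
  have hφ2' : φ β2 ≠ 0 := by rwa [Ne, map_eq_zero]
  have hφ3 : φ β3 ≠ 0 := by rwa [Ne, map_eq_zero]
  have hN1 : β1 * φ β1 ≠ 0 := mul_ne_zero h1 hφ1
  have hN2 : β2 * φ β2 ≠ 0 := mul_ne_zero h2 hφ2'
  have hN3 : β3 * φ β3 ≠ 0 := mul_ne_zero h3 hφ3
  by_cases h12 : β1 * φ β1 + β2 * φ β2 = 0
  swap
  · refine ⟨(φ β1)⁻¹, -(φ β2)⁻¹, 0, ?_, ?_⟩
    · rw [inv_mul_cancel₀ hφ1, neg_mul, inv_mul_cancel₀ hφ2']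
      ring
    · rw [map_neg, neg_mul_neg, norm_inv φ hφ2, norm_inv φ hφ2, map_zero, zero_mul, add_zero]
      exact inv_add_inv_ne _ _ hN1 hN2 h12
  by_cases h13 : β1 * φ β1 + β3 * φ β3 = 0
  swap
  · refine ⟨(φ β1)⁻¹, 0, -(φ β3)⁻¹, ?_, ?_⟩
    · rw [inv_mul_cancel₀ hφ1, neg_mul, inv_mul_cancel₀ hφ3]
      ring
    · rw [map_neg, neg_mul_neg, norm_inv φ hφ2, norm_inv φ hφ2, map_zero, zero_mul, add_zero]
      exact inv_add_inv_ne _ _ hN1 hN3 h13
  by_cases h23 : β2 * φ β2 + β3 * φ β3 = 0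
  swap
  · refine ⟨0, (φ β2)⁻¹, -(φ β3)⁻¹, ?_, ?_⟩
    · rw [inv_mul_cancel₀ hφ2', neg_mul, inv_mul_cancel₀ hφ3]
      ring
    · rw [map_neg, neg_mul_neg, norm_inv φ hφ2, norm_inv φ hφ2, map_zero, zero_mul, zero_add]
      exact inv_add_inv_ne _ _ hN2 hN3 h23
  have h2F : (2 : F) = 0 := by
    have h : (2 : F) * (β1 * φ β1) = 0 := by linear_combination h12 + h13 - h23
    rcases mul_eq_zero.mp h with h | h
    · exact h
    · exact absurd h hN1
  obtain ⟨ε, hε⟩ := Cfsg.Agent.S0751.trace_surj φ hφ hφ2 1 (map_one φ)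
  have e2 : (β2 * φ β2)⁻¹ = -(β1 * φ β1)⁻¹ := by
    rw [show β2 * φ β2 = -(β1 * φ β1) by linear_combination h12, inv_neg]
  have e3 : (β3 * φ β3)⁻¹ = -(β1 * φ β1)⁻¹ := by
    rw [show β3 * φ β3 = -(β1 * φ β1) by linear_combination h13, inv_neg]
  refine ⟨(φ β1)⁻¹, ε * (φ β2)⁻¹, (1 + ε) * (φ β3)⁻¹, ?_, ?_⟩
  · rw [inv_mul_cancel₀ hφ1, mul_assoc, inv_mul_cancel₀ hφ2', mul_assoc, inv_mul_cancel₀ hφ3]
    linear_combination (1 + ε) * h2F
  · have k1 : φ (ε * (φ β2)⁻¹) * (ε * (φ β2)⁻¹) = φ ε * ε * (β2 * φ β2)⁻¹ := by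
      rw [← norm_inv φ hφ2, map_mul]
      ring
    have k2 : φ ((1 + ε) * (φ β3)⁻¹) * ((1 + ε) * (φ β3)⁻¹)
        = (1 + φ ε) * (1 + ε) * (β3 * φ β3)⁻¹ := by
      rw [← norm_inv φ hφ2, map_mul, map_add, map_one]
      ring
    rw [norm_inv φ hφ2, k1, k2, e2, e3]
    have k3 : (β1 * φ β1)⁻¹ + φ ε * ε * -(β1 * φ β1)⁻¹ + (1 + φ ε) * (1 + ε) * -(β1 * φ β1)⁻¹
        = -(β1 * φ β1)⁻¹ := by
      linear_combination (-(β1 * φ β1)⁻¹ * φ ε * ε) * h2F - (β1 * φ β1)⁻¹ * hε
    rw [k3]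
    exact neg_ne_zero.mpr (inv_ne_zero hN1)

include hφq hφ hφ2 in
theorem CPXa (P : Submodule F (Fin n → F)) (b : Fin 3 → Fin n → F)
    (hb : ∀ i j, B (b i) (b j) = if i = j then 1 else 0) (hbP : ∀ i, b i ∈ P)
    (α β1 β2 : F) (hw : φ α * α + φ β1 * β1 + φ β2 * β2 = 1)
    (hN : φ β1 * β1 + φ β2 * β2 ≠ 0) :
    ∃ t ∈ TT φ q P, t.mulVec (α • b 0 + β1 • b 1 + β2 • b 2) = b 0 := by
  obtain ⟨w, hwdef⟩ : ∃ w, w = α • b 0 + β1 • b 1 + β2 • b 2 := ⟨_, rfl⟩
  rw [← hwdef]
  obtain ⟨x0, hx0⟩ : ∃ x0, x0 = (φ β2) • b 1 - (φ β1) • b 2 := ⟨_, rfl⟩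
  have hx0x0 : B x0 x0 = φ β1 * β1 + φ β2 * β2 := by
    rw [hx0]
    simp only [map_sub, LinearMap.sub_apply, LinearMap.map_smulₛₗ, LinearMap.smul_apply, map_smul,
      smul_eq_mul, hb, hφ2, Fin.isValue, Fin.reduceEq, ↓reduceIte]
    ring
  obtain ⟨l, hl⟩ := scale φ hφ hφ2 x0 (by rw [hx0x0]; exact hN)
  have hww : B w w = 1 := by
    rw [hwdef]
    simp only [map_add, LinearMap.add_apply, LinearMap.map_smulₛₗ, LinearMap.smul_apply, map_smul,
      smul_eq_mul, hb, Fin.isValue, Fin.reduceEq, ↓reduceIte]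
    linear_combination hw
  have hwx : B w (l • x0) = 0 := by
    rw [hwdef, hx0]
    simp only [map_add, map_sub, LinearMap.add_apply, LinearMap.map_smulₛₗ, LinearMap.smul_apply,
      map_smul, smul_eq_mul, hb, Fin.isValue, Fin.reduceEq, ↓reduceIte]
    ring
  have hbx : B (b 0) (l • x0) = 0 := by
    rw [hx0]
    simp only [map_sub, map_smul, smul_eq_mul, hb, Fin.isValue, Fin.reduceEq, ↓reduceIte]
    ring
  have hwP : w ∈ P := by
    rw [hwdef]
    exact add_mem (add_mem (P.smul_mem _ (hbP 0)) (P.smul_mem _ (hbP 1))) (P.smul_mem _ (hbP 2))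
  have hxP : l • x0 ∈ P := by
    rw [hx0]
    exact P.smul_mem _ (sub_mem (P.smul_mem _ (hbP 1)) (P.smul_mem _ (hbP 2)))
  exact CP φ hφq hφ hφ2 P w (b 0) (l • x0) hwP (hbP 0) hxP hww (by simp [hb]) hl hwx hbx

include hφq hφ hφ2 in
theorem L4 (P : Submodule F (Fin n → F)) (b : Fin 4 → Fin n → F)
    (hb : ∀ i j, B (b i) (b j) = if i = j then 1 else 0) (hbP : ∀ i, b i ∈ P)
    (w : Fin n → F) (hwP : w ∈ P) (hww : B w w = 1) : ∃ t ∈ TT φ q P, t.mulVec w = b 0 := by
  have hS := Bh_symm φ hφ2 n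
  obtain ⟨ξ1, ξ2, ξ3, h1, h2⟩ := CL3 φ hφ hφ2 (B (b 1) w) (B (b 2) w) (B (b 3) w)
  obtain ⟨x0, hx0⟩ : ∃ x0, x0 = ξ1 • b 1 + ξ2 • b 2 + ξ3 • b 3 := ⟨_, rfl⟩
  have hx0x0 : B x0 x0 = φ ξ1 * ξ1 + φ ξ2 * ξ2 + φ ξ3 * ξ3 := by
    rw [hx0]
    simp only [map_add, LinearMap.add_apply, LinearMap.map_smulₛₗ, LinearMap.smul_apply, map_smul,
      smul_eq_mul, hb, Fin.isValue, Fin.reduceEq, ↓reduceIte]
    ring
  obtain ⟨l, hl⟩ := scale φ hφ hφ2 x0 (by rw [hx0x0]; exact h2)
  have hwx : B w (l • x0) = 0 := by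
    rw [hx0]
    simp only [map_add, map_smul, smul_eq_mul]
    rw [← hS.eq (b 1) w, ← hS.eq (b 2) w, ← hS.eq (b 3) w]
    linear_combination l * h1
  have hbx : B (b 0) (l • x0) = 0 := by
    rw [hx0]
    simp only [map_add, map_smul, smul_eq_mul, hb, Fin.isValue, Fin.reduceEq, ↓reduceIte]
    ring
  have hxP : l • x0 ∈ P := by
    rw [hx0]
    exact P.smul_mem _ (add_mem (add_mem (P.smul_mem _ (hbP 1)) (P.smul_mem _ (hbP 2)))
      (P.smul_mem _ (hbP 3)))
  exact CP φ hφq hφ hφ2 P w (b 0) (l • x0) hwP (hbP 0) hxP hww (by simp [hb]) hl hwx hbx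

omit [Finite F] in
include hφ hφ2 in
theorem FL3 (c : F) (hc0 : c ≠ 0) (hc1 : c * φ c ≠ 1) (β1 β2 : F) (hβ1 : β1 ≠ 0)
    (hN : φ β1 * β1 + φ β2 * β2 = 0) :
    ∃ ξ1 ξ2 : F, φ ξ1 * ξ1 + φ ξ2 * ξ2 = 1 ∧
      (ξ1 * β2 - ξ2 * β1) * φ (ξ1 * β2 - ξ2 * β1) ≠ -1 := by
  have hφβ1 : φ β1 ≠ 0 := by rwa [Ne, map_eq_zero]
  have hφc : φ c ≠ 0 := by rwa [Ne, map_eq_zero]
  obtain ⟨ν, hν⟩ : ∃ ν, ν = (β1 * φ β1)⁻¹ := ⟨_, rfl⟩
  have hνfix : φ ν = ν := by rw [hν, map_inv₀, map_mul, hφ2, mul_comm]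
  obtain ⟨a', ha'⟩ := Cfsg.Agent.S0751.trace_surj φ hφ hφ2 (1 - c * φ c * ν)
    (by rw [map_sub, map_one, map_mul, map_mul, hφ2, hνfix]; ring)
  refine ⟨φ a' / φ c * β1 + c / φ β1, φ a' / φ c * β2, ?_, ?_⟩
  · have e1 : φ (φ a' / φ c * β1 + c / φ β1) * (φ a' / φ c * β1 + c / φ β1)
        + φ (φ a' / φ c * β2) * (φ a' / φ c * β2)
        = (a' / c) * (φ a' / φ c) * (φ β1 * β1 + φ β2 * β2) + (a' + φ a') + c * φ c * ν := by
      rw [hν]
      simp only [map_add, map_mul, map_div₀, hφ2]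
      field_simp
      ring
    rw [e1, hN, ha']
    ring
  · have e2 : (φ a' / φ c * β1 + c / φ β1) * β2 - φ a' / φ c * β2 * β1 = c * β2 / φ β1 := by
      field_simp
      ring
    have e3 : c * β2 / φ β1 * φ (c * β2 / φ β1) = -(c * φ c) := by
      rw [map_div₀, map_mul, hφ2]
      field_simp
      first | linear_combination hN | linear_combination (c * φ c) * hN
    rw [e2, e3]
    intro h
    apply hc1
    linear_combination -h

include hφq hφ hφ2 in
theorem L3 (P : Submodule F (Fin n → F)) (b : Fin 3 → Fin n → F)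
    (hb : ∀ i j, B (b i) (b j) = if i = j then 1 else 0) (hbP : ∀ i, b i ∈ P)
    (hq3 : ∃ c : F, c ≠ 0 ∧ c * φ c ≠ 1)
    (α β1 β2 : F) (hw : φ α * α + φ β1 * β1 + φ β2 * β2 = 1) :
    ∃ t ∈ TT φ q P, t.mulVec (α • b 0 + β1 • b 1 + β2 • b 2) = b 0 := by
  have hS := Bh_symm φ hφ2 n
  by_cases hN : φ β1 * β1 + φ β2 * β2 = 0
  swap
  · exact CPXa φ hφq hφ hφ2 P b hb hbP α β1 β2 hw hN
  have hα : φ α * α = 1 := by linear_combination hw - hN
  by_cases hβ1 : β1 = 0
  · have hβ2 : β2 = 0 := by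
      rw [hβ1, map_zero, zero_mul, zero_add] at hN
      rcases mul_eq_zero.mp hN with h | h
      · exact (map_eq_zero φ).mp h
      · exact h
    rw [hβ1, hβ2, zero_smul, zero_smul, add_zero, add_zero]
    refine CP φ hφq hφ hφ2 P (α • b 0) (b 0) (b 1) (P.smul_mem _ (hbP 0)) (hbP 0) (hbP 1)
      ?_ (by simp [hb]) (by simp [hb]) ?_ (by simp [hb])
    · simp only [LinearMap.map_smulₛₗ, LinearMap.smul_apply, map_smul, smul_eq_mul, hb, Fin.isValue, Fin.reduceEq, ↓reduceIte]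
      linear_combination hα
    · simp only [LinearMap.map_smulₛₗ, LinearMap.smul_apply, smul_eq_mul, hb, Fin.isValue, Fin.reduceEq, ↓reduceIte]
      ring
  · obtain ⟨c, hc0, hc1⟩ := hq3
    obtain ⟨ξ1, ξ2, hξ, hκ⟩ := FL3 φ hφ hφ2 c hc0 hc1 β1 β2 hβ1 hN
    obtain ⟨w, hwdef⟩ : ∃ w, w = α • b 0 + β1 • b 1 + β2 • b 2 := ⟨_, rfl⟩
    rw [← hwdef]
    obtain ⟨y, hy⟩ : ∃ y, y = ξ1 • b 1 + ξ2 • b 2 := ⟨_, rfl⟩
    obtain ⟨y', hy'⟩ : ∃ y', y' = (-φ ξ2) • b 1 + (φ ξ1) • b 2 := ⟨_, rfl⟩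
    obtain ⟨κ, hκdef⟩ : ∃ κ, κ = ξ1 * β2 - ξ2 * β1 := ⟨_, rfl⟩
    rw [← hκdef] at hκ
    obtain ⟨x0, hx0⟩ : ∃ x0, x0 = (φ α) • y' - (φ κ) • b 0 := ⟨_, rfl⟩
    have hyy : B y y = 1 := by
      rw [hy]
      simp only [map_add, LinearMap.add_apply, LinearMap.map_smulₛₗ, LinearMap.smul_apply, map_smul,
        smul_eq_mul, hb, Fin.isValue, Fin.reduceEq, ↓reduceIte]
      linear_combination hξ
    have hww : B w w = 1 := by
      rw [hwdef]
      simp only [map_add, LinearMap.add_apply, LinearMap.map_smulₛₗ, LinearMap.smul_apply, map_smul,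
        smul_eq_mul, hb, Fin.isValue, Fin.reduceEq, ↓reduceIte]
      linear_combination hw
    have hwy' : B w y' = φ κ := by
      rw [hwdef, hy', hκdef]
      simp only [map_add, map_sub, map_neg, map_mul, LinearMap.add_apply, LinearMap.map_smulₛₗ,
        LinearMap.smul_apply, map_smul, smul_eq_mul, hb, Fin.isValue, Fin.reduceEq, ↓reduceIte]
      ring
    have hwb0 : B w (b 0) = φ α := by
      rw [hwdef]
      simp only [map_add, LinearMap.add_apply, LinearMap.map_smulₛₗ, LinearMap.smul_apply,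
        smul_eq_mul, hb, Fin.isValue, Fin.reduceEq, ↓reduceIte]
      ring
    have hy'y' : B y' y' = 1 := by
      rw [hy']
      simp only [map_add, map_neg, LinearMap.add_apply, LinearMap.map_smulₛₗ, LinearMap.smul_apply,
        map_smul, smul_eq_mul, hb, hφ2, Fin.isValue, Fin.reduceEq, ↓reduceIte]
      linear_combination hξ
    have hy'b0 : B y' (b 0) = 0 := by
      rw [hy']
      simp only [map_add, LinearMap.add_apply, LinearMap.map_smulₛₗ, LinearMap.smul_apply,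
        smul_eq_mul, hb, Fin.isValue, Fin.reduceEq, ↓reduceIte]
      ring
    have hb0y' : B (b 0) y' = 0 := by rw [← hS.eq, hy'b0, map_zero]
    have hyy' : B y y' = 0 := by
      rw [hy, hy']
      simp only [map_add, LinearMap.add_apply, LinearMap.map_smulₛₗ, LinearMap.smul_apply, map_smul,
        smul_eq_mul, hb, Fin.isValue, Fin.reduceEq, ↓reduceIte]
      ring
    have hyb0 : B y (b 0) = 0 := by
      rw [hy]
      simp only [map_add, LinearMap.add_apply, LinearMap.map_smulₛₗ, LinearMap.smul_apply,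
        smul_eq_mul, hb, Fin.isValue, Fin.reduceEq, ↓reduceIte]
      ring
    have hx0x0 : B x0 x0 = 1 + κ * φ κ := by
      rw [hx0]
      simp only [map_sub, LinearMap.sub_apply, LinearMap.map_smulₛₗ, LinearMap.smul_apply, map_smul,
        smul_eq_mul, hy'y', hy'b0, hb0y', hb, hφ2, Fin.isValue, Fin.reduceEq, ↓reduceIte]
      linear_combination hα
    have hx0ne : B x0 x0 ≠ 0 := by
      rw [hx0x0]
      intro h
      apply hκ
      linear_combination h
    obtain ⟨l, hl⟩ := scale φ hφ hφ2 x0 hx0ne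
    have hwx : B w (l • x0) = 0 := by
      rw [hx0]
      simp only [map_sub, map_smul, smul_eq_mul, hwy', hwb0]
      ring
    have hyx : B y (l • x0) = 0 := by
      rw [hx0]
      simp only [map_sub, map_smul, smul_eq_mul, hyy', hyb0]
      ring
    have hwP : w ∈ P := by
      rw [hwdef]
      exact add_mem (add_mem (P.smul_mem _ (hbP 0)) (P.smul_mem _ (hbP 1))) (P.smul_mem _ (hbP 2))
    have hyP : y ∈ P := by
      rw [hy]
      exact add_mem (P.smul_mem _ (hbP 1)) (P.smul_mem _ (hbP 2))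
    have hy'P : y' ∈ P := by
      rw [hy']
      exact add_mem (P.smul_mem _ (hbP 1)) (P.smul_mem _ (hbP 2))
    have hxP : l • x0 ∈ P := by
      rw [hx0]
      exact P.smul_mem _ (sub_mem (P.smul_mem _ hy'P) (P.smul_mem _ (hbP 0)))
    obtain ⟨t1, ht1, h1⟩ := CP φ hφq hφ hφ2 P w y (l • x0) hwP hyP hxP hww hyy hl hwx hyx
    obtain ⟨t2, ht2, h2⟩ := PM φ hφq hφ hφ2 y (b 0) hyy (by simp [hb]) hyb0
    refine ⟨t2 * t1, mul_mem (TT_mono φ q (Submodule.span_le.mpr ?_) ht2) ht1, ?_⟩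
    · intro v hv
      simp only [Set.mem_insert_iff, Set.mem_singleton_iff] at hv
      rcases hv with rfl | rfl
      · exact hyP
      · exact hbP 0
    · rw [← Matrix.mulVec_mulVec, h1, h2]

include hφq hφ hφ2 in
theorem T42 (P : Submodule F (Fin n → F)) (b : Fin 4 → Fin n → F)
    (hb : ∀ i j, B (b i) (b j) = if i = j then 1 else 0) (hbP : ∀ i, b i ∈ P)
    (α β1 β2 : F) (hw : φ α * α + φ β1 * β1 + φ β2 * β2 = 1) :
    ∃ t ∈ TT φ q P, t.mulVec (b 0) = b 0 ∧
      t.mulVec (α • b 1 + β1 • b 2 + β2 • b 3) = b 1 := by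
  have hS := Bh_symm φ hφ2 n
  by_cases hN : φ β1 * β1 + φ β2 * β2 = 0
  swap
  · obtain ⟨t, ht, h⟩ := CPXa φ hφq hφ hφ2 (Submodule.span F {b 1, b 2, b 3}) ![b 1, b 2, b 3]
      (by intro i j; fin_cases i <;> fin_cases j <;> simp [hb])
      (by intro i; fin_cases i <;> exact Submodule.subset_span (by simp)) α β1 β2 hw hN
    refine ⟨t, TT_mono φ q (Submodule.span_le.mpr ?_) ht, ?_, ?_⟩
    · intro v hv
      simp only [Set.mem_insert_iff, Set.mem_singleton_iff] at hv
      rcases hv with rfl | rfl | rfl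
      · exact hbP 1
      · exact hbP 2
      · exact hbP 3
    · apply TT_fix φ hφq _ ht
      apply perp_span
      intro v hv
      simp only [Set.mem_insert_iff, Set.mem_singleton_iff] at hv
      rcases hv with rfl | rfl | rfl <;> simp [hb]
    · simpa using h
  · have hα : φ α * α = 1 := by linear_combination hw - hN
    obtain ⟨w, hwdef⟩ : ∃ w, w = α • b 1 + β1 • b 2 + β2 • b 3 := ⟨_, rfl⟩
    rw [← hwdef]
    obtain ⟨r, hr⟩ : ∃ r, r = β1 • b 2 + β2 • b 3 := ⟨_, rfl⟩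
    have hww : B w w = 1 := by
      rw [hwdef]
      simp only [map_add, LinearMap.add_apply, LinearMap.map_smulₛₗ, LinearMap.smul_apply, map_smul,
        smul_eq_mul, hb, Fin.isValue, Fin.reduceEq, ↓reduceIte]
      linear_combination hw
    have hrr : B r r = 0 := by
      rw [hr]
      simp only [map_add, LinearMap.add_apply, LinearMap.map_smulₛₗ, LinearMap.smul_apply, map_smul,
        smul_eq_mul, hb, Fin.isValue, Fin.reduceEq, ↓reduceIte]
      linear_combination hN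
    have h0w : B (b 0) w = 0 := by
      rw [hwdef]
      simp only [map_add, map_smul, smul_eq_mul, hb, Fin.isValue, Fin.reduceEq, ↓reduceIte]
      ring
    have h0r : B (b 0) r = 0 := by
      rw [hr]
      simp only [map_add, map_smul, smul_eq_mul, hb, Fin.isValue, Fin.reduceEq, ↓reduceIte]
      ring
    have hwr : B w r = 0 := by
      rw [hwdef, hr]
      simp only [map_add, LinearMap.add_apply, LinearMap.map_smulₛₗ, LinearMap.smul_apply, map_smul,
        smul_eq_mul, hb, Fin.isValue, Fin.reduceEq, ↓reduceIte]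
      linear_combination hN
    obtain ⟨t1, ht1, h1a, h1b⟩ := EI φ hφq hφ hφ2 (b 0) w r (by simp [hb]) hww h0w hrr h0r hwr (-1)
    have h1b' : t1.mulVec w = α • b 1 := by
      rw [h1b, hwdef, hr]
      funext i
      simp only [Pi.add_apply, Pi.smul_apply, smul_eq_mul]
      ring
    obtain ⟨t2, ht2, h2⟩ := CP φ hφq hφ hφ2 (Submodule.span F {b 1, b 2}) (α • b 1) (b 1) (b 2)
      (Submodule.smul_mem _ _ (Submodule.subset_span (by simp))) (Submodule.subset_span (by simp))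
      (Submodule.subset_span (by simp))
      (by
        simp only [LinearMap.map_smulₛₗ, LinearMap.smul_apply, map_smul, smul_eq_mul, hb, Fin.isValue, Fin.reduceEq, ↓reduceIte]
        linear_combination hα)
      (by simp [hb]) (by simp [hb])
      (by
        simp only [LinearMap.map_smulₛₗ, LinearMap.smul_apply, smul_eq_mul, hb]
        simp)
      (by simp [hb])
    have hwP : w ∈ P := by
      rw [hwdef]
      exact add_mem (add_mem (P.smul_mem _ (hbP 1)) (P.smul_mem _ (hbP 2))) (P.smul_mem _ (hbP 3))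
    have hrP : r ∈ P := by
      rw [hr]
      exact add_mem (P.smul_mem _ (hbP 2)) (P.smul_mem _ (hbP 3))
    refine ⟨t2 * t1, mul_mem (TT_mono φ q (Submodule.span_le.mpr ?_) ht2)
      (TT_mono φ q (Submodule.span_le.mpr ?_) ht1), ?_, ?_⟩
    · intro v hv
      simp only [Set.mem_insert_iff, Set.mem_singleton_iff] at hv
      rcases hv with rfl | rfl
      · exact hbP 1
      · exact hbP 2
    · intro v hv
      simp only [Set.mem_insert_iff, Set.mem_singleton_iff] at hv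
      rcases hv with rfl | rfl | rfl
      · exact hbP 0
      · exact hwP
      · exact hrP
    · rw [← Matrix.mulVec_mulVec, h1a]
      apply TT_fix φ hφq _ ht2
      apply perp_span
      intro v hv
      simp only [Set.mem_insert_iff, Set.mem_singleton_iff] at hv
      rcases hv with rfl | rfl <;> simp [hb]
    · rw [← Matrix.mulVec_mulVec, h1b', h2]

end moves2

section main

variable {F : Type*} [Field F] [Fintype F] (φ : F →+* F) {n : ℕ} {q : ℕ}
  (hφq : ∀ a : F, φ a = a ^ q) (hφ : φ ≠ RingHom.id F) (hφ2 : ∀ a : F, φ (φ a) = a)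

local notation "B" => Bh φ n

/-- standard basis vector -/
def ee (i : Fin n) : Fin n → F := Pi.single i 1

omit [Fintype F] in
theorem B_ee_left (i : Fin n) (x : Fin n → F) : B (ee i) x = x i := by
  rw [Bh_apply]
  simp [hf, ee, Pi.single_apply, apply_ite φ]

omit [Fintype F] in
theorem B_ee_right (i : Fin n) (x : Fin n → F) : B x (ee i) = φ (x i) := by
  rw [Bh_apply]
  simp [hf, ee, Pi.single_apply]

omit [Fintype F] in
theorem B_ee_ee (i j : Fin n) : B (ee i) (ee j) = if i = j then 1 else 0 := by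
  rw [B_ee_left]
  simp [ee, Pi.single_apply]

/-- vectors supported on `S` -/
def PS (S : Finset (Fin n)) : Submodule F (Fin n → F) where
  carrier := {x | ∀ i, i ∉ S → x i = 0}
  add_mem' := by
    intro a b ha hb i hi
    simp [ha i hi, hb i hi]
  zero_mem' := by
    intro i _
    rfl
  smul_mem' := by
    intro c x hx i hi
    simp [hx i hi]

omit [Fintype F] in
theorem ee_mem_PS (S : Finset (Fin n)) (i : Fin n) (hi : i ∈ S) : (ee i : Fin n → F) ∈ PS S := by
  intro j hj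
  have hne : j ≠ i := by
    rintro rfl
    exact hj hi
  simp [ee, Pi.single_apply, hne]

omit [Fintype F] in
theorem PS_mono {S S' : Finset (Fin n)} (h : S ⊆ S') : PS (F := F) S ≤ PS S' :=
  fun _ hx i hi => hx i (fun h' => hi (h h'))

omit [Fintype F] in
theorem fix_supp (S : Finset (Fin n)) (M : Matrix (Fin n) (Fin n) F)
    (hM : ∀ i, i ∉ S → M.mulVec (ee i) = ee i) (y : Fin n → F) (hy : ∀ i, i ∈ S → y i = 0) :
    M.mulVec y = y := by
  funext j
  simp only [Matrix.mulVec, dotProduct]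
  have h1 : ∀ i, M j i * y i = if j = i then y i else 0 := by
    intro i
    by_cases hi : i ∈ S
    · rw [hy i hi]
      simp
    · have h2 := congrFun (hM i hi) j
      rw [ee, Matrix.mulVec_single_one] at h2
      simp only [Matrix.col_apply, Pi.single_apply] at h2
      rw [h2]
      split_ifs <;> simp
  simp only [h1, Finset.sum_ite_eq, Finset.mem_univ, if_true]

omit [Fintype F] in
theorem col_supp (S : Finset (Fin n)) (M : Matrix (Fin n) (Fin n) F) (hMSU : IsSUm φ M)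
    (hM : ∀ i, i ∉ S → M.mulVec (ee i) = ee i) (j : Fin n) (hj : j ∈ S) :
    M.mulVec (ee j) ∈ PS S := by
  intro i hi
  have h := hMSU.2 (ee i) (ee j)
  rw [hM i hi, B_ee_left, B_ee_ee] at h
  rw [h, if_neg]
  rintro rfl
  exact hi hj

omit [Fintype F] in
theorem expand3 (i0 i1 i2 : Fin n) (h01 : i0 ≠ i1) (h02 : i0 ≠ i2) (h12 : i1 ≠ i2)
    (x : Fin n → F) (hx : ∀ i, i ≠ i0 → i ≠ i1 → i ≠ i2 → x i = 0) :
    x = x i0 • ee i0 + x i1 • ee i1 + x i2 • ee i2 := by
  funext j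
  simp only [Pi.add_apply, Pi.smul_apply, smul_eq_mul, ee, Pi.single_apply]
  by_cases hj0 : j = i0
  · subst hj0
    simp [h01, h02]
  by_cases hj1 : j = i1
  · subst hj1
    simp [h01.symm, h12]
  by_cases hj2 : j = i2
  · subst hj2
    simp [h02.symm, h12.symm]
  · simp [hj0, hj1, hj2, hx j hj0 hj1 hj2]

omit [Fintype F] in
theorem orth3 (i0 i1 i2 : Fin n) (h01 : i0 ≠ i1) (h02 : i0 ≠ i2) (h12 : i1 ≠ i2) :
    ∀ i j : Fin 3, B ((![ee i0, ee i1, ee i2] : Fin 3 → Fin n → F) i)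
      ((![ee i0, ee i1, ee i2] : Fin 3 → Fin n → F) j) = if i = j then 1 else 0 := by
  intro i j
  fin_cases i <;> fin_cases j <;>
    simp [B_ee_ee, h01, h02, h12, h01.symm, h02.symm, h12.symm]

omit [Fintype F] in
theorem orth4 (i0 i1 i2 i3 : Fin n) (h01 : i0 ≠ i1) (h02 : i0 ≠ i2) (h03 : i0 ≠ i3)
    (h12 : i1 ≠ i2) (h13 : i1 ≠ i3) (h23 : i2 ≠ i3) :
    ∀ i j : Fin 4, B ((![ee i0, ee i1, ee i2, ee i3] : Fin 4 → Fin n → F) i)
      ((![ee i0, ee i1, ee i2, ee i3] : Fin 4 → Fin n → F) j) = if i = j then 1 else 0 := by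
  intro i j
  fin_cases i <;> fin_cases j <;>
    simp [B_ee_ee, h01, h02, h03, h12, h13, h23, h01.symm, h02.symm, h03.symm, h12.symm,
      h13.symm, h23.symm]

include hφq in
theorem exists_norm_ne_one (hF : Fintype.card F = q ^ 2) (hq : 3 ≤ q) :
    ∃ c : F, c ≠ 0 ∧ c * φ c ≠ 1 := by
  classical
  obtain ⟨g, hg⟩ := IsCyclic.exists_generator (α := Fˣ)
  have hord : orderOf g = q ^ 2 - 1 := by
    rw [orderOf_eq_card_of_forall_mem_zpowers hg, Nat.card_eq_fintype_card, Fintype.card_units, hF]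
  refine ⟨(g : F), g.ne_zero, ?_⟩
  intro h
  rw [hφq, ← pow_succ'] at h
  have h2 : g ^ (q + 1) = 1 := Units.ext (by simpa using h)
  have h3 := orderOf_dvd_of_pow_eq_one h2
  rw [hord] at h3
  have h5 : q ^ 2 ≥ 3 * q := by nlinarith
  have h4 := Nat.le_of_dvd (by omega) h3
  generalize q ^ 2 = Q at h4 h5
  omega

include hφq hφ hφ2 in
theorem main (hq3 : 3 ≤ q → ∃ c : F, c ≠ 0 ∧ c * φ c ≠ 1) :
    ∀ m (S : Finset (Fin n)), S.card = m → (m = 3 → 3 ≤ q) →
      ∀ M : Matrix (Fin n) (Fin n) F, IsSUm φ M → (∀ i, i ∉ S → M.mulVec (ee i) = ee i) →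
      ∃ t ∈ TT φ q (PS S), t * M = 1 := by
  intro m
  induction m using Nat.strong_induction_on with
  | _ m ih =>
  intro S hS hm3 M hM hfix
  have step : ∀ (i0 : Fin n), i0 ∈ S → ∀ t1 ∈ TT φ q (PS S),
      t1.mulVec (M.mulVec (ee i0)) = ee i0 →
      (IsSUm φ (t1 * M) ∧ ∀ i, i ∉ S.erase i0 → (t1 * M).mulVec (ee i) = ee i) := by
    intro i0 hi0 t1 ht1 h1
    refine ⟨(TT_isSUm φ hφq hφ2 _ ht1).mul φ hM, fun i hi => ?_⟩
    rw [← Matrix.mulVec_mulVec]
    by_cases hii : i = i0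
    · rw [hii, h1]
    · have hiS : i ∉ S := fun h => hi (Finset.mem_erase.mpr ⟨hii, h⟩)
      rw [hfix i hiS]
      exact TT_fix φ hφq _ ht1 _ (fun v hv => by rw [B_ee_right, hv i hiS, map_zero])
  have hnorm : ∀ i, B (M.mulVec (ee i)) (M.mulVec (ee i)) = 1 := by
    intro i
    rw [hM.2, B_ee_ee, if_pos rfl]
  have first4 : ∀ i0 i1 i2 i3 : Fin n, i0 ∈ S → i1 ∈ S → i2 ∈ S → i3 ∈ S → i0 ≠ i1 → i0 ≠ i2 →
      i0 ≠ i3 → i1 ≠ i2 → i1 ≠ i3 → i2 ≠ i3 →
      ∃ t1 ∈ TT φ q (PS S), t1.mulVec (M.mulVec (ee i0)) = ee i0 := by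
    intro i0 i1 i2 i3 hi0 hi1 hi2 hi3 h01 h02 h03 h12 h13 h23
    obtain ⟨t1, ht1, h1⟩ := L4 φ hφq hφ hφ2 (PS S) ![ee i0, ee i1, ee i2, ee i3]
      (orth4 φ i0 i1 i2 i3 h01 h02 h03 h12 h13 h23)
      (by
        intro i
        fin_cases i
        · exact ee_mem_PS _ _ hi0
        · exact ee_mem_PS _ _ hi1
        · exact ee_mem_PS _ _ hi2
        · exact ee_mem_PS _ _ hi3)
      (M.mulVec (ee i0)) (col_supp φ S M hM hfix i0 hi0) (hnorm i0)
    exact ⟨t1, ht1, h1⟩
  obtain _ | _ | _ | _ | _ | m := m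
  · -- no free coordinate
    refine ⟨1, one_mem _, ?_⟩
    rw [one_mul]
    apply mat_ext'
    intro y
    rw [Matrix.one_mulVec]
    apply fix_supp S M hfix
    intro i hi
    rw [Finset.card_eq_zero.mp hS] at hi
    exact absurd hi (Finset.notMem_empty i)
  · -- one free coordinate
    obtain ⟨i0, rfl⟩ := Finset.card_eq_one.mp hS
    refine ⟨1, one_mem _, ?_⟩
    rw [one_mul]
    have hcol := col_supp φ {i0} M hM hfix i0 (Finset.mem_singleton_self i0)
    have hMij : ∀ i j, i ≠ j → M i j = 0 := by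
      intro i j hij
      by_cases hj : j = i0
      · subst hj
        have h2 := hcol i (by simpa using hij)
        rw [ee, Matrix.mulVec_single_one] at h2
        simpa [Matrix.col_apply] using h2
      · have h2 := congrFun (hfix j (by simpa using hj)) i
        rw [ee, Matrix.mulVec_single_one] at h2
        simp only [Matrix.col_apply, Pi.single_apply] at h2
        rw [h2, if_neg hij]
    have hMii : ∀ i, i ≠ i0 → M i i = 1 := by
      intro i hi
      have h2 := congrFun (hfix i (by simpa using hi)) i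
      rw [ee, Matrix.mulVec_single_one] at h2
      simpa [Matrix.col_apply] using h2
    have hMd : M = Matrix.diagonal (fun i => M i i) := by
      ext i j
      by_cases hij : i = j
      · subst hij
        simp
      · rw [Matrix.diagonal_apply_ne _ hij, hMij i j hij]
    have hdet := hM.1
    rw [hMd, Matrix.det_diagonal] at hdet
    have hprod : ∏ i, M i i = M i0 i0 :=
      Finset.prod_eq_single i0 (fun i _ hi => hMii i hi)
        (fun h => absurd (Finset.mem_univ i0) h)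
    rw [hprod] at hdet
    rw [hMd]
    ext i j
    by_cases hij : i = j
    · subst hij
      rw [Matrix.diagonal_apply_eq, Matrix.one_apply_eq]
      by_cases hi : i = i0
      · rw [hi, hdet]
      · exact hMii i hi
    · rw [Matrix.diagonal_apply_ne _ hij, Matrix.one_apply_ne hij]
  · -- two free coordinates
    obtain ⟨i0, i1, h01, rfl⟩ := Finset.card_eq_two.mp hS
    obtain ⟨t, ht, htM⟩ := D2 φ hφq hφ hφ2 (ee i0) (ee i1) (by rw [B_ee_ee, if_pos rfl])
      (by rw [B_ee_ee, if_pos rfl]) (by rw [B_ee_ee, if_neg h01]) M hM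
      (by
        intro y h1 h2
        rw [B_ee_left] at h1 h2
        apply fix_supp {i0, i1} M hfix
        intro i hi
        simp only [Finset.mem_insert, Finset.mem_singleton] at hi
        rcases hi with rfl | rfl
        · exact h1
        · exact h2)
    refine ⟨t, TT_mono φ q (Submodule.span_le.mpr ?_) ht, htM⟩
    intro v hv
    simp only [Set.mem_insert_iff, Set.mem_singleton_iff] at hv
    rcases hv with rfl | rfl
    · exact ee_mem_PS _ _ (by simp)
    · exact ee_mem_PS _ _ (by simp)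
  · -- three free coordinates
    obtain ⟨i0, i1, i2, h01, h02, h12, rfl⟩ := Finset.card_eq_three.mp hS
    have hi0 : i0 ∈ ({i0, i1, i2} : Finset (Fin n)) := by simp
    obtain ⟨w, hw⟩ : ∃ w, w = M.mulVec (ee i0) := ⟨_, rfl⟩
    have hwPS : w ∈ PS {i0, i1, i2} := by
      rw [hw]
      exact col_supp φ _ M hM hfix i0 hi0
    have hwexp := expand3 i0 i1 i2 h01 h02 h12 w (by
      intro i a b c
      exact hwPS i (by simp [a, b, c]))
    have hww : B w w = 1 := by
      rw [hw]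
      exact hnorm i0
    obtain ⟨b, hbdef⟩ : ∃ b : Fin 3 → Fin n → F, b = ![ee i0, ee i1, ee i2] := ⟨_, rfl⟩
    have hb : ∀ i j, B (b i) (b j) = if i = j then 1 else 0 := by
      rw [hbdef]
      exact orth3 φ i0 i1 i2 h01 h02 h12
    have hbP : ∀ i, b i ∈ PS ({i0, i1, i2} : Finset (Fin n)) := by
      intro i
      rw [hbdef]
      fin_cases i <;> exact ee_mem_PS _ _ (by simp)
    have hwexp' : w = w i0 • b 0 + w i1 • b 1 + w i2 • b 2 := by
      rw [hbdef]
      exact hwexp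
    have hnw : φ (w i0) * w i0 + φ (w i1) * w i1 + φ (w i2) * w i2 = 1 := by
      have h := hww
      rw [hwexp'] at h
      simp only [map_add, LinearMap.add_apply, LinearMap.map_smulₛₗ, LinearMap.smul_apply, map_smul,
        smul_eq_mul, hb, Fin.isValue, Fin.reduceEq, ↓reduceIte] at h
      linear_combination h
    obtain ⟨t1, ht1, h1⟩ := L3 φ hφq hφ hφ2 (PS {i0, i1, i2}) b hb hbP (hq3 (hm3 rfl))
      (w i0) (w i1) (w i2) hnw
    have h1' : t1.mulVec (M.mulVec (ee i0)) = ee i0 := by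
      rw [← hw, hwexp', h1, hbdef]
      rfl
    obtain ⟨hM1, hM1fix⟩ := step i0 hi0 t1 ht1 h1'
    obtain ⟨t2, ht2, h2⟩ := ih 2 (by omega) (({i0, i1, i2} : Finset (Fin n)).erase i0)
      (by rw [Finset.card_erase_of_mem hi0, hS]) (by omega) (t1 * M) hM1 hM1fix
    refine ⟨t2 * t1, mul_mem (TT_mono φ q (PS_mono (Finset.erase_subset _ _)) ht2) ht1, ?_⟩
    rw [Matrix.mul_assoc, h2]
  · -- four free coordinates
    have hne : S.Nonempty := by
      rw [← Finset.card_pos, hS]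
      omega
    obtain ⟨i0, hi0⟩ := hne
    have hcard1 : (S.erase i0).card = 3 := by rw [Finset.card_erase_of_mem hi0, hS]
    obtain ⟨i1, i2, i3, h12, h13, h23, hS1⟩ := Finset.card_eq_three.mp hcard1
    have hi1 : i1 ∈ S.erase i0 := by
      rw [hS1]
      simp
    have hi2 : i2 ∈ S.erase i0 := by
      rw [hS1]
      simp
    have hi3 : i3 ∈ S.erase i0 := by
      rw [hS1]
      simp
    have h01 : i0 ≠ i1 := (Finset.ne_of_mem_erase hi1).symm
    have h02 : i0 ≠ i2 := (Finset.ne_of_mem_erase hi2).symm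
    have h03 : i0 ≠ i3 := (Finset.ne_of_mem_erase hi3).symm
    obtain ⟨t1, ht1, h1'⟩ := first4 i0 i1 i2 i3 hi0 (Finset.mem_of_mem_erase hi1)
      (Finset.mem_of_mem_erase hi2) (Finset.mem_of_mem_erase hi3) h01 h02 h03 h12 h13 h23
    obtain ⟨hM1, hM1fix⟩ := step i0 hi0 t1 ht1 h1'
    obtain ⟨b, hbdef⟩ : ∃ b : Fin 4 → Fin n → F, b = ![ee i0, ee i1, ee i2, ee i3] := ⟨_, rfl⟩
    have hb : ∀ i j, B (b i) (b j) = if i = j then 1 else 0 := by
      rw [hbdef]
      exact orth4 φ i0 i1 i2 i3 h01 h02 h03 h12 h13 h23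
    have hbP : ∀ i, b i ∈ PS S := by
      intro i
      rw [hbdef]
      fin_cases i
      · exact ee_mem_PS _ _ hi0
      · exact ee_mem_PS _ _ (Finset.mem_of_mem_erase hi1)
      · exact ee_mem_PS _ _ (Finset.mem_of_mem_erase hi2)
      · exact ee_mem_PS _ _ (Finset.mem_of_mem_erase hi3)
    obtain ⟨w, hw⟩ : ∃ w, w = (t1 * M).mulVec (ee i1) := ⟨_, rfl⟩
    have hwPS : w ∈ PS (S.erase i0) := by
      rw [hw]
      exact col_supp φ _ _ hM1 hM1fix i1 hi1
    have hwexp := expand3 i1 i2 i3 h12 h13 h23 w (by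
      intro i a b c
      exact hwPS i (by
        rw [hS1]
        simp [a, b, c]))
    have hww : B w w = 1 := by rw [hw, hM1.2, B_ee_ee, if_pos rfl]
    have hwexp' : w = w i1 • b 1 + w i2 • b 2 + w i3 • b 3 := by
      rw [hbdef]
      exact hwexp
    have hnw : φ (w i1) * w i1 + φ (w i2) * w i2 + φ (w i3) * w i3 = 1 := by
      have h := hww
      rw [hwexp'] at h
      simp only [map_add, LinearMap.add_apply, LinearMap.map_smulₛₗ, LinearMap.smul_apply, map_smul,
        smul_eq_mul, hb, Fin.isValue, Fin.reduceEq, ↓reduceIte] at h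
      linear_combination h
    obtain ⟨t2, ht2, h2a, h2b⟩ := T42 φ hφq hφ hφ2 (PS S) b hb hbP (w i1) (w i2) (w i3) hnw
    rw [← hwexp'] at h2b
    have hb0 : b 0 = ee i0 := by
      rw [hbdef]
      rfl
    have hb1 : b 1 = ee i1 := by
      rw [hbdef]
      rfl
    rw [hb0] at h2a
    rw [hb1] at h2b
    have hM2 : IsSUm φ (t2 * (t1 * M)) := (TT_isSUm φ hφq hφ2 _ ht2).mul φ hM1
    have hM2fix : ∀ i, i ∉ (S.erase i0).erase i1 → (t2 * (t1 * M)).mulVec (ee i) = ee i := by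
      intro i hi
      rw [← Matrix.mulVec_mulVec]
      by_cases hii1 : i = i1
      · rw [hii1, ← hw, h2b]
      · have hiS1 : i ∉ S.erase i0 := fun h => hi (Finset.mem_erase.mpr ⟨hii1, h⟩)
        rw [hM1fix i hiS1]
        by_cases hii0 : i = i0
        · rw [hii0]
          exact h2a
        · have hiS : i ∉ S := fun h => hiS1 (Finset.mem_erase.mpr ⟨hii0, h⟩)
          exact TT_fix φ hφq _ ht2 _ (fun v hv => by rw [B_ee_right, hv i hiS, map_zero])
    obtain ⟨t3, ht3, h3⟩ := ih 2 (by omega) ((S.erase i0).erase i1)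
      (by rw [Finset.card_erase_of_mem hi1, hcard1]) (by omega) _ hM2 hM2fix
    refine ⟨t3 * (t2 * t1), mul_mem (TT_mono φ q (PS_mono ((Finset.erase_subset _ _).trans
      (Finset.erase_subset _ _))) ht3) (mul_mem ht2 ht1), ?_⟩
    rw [Matrix.mul_assoc, Matrix.mul_assoc, h3]
  · -- at least five free coordinates
    have hne : S.Nonempty := by
      rw [← Finset.card_pos, hS]
      omega
    obtain ⟨i0, hi0⟩ := hne
    have hcard1 : (S.erase i0).card = m + 4 := by rw [Finset.card_erase_of_mem hi0, hS]; rfl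
    obtain ⟨i1, i2, i3, hi1, hi2, hi3, h12, h13, h23⟩ :=
      Finset.two_lt_card_iff.mp (by rw [hcard1]; omega : 2 < (S.erase i0).card)
    have h01 : i0 ≠ i1 := (Finset.ne_of_mem_erase hi1).symm
    have h02 : i0 ≠ i2 := (Finset.ne_of_mem_erase hi2).symm
    have h03 : i0 ≠ i3 := (Finset.ne_of_mem_erase hi3).symm
    obtain ⟨t1, ht1, h1'⟩ := first4 i0 i1 i2 i3 hi0 (Finset.mem_of_mem_erase hi1)
      (Finset.mem_of_mem_erase hi2) (Finset.mem_of_mem_erase hi3) h01 h02 h03 h12 h13 h23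
    obtain ⟨hM1, hM1fix⟩ := step i0 hi0 t1 ht1 h1'
    obtain ⟨t2, ht2, h2⟩ := ih (m + 4) (by omega) (S.erase i0) hcard1 (by omega) (t1 * M) hM1
      hM1fix
    exact ⟨t2 * t1, mul_mem (TT_mono φ q (PS_mono (Finset.erase_subset _ _)) ht2) ht1,
      by rw [Matrix.mul_assoc, h2]⟩

end main

/-- Generation of SU_n(q), n ≥ 3, (n, q) ≠ (3, 2), by unitary transvections: the subgroup generated by the elements whose matrix is x ↦ x + c h(x, v) v with v isotropic is all of SU_n(q). -/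
theorem result {F : Type*} [Field F] [Fintype F] {q : ℕ} (hF : Fintype.card F = q ^ 2) (n : ℕ) (hn : 3 ≤ n) (h32 : ¬ (n = 3 ∧ q = 2)) : Subgroup.closure {A : ↥(Cfsg.SU n F q) | ∃ (v : Fin n → F) (c : F), Cfsg.hermForm n F q v v = 0 ∧ ((A : Matrix.SpecialLinearGroup (Fin n) F) : Matrix (Fin n) (Fin n) F) = Cfsg.unitaryTransvection n q v c} = ⊤ := by
  classical
  obtain ⟨φ, hφq, hφ2⟩ := Cfsg.Agent.S0779.exists_frob hF
  have hφ := Cfsg.Agent.S0829.phi_ne_id hF φ hφq
  have hq2 := Cfsg.Agent.S0829.two_le_q hF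
  have lift : ∀ t ∈ TT φ q (PS (Finset.univ : Finset (Fin n))), ∃ A : ↥(Cfsg.SU n F q),
      ((A : Matrix.SpecialLinearGroup (Fin n) F) : Matrix (Fin n) (Fin n) F) = t ∧
      A ∈ Subgroup.closure {A : ↥(Cfsg.SU n F q) | ∃ (v : Fin n → F) (c : F),
        Cfsg.hermForm n F q v v = 0 ∧ ((A : Matrix.SpecialLinearGroup (Fin n) F) :
          Matrix (Fin n) (Fin n) F) = Cfsg.unitaryTransvection n q v c} := by
    intro t ht
    induction ht using Submonoid.closure_induction with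
    | mem x hx =>
      obtain ⟨v, c, _, h0, hc, rfl⟩ := hx
      have hsu := tv_isSUm φ hφq hφ2 v c h0 hc
      have hA0 : (⟨Cfsg.unitaryTransvection n q v c, hsu.1⟩ :
          Matrix.SpecialLinearGroup (Fin n) F) ∈ Cfsg.SU n F q := by
        intro x y
        have h := hsu.2 y x
        rw [Bh_apply, Bh_apply, ← Cfsg.Agent.S0837.herm_eq φ hφq,
          ← Cfsg.Agent.S0837.herm_eq φ hφq] at h
        exact h
      refine ⟨⟨_, hA0⟩, rfl, Subgroup.subset_closure ⟨v, c, ?_, rfl⟩⟩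
      rw [Cfsg.Agent.S0837.herm_eq φ hφq, ← Bh_apply]
      exact h0
    | one => exact ⟨1, rfl, one_mem _⟩
    | mul x y _ _ hx hy =>
      obtain ⟨A1, h1, h1'⟩ := hx
      obtain ⟨A2, h2, h2'⟩ := hy
      exact ⟨A1 * A2, by rw [← h1, ← h2]; rfl, mul_mem h1' h2'⟩
  rw [Subgroup.eq_top_iff']
  intro g
  have hg : IsSUm φ ((g : Matrix.SpecialLinearGroup (Fin n) F) : Matrix (Fin n) (Fin n) F) := by
    refine ⟨(g : Matrix.SpecialLinearGroup (Fin n) F).2, fun x y => ?_⟩
    have h := g.2 y x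
    rw [Bh_apply, Bh_apply, ← Cfsg.Agent.S0837.herm_eq φ hφq, ← Cfsg.Agent.S0837.herm_eq φ hφq]
    exact h
  obtain ⟨t, ht, htg⟩ := main φ hφq hφ hφ2 (fun h3 => exists_norm_ne_one φ hφq hF h3) n
    Finset.univ (by simp) (by
      intro h
      by_contra hcon
      exact h32 ⟨h, by omega⟩) _ hg (fun i hi => absurd (Finset.mem_univ i) hi)
  obtain ⟨A, hA, hA'⟩ := lift t ht
  have hAg : A * g = 1 := by
    apply Subtype.ext
    apply Subtype.ext
    show ((A : Matrix.SpecialLinearGroup (Fin n) F) : Matrix (Fin n) (Fin n) F)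
      * ((g : Matrix.SpecialLinearGroup (Fin n) F) : Matrix (Fin n) (Fin n) F) = 1
    rw [hA, htg]
  have hgA : g = A⁻¹ := eq_inv_of_mul_eq_one_right hAg
  rw [hgA]
  exact inv_mem hA'

end Cfsg.Agent.S0780
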