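import Mathlib
import Cfsg.Statements.S0898
import Cfsg.Agent.Lib.Helper8.TIBound
import Cfsg.Agent.Lib.Helper26.IndStab
import Cfsg.Agent.Lib.Helper2.AbSylow

set_option autoImplicit false
open Cfsg

namespace Cfsg.Agent.S0898

open Cfsg.Agent.Lib.Helper8 Cfsg.Agent.Lib.Helper2 Cfsg.Agent.Lib.Helper26
open scoped ComplexConjugate

theorem restr_norm_ge {A : Type*} [Group A] [Fintype A] (hab : ∀ a b : A, a * b = b * a)
    {θ : A → ℂ} (hθ : IsCharacter A θ) (n : ℕ) (hn : θ 1 = n) :
    (n : ℝ) ≤ (classInner θ θ).re := by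
  have hFI : Fintype (IrrCharacter A) := Fintype.ofFinite _
  choose k hk using fun μ : IrrCharacter A =>
    classInner_isCharacter_nat hθ (isCharacter_of_isIrrCharacter μ.2)
  have hexp := class_fun_expand θ (isClassFunction_of_isCharacter hθ)
  have h1 : (n : ℂ) = ∑ μ : IrrCharacter A, (k μ : ℂ) := by
    have e := congrFun hexp 1
    rw [hn] at e
    rw [e]
    simp only [Finset.sum_apply, Pi.smul_apply, smul_eq_mul]
    apply Finset.sum_congr rfl
    intro μ _
    rw [hk μ, irr_deg_one_of_comm hab μ.2, mul_one]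
  have h2 : classInner θ θ = ∑ μ : IrrCharacter A, (k μ : ℂ) * (k μ : ℂ) := by
    rw [classInner_eq_sum θ θ (isClassFunction_of_isCharacter hθ)]
    apply Finset.sum_congr rfl
    intro μ _
    rw [hk μ]
    simp
  have h3 : n = ∑ μ : IrrCharacter A, k μ := by exact_mod_cast h1
  have h4 : ∑ μ : IrrCharacter A, (k μ : ℂ) * (k μ : ℂ)
      = ((∑ μ : IrrCharacter A, k μ * k μ : ℕ) : ℂ) := by
    push_cast
    rfl
  rw [h2, h4, Complex.natCast_re, h3]
  exact_mod_cast Finset.sum_le_sum (fun μ _ => Nat.le_mul_self (k μ))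

theorem const_of_not_rel {G : Type*} [Group G] [Fintype G] (H : Subgroup G)
    (hclos : ∀ M : Subgroup G, M.Normal → H ≤ M → M = ⊤) {ξ : G → ℂ}
    (hξ : IsIrrCharacter G ξ) (hcon : ∀ h ∈ H, ξ h = ξ 1) : ξ = fun _ => 1 := by
  have hξ' := hξ
  obtain ⟨d, ρ, hirr, rfl⟩ := hξ
  have := hirr
  have h1 : ρ.character 1 = (Module.finrank ℂ (Fin d → ℂ) : ℂ) := Representation.char_one ρ
  have hle : H ≤ MonoidHom.ker ρ := by
    intro h hh
    rw [MonoidHom.mem_ker]
    have h2 := hcon h hh
    rw [h1] at h2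
    exact (char_eq_finrank_iff ρ h).mp h2
  have htop := hclos (MonoidHom.ker ρ) (MonoidHom.normal_ker ρ) hle
  have hall : ∀ g : G, ρ.character g = ρ.character 1 := by
    intro g
    have hg : g ∈ MonoidHom.ker ρ := by
      rw [htop]
      exact Subgroup.mem_top g
    rw [MonoidHom.mem_ker] at hg
    unfold Representation.character
    rw [hg, map_one ρ]
  by_contra hne
  have h3 := classInner_irr_ne hξ' isIrrCharacter_one hne
  rw [classInner_def] at h3
  have h4 : ∑ g : G, ρ.character g * (starRingEnd ℂ) ((fun _ : G => (1 : ℂ)) g)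
      = (Nat.card G : ℂ) * ρ.character 1 := by
    simp only [hall, map_one, mul_one, Finset.sum_const, Finset.card_univ, nsmul_eq_mul,
      Nat.card_eq_fintype_card]
  rw [h4] at h3
  have hcard : (Nat.card G : ℂ) ≠ 0 := card_ne_zero_complex G
  have h5 : ρ.character 1 = 0 := by
    field_simp at h3
    exact h3
  rw [h1] at h5
  have h6 : 0 < Module.finrank ℂ (Fin d → ℂ) := irr_finrank_pos ρ
  have h7 : Module.finrank ℂ (Fin d → ℂ) = 0 := by exact_mod_cast h5
  omega

/-- Let H be an abelian subgroup of the finite group G meeting the centre of G trivially, such that for every non-central g the centralizer of g has nontrivial intersection with at most one conjugate of H. Let χ be an irreducible character of G with χ h ≠ χ 1 for some h in H, and let c be the inner product of the restriction of χ to H with the principal character. Then χ(1)² > (order of H)·c²; and if in addition χ 1 ≠ 1 and no proper normal subgroup of G contains H, then (1 + χ 1)² > order of H (both sides read as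 real numbers). -/
theorem result {G : Type*} [Group G] [Fintype G] (H : Subgroup G) [Fintype H] (hab : ∀ a ∈ H, ∀ b ∈ H, a * b = b * a) (hZ : H ⊓ Subgroup.center G = ⊥) (hone : ∀ g : G, g ∉ Subgroup.center G → ∀ a b : G, Subgroup.centralizer ({g} : Set G) ⊓ H.map (MulAut.conj a).toMonoidHom ≠ ⊥ → Subgroup.centralizer ({g} : Set G) ⊓ H.map (MulAut.conj b).toMonoidHom ≠ ⊥ → H.map (MulAut.conj a).toMonoidHom = H.map (MulAut.conj b).toMonoidHom) (χ : G → ℂ) (hχ : Cfsg.IsIrrCharacter G χ) (hker : ∃ h ∈ H, χ h ≠ χ 1) : (χ 1).re ^ 2 > (Nat.card H : ℝ) * (Cfsg.classInner (fun h : H => χ h) (fun _ => 1)).re ^ 2 ∧ (χ 1 ≠ 1 → (∀ M : Subgroup G, M.Normal → H ≤ M → M = ⊤) → (1 + (χ 1).re) ^ 2 > (Nat.card H : ℝ)) := by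
  have key : ∀ ξ : G → ℂ, IsIrrCharacter G ξ → (∃ h ∈ H, ξ h ≠ ξ 1) →
      (Nat.card H : ℝ) * (classInner (fun h : H => ξ h) (fun _ => 1)).re ^ 2 < (ξ 1).re ^ 2 := by
    intro ξ hξ hrel
    have h1 := ti_bound H hab hZ hone ξ hξ hrel
    obtain ⟨d, hd0, hd⟩ := irr_apply_one hξ
    have h2 : Complex.normSq (ξ 1) = (ξ 1).re ^ 2 := by
      rw [hd, Complex.normSq_natCast, Complex.natCast_re]
      ring
    have h3 : (classInner (fun h : H => ξ h) (fun _ => 1)).re ^ 2
        ≤ Complex.normSq (classInner (fun h : H => ξ h) (fun _ => 1)) := by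
      rw [Complex.normSq_apply]
      nlinarith [mul_self_nonneg (classInner (fun h : H => ξ h) (fun _ => 1)).im]
    have hH : (0 : ℝ) ≤ Nat.card H := by positivity
    calc (Nat.card H : ℝ) * (classInner (fun h : H => ξ h) (fun _ => 1)).re ^ 2
        ≤ (Nat.card H : ℝ) * Complex.normSq (classInner (fun h : H => ξ h) (fun _ => 1)) :=
          mul_le_mul_of_nonneg_left h3 hH
      _ < (ξ 1).re ^ 2 := by
          rw [← h2]
          exact h1
  refine ⟨key χ hχ hker, ?_⟩
  intro hχ1 hclos
  classical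
  have hFI : Fintype (IrrCharacter G) := Fintype.ofFinite _
  obtain ⟨n, hn0, hn⟩ := irr_apply_one hχ
  have hn1 : n ≠ 1 := by
    rintro rfl
    apply hχ1
    rw [hn]
    simp
  have hn2 : 2 ≤ n := by omega
  set ψ : G → ℂ := fun g => χ g * conj (χ g) with hψdef
  have hψ : IsCharacter G ψ := isCharacter_mul_conj hχ
  have hψcl := isClassFunction_of_isCharacter hψ
  choose m hm using fun ξ : IrrCharacter G =>
    classInner_isCharacter_nat hψ (isCharacter_of_isIrrCharacter ξ.2)
  choose d hd0 hd using fun ξ : IrrCharacter G => irr_apply_one ξ.2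
  have hexp := class_fun_expand ψ hψcl
  let triv : IrrCharacter G := ⟨fun _ => 1, isIrrCharacter_one⟩
  have hmtriv : m triv = 1 := by
    have h1 : classInner ψ (triv : G → ℂ) = classInner χ χ := by
      rw [classInner_def, classInner_def]
      congr 1
      apply Finset.sum_congr rfl
      intro g _
      simp [hψdef, triv]
    rw [hm triv, classInner_irr_self hχ] at h1
    exact_mod_cast h1
  have hdtriv : d triv = 1 := by
    have h0 := hd triv
    have h1 : (triv : G → ℂ) 1 = 1 := rfl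
    rw [h1] at h0
    exact_mod_cast h0.symm
  have hdeg : (n : ℝ) ^ 2 = ∑ ξ : IrrCharacter G, (m ξ : ℝ) * (d ξ : ℝ) := by
    have e := congrFun hexp 1
    have h1 : ψ 1 = (n : ℂ) ^ 2 := by
      simp only [hψdef, hn]
      simp
      ring
    rw [h1] at e
    have h2 : (∑ ξ : IrrCharacter G, classInner ψ ξ • (ξ : G → ℂ)) 1
        = ∑ ξ : IrrCharacter G, ((m ξ : ℂ)) * (d ξ : ℂ) := by
      simp only [Finset.sum_apply, Pi.smul_apply, smul_eq_mul]
      apply Finset.sum_congr rfl
      intro ξ _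
      rw [hm ξ, hd ξ]
    rw [h2] at e
    exact_mod_cast e
  set a : IrrCharacter G → ℂ :=
    fun ξ => classInner (fun h : H => (ξ : G → ℂ) h) (fun _ => 1) with hadef
  have hb : classInner (fun h : H => ψ h) (fun _ => 1)
      = ∑ ξ : IrrCharacter G, (m ξ : ℂ) * a ξ := by
    have h1 : (fun h : H => ψ h)
        = ∑ ξ : IrrCharacter G, (m ξ : ℂ) • (fun h : H => (ξ : G → ℂ) h) := by
      funext h
      have e := congrFun hexp h
      rw [e]
      simp only [Finset.sum_apply, Pi.smul_apply, smul_eq_mul]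
      apply Finset.sum_congr rfl
      intro ξ _
      rw [hm ξ]
    rw [h1, classInner_sum_left]
    apply Finset.sum_congr rfl
    intro ξ _
    rw [classInner_smul_left]
  have hbre : (classInner (fun h : H => ψ h) (fun _ => 1)).re
      = ∑ ξ : IrrCharacter G, (m ξ : ℝ) * (a ξ).re := by
    rw [hb, Complex.re_sum]
    apply Finset.sum_congr rfl
    intro ξ _
    simp
  have hatriv : a triv = 1 := by
    simp only [hadef, classInner_def, triv, map_one, mul_one, Finset.sum_const, Finset.card_univ,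
      nsmul_eq_mul, Nat.card_eq_fintype_card]
    have hcard : (Fintype.card H : ℂ) ≠ 0 := by exact_mod_cast Fintype.card_ne_zero
    field_simp
  have hbn : (n : ℝ) ≤ (classInner (fun h : H => ψ h) (fun _ => 1)).re := by
    have h1 : classInner (fun h : H => ψ h) (fun _ => 1)
        = classInner (fun h : H => χ h) (fun h : H => χ h) := by
      rw [classInner_def, classInner_def]
      congr 1
      apply Finset.sum_congr rfl
      intro h _
      simp [hψdef]
    rw [h1]
    exact restr_norm_ge (fun a b => Subtype.ext (hab a a.2 b b.2))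
      (IsCharacter.restrict (isCharacter_of_isIrrCharacter hχ) H) n hn
  set s := Real.sqrt (Nat.card H) with hs
  have hs0 : 0 ≤ s := Real.sqrt_nonneg _
  have hss : s * s = Nat.card H := Real.mul_self_sqrt (by positivity)
  have hterm : ∀ ξ : IrrCharacter G, ξ ≠ triv → s * (a ξ).re < d ξ := by
    intro ξ hξ
    have hrel : ∃ h ∈ H, (ξ : G → ℂ) h ≠ (ξ : G → ℂ) 1 := by
      by_contra hcon
      push Not at hcon
      apply hξ
      apply Subtype.ext
      exact const_of_not_rel H hclos ξ.2 hcon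
    have h1 := key ξ ξ.2 hrel
    rw [hd ξ] at h1
    simp only [Complex.natCast_re] at h1
    have h2 : (s * (a ξ).re) ^ 2 < ((d ξ : ℝ)) ^ 2 := by
      rw [mul_pow, sq s, hss]
      exact h1
    exact lt_of_pow_lt_pow_left₀ 2 (by positivity) h2
  have hS1 : (n : ℝ) ^ 2 = 1 + ∑ ξ ∈ Finset.univ.erase triv, (m ξ : ℝ) * (d ξ : ℝ) := by
    rw [hdeg, ← Finset.add_sum_erase Finset.univ _ (Finset.mem_univ triv), hmtriv, hdtriv]
    simp
  have hS2 : (classInner (fun h : H => ψ h) (fun _ => 1)).re
      = 1 + ∑ ξ ∈ Finset.univ.erase triv, (m ξ : ℝ) * (a ξ).re := by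
    rw [hbre, ← Finset.add_sum_erase Finset.univ _ (Finset.mem_univ triv), hmtriv, hatriv]
    simp
  have hnr : (2 : ℝ) ≤ n := by exact_mod_cast hn2
  have hex : ∃ ξ ∈ Finset.univ.erase triv, m ξ ≠ 0 := by
    by_contra hcon
    push Not at hcon
    have h0 : ∑ ξ ∈ Finset.univ.erase triv, (m ξ : ℝ) * (d ξ : ℝ) = 0 := by
      apply Finset.sum_eq_zero
      intro ξ hξ
      rw [hcon ξ hξ]
      simp
    rw [h0] at hS1
    nlinarith
  have hlt : s * ∑ ξ ∈ Finset.univ.erase triv, (m ξ : ℝ) * (a ξ).re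
      < ∑ ξ ∈ Finset.univ.erase triv, (m ξ : ℝ) * (d ξ : ℝ) := by
    rw [Finset.mul_sum]
    apply Finset.sum_lt_sum
    · intro ξ hξ
      have h1 := hterm ξ (Finset.ne_of_mem_erase hξ)
      have h2 : (0 : ℝ) ≤ m ξ := by positivity
      nlinarith [mul_le_mul_of_nonneg_left h1.le h2]
    · obtain ⟨ξ, hξ, hmξ⟩ := hex
      refine ⟨ξ, hξ, ?_⟩
      have h1 := hterm ξ (Finset.ne_of_mem_erase hξ)
      have h2 : (0 : ℝ) < m ξ := by exact_mod_cast Nat.pos_of_ne_zero hmξ
      nlinarith [mul_lt_mul_of_pos_left h1 h2]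
  have h5 : s * ((n : ℝ) - 1) < (n : ℝ) ^ 2 - 1 := by
    have h6 : s * ((n : ℝ) - 1)
        ≤ s * ((classInner (fun h : H => ψ h) (fun _ => 1)).re - 1) :=
      mul_le_mul_of_nonneg_left (by linarith) hs0
    have h8 : s * ((classInner (fun h : H => ψ h) (fun _ => 1)).re - 1)
        = s * ∑ ξ ∈ Finset.univ.erase triv, (m ξ : ℝ) * (a ξ).re := by
      rw [hS2]
      ring
    linarith
  have h7 : s < (n : ℝ) + 1 := by
    have h9 : s * ((n : ℝ) - 1) < ((n : ℝ) + 1) * ((n : ℝ) - 1) := by nlinarith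
    exact lt_of_mul_lt_mul_right h9 (by linarith)
  rw [hn]
  simp only [Complex.natCast_re]
  rw [gt_iff_lt, ← hss]
  nlinarith

end Cfsg.Agent.S0898
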