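import Cfsg.Statements.S0041
-- import your own Cfsg.Agent.* helpers here
import Mathlib
import Cfsg.Agent.Lib.Lead.FpfAbelian

set_option autoImplicit false
open Cfsg

namespace Cfsg.Agent.S0041

/-- A group acting on a nontrivial abelian group so that no nonidentity element has a nonidentity fixed point is cyclic, provided it is abelian or its order is a product of two (possibly equal) primes. -/
theorem result {G : Type*} [Group G] [Finite G] (A V : Subgroup G) [IsMulCommutative V]
    (hV : V ≠ ⊥) (hAV : A ≤ Subgroup.normalizer (V : Set G)) (hfpf : ∀ a ∈ A, a ≠ 1 → V ⊓ Subgroup.centralizer {a} = ⊥)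
    (hA : IsMulCommutative A ∨ ∃ p q : ℕ, p.Prime ∧ q.Prime ∧ Nat.card A = p * q) : IsCyclic A := by
  classical
  let _ : CommGroup V := { (inferInstance : Group V) with mul_comm := mul_comm' }
  let _ : MulDistribMulAction A V :=
    MulDistribMulAction.compHom V (V.normalizerMonoidHom.comp (Subgroup.inclusion hAV))
  have hsmul : ∀ (a : A) (v : V), ((a • v : V) : G) = a * v * (a : G)⁻¹ := fun a v => rfl
  have h : Cfsg.Agent.Lib.Lead.FpfAct A V := by
    intro a ha v hv
    have h1 : (v : G) ∈ V ⊓ Subgroup.centralizer {(a : G)} := by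
      refine ⟨v.2, ?_⟩
      change (v : G) ∈ Subgroup.centralizer {(a : G)}
      rw [Subgroup.mem_centralizer_iff]
      intro b hb
      rw [Set.mem_singleton_iff] at hb
      subst hb
      have h2 := congrArg Subtype.val hv
      rw [hsmul] at h2
      calc (a : G) * (v : G) = (a : G) * v * (a : G)⁻¹ * a := by group
        _ = (v : G) * a := by rw [h2]
    rw [hfpf a a.2 (fun h1 => ha (Subtype.ext h1))] at h1
    exact Subtype.ext (Subgroup.mem_bot.mp h1)
  have : Nontrivial V := (Subgroup.nontrivial_iff_ne_bot V).mpr hV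
  rcases hA with hA | ⟨p, q, hp, hq, hcard⟩
  · exact Cfsg.Agent.Lib.Lead.fpf_cyclic_of_comm h (fun a b => mul_comm' a b)
  · exact Cfsg.Agent.Lib.Lead.fpf_cyclic_of_card_pq h hp hq hcard

end Cfsg.Agent.S0041
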