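import Cfsg.Statements.S0093
import Cfsg.Agent.Lib.Helper1.Basic
import Cfsg.Agent.Lib.Helper1.SZ
import Cfsg.Agent.Lib.Helper1.PQ
import Cfsg.Agent.Lib.Helper18.Frattini

set_option autoImplicit false
open Cfsg

namespace Cfsg.Agent.S0093

open Cfsg.Agent.Lib.Helper1
open scoped commutatorElement
set_option linter.style.haveILetI false

universe u

/-- A nontrivial normal subgroup of a finite `p`-group contains a central element of order `p`. -/
theorem exists_central_of_normal {G : Type u} [Group G] [Finite G] {p : ℕ} [hpf : Fact p.Prime]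
    (hG : IsPGroup p G) : ∀ (n : ℕ) (N : Subgroup G), Nat.card N ≤ n → N.Normal → N ≠ ⊥ →
    ∃ z ∈ N, z ≠ 1 ∧ z ∈ Subgroup.center G ∧ z ^ p = 1 := by
  have hp : p.Prime := hpf.out
  intro n
  induction n with
  | zero =>
    intro N hN
    have := Nat.card_pos (α := N)
    omega
  | succ n ih =>
    intro N hN hNn hNne
    haveI := hNn
    have hlt : ⁅N, (⊤ : Subgroup G)⁆ < N := by
      refine commutator_lt_of_pgroups (hG.to_subgroup N) (hG.to_subgroup ⊤) ?_ hNne
      intro x _
      rw [Subgroup.mem_normalizer_iff]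
      intro y
      constructor
      · intro hy; exact hNn.conj_mem y hy x
      · intro hy
        have := hNn.conj_mem _ hy x⁻¹
        have e : x⁻¹ * (x * y * x⁻¹) * x⁻¹⁻¹ = y := by group
        rwa [e] at this
    by_cases hbot : ⁅N, (⊤ : Subgroup G)⁆ = ⊥
    · have hcen : N ≤ Subgroup.center G := by
        have h1 := Subgroup.commutator_eq_bot_iff_le_centralizer.mp hbot
        intro x hx
        rw [Subgroup.mem_center_iff]
        intro g
        exact Subgroup.mem_centralizer_iff.mp (h1 hx) g (Subgroup.mem_top g)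
      obtain ⟨z, hz, hz1⟩ : ∃ z ∈ N, z ≠ 1 := by
        by_contra hcon
        push Not at hcon
        exact hNne ((Subgroup.eq_bot_iff_forall N).mpr hcon)
      have hord : orderOf z ≠ 0 := (orderOf_pos z).ne'
      obtain ⟨k, hk⟩ := hG z
      have hdvd : p ∣ orderOf z := by
        have h1 : orderOf z ∣ p ^ k := orderOf_dvd_of_pow_eq_one hk
        have h2 : orderOf z ≠ 1 := fun h => hz1 (orderOf_eq_one_iff.mp h)
        obtain ⟨j, hj, hjeq⟩ := (Nat.dvd_prime_pow hp).mp h1
        rw [hjeq] at h2 ⊢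
        rcases Nat.eq_zero_or_pos j with h0 | h0
        · rw [h0, pow_zero] at h2; exact absurd rfl h2
        · exact dvd_pow_self p h0.ne'
      have ho := orderOf_pow_orderOf_div hord hdvd
      refine ⟨z ^ (orderOf z / p), N.pow_mem hz _, ?_, Subgroup.pow_mem _ (hcen hz) _, ?_⟩
      · intro h1
        rw [h1, orderOf_one] at ho
        exact hp.one_lt.ne ho
      · have h3 := pow_orderOf_eq_one (z ^ (orderOf z / p))
        rwa [ho] at h3
    · have hcard : Nat.card (⁅N, (⊤ : Subgroup G)⁆ : Subgroup G) ≤ n := by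
        have := card_lt_of_lt hlt
        omega
      obtain ⟨z, hz, hz1, hzc, hzp⟩ := ih _ hcard inferInstance hbot
      exact ⟨z, hlt.le hz, hz1, hzc, hzp⟩

theorem mk_mem_center_iff {G : Type*} [Group G] (M : Subgroup G) [M.Normal] (x : G) :
    (QuotientGroup.mk' M x) ∈ Subgroup.center (G ⧸ M) ↔ ∀ g : G, ⁅x, g⁆ ∈ M := by
  rw [Subgroup.mem_center_iff]
  constructor
  · intro h g
    have h1 := h (QuotientGroup.mk' M g)
    have h2 : (QuotientGroup.mk' M) ⁅x, g⁆ = 1 := by
      rw [commutatorElement_def, map_mul, map_mul, map_mul, map_inv, map_inv, ← h1]; group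
    exact (QuotientGroup.eq_one_iff _).mp h2
  · intro h z
    obtain ⟨g, rfl⟩ := QuotientGroup.mk'_surjective M z
    have h2 : (QuotientGroup.mk' M) ⁅x, g⁆ = 1 := (QuotientGroup.eq_one_iff _).mpr (h g)
    rw [commutatorElement_def, map_mul, map_mul, map_mul, map_inv, map_inv] at h2
    exact (mul_inv_eq_iff_eq_mul.mp (mul_inv_eq_one.mp h2)).symm

theorem exists_crit {G : Type*} [Group G] (M : Subgroup G) [M.Normal] (p : ℕ) :
    ∃ H : Subgroup G, ∀ x, x ∈ H ↔
      (x ∈ Subgroup.centralizer (M : Set G) ∧ (∀ g : G, ⁅x, g⁆ ∈ M) ∧ x ^ p ∈ M) := by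
  obtain ⟨T, hT⟩ := exists_torsion_subgroup (Subgroup.center (G ⧸ M))
    (fun a ha b _ => (Subgroup.mem_center_iff.mp ha b).symm) p
  refine ⟨Subgroup.centralizer (M : Set G) ⊓ T.comap (QuotientGroup.mk' M), fun x => ?_⟩
  rw [Subgroup.mem_inf, Subgroup.mem_comap, hT, mk_mem_center_iff, ← map_pow]
  have : (QuotientGroup.mk' M) (x ^ p) = 1 ↔ x ^ p ∈ M := QuotientGroup.eq_one_iff _
  rw [this]

/-- Every finite p-group has a critical subgroup: a characteristic subgroup H whose Frattini subgroup and whose commutator with the whole group lie in the centre of H, and whose centralizer is contained in H. -/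
theorem result {P : Type*} [Group P] [Finite P] {p : ℕ} [Fact p.Prime] (hP : IsPGroup p P) : ∃ H : Subgroup P, H.Characteristic ∧ (frattini H).map H.subtype ≤ Subgroup.centralizer (H : Set P) ∧ ⁅H, (⊤ : Subgroup P)⁆ ≤ H ⊓ Subgroup.centralizer (H : Set P) ∧ Subgroup.centralizer (H : Set P) ≤ H := by
  have hp : p.Prime := Fact.out
  have hne : ({M : Subgroup P | M.Characteristic ∧ ∀ a ∈ M, ∀ b ∈ M, a * b = b * a}).Nonempty := by
    refine ⟨⊥, inferInstance, ?_⟩
    intro a ha b hb
    rw [Subgroup.mem_bot] at ha hb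
    rw [ha, hb]
  obtain ⟨M, hMS, hMmax⟩ := Set.exists_max_image _ (fun M : Subgroup P => Nat.card M)
    (Set.toFinite _) hne
  obtain ⟨hMchar, hMab⟩ := hMS
  haveI := hMchar
  obtain ⟨H, hH⟩ := exists_crit M p
  have hMH : M ≤ H := by
    intro m hm
    rw [hH]
    refine ⟨?_, ?_, M.pow_mem hm p⟩
    · rw [Subgroup.mem_centralizer_iff]; intro a ha; exact hMab a ha m hm
    · intro g
      rw [commutatorElement_def]
      have : m * g * m⁻¹ * g⁻¹ = m * (g * m⁻¹ * g⁻¹) := by group
      rw [this]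
      exact M.mul_mem hm (Subgroup.Normal.conj_mem inferInstance _ (M.inv_mem hm) g)
  have hHC : H ≤ Subgroup.centralizer (M : Set P) := fun x hx => ((hH x).mp hx).1
  have hHchar : H.Characteristic := by
    rw [Subgroup.characteristic_iff_map_le]
    rintro φ y ⟨x, hx, rfl⟩
    obtain ⟨hx1, hx2, hx3⟩ := (hH x).mp hx
    have hMφ : ∀ m ∈ M, φ m ∈ M := fun m hm =>
      Subgroup.characteristic_iff_map_le.mp hMchar φ ⟨m, hm, rfl⟩
    change φ x ∈ H
    rw [hH]
    refine ⟨?_, ?_, ?_⟩
    · exact Subgroup.characteristic_iff_map_le.mp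
        (inferInstance : (Subgroup.centralizer (M : Set P)).Characteristic) φ ⟨x, hx1, rfl⟩
    · intro g
      have h1 := hMφ _ (hx2 (φ.symm g))
      rw [map_commutatorElement, MulEquiv.apply_symm_apply] at h1
      exact h1
    · have h1 := hMφ _ hx3
      rw [map_pow] at h1
      exact h1
  haveI := hHchar
  obtain ⟨Z, hZdef⟩ : ∃ Z : Subgroup P, Z = H ⊓ Subgroup.centralizer (H : Set P) := ⟨_, rfl⟩
  have hZchar : Z.Characteristic := by rw [hZdef]; infer_instance
  have hZab : ∀ a ∈ Z, ∀ b ∈ Z, a * b = b * a := by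
    intro a ha b hb
    rw [hZdef] at ha hb
    exact Subgroup.mem_centralizer_iff.mp hb.2 a ha.1
  have hMZ : M ≤ Z := by
    rw [hZdef]
    exact le_inf hMH (Subgroup.le_centralizer_iff.mp hHC)
  have hZM : Z = M := (Subgroup.eq_of_le_of_card_ge hMZ (hMmax Z ⟨hZchar, hZab⟩)).symm
  refine ⟨H, hHchar, ?_, ?_, ?_⟩
  · refine le_trans (Cfsg.Agent.Lib.Helper18.map_frattini_le (p := p) H M ?_ ?_)
      (hMZ.trans (hZdef ▸ inf_le_right))
    · intro a ha b hb
      have := ((hH a).mp ha).2.1 b
      rwa [commutatorElement_def] at this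
    · intro a ha; exact ((hH a).mp ha).2.2
  · rw [← hZdef, hZM, Subgroup.commutator_le]
    intro x hx g _
    exact ((hH x).mp hx).2.1 g
  · suffices hQM : Subgroup.centralizer (H : Set P) ≤ M from hQM.trans hMH
    by_contra hcon
    obtain ⟨Q, hQdef⟩ : ∃ Q : Subgroup P, Q = Subgroup.centralizer (H : Set P) := ⟨_, rfl⟩
    rw [← hQdef] at hcon
    have hQn : Q.Normal := by rw [hQdef]; infer_instance
    have hQbar : Q.map (QuotientGroup.mk' M) ≠ ⊥ := by
      intro hbot
      apply hcon
      intro y hy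
      have : QuotientGroup.mk' M y ∈ Q.map (QuotientGroup.mk' M) := ⟨y, hy, rfl⟩
      rw [hbot, Subgroup.mem_bot] at this
      exact (QuotientGroup.eq_one_iff y).mp this
    have hQbarn : (Q.map (QuotientGroup.mk' M)).Normal :=
      hQn.map _ (QuotientGroup.mk'_surjective M)
    obtain ⟨z, hz, hz1, hzc, hzp⟩ :=
      exists_central_of_normal (hP.to_quotient M) _ _ le_rfl hQbarn hQbar
    obtain ⟨y, hy, rfl⟩ := hz
    have hyH : y ∈ H := by
      rw [hH]
      refine ⟨?_, (mk_mem_center_iff M y).mp hzc, ?_⟩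
      · rw [hQdef] at hy
        exact Subgroup.centralizer_le (SetLike.coe_subset_coe.mpr hMH) hy
      · rw [← map_pow] at hzp
        exact (QuotientGroup.eq_one_iff _).mp hzp
    have hyZ : y ∈ Z := by rw [hZdef]; exact ⟨hyH, hQdef ▸ hy⟩
    rw [hZM] at hyZ
    exact hz1 ((QuotientGroup.eq_one_iff y).mpr hyZ)

end Cfsg.Agent.S0093
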