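import Cfsg.Statements.S0095
import Mathlib

set_option autoImplicit false
open Cfsg

namespace Cfsg.Agent.S0095

open scoped commutatorElement

/-- A subgroup of prime relative index admits no proper intermediate subgroup. -/
theorem le_of_relIndex_prime {G : Type*} [Group G] {p : ℕ} (hp : p.Prime) {A B D : Subgroup G}
    (hAB : A ≤ B) (hBD : B ≤ D) (hidx : A.relIndex D = p) {b : G} (hb : b ∈ B) (hbA : b ∉ A) :
    D ≤ B := by
  have h1 := Subgroup.relIndex_mul_relIndex A B D hAB hBD
  rw [hidx] at h1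
  have h2 : A.relIndex B ≠ 1 := by
    intro h
    exact hbA (Subgroup.relIndex_eq_one.mp h hb)
  have h3 : A.relIndex B ∣ p := Dvd.intro _ h1
  rcases (Nat.dvd_prime hp).mp h3 with h4 | h4
  · exact absurd h4 h2
  · rw [h4] at h1
    have h5 : B.relIndex D = 1 := by
      have := Nat.eq_of_mul_eq_mul_left hp.pos (h1.trans (mul_one p).symm)
      exact this
    exact Subgroup.relIndex_eq_one.mp h5

/-- If commutators with `t` of elements of `L` land in a central subgroup of order `p`, and
some such commutator is nontrivial, then the centraliser of `t` has index `p` in `L`. -/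
theorem relIndex_centralizer_eq {G : Type*} [Group G] [Finite G] {p : ℕ} (hp : p.Prime)
    (L Z : Subgroup G) (t : G) (hZL : Z ≤ L) (hZc : Z ≤ Subgroup.centralizer (L : Set G))
    (hZcard : Nat.card Z = p) (hcomm : ∀ h ∈ L, ⁅h, t⁆ ∈ Z) {h₀ : G} (hh₀ : h₀ ∈ L)
    (hne : ⁅h₀, t⁆ ≠ 1) :
    (L ⊓ Subgroup.centralizer {t}).relIndex L = p := by
  have hcentral : ∀ z ∈ Z, ∀ h ∈ L, h * z = z * h := fun z hz h hh =>
    (Subgroup.mem_centralizer_iff.mp (hZc hz)) h hh
  let f : L →* G := MonoidHom.mk' (fun h : L => ⁅(h : G), t⁆) (by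
    intro a b
    have h1 := hcentral _ (hcomm b b.2) a a.2
    have h2 := hcentral _ (hcomm b b.2) _ (hZL (hcomm a a.2))
    show ⁅(a : G) * (b : G), t⁆ = ⁅(a : G), t⁆ * ⁅(b : G), t⁆
    rw [h2]
    calc ⁅(a : G) * (b : G), t⁆ = ((a : G) * ⁅(b : G), t⁆) * (t * (a : G)⁻¹ * t⁻¹) := by
          rw [commutatorElement_def, commutatorElement_def]; group
      _ = (⁅(b : G), t⁆ * (a : G)) * (t * (a : G)⁻¹ * t⁻¹) := by rw [h1]
      _ = ⁅(b : G), t⁆ * ⁅(a : G), t⁆ := by
          rw [commutatorElement_def, commutatorElement_def]; group)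
  have hf : ∀ h : L, f h = ⁅(h : G), t⁆ := fun h => rfl
  have hker : f.ker = (Subgroup.centralizer {t}).subgroupOf L := by
    ext h
    rw [MonoidHom.mem_ker, hf, Subgroup.mem_subgroupOf, Subgroup.mem_centralizer_iff,
      commutatorElement_eq_one_iff_mul_comm]
    simp only [Set.mem_singleton_iff, forall_eq]
    exact eq_comm
  have hrange : f.range ≤ Z := by
    rintro _ ⟨h, rfl⟩
    exact hcomm h h.2
  have hcard1 : Nat.card f.range ∣ p := hZcard ▸ Subgroup.card_dvd_of_le hrange
  have hcard2 : Nat.card f.range ≠ 1 := by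
    intro h1
    have h2 : f.range = ⊥ := Subgroup.card_eq_one.mp h1
    have h3 : f ⟨h₀, hh₀⟩ ∈ f.range := ⟨_, rfl⟩
    rw [h2, Subgroup.mem_bot] at h3
    exact hne h3
  have hcard : Nat.card f.range = p := by
    rcases (Nat.dvd_prime hp).mp hcard1 with h | h
    · exact absurd h hcard2
    · exact h
  rw [Subgroup.inf_relIndex_left, Subgroup.relIndex, ← hker, Subgroup.index_ker, hcard]

theorem card_of_center_card_prime {G : Type*} [Group G] [Finite G] {p : ℕ} (hp : p.Prime) :
    ∀ (m : ℕ) (H : Subgroup G), Nat.card H ≤ m →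
      ⁅H, H⁆ ≤ Subgroup.centralizer (H : Set G) →
      Nat.card (H ⊓ Subgroup.centralizer (H : Set G) : Subgroup G) = p →
      ∃ n : ℕ, Nat.card H = p ^ (2 * n + 1) := by
  intro m
  induction m using Nat.strong_induction_on with
  | _ m ih =>
    intro H hm hHH hZcard
    by_cases hab : H ≤ Subgroup.centralizer (H : Set G)
    · refine ⟨0, ?_⟩
      rw [inf_eq_left.mpr hab] at hZcard
      simpa using hZcard
    · obtain ⟨x, hxH, hx⟩ := SetLike.not_le_iff_exists.mp hab
      rw [Subgroup.mem_centralizer_iff] at hx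
      push Not at hx
      obtain ⟨y, hyH, hxy⟩ := hx
      obtain ⟨Z, hZdef⟩ : ∃ Z : Subgroup G, Z = H ⊓ Subgroup.centralizer (H : Set G) := ⟨_, rfl⟩
      rw [← hZdef] at hZcard
      have hZH : Z ≤ H := hZdef ▸ inf_le_left
      have hZc : Z ≤ Subgroup.centralizer (H : Set G) := hZdef ▸ inf_le_right
      have hcommZ : ∀ a ∈ H, ∀ b ∈ H, ⁅a, b⁆ ∈ Z := by
        intro a ha b hb
        rw [hZdef]
        have h1 : ⁅a, b⁆ ∈ ⁅H, H⁆ := Subgroup.commutator_mem_commutator ha hb
        refine Subgroup.mem_inf.mpr ⟨?_, hHH h1⟩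
        rw [commutatorElement_def]
        exact H.mul_mem (H.mul_mem (H.mul_mem ha hb) (H.inv_mem ha)) (H.inv_mem hb)
      obtain ⟨H₁, hH₁def⟩ : ∃ H₁ : Subgroup G, H₁ = H ⊓ Subgroup.centralizer {x} := ⟨_, rfl⟩
      obtain ⟨C, hCdef⟩ : ∃ C : Subgroup G, C = H₁ ⊓ Subgroup.centralizer {y} := ⟨_, rfl⟩
      have hH₁H : H₁ ≤ H := hH₁def ▸ inf_le_left
      have hCH₁ : C ≤ H₁ := hCdef ▸ inf_le_left
      have hCH : C ≤ H := hCH₁.trans hH₁H
      have hmemcx : ∀ g : G, g ∈ Subgroup.centralizer {x} ↔ x * g = g * x := by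
        intro g
        rw [Subgroup.mem_centralizer_iff]
        simp
      have hmemcy : ∀ g : G, g ∈ Subgroup.centralizer {y} ↔ y * g = g * y := by
        intro g
        rw [Subgroup.mem_centralizer_iff]
        simp
      have hxH₁ : x ∈ H₁ := hH₁def ▸ Subgroup.mem_inf.mpr ⟨hxH, (hmemcx x).mpr rfl⟩
      have hZH₁ : Z ≤ H₁ := by
        intro z hz
        rw [hH₁def]
        refine Subgroup.mem_inf.mpr ⟨hZH hz, (hmemcx z).mpr ?_⟩
        exact (Subgroup.mem_centralizer_iff.mp (hZc hz)) x hxH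
      have hZC : Z ≤ C := by
        intro z hz
        rw [hCdef]
        refine Subgroup.mem_inf.mpr ⟨hZH₁ hz, (hmemcy z).mpr ?_⟩
        exact (Subgroup.mem_centralizer_iff.mp (hZc hz)) y hyH
      have hxyne : ⁅x, y⁆ ≠ 1 := by
        rw [Ne, commutatorElement_eq_one_iff_mul_comm]
        exact fun h => hxy h.symm
      have hyxne : ⁅y, x⁆ ≠ 1 := by
        rw [Ne, commutatorElement_eq_one_iff_mul_comm]
        exact hxy
      have hidx1 : H₁.relIndex H = p := by
        rw [hH₁def]
        exact relIndex_centralizer_eq hp H Z x hZH hZc hZcard (fun h hh => hcommZ h hh x hxH)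
          hyH hyxne
      have hidx2 : C.relIndex H₁ = p := by
        rw [hCdef]
        exact relIndex_centralizer_eq hp H₁ Z y hZH₁
          (hZc.trans (Subgroup.centralizer_le hH₁H)) hZcard
          (fun h hh => hcommZ h (hH₁H hh) y hyH) hxH₁ hxyne
      have hxC : x ∉ C := by
        intro h
        rw [hCdef] at h
        exact hxy ((hmemcy x).mp (Subgroup.mem_inf.mp h).2)
      have hyH₁ : y ∉ H₁ := by
        intro h
        rw [hH₁def] at h
        exact hxy ((hmemcx y).mp (Subgroup.mem_inf.mp h).2).symm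
      -- the centre of `C`
      have hZCeq : C ⊓ Subgroup.centralizer (C : Set G) = Z := by
        apply le_antisymm
        · intro c hc
          obtain ⟨hcC, hcc⟩ := Subgroup.mem_inf.mp hc
          rw [hZdef]
          refine Subgroup.mem_inf.mpr ⟨hCH hcC, ?_⟩
          obtain ⟨D, hDdef⟩ : ∃ D : Subgroup G, D = H ⊓ Subgroup.centralizer {c} := ⟨_, rfl⟩
          have hmemD : ∀ g : G, g ∈ D ↔ g ∈ H ∧ c * g = g * c := by
            intro g
            rw [hDdef, Subgroup.mem_inf, Subgroup.mem_centralizer_iff]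
            simp
          have hCD : C ≤ D := by
            intro g hg
            rw [hmemD]
            exact ⟨hCH hg, ((Subgroup.mem_centralizer_iff.mp hcc) g hg).symm⟩
          have hcH₁ : c ∈ H₁ := hCH₁ hcC
          have hxD : x ∈ D := by
            rw [hmemD]
            rw [hH₁def] at hcH₁
            exact ⟨hxH, ((hmemcx c).mp (Subgroup.mem_inf.mp hcH₁).2).symm⟩
          have hyD : y ∈ D := by
            rw [hmemD]
            rw [hCdef] at hcC
            exact ⟨hyH, ((hmemcy c).mp (Subgroup.mem_inf.mp hcC).2).symm⟩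
          have hDH : D ≤ H := hDdef ▸ inf_le_left
          have h1 : H₁ ≤ D ⊓ H₁ :=
            le_of_relIndex_prime hp (le_inf hCD hCH₁) inf_le_right hidx2
              (Subgroup.mem_inf.mpr ⟨hxD, hxH₁⟩) hxC
          have h2 : H ≤ D :=
            le_of_relIndex_prime hp (h1.trans inf_le_left) hDH hidx1 hyD hyH₁
          rw [Subgroup.mem_centralizer_iff]
          intro g hg
          exact (((hmemD g).mp (h2 hg)).2).symm
        · exact le_inf hZC (hZc.trans (Subgroup.centralizer_le hCH))
      have hCC : ⁅C, C⁆ ≤ Subgroup.centralizer (C : Set G) :=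
        (Subgroup.commutator_mono hCH hCH).trans (hHH.trans (Subgroup.centralizer_le hCH))
      have hc1 := Subgroup.relIndex_mul_relIndex ⊥ H₁ H bot_le hH₁H
      have hc2 := Subgroup.relIndex_mul_relIndex ⊥ C H₁ bot_le hCH₁
      rw [Subgroup.relIndex_bot_left, Subgroup.relIndex_bot_left] at hc1 hc2
      rw [hidx1] at hc1
      rw [hidx2] at hc2
      have hcardH : Nat.card H = Nat.card C * p * p := by rw [← hc1, ← hc2]
      have hCpos : 0 < Nat.card C := Nat.card_pos
      have hlt : Nat.card C < m := by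
        have h2 : 2 ≤ p := hp.two_le
        have : Nat.card C * 1 < Nat.card C * p * p := by
          rw [mul_assoc]
          exact Nat.mul_lt_mul_of_pos_left (by nlinarith) hCpos
        omega
      obtain ⟨n, hn⟩ := ih (Nat.card C) hlt C le_rfl hCC (by rw [hZCeq]; exact hZcard)
      refine ⟨n + 1, ?_⟩
      rw [hcardH, hn]
      ring

/-- The order of an extraspecial p-group is an odd power p^(2n+1) of p with n ≥ 1. -/
theorem result {P : Type*} [Group P] [Finite P] {p : ℕ} [Fact p.Prime] (h : Cfsg.IsExtraspecial p P) : ∃ n : ℕ, 1 ≤ n ∧ Nat.card P = p ^ (2 * n + 1) := by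
  obtain ⟨⟨hP, -, hcomm⟩, hcard⟩ := h
  have hp : p.Prime := Fact.out
  have hc : Subgroup.centralizer ((⊤ : Subgroup P) : Set P) = Subgroup.center P := by
    rw [Subgroup.coe_top, Subgroup.centralizer_univ]
  obtain ⟨n, hn⟩ := card_of_center_card_prime hp (Nat.card (⊤ : Subgroup P)) ⊤ le_rfl
    (by rw [hc, ← hcomm, commutator_def])
    (by rw [hc, top_inf_eq]; exact hcard)
  rw [Subgroup.card_top] at hn
  refine ⟨n, ?_, hn⟩
  by_contra hn0
  have hn0' : n = 0 := by omega
  rw [hn0'] at hn
  simp only [mul_zero, zero_add, pow_one] at hn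
  have htop : Subgroup.center P = ⊤ := by
    rw [← Subgroup.card_eq_iff_eq_top, hcard, hn]
  have hbot : commutator P = ⊥ := (commutator_eq_bot_iff_center_eq_top P).mpr htop
  rw [hcomm, htop] at hbot
  have h1 : Nat.card (⊤ : Subgroup P) = 1 := by rw [hbot]; exact Subgroup.card_bot
  rw [Subgroup.card_top, hn] at h1
  exact hp.one_lt.ne' h1

end Cfsg.Agent.S0095
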