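import Cfsg.Statements.S0118
import Mathlib
import Cfsg.Agent.Lib.Helper6.ZJeGen
import Cfsg.Agent.Lib.Helper14.SecMain

set_option autoImplicit false
open Cfsg

namespace Cfsg.Agent.S0118

universe u

open Cfsg.Agent.Lib.Helper14 Cfsg.Agent.Lib.Helper2 in
/-- Groups not involving `SL(2,p)`: the functor `Z(J_e)` controls strong fusion (`p` odd). -/
theorem sf_zjE {p : ℕ} [Fact p.Prime] (hp : p ≠ 2) (X : Type u) [Group X] [Finite X]
    (hno : ¬ Cfsg.Involves (Matrix.SpecialLinearGroup (Fin 2) (ZMod p)) X) :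
    SF p ({zjFun p} : Set (∀ (Q : Type u) [Group Q], Subgroup Q)) X := by
  have h𝓦 : ∀ W ∈ ({zjFun p} : Set (∀ (Q : Type u) [Group Q], Subgroup Q)),
      Cfsg.IsCharPFunctor.{u} p W := by
    intro W hW
    rw [Set.mem_singleton_iff] at hW
    exact hW ▸ isCharPFunctor_zjFun p
  refine sf_of_constrained h𝓦
    (fun Y _ => ¬ Cfsg.Involves (Matrix.SpecialLinearGroup (Fin 2) (ZMod p)) Y) ?_ ?_ ?_
    (Nat.card X) X hno rfl
  · intro Y _ hY H hH
    apply hY
    obtain ⟨K, L, hL, -, he⟩ :=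
      Cfsg.Agent.Lib.Helper17.exists_section_of_involves_subgroup H hH
    exact ⟨K, L, hL, he⟩
  · intro Y _ hY N _ hN
    exact hY (Cfsg.Agent.Lib.Helper17.involves_of_surjective_hom (QuotientGroup.mk' N)
      (QuotientGroup.mk'_surjective N) hN)
  · intro Y _ _ hY hC _ S B y hB hBy
    have hn := Cfsg.Agent.Lib.Helper6.zje_normal hp hY hC S
    exact Reach.step hB ⟨zjFun p, rfl, rfl⟩
      (by
        show y ∈ Subgroup.normalizer
          ((Cfsg.inducedFunctor (zjFun p) (S : Subgroup Y) : Subgroup Y) : Set Y)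
        rw [inducedFunctor_zjFun', Subgroup.normalizer_eq_top_iff.mpr hn]
        exact Subgroup.mem_top y) hBy

/-- Glauberman's ZJ-Theorem, in the case of groups with no section isomorphic to SL(2,p), p odd: conjugation of subsets of a Sylow p-subgroup P inside P is always induced from the normalizer of Z(J(P)). -/
theorem result {G : Type*} [Group G] [Finite G] {p : ℕ} [Fact p.Prime] (hp : p ≠ 2) (hfree : ¬ ∃ (H K : Subgroup G) (hK : (K.subgroupOf H).Normal), Nonempty ((H ⧸ K.subgroupOf H) ≃* Matrix.SpecialLinearGroup (Fin 2) (ZMod p))) (P : Sylow p G) (A : Set G) (hA : A ⊆ (P : Set G)) (g : G) (hAg : (fun a => g⁻¹ * a * g) '' A ⊆ (P : Set G)) : ∃ n ∈ Subgroup.normalizer (Cfsg.centerThompsonOf p (P : Subgroup G) : Set G), ∀ a ∈ A, n⁻¹ * a * n = g⁻¹ * a * g := by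
  have hno : ¬ Cfsg.Involves (Matrix.SpecialLinearGroup (Fin 2) (ZMod p)) G := hfree
  obtain ⟨c, hc, hceq⟩ := sf_zjE hp G hno P A g⁻¹ hA (by
    rintro _ ⟨a, ha, rfl⟩
    have h1 := hAg ⟨a, ha, rfl⟩
    rw [inv_inv]
    exact h1)
  refine ⟨c⁻¹, Subgroup.inv_mem _ ?_, fun a ha => ?_⟩
  · refine Cfsg.Agent.S3071.chain_mem_normalizer ?_ hc
    rintro _ ⟨W', hW', rfl⟩
    rw [Set.mem_singleton_iff] at hW'
    rw [hW']
    show Cfsg.inducedFunctor (Cfsg.Agent.Lib.Helper2.zjFun p) (P : Subgroup G) = _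
    rw [Cfsg.Agent.Lib.Helper2.inducedFunctor_zjFun']
  · have h1 := hceq a ha
    rw [inv_inv] at h1 ⊢
    exact h1

end Cfsg.Agent.S0118
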