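import Mathlib
import Cfsg.Statements.S0121

set_option autoImplicit false
open Cfsg

namespace Cfsg.Agent.S0121

/-- A p'-automorphism of a p-group acting trivially on a critical subgroup is trivial. -/
theorem result {G : Type*} [Group G] [Finite G] {p : ℕ} [Fact p.Prime] (hG : IsPGroup p G) (H : Subgroup G) (hH : H.Characteristic) (h1 : (frattini H).map H.subtype ≤ Subgroup.centralizer (H : Set G)) (h2 : ⁅H, (⊤ : Subgroup G)⁆ ≤ H ⊓ Subgroup.centralizer (H : Set G)) (h3 : Subgroup.centralizer (H : Set G) ≤ H) (a : MulAut G) (ha : Nat.Coprime (orderOf a) p) (h : ∀ x ∈ H, a x = x) : a = 1 := by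
  have hnorm : H.Normal := inferInstance
  ext g
  change a g = g
  set c := g⁻¹ * a g with hc
  have hcH : c ∈ Subgroup.centralizer (H : Set G) := by
    rw [Subgroup.mem_centralizer_iff]
    intro x hx
    have hx' : g * x * g⁻¹ ∈ H := hnorm.conj_mem x hx g
    have e1 := h _ hx'
    rw [map_mul, map_mul, h x hx, map_inv] at e1
    have e2 : x = g⁻¹ * (a g * x * (a g)⁻¹) * g := by rw [e1]; group
    have e3 : c * x * c⁻¹ = x := by
      nth_rewrite 2 [e2]
      rw [hc]; group
    calc x * c = (c * x * c⁻¹) * c := by rw [e3]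
      _ = c * x := by group
  have hcH' : c ∈ H := h3 hcH
  have hac : a c = c := h c hcH'
  have hag : a g = g * c := by rw [hc]; group
  have hpow : ∀ k : ℕ, (a ^ k) g = g * c ^ k := by
    intro k
    induction k with
    | zero => simp
    | succ k ih =>
      rw [pow_succ', MulAut.mul_apply, ih, map_mul, map_pow, hac, hag, pow_succ']
      group
  have hk := hpow (orderOf a)
  rw [pow_orderOf_eq_one] at hk
  have hck : c ^ (orderOf a) = 1 := by
    have : g * c ^ (orderOf a) = g * 1 := by rw [mul_one]; exact hk.symm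
    exact mul_left_cancel this
  obtain ⟨n, hn⟩ := hG c
  have d1 : orderOf c ∣ orderOf a := orderOf_dvd_of_pow_eq_one hck
  have d2 : orderOf c ∣ p ^ n := orderOf_dvd_of_pow_eq_one hn
  have hcop : Nat.Coprime (orderOf a) (p ^ n) := Nat.Coprime.pow_right n ha
  have d3 : orderOf c = 1 := Nat.eq_one_of_dvd_coprimes hcop d1 d2
  have hc1 : c = 1 := orderOf_eq_one_iff.mp d3
  rw [hag, hc1, mul_one]

end Cfsg.Agent.S0121
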