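import Cfsg.Statements.S0214
import Mathlib
import Cfsg.Agent.Lib.Helper3.Strong

set_option autoImplicit false
open Cfsg

namespace Cfsg.Agent.S0214

open Cfsg.Agent.Lib.Helper3

theorem step0 {G : Type*} [Group G] (H : Subgroup G) (P : Subgroup ↥H)
    (hyp : ∀ X : Subgroup ↥H, X ≤ P → X ≠ ⊥ →
      Subgroup.normalizer ((X.map H.subtype : Subgroup G) : Set G) ≤ H)
    (h : G) (hh : h ∈ H) (Y : Subgroup G) (hY : Y ≠ ⊥)
    (hYP : ∀ y ∈ Y, h⁻¹ * y * h ∈ P.map H.subtype) :
    Subgroup.normalizer (Y : Set G) ≤ H := by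
  let φ : ↥H →* G := (MulAut.conj h).toMonoidHom.comp H.subtype
  have hφ : ∀ x : ↥H, φ x = h * x.1 * h⁻¹ := fun x => rfl
  have hXP : Y.comap φ ≤ P := by
    intro x hx
    have h1 : h * x.1 * h⁻¹ ∈ Y := hx
    have h2 := hYP _ h1
    have h3 : h⁻¹ * (h * x.1 * h⁻¹) * h = x.1 := by group
    rw [h3] at h2
    obtain ⟨x', hx', hxx⟩ := h2
    have : x' = x := Subtype.ext hxx
    rw [← this]; exact hx'
  have hmem : ∀ z : G, z ∈ (Y.comap φ).map H.subtype ↔ h * z * h⁻¹ ∈ Y := by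
    intro z
    constructor
    · rintro ⟨x, hx, rfl⟩; exact hx
    · intro hz
      have h2 := hYP _ hz
      have h3 : h⁻¹ * (h * z * h⁻¹) * h = z := by group
      rw [h3] at h2
      obtain ⟨x', hx', hxx⟩ := h2
      refine ⟨x', ?_, hxx⟩
      show h * x'.1 * h⁻¹ ∈ Y
      have hxx' : x'.1 = z := hxx
      rw [hxx']; exact hz
  have hXne : Y.comap φ ≠ ⊥ := by
    obtain ⟨y, hy1⟩ := Subgroup.ne_bot_iff_exists_ne_one.mp hY
    intro hbot
    have h2 : h⁻¹ * y.1 * h ∈ (Y.comap φ).map H.subtype := by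
      rw [hmem]
      have e : h * (h⁻¹ * y.1 * h) * h⁻¹ = y.1 := by group
      rw [e]; exact y.2
    rw [hbot, Subgroup.map_bot, Subgroup.mem_bot] at h2
    apply hy1
    apply Subtype.ext
    have e : y.1 = h * (h⁻¹ * y.1 * h) * h⁻¹ := by group
    rw [e, h2]; simp
  have key := hyp _ hXP hXne
  intro n hn
  have hn' : h⁻¹ * n * h ∈
      Subgroup.normalizer ((((Y.comap φ).map H.subtype : Subgroup G)) : Set G) := by
    rw [Subgroup.mem_normalizer_iff]
    intro z
    rw [hmem, hmem]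
    have hnn := (Subgroup.mem_normalizer_iff.mp hn) (h * z * h⁻¹)
    rw [hnn]
    have : h * (h⁻¹ * n * h * z * (h⁻¹ * n * h)⁻¹) * h⁻¹ = n * (h * z * h⁻¹) * n⁻¹ := by group
    rw [this]
  have h4 := key hn'
  have : n = h * (h⁻¹ * n * h) * h⁻¹ := by group
  rw [this]
  exact H.mul_mem (H.mul_mem hh h4) (H.inv_mem hh)

theorem exists_conj_le_sylow {G : Type*} [Group G] [Finite G] (H : Subgroup G) (P : Sylow 2 ↥H)
    (Q : Subgroup G) (hQ : IsPGroup 2 Q) (hQH : Q ≤ H) :
    ∃ h ∈ H, ∀ x ∈ Q, h⁻¹ * x * h ∈ (P : Subgroup ↥H).map H.subtype := by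
  have : Fact (Nat.Prime 2) := ⟨Nat.prime_two⟩
  have hQ' : IsPGroup 2 (Q.subgroupOf H) := hQ.comap_subtype
  obtain ⟨R, hR⟩ := hQ'.exists_le_sylow
  obtain ⟨k, hk⟩ := MulAction.exists_smul_eq ↥H P R
  refine ⟨k.1, k.2, ?_⟩
  intro x hx
  have hxR : (⟨x, hQH hx⟩ : ↥H) ∈ R := hR (Subgroup.mem_subgroupOf.mpr hx)
  rw [← hk] at hxR
  have e : k * (k⁻¹ * (⟨x, hQH hx⟩ : ↥H) * k) * k⁻¹ = ⟨x, hQH hx⟩ := by group
  rw [← e] at hxR
  exact ⟨_, mem_conj_sylow.mp hxR, rfl⟩

theorem exists_max_two_subgroup {G : Type*} [Group G] [Finite G] (K : Subgroup G)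
    (Q : Subgroup G) (hQ : IsPGroup 2 Q) (hQK : Q ≤ K) :
    ∃ S : Subgroup G, Q ≤ S ∧ S ≤ K ∧ IsPGroup 2 S ∧
      ∀ R : Subgroup G, IsPGroup 2 R → S ≤ R → R ≤ K → R = S := by
  have : Fact (Nat.Prime 2) := ⟨Nat.prime_two⟩
  have hQ' : IsPGroup 2 (Q.subgroupOf K) := hQ.comap_subtype
  obtain ⟨R₀, hR₀⟩ := hQ'.exists_le_sylow
  refine ⟨(R₀ : Subgroup ↥K).map K.subtype, ?_, ?_, R₀.isPGroup'.map _, ?_⟩
  · intro x hx
    exact ⟨⟨x, hQK hx⟩, hR₀ (Subgroup.mem_subgroupOf.mpr hx), rfl⟩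
  · rintro _ ⟨x, -, rfl⟩; exact x.2
  · intro R hR hSR hRK
    have h1 : R.subgroupOf K = R₀ := R₀.is_maximal' hR.comap_subtype (by
      intro x hx
      rw [Subgroup.mem_subgroupOf]
      exact hSR ⟨x, hx, rfl⟩)
    rw [← h1]
    exact (Subgroup.map_subgroupOf_eq_of_le hRK).symm

theorem exists_normalizing_of_lt {G : Type*} [Group G] [Finite G] (S T : Subgroup G)
    (hT : IsPGroup 2 T) (hST : S ≤ T) (hne : S ≠ T) :
    ∃ y ∈ T, y ∈ Subgroup.normalizer (S : Set G) ∧ y ∉ S := by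
  have : Fact (Nat.Prime 2) := ⟨Nat.prime_two⟩
  have hnil : Group.IsNilpotent ↥T := hT.isNilpotent
  have hnc := Group.normalizerCondition_of_isNilpotent (G := ↥T)
  have hlt : S.subgroupOf T < ⊤ := by
    rw [lt_top_iff_ne_top]
    intro h
    apply hne
    exact le_antisymm hST (Subgroup.subgroupOf_eq_top.mp h)
  have h2 := hnc _ hlt
  obtain ⟨y, hy1, hy2⟩ := SetLike.exists_of_lt h2
  refine ⟨y.1, y.2, ?_, fun h => hy2 (Subgroup.mem_subgroupOf.mpr h)⟩
  rw [Subgroup.mem_normalizer_iff]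
  intro x
  have hy := Subgroup.mem_normalizer_iff.mp hy1
  constructor
  · intro hx
    have := (hy ⟨x, hST hx⟩).mp (Subgroup.mem_subgroupOf.mpr hx)
    exact Subgroup.mem_subgroupOf.mp this
  · intro hx
    have hxT : x ∈ T := by
      have h3 : y.1 * x * y.1⁻¹ ∈ T := hST hx
      have e : x = y.1⁻¹ * (y.1 * x * y.1⁻¹) * y.1 := by group
      rw [e]
      exact T.mul_mem (T.mul_mem (T.inv_mem y.2) h3) y.2
    have := (hy ⟨x, hxT⟩).mpr (Subgroup.mem_subgroupOf.mpr hx)
    exact Subgroup.mem_subgroupOf.mp this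

/-- Let H be a proper subgroup of the finite group G and P a nontrivial Sylow 2-subgroup of H. Then H is strongly embedded in G if and only if N_G(X) ≤ H for every nontrivial subgroup X of P. -/
theorem result {G : Type*} [Group G] [Finite G] (H : Subgroup G) (hH : H ≠ ⊤) (P : Sylow 2 ↥H) (hP : (P : Subgroup ↥H) ≠ ⊥) : Cfsg.IsStronglyEmbedded H ↔ (∀ X : Subgroup ↥H, X ≤ (P : Subgroup ↥H) → X ≠ ⊥ → Subgroup.normalizer ((X.map H.subtype : Subgroup G) : Set G) ≤ H) := by
  have : Fact (Nat.Prime 2) := ⟨Nat.prime_two⟩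
  constructor
  · intro hSE X hXP hXne n hn
    rw [stronglyEmbedded_iff] at hSE
    obtain ⟨-, -, hse⟩ := hSE
    by_contra hnH
    have hXp : IsPGroup 2 X := P.isPGroup'.to_le hXP
    have hd : 2 ∣ Nat.card X := by
      rcases hXp.card_eq_or_dvd with h | h
      · exact absurd (Subgroup.eq_bot_of_card_eq _ h) hXne
      · exact h
    obtain ⟨x, hx⟩ := exists_prime_orderOf_dvd_card' (G := X) 2 hd
    have hx2 : orderOf ((x : ↥H) : G) = 2 := by
      rw [Subgroup.orderOf_coe, Subgroup.orderOf_coe]; exact hx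
    have hxX' : ((x : ↥H) : G) ∈ X.map H.subtype := ⟨x.1, x.2, rfl⟩
    have h3 := ((Subgroup.mem_normalizer_iff''.mp hn) _).mp hxX'
    apply hse n hnH _ (x : ↥H).2 hx2
    obtain ⟨w, -, hw⟩ := h3
    rw [← hw]; exact w.2
  · intro hyp
    rw [stronglyEmbedded_iff]
    refine ⟨hH, ?_, ?_⟩
    · have hd : 2 ∣ Nat.card (P : Subgroup ↥H) := by
        rcases P.isPGroup'.card_eq_or_dvd with h | h
        · exact absurd (Subgroup.eq_bot_of_card_eq _ h) hP
        · exact h
      exact even_iff_two_dvd.mpr (hd.trans (Subgroup.card_subgroup_dvd_card _))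
    · intro g hg s hsH hs2 hcon
      set D := H ⊓ H.map (MulAut.conj g).toMonoidHom with hD
      have hsD : s ∈ D := ⟨hsH, mem_map_conj.mpr hcon⟩
      have hzp : IsPGroup 2 (Subgroup.zpowers s) :=
        IsPGroup.of_card (n := 1) (by rw [Nat.card_zpowers, hs2, pow_one])
      obtain ⟨S, hsS, hSD, hSp, hSmax⟩ :=
        exists_max_two_subgroup D (Subgroup.zpowers s) hzp (Subgroup.zpowers_le.mpr hsD)
      have hsS' : s ∈ S := hsS (Subgroup.mem_zpowers s)
      have hSne : S ≠ ⊥ := by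
        intro h; rw [h] at hsS'; exact invol_ne_one hs2 (Subgroup.mem_bot.mp hsS')
      obtain ⟨h₁, hh₁, hT₁⟩ := exists_conj_le_sylow H P S hSp (hSD.trans inf_le_left)
      set S' := S.map (MulAut.conj g⁻¹).toMonoidHom with hS'
      have hS'mem : ∀ x, x ∈ S' ↔ g * x * g⁻¹ ∈ S := by
        intro x; rw [hS', mem_map_conj, inv_inv]
      have hS'H : S' ≤ H := by
        intro x hx
        have h1 : g * x * g⁻¹ ∈ H.map (MulAut.conj g).toMonoidHom := (hSD ((hS'mem x).mp hx)).2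
        rw [mem_map_conj] at h1
        have e : g⁻¹ * (g * x * g⁻¹) * g = x := by group
        rw [e] at h1; exact h1
      have hS'p : IsPGroup 2 S' := hSp.map _
      obtain ⟨h₂, hh₂, hT₂⟩ := exists_conj_le_sylow H P S' hS'p hS'H
      have hS'ne : S' ≠ ⊥ := by
        intro h
        have h1 : g⁻¹ * s * g ∈ S' := by
          rw [hS'mem]
          have e : g * (g⁻¹ * s * g) * g⁻¹ = s := by group
          rw [e]; exact hsS'
        rw [h, Subgroup.mem_bot] at h1
        apply invol_ne_one hs2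
        have e : s = g * (g⁻¹ * s * g) * g⁻¹ := by group
        rw [e, h1]; simp
      have hN1 : Subgroup.normalizer (S : Set G) ≤ H := step0 H P hyp h₁ hh₁ S hSne hT₁
      have hN2 : Subgroup.normalizer (S' : Set G) ≤ H := step0 H P hyp h₂ hh₂ S' hS'ne hT₂
      have hND : Subgroup.normalizer (S : Set G) ≤ D := by
        intro n hn
        refine ⟨hN1 hn, ?_⟩
        show n ∈ H.map (MulAut.conj g).toMonoidHom
        rw [mem_map_conj]
        apply hN2
        rw [Subgroup.mem_normalizer_iff]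
        intro x
        rw [hS'mem, hS'mem]
        have hnn := (Subgroup.mem_normalizer_iff.mp hn) (g * x * g⁻¹)
        rw [hnn]
        have : g * (g⁻¹ * n * g * x * (g⁻¹ * n * g)⁻¹) * g⁻¹ = n * (g * x * g⁻¹) * n⁻¹ := by group
        rw [this]
      set P' := (P : Subgroup ↥H).map H.subtype with hP'
      have hP'p : IsPGroup 2 P' := P.isPGroup'.map _
      have hA : ∀ x ∈ P', h₁ * x * h₁⁻¹ ∈ S := by
        by_contra hcon2
        push Not at hcon2
        have hST₁ : S ≤ P'.map (MulAut.conj h₁).toMonoidHom :=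
          fun x hx => mem_map_conj.mpr (hT₁ x hx)
        have hne : S ≠ P'.map (MulAut.conj h₁).toMonoidHom := by
          intro heq
          obtain ⟨x, hx, hxS⟩ := hcon2
          apply hxS
          rw [heq, mem_map_conj]
          have e : h₁⁻¹ * (h₁ * x * h₁⁻¹) * h₁ = x := by group
          rw [e]; exact hx
        obtain ⟨y, hyT, hyN, hyS⟩ := exists_normalizing_of_lt S _ (hP'p.map _) hST₁ hne
        have hQp : IsPGroup 2 (Subgroup.zpowers y ⊔ S : Subgroup G) :=
          IsPGroup.to_sup_of_normal_right' ((hP'p.map _).to_le (Subgroup.zpowers_le.mpr hyT)) hSp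
            (Subgroup.zpowers_le.mpr hyN)
        have hQD : Subgroup.zpowers y ⊔ S ≤ D :=
          sup_le ((Subgroup.zpowers_le.mpr hyN).trans hND) hSD
        have h5 := hSmax _ hQp le_sup_right hQD
        apply hyS
        rw [← h5]
        exact Subgroup.mem_sup_left (Subgroup.mem_zpowers y)
      have hB : ∀ x ∈ P', h₂ * x * h₂⁻¹ ∈ S' := by
        by_contra hcon2
        push Not at hcon2
        have hST₂ : S' ≤ P'.map (MulAut.conj h₂).toMonoidHom :=
          fun x hx => mem_map_conj.mpr (hT₂ x hx)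
        have hne : S' ≠ P'.map (MulAut.conj h₂).toMonoidHom := by
          intro heq
          obtain ⟨x, hx, hxS⟩ := hcon2
          apply hxS
          rw [heq, mem_map_conj]
          have e : h₂⁻¹ * (h₂ * x * h₂⁻¹) * h₂ = x := by group
          rw [e]; exact hx
        obtain ⟨y, hyT, hyN, hyS⟩ := exists_normalizing_of_lt S' _ (hP'p.map _) hST₂ hne
        have hy1N : g * y * g⁻¹ ∈ Subgroup.normalizer (S : Set G) := by
          rw [Subgroup.mem_normalizer_iff]
          intro x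
          have hx1 : x ∈ S ↔ g⁻¹ * x * g ∈ S' := by
            rw [hS'mem]
            have e : g * (g⁻¹ * x * g) * g⁻¹ = x := by group
            rw [e]
          have hx2 : g * y * g⁻¹ * x * (g * y * g⁻¹)⁻¹ ∈ S ↔ y * (g⁻¹ * x * g) * y⁻¹ ∈ S' := by
            rw [hS'mem]
            have e : g * (y * (g⁻¹ * x * g) * y⁻¹) * g⁻¹ = g * y * g⁻¹ * x * (g * y * g⁻¹)⁻¹ := by
              group
            rw [e]
          rw [hx1, hx2]
          exact (Subgroup.mem_normalizer_iff.mp hyN) _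
        have hy1S : g * y * g⁻¹ ∉ S := fun h => hyS ((hS'mem y).mpr h)
        have hy1p : IsPGroup 2 (Subgroup.zpowers (g * y * g⁻¹)) := by
          have e : Subgroup.zpowers (g * y * g⁻¹) =
              (Subgroup.zpowers y).map (MulAut.conj g).toMonoidHom := by
            rw [MonoidHom.map_zpowers]; rfl
          rw [e]
          exact ((hP'p.map _).to_le (Subgroup.zpowers_le.mpr hyT)).map _
        have hQp : IsPGroup 2 (Subgroup.zpowers (g * y * g⁻¹) ⊔ S : Subgroup G) :=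
          IsPGroup.to_sup_of_normal_right' hy1p hSp (Subgroup.zpowers_le.mpr hy1N)
        have hQD : Subgroup.zpowers (g * y * g⁻¹) ⊔ S ≤ D :=
          sup_le ((Subgroup.zpowers_le.mpr hy1N).trans hND) hSD
        have h5 := hSmax _ hQp le_sup_right hQD
        apply hy1S
        rw [← h5]
        exact Subgroup.mem_sup_left (Subgroup.mem_zpowers _)
      have hnP : h₂⁻¹ * g⁻¹ * h₁ ∈ Subgroup.normalizer (P' : Set G) := by
        rw [Subgroup.mem_normalizer_iff]
        intro x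
        constructor
        · intro hx
          have h1 := hA x hx
          have h2 : g⁻¹ * (h₁ * x * h₁⁻¹) * g ∈ S' := by
            rw [hS'mem]
            have e : g * (g⁻¹ * (h₁ * x * h₁⁻¹) * g) * g⁻¹ = h₁ * x * h₁⁻¹ := by group
            rw [e]; exact h1
          have h3 := hT₂ _ h2
          have e : h₂⁻¹ * g⁻¹ * h₁ * x * (h₂⁻¹ * g⁻¹ * h₁)⁻¹ =
              h₂⁻¹ * (g⁻¹ * (h₁ * x * h₁⁻¹) * g) * h₂ := by group
          rw [e]; exact h3
        · intro hx
          have h1 := hB _ hx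
          have h2 := (hS'mem _).mp h1
          have h3 := hT₁ _ h2
          have e : h₁⁻¹ * (g * (h₂ * (h₂⁻¹ * g⁻¹ * h₁ * x * (h₂⁻¹ * g⁻¹ * h₁)⁻¹) * h₂⁻¹) * g⁻¹) * h₁
              = x := by group
          rw [e] at h3; exact h3
      have h6 := hyp (P : Subgroup ↥H) le_rfl hP hnP
      apply hg
      have e : g = h₁ * (h₂⁻¹ * g⁻¹ * h₁)⁻¹ * h₂⁻¹ := by group
      rw [e]
      exact H.mul_mem (H.mul_mem hh₁ (H.inv_mem h6)) (H.inv_mem hh₂)

end Cfsg.Agent.S0214
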