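import Cfsg.Statements.S0223
import Mathlib
import Cfsg.Agent.Lib.Helper3.Strong

set_option autoImplicit false
open Cfsg

namespace Cfsg.Agent.S0223

/-- Let H be a proper subgroup of even order of the finite group G. Then H is strongly embedded if and only if (i) C_G(t) ≤ H for every involution t of H and (ii) H controls fusion of its involutions: involutions of H conjugate in G are conjugate in H. -/
theorem result {G : Type*} [Group G] [Finite G] (H : Subgroup G) (hH : H ≠ ⊤) (heven : Even (Nat.card H)) : Cfsg.IsStronglyEmbedded H ↔ ((∀ t ∈ H, orderOf t = 2 → Subgroup.centralizer ({t} : Set G) ≤ H) ∧ (∀ t ∈ H, ∀ s ∈ H, orderOf t = 2 → orderOf s = 2 → IsConj t s → ∃ h ∈ H, h * t * h⁻¹ = s)) := by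
  rw [Cfsg.Agent.Lib.Helper3.stronglyEmbedded_iff]
  constructor
  · rintro ⟨-, -, hse⟩
    constructor
    · intro t htH ht2 c hc
      by_contra hcH
      apply hse c hcH t htH ht2
      have hcomm := Cfsg.Agent.Lib.Helper3.mem_cent_singleton.mp hc
      have : c⁻¹ * t * c = t := by
        rw [mul_assoc, hcomm, ← mul_assoc, inv_mul_cancel, one_mul]
      rw [this]; exact htH
    · intro t htH s hsH ht2 hs2 hconj
      obtain ⟨g, hg⟩ := isConj_iff.mp hconj
      refine ⟨g, ?_, hg⟩
      by_contra hgH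
      apply hse g hgH s hsH hs2
      have : g⁻¹ * s * g = t := by rw [← hg]; group
      rw [this]; exact htH
  · rintro ⟨h1, h2⟩
    refine ⟨hH, heven, ?_⟩
    intro g hg s hsH hs2 hcon
    have hconj : IsConj (g⁻¹ * s * g) s := isConj_iff.mpr ⟨g, by group⟩
    have ht2 : orderOf (g⁻¹ * s * g) = 2 :=
      Cfsg.Agent.Lib.Helper3.invol_conj hs2 (isConj_iff.mpr ⟨g⁻¹, by rw [inv_inv]⟩)
    obtain ⟨h, hhH, hh⟩ := h2 _ hcon s hsH ht2 hs2 hconj
    have hc : h⁻¹ * g ∈ Subgroup.centralizer ({g⁻¹ * s * g} : Set G) := by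
      rw [Cfsg.Agent.Lib.Helper3.mem_cent_singleton]
      have e : s = h * (g⁻¹ * s * g) * h⁻¹ := hh.symm
      calc g⁻¹ * s * g * (h⁻¹ * g) = g⁻¹ * s * g * h⁻¹ * g := by group
        _ = h⁻¹ * (h * (g⁻¹ * s * g) * h⁻¹) * g := by group
        _ = h⁻¹ * s * g := by rw [← e]
        _ = h⁻¹ * g * (g⁻¹ * s * g) := by group
    have := h1 _ hcon ht2 hc
    apply hg
    have e2 : g = h * (h⁻¹ * g) := by group
    rw [e2]
    exact Subgroup.mul_mem _ hhH this

end Cfsg.Agent.S0223
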