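import Cfsg.Statements.S0224
import Mathlib
import Cfsg.Agent.Lib.Helper3.Strong

set_option autoImplicit false
open Cfsg

namespace Cfsg.Agent.S0224

/-- Let H be a proper subgroup of even order of the finite group G. Then H is strongly embedded if and only if each involution of H fixes exactly one point (namely the coset H) in the action of G on the cosets of H. -/
theorem result {G : Type*} [Group G] [Finite G] (H : Subgroup G) (hH : H ≠ ⊤) (heven : Even (Nat.card H)) : Cfsg.IsStronglyEmbedded H ↔ ∀ t ∈ H, orderOf t = 2 → Nat.card {c : G ⧸ H // t • c = c} = 1 := by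
  rw [Cfsg.Agent.Lib.Helper3.stronglyEmbedded_iff]
  constructor
  · rintro ⟨-, -, hse⟩ t htH ht2
    rw [Nat.card_eq_one_iff_unique]
    have hfix1 : t • ((1 : G) : G ⧸ H) = ((1 : G) : G ⧸ H) := by
      rw [Cfsg.Agent.Lib.Helper3.fixed_coset_iff ht2]
      simpa using htH
    constructor
    · constructor
      have key : ∀ c : {c : G ⧸ H // t • c = c}, c = ⟨((1 : G) : G ⧸ H), hfix1⟩ := by
        rintro ⟨c, hc⟩
        apply Subtype.ext
        induction c using QuotientGroup.induction_on with
        | H g =>
          rw [Cfsg.Agent.Lib.Helper3.fixed_coset_iff ht2] at hc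
          have hgH : g ∈ H := by
            by_contra hgH
            exact hse g hgH t htH ht2 hc
          show (g : G ⧸ H) = ((1 : G) : G ⧸ H)
          rw [QuotientGroup.eq]
          simpa using hgH
      intro a b
      rw [key a, key b]
    · exact ⟨⟨_, hfix1⟩⟩
  · intro h
    refine ⟨hH, heven, ?_⟩
    intro g hg s hsH hs2 hcon
    have hcard := h s hsH hs2
    rw [Nat.card_eq_one_iff_unique] at hcard
    obtain ⟨hsub, -⟩ := hcard
    have hfix1 : s • ((1 : G) : G ⧸ H) = ((1 : G) : G ⧸ H) := by
      rw [Cfsg.Agent.Lib.Helper3.fixed_coset_iff hs2]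
      simpa using hsH
    have hfixg : s • ((g : G) : G ⧸ H) = ((g : G) : G ⧸ H) := by
      rw [Cfsg.Agent.Lib.Helper3.fixed_coset_iff hs2]
      exact hcon
    have := hsub.elim (⟨_, hfix1⟩ : {c : G ⧸ H // s • c = c}) ⟨_, hfixg⟩
    have h2 : ((1 : G) : G ⧸ H) = ((g : G) : G ⧸ H) := congrArg Subtype.val this
    rw [QuotientGroup.eq] at h2
    apply hg
    simpa using h2

end Cfsg.Agent.S0224
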