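import Cfsg.Statements.S0402
import Cfsg.Agent.S0403
import Cfsg.Agent.S0405
import Cfsg.Agent.S0400
import Cfsg.Agent.S1573
import Cfsg.Agent.S1575
import Cfsg.Agent.S1583
import Cfsg.Agent.S1581
import Cfsg.Agent.Lib.Helper28.Co2Abs

set_option autoImplicit false
open Cfsg

namespace Cfsg.Agent.S0402

open Cfsg.Agent.Lib.Helper28 Cfsg.Agent.Lib.Helper4 Cfsg.Agent.Lib.Helper4.Golay
open Cfsg.Agent.Lib.Helper4.Stv
open Cfsg.Agent.S1584 Cfsg.Agent.S1571 Cfsg.Agent.S1634 Cfsg.Agent.S1580 Cfsg.Agent.S0403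
open scoped Pointwise

/-- Same orbit under the joint stabiliser of the two standard orthogonal vectors. -/
def RelVW (w w' : leechLattice) : Prop := ∃ g ∈ Co0, g vStar = vStar ∧ g wA1 = wA1 ∧ g w = w'

theorem RelVW.symm {w w' : leechLattice} (h : RelVW w w') : RelVW w' w := by
  obtain ⟨g, hg, hv, hw, rfl⟩ := h
  refine ⟨g⁻¹, Co0.inv_mem hg, ?_, ?_, by simp⟩
  · rw [Equiv.Perm.inv_eq_iff_eq]
    exact hv.symm
  · rw [Equiv.Perm.inv_eq_iff_eq]
    exact hw.symm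

theorem RelVW.trans {u v w : leechLattice} (h1 : RelVW u v) (h2 : RelVW v w) : RelVW u w := by
  obtain ⟨g, hg, hgv, hgw, rfl⟩ := h1
  obtain ⟨h, hh, hhv, hhw, rfl⟩ := h2
  exact ⟨h * g, Co0.mul_mem hh hg, by rw [Equiv.Perm.mul_apply, hgv, hhv],
    by rw [Equiv.Perm.mul_apply, hgw, hhw], rfl⟩

theorem sgn_wA1 (c : GolayPt → ZMod 2) (hc : c ∈ golayCode) (ha : c a = 0) (hb : c b = 0) :
    CoA.sgnP c hc wA1 = wA1 := by
  apply Subtype.ext
  funext k
  rw [CoA.sgnP_apply]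
  unfold CoA.sgn
  by_cases hk : c k = 1
  · rw [if_pos hk]
    have hka : k ≠ a := by
      rintro rfl
      rw [ha] at hk
      exact absurd hk (by decide)
    have hkb : k ≠ b := by
      rintro rfl
      rw [hb] at hk
      exact absurd hk (by decide)
    show -(LeechGen.pp a b (-4) k) = LeechGen.pp a b (-4) k
    unfold LeechGen.pp
    rw [if_neg hka, if_neg hkb]
    norm_num
  · rw [if_neg hk]

theorem relVW_sgn (c : GolayPt → ZMod 2) (hc : c ∈ golayCode) (ha : c a = 0) (hb : c b = 0)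
    (w : leechLattice) : RelVW w (CoA.sgnP c hc w) :=
  ⟨_, CoA.sgnP_mem c hc, sgn_vStar c hc ha hb, sgn_wA1 c hc ha hb, rfl⟩

theorem relVW_prm (g : Equiv.Perm GolayPt) (hg : g ∈ M24) (ha : g a = a) (hb : g b = b)
    (w : leechLattice) : RelVW w (CoA.prmP g hg w) :=
  ⟨_, CoA.prmP_mem g hg, prm_vStar g hg ha hb, prm_wA1 g hg ha hb, rfl⟩

/-- Fixing the signs of a vector against a target by code words, within the stabiliser. -/
theorem signfix2 (z : GolayPt) (pm : GolayPt → ℕ) (hred : ∀ x, red basisP (pm x) = 0)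
    (P : GolayPt → Prop)
    (hspec : ∀ x i, P x → P i → (word (pm x) i = 1 ↔ x = i))
    (hab : ∀ x, P x → word (pm x) a = 0 ∧ word (pm x) b = 0)
    (w t : leechLattice)
    (hP : ∀ i, P i → ((w : GolayPt → ℤ) i = (t : GolayPt → ℤ) i ∨
      (w : GolayPt → ℤ) i = - (t : GolayPt → ℤ) i))
    (hN : ∀ i, ¬ P i → i ≠ z → (w : GolayPt → ℤ) i = (t : GolayPt → ℤ) i ∧
      ((w : GolayPt → ℤ) i = 0 ∨ i = a ∨ i = b))
    (hz : (w : GolayPt → ℤ) z = (t : GolayPt → ℤ) z ∨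
      (w : GolayPt → ℤ) z = - (t : GolayPt → ℤ) z)
    (htz : (t : GolayPt → ℤ) z % 4 = 2) : RelVW w t := by
  classical
  obtain ⟨F, hF⟩ : ∃ F : Finset GolayPt, F = Finset.univ.filter
      (fun x => P x ∧ (w : GolayPt → ℤ) x ≠ (t : GolayPt → ℤ) x) := ⟨_, rfl⟩
  obtain ⟨c, hc⟩ : ∃ c : GolayPt → ZMod 2, c = ∑ x ∈ F, word (pm x) := ⟨_, rfl⟩
  have hcm : c ∈ golayCode := by
    rw [hc]
    exact Submodule.sum_mem _ (fun x _ => Xi.word_mem_of_red (hred x))
  have hca : c a = 0 := by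
    rw [hc, Finset.sum_apply]
    apply Finset.sum_eq_zero
    intro x hx
    rw [hF, Finset.mem_filter] at hx
    exact (hab x hx.2.1).1
  have hcb : c b = 0 := by
    rw [hc, Finset.sum_apply]
    apply Finset.sum_eq_zero
    intro x hx
    rw [hF, Finset.mem_filter] at hx
    exact (hab x hx.2.1).2
  have hci : ∀ i, P i → (c i = 1 ↔ (w : GolayPt → ℤ) i ≠ (t : GolayPt → ℤ) i) := by
    intro i hi
    have e : c i = ∑ x ∈ F, (if x = i then (1 : ZMod 2) else 0) := by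
      rw [hc, Finset.sum_apply]
      apply Finset.sum_congr rfl
      intro x hx
      rw [hF, Finset.mem_filter] at hx
      have := hspec x i hx.2.1 hi
      by_cases hxi : x = i
      · rw [if_pos hxi]
        exact this.2 hxi
      · rw [if_neg hxi]
        rcases z2_cases (word (pm x) i) with h | h
        · exact h
        · exact absurd (this.1 h) hxi
    rw [e, Finset.sum_ite_eq' F i (fun _ => (1 : ZMod 2))]
    have hiF : i ∈ F ↔ (w : GolayPt → ℤ) i ≠ (t : GolayPt → ℤ) i := by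
      rw [hF, Finset.mem_filter]
      exact ⟨fun hh => hh.2.2, fun h => ⟨Finset.mem_univ _, hi, h⟩⟩
    constructor
    · intro h heq
      rw [if_neg (fun hh => hiF.1 hh heq)] at h
      exact absurd h (by decide)
    · intro h
      rw [if_pos (hiF.2 h)]
  have hk : ∀ k, k ≠ z →
      ((CoA.sgnP c hcm w : leechLattice) : GolayPt → ℤ) k = (t : GolayPt → ℤ) k := by
    intro k hkz
    rw [CoA.sgnP_apply]
    unfold CoA.sgn
    by_cases hPk : P k
    · by_cases hne : (w : GolayPt → ℤ) k = (t : GolayPt → ℤ) k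
      · rw [if_neg (fun h => (hci k hPk).1 h hne)]
        exact hne
      · rw [if_pos ((hci k hPk).2 hne)]
        rcases hP k hPk with h | h
        · exact absurd h hne
        · rw [h, neg_neg]
    · obtain ⟨h1, h2⟩ := hN k hPk hkz
      rcases h2 with h2 | h2 | h2
      · rw [← h1, h2]
        split_ifs <;> rfl
      · rw [h2, if_neg (by rw [hca]; decide), ← h2]
        exact h1
      · rw [h2, if_neg (by rw [hcb]; decide), ← h2]
        exact h1
  have hzz : ((CoA.sgnP c hcm w : leechLattice) : GolayPt → ℤ) z = (t : GolayPt → ℤ) z ∨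
      ((CoA.sgnP c hcm w : leechLattice) : GolayPt → ℤ) z = - (t : GolayPt → ℤ) z := by
    rw [CoA.sgnP_apply]
    unfold CoA.sgn
    split_ifs
    · rcases hz with h | h
      · right
        rw [h]
      · left
        rw [h, neg_neg]
    · exact hz
  have hs1 := Orb.even_sum _ (CoA.sgnP c hcm w).2 z (by rcases hzz with h | h <;> rw [h] <;> omega)
  have hs2 := Orb.even_sum _ t.2 z (by omega)
  have hdiff : ∑ k, (((CoA.sgnP c hcm w : leechLattice) : GolayPt → ℤ) k - (t : GolayPt → ℤ) k) =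
      ((CoA.sgnP c hcm w : leechLattice) : GolayPt → ℤ) z - (t : GolayPt → ℤ) z := by
    apply Finset.sum_eq_single z
    · intro k _ hk'
      rw [hk k hk', sub_self]
    · intro h
      exact absurd (Finset.mem_univ _) h
  rw [Finset.sum_sub_distrib] at hdiff
  have hfinz : ((CoA.sgnP c hcm w : leechLattice) : GolayPt → ℤ) z = (t : GolayPt → ℤ) z := by
    rcases hzz with h | h
    · exact h
    · rw [h] at hdiff
      omega
  have hfin : CoA.sgnP c hcm w = t := by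
    apply Subtype.ext
    funext k
    by_cases hkz : k = z
    · rw [hkz]
      exact hfinz
    · exact hk k hkz
  rw [← hfin]
  exact relVW_sgn c hcm hca hcb w
theorem normV0 (w : leechLattice) (hn : sqNorm (w : GolayPt → ℤ) = 32)
    (i0 : GolayPt) (h0 : (w : GolayPt → ℤ) i0 % 4 = 2) (ha : (w : GolayPt → ℤ) a = -2)
    (hb : (w : GolayPt → ℤ) b = 0) : RelVW w tB3 := by
  obtain ⟨c, hc, hoct, hon, hoff⟩ := shapeB w hn i0 h0
  have hca : c a = 1 := by
    by_contra h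
    have := hoff a h
    omega
  have hcb : c b ≠ 1 := by
    intro h
    rcases hon b h with h' | h' <;> omega
  obtain ⟨g, hg, ga, gb, go⟩ := octad_p_notq O3s (support₂ c) O3s_octad hoct a b
    tB3_pts.2.2.2.1 ((mem_support₂ c a).2 hca) tB3_pts.2.2.2.2
    (by rw [mem_support₂]; exact hcb)
  have hmem : ∀ k, word O3m k = 1 ↔ c (g k) = 1 := by
    intro k
    rw [← mem_support₂, ← mem_support₂, ← go]
    show k ∈ O3s ↔ g k ∈ g • O3s
    exact (Finset.smul_mem_smul_finset_iff g).symm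
  have r1 := relVW_prm g hg ga gb w
  have c1 : ∀ i, ((CoA.prmP g hg w : leechLattice) : GolayPt → ℤ) i = (w : GolayPt → ℤ) (g i) :=
    fun _ => rfl
  refine r1.trans ?_
  apply signfix2 z3 pm3 pm3_red P3 pm3_spec pm3_ab _ tB3
  · intro i hi
    have e : (tB3 : GolayPt → ℤ) i = 2 := (tB3_vals i).1 hi
    rw [e, c1]
    exact hon _ ((hmem i).1 hi.1)
  · intro i hi hiz
    by_cases hO : word O3m i = 1
    · have hia : i = a := by
        by_contra hc'
        exact hi ⟨hO, hc', hiz⟩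
      rw [hia]
      exact ⟨by rw [c1, ga, ha]; exact tB3_pts.1.symm, Or.inr (Or.inl rfl)⟩
    · have e : (tB3 : GolayPt → ℤ) i = 0 := (tB3_vals i).2 hO
      have e1 : ((CoA.prmP g hg w : leechLattice) : GolayPt → ℤ) i = 0 := by
        rw [c1]
        exact hoff _ (fun h => hO ((hmem i).2 h))
      exact ⟨by rw [e1, e], Or.inl e1⟩
  · have e : (tB3 : GolayPt → ℤ) z3 = -2 := tB3_pts.2.1
    rw [e, c1]
    rcases hon _ ((hmem z3).1 tB3_pts.2.2.1) with h | h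
    · right
      rw [h]
      norm_num
    · left
      exact h
  · have e : (tB3 : GolayPt → ℤ) z3 = -2 := tB3_pts.2.1
    rw [e]
    norm_num

theorem frame0 (p q : ↥leechLattice) (hp : sqNorm (p : GolayPt → ℤ) = 32)
    (hq : sqNorm (q : GolayPt → ℤ) = 32)
    (hpq : dotInt (p : GolayPt → ℤ) (q : GolayPt → ℤ) = 0) :
    ∃ G : ↥Co0, G • p = vStar ∧ G • q = wA1 := by
  obtain ⟨g1, h1⟩ := Cfsg.Agent.S0400.result p vStar hp vStar_norm
  have hq1 : sqNorm ((g1 • q : ↥leechLattice) : GolayPt → ℤ) = 32 := by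
    rw [Cfsg.Agent.S1640.hnorm]
    exact hq
  have hd1 : dotInt ((vStar : ↥leechLattice) : GolayPt → ℤ)
      ((g1 • q : ↥leechLattice) : GolayPt → ℤ) = 0 := by
    rw [← h1, Cfsg.Agent.S1640.hdotp]
    exact hpq
  obtain ⟨g2, h2, h3⟩ := Cfsg.Agent.S1583.orth_trans vStar (g1 • q) wA1 vStar_norm hq1 wA1_norm
    hd1 Cfsg.Agent.S0404.wA1_mem.2.1
  exact ⟨g2 * g1, by rw [mul_smul, h1, h2], by rw [mul_smul, h3]⟩

theorem std_coords (u : ↥leechLattice)
    (h1 : dotInt ((vStar : ↥leechLattice) : GolayPt → ℤ) (u : GolayPt → ℤ) = -8)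
    (h2 : dotInt ((wA1 : ↥leechLattice) : GolayPt → ℤ) (u : GolayPt → ℤ) = -8) :
    (u : GolayPt → ℤ) a = -2 ∧ (u : GolayPt → ℤ) b = 0 := by
  rw [dot_vStar] at h1
  rw [Tri.dot_wA1] at h2
  constructor <;> omega

theorem rel_frame (G : ↥Co0) (p q t : ↥leechLattice) (G1 : G • p = vStar) (G2 : G • q = wA1)
    (ht : sqNorm (t : GolayPt → ℤ) = 32)
    (hpt : dotInt (p : GolayPt → ℤ) (t : GolayPt → ℤ) = -8)
    (hqt : dotInt (q : GolayPt → ℤ) (t : GolayPt → ℤ) = -8) : RelVW (G • t) tB3 := by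
  have e1 : dotInt ((vStar : ↥leechLattice) : GolayPt → ℤ)
      ((G • t : ↥leechLattice) : GolayPt → ℤ) = -8 := by
    rw [← G1, Cfsg.Agent.S1640.hdotp]
    exact hpt
  have e2 : dotInt ((wA1 : ↥leechLattice) : GolayPt → ℤ)
      ((G • t : ↥leechLattice) : GolayPt → ℤ) = -8 := by
    rw [← G2, Cfsg.Agent.S1640.hdotp]
    exact hqt
  obtain ⟨c1, c2⟩ := std_coords _ e1 e2
  exact normV0 (G • t) (by rw [Cfsg.Agent.S1640.hnorm]; exact ht) a (by rw [c1]; norm_num) c1 c2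

/-- Transitivity on triples consisting of two orthogonal shortest vectors and a third one of
product -8 with both. -/
theorem trans_gen (p q t p' q' t' : ↥leechLattice)
    (hp : sqNorm (p : GolayPt → ℤ) = 32) (hq : sqNorm (q : GolayPt → ℤ) = 32)
    (ht : sqNorm (t : GolayPt → ℤ) = 32)
    (hpq : dotInt (p : GolayPt → ℤ) (q : GolayPt → ℤ) = 0)
    (hpt : dotInt (p : GolayPt → ℤ) (t : GolayPt → ℤ) = -8)
    (hqt : dotInt (q : GolayPt → ℤ) (t : GolayPt → ℤ) = -8)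
    (hp' : sqNorm (p' : GolayPt → ℤ) = 32) (hq' : sqNorm (q' : GolayPt → ℤ) = 32)
    (ht' : sqNorm (t' : GolayPt → ℤ) = 32)
    (hpq' : dotInt (p' : GolayPt → ℤ) (q' : GolayPt → ℤ) = 0)
    (hpt' : dotInt (p' : GolayPt → ℤ) (t' : GolayPt → ℤ) = -8)
    (hqt' : dotInt (q' : GolayPt → ℤ) (t' : GolayPt → ℤ) = -8) :
    ∃ g : ↥Co0, g • p = p' ∧ g • q = q' ∧ g • t = t' := by
  obtain ⟨G, G1, G2⟩ := frame0 p q hp hq hpq
  obtain ⟨G', G1', G2'⟩ := frame0 p' q' hp' hq' hpq'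
  obtain ⟨k, hk, k1, k2, k3⟩ := (rel_frame G p q t G1 G2 ht hpt hqt).trans
    (rel_frame G' p' q' t' G1' G2' ht' hpt' hqt').symm
  refine ⟨G'⁻¹ * ⟨k, hk⟩ * G, ?_, ?_, ?_⟩
  · rw [mul_smul, mul_smul, G1, inv_smul_eq_iff, G1']
    exact k1
  · rw [mul_smul, mul_smul, G2, inv_smul_eq_iff, G2']
    exact k2
  · rw [mul_smul, mul_smul, inv_smul_eq_iff]
    exact k3

/-- The stabiliser of the standard shortest vector. -/
abbrev H2 : Subgroup ↥Co0 := MulAction.stabilizer ↥Co0 vStar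

theorem orbit_eq2 : MulAction.orbit ↥H2 wM =
    {y : ↥leechLattice | sqNorm (y : GolayPt → ℤ) = 32 ∧
      dotInt ((vStar : ↥leechLattice) : GolayPt → ℤ) (y : GolayPt → ℤ) = -8} := by
  ext y
  constructor
  · rintro ⟨h, rfl⟩
    have hv : h.1 • vStar = vStar := h.2
    show sqNorm ((h.1 • wM : ↥leechLattice) : GolayPt → ℤ) = 32 ∧
      dotInt ((vStar : ↥leechLattice) : GolayPt → ℤ)
        ((h.1 • wM : ↥leechLattice) : GolayPt → ℤ) = -8
    refine ⟨by rw [Cfsg.Agent.S1640.hnorm]; exact Cfsg.Agent.S0404.wM_norm, ?_⟩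
    have e := Cfsg.Agent.S1640.hdotp h.1 vStar wM
    rw [hv] at e
    rw [e]
    exact Cfsg.Agent.S0404.vStar_wM
  · intro hy
    obtain ⟨g, g1, g2⟩ := Cfsg.Agent.S1575.result vStar wM y vStar_norm
      Cfsg.Agent.S0404.wM_norm hy.1 Cfsg.Agent.S0404.vStar_wM hy.2
    exact ⟨⟨g, g1⟩, g2⟩

theorem cnt_m8 (v : ↥leechLattice) (hv : sqNorm (v : GolayPt → ℤ) = 32) :
    {y : ↥leechLattice | sqNorm (y : GolayPt → ℤ) = 32 ∧
      dotInt (v : GolayPt → ℤ) (y : GolayPt → ℤ) = -8}.ncard = 47104 := by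
  rw [Cfsg.Agent.S1578.ncard_sub (fun y => sqNorm y = 32 ∧ dotInt (v : GolayPt → ℤ) y = -8)]
  exact (Cfsg.Agent.S1573.result _ v.2 hv).2.1

theorem cnt_z (v : ↥leechLattice) (hv : sqNorm (v : GolayPt → ℤ) = 32) :
    {y : ↥leechLattice | sqNorm (y : GolayPt → ℤ) = 32 ∧
      dotInt (v : GolayPt → ℤ) (y : GolayPt → ℤ) = 0}.ncard = 93150 := by
  rw [Cfsg.Agent.S1578.ncard_sub (fun y => sqNorm y = 32 ∧ dotInt (v : GolayPt → ℤ) y = 0)]
  exact (Cfsg.Agent.S1573.result _ v.2 hv).2.2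

theorem card_orbit2 : (MulAction.orbit ↥H2 wM).ncard = 47104 := by
  rw [orbit_eq2]
  exact cnt_m8 vStar vStar_norm


set_option maxRecDepth 100000 in
theorem table_m20 :
    (Cnt.clsK.map fun k => k.2.2.2 * Cnt.hvalP 32 true k.2.1 k.2.2.1 k.1 (-2) 0).sum +
    (Cnt.clsK.map fun k => k.2.2.2 * Cnt.hvalP 32 false k.2.1 k.2.2.1 k.1 (-2) 0).sum = 11264 := by
  decide +kernel

/-- The number of shortest vectors with the two standard coordinates equal to -2 and 0. -/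
theorem cntV0 : {t : ↥leechLattice | sqNorm (t : GolayPt → ℤ) = 32 ∧ (t : GolayPt → ℤ) a = -2 ∧
    (t : GolayPt → ℤ) b = 0}.ncard = 11264 := by
  obtain ⟨π, hπ, π0, π1⟩ := Golay.exists_map2 (a := Cnt.q0) (b := Cnt.q1) (c := a) (d := b)
    (by decide) ab
  rw [Cfsg.Agent.S1581.ncard_transport ⟨CoA.prmP π hπ, CoA.prmP_mem π hπ⟩ _
    {t : ↥leechLattice | sqNorm (t : GolayPt → ℤ) = 32 ∧ (t : GolayPt → ℤ) Cnt.q0 = -2 ∧
      (t : GolayPt → ℤ) Cnt.q1 = 0}]
  · rw [Cfsg.Agent.S1578.ncard_sub (fun y => sqNorm y = 32 ∧ y Cnt.q0 = -2 ∧ y Cnt.q1 = 0)]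
    have h := Tri.count_pair 32 (by norm_num) (-2) 0
    rw [table_m20] at h
    rw [← h]
    congr 1
  · intro y
    have c1 : ∀ i, ((CoA.prmP π hπ y : leechLattice) : GolayPt → ℤ) i =
        (y : GolayPt → ℤ) (π i) := fun _ => rfl
    show (sqNorm (y : GolayPt → ℤ) = 32 ∧ (y : GolayPt → ℤ) a = -2 ∧ (y : GolayPt → ℤ) b = 0) ↔
      (sqNorm ((CoA.prmP π hπ y : leechLattice) : GolayPt → ℤ) = 32 ∧
        ((CoA.prmP π hπ y : leechLattice) : GolayPt → ℤ) Cnt.q0 = -2 ∧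
        ((CoA.prmP π hπ y : leechLattice) : GolayPt → ℤ) Cnt.q1 = 0)
    rw [c1, c1, π0, π1, (CoA.prmP_mem π hπ).2 y]

theorem card_step (K : Subgroup ↥Co0) (y : ↥leechLattice) (S : Set ↥leechLattice)
    (h1 : ∀ k ∈ K, k • y ∈ S) (h2 : ∀ z ∈ S, ∃ k ∈ K, k • y = z) :
    Nat.card ↥K = Nat.card ↥(K ⊓ MulAction.stabilizer ↥Co0 y) * S.ncard := by
  have hφ1 : ∀ m : ↥(K ⊓ MulAction.stabilizer ↥Co0 y),
      Subgroup.inclusion (inf_le_left : K ⊓ MulAction.stabilizer ↥Co0 y ≤ K) m • y = y := by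
    intro m
    exact (Subgroup.mem_inf.1 m.2).2
  have hφ2 : ∀ h : ↥K, h • y = y → ∃ m,
      Subgroup.inclusion (inf_le_left : K ⊓ MulAction.stabilizer ↥Co0 y ≤ K) m = h := by
    intro h hh
    exact ⟨⟨h.1, Subgroup.mem_inf.2 ⟨h.2, hh⟩⟩, Subtype.ext rfl⟩
  have e : MulAction.orbit ↥K y = S := by
    ext z
    constructor
    · rintro ⟨k, rfl⟩
      exact h1 k.1 k.2
    · intro hz
      obtain ⟨k, hk, rfl⟩ := h2 z hz
      exact ⟨⟨k, hk⟩, rfl⟩
  rw [Rank4.card_abs4 y (Subgroup.inclusion inf_le_left) (Subgroup.inclusion_injective _)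
    hφ1 hφ2, e]

theorem dot_fix (k : ↥Co0) (p t : ↥leechLattice) (hk : k • p = p) :
    dotInt (p : GolayPt → ℤ) ((k • t : ↥leechLattice) : GolayPt → ℤ) =
      dotInt (p : GolayPt → ℤ) (t : GolayPt → ℤ) := by
  have e := Cfsg.Agent.S1640.hdotp k p t
  rw [hk] at e
  exact e

theorem wM_vStar : dotInt ((wM : ↥leechLattice) : GolayPt → ℤ)
    ((vStar : ↥leechLattice) : GolayPt → ℤ) = -8 := by
  rw [LeechCross.dot_comm]
  exact Cfsg.Agent.S0404.vStar_wM

/-- The number of vectors of the second standard set orthogonal to the base point. -/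
theorem card_R0 (y0 : ↥leechLattice) (hy0 : sqNorm (y0 : GolayPt → ℤ) = 32)
    (d1 : dotInt ((vStar : ↥leechLattice) : GolayPt → ℤ) (y0 : GolayPt → ℤ) = -8)
    (d2 : dotInt ((wM : ↥leechLattice) : GolayPt → ℤ) (y0 : GolayPt → ℤ) = 0) :
    {y : ↥leechLattice | (sqNorm (y : GolayPt → ℤ) = 32 ∧
      dotInt ((vStar : ↥leechLattice) : GolayPt → ℤ) (y : GolayPt → ℤ) = -8) ∧
      dotInt ((wM : ↥leechLattice) : GolayPt → ℤ) (y : GolayPt → ℤ) = 0}.ncard = 22275 := by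
  have hwM := Cfsg.Agent.S0404.wM_norm
  have d1' : dotInt (y0 : GolayPt → ℤ) ((vStar : ↥leechLattice) : GolayPt → ℤ) = -8 := by
    rw [LeechCross.dot_comm]
    exact d1
  -- first step
  have s1 := card_step (MulAction.stabilizer ↥Co0 wM) vStar
    {t : ↥leechLattice | sqNorm (t : GolayPt → ℤ) = 32 ∧
      dotInt ((wM : ↥leechLattice) : GolayPt → ℤ) (t : GolayPt → ℤ) = -8}
    (fun k hk => ⟨by rw [Cfsg.Agent.S1640.hnorm]; exact vStar_norm,
      by rw [dot_fix k wM vStar hk]; exact wM_vStar⟩)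
    (fun z hz => by
      obtain ⟨g, g1, g2⟩ := Cfsg.Agent.S1575.result wM vStar z hwM vStar_norm hz.1 wM_vStar hz.2
      exact ⟨g, g1, g2⟩)
  rw [cnt_m8 wM hwM, inf_comm, Cfsg.Agent.S0404.std_McL.2] at s1
  -- second step
  have s2 := card_step (MulAction.stabilizer ↥Co0 wM) y0
    {t : ↥leechLattice | sqNorm (t : GolayPt → ℤ) = 32 ∧
      dotInt ((wM : ↥leechLattice) : GolayPt → ℤ) (t : GolayPt → ℤ) = 0}
    (fun k hk => ⟨by rw [Cfsg.Agent.S1640.hnorm]; exact hy0,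
      by rw [dot_fix k wM y0 hk]; exact d2⟩)
    (fun z hz => by
      obtain ⟨g, g1, g2⟩ := Cfsg.Agent.S1583.orth_trans wM y0 z hwM hy0 hz.1 d2 hz.2
      exact ⟨g, g1, g2⟩)
  rw [cnt_z wM hwM] at s2
  -- third step
  have c3 : {t : ↥leechLattice | sqNorm (t : GolayPt → ℤ) = 32 ∧
      dotInt ((wM : ↥leechLattice) : GolayPt → ℤ) (t : GolayPt → ℤ) = -8 ∧
      dotInt (y0 : GolayPt → ℤ) (t : GolayPt → ℤ) = -8}.ncard = 11264 := by
    obtain ⟨G, G1, G2⟩ := frame0 wM y0 hwM hy0 d2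
    rw [Cfsg.Agent.S1581.ncard_transport G _ {t : ↥leechLattice | sqNorm (t : GolayPt → ℤ) = 32 ∧
      (t : GolayPt → ℤ) a = -2 ∧ (t : GolayPt → ℤ) b = 0}]
    · exact cntV0
    · intro t
      have e1 := Cfsg.Agent.S1640.hdotp G wM t
      have e2 := Cfsg.Agent.S1640.hdotp G y0 t
      rw [G1, dot_vStar] at e1
      rw [G2, Tri.dot_wA1] at e2
      constructor
      · rintro ⟨t1, t2, t3⟩
        exact ⟨by rw [Cfsg.Agent.S1640.hnorm]; exact t1, by omega, by omega⟩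
      · rintro ⟨t1, t2, t3⟩
        rw [Cfsg.Agent.S1640.hnorm] at t1
        exact ⟨t1, by omega, by omega⟩
  have s3 := card_step (MulAction.stabilizer ↥Co0 wM ⊓ MulAction.stabilizer ↥Co0 y0) vStar
    {t : ↥leechLattice | sqNorm (t : GolayPt → ℤ) = 32 ∧
      dotInt ((wM : ↥leechLattice) : GolayPt → ℤ) (t : GolayPt → ℤ) = -8 ∧
      dotInt (y0 : GolayPt → ℤ) (t : GolayPt → ℤ) = -8}
    (fun k hk => ⟨by rw [Cfsg.Agent.S1640.hnorm]; exact vStar_norm,
      by rw [dot_fix k wM vStar (Subgroup.mem_inf.1 hk).1]; exact wM_vStar,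
      by rw [dot_fix k y0 vStar (Subgroup.mem_inf.1 hk).2]; exact d1'⟩)
    (fun z hz => by
      obtain ⟨g, g1, g2, g3⟩ := trans_gen wM y0 vStar wM y0 z hwM hy0 vStar_norm d2 wM_vStar d1'
        hwM hy0 hz.1 d2 hz.2.1 hz.2.2
      exact ⟨g, Subgroup.mem_inf.2 ⟨g1, g2⟩, g3⟩)
  rw [c3] at s3
  -- fourth step
  have s4 := card_step (MulAction.stabilizer ↥Co0 vStar ⊓ MulAction.stabilizer ↥Co0 wM) y0
    {y : ↥leechLattice | (sqNorm (y : GolayPt → ℤ) = 32 ∧
      dotInt ((vStar : ↥leechLattice) : GolayPt → ℤ) (y : GolayPt → ℤ) = -8) ∧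
      dotInt ((wM : ↥leechLattice) : GolayPt → ℤ) (y : GolayPt → ℤ) = 0}
    (fun k hk => ⟨⟨by rw [Cfsg.Agent.S1640.hnorm]; exact hy0,
      by rw [dot_fix k vStar y0 (Subgroup.mem_inf.1 hk).1]; exact d1⟩,
      by rw [dot_fix k wM y0 (Subgroup.mem_inf.1 hk).2]; exact d2⟩)
    (fun z hz => by
      have dz : dotInt (z : GolayPt → ℤ) ((vStar : ↥leechLattice) : GolayPt → ℤ) = -8 := by
        rw [LeechCross.dot_comm]
        exact hz.1.2
      obtain ⟨g, g1, g2, g3⟩ := trans_gen wM y0 vStar wM z vStar hwM hy0 vStar_norm d2 wM_vStar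
        d1' hwM hz.1.1 vStar_norm hz.2 wM_vStar dz
      exact ⟨g, Subgroup.mem_inf.2 ⟨g3, g1⟩, g2⟩)
  rw [Cfsg.Agent.S0404.std_McL.2] at s4
  have e : MulAction.stabilizer ↥Co0 wM ⊓ MulAction.stabilizer ↥Co0 y0 ⊓
      MulAction.stabilizer ↥Co0 vStar = MulAction.stabilizer ↥Co0 vStar ⊓
      MulAction.stabilizer ↥Co0 wM ⊓ MulAction.stabilizer ↥Co0 y0 := by
    rw [inf_comm, inf_assoc]
  rw [e] at s3
  have hn : Nat.card ↥(MulAction.stabilizer ↥Co0 vStar ⊓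
      MulAction.stabilizer ↥Co0 wM ⊓ MulAction.stabilizer ↥Co0 y0) = 40320 := by omega
  rw [hn] at s4
  omega


def uL : List ℤ := [0, 2, 0, 2, 2, 2, 0, 2, 2, 2, 2, 2, 2, 0, 2, 2, 0, 0, 0, 0, 0, 0, 0, 0]

set_option maxRecDepth 100000 in
theorem u_chk : Xi.inD (fun k => 2 * Orb.vecL uL k) 0 57274 := by decide +kernel

/-- A vector of sum of squares 48 supported on a dodecad through the two standard points. -/
def uV : leechLattice := ⟨Orb.vecL uL, Orb.mem_of_double _ 0 57274 u_chk⟩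

set_option maxRecDepth 100000 in
theorem u_props : sqNorm (Orb.vecL uL) = 48 ∧ Orb.vecL uL a + Orb.vecL uL b = 4 := by
  decide +kernel

theorem uV_norm : sqNorm ((uV : ↥leechLattice) : GolayPt → ℤ) = 48 := u_props.1

theorem vStar_uV : dotInt ((vStar : ↥leechLattice) : GolayPt → ℤ)
    ((uV : ↥leechLattice) : GolayPt → ℤ) = 16 := by
  rw [dot_vStar]
  have h : ((uV : ↥leechLattice) : GolayPt → ℤ) a + ((uV : ↥leechLattice) : GolayPt → ℤ) b = 4 :=
    u_props.2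
  omega

theorem uV2_norm : sqNorm ((vStar - uV : ↥leechLattice) : GolayPt → ℤ) = 48 := by
  rw [AddSubgroup.coe_sub, sqNorm_sub, vStar_norm, uV_norm, vStar_uV]
  norm_num

theorem uV_dot : dotInt ((uV : ↥leechLattice) : GolayPt → ℤ)
    ((vStar - uV : ↥leechLattice) : GolayPt → ℤ) = -32 := by
  rw [AddSubgroup.coe_sub, dot_sub_right, dot_self, uV_norm, LeechCross.dot_comm, vStar_uV]
  norm_num

theorem le_HS : MulAction.stabilizer ↥Co0 uV ⊓ MulAction.stabilizer ↥Co0 (vStar - uV) ≤ H2 := by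
  intro g hg
  have m := Subgroup.mem_inf.1 hg
  have m1 : g • uV = uV := m.1
  have m2 : g • (vStar - uV) = vStar - uV := m.2
  show g • vStar = vStar
  have e : uV + (vStar - uV) = vStar := by abel
  have h := co_add g uV (vStar - uV)
  rw [m1, m2, e] at h
  exact h

theorem le_H2 : MulAction.stabilizer ↥Co0 vStar ⊓ MulAction.stabilizer ↥Co0 wM ≤ H2 :=
  inf_le_left

/-- Complementation with respect to the base point. -/
theorem c2_iff (y : ↥leechLattice) :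
    ((sqNorm (y : GolayPt → ℤ) = 32 ∧
      dotInt ((vStar : ↥leechLattice) : GolayPt → ℤ) (y : GolayPt → ℤ) = -8) ∧
      dotInt ((wM : ↥leechLattice) : GolayPt → ℤ) (y : GolayPt → ℤ) = 16) ↔
    (sqNorm ((wM - y : ↥leechLattice) : GolayPt → ℤ) = 32 ∧
      dotInt ((vStar : ↥leechLattice) : GolayPt → ℤ)
        ((wM - y : ↥leechLattice) : GolayPt → ℤ) = 0 ∧
      dotInt ((wM : ↥leechLattice) : GolayPt → ℤ)
        ((wM - y : ↥leechLattice) : GolayPt → ℤ) = 16) := by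
  rw [AddSubgroup.coe_sub, sqNorm_sub, dot_sub_right, dot_sub_right, dot_self,
    Cfsg.Agent.S0404.wM_norm, Cfsg.Agent.S0404.vStar_wM]
  constructor
  · rintro ⟨⟨h1, h2⟩, h3⟩
    exact ⟨by omega, by omega, by omega⟩
  · rintro ⟨h1, h2, h3⟩
    exact ⟨⟨by omega, by omega⟩, by omega⟩

theorem c2_card : {y : ↥leechLattice | (sqNorm (y : GolayPt → ℤ) = 32 ∧
      dotInt ((vStar : ↥leechLattice) : GolayPt → ℤ) (y : GolayPt → ℤ) = -8) ∧
      dotInt ((wM : ↥leechLattice) : GolayPt → ℤ) (y : GolayPt → ℤ) = 16}.ncard = 2025 := by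
  have e : {y : ↥leechLattice | (sqNorm (y : GolayPt → ℤ) = 32 ∧
      dotInt ((vStar : ↥leechLattice) : GolayPt → ℤ) (y : GolayPt → ℤ) = -8) ∧
      dotInt ((wM : ↥leechLattice) : GolayPt → ℤ) (y : GolayPt → ℤ) = 16} =
      (fun z => wM - z) '' {x : ↥leechLattice | sqNorm (x : GolayPt → ℤ) = 32 ∧
        dotInt ((vStar : ↥leechLattice) : GolayPt → ℤ) (x : GolayPt → ℤ) = 0 ∧
        dotInt ((wM : ↥leechLattice) : GolayPt → ℤ) (x : GolayPt → ℤ) = 16} := by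
    ext y
    constructor
    · intro hy
      exact ⟨wM - y, (c2_iff y).1 hy, sub_sub_cancel wM y⟩
    · rintro ⟨z, hz, rfl⟩
      apply (c2_iff (wM - z)).2
      rw [sub_sub_cancel]
      exact hz
  rw [e, Set.ncard_image_of_injective _ sub_right_injective]
  exact (Cfsg.Agent.S1634.result vStar wM vStar_norm Cfsg.Agent.S0404.wM_norm
    Cfsg.Agent.S0404.vStar_wM).1

theorem c2_trans (y y' : ↥leechLattice)
    (hy : (sqNorm (y : GolayPt → ℤ) = 32 ∧
      dotInt ((vStar : ↥leechLattice) : GolayPt → ℤ) (y : GolayPt → ℤ) = -8) ∧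
      dotInt ((wM : ↥leechLattice) : GolayPt → ℤ) (y : GolayPt → ℤ) = 16)
    (hy' : (sqNorm (y' : GolayPt → ℤ) = 32 ∧
      dotInt ((vStar : ↥leechLattice) : GolayPt → ℤ) (y' : GolayPt → ℤ) = -8) ∧
      dotInt ((wM : ↥leechLattice) : GolayPt → ℤ) (y' : GolayPt → ℤ) = 16) :
    ∃ g : ↥Co0, g • vStar = vStar ∧ g • wM = wM ∧ g • y = y' := by
  obtain ⟨g, g1, g2, g3⟩ := (Cfsg.Agent.S1634.result vStar wM vStar_norm Cfsg.Agent.S0404.wM_norm
    Cfsg.Agent.S0404.vStar_wM).2.1 (wM - y) ((c2_iff y).1 hy) (wM - y') ((c2_iff y').1 hy')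
  refine ⟨g, g1, g2, ?_⟩
  rw [co_sub, g2] at g3
  exact sub_right_injective g3

theorem dot_wM (y : GolayPt → ℤ) :
    dotInt ((wM : ↥leechLattice) : GolayPt → ℤ) y = (∑ i, y i) - 4 * y b := by
  show dotInt (((v0 - vStar : ↥leechLattice)) : GolayPt → ℤ) y = _
  rw [AddSubgroup.coe_sub, dot_sub_left, dot_v0, dot_vStar]
  ring

def t1L : List ℤ := [0, -2, -2, -2, 2, -2, 0, 0, 2, 0, 0, 2, 0, 2, 0, 0, 0, 0, 0, 0, 0, 0, 0, 0]

def t2L : List ℤ := [0, -2, 2, 2, -2, -2, 0, 0, -2, 0, 0, 2, 0, 2, 0, 0, 0, 0, 0, 0, 0, 0, 0, 0]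

def t3L : List ℤ := [1, 1, 1, 1, 1, -3, 1, 1, 1, 1, 1, 1, 1, 1, 1, 1, 1, 1, 1, 1, 1, 1, 1, 1]

def t4L : List ℤ := [-3, -1, 1, -1, -1, -1, 1, -1, -1, -1, -1, -1, -1, 1, -1, -1, 1, 1, 1, 1, 1, 1,
  1, 1]

set_option maxRecDepth 100000 in
theorem t1_chk : Xi.inD (fun k => 2 * Orb.vecL t1L k) 0 10558 := by decide +kernel

set_option maxRecDepth 100000 in
theorem t2_chk : Xi.inD (fun k => 2 * Orb.vecL t2L k) 0 10558 := by decide +kernel

set_option maxRecDepth 100000 in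
theorem t3_chk : Xi.inD (fun k => 2 * Orb.vecL t3L k) 1 0 := by decide +kernel

set_option maxRecDepth 100000 in
theorem t4_chk : Xi.inD (fun k => 2 * Orb.vecL t4L k) 1 57274 := by decide +kernel

def t1 : leechLattice := ⟨Orb.vecL t1L, Orb.mem_of_double _ 0 10558 t1_chk⟩

def t2 : leechLattice := ⟨Orb.vecL t2L, Orb.mem_of_double _ 0 10558 t2_chk⟩

def t3 : leechLattice := ⟨Orb.vecL t3L, Orb.mem_of_double _ 1 0 t3_chk⟩

def t4 : leechLattice := ⟨Orb.vecL t4L, Orb.mem_of_double _ 1 57274 t4_chk⟩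

set_option maxRecDepth 100000 in
theorem t1_props : sqNorm (Orb.vecL t1L) = 32 ∧ Orb.vecL t1L a + Orb.vecL t1L b = -2 ∧
    (∑ i, Orb.vecL t1L i) - 4 * Orb.vecL t1L b = 0 := by decide +kernel

set_option maxRecDepth 100000 in
theorem t2_props : sqNorm (Orb.vecL t2L) = 32 ∧ Orb.vecL t2L a + Orb.vecL t2L b = -2 ∧
    (∑ i, Orb.vecL t2L i) - 4 * Orb.vecL t2L b = 0 ∧
    dotInt (Orb.vecL t1L) (Orb.vecL t2L) = 0 := by decide +kernel

set_option maxRecDepth 100000 in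
theorem t3_props : sqNorm (Orb.vecL t3L) = 32 ∧ Orb.vecL t3L a + Orb.vecL t3L b = -2 ∧
    (∑ i, Orb.vecL t3L i) - 4 * Orb.vecL t3L b = 16 := by decide +kernel

set_option maxRecDepth 100000 in
theorem t4_props : sqNorm (Orb.vecL t4L) = 32 ∧ Orb.vecL t4L a + Orb.vecL t4L b = -2 ∧
    (∑ i, Orb.vecL t4L i) - 4 * Orb.vecL t4L b = 0 ∧
    dotInt (Orb.vecL t3L) (Orb.vecL t4L) = 0 := by decide +kernel

theorem mem_X (t : ↥leechLattice) (h1 : sqNorm (t : GolayPt → ℤ) = 32)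
    (h2 : (t : GolayPt → ℤ) a + (t : GolayPt → ℤ) b = -2) :
    t ∈ MulAction.orbit ↥H2 wM := by
  rw [orbit_eq2]
  refine ⟨h1, ?_⟩
  rw [dot_vStar]
  omega

theorem int_cases (α β γ : ℤ) (h1 : α + β = -2) (h2 : α ^ 2 + β ^ 2 + 22 * γ ^ 2 = 32)
    (h3 : (8 : ℤ) ∣ 5 * α + β + 22 * γ) :
    (α = 1 ∧ β = -3 ∧ γ = 1) ∨ (α = -3 ∧ β = 1 ∧ γ = 1) := by
  have hβ : β = -2 - α := by omega
  subst hβ
  have g1 : -1 ≤ γ := by nlinarith
  have g2 : γ ≤ 1 := by nlinarith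
  have a1 : -5 ≤ α := by nlinarith
  have a2 : α ≤ 5 := by nlinarith
  interval_cases γ <;> interval_cases α <;> norm_num at h2 <;> omega

theorem sum_split (f : GolayPt → ℤ) (γ : ℤ) (h : ∀ k, k ≠ a → k ≠ b → f k = γ) :
    ∑ k, f k = f a + f b + 22 * γ := by
  classical
  have hb : b ∈ (Finset.univ : Finset GolayPt).erase a :=
    Finset.mem_erase.2 ⟨Ne.symm ab, Finset.mem_univ b⟩
  rw [← Finset.add_sum_erase Finset.univ f (Finset.mem_univ a),
    ← Finset.add_sum_erase (Finset.univ.erase a) f hb]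
  have e : ∑ k ∈ (Finset.univ.erase a).erase b, f k =
      ∑ k ∈ ((Finset.univ : Finset GolayPt).erase a).erase b, γ := by
    apply Finset.sum_congr rfl
    intro k hk
    rw [Finset.mem_erase, Finset.mem_erase] at hk
    exact h k hk.2.1 hk.1
  rw [e, Finset.sum_const, Finset.card_erase_of_mem hb,
    Finset.card_erase_of_mem (Finset.mem_univ a), Finset.card_univ, card_golayPt]
  simp only [nsmul_eq_mul]
  norm_num
  ring

/-- The only vector of the second standard set fixed by the joint stabiliser is the base point. -/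
theorem fix_unique (y : ↥leechLattice) (hy : sqNorm (y : GolayPt → ℤ) = 32 ∧
    dotInt ((vStar : ↥leechLattice) : GolayPt → ℤ) (y : GolayPt → ℤ) = -8)
    (hfix : ∀ g : ↥Co0, g • vStar = vStar → g • wM = wM → g • y = y) : y = wM := by
  have hconst : ∀ i j, i ≠ a → i ≠ b → j ≠ a → j ≠ b →
      (y : GolayPt → ℤ) i = (y : GolayPt → ℤ) j := by
    intro i j hia hib hja hjb
    have hx : [a, b, i].Nodup := by
      simp only [List.nodup_cons, List.mem_cons, List.not_mem_nil, or_false, not_or,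
        List.nodup_nil, not_false_eq_true, and_true]
      exact ⟨⟨ab, fun h => hia h.symm⟩, fun h => hib h.symm⟩
    have hx' : [a, b, j].Nodup := by
      simp only [List.nodup_cons, List.mem_cons, List.not_mem_nil, or_false, not_or,
        List.nodup_nil, not_false_eq_true, and_true]
      exact ⟨⟨ab, fun h => hja h.symm⟩, fun h => hjb h.symm⟩
    obtain ⟨σ, hσ, σa, σb, σi⟩ := Stv.map3 a b i a b j hx hx'
    obtain ⟨f1, f2, -⟩ := perm_fix σ hσ σa σb
    have e := hfix _ f1 f2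
    have e' := congrArg (fun w : ↥leechLattice => (w : GolayPt → ℤ) i) e
    have e'' : (y : GolayPt → ℤ) (σ i) = (y : GolayPt → ℤ) i := e'
    rw [σi] at e''
    exact e''.symm
  have hγ : ∀ k, k ≠ a → k ≠ b → (y : GolayPt → ℤ) k =
      (y : GolayPt → ℤ) Cfsg.Agent.S1581.c0 := fun k hka hkb =>
    hconst k _ hka hkb Cfsg.Agent.S1581.c0a Cfsg.Agent.S1581.c0b
  have hsum := sum_split (y : GolayPt → ℤ) _ hγ
  have hsq := sum_split (fun k => (y : GolayPt → ℤ) k ^ 2)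
    ((y : GolayPt → ℤ) Cfsg.Agent.S1581.c0 ^ 2) (fun k hka hkb => by
      show (y : GolayPt → ℤ) k ^ 2 = _
      rw [hγ k hka hkb])
  have hn : sqNorm (y : GolayPt → ℤ) = ∑ k, (y : GolayPt → ℤ) k ^ 2 := rfl
  have h1 := hy.2
  rw [dot_vStar] at h1
  have h2 := hy.1
  rw [hn, hsq] at h2
  have h3 := dot_dvd v0 y
  rw [dot_v0, hsum] at h3
  have hw := dot_wM (y : GolayPt → ℤ)
  rw [hsum] at hw
  have hcases := int_cases ((y : GolayPt → ℤ) a) ((y : GolayPt → ℤ) b)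
    ((y : GolayPt → ℤ) Cfsg.Agent.S1581.c0) (by omega) h2
    (by
      have e : 5 * (y : GolayPt → ℤ) a + (y : GolayPt → ℤ) b +
          22 * (y : GolayPt → ℤ) Cfsg.Agent.S1581.c0 =
          (y : GolayPt → ℤ) a + (y : GolayPt → ℤ) b +
          22 * (y : GolayPt → ℤ) Cfsg.Agent.S1581.c0 + 4 * (y : GolayPt → ℤ) a := by ring
      rw [e]
      exact h3)
  by_contra hne
  have hle := dot_le wM y Cfsg.Agent.S0404.wM_norm hy.1 (fun h => hne h.symm)
  rcases hcases with ⟨c1, c2, c3⟩ | ⟨c1, c2, c3⟩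
  · omega
  · have hd : dotInt ((wM : ↥leechLattice) : GolayPt → ℤ) (y : GolayPt → ℤ) = 16 := by omega
    have hsub : {y : ↥leechLattice | (sqNorm (y : GolayPt → ℤ) = 32 ∧
        dotInt ((vStar : ↥leechLattice) : GolayPt → ℤ) (y : GolayPt → ℤ) = -8) ∧
        dotInt ((wM : ↥leechLattice) : GolayPt → ℤ) (y : GolayPt → ℤ) = 16} ⊆ {y} := by
      intro y' hy'
      obtain ⟨g, g1, g2, g3⟩ := c2_trans y y' ⟨hy, hd⟩ hy'
      rw [hfix g g1 g2] at g3
      exact g3.symm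
    have hc := Set.ncard_le_ncard hsub (Set.finite_singleton y)
    rw [c2_card, Set.ncard_singleton] at hc
    omega


/-- Conjugate vectors have isomorphic stabilisers. -/
theorem transfer2 (g : ↥Co0) (v : ↥leechLattice)
    (h : IsCo2 ↥(MulAction.stabilizer ↥Co0 (g • v))) :
    IsCo2 ↥(MulAction.stabilizer ↥Co0 v) := by
  have e : Nonempty (↥(MulAction.stabilizer ↥Co0 v) ≃*
      ↥(MulAction.stabilizer ↥Co0 (g • v))) := by
    rw [MulAction.stabilizer_smul_eq_stabilizer_map_conj]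
    exact ⟨Subgroup.equivMapOfInjective _ _ (MulAut.conj g).injective⟩
  obtain ⟨e⟩ := e
  obtain ⟨h1, h2⟩ := h
  exact ⟨e.isSimpleGroup, by rw [Nat.card_congr e.toEquiv]; exact h2⟩

theorem dot_wM_of (t : ↥leechLattice) (c : ℤ)
    (h : (∑ i, (t : GolayPt → ℤ) i) - 4 * (t : GolayPt → ℤ) b = c) :
    dotInt ((wM : ↥leechLattice) : GolayPt → ℤ) (t : GolayPt → ℤ) = c := by
  rw [dot_wM]
  exact h

/-- The stabiliser of the standard shortest vector is simple of the stated order. -/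
theorem std_Co2 : IsCo2 ↥H2 := by
  obtain ⟨hs, hcard⟩ := Cfsg.Agent.S0404.std_McL
  obtain ⟨hs2, hcard2⟩ := Cfsg.Agent.S0405.result uV (vStar - uV) uV_norm uV2_norm uV_dot
  have hwM := Cfsg.Agent.S0404.wM_norm
  have hφ1 : ∀ m, Subgroup.inclusion le_H2 m • wM = wM := by
    intro m
    exact (Subgroup.mem_inf.1 m.2).2
  have hφ2 : ∀ h : ↥H2, h • wM = wM → ∃ m, Subgroup.inclusion le_H2 m = h := by
    intro h hh
    exact ⟨⟨h.1, Subgroup.mem_inf.2 ⟨h.2, hh⟩⟩, Subtype.ext rfl⟩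
  have hX : ∀ y : ↥leechLattice, y ∈ MulAction.orbit ↥H2 wM →
      sqNorm (y : GolayPt → ℤ) = 32 ∧
      dotInt ((vStar : ↥leechLattice) : GolayPt → ℤ) (y : GolayPt → ℤ) = -8 := by
    intro y hy
    rw [orbit_eq2] at hy
    exact hy
  refine Co2Abs.simple_co2 (H := ↥H2) (L := ↥leechLattice) wM
    (fun p q => dotInt (p : GolayPt → ℤ) (q : GolayPt → ℤ))
    card_orbit2 (Subgroup.inclusion le_H2) (Subgroup.inclusion_injective le_H2) hφ1 hφ2 hcard
    (Subgroup.inclusion le_HS) (Subgroup.inclusion_injective le_HS) hcard2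
    (fun h p q => Cfsg.Agent.S1640.hdotp h.1 p q) (fun p q => LeechCross.dot_comm _ _)
    ?_ ?_ ?_ ?_ ?_ ?_ ?_ ?_
  · show dotInt ((wM : ↥leechLattice) : GolayPt → ℤ) ((wM : ↥leechLattice) : GolayPt → ℤ) = 32
    rw [dot_self]
    exact hwM
  · intro y hy y' hy' h0 h0'
    have k0 : dotInt ((wM : ↥leechLattice) : GolayPt → ℤ) (y : GolayPt → ℤ) = 0 := h0
    have k0' : dotInt ((wM : ↥leechLattice) : GolayPt → ℤ) (y' : GolayPt → ℤ) = 0 := h0'
    obtain ⟨c1, c2⟩ := hX y hy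
    obtain ⟨c1', c2'⟩ := hX y' hy'
    have dz : dotInt (y : GolayPt → ℤ) ((vStar : ↥leechLattice) : GolayPt → ℤ) = -8 := by
      rw [LeechCross.dot_comm]
      exact c2
    have dz' : dotInt (y' : GolayPt → ℤ) ((vStar : ↥leechLattice) : GolayPt → ℤ) = -8 := by
      rw [LeechCross.dot_comm]
      exact c2'
    obtain ⟨g, g1, g2, g3⟩ := trans_gen wM y vStar wM y' vStar hwM c1 vStar_norm k0 wM_vStar dz
      hwM c1' vStar_norm k0' wM_vStar dz'
    exact ⟨⟨g, g3⟩, g1, g2⟩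
  · intro y hy y' hy' h0 h0'
    obtain ⟨g, g1, g2, g3⟩ := c2_trans y y' ⟨hX y hy, h0⟩ ⟨hX y' hy', h0'⟩
    exact ⟨⟨g, g1⟩, g2, g3⟩
  · rw [orbit_eq2]
    refine card_R0 t1 t1_props.1 ?_ (dot_wM_of t1 0 t1_props.2.2)
    rw [dot_vStar]
    have h : ((t1 : ↥leechLattice) : GolayPt → ℤ) a + ((t1 : ↥leechLattice) : GolayPt → ℤ) b = -2 :=
      t1_props.2.1
    omega
  · rw [orbit_eq2]
    exact c2_card
  · exact ⟨t1, mem_X t1 t1_props.1 t1_props.2.1, t2, mem_X t2 t2_props.1 t2_props.2.1,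
      dot_wM_of t1 0 t1_props.2.2, dot_wM_of t2 0 t2_props.2.2.1, t2_props.2.2.2⟩
  · exact ⟨t3, mem_X t3 t3_props.1 t3_props.2.1, t4, mem_X t4 t4_props.1 t4_props.2.1,
      dot_wM_of t3 16 t3_props.2.2, dot_wM_of t4 0 t4_props.2.2.1, t4_props.2.2.2⟩
  · intro y hy h
    exact fix_unique y (hX y hy) (fun g g1 g2 => h ⟨g, g1⟩ g2)

/-- Stabiliser of a minimal vector is simple of order 42305421312000. -/
theorem result (v : Cfsg.leechLattice) (hv : Cfsg.sqNorm (v : Cfsg.GolayPt → ℤ) = 32) : Cfsg.IsCo2 (MulAction.stabilizer Cfsg.Co0 v) := by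
  obtain ⟨g, hg⟩ := Cfsg.Agent.S0400.result v Cfsg.Agent.Lib.Helper4.Stv.vStar hv
    Cfsg.Agent.Lib.Helper4.Stv.vStar_norm
  apply transfer2 g v
  rw [hg]
  exact std_Co2
end Cfsg.Agent.S0402
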