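import Cfsg.Statements.S1005
import Cfsg.Agent.S1003

set_option autoImplicit false
open Cfsg

namespace Cfsg.Agent.S1005

open Subgroup Cfsg.Agent.Lib.Helper8 Cfsg.Agent.S1002 Cfsg.Agent.S1003
open scoped Pointwise

section aux
set_option linter.unusedSectionVars false
variable {G : Type*} [Group G] [Finite G]

theorem sylow2_not_comm [IsSimpleGroup G] (hG : Nat.card G = 168) [Fact (Nat.Prime 2)]
    [Fact (Nat.Prime 3)] [Fact (Nat.Prime 7)] (T : Sylow 2 G) :
    ¬ (∀ a ∈ (T : Subgroup G), ∀ b ∈ (T : Subgroup G), a * b = b * a) := by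
  obtain ⟨hc7, hc3, hc2, hn7, hn3, hn2, hN7, hN3, hN2, hnc⟩ := facts168 hG
  intro hcomm
  apply not_normalizer_le_centralizer_of_simple T (by rw [hc2 T]; norm_num)
    (by rw [hc2 T, hG]; norm_num)
  have hTN : (T : Subgroup G) = normalizer ((T : Subgroup G) : Set G) :=
    Subgroup.eq_of_le_of_card_ge le_normalizer (by rw [hN2 T, hc2 T])
  rw [← hTN]
  intro a ha
  rw [Subgroup.mem_centralizer_iff]
  intro b hb
  exact hcomm b hb a ha

theorem orders168 [IsSimpleGroup G] (hG : Nat.card G = 168) [Fact (Nat.Prime 2)]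
    [Fact (Nat.Prime 3)] [Fact (Nat.Prime 7)] (g : G) :
    orderOf g = 1 ∨ orderOf g = 2 ∨ orderOf g = 3 ∨ orderOf g = 4 ∨ orderOf g = 7 := by
  obtain ⟨hc7, hc3, hc2, hn7, hn3, hn2, hN7, hN3, hN2, hnc⟩ := facts168 hG
  have hdvd : orderOf g ∣ 168 := hG ▸ orderOf_dvd_natCard g
  have hpos : 0 < orderOf g := orderOf_pos g
  by_cases h7 : 7 ∣ orderOf g
  · obtain ⟨k, hk⟩ := h7
    have hk0 : k ≠ 0 := by rintro rfl; omega
    have hx : orderOf (g ^ k) = 7 := by
      rw [orderOf_pow_of_dvd hk0 ⟨7, by rw [hk, mul_comm]⟩, hk]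
      exact Nat.mul_div_cancel _ (Nat.pos_of_ne_zero hk0)
    have hmem := commute_mem_zpowers (p := 7) (q := 3) Nat.prime_three hc7
      (by rw [hG]; norm_num) (fun P => by rw [hN7 P]) (g ^ k) g hx
      (Commute.pow_left (Commute.refl g) k)
    have h2 : orderOf g ∣ 7 := by
      have := Subgroup.orderOf_dvd_natCard _ hmem
      rwa [Nat.card_zpowers, hx] at this
    have h3 := Nat.le_of_dvd (by norm_num) h2
    right; right; right; right
    omega
  by_cases h3 : 3 ∣ orderOf g
  · obtain ⟨k, hk⟩ := h3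
    have hk0 : k ≠ 0 := by rintro rfl; omega
    have hx : orderOf (g ^ k) = 3 := by
      rw [orderOf_pow_of_dvd hk0 ⟨3, by rw [hk, mul_comm]⟩, hk]
      exact Nat.mul_div_cancel _ (Nat.pos_of_ne_zero hk0)
    have hmem := commute_mem_zpowers (p := 3) (q := 2) Nat.prime_two hc3
      (by rw [hG]; norm_num) (fun P => by rw [hN3 P]) (g ^ k) g hx
      (Commute.pow_left (Commute.refl g) k)
    have h2 : orderOf g ∣ 3 := by
      have := Subgroup.orderOf_dvd_natCard _ hmem
      rwa [Nat.card_zpowers, hx] at this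
    have h4 := Nat.le_of_dvd (by norm_num) h2
    right; right; left
    omega
  have hcop : Nat.Coprime (orderOf g) 21 := by
    have : (21 : ℕ) = 3 * 7 := by norm_num
    rw [this]
    exact Nat.Coprime.mul_right ((Nat.Prime.coprime_iff_not_dvd Nat.prime_three).mpr h3).symm
      ((Nat.Prime.coprime_iff_not_dvd (by norm_num)).mpr h7).symm
  have h8 : orderOf g ∣ 8 := hcop.dvd_of_dvd_mul_right (by simpa using hdvd)
  have hne8 : orderOf g ≠ 8 := by
    intro h
    have hpg : IsPGroup 2 (zpowers g) :=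
      IsPGroup.of_card (n := 3) (by rw [Nat.card_zpowers, h]; norm_num)
    obtain ⟨T, hT⟩ := hpg.exists_le_sylow
    have hTg : zpowers g = (T : Subgroup G) :=
      Subgroup.eq_of_le_of_card_ge hT (by rw [Nat.card_zpowers, h, hc2 T])
    apply sylow2_not_comm hG T
    intro a ha b hb
    rw [← hTg] at ha hb
    obtain ⟨i, rfl⟩ := Subgroup.mem_zpowers_iff.mp ha
    obtain ⟨j, rfl⟩ := Subgroup.mem_zpowers_iff.mp hb
    exact (Commute.zpow_zpow_self g i j).eq
  have hle := Nat.le_of_dvd (by norm_num) h8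
  generalize orderOf g = k at *
  interval_cases k <;> simp_all

theorem centralizer_two [IsSimpleGroup G] (hG : Nat.card G = 168) [Fact (Nat.Prime 2)]
    [Fact (Nat.Prime 3)] [Fact (Nat.Prime 7)] (z : G) (hz1 : z ≠ 1) (hz8 : z ^ 8 = 1) :
    Nat.card (centralizer ({z} : Set G)) ∣ 8 := by
  obtain ⟨hc7, hc3, hc2, hn7, hn3, hn2, hN7, hN3, hN2, hnc⟩ := facts168 hG
  have hdvd : Nat.card (centralizer ({z} : Set G)) ∣ 168 :=
    hG ▸ Subgroup.card_subgroup_dvd_card _
  have hd8 : orderOf z ∣ 8 := orderOf_dvd_of_pow_eq_one hz8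
  have h3 : ¬ 3 ∣ Nat.card (centralizer ({z} : Set G)) := by
    intro h
    obtain ⟨y, hy⟩ := exists_prime_orderOf_dvd_card' (G := ↥(centralizer ({z} : Set G))) 3 h
    have hy3 : orderOf (y : G) = 3 := by
      rw [Subgroup.orderOf_coe]; exact hy
    have hcomm : Commute (y : G) z := by
      have := y.2
      rw [Subgroup.mem_centralizer_iff] at this
      exact (this z rfl).symm
    have hmem := commute_mem_zpowers (p := 3) (q := 2) Nat.prime_two hc3
      (by rw [hG]; norm_num) (fun Q => by rw [hN3 Q]) _ _ hy3 hcomm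
    have hd3 : orderOf z ∣ 3 := by
      have := Subgroup.orderOf_dvd_natCard _ hmem
      rwa [Nat.card_zpowers, hy3] at this
    have : orderOf z = 1 := by
      have := Nat.dvd_gcd hd3 hd8
      simpa using this
    exact hz1 (orderOf_eq_one_iff.mp this)
  have h7 : ¬ 7 ∣ Nat.card (centralizer ({z} : Set G)) := by
    intro h
    obtain ⟨y, hy⟩ := exists_prime_orderOf_dvd_card' (G := ↥(centralizer ({z} : Set G))) 7 h
    have hy7 : orderOf (y : G) = 7 := by
      rw [Subgroup.orderOf_coe]; exact hy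
    have hcomm : Commute (y : G) z := by
      have := y.2
      rw [Subgroup.mem_centralizer_iff] at this
      exact (this z rfl).symm
    have hmem := commute_mem_zpowers (p := 7) (q := 3) Nat.prime_three hc7
      (by rw [hG]; norm_num) (fun Q => by rw [hN7 Q]) _ _ hy7 hcomm
    have hd7 : orderOf z ∣ 7 := by
      have := Subgroup.orderOf_dvd_natCard _ hmem
      rwa [Nat.card_zpowers, hy7] at this
    have : orderOf z = 1 := by
      have := Nat.dvd_gcd hd7 hd8
      simpa using this
    exact hz1 (orderOf_eq_one_iff.mp this)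
  have hcop : Nat.Coprime (Nat.card (centralizer ({z} : Set G))) 21 := by
    have : (21 : ℕ) = 3 * 7 := by norm_num
    rw [this]
    exact Nat.Coprime.mul_right ((Nat.Prime.coprime_iff_not_dvd Nat.prime_three).mpr h3).symm
      ((Nat.Prime.coprime_iff_not_dvd (by norm_num)).mpr h7).symm
  exact hcop.dvd_of_dvd_mul_right (by simpa using hdvd)

theorem centralizer_central [IsSimpleGroup G] (hG : Nat.card G = 168) [Fact (Nat.Prime 2)]
    [Fact (Nat.Prime 3)] [Fact (Nat.Prime 7)] (T : Sylow 2 G) (z : G)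
    (hzT : z ∈ (T : Subgroup G)) (hz1 : z ≠ 1)
    (hcen : ∀ t ∈ (T : Subgroup G), t * z = z * t) : centralizer ({z} : Set G) = T := by
  obtain ⟨hc7, hc3, hc2, hn7, hn3, hn2, hN7, hN3, hN2, hnc⟩ := facts168 hG
  have hz8 : z ^ 8 = 1 := by
    have := Subgroup.orderOf_dvd_natCard (T : Subgroup G) hzT
    rw [hc2 T] at this
    exact orderOf_dvd_iff_pow_eq_one.mp this
  have hle : (T : Subgroup G) ≤ centralizer ({z} : Set G) := by
    intro t ht
    rw [Subgroup.mem_centralizer_iff]
    intro h hh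
    rw [Set.mem_singleton_iff] at hh
    rw [hh]; exact (hcen t ht).symm
  have h8 := centralizer_two hG z hz1 hz8
  have := Nat.le_of_dvd (by norm_num) h8
  exact (Subgroup.eq_of_le_of_card_ge hle (by rw [hc2 T]; exact this)).symm

theorem exists_central_invol [Fact (Nat.Prime 2)] (T : Sylow 2 G) (hT : Nat.card T = 8) :
    ∃ z ∈ (T : Subgroup G), orderOf z = 2 ∧ ∀ t ∈ (T : Subgroup G), t * z = z * t := by
  have hpg : IsPGroup 2 (T : Subgroup G) := T.isPGroup'
  have hnt : Nontrivial (T : Subgroup G) := by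
    rw [← Finite.one_lt_card_iff_nontrivial, hT]; norm_num
  have hcnt : Nontrivial (center (T : Subgroup G)) := hpg.center_nontrivial
  have hcd : 2 ∣ Nat.card (center (T : Subgroup G)) := by
    have h1 : Nat.card (center (T : Subgroup G)) ∣ 8 := hT ▸ Subgroup.card_subgroup_dvd_card _
    have h2 : 1 < Nat.card (center (T : Subgroup G)) := Finite.one_lt_card
    have hle := Nat.le_of_dvd (by norm_num) h1
    generalize Nat.card (center (T : Subgroup G)) = d at *
    interval_cases d <;> simp_all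
  obtain ⟨w, hw⟩ := exists_prime_orderOf_dvd_card' (G := ↥(center (T : Subgroup G))) 2 hcd
  refine ⟨((w : (T : Subgroup G)) : G), (w : (T : Subgroup G)).2, ?_, ?_⟩
  · rw [Subgroup.orderOf_coe, Subgroup.orderOf_coe]; exact hw
  · intro t ht
    have := w.2
    rw [Subgroup.mem_center_iff] at this
    have h2 := this ⟨t, ht⟩
    exact congrArg Subtype.val h2

theorem sq_central [Fact (Nat.Prime 2)] (T : Sylow 2 G) (hT : Nat.card T = 8) (u : G)
    (hu : u ∈ (T : Subgroup G)) (ho : orderOf u = 4) :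
    ∀ t ∈ (T : Subgroup G), t * u ^ 2 = u ^ 2 * t := by
  intro t ht
  have hle : zpowers u ≤ (T : Subgroup G) := by rw [zpowers_le]; exact hu
  have hidx : ((zpowers u).subgroupOf (T : Subgroup G)).index = 2 := by
    have h1 := Subgroup.card_mul_index ((zpowers u).subgroupOf (T : Subgroup G))
    rw [Nat.card_congr (Subgroup.subgroupOfEquivOfLe hle).toEquiv, Nat.card_zpowers, ho, hT] at h1
    omega
  have hn : ((zpowers u).subgroupOf (T : Subgroup G)).Normal :=
    Subgroup.normal_of_index_eq_two hidx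
  have hconj := hn.conj_mem ⟨u, hu⟩ (by rw [mem_subgroupOf]; exact mem_zpowers u) ⟨t, ht⟩
  rw [mem_subgroupOf] at hconj
  have hconj' : t * u * t⁻¹ ∈ zpowers u := hconj
  obtain ⟨k, hk⟩ := Subgroup.mem_zpowers_iff.mp hconj'
  have hu4 : u ^ (4 : ℤ) = 1 := by
    have := pow_orderOf_eq_one u
    rw [ho] at this
    exact_mod_cast this
  have hsq : t * u ^ 2 * t⁻¹ = u ^ (k * 2) := by
    rw [← conj_pow, ← hk, zpow_mul]
    norm_cast
  have hu2 : u ^ 2 ≠ 1 := pow_ne_one_of_lt_orderOf (by norm_num) (by rw [ho]; norm_num)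
  rcases Int.even_or_odd k with ⟨m, hm⟩ | ⟨m, hm⟩
  · exfalso
    have h1 : u ^ (k * 2) = 1 := by
      have : k * 2 = 4 * m := by omega
      rw [this, zpow_mul, hu4, one_zpow]
    rw [h1] at hsq
    apply hu2
    have := congrArg (fun y => t⁻¹ * y * t) hsq
    simpa [mul_assoc] using this
  · have h1 : u ^ (k * 2) = u ^ 2 := by
      have : k * 2 = 4 * m + 2 := by omega
      rw [this, zpow_add, zpow_mul, hu4, one_zpow, one_mul]
      norm_cast
    rw [h1] at hsq
    calc t * u ^ 2 = t * u ^ 2 * t⁻¹ * t := by group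
      _ = u ^ 2 * t := by rw [hsq]

theorem sylow_of_order4 [IsSimpleGroup G] (hG : Nat.card G = 168) [Fact (Nat.Prime 2)]
    [Fact (Nat.Prime 3)] [Fact (Nat.Prime 7)] (T T' : Sylow 2 G) (u : G)
    (hu : u ∈ (T : Subgroup G)) (hu' : u ∈ (T' : Subgroup G)) (ho : orderOf u = 4) :
    T = T' := by
  obtain ⟨hc7, hc3, hc2, hn7, hn3, hn2, hN7, hN3, hN2, hnc⟩ := facts168 hG
  have hu2 : u ^ 2 ≠ 1 := pow_ne_one_of_lt_orderOf (by norm_num) (by rw [ho]; norm_num)
  have h1 := centralizer_central hG T (u ^ 2) (pow_mem hu 2) hu2 (sq_central T (hc2 T) u hu ho)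
  have h2 := centralizer_central hG T' (u ^ 2) (pow_mem hu' 2) hu2
    (sq_central T' (hc2 T') u hu' ho)
  exact Sylow.ext (h1.symm.trans h2)

theorem exists_order4 [IsSimpleGroup G] (hG : Nat.card G = 168) [Fact (Nat.Prime 2)]
    [Fact (Nat.Prime 3)] [Fact (Nat.Prime 7)] (T : Sylow 2 G) :
    ∃ u ∈ (T : Subgroup G), orderOf u = 4 := by
  obtain ⟨hc7, hc3, hc2, hn7, hn3, hn2, hN7, hN3, hN2, hnc⟩ := facts168 hG
  by_contra hno
  push Not at hno
  apply sylow2_not_comm hG T
  have hsq : ∀ a ∈ (T : Subgroup G), a * a = 1 := by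
    intro a ha
    have hd : orderOf a ∣ 8 := by
      have := Subgroup.orderOf_dvd_natCard (T : Subgroup G) ha
      rwa [hc2 T] at this
    rw [← sq]
    rcases orders168 hG a with h | h | h | h | h
    · rw [orderOf_eq_one_iff] at h
      rw [h, one_pow]
    · rw [← h]; exact pow_orderOf_eq_one a
    · rw [h] at hd; norm_num at hd
    · exact absurd h (hno a ha)
    · rw [h] at hd; norm_num at hd
  intro a ha b hb
  have hab := hsq (a * b) (mul_mem ha hb)
  have ha2 : a⁻¹ = a := inv_eq_of_mul_eq_one_left (hsq a ha)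
  have hb2 : b⁻¹ = b := inv_eq_of_mul_eq_one_left (hsq b hb)
  have h1 : a * b = (a * b)⁻¹ := eq_inv_of_mul_eq_one_left hab
  rw [mul_inv_rev, ha2, hb2] at h1
  exact h1

theorem counts168 [IsSimpleGroup G] (hG : Nat.card G = 168) [Fact (Nat.Prime 2)]
    [Fact (Nat.Prime 3)] [Fact (Nat.Prime 7)] :
    {g : G | orderOf g = 2}.ncard = 21 ∧ {g : G | orderOf g = 4}.ncard = 42 := by
  obtain ⟨hc7, hc3, hc2, hn7, hn3, hn2, hN7, hN3, hN2, hnc⟩ := facts168 hG
  have h7 : {g : G | orderOf g = 7}.ncard = 48 := by rw [card_order_eq hc7, hn7]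
  have h3 : {g : G | orderOf g = 3}.ncard = 56 := by rw [card_order_eq hc3, hn3]
  have h1 : {g : G | orderOf g = 1}.ncard = 1 := by
    have : {g : G | orderOf g = 1} = {1} := by
      ext g; simp [orderOf_eq_one_iff]
    rw [this, Set.ncard_singleton]
  have hunion : (Set.univ : Set G) = {g | orderOf g = 1} ∪ {g | orderOf g = 2} ∪
      {g | orderOf g = 3} ∪ {g | orderOf g = 4} ∪ {g | orderOf g = 7} := by
    ext g
    simp only [Set.mem_univ, Set.mem_union, Set.mem_ofPred_eq, true_iff]
    rcases orders168 hG g with h | h | h | h | h <;> simp [h]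
  have d12 : Disjoint {g : G | orderOf g = 1} {g : G | orderOf g = 2} :=
    Set.disjoint_left.mpr (fun g h1 h2 => by
      simp only [Set.mem_ofPred_eq] at h1 h2; omega)
  have d3 : Disjoint ({g : G | orderOf g = 1} ∪ {g : G | orderOf g = 2})
      {g : G | orderOf g = 3} :=
    Set.disjoint_left.mpr (fun g h1 h2 => by
      simp only [Set.mem_union, Set.mem_ofPred_eq] at h1 h2; omega)
  have d4 : Disjoint ({g : G | orderOf g = 1} ∪ {g : G | orderOf g = 2} ∪
      {g : G | orderOf g = 3}) {g : G | orderOf g = 4} :=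
    Set.disjoint_left.mpr (fun g h1 h2 => by
      simp only [Set.mem_union, Set.mem_ofPred_eq] at h1 h2; omega)
  have d7 : Disjoint ({g : G | orderOf g = 1} ∪ {g : G | orderOf g = 2} ∪
      {g : G | orderOf g = 3} ∪ {g : G | orderOf g = 4}) {g : G | orderOf g = 7} :=
    Set.disjoint_left.mpr (fun g h1 h2 => by
      simp only [Set.mem_union, Set.mem_ofPred_eq] at h1 h2; omega)
  have hsum := congrArg Set.ncard hunion
  rw [Set.ncard_univ, hG, Set.ncard_union_eq d7, Set.ncard_union_eq d4, Set.ncard_union_eq d3,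
    Set.ncard_union_eq d12, h1, h3, h7] at hsum
  have hE2 : 21 ≤ {g : G | orderOf g = 2}.ncard := by
    choose z hzT hz2 hzc using fun T : Sylow 2 G => exists_central_invol T (hc2 T)
    have hinj : Function.Injective
        (fun T : Sylow 2 G => (⟨z T, hz2 T⟩ : {g : G | orderOf g = 2})) := by
      intro T T' h
      have hz : z T = z T' := congrArg Subtype.val h
      have hne : ∀ T, z T ≠ 1 := fun T h => by
        have := hz2 T
        rw [h, orderOf_one] at this
        norm_num at this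
      have h1 := centralizer_central hG T (z T) (hzT T) (hne T) (hzc T)
      have h2 := centralizer_central hG T' (z T') (hzT T') (hne T') (hzc T')
      rw [hz] at h1
      exact Sylow.ext (h1.symm.trans h2)
    have := Nat.card_le_card_of_injective _ hinj
    rwa [hn2, Nat.card_coe_set_eq] at this
  have hE4 : 42 ≤ {g : G | orderOf g = 4}.ncard := by
    classical
    have : Fintype (Sylow 2 G) := Fintype.ofFinite _
    let f : (Σ T : Sylow 2 G, {u : G // u ∈ (T : Subgroup G) ∧ orderOf u = 4}) →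
        {g : G | orderOf g = 4} := fun x => ⟨x.2.1, x.2.2.2⟩
    have hf : Function.Injective f := by
      rintro ⟨T, u, hu, ho⟩ ⟨T', u', hu', ho'⟩ hxy
      have huu : u = u' := congrArg Subtype.val hxy
      subst huu
      have hTT : T = T' := sylow_of_order4 hG T T' u hu hu' ho
      subst hTT
      rfl
    have h1 := Nat.card_le_card_of_injective f hf
    rw [Nat.card_sigma, Nat.card_coe_set_eq] at h1
    have h2 : ∀ T : Sylow 2 G,
        2 ≤ Nat.card {u : G // u ∈ (T : Subgroup G) ∧ orderOf u = 4} := by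
      intro T
      obtain ⟨u, hu, ho⟩ := exists_order4 hG T
      have hne : u ≠ u⁻¹ := by
        intro h
        have h2 : u ^ 2 = 1 := by
          rw [sq]
          nth_rewrite 2 [h]
          exact mul_inv_cancel u
        have := orderOf_dvd_of_pow_eq_one h2
        rw [ho] at this
        norm_num at this
      have : Nontrivial {u : G // u ∈ (T : Subgroup G) ∧ orderOf u = 4} :=
        ⟨⟨⟨u, hu, ho⟩, ⟨u⁻¹, inv_mem hu, by rw [orderOf_inv]; exact ho⟩,
          fun h => hne (congrArg Subtype.val h)⟩⟩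
      exact Finite.one_lt_card
    calc 42 = ∑ _T : Sylow 2 G, 2 := by
          simp [← Nat.card_eq_fintype_card, hn2]
      _ ≤ ∑ T : Sylow 2 G, Nat.card {u : G // u ∈ (T : Subgroup G) ∧ orderOf u = 4} :=
          Finset.sum_le_sum (fun T _ => h2 T)
      _ ≤ _ := h1
  omega

theorem invol_conj [IsSimpleGroup G] (hG : Nat.card G = 168) [Fact (Nat.Prime 2)]
    [Fact (Nat.Prime 3)] [Fact (Nat.Prime 7)] (s t : G) (hs : orderOf s = 2)
    (ht : orderOf t = 2) : IsConj s t := by
  obtain ⟨hc7, hc3, hc2, hn7, hn3, hn2, hN7, hN3, hN2, hnc⟩ := facts168 hG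
  obtain ⟨hE2, hE4⟩ := counts168 hG
  choose z hzT hz2 hzc using fun T : Sylow 2 G => exists_central_invol T (hc2 T)
  have hne : ∀ T, z T ≠ 1 := fun T h => by
    have := hz2 T
    rw [h, orderOf_one] at this
    norm_num at this
  have hinj : Function.Injective
      (fun T : Sylow 2 G => (⟨z T, hz2 T⟩ : {g : G | orderOf g = 2})) := by
    intro T T' h
    have hz : z T = z T' := congrArg Subtype.val h
    have h1 := centralizer_central hG T (z T) (hzT T) (hne T) (hzc T)
    have h2 := centralizer_central hG T' (z T') (hzT T') (hne T') (hzc T')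
    rw [hz] at h1
    exact Sylow.ext (h1.symm.trans h2)
  have hbij : Function.Bijective
      (fun T : Sylow 2 G => (⟨z T, hz2 T⟩ : {g : G | orderOf g = 2})) := by
    rw [Nat.bijective_iff_injective_and_card]
    exact ⟨hinj, by rw [hn2, Nat.card_coe_set_eq, hE2]⟩
  obtain ⟨T, hT⟩ := hbij.2 ⟨s, hs⟩
  obtain ⟨T', hT'⟩ := hbij.2 ⟨t, ht⟩
  have hsT : z T = s := congrArg Subtype.val hT
  have htT' : z T' = t := congrArg Subtype.val hT'
  obtain ⟨g, hg⟩ := MulAction.exists_smul_eq G T T'
  have hw2 : orderOf (g * s * g⁻¹) = 2 := by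
    have e : g * s * g⁻¹ = (MulAut.conj g).toMonoidHom s := rfl
    rw [e, orderOf_injective _ (MulAut.conj g).injective, hs]
  obtain ⟨T'', hT''⟩ := hbij.2 ⟨g * s * g⁻¹, hw2⟩
  have hwT'' : z T'' = g * s * g⁻¹ := congrArg Subtype.val hT''
  have hcoe : ((T' : Sylow 2 G) : Subgroup G) = MulAut.conj g • (T : Subgroup G) := by
    rw [← hg]; exact Sylow.coe_subgroup_smul
  have hw_mem : g * s * g⁻¹ ∈ (T' : Subgroup G) := by
    rw [hcoe]
    have := Subgroup.smul_mem_pointwise_smul s (MulAut.conj g) (T : Subgroup G)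
      (by rw [← hsT]; exact hzT T)
    exact this
  have hw_cen : ∀ t' ∈ (T' : Subgroup G), t' * (g * s * g⁻¹) = (g * s * g⁻¹) * t' := by
    intro t' ht'
    rw [hcoe, Subgroup.mem_pointwise_smul_iff_inv_smul_mem] at ht'
    have ht0 : g⁻¹ * t' * g ∈ (T : Subgroup G) := by
      have e : (MulAut.conj g)⁻¹ • t' = g⁻¹ * t' * g := by
        simp [MulAut.smul_def]
      rw [e] at ht'
      exact ht'
    have hc := hzc T _ ht0
    rw [hsT] at hc
    calc t' * (g * s * g⁻¹) = g * ((g⁻¹ * t' * g) * s) * g⁻¹ := by group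
      _ = g * (s * (g⁻¹ * t' * g)) * g⁻¹ := by rw [hc]
      _ = (g * s * g⁻¹) * t' := by group
  have hw1 : g * s * g⁻¹ ≠ 1 := by
    intro h
    rw [h, orderOf_one] at hw2
    norm_num at hw2
  have h1 := centralizer_central hG T' (g * s * g⁻¹) hw_mem hw1 hw_cen
  have h2 := centralizer_central hG T'' (z T'') (hzT T'') (hne T'') (hzc T'')
  rw [hwT''] at h2
  have hTT : T'' = T' := Sylow.ext (h2.symm.trans h1)
  rw [isConj_iff]
  exact ⟨g, by rw [← htT', ← hTT, hwT'']⟩

end aux

/-- In a simple group of order 168 every element has order 1, 2, 3, 4 or 7; there are exactly 21 elements of order 2, and any two of them are conjugate. -/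
theorem result {G : Type*} [Group G] [Finite G] [IsSimpleGroup G] (h : Nat.card G = 168) : (∀ g : G, orderOf g = 1 ∨ orderOf g = 2 ∨ orderOf g = 3 ∨ orderOf g = 4 ∨ orderOf g = 7) ∧ Nat.card {g : G // orderOf g = 2} = 21 ∧ ∀ s t : G, orderOf s = 2 → orderOf t = 2 → IsConj s t := by
  have p2 : Fact (Nat.Prime 2) := ⟨Nat.prime_two⟩
  have p3 : Fact (Nat.Prime 3) := ⟨Nat.prime_three⟩
  have p7 : Fact (Nat.Prime 7) := ⟨by norm_num⟩
  refine ⟨orders168 h, ?_, fun s t hs ht => invol_conj h s t hs ht⟩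
  have := (counts168 h).1
  rw [← Nat.card_coe_set_eq] at this
  exact this

end Cfsg.Agent.S1005
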