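import Cfsg.Statements.S0495
import Cfsg.Agent.S1005
import Cfsg.Agent.S0243

set_option autoImplicit false
open Cfsg

namespace Cfsg.Agent.S0495

open Subgroup Cfsg.Agent.Lib.Helper8 Cfsg.Agent.S1002 Cfsg.Agent.S1003 Cfsg.Agent.S1005

section abs
set_option linter.unusedSectionVars false
variable {G : Type*} [Group G] [Finite G]

theorem cube_mod7 : ∀ m : ℕ, m < 7 → m ^ 3 % 7 = 1 % 7 → m = 1 ∨ m = 2 ∨ m = 4 := by decide

theorem exists_xy [IsSimpleGroup G] (hG : Nat.card G = 168) [Fact (Nat.Prime 2)]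
    [Fact (Nat.Prime 3)] [Fact (Nat.Prime 7)] (P : Sylow 7 G) :
    ∃ x y : G, orderOf x = 7 ∧ orderOf y = 3 ∧ x ∈ (P : Subgroup G) ∧
      y ∈ normalizer ((P : Subgroup G) : Set G) ∧ y * x * y⁻¹ = x ^ 2 := by
  obtain ⟨hc7, hc3, hc2, hn7, hn3, hn2, hN7, hN3, hN2, hnc⟩ := facts168 hG
  have hPnt : ∃ x : G, x ∈ (P : Subgroup G) ∧ x ≠ 1 := by
    by_contra hcon
    push Not at hcon
    have hb : (P : Subgroup G) = ⊥ := (Subgroup.eq_bot_iff_forall _).mpr hcon
    have h7 := hc7 P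
    have h7' : Nat.card (P : Subgroup G) = 7 := h7
    rw [hb] at h7'
    simp at h7'
  obtain ⟨x, hxP, hx1⟩ := hPnt
  have hox : orderOf x = 7 := orderOf_of_mem_sylow P (hc7 P) x hx1 hxP
  have hPz : zpowers x = (P : Subgroup G) :=
    Subgroup.eq_of_le_of_card_ge (by rwa [zpowers_le])
      (by rw [Nat.card_zpowers, hox]; exact (hc7 P).le)
  have h3 : 3 ∣ Nat.card (normalizer ((P : Subgroup G) : Set G)) := by rw [hN7 P]; norm_num
  obtain ⟨y', hy'⟩ := exists_prime_orderOf_dvd_card' 3 h3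
  have hoy : orderOf (y' : G) = 3 := by rw [Subgroup.orderOf_coe]; exact hy'
  have hyN : (y' : G) ∈ normalizer ((P : Subgroup G) : Set G) := y'.2
  have key : ∀ y : G, orderOf y = 3 → y ∈ normalizer ((P : Subgroup G) : Set G) →
      ∃ m : ℕ, m < 7 ∧ y * x * y⁻¹ = x ^ m ∧ (m = 2 ∨ m = 4) := by
    intro y hoy hyN
    have h1 : y * x * y⁻¹ ∈ (P : Subgroup G) := (Subgroup.mem_normalizer_iff.mp hyN x).mp hxP
    rw [← hPz] at h1
    obtain ⟨k, hk⟩ := Subgroup.mem_zpowers_iff.mp h1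
    obtain ⟨m, hm7, hm⟩ : ∃ m : ℕ, m < 7 ∧ x ^ m = y * x * y⁻¹ := by
      refine ⟨(k % 7).toNat, ?_, ?_⟩
      · omega
      · rw [← hk, ← zpow_natCast, Int.toNat_of_nonneg (by omega)]
        have := zpow_mod_orderOf x k
        rw [hox] at this
        exact this
    refine ⟨m, hm7, hm.symm, ?_⟩
    have hc : ∀ n : ℕ, y ^ n * x * (y ^ n)⁻¹ = x ^ (m ^ n) := by
      intro n
      induction n with
      | zero => simp
      | succ n ih =>
        have e1 : y ^ (n + 1) * x * (y ^ (n + 1))⁻¹ = y * (y ^ n * x * (y ^ n)⁻¹) * y⁻¹ := by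
          rw [pow_succ']; group
        rw [e1, ih, ← conj_pow, ← hm, ← pow_mul, pow_succ']
    have h3 := hc 3
    rw [← hoy, pow_orderOf_eq_one] at h3
    simp only [one_mul, inv_one, mul_one] at h3
    have h4 : x ^ (m ^ orderOf y) = x ^ 1 := by rw [← h3, pow_one]
    rw [hoy, pow_eq_pow_iff_modEq, hox] at h4
    have hm1 : m ≠ 1 := by
      rintro rfl
      rw [pow_one] at hm
      have hcomm : Commute x y := by
        have e2 : y * x = x * y := by
          calc y * x = (y * x * y⁻¹) * y := by group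
            _ = x * y := by rw [← hm]
        exact e2.symm
      have h21 := hcomm.orderOf_mul_eq_mul_orderOf_of_coprime (by rw [hox, hoy]; norm_num)
      rw [hox, hoy] at h21
      rcases orders168 hG (x * y) with h | h | h | h | h <;> omega
    have h5 : m = 1 ∨ m = 2 ∨ m = 4 := cube_mod7 m hm7 h4
    tauto
  obtain ⟨m, hm7, hm, hm24⟩ := key y' hoy hyN
  rcases hm24 with rfl | rfl
  · exact ⟨x, y', hox, hoy, hxP, hyN, hm⟩
  · refine ⟨x, (y' : G) ^ 2, hox, ?_, hxP, Subgroup.pow_mem _ hyN 2, ?_⟩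
    · rw [Nat.Coprime.orderOf_pow (by rw [hoy]; norm_num), hoy]
    · have h1 : (y' : G) ^ 2 * x * ((y' : G) ^ 2)⁻¹
          = (y' : G) * ((y' : G) * x * (y' : G)⁻¹) * (y' : G)⁻¹ := by
        rw [pow_two]; group
      rw [h1, hm, ← conj_pow, hm, ← pow_mul, pow_eq_pow_iff_modEq, hox]
      decide

theorem exists_fixed [IsSimpleGroup G] (hG : Nat.card G = 168) [Fact (Nat.Prime 2)]
    [Fact (Nat.Prime 3)] [Fact (Nat.Prime 7)] (P : Sylow 7 G) (y : G) (hoy : orderOf y = 3)
    (hyP : y • P = P) : ∃ Q : Sylow 7 G, Q ≠ P ∧ y • Q = Q := by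
  obtain ⟨hc7, hc3, hc2, hn7, hn3, hn2, hN7, hN3, hN2, hnc⟩ := facts168 hG
  have hpg : IsPGroup 3 (zpowers y) :=
    IsPGroup.of_card (n := 1) (by rw [Nat.card_zpowers, hoy, pow_one])
  have hmod := hpg.card_modEq_card_fixedPoints (Sylow 7 G)
  rw [hn7] at hmod
  by_contra hcon
  push Not at hcon
  have hsub : Subsingleton (MulAction.fixedPoints (zpowers y) (Sylow 7 G)) := by
    constructor
    rintro ⟨a, ha⟩ ⟨b, hb⟩
    have ha' : y • a = a := ha ⟨y, mem_zpowers y⟩
    have hb' : y • b = b := hb ⟨y, mem_zpowers y⟩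
    have e1 : a = P := by
      by_contra h; exact hcon a h ha'
    have e2 : b = P := by
      by_contra h; exact hcon b h hb'
    exact Subtype.ext (e1.trans e2.symm)
  have hPfix : P ∈ MulAction.fixedPoints (zpowers y) (Sylow 7 G) := by
    rintro ⟨g, hg⟩
    have hst : y ∈ MulAction.stabilizer G P := hyP
    have := (MulAction.stabilizer G P).zpowers_le.mpr hst hg
    exact this
  have hne : Nonempty (MulAction.fixedPoints (zpowers y) (Sylow 7 G)) := ⟨⟨P, hPfix⟩⟩
  have hcard : Nat.card (MulAction.fixedPoints (zpowers y) (Sylow 7 G)) = 1 :=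
    Nat.card_of_subsingleton ⟨P, hPfix⟩
  rw [hcard] at hmod
  exact absurd hmod (by decide)

theorem pow_smul_ne [IsSimpleGroup G] (hG : Nat.card G = 168) [Fact (Nat.Prime 2)]
    [Fact (Nat.Prime 3)] [Fact (Nat.Prime 7)] (P Q : Sylow 7 G) (hQP : Q ≠ P) (x : G)
    (hox : orderOf x = 7) (hxP : x ∈ (P : Subgroup G)) (i : ℕ) (hi : ¬ 7 ∣ i) :
    x ^ i • Q ≠ Q := by
  obtain ⟨hc7, hc3, hc2, hn7, hn3, hn2, hN7, hN3, hN2, hnc⟩ := facts168 hG
  intro h
  have h1 : x ^ i ∈ normalizer ((Q : Subgroup G) : Set G) :=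
    Sylow.smul_eq_iff_mem_normalizer.mp h
  have ho : orderOf (x ^ i) = 7 := by
    rw [Nat.Coprime.orderOf_pow, hox]
    rw [hox]
    exact (Nat.Prime.coprime_iff_not_dvd (by norm_num)).mpr hi
  have h2 : x ^ i ∈ (Q : Subgroup G) := mem_sylow_of_order Q _ h1 ho
  have h3 : x ^ i ≠ 1 := by
    intro h; rw [h, orderOf_one] at ho; omega
  exact hQP (mem_sylow_of_mem_two Q P (hc7 Q) (x ^ i) h3 h2 (Subgroup.pow_mem _ hxP i))

theorem cube_of_fix2 [IsSimpleGroup G] (hG : Nat.card G = 168) [Fact (Nat.Prime 2)]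
    [Fact (Nat.Prime 3)] [Fact (Nat.Prime 7)] (P Q : Sylow 7 G) (hQP : Q ≠ P) (h : G)
    (hP : h • P = P) (hQ : h • Q = Q) : h ^ 3 = 1 := by
  obtain ⟨hc7, hc3, hc2, hn7, hn3, hn2, hN7, hN3, hN2, hnc⟩ := facts168 hG
  have hN : h ∈ normalizer ((P : Subgroup G) : Set G) := Sylow.smul_eq_iff_mem_normalizer.mp hP
  have hd : orderOf h ∣ 21 := by
    rw [← hN7 P]; exact Subgroup.orderOf_dvd_natCard _ hN
  rcases orders168 hG h with ho | ho | ho | ho | ho
  · rw [orderOf_eq_one_iff] at ho; rw [ho, one_pow]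
  · rw [ho] at hd; norm_num at hd
  · rw [← ho]; exact pow_orderOf_eq_one h
  · rw [ho] at hd; norm_num at hd
  · have h1 := mem_sylow_of_order P h hN ho
    have h2 := mem_sylow_of_order Q h (Sylow.smul_eq_iff_mem_normalizer.mp hQ) ho
    have h3 : h ≠ 1 := by
      intro h'; rw [h', orderOf_one] at ho; omega
    exact absurd (mem_sylow_of_mem_two Q P (hc7 Q) h h3 h2 h1) hQP

theorem invol_no_fix [IsSimpleGroup G] (hG : Nat.card G = 168) [Fact (Nat.Prime 2)]
    [Fact (Nat.Prime 3)] [Fact (Nat.Prime 7)] (t : G) (ht : orderOf t = 2) (Q : Sylow 7 G) :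
    t • Q ≠ Q := by
  obtain ⟨hc7, hc3, hc2, hn7, hn3, hn2, hN7, hN3, hN2, hnc⟩ := facts168 hG
  intro h
  have hN := Sylow.smul_eq_iff_mem_normalizer.mp h
  have hd : orderOf t ∣ 21 := by
    rw [← hN7 Q]; exact Subgroup.orderOf_dvd_natCard _ hN
  rw [ht] at hd; norm_num at hd

theorem conj_inv [IsSimpleGroup G] (hG : Nat.card G = 168) [Fact (Nat.Prime 2)]
    [Fact (Nat.Prime 3)] [Fact (Nat.Prime 7)] (P Q : Sylow 7 G) (hQP : Q ≠ P) (y t : G)
    (hoy : orderOf y = 3) (hyP : y • P = P) (hyQ : y • Q = Q) (hot : orderOf t = 2)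
    (htP : t • P = Q) (htQ : t • Q = P) : t * y * t⁻¹ = y⁻¹ := by
  set D : Subgroup G := MulAction.stabilizer G P ⊓ MulAction.stabilizer G Q with hD
  have hDcube : ∀ h ∈ D, h ^ 3 = 1 := fun h hh => cube_of_fix2 hG P Q hQP h hh.1 hh.2
  have hDp : IsPGroup 3 D := by
    rintro ⟨h, hh⟩
    refine ⟨1, ?_⟩
    ext
    simpa using hDcube h hh
  obtain ⟨k, hk⟩ := IsPGroup.iff_card.mp hDp
  have hdvd : Nat.card D ∣ 168 := hG ▸ Subgroup.card_subgroup_dvd_card D
  have hyD : y ∈ D := ⟨hyP, hyQ⟩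
  have hzy : zpowers y ≤ D := by rwa [zpowers_le]
  have h3 : 3 ∣ Nat.card D := by
    have := Subgroup.card_dvd_of_le hzy
    rwa [Nat.card_zpowers, hoy] at this
  have hcard : Nat.card D = 3 := by
    rw [hk] at hdvd h3
    have hk1 : k ≤ 1 := by
      by_contra hcon
      push Not at hcon
      have : 3 ^ 2 ∣ 168 := (pow_dvd_pow 3 hcon).trans hdvd
      norm_num at this
    interval_cases k
    · norm_num at h3
    · rw [hk]; norm_num
  have hDz : zpowers y = D :=
    Subgroup.eq_of_le_of_card_ge hzy (by rw [Nat.card_zpowers, hoy, hcard])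
  have htiP : t⁻¹ • P = Q := by rw [inv_smul_eq_iff, htQ]
  have htiQ : t⁻¹ • Q = P := by rw [inv_smul_eq_iff, htP]
  have hc : t * y * t⁻¹ ∈ D := by
    constructor
    · show (t * y * t⁻¹) • P = P
      rw [mul_smul, mul_smul, htiP, hyQ, htQ]
    · show (t * y * t⁻¹) • Q = Q
      rw [mul_smul, mul_smul, htiQ, hyP, htP]
  rw [← hDz] at hc
  obtain ⟨j, hj⟩ := Subgroup.mem_zpowers_iff.mp hc
  have hmod := zpow_mod_orderOf y j
  rw [hoy] at hmod
  simp only [Nat.cast_ofNat] at hmod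
  have hy3 : y ^ 3 = 1 := by rw [← hoy]; exact pow_orderOf_eq_one y
  have hj3 : j % 3 = 0 ∨ j % 3 = 1 ∨ j % 3 = 2 := by omega
  rcases hj3 with h0 | h1 | h2
  · rw [h0, zpow_zero] at hmod
    have e1 : t * y * t⁻¹ = 1 := by rw [← hj, ← hmod]
    have e2 : y = 1 := by simpa using e1
    rw [e2, orderOf_one] at hoy; omega
  · rw [h1, zpow_one] at hmod
    have e1 : t * y * t⁻¹ = y := by rw [← hj, ← hmod]
    have hcomm : Commute t y := by
      have e2 : t * y = y * t := by
        calc t * y = (t * y * t⁻¹) * t := by group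
          _ = y * t := by rw [e1]
      exact e2
    have h6 := hcomm.orderOf_mul_eq_mul_orderOf_of_coprime (by rw [hot, hoy]; norm_num)
    rw [hot, hoy] at h6
    rcases orders168 hG (t * y) with h | h | h | h | h <;> omega
  · rw [h2] at hmod
    rw [← hj, ← hmod, eq_inv_iff_mul_eq_one]
    calc y ^ (2 : ℤ) * y = y ^ 3 := by
          rw [show (2 : ℤ) = ((2 : ℕ) : ℤ) from rfl, zpow_natCast, ← pow_succ]
      _ = 1 := hy3

theorem exists_t [IsSimpleGroup G] (hG : Nat.card G = 168) [Fact (Nat.Prime 2)]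
    [Fact (Nat.Prime 3)] [Fact (Nat.Prime 7)] (P Q : Sylow 7 G) (hQP : Q ≠ P) (x : G)
    (hxP : x ∈ (P : Subgroup G))
    (hsurj : ∀ R : Sylow 7 G, R ≠ P → ∃ i : ℕ, x ^ i • Q = R) :
    ∃ t : G, orderOf t = 2 ∧ t • P = Q ∧ t • Q = P := by
  obtain ⟨g1, hg1⟩ := MulAction.exists_smul_eq G P Q
  have h1 : g1⁻¹ • P ≠ P := by
    intro h
    rw [inv_smul_eq_iff] at h
    exact hQP (by rw [← hg1, ← h])
  obtain ⟨i, hi⟩ := hsurj _ h1
  set g := g1 * x ^ i with hg
  have hxP' : x ^ i • P = P :=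
    Sylow.smul_eq_iff_mem_normalizer.mpr (le_normalizer (pow_mem hxP i))
  have hgP : g • P = Q := by rw [hg, mul_smul, hxP', hg1]
  have hgQ : g • Q = P := by rw [hg, mul_smul, hi, smul_inv_smul]
  have hg2P : (g ^ 2) • P = P := by rw [pow_two, mul_smul, hgP, hgQ]
  have hg2Q : (g ^ 2) • Q = Q := by rw [pow_two, mul_smul, hgQ, hgP]
  have h6 : (g ^ 2) ^ 3 = 1 := cube_of_fix2 hG P Q hQP _ hg2P hg2Q
  have e3 : g ^ 3 = g ^ 2 * g := pow_succ g 2
  refine ⟨g ^ 3, ?_, ?_, ?_⟩
  · have h2 : (g ^ 3) ^ 2 = 1 := by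
      rw [← pow_mul]; rw [← pow_mul] at h6; exact h6
    have hne : g ^ 3 ≠ 1 := by
      intro h
      have e : (g ^ 3) • P = Q := by rw [e3, mul_smul, hgP, hg2Q]
      rw [h, one_smul] at e
      exact hQP e.symm
    exact orderOf_eq_prime h2 hne
  · rw [e3, mul_smul, hgP, hg2Q]
  · rw [e3, mul_smul, hgQ, hg2P]

theorem closure_top [IsSimpleGroup G] (hG : Nat.card G = 168) [Fact (Nat.Prime 2)]
    [Fact (Nat.Prime 3)] [Fact (Nat.Prime 7)] (x y t : G) (hox : orderOf x = 7)
    (hoy : orderOf y = 3) (hot : orderOf t = 2) : closure ({x, y, t} : Set G) = ⊤ := by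
  obtain ⟨hc7, hc3, hc2, hn7, hn3, hn2, hN7, hN3, hN2, hnc⟩ := facts168 hG
  by_contra hne
  have hx : x ∈ closure ({x, y, t} : Set G) := subset_closure (by simp)
  have hy : y ∈ closure ({x, y, t} : Set G) := subset_closure (by simp)
  have ht : t ∈ closure ({x, y, t} : Set G) := subset_closure (by simp)
  have h7 : 7 ∣ Nat.card (closure ({x, y, t} : Set G)) :=
    hox ▸ Subgroup.orderOf_dvd_natCard _ hx
  have h3 : 3 ∣ Nat.card (closure ({x, y, t} : Set G)) :=
    hoy ▸ Subgroup.orderOf_dvd_natCard _ hy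
  have h2 : 2 ∣ Nat.card (closure ({x, y, t} : Set G)) :=
    hot ▸ Subgroup.orderOf_dvd_natCard _ ht
  have h42 : 42 ∣ Nat.card (closure ({x, y, t} : Set G)) := by
    have h21 : 7 * 3 ∣ Nat.card (closure ({x, y, t} : Set G)) :=
      Nat.Coprime.mul_dvd_of_dvd_of_dvd (by norm_num) h7 h3
    have : 7 * 3 * 2 ∣ Nat.card (closure ({x, y, t} : Set G)) :=
      Nat.Coprime.mul_dvd_of_dvd_of_dvd (by norm_num) h21 h2
    exact this
  have hmul := Subgroup.card_mul_index (closure ({x, y, t} : Set G))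
  rw [hG] at hmul
  have hfac := two_mul_card_dvd_factorial_of_simple hnc _ hne
  rw [hG] at hfac
  obtain ⟨c, hc⟩ := h42
  rw [hc] at hmul
  have hci : c * (closure ({x, y, t} : Set G)).index = 4 := by
    have : 42 * (c * (closure ({x, y, t} : Set G)).index) = 42 * 4 := by
      rw [← mul_assoc, hmul]
    exact Nat.eq_of_mul_eq_mul_left (by norm_num) this
  have hidx : (closure ({x, y, t} : Set G)).index ∣ 4 := Dvd.intro_left c hci
  have hle : (closure ({x, y, t} : Set G)).index ≤ 4 := Nat.le_of_dvd (by norm_num) hidx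
  have hfac' : 2 * 168 ∣ Nat.factorial 4 := dvd_trans hfac (Nat.factorial_dvd_factorial hle)
  norm_num [Nat.factorial] at hfac'

end abs


/-! ### explicit permutations of `Fin 8` (projective line over `F_7`, `7 = ∞`) -/

def x0 : Equiv.Perm (Fin 8) := ⟨![1,2,3,4,5,6,0,7], ![6,0,1,2,3,4,5,7], fun x => by revert x; decide, fun x => by revert x; decide⟩
def y0 : Equiv.Perm (Fin 8) := ⟨![0,2,4,6,1,3,5,7], ![0,4,1,5,2,6,3,7], fun x => by revert x; decide, fun x => by revert x; decide⟩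
def t3 : Equiv.Perm (Fin 8) := ⟨![7,3,5,1,6,2,4,0], ![7,3,5,1,6,2,4,0], fun x => by revert x; decide, fun x => by revert x; decide⟩
def t5 : Equiv.Perm (Fin 8) := ⟨![7,5,6,4,3,1,2,0], ![7,5,6,4,3,1,2,0], fun x => by revert x; decide, fun x => by revert x; decide⟩
def t6 : Equiv.Perm (Fin 8) := ⟨![7,6,3,2,5,4,1,0], ![7,6,3,2,5,4,1,0], fun x => by revert x; decide, fun x => by revert x; decide⟩

/-- The explicit group of order 168 (`PSL(2,7)` on the projective line). -/
def H0 : Subgroup (Equiv.Perm (Fin 8)) := closure {x0, y0, t6}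

def tab (a b : Fin 8) : Fin 8 → Fin 8 :=
  ![7, a, y0.symm a, b, y0.symm (y0.symm a), y0.symm (y0.symm b), y0.symm b, 0]

theorem tab_cases : ∀ a b : Fin 8, (∀ j, tab a b (tab a b j) = j) → (∀ j, tab a b j ≠ j) →
    tab a b = ⇑t3 ∨ tab a b = ⇑t5 ∨ tab a b = ⇑t6 := by decide

theorem tau_cases (τ : Equiv.Perm (Fin 8)) (h7 : τ 7 = 0) (hinv : ∀ j, τ (τ j) = j)
    (hfix : ∀ j, τ j ≠ j) (hy : ∀ j, τ (y0 j) = y0.symm (τ j)) :
    τ = t3 ∨ τ = t5 ∨ τ = t6 := by
  have h0 : τ 0 = 7 := by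
    have := hinv 7; rwa [h7] at this
  have h2 : τ 2 = y0.symm (τ 1) := hy 1
  have h4 : τ 4 = y0.symm (y0.symm (τ 1)) := by rw [← h2]; exact hy 2
  have h6 : τ 6 = y0.symm (τ 3) := hy 3
  have h5 : τ 5 = y0.symm (y0.symm (τ 3)) := by rw [← h6]; exact hy 6
  have hfun : ⇑τ = tab (τ 1) (τ 3) := by
    funext j
    fin_cases j
    · exact h0
    · rfl
    · exact h2
    · rfl
    · exact h4
    · exact h5
    · exact h6
    · exact h7
  have key := tab_cases (τ 1) (τ 3) (by rw [← hfun]; exact hinv) (by rw [← hfun]; exact hfix)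
  rw [← hfun] at key
  rcases key with h | h | h
  · exact Or.inl (DFunLike.coe_injective h)
  · exact Or.inr (Or.inl (DFunLike.coe_injective h))
  · exact Or.inr (Or.inr (DFunLike.coe_injective h))

theorem x0_spec : ∀ j : Fin 8, j ≠ 7 → x0 j = ⟨((j : ℕ) + 1) % 7, by omega⟩ := by decide

theorem y0_spec : ∀ j : Fin 8, j ≠ 7 → y0 j = ⟨(2 * (j : ℕ)) % 7, by omega⟩ := by decide

theorem closure_swap {Γ : Type*} [Group Γ] (x y a b : Γ) (h1 : a ∈ closure ({x, y, b} : Set Γ))
    (h2 : b ∈ closure ({x, y, a} : Set Γ)) :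
    closure ({x, y, a} : Set Γ) = closure ({x, y, b} : Set Γ) := by
  apply le_antisymm
  · rw [closure_le]
    rintro _ (rfl | rfl | rfl)
    · exact subset_closure (by simp)
    · exact subset_closure (by simp)
    · exact h1
  · rw [closure_le]
    rintro _ (rfl | rfl | rfl)
    · exact subset_closure (by simp)
    · exact subset_closure (by simp)
    · exact h2

theorem H0_eq3 : closure ({x0, y0, t3} : Set (Equiv.Perm (Fin 8))) = H0 := by
  apply closure_swap
  · have e : t3 = y0 * t6 * y0⁻¹ := by decide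
    rw [e]
    exact mul_mem (mul_mem (subset_closure (by simp)) (subset_closure (by simp)))
      (inv_mem (subset_closure (by simp)))
  · have e : t6 = y0⁻¹ * t3 * y0 := by decide
    rw [e]
    exact mul_mem (mul_mem (inv_mem (subset_closure (by simp))) (subset_closure (by simp)))
      (subset_closure (by simp))

theorem H0_eq5 : closure ({x0, y0, t5} : Set (Equiv.Perm (Fin 8))) = H0 := by
  apply closure_swap
  · have e : t5 = y0⁻¹ * t6 * y0 := by decide
    rw [e]
    exact mul_mem (mul_mem (inv_mem (subset_closure (by simp))) (subset_closure (by simp)))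
      (subset_closure (by simp))
  · have e : t6 = y0 * t5 * y0⁻¹ := by decide
    rw [e]
    exact mul_mem (mul_mem (subset_closure (by simp)) (subset_closure (by simp)))
      (inv_mem (subset_closure (by simp)))

section label
set_option linter.unusedSectionVars false
variable {G : Type*} [Group G] [Finite G] [Fact (Nat.Prime 7)]

/-- labelling of the Sylow 7-subgroups by `Fin 8` -/
noncomputable def psi (P Q : Sylow 7 G) (x : G) (j : Fin 8) : Sylow 7 G :=
  if j = 7 then P else x ^ (j : ℕ) • Q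

theorem psi_pow (P Q : Sylow 7 G) (x : G) (hox : orderOf x = 7) (n : ℕ) :
    x ^ n • Q = psi P Q x ⟨n % 7, by omega⟩ := by
  have h : (⟨n % 7, by omega⟩ : Fin 8) ≠ 7 := by
    intro h
    have h' : n % 7 = 7 := congrArg Fin.val h
    omega
  rw [psi, if_neg h]
  show x ^ n • Q = x ^ (n % 7) • Q
  have h2 := pow_mod_orderOf x n
  rw [hox] at h2
  rw [h2]

theorem psi_inj (P Q : Sylow 7 G) (x : G) (hQP : Q ≠ P) (hxP : x • P = P)
    (hfree : ∀ i : ℕ, ¬ 7 ∣ i → x ^ i • Q ≠ Q) : Function.Injective (psi P Q x) := by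
  have hpowP : ∀ i : ℕ, x ^ i • P = P := by
    intro i
    induction i with
    | zero => simp
    | succ n ih => rw [pow_succ, mul_smul, hxP, ih]
  have aux : ∀ a b : ℕ, a ≤ b → b < 7 → x ^ a • Q = x ^ b • Q → a = b := by
    intro a b hab hb h
    have e : x ^ b = x ^ a * x ^ (b - a) := by
      rw [← pow_add]; congr 1; omega
    rw [e, mul_smul] at h
    have h' := smul_left_cancel _ h
    by_contra hne
    exact hfree (b - a) (by omega) h'.symm
  intro a b hab
  by_cases ha : a = 7 <;> by_cases hb : b = 7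
  · rw [ha, hb]
  · exfalso
    rw [psi, psi, if_pos ha, if_neg hb] at hab
    have h1 : x ^ (b : ℕ) • Q = x ^ (b : ℕ) • P := by rw [hpowP, ← hab]
    exact hQP (smul_left_cancel _ h1)
  · exfalso
    rw [psi, psi, if_neg ha, if_pos hb] at hab
    have h1 : x ^ (a : ℕ) • Q = x ^ (a : ℕ) • P := by rw [hpowP, hab]
    exact hQP (smul_left_cancel _ h1)
  · rw [psi, psi, if_neg ha, if_neg hb] at hab
    have ha' : (a : ℕ) < 7 := by
      have h1 := a.2
      have h2 : (a : ℕ) ≠ 7 := fun h => ha (Fin.ext h)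
      omega
    have hb' : (b : ℕ) < 7 := by
      have h1 := b.2
      have h2 : (b : ℕ) ≠ 7 := fun h => hb (Fin.ext h)
      omega
    apply Fin.ext
    rcases le_total (a : ℕ) b with h | h
    · exact aux _ _ h hb' hab
    · exact (aux _ _ h ha' hab.symm).symm

theorem rep_exists [IsSimpleGroup G] (hG : Nat.card G = 168) [Fact (Nat.Prime 2)]
    [Fact (Nat.Prime 3)] :
    ∃ (ρ : G →* Equiv.Perm (Fin 8)) (x y t : G), orderOf x = 7 ∧ orderOf y = 3 ∧
      orderOf t = 2 ∧ ρ x = x0 ∧ ρ y = y0 ∧ (ρ t = t3 ∨ ρ t = t5 ∨ ρ t = t6) := by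
  obtain ⟨hc7, hc3, hc2, hn7, hn3, hn2, hN7, hN3, hN2, hnc⟩ := facts168 hG
  obtain ⟨P⟩ : Nonempty (Sylow 7 G) := inferInstance
  obtain ⟨x, y, hox, hoy, hxP, hyN, hyx⟩ := exists_xy hG P
  have hxP' : x • P = P := Sylow.smul_eq_iff_mem_normalizer.mpr (le_normalizer hxP)
  have hyP : y • P = P := Sylow.smul_eq_iff_mem_normalizer.mpr hyN
  obtain ⟨Q, hQP, hyQ⟩ := exists_fixed hG P y hoy hyP
  have hfree := pow_smul_ne hG P Q hQP x hox hxP
  have hinj := psi_inj P Q x hQP hxP' hfree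
  have hbij : Function.Bijective (psi P Q x) :=
    hinj.bijective_of_nat_card_le (by rw [hn7]; simp)
  set e : Fin 8 ≃ Sylow 7 G := Equiv.ofBijective _ hbij with he
  have he_app : ∀ j, e j = psi P Q x j := fun j => rfl
  have he7 : e 7 = P := by rw [he_app]; exact if_pos rfl
  have he0 : e 0 = Q := by
    rw [he_app, psi, if_neg (by decide)]; simp
  have hpow : ∀ n : ℕ, x ^ n • Q = e ⟨n % 7, by omega⟩ := fun n => psi_pow P Q x hox n
  have hsurj : ∀ R : Sylow 7 G, R ≠ P → ∃ i : ℕ, x ^ i • Q = R := by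
    intro R hR
    obtain ⟨j, hj⟩ := e.surjective R
    have hj7 : j ≠ 7 := by
      rintro rfl
      exact hR (hj.symm.trans he7)
    refine ⟨j, ?_⟩
    rw [← hj, he_app, psi, if_neg hj7]
  obtain ⟨t, hot, htP, htQ⟩ := exists_t hG P Q hQP x hxP hsurj
  have hty := conj_inv hG P Q hQP y t hoy hyP hyQ hot htP htQ
  let ρ : G →* Equiv.Perm (Fin 8) :=
    e.symm.permCongrHom.toMonoidHom.comp (MulAction.toPermHom G (Sylow 7 G))
  have hρ : ∀ g j, e (ρ g j) = g • e j := by
    intro g j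
    simp [ρ, Equiv.permCongrHom]
  have hρ' : ∀ (g : G) (σ : Equiv.Perm (Fin 8)), (∀ j, g • e j = e (σ j)) → ρ g = σ := by
    intro g σ h
    ext j
    have := e.injective ((hρ g j).trans (h j))
    rw [this]
  have hρx : ρ x = x0 := by
    apply hρ'
    intro j
    by_cases hj : j = 7
    · subst hj
      rw [he7, hxP']; exact he7.symm
    · rw [he_app j, psi, if_neg hj, ← mul_smul, ← pow_succ', hpow, x0_spec j hj]
  have hρy : ρ y = y0 := by
    apply hρ'
    intro j
    by_cases hj : j = 7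
    · subst hj
      rw [he7, hyP]; exact he7.symm
    · rw [he_app j, psi, if_neg hj]
      have e2 : y • x ^ (j : ℕ) • Q = x ^ (2 * (j : ℕ)) • Q := by
        have e1 : y * x ^ (j : ℕ) = (x ^ 2) ^ (j : ℕ) * y := by
          rw [← hyx, conj_pow]; group
        rw [← mul_smul, e1, mul_smul, hyQ, ← pow_mul]
      rw [e2, hpow, y0_spec j hj]
  refine ⟨ρ, x, y, t, hox, hoy, hot, hρx, hρy, ?_⟩
  have h7 : ρ t 7 = 0 := by
    apply e.injective
    rw [hρ, he7, htP, he0]
  have hinv : ∀ j, ρ t (ρ t j) = j := by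
    intro j
    have h1 : ρ t * ρ t = 1 := by
      rw [← map_mul]
      have h2 : t * t = 1 := by rw [← pow_two, ← hot]; exact pow_orderOf_eq_one t
      rw [h2, map_one]
    have h3 := congrArg (fun σ : Equiv.Perm (Fin 8) => σ j) h1
    simpa using h3
  have hfix : ∀ j, ρ t j ≠ j := by
    intro j h
    have h1 := hρ t j
    rw [h] at h1
    exact invol_no_fix hG t hot (e j) h1.symm
  have hy : ∀ j, ρ t (y0 j) = y0.symm (ρ t j) := by
    intro j
    have h1 : ρ t * ρ y = (ρ y)⁻¹ * ρ t := by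
      rw [← map_inv, ← map_mul, ← map_mul]
      congr 1
      calc t * y = (t * y * t⁻¹) * t := by group
        _ = y⁻¹ * t := by rw [hty]
    rw [hρy] at h1
    have h3 := congrArg (fun σ : Equiv.Perm (Fin 8) => σ j) h1
    simpa using h3
  exact tau_cases (ρ t) h7 hinv hfix hy

end label

/-- Every simple group of order 168 is isomorphic to the explicit permutation group `H0`. -/
theorem simple168_equiv {G : Type*} [Group G] [IsSimpleGroup G] (h : Nat.card G = 168) :
    Nonempty (G ≃* H0) := by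
  have : Finite G := Nat.finite_of_card_ne_zero (by rw [h]; norm_num)
  have : Fact (Nat.Prime 2) := ⟨by norm_num⟩
  have : Fact (Nat.Prime 3) := ⟨by norm_num⟩
  have : Fact (Nat.Prime 7) := ⟨by norm_num⟩
  obtain ⟨ρ, x, y, t, hox, hoy, hot, hx, hy, ht⟩ := rep_exists h
  have hcl := closure_top h x y t hox hoy hot
  have hinj : Function.Injective ρ := by
    rw [← MonoidHom.ker_eq_bot_iff]
    rcases (MonoidHom.normal_ker ρ).eq_bot_or_eq_top with hk | hk
    · exact hk
    · exfalso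
      have h1 : x ∈ ρ.ker := by rw [hk]; trivial
      rw [MonoidHom.mem_ker, hx] at h1
      exact absurd h1 (by decide)
  have hrange : ρ.range = H0 := by
    rw [MonoidHom.range_eq_map, ← hcl, MonoidHom.map_closure]
    have e1 : (ρ '' {x, y, t}) = {x0, y0, ρ t} := by
      rw [Set.image_insert_eq, Set.image_insert_eq, Set.image_singleton, hx, hy]
    rw [e1]
    rcases ht with ht | ht | ht
    · rw [ht]; exact H0_eq3
    · rw [ht]; exact H0_eq5
    · rw [ht]; rfl
  exact ⟨(MonoidHom.ofInjective hinj).trans (MulEquiv.subgroupCongr hrange)⟩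

/-- `PSL(2,7)` has order 168. -/
theorem card_psl27 {F : Type*} [Field F] [Fintype F] (hF : Fintype.card F = 7) :
    Nat.card (Matrix.ProjectiveSpecialLinearGroup (Fin 2) F) = 168 := by
  have h1 := Cfsg.Agent.S0243.result hF 2 (le_refl 2)
  simp only [Fin.prod_univ_two, Fin.val_zero, Fin.val_one, pow_zero, pow_one] at h1
  norm_num at h1
  omega

/-- A simple group of order 168 is isomorphic to the projective special linear group of dimension 2 over the field with
7 elements. -/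
theorem result {G : Type*} [Group G] [Finite G] [IsSimpleGroup G]
    (h : Nat.card G = 168) {F : Type*} [Field F] [Fintype F] (hF : Fintype.card F = 7) :
    Nonempty (G ≃* Matrix.ProjectiveSpecialLinearGroup (Fin 2) F) := by
  have hs : IsSimpleGroup (Matrix.ProjectiveSpecialLinearGroup (Fin 2) F) :=
    Matrix.ProjectiveSpecialLinearGroup.rank_two_simple
      (by rw [Nat.card_eq_fintype_card, hF]; norm_num)
  obtain ⟨e1⟩ := simple168_equiv h
  obtain ⟨e2⟩ := simple168_equiv (card_psl27 hF)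
  exact ⟨e1.trans e2.symm⟩

end Cfsg.Agent.S0495
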