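import Cfsg.Statements.S0627
import Cfsg.Agent.Lib.Helper17.PStabPSolv
import Cfsg.Agent.S0624
import Cfsg.Agent.S0622
import Cfsg.Agent.Lib.Helper6.PSolv3

set_option autoImplicit false
open Cfsg

namespace Cfsg.Agent.S0627

/-- In a p-separable group with p at least 5, the normalizer of W(S) supplements the largest normal subgroup of order prime to p. -/
theorem result {G : Type*} [Group G] [Finite G] {p : ℕ} [Fact p.Prime] (hp : 5 ≤ p) (hsep : Cfsg.IsPSolvable p G) (S : Sylow p G) : Cfsg.pPrimeCore p G ⊔ Subgroup.normalizer (((Cfsg.stableNormalClosure p ↥(S : Subgroup G)).map (S : Subgroup G).subtype) : Set G) = ⊤ := by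
  classical
  have hpp : p.Prime := Fact.out
  have hπs : Function.Surjective (QuotientGroup.mk' (Cfsg.pPrimeCore p G)) :=
    QuotientGroup.mk'_surjective _
  have hsol' : Cfsg.IsPSolvable p (G ⧸ Cfsg.pPrimeCore p G) :=
    Cfsg.Agent.Lib.Helper6.isPSolvable_quotient hpp _ hsep
  have hO : Cfsg.pPrimeCore p (G ⧸ Cfsg.pPrimeCore p G) = ⊥ :=
    Cfsg.Agent.Lib.Helper6.pPrimeCore_quotient_pPrimeCore_eq_bot
  have hc := Cfsg.Agent.Lib.Helper6.centralizer_pCore_le_of_isPSolvable hsol' hO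
  have hst : Cfsg.IsActionPStable p (G ⧸ Cfsg.pPrimeCore p G) :=
    Cfsg.Agent.Lib.Helper17.isActionPStable_of_psolv (by omega) (by omega) hsol'
  obtain ⟨Sb, hSb⟩ : ∃ Sb : Sylow p (G ⧸ Cfsg.pPrimeCore p G),
      (Sb : Subgroup (G ⧸ Cfsg.pPrimeCore p G)) =
        (S : Subgroup G).map (QuotientGroup.mk' (Cfsg.pPrimeCore p G)) :=
    ⟨S.mapSurjective hπs, Sylow.coe_mapSurjective hπs S⟩
  have hWn := Cfsg.Agent.S0624.result hst hc Sb
  have hSK : ∀ s ∈ (S : Subgroup G), s ∈ Cfsg.pPrimeCore p G → s = 1 := by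
    intro s hs hsK
    have h1 := Cfsg.Agent.Lib.Helper6.orderOf_coprime_of_mem_pPrimeCore hsK
    obtain ⟨k, hk⟩ := S.isPGroup' ⟨s, hs⟩
    have h2 : s ^ p ^ k = 1 := by simpa using congrArg Subtype.val hk
    have h3 : orderOf s ∣ p ^ k := orderOf_dvd_of_pow_eq_one h2
    have h4 : orderOf s = 1 := Nat.eq_one_of_dvd_coprimes (Nat.Coprime.pow_right k h1) dvd_rfl h3
    exact orderOf_eq_one_iff.mp h4
  obtain ⟨τ, hτ⟩ : ∃ τ : ↥(S : Subgroup G) →* ↥(Sb : Subgroup (G ⧸ Cfsg.pPrimeCore p G)),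
      ∀ s, ((τ s : ↥(Sb : Subgroup (G ⧸ Cfsg.pPrimeCore p G))) : G ⧸ Cfsg.pPrimeCore p G) =
        QuotientGroup.mk' (Cfsg.pPrimeCore p G) (s : G) :=
    ⟨((QuotientGroup.mk' (Cfsg.pPrimeCore p G)).comp (S : Subgroup G).subtype).codRestrict
      (Sb : Subgroup (G ⧸ Cfsg.pPrimeCore p G))
      (fun s => by rw [hSb]; exact Subgroup.mem_map_of_mem _ s.2), fun s => rfl⟩
  have hτinj : Function.Injective τ := by
    rw [injective_iff_map_eq_one]
    intro s hs
    have h1 := congrArg Subtype.val hs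
    rw [hτ] at h1
    have h2 : (s : G) ∈ Cfsg.pPrimeCore p G := (QuotientGroup.eq_one_iff _).mp h1
    exact Subtype.ext (hSK _ s.2 h2)
  have hτsurj : Function.Surjective τ := by
    rintro ⟨y, hy⟩
    have hy' : y ∈ (S : Subgroup G).map (QuotientGroup.mk' (Cfsg.pPrimeCore p G)) := hSb ▸ hy
    obtain ⟨s, hs, rfl⟩ := hy'
    exact ⟨⟨s, hs⟩, Subtype.ext (hτ _)⟩
  obtain ⟨η, hη⟩ : ∃ η : ↥(S : Subgroup G) ≃* ↥(Sb : Subgroup (G ⧸ Cfsg.pPrimeCore p G)),
      ∀ s, η s = τ s := ⟨MulEquiv.ofBijective τ ⟨hτinj, hτsurj⟩, fun s => rfl⟩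
  have hSp : IsPGroup p ↥(S : Subgroup G) := S.isPGroup'
  have htr := (Cfsg.Agent.S0622.result hSp).2.2.2.2
    ↥(Sb : Subgroup (G ⧸ Cfsg.pPrimeCore p G)) η
  obtain ⟨W₁, hW₁⟩ : ∃ W₁ : Subgroup G,
      W₁ = (Cfsg.stableNormalClosure p ↥(S : Subgroup G)).map (S : Subgroup G).subtype :=
    ⟨_, rfl⟩
  have hmap : W₁.map (QuotientGroup.mk' (Cfsg.pPrimeCore p G)) =
      (Cfsg.stableNormalClosure p ↥(Sb : Subgroup (G ⧸ Cfsg.pPrimeCore p G))).map
        (Sb : Subgroup (G ⧸ Cfsg.pPrimeCore p G)).subtype := by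
    rw [← htr, hW₁, Subgroup.map_map, Subgroup.map_map]
    congr 1
    apply MonoidHom.ext
    intro s
    show QuotientGroup.mk' (Cfsg.pPrimeCore p G) (s : G) =
      ((η s : ↥(Sb : Subgroup (G ⧸ Cfsg.pPrimeCore p G))) : G ⧸ Cfsg.pPrimeCore p G)
    rw [hη, hτ]
  have hW₁bn : (W₁.map (QuotientGroup.mk' (Cfsg.pPrimeCore p G))).Normal := by
    rw [hmap]; exact hWn
  rw [← hW₁]
  obtain ⟨M, hM⟩ : ∃ M : Subgroup G, M = W₁ ⊔ Cfsg.pPrimeCore p G := ⟨_, rfl⟩
  have hMn : M.Normal := by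
    have h1 : ((W₁.map (QuotientGroup.mk' (Cfsg.pPrimeCore p G))).comap
        (QuotientGroup.mk' (Cfsg.pPrimeCore p G))).Normal := hW₁bn.comap _
    rw [Subgroup.comap_map_eq, QuotientGroup.ker_mk', ← hM] at h1
    exact h1
  have hW₁M : W₁ ≤ M := hM ▸ le_sup_left
  have hKM : Cfsg.pPrimeCore p G ≤ M := hM ▸ le_sup_right
  have hW₁S : W₁ ≤ (S : Subgroup G) := by rw [hW₁]; exact Subgroup.map_subtype_le _
  have hW₁p : IsPGroup p W₁ := S.isPGroup'.to_le hW₁S
  have hW₁p' : IsPGroup p (W₁.subgroupOf M) := hW₁p.comap_subtype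
  have hidx : ¬ p ∣ (W₁.subgroupOf M).index := by
    have e1 : Nat.card M = Nat.card (Cfsg.pPrimeCore p G) *
        Nat.card (M.map (QuotientGroup.mk' (Cfsg.pPrimeCore p G))) := by
      have h1 := Subgroup.card_mul_index ((Cfsg.pPrimeCore p G).subgroupOf M)
      have h2 : ((Cfsg.pPrimeCore p G).subgroupOf M).index =
          Nat.card (M.map (QuotientGroup.mk' (Cfsg.pPrimeCore p G))) := by
        have h3 := Subgroup.relIndex_ker (QuotientGroup.mk' (Cfsg.pPrimeCore p G)) (K := M)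
        rw [QuotientGroup.ker_mk'] at h3
        exact h3
      rw [h2, Nat.card_congr (Subgroup.subgroupOfEquivOfLe hKM).toEquiv] at h1
      exact h1.symm
    have e2 : M.map (QuotientGroup.mk' (Cfsg.pPrimeCore p G)) =
        W₁.map (QuotientGroup.mk' (Cfsg.pPrimeCore p G)) := by
      rw [hM, Subgroup.map_sup, QuotientGroup.map_mk'_self, sup_bot_eq]
    have e3 : Nat.card (W₁.map (QuotientGroup.mk' (Cfsg.pPrimeCore p G))) = Nat.card W₁ := by
      rw [hmap, Subgroup.card_map_of_injective (Subgroup.subtype_injective _), ← htr,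
        Subgroup.card_map_of_injective η.injective, hW₁,
        Subgroup.card_map_of_injective (Subgroup.subtype_injective _)]
    have e4 := Subgroup.card_mul_index (W₁.subgroupOf M)
    rw [Nat.card_congr (Subgroup.subgroupOfEquivOfLe hW₁M).toEquiv, e1, e2, e3] at e4
    have e5 : (W₁.subgroupOf M).index = Nat.card (Cfsg.pPrimeCore p G) := by
      have hpos : 0 < Nat.card W₁ := Nat.card_pos
      exact Nat.eq_of_mul_eq_mul_left hpos (by rw [e4, mul_comm])
    rw [e5]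
    exact (Nat.Prime.coprime_iff_not_dvd hpp).mp
      (Cfsg.Agent.Lib.Helper14.pPrimeCore_coprime p).symm
  have hMn' := hMn
  have hfr := Sylow.normalizer_sup_eq_top (hW₁p'.toSylow hidx)
  rw [IsPGroup.toSylow_coe, Subgroup.map_subgroupOf_eq_of_le hW₁M] at hfr
  rw [eq_top_iff, ← hfr, hM]
  exact sup_le le_sup_right (sup_le (le_sup_of_le_right Subgroup.le_normalizer) le_sup_left)

end Cfsg.Agent.S0627
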