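import Cfsg.Statements.S0629
import Cfsg.Agent.Lib.Helper6.PSolv3

set_option autoImplicit false
open Cfsg

namespace Cfsg.Agent.S0629

open Cfsg.Agent.Lib.Helper6 Cfsg.Agent.Lib.Helper14

universe u

/-- The abstract core of the argument: `K = O_{p',p}(G)`, `N = O_{p'}(G)`, `P₀` a Sylow
`p`-subgroup of `K` with `p`-solvable centralizer. -/
theorem main {G : Type u} [Group G] [Finite G] {p : ℕ} [hp : Fact p.Prime]
    (N K P₀ : Subgroup G) [hNn : N.Normal] [hKn : K.Normal]
    (hNO : pPrimeCore p (G ⧸ N) = ⊥)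
    (hK : ∀ x, x ∈ K ↔ (QuotientGroup.mk' N x) ∈ pCore p (G ⧸ N))
    (hNK : N ≤ K)
    (hKP : K = N ⊔ P₀)
    (hFr : Subgroup.normalizer (P₀ : Set G) ⊔ N = ⊤)
    (hOK : pCore p (G ⧸ K) = ⊥)
    (hsol : IsPSolvable p ↥(Subgroup.centralizer (P₀ : Set G))) :
    Subgroup.centralizer (P₀ : Set G) ≤ K := by
  classical
  have hp' := hp.out
  have hπs : Function.Surjective (QuotientGroup.mk' K) := QuotientGroup.mk'_surjective K
  have hπ₁s : Function.Surjective (QuotientGroup.mk' N) := QuotientGroup.mk'_surjective N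
  have hCnorm : ∀ n ∈ Subgroup.normalizer (P₀ : Set G),
      ∀ c ∈ Subgroup.centralizer (P₀ : Set G),
        n * c * n⁻¹ ∈ Subgroup.centralizer (P₀ : Set G) := by
    intro n hn c hc
    refine Subgroup.mem_centralizer_iff.mpr ?_
    intro y hy
    have hy' : n⁻¹ * y * n ∈ P₀ := by
      have := (Subgroup.mem_normalizer_iff.mp (Subgroup.inv_mem _ hn) y).mp hy
      simpa using this
    have h1 := (Subgroup.mem_centralizer_iff.mp hc) _ hy'
    calc y * (n * c * n⁻¹) = n * ((n⁻¹ * y * n) * c) * n⁻¹ := by group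
      _ = n * (c * (n⁻¹ * y * n)) * n⁻¹ := by rw [h1]
      _ = n * c * n⁻¹ * y := by group
  have hdecomp : ∀ g : G, ∃ n ∈ Subgroup.normalizer (P₀ : Set G), ∃ m ∈ N, n * m = g := by
    intro g
    have : g ∈ Subgroup.normalizer (P₀ : Set G) ⊔ N := by rw [hFr]; trivial
    exact Subgroup.mem_sup_of_normal_right.mp this
  have hCbn : ((Subgroup.centralizer (P₀ : Set G)).map (QuotientGroup.mk' K)).Normal := by
    constructor
    rintro x ⟨c, hc, rfl⟩ gb
    obtain ⟨g, rfl⟩ := hπs gb
    obtain ⟨n, hn, m, hm, rfl⟩ := hdecomp g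
    have hmK : (QuotientGroup.mk' K) m = 1 := (QuotientGroup.eq_one_iff m).mpr (hNK hm)
    refine ⟨n * c * n⁻¹, hCnorm n hn c hc, ?_⟩
    simp only [map_mul, map_inv, hmK, mul_one]
  have hsolCb : IsPSolvable p
      ↥((Subgroup.centralizer (P₀ : Set G)).map (QuotientGroup.mk' K)) :=
    isPSolvable_of_surjective hp' ((QuotientGroup.mk' K).subgroupMap _)
      (MonoidHom.subgroupMap_surjective _ _) hsol
  have hcoreP : pCore p ↥((Subgroup.centralizer (P₀ : Set G)).map (QuotientGroup.mk' K)) = ⊥ := by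
    have h1 := pCore_map_subtype_normal (p := p)
      ((Subgroup.centralizer (P₀ : Set G)).map (QuotientGroup.mk' K))
    have h2 : IsPGroup p ((pCore p
        ↥((Subgroup.centralizer (P₀ : Set G)).map (QuotientGroup.mk' K))).map
          (Subgroup.subtype _)) := (pCore_isPGroup p).map _
    have h3 := le_pCore p h1 h2
    rw [hOK, le_bot_iff] at h3
    exact (Subgroup.map_eq_bot_iff_of_injective _ (Subgroup.subtype_injective _)).mp h3
  have hcoreP' : pPrimeCore p
      ↥((Subgroup.centralizer (P₀ : Set G)).map (QuotientGroup.mk' K)) = ⊥ := by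
    have hMn := pPrimeCore_map_subtype_normal (p := p)
      ((Subgroup.centralizer (P₀ : Set G)).map (QuotientGroup.mk' K))
    obtain ⟨Mb, hMbdef⟩ : ∃ Mb : Subgroup (G ⧸ K), Mb = (pPrimeCore p
        ↥((Subgroup.centralizer (P₀ : Set G)).map (QuotientGroup.mk' K))).map
          (Subgroup.subtype _) := ⟨_, rfl⟩
    rw [← hMbdef] at hMn
    have hMc : (Nat.card Mb).Coprime p := by
      rw [hMbdef, Subgroup.card_map_of_injective (Subgroup.subtype_injective _)]
      exact pPrimeCore_coprime p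
    have hMle : Mb ≤ (Subgroup.centralizer (P₀ : Set G)).map (QuotientGroup.mk' K) := by
      rw [hMbdef]
      exact Subgroup.map_subtype_le _
    have hDK : Subgroup.centralizer (P₀ : Set G) ⊓ Mb.comap (QuotientGroup.mk' K) ≤ K := by
      have hD₁n : ((Subgroup.centralizer (P₀ : Set G) ⊓ Mb.comap (QuotientGroup.mk' K)).map
          (QuotientGroup.mk' N)).Normal := by
        constructor
        rintro x ⟨d, hd, rfl⟩ gb
        obtain ⟨g, rfl⟩ := hπ₁s gb
        obtain ⟨n, hn, m, hm, rfl⟩ := hdecomp g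
        have hmN : (QuotientGroup.mk' N) m = 1 := (QuotientGroup.eq_one_iff m).mpr hm
        refine ⟨n * d * n⁻¹, ⟨hCnorm n hn d hd.1, ?_⟩, ?_⟩
        · have hcn : (Mb.comap (QuotientGroup.mk' K)).Normal := inferInstance
          exact hcn.conj_mem d hd.2 n
        · simp only [map_mul, map_inv, hmN, mul_one]
      have hpc : pCore p (G ⧸ N) = K.map (QuotientGroup.mk' N) := by
        ext y
        constructor
        · intro hy
          obtain ⟨k, rfl⟩ := hπ₁s y
          exact ⟨k, (hK k).mpr hy, rfl⟩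
        · rintro ⟨k, hk, rfl⟩
          exact (hK k).mp hk
      have hcen : (Subgroup.centralizer (P₀ : Set G) ⊓ Mb.comap (QuotientGroup.mk' K)).map
          (QuotientGroup.mk' N) ≤ Subgroup.centralizer (pCore p (G ⧸ N) : Set (G ⧸ N)) := by
        rintro x ⟨d, hd, rfl⟩
        refine Subgroup.mem_centralizer_iff.mpr ?_
        intro y hy
        rw [SetLike.mem_coe, hpc] at hy
        obtain ⟨k, hk, rfl⟩ := hy
        rw [hKP] at hk
        obtain ⟨m, hm, y₀, hy₀, rfl⟩ := Subgroup.mem_sup_of_normal_left.mp hk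
        have hmN : (QuotientGroup.mk' N) m = 1 := (QuotientGroup.eq_one_iff m).mpr hm
        have hcomm := (Subgroup.mem_centralizer_iff.mp hd.1) y₀ hy₀
        rw [map_mul, hmN, one_mul, ← map_mul, ← map_mul, hcomm]
      have hidx : ¬ p ∣ (pCore p (G ⧸ N)).relIndex
          ((Subgroup.centralizer (P₀ : Set G) ⊓ Mb.comap (QuotientGroup.mk' K)).map
            (QuotientGroup.mk' N)) := by
        rw [hpc, Subgroup.relIndex_map_map, QuotientGroup.ker_mk', sup_eq_left.mpr hNK]
        have h1 : K.relIndex ((Subgroup.centralizer (P₀ : Set G) ⊓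
            Mb.comap (QuotientGroup.mk' K)) ⊔ N) ∣ K.relIndex ((Subgroup.centralizer (P₀ : Set G) ⊓
            Mb.comap (QuotientGroup.mk' K)) ⊔ K) :=
          relIndex_dvd_of_le_right' K _ _ (sup_le_sup_left hNK _)
        rw [Subgroup.relIndex_sup_right] at h1
        have h2 : K.relIndex (Subgroup.centralizer (P₀ : Set G) ⊓
            Mb.comap (QuotientGroup.mk' K)) = Nat.card ((Subgroup.centralizer (P₀ : Set G) ⊓
            Mb.comap (QuotientGroup.mk' K)).map (QuotientGroup.mk' K)) := by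
          have := Subgroup.relIndex_ker (QuotientGroup.mk' K)
            (K := Subgroup.centralizer (P₀ : Set G) ⊓ Mb.comap (QuotientGroup.mk' K))
          rw [QuotientGroup.ker_mk'] at this
          exact this
        have h3 : (Subgroup.centralizer (P₀ : Set G) ⊓
            Mb.comap (QuotientGroup.mk' K)).map (QuotientGroup.mk' K) ≤ Mb := by
          rintro y ⟨d, hd, rfl⟩
          exact hd.2
        have h4 := Subgroup.card_dvd_of_le h3
        rw [← h2] at h4
        intro hdvd
        have h5 : p ∣ Nat.card Mb := hdvd.trans (h1.trans h4)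
        exact (Nat.Prime.coprime_iff_not_dvd hp').mp hMc.symm h5
      have hle := le_pCore_of_centralizes hNO _ hcen hidx
      intro d hd
      exact (hK d).mpr (hle (Subgroup.mem_map_of_mem _ hd))
    have hMbot : Mb = ⊥ := by
      rw [eq_bot_iff]
      intro y hy
      obtain ⟨c, hc, rfl⟩ := hMle hy
      have hcD : c ∈ Subgroup.centralizer (P₀ : Set G) ⊓ Mb.comap (QuotientGroup.mk' K) :=
        ⟨hc, hy⟩
      rw [Subgroup.mem_bot]
      exact (QuotientGroup.eq_one_iff c).mpr (hDK hcD)
    rw [hMbdef] at hMbot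
    exact (Subgroup.map_eq_bot_iff_of_injective _ (Subgroup.subtype_injective _)).mp hMbot
  by_contra hcon
  have htop : (⊤ : Subgroup
      ↥((Subgroup.centralizer (P₀ : Set G)).map (QuotientGroup.mk' K))) ≠ ⊥ := by
    intro h
    apply hcon
    intro c hc
    have h1 : (⟨QuotientGroup.mk' K c, Subgroup.mem_map_of_mem _ hc⟩ :
        ↥((Subgroup.centralizer (P₀ : Set G)).map (QuotientGroup.mk' K))) ∈
          (⊤ : Subgroup _) := Subgroup.mem_top _
    rw [h, Subgroup.mem_bot] at h1
    have h2 := congrArg Subtype.val h1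
    exact (QuotientGroup.eq_one_iff c).mp h2
  obtain ⟨M, -, hMn, hMne, hM⟩ := exists_normal_p_or_p' hp' hsolCb ⊤ htop
  rcases hM with hM | hM
  · have := le_pCore p hMn hM
    rw [hcoreP] at this
    exact hMne (le_bot_iff.mp this)
  · have := le_pPrimeCore p hMn hM
    rw [hcoreP'] at this
    exact hMne (le_bot_iff.mp this)

/-- A group in which the centralizer of a Sylow p-subgroup of O_{p',p}(G) is p-solvable is p-constrained. -/
theorem result {G : Type*} [Group G] [Finite G] {p : ℕ} [Fact p.Prime] (P : Sylow p ↥(Cfsg.pPrimePCore p G)) (hsol : Cfsg.IsPSolvable p ↥(Subgroup.centralizer (((P : Subgroup ↥(Cfsg.pPrimePCore p G)).map (Cfsg.pPrimePCore p G).subtype : Subgroup G) : Set G))) : Cfsg.IsPConstrained p G := by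
  intro Q
  have hKn : (pPrimePCore p G).Normal := pPrimePCore_normal
  obtain ⟨k, rfl⟩ := MulAction.exists_smul_eq ↥(pPrimePCore p G) P Q
  have hmain := main (pPrimeCore p G) (pPrimePCore p G)
    ((P : Subgroup ↥(pPrimePCore p G)).map (pPrimePCore p G).subtype)
    pPrimeCore_quotient_pPrimeCore_eq_bot (fun x => Iff.rfl) (pPrimeCore_le_pPrimePCore p)
    (pPrimePCore_eq_sup P) (normalizer_sup_pPrimeCore_eq_top P)
    (pCore_quotient_comap_eq_bot _ _ rfl) hsol
  intro x hx
  have h1 : ((k : ↥(pPrimePCore p G)) : G)⁻¹ * x * (k : G) ∈ Subgroup.centralizer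
      (((P : Subgroup ↥(pPrimePCore p G)).map (pPrimePCore p G).subtype : Subgroup G) : Set G) := by
    refine Subgroup.mem_centralizer_iff.mpr ?_
    rintro y ⟨y', hy', rfl⟩
    have h2 : (k : G) * (y' : G) * (k : G)⁻¹ ∈
        ((((k • P : Sylow p ↥(pPrimePCore p G)) : Subgroup ↥(pPrimePCore p G)).map
          (pPrimePCore p G).subtype : Subgroup G) : Set G) := by
      refine ⟨k * y' * k⁻¹, ?_, rfl⟩
      rw [SetLike.mem_coe, Sylow.coe_subgroup_smul]
      have := Subgroup.smul_mem_pointwise_smul y' (MulAut.conj k)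
        (P : Subgroup ↥(pPrimePCore p G)) hy'
      rwa [MulAut.smul_def, MulAut.conj_apply] at this
    have h3 := (Subgroup.mem_centralizer_iff.mp hx) _ h2
    show (y' : G) * ((k : G)⁻¹ * x * (k : G)) = (k : G)⁻¹ * x * (k : G) * (y' : G)
    calc (y' : G) * ((k : G)⁻¹ * x * (k : G))
        = (k : G)⁻¹ * (((k : G) * (y' : G) * (k : G)⁻¹) * x) * (k : G) := by group
      _ = (k : G)⁻¹ * (x * ((k : G) * (y' : G) * (k : G)⁻¹)) * (k : G) := by rw [h3]
      _ = _ := by group
  have h4 := hmain h1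
  have h5 := hKn.conj_mem _ h4 (k : G)
  have e : (k : G) * ((k : G)⁻¹ * x * (k : G)) * (k : G)⁻¹ = x := by group
  rw [e] at h5
  exact h5

end Cfsg.Agent.S0629
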