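import Cfsg.Statements.S0647
import Cfsg.Agent.Lib.Helper6.Basic

set_option autoImplicit false
open Pointwise
open Cfsg

namespace Cfsg.Agent.S0647

/-- For a nonempty family of maximal abelian subgroups of a finite group, the intersection of the family is the centre of the subgroup it generates, which is also the full centralizer of that subgroup. -/
theorem result {S : Type*} [Group S] [Finite S] (𝒜 : Set (Subgroup S)) (hne : 𝒜.Nonempty) (hab : ∀ A ∈ 𝒜, IsMulCommutative A) (hmax : ∀ A ∈ 𝒜, ∀ B : Subgroup S, IsMulCommutative B → A ≤ B → B = A) : sInf 𝒜 = sSup 𝒜 ⊓ Subgroup.centralizer ((sSup 𝒜 : Subgroup S) : Set S) ∧ sInf 𝒜 = Subgroup.centralizer ((sSup 𝒜 : Subgroup S) : Set S) := by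
  obtain ⟨A₀, hA₀⟩ := hne
  -- centralizer of the join is contained in every member
  have h1 : Subgroup.centralizer ((sSup 𝒜 : Subgroup S) : Set S) ≤ sInf 𝒜 := by
    intro x hx
    rw [Subgroup.mem_sInf]
    intro A hA
    have hxA : ∀ a ∈ A, a * x = x * a := fun a ha =>
      (Subgroup.mem_centralizer_iff.mp hx a (le_sSup hA ha))
    have hc := Cfsg.Agent.Lib.Helper6.isMulCommutative_sup_zpowers A (hab A hA) x hxA
    have := hmax A hA _ hc le_sup_left
    have hx' : x ∈ A ⊔ Subgroup.zpowers x := (le_sup_right : Subgroup.zpowers x ≤ _) (Subgroup.mem_zpowers x)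
    rw [this] at hx'
    exact hx'
  have h2 : sInf 𝒜 ≤ Subgroup.centralizer ((sSup 𝒜 : Subgroup S) : Set S) := by
    intro x hx
    rw [Subgroup.mem_sInf] at hx
    have : sSup 𝒜 ≤ Subgroup.centralizer ({x} : Set S) := by
      apply sSup_le
      intro A hA a ha
      rw [Subgroup.mem_centralizer_iff]
      intro y hy
      rw [Set.mem_singleton_iff] at hy
      subst hy
      have := hab A hA
      exact setLike_mul_comm (hx A hA) ha
    rw [Subgroup.mem_centralizer_iff]
    intro y hy
    have := this hy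
    rw [Subgroup.mem_centralizer_iff] at this
    exact (this x rfl).symm
  have h3 : sInf 𝒜 ≤ sSup 𝒜 := (sInf_le hA₀).trans (le_sSup hA₀)
  have h4 : sInf 𝒜 = Subgroup.centralizer ((sSup 𝒜 : Subgroup S) : Set S) := le_antisymm h2 h1
  refine ⟨?_, h4⟩
  apply le_antisymm
  · exact le_inf h3 h2
  · exact inf_le_right.trans h1

end Cfsg.Agent.S0647
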