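import Cfsg.Statements.S0652
import Cfsg.Agent.S0651

set_option autoImplicit false
open Cfsg

namespace Cfsg.Agent.S0652

/-- For odd p and D normal in the p-group S, the elementary abelian subgroups of D of largest order satisfy the replacement property for class-2 normal subgroups of S. -/
theorem result {S : Type*} [Group S] [Finite S] {p : ℕ} [Fact p.Prime] (hS : IsPGroup p S) (hp : p ≠ 2) (D : Subgroup S) [D.Normal] : ∀ (B : Subgroup S) [B.Normal], ⁅⁅B, B⁆, B⁆ = ⊥ → (∃ U ∈ (Set.image (fun A : Subgroup ↥D => A.map D.subtype) (Cfsg.maxElementaryAbelianSubgroups p ↥D)), ⁅B, B⁆ ≤ U ∧ ¬ B ≤ U) → ∃ A ∈ (Set.image (fun A : Subgroup ↥D => A.map D.subtype) (Cfsg.maxElementaryAbelianSubgroups p ↥D)), ⁅B, B⁆ ≤ A ∧ ¬ B ≤ A ∧ B ≤ Subgroup.normalizer (A : Set S) := by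
  intro B _ _ hU
  apply Cfsg.Agent.S0651.replace_family hS hp D _ ?_ ?_ ?_ B hU
  · rintro _ ⟨A₀, hA₀, rfl⟩
    have := hA₀.1.1
    infer_instance
  · rintro _ ⟨A₀, hA₀, rfl⟩
    exact Subgroup.map_subtype_le A₀
  · rintro _ ⟨A₀, hA₀, rfl⟩ A' hA'D hA'c hcard hexp
    have hexpA : Monoid.exponent ↥(A₀.map D.subtype) ∣ p := by
      apply Monoid.exponent_dvd_of_forall_pow_eq_one
      rintro ⟨_, ⟨a, ha, rfl⟩⟩
      apply Subtype.ext
      have h := hA₀.1.2 a ha
      have h' := congrArg Subtype.val h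
      simpa using h'
    have hA'p : ∀ x ∈ A', x ^ p = 1 := by
      intro x hx
      have h := Monoid.exponent_dvd_iff_forall_pow_eq_one.mp (hexp.trans hexpA) (⟨x, hx⟩ : A')
      have h' := congrArg Subtype.val h
      simpa using h'
    refine ⟨A'.subgroupOf D, ⟨⟨inferInstance, ?_⟩, ?_⟩, Subgroup.map_subgroupOf_eq_of_le hA'D⟩
    · intro a ha
      apply Subtype.ext
      have := hA'p a.1 (Subgroup.mem_subgroupOf.mp ha)
      simpa using this
    · intro B₀ hB₀
      have h1 := hA₀.2 B₀ hB₀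
      have h2 : Nat.card (A'.subgroupOf D) = Nat.card A' :=
        Nat.card_congr (Subgroup.subgroupOfEquivOfLe hA'D).toEquiv
      have h3 : Nat.card (A₀.map D.subtype) = Nat.card A₀ := Subgroup.card_subtype D A₀
      rw [h2, hcard, h3]
      exact h1

end Cfsg.Agent.S0652
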