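import Cfsg.Statements.S0654
import Cfsg.Agent.Lib.Helper6.ZJFam

set_option autoImplicit false
open Cfsg

namespace Cfsg.Agent.S0654

/-- The ZJ-Theorem for the elementary-abelian Thompson subgroup: for an odd prime p, a finite group G with C_G(O_p(G)) ≤ O_p(G) acting p-stably on its normal p-subgroups, and a Sylow p-subgroup S of G, the subgroup generated by the elements of order dividing p in Z(J_e(S)) is characteristic in G. -/
theorem result {G : Type*} [Group G] [Finite G] {p : ℕ} [Fact p.Prime] (hp : p ≠ 2) (hc : Subgroup.centralizer (Cfsg.pCore p G : Set G) ≤ Cfsg.pCore p G) (hst : ∀ (P : Subgroup G) [P.Normal], IsPGroup p P → Cfsg.IsPStableOn p P) (S : Sylow p G) : ((Cfsg.omegaCenterThompson p ↥(S : Subgroup G)).map (S : Subgroup G).subtype).Characteristic := by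
  rw [Cfsg.Agent.Lib.Helper6.omegaCenterThompson_eq_sInf,
    Cfsg.Agent.Lib.Helper6.map_sInf_famX_top]
  exact Cfsg.Agent.Lib.Helper6.zj_characteristic (Cfsg.Agent.Lib.Helper6.famX p)
    (Cfsg.Agent.Lib.Helper6.famX_comm p) (Cfsg.Agent.Lib.Helper6.famX_le p)
    (fun φ P A h => Cfsg.Agent.Lib.Helper6.famX_aut p φ P A h)
    (Cfsg.Agent.Lib.Helper6.famX_mono p)
    (fun P B hP hBn hBP A hA hBA hnot =>
      Cfsg.Agent.Lib.Helper6.famX_repl hp p P B hP hBn hBP A hA hBA hnot)
    (fun V _ hV a _ hq => hst V hV a hq) hc S (Cfsg.Agent.Lib.Helper6.famX_nonempty p _)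

end Cfsg.Agent.S0654
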