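import Cfsg.Statements.S0655
import Cfsg.Agent.Lib.Helper6.Thompson

set_option autoImplicit false
open Cfsg

namespace Cfsg.Agent.S0655

theorem mem_of_centralizes {G : Type*} [Group G] [Finite G] {p : ℕ} {A : Subgroup G}
    (hA : A ∈ Cfsg.maxElementaryAbelianSubgroups p G) {x : G} (hxp : x ^ p = 1)
    (hx : ∀ a ∈ A, a * x = x * a) : x ∈ A := by
  have hcomm : ∀ a ∈ A, ∀ b ∈ Subgroup.zpowers x, a * b = b * a := by
    intro a ha b hb
    obtain ⟨k, rfl⟩ := Subgroup.mem_zpowers_iff.mp hb
    have h2 : Commute x a := (hx a ha).symm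
    exact (h2.zpow_left k).eq.symm
  have hE := Cfsg.Agent.Lib.Helper6.ea_sup hA.1
    (Cfsg.Agent.Lib.Helper6.isElementaryAbelian_zpowers x hxp) hcomm
  have hcard := hA.2 _ hE
  have heq : A = A ⊔ Subgroup.zpowers x := Subgroup.eq_of_le_of_card_ge le_sup_left hcard
  rw [heq]
  exact (le_sup_right : Subgroup.zpowers x ≤ _) (Subgroup.mem_zpowers x)

/-- In a p-group the intersection of all elementary abelian subgroups of largest order is the subgroup generated by the elements of order dividing p in the centre (equivalently the centralizer) of the elementary-version Thompson subgroup. -/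
theorem result {S : Type*} [Group S] [Finite S] {p : ℕ} [Fact p.Prime] (hS : IsPGroup p S) : sInf (Cfsg.maxElementaryAbelianSubgroups p S) = Cfsg.omegaCenterThompson p S ∧ Cfsg.omegaCenterThompson p S = Cfsg.omegaOne p (Subgroup.centralizer (Cfsg.thompsonSubgroup p S : Set S)) := by
  obtain ⟨A₀, hA₀⟩ := Cfsg.Agent.Lib.Helper6.maxElementaryAbelianSubgroups_nonempty (G := S) p
  have key : ∀ x : S, x ^ p = 1 → x ∈ Subgroup.centralizer (Cfsg.thompsonSubgroup p S : Set S) →
      ∀ A ∈ Cfsg.maxElementaryAbelianSubgroups p S, x ∈ A := by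
    intro x hxp hx A hA
    exact mem_of_centralizes hA hxp (fun a ha =>
      (Subgroup.mem_centralizer_iff.mp hx a (Cfsg.Agent.Lib.Helper6.le_thompsonSubgroup hA ha)))
  have h1 : sInf (Cfsg.maxElementaryAbelianSubgroups p S) = Cfsg.omegaCenterThompson p S := by
    apply le_antisymm
    · intro x hx
      rw [Subgroup.mem_sInf] at hx
      apply Subgroup.subset_closure
      refine ⟨⟨Cfsg.Agent.Lib.Helper6.le_thompsonSubgroup hA₀ (hx A₀ hA₀), ?_⟩, hA₀.1.2 x (hx A₀ hA₀)⟩
      show x ∈ Subgroup.centralizer (Cfsg.thompsonSubgroup p S : Set S)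
      have : Cfsg.thompsonSubgroup p S ≤ Subgroup.centralizer ({x} : Set S) := by
        apply sSup_le
        intro A hA a ha
        rw [Subgroup.mem_centralizer_iff]
        intro y hy
        rw [Set.mem_singleton_iff] at hy
        subst hy
        have := hA.1.1
        exact setLike_mul_comm (hx A hA) ha
      rw [Subgroup.mem_centralizer_iff]
      intro y hy
      have h2 := this hy
      rw [Subgroup.mem_centralizer_iff] at h2
      exact (h2 x rfl).symm
    · unfold Cfsg.omegaCenterThompson Cfsg.omegaOne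
      rw [Subgroup.closure_le]
      rintro x ⟨hx1, hx2⟩
      show x ∈ sInf (Cfsg.maxElementaryAbelianSubgroups p S)
      rw [Subgroup.mem_sInf]
      exact key x hx2 hx1.2
  refine ⟨h1, ?_⟩
  unfold Cfsg.omegaCenterThompson Cfsg.omegaOne
  apply le_antisymm
  · apply Subgroup.closure_mono
    rintro x ⟨hx1, hx2⟩
    exact ⟨hx1.2, hx2⟩
  · apply Subgroup.closure_mono
    rintro x ⟨hx1, hx2⟩
    exact ⟨⟨Cfsg.Agent.Lib.Helper6.le_thompsonSubgroup hA₀ (key x hx2 hx1 A₀ hA₀), hx1⟩, hx2⟩

end Cfsg.Agent.S0655
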