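import Mathlib
import Cfsg.Statements.S0804
import Cfsg.Agent.S0803
import Cfsg.Agent.Lib.Helper3.Simple60
import Cfsg.Agent.Lib.Helper3.IndexTwo
import Cfsg.Agent.Lib.Helper2.CharBurnside

set_option autoImplicit false
open Cfsg

namespace Cfsg.Agent.S0804

open Cfsg.Agent.Lib.Helper15 Cfsg.Agent.Lib.Helper16

/-! ### The icosian coordinates -/

/-- Coordinates with respect to `1, X, Y, XY` over `ℤ[τ]`. -/
abbrev Ico := (ℤ × ℤ) × (ℤ × ℤ) × (ℤ × ℤ) × (ℤ × ℤ)

/-- Multiplication by `τ` on `ℤ[τ]`. -/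
def mulTau (p : ℤ × ℤ) : ℤ × ℤ := (p.2, p.1 + p.2)

/-- Right multiplication by `X`. -/
def RX (u : Ico) : Ico :=
  (-u.2.1 + mulTau u.2.2.1 + u.2.2.2, u.1 - u.2.2.1 + mulTau u.2.2.2, u.2.2.2, -u.2.2.1)

/-- Right multiplication by `Y`. -/
def RY (u : Ico) : Ico :=
  (-u.2.2.1, -u.2.2.2, u.1 - u.2.2.1, u.2.1 - u.2.2.2)

/-- Sixty representatives of the icosians modulo sign. -/
def icoList : List Ico := [
  ((1, 0), (0, 0), (0, 0), (0, 0)), ((0, 0), (1, 0), (0, 0), (0, 0)), ((0, 0), (0, 0), (1, 0), (0, 0)),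
  ((0, 0), (0, 0), (0, 0), (1, 0)), ((0, 1), (-1, 0), (0, 0), (-1, 0)), ((-1, 0), (0, 0), (-1, 0), (0, 0)),
  ((1, 0), (0, 1), (1, 0), (0, 0)), ((0, 0), (-1, 0), (0, 0), (-1, 0)), ((0, 0), (1, 0), (0, 1), (0, 0)),
  ((0, -1), (0, 0), (0, 0), (1, 0)), ((-1, 0), (0, 0), (0, 0), (0, 1)), ((0, 0), (0, -1), (-1, 0), (0, 0)),
  ((0, 1), (0, -1), (0, 0), (0, -1)), ((0, -1), (0, 0), (0, -1), (1, 0)), ((0, 0), (-1, 0), (0, -1), (-1, 0)),
  ((0, 1), (0, 1), (0, 1), (0, 0)), ((0, 0), (0, -1), (-1, 0), (0, -1)), ((1, 0), (0, 0), (1, 0), (0, -1)),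
  ((0, 0), (0, 1), (0, 1), (0, 0)), ((0, -1), (0, 1), (1, 0), (0, 1)), ((-1, -1), (0, 0), (-1, 0), (0, 1)),
  ((0, 1), (1, 0), (0, 1), (0, 0)), ((0, -1), (0, 0), (0, 0), (0, 1)), ((0, -1), (0, -1), (0, -1), (1, 0)),
  ((0, 0), (-1, -1), (0, -1), (-1, 0)), ((-1, 0), (0, 1), (0, 0), (0, 1)), ((0, -1), (0, 0), (0, -1), (0, 1)),
  ((-1, 0), (0, -1), (-1, -1), (0, 0)), ((1, 0), (0, -1), (0, -1), (0, -1)), ((0, 0), (0, -1), (0, -1), (0, -1)),
  ((0, 1), (-1, 0), (0, 0), (-1, -1)), ((0, 1), (1, 0), (0, 1), (0, -1)), ((-1, 0), (1, 1), (0, 1), (0, 1)),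
  ((-1, -1), (0, 1), (0, 0), (1, 1)), ((1, 1), (0, 0), (0, 1), (0, -1)), ((0, 1), (0, 1), (1, 1), (0, 0)),
  ((-1, -1), (-1, 0), (0, -1), (0, 1)), ((0, -1), (-1, -1), (-1, -1), (0, 0)), ((0, 0), (1, 1), (0, 1), (0, 1)),
  ((0, -1), (0, 1), (0, 0), (1, 1)), ((0, -1), (0, -1), (-1, -1), (1, 0)), ((0, 0), (-1, -1), (-1, -1), (-1, 0)),
  ((1, 1), (-1, 0), (0, 0), (-1, -1)), ((0, 1), (0, -1), (-1, 0), (-1, -1)), ((1, 1), (0, 0), (1, 0), (-1, -1)),
  ((1, 0), (1, 1), (1, 1), (0, 0)), ((0, -1), (1, 1), (1, 0), (1, 1)), ((1, 1), (-1, 0), (1, 0), (-1, -1)),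
  ((1, 1), (1, 0), (1, 1), (0, -1)), ((0, 0), (1, 1), (1, 1), (0, 1)), ((-1, -1), (0, -1), (-1, -1), (1, 0)),
  ((1, 0), (1, 1), (1, 1), (1, 0)), ((-1, 0), (1, 1), (0, 1), (1, 1)), ((-1, -1), (0, 0), (0, -1), (1, 1)),
  ((0, 1), (-1, -1), (0, -1), (-1, -1)), ((0, 2), (0, 0), (0, 1), (-1, -1)), ((1, 1), (0, 1), (1, 1), (0, -1)),
  ((0, 0), (0, 2), (1, 1), (0, 1)), ((0, 1), (1, 1), (0, 2), (0, 0)), ((-1, -1), (0, 1), (0, 0), (0, 2))
  ]

theorem ico_length : icoList.length = 60 := by decide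

set_option maxRecDepth 100000 in
theorem ico_closedX : ∀ u ∈ icoList, RX u ∈ icoList ∨ -RX u ∈ icoList := by
  decide +kernel

set_option maxRecDepth 100000 in
theorem ico_closedY : ∀ u ∈ icoList, RY u ∈ icoList ∨ -RY u ∈ icoList := by
  decide +kernel

theorem ico_five :
    RY (RX (RY (RX (RY (RX (RY (RX (RY (RX
      (((1, 0), (0, 0), (0, 0), (0, 0)) : Ico)))))))))) = -(((1, 0), (0, 0), (0, 0), (0, 0)) : Ico) := by
  decide +kernel

/-! ### Evaluation of coordinates in matrices -/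

section ev

variable {F : Type*} [Field F] (τ : F) (X Y : Matrix (Fin 2) (Fin 2) F)

/-- The image of `a + b τ` in the field. -/
def cf (p : ℤ × ℤ) : F := (p.1 : F) + (p.2 : F) * τ

/-- Evaluation of coordinates. -/
def ev (u : Ico) : Matrix (Fin 2) (Fin 2) F :=
  cf τ u.1 • (1 : Matrix (Fin 2) (Fin 2) F) + cf τ u.2.1 • X + cf τ u.2.2.1 • Y
    + cf τ u.2.2.2 • (X * Y)

theorem cf_add (p q : ℤ × ℤ) : cf τ (p + q) = cf τ p + cf τ q := by
  unfold cf
  rw [Prod.fst_add, Prod.snd_add]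
  push_cast
  ring

theorem cf_neg (p : ℤ × ℤ) : cf τ (-p) = -cf τ p := by
  unfold cf
  rw [Prod.fst_neg, Prod.snd_neg]
  push_cast
  ring

theorem cf_sub (p q : ℤ × ℤ) : cf τ (p - q) = cf τ p - cf τ q := by
  unfold cf
  rw [Prod.fst_sub, Prod.snd_sub]
  push_cast
  ring

theorem cf_mulTau (hτ : τ ^ 2 = τ + 1) (p : ℤ × ℤ) : cf τ (mulTau p) = cf τ p * τ := by
  unfold cf mulTau
  push_cast
  linear_combination (-(p.2 : F)) * hτ

theorem ev_RX (hτ : τ ^ 2 = τ + 1) (hX : X * X = -1) (hYX : Y * X = τ • 1 - X - X * Y)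
    (u : Ico) : ev τ X Y (RX u) = ev τ X Y u * X := by
  have hXYX : X * Y * X = τ • X + 1 + Y := by
    rw [mul_assoc, hYX, mul_sub, mul_sub, mul_smul_comm, mul_one, ← mul_assoc, hX]
    rw [neg_one_mul]
    abel
  unfold ev RX
  simp only [cf_add, cf_neg, cf_sub, cf_mulTau τ hτ, add_mul, smul_mul_assoc, one_mul, hX, hYX,
    hXYX]
  module

theorem ev_RY (hY : Y * Y = -1 - Y) (u : Ico) : ev τ X Y (RY u) = ev τ X Y u * Y := by
  have hXYY : X * Y * Y = -X - X * Y := by
    rw [mul_assoc, hY, mul_sub, mul_neg, mul_one]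
  unfold ev RY
  simp only [cf_neg, cf_sub, add_mul, smul_mul_assoc, one_mul, hY, hXYY]
  module

theorem ev_neg (u : Ico) : ev τ X Y (-u) = -ev τ X Y u := by
  unfold ev
  simp only [Prod.fst_neg, Prod.snd_neg, cf_neg]
  module

theorem ev_one : ev τ X Y (((1, 0), (0, 0), (0, 0), (0, 0)) : Ico) = 1 := by
  unfold ev cf
  simp

end ev

/-! ### The bound on the order -/

section bound

variable {F : Type*} [Field F] [Fintype F]

theorem card_closure_le (τ : F) (hτ : τ ^ 2 = τ + 1) (X' Y' : Matrix.SpecialLinearGroup (Fin 2) F)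
    (hX : (X' : Matrix (Fin 2) (Fin 2) F) * (X' : Matrix (Fin 2) (Fin 2) F) = -1)
    (hY : (Y' : Matrix (Fin 2) (Fin 2) F) * (Y' : Matrix (Fin 2) (Fin 2) F)
      = -1 - (Y' : Matrix (Fin 2) (Fin 2) F))
    (hYX : (Y' : Matrix (Fin 2) (Fin 2) F) * (X' : Matrix (Fin 2) (Fin 2) F)
      = τ • 1 - (X' : Matrix (Fin 2) (Fin 2) F)
        - (X' : Matrix (Fin 2) (Fin 2) F) * (Y' : Matrix (Fin 2) (Fin 2) F)) :
    Nat.card (Subgroup.closure
      ({pslMk F X', pslMk F Y'} : Set (Matrix.ProjectiveSpecialLinearGroup (Fin 2) F))) ≤ 60 := by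
  classical
  obtain ⟨T, hT⟩ : ∃ T : Set (Matrix.ProjectiveSpecialLinearGroup (Fin 2) F),
      T = {g | ∃ u ∈ icoList, ∃ s : Matrix.SpecialLinearGroup (Fin 2) F, pslMk F s = g ∧
        ((s : Matrix (Fin 2) (Fin 2) F) = ev τ X'.1 Y'.1 u ∨
          (s : Matrix (Fin 2) (Fin 2) F) = -ev τ X'.1 Y'.1 u)} := ⟨_, rfl⟩
  have hTmul : ∀ g ∈ T, ∀ (Z' : Matrix.SpecialLinearGroup (Fin 2) F) (R : Ico → Ico),
      (∀ u, ev τ X'.1 Y'.1 (R u) = ev τ X'.1 Y'.1 u * (Z' : Matrix (Fin 2) (Fin 2) F)) →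
      (∀ u ∈ icoList, R u ∈ icoList ∨ -R u ∈ icoList) → g * pslMk F Z' ∈ T := by
    intro g hg Z' R hR hcl
    rw [hT] at hg ⊢
    obtain ⟨u, hu, s, rfl, hs⟩ := hg
    rcases hcl u hu with h | h
    · refine ⟨R u, h, s * Z', map_mul _ _ _, ?_⟩
      rw [Matrix.SpecialLinearGroup.coe_mul, hR]
      rcases hs with hs | hs
      · left; rw [hs]
      · right; rw [hs, neg_mul]
    · refine ⟨-R u, h, s * Z', map_mul _ _ _, ?_⟩
      rw [Matrix.SpecialLinearGroup.coe_mul, ev_neg, hR, neg_neg]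
      rcases hs with hs | hs
      · right; rw [hs]
      · left; rw [hs, neg_mul]
  have h1T : (1 : Matrix.ProjectiveSpecialLinearGroup (Fin 2) F) ∈ T := by
    rw [hT]
    exact ⟨((1, 0), (0, 0), (0, 0), (0, 0)), by decide, 1, map_one _,
      Or.inl (by rw [ev_one]; rfl)⟩
  have hsub : ((Subgroup.closure
      ({pslMk F X', pslMk F Y'} : Set (Matrix.ProjectiveSpecialLinearGroup (Fin 2) F)) :
        Subgroup (Matrix.ProjectiveSpecialLinearGroup (Fin 2) F)) :
        Set (Matrix.ProjectiveSpecialLinearGroup (Fin 2) F)) ⊆ T := by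
    intro g hg
    have hg' : g ∈ Submonoid.closure
        ({pslMk F X', pslMk F Y'} : Set (Matrix.ProjectiveSpecialLinearGroup (Fin 2) F)) := by
      rw [← Subgroup.closure_toSubmonoid_of_finite]
      exact hg
    clear hg
    have key : ∀ t ∈ T, t * g ∈ T := by
      induction hg' using Submonoid.closure_induction with
      | mem z hz =>
        intro t ht
        rcases hz with rfl | rfl
        · exact hTmul t ht X' RX (ev_RX τ X'.1 Y'.1 hτ hX hYX) ico_closedX
        · exact hTmul t ht Y' RY (ev_RY τ X'.1 Y'.1 hY) ico_closedY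
      | one =>
        intro t ht
        rwa [mul_one]
      | mul a b _ _ iha ihb =>
        intro t ht
        rw [← mul_assoc]
        exact ihb _ (iha t ht)
    have h := key 1 h1T
    rwa [one_mul] at h
  have hTcard : Nat.card T ≤ 60 := by
    have hchoose : ∀ g : T, ∃ i : Fin icoList.length,
        ∃ s : Matrix.SpecialLinearGroup (Fin 2) F, pslMk F s = g.1 ∧
        ((s : Matrix (Fin 2) (Fin 2) F) = ev τ X'.1 Y'.1 (icoList.get i) ∨
          (s : Matrix (Fin 2) (Fin 2) F) = -ev τ X'.1 Y'.1 (icoList.get i)) := by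
      rintro ⟨g, hg⟩
      rw [hT] at hg
      obtain ⟨u, hu, s, hs1, hs2⟩ := hg
      obtain ⟨i, hi⟩ := List.mem_iff_get.mp hu
      exact ⟨i, s, hs1, by rw [hi]; exact hs2⟩
    choose idx hidx using hchoose
    have hinj : Function.Injective idx := by
      intro g h hgh
      obtain ⟨s, hs1, hs2⟩ := hidx g
      obtain ⟨s', hs1', hs2'⟩ := hidx h
      rw [hgh] at hs2
      apply Subtype.ext
      rw [← hs1, ← hs1', pslMk_eq_iff]
      rcases hs2 with h1 | h1 <;> rcases hs2' with h2 | h2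
      · left
        apply Subtype.ext
        rw [h1, h2]
      · right
        apply Subtype.ext
        rw [Matrix.SpecialLinearGroup.coe_neg, h1, h2]
      · right
        apply Subtype.ext
        rw [Matrix.SpecialLinearGroup.coe_neg, h1, h2, neg_neg]
      · left
        apply Subtype.ext
        rw [h1, h2]
    have h := Nat.card_le_card_of_injective idx hinj
    have e : Nat.card (Fin icoList.length) = 60 := by
      rw [Nat.card_eq_fintype_card, Fintype.card_fin, ico_length]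
    rw [e] at h
    exact h
  exact (Nat.card_mono (Set.toFinite T) hsub).trans hTcard

end bound

/-! ### Recognition of the alternating group -/

section recog

theorem comm_trivial {A : Type*} [CommGroup A] (p r : A) (hp : p ^ 2 = 1) (hr : r ^ 3 = 1)
    (hpr : (p * r) ^ 5 = 1) : p = 1 ∧ r = 1 := by
  have e5 : p ^ 5 = p := by
    calc p ^ 5 = (p ^ 2) ^ 2 * p := by rw [← pow_mul, ← pow_succ]
      _ = p := by rw [hp, one_pow, one_mul]
  have r5 : r ^ 5 = r ^ 2 := by
    calc r ^ 5 = r ^ 3 * r ^ 2 := by rw [← pow_add]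
      _ = r ^ 2 := by rw [hr, one_mul]
  have h1 : p * r ^ 2 = 1 := by
    rw [mul_pow, e5, r5] at hpr
    exact hpr
  have h2 : p = r := by
    have h3 : p * r ^ 2 = r * r ^ 2 := by rw [h1, ← pow_succ', hr]
    exact mul_right_cancel h3
  subst h2
  have h4 : p = 1 := by
    have h5 := hr
    rw [pow_succ, hp, one_mul] at h5
    exact h5
  exact ⟨h4, h4⟩

theorem perfect_of_gens {G : Type*} [Group G] (x y : G) (hx2 : x ^ 2 = 1) (hy3 : y ^ 3 = 1)
    (hxy5 : (x * y) ^ 5 = 1) :
    commutator (Subgroup.closure ({x, y} : Set G)) = ⊤ := by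
  have hx : x ∈ Subgroup.closure ({x, y} : Set G) := Subgroup.subset_closure (by simp)
  have hy : y ∈ Subgroup.closure ({x, y} : Set G) := Subgroup.subset_closure (by simp)
  obtain ⟨hp, hr⟩ := comm_trivial
    (Abelianization.of (⟨x, hx⟩ : Subgroup.closure ({x, y} : Set G)))
    (Abelianization.of (⟨y, hy⟩ : Subgroup.closure ({x, y} : Set G)))
    (by
      rw [← map_pow]
      have : (⟨x, hx⟩ : Subgroup.closure ({x, y} : Set G)) ^ 2 = 1 := Subtype.ext hx2
      rw [this, map_one])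
    (by
      rw [← map_pow]
      have : (⟨y, hy⟩ : Subgroup.closure ({x, y} : Set G)) ^ 3 = 1 := Subtype.ext hy3
      rw [this, map_one])
    (by
      rw [← map_mul, ← map_pow]
      have : ((⟨x, hx⟩ : Subgroup.closure ({x, y} : Set G)) * ⟨y, hy⟩) ^ 5 = 1 :=
        Subtype.ext hxy5
      rw [this, map_one])
  have hf : (Abelianization.of : Subgroup.closure ({x, y} : Set G) →*
      Abelianization (Subgroup.closure ({x, y} : Set G))) = 1 := by
    apply MonoidHom.eq_of_eqOn_dense (Subgroup.closure_closure_coe_preimage (k := ({x, y} : Set G)))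
    intro h hh
    rcases hh with hh | hh
    · have e : h = ⟨x, hx⟩ := Subtype.ext hh
      rw [e]
      exact hp
    · have e : h = ⟨y, hy⟩ := Subtype.ext hh
      rw [e]
      exact hr
  rw [← Abelianization.ker_of (G := Subgroup.closure ({x, y} : Set G)), hf]
  exact MonoidHom.ker_one

theorem two_primes_of_dvd {p q a b n : ℕ} (hp : p.Prime) (hq : q.Prime) (hn : n ∣ p ^ a * q ^ b) :
    ∀ r : ℕ, r.Prime → r ∣ n → r = p ∨ r = q := by
  intro r hr hrn
  rcases (hr.dvd_mul).mp (hrn.trans hn) with h | h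
  · left
    exact (Nat.prime_dvd_prime_iff_eq hr hp).mp (hr.dvd_of_dvd_pow h)
  · right
    exact (Nat.prime_dvd_prime_iff_eq hr hq).mp (hr.dvd_of_dvd_pow h)

/-- A perfect finite group whose order properly divides `60` is trivial. -/
theorem perfect_small {Q : Type*} [Group Q] [Finite Q] (hperf : commutator Q = ⊤)
    (hdvd : Nat.card Q ∣ 60) (hlt : Nat.card Q < 60) : Nat.card Q = 1 := by
  by_contra hne
  have hpos : 0 < Nat.card Q := Nat.card_pos
  have hnt : Nontrivial Q := Finite.one_lt_card_iff_nontrivial.mp (by omega)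
  have hsolv_contra : Group.IsSolvable Q → False := by
    intro hs
    have h := Group.IsSolvable.commutator_lt_top_of_nontrivial Q
    rw [hperf] at h
    exact lt_irrefl _ h
  by_cases h30 : Nat.card Q = 30
  · have : Fact (Nat.Prime 2) := ⟨Nat.prime_two⟩
    obtain ⟨T⟩ : Nonempty (Sylow 2 Q) := inferInstance
    have hT2 : Nat.card (T : Subgroup Q) = 2 := by
      have h := Cfsg.Agent.Lib.Helper3.sylow_card_of T (k := 1) (m := 15)
        (by rw [h30]; norm_num) (by norm_num)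
      simpa using h
    have hcyc : IsCyclic (T : Subgroup Q) := isCyclic_of_prime_card (p := 2) hT2
    obtain ⟨M, hM⟩ := Cfsg.Agent.Lib.Helper3.exists_index_two_of_cyclic_sylow
      (by rw [h30]; decide) T hcyc
    have hMn : M.Normal := Subgroup.normal_of_index_eq_two hM
    have hcard2 : Nat.card (Q ⧸ M) = 2 := hM
    have hcycQ : IsCyclic (Q ⧸ M) := isCyclic_of_prime_card (p := 2) hcard2
    let _ : CommGroup (Q ⧸ M) := IsCyclic.commGroup
    have hle := Abelianization.commutator_subset_ker (QuotientGroup.mk' M)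
    rw [hperf, QuotientGroup.ker_mk'] at hle
    have hMtop : M = ⊤ := top_le_iff.mp hle
    rw [hMtop, Subgroup.index_top] at hM
    norm_num at hM
  · apply hsolv_contra
    obtain ⟨n, hn⟩ : ∃ n, n = Nat.card Q := ⟨_, rfl⟩
    rw [← hn] at hdvd hlt hne h30 hpos
    have hmem : n ∈ Nat.divisors 60 := Nat.mem_divisors.mpr ⟨hdvd, by norm_num⟩
    have hdiv : Nat.divisors 60 = {1, 2, 3, 4, 5, 6, 10, 12, 15, 20, 30, 60} := by decide
    rw [hdiv] at hmem
    simp only [Finset.mem_insert, Finset.mem_singleton] at hmem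
    have h12 : n ∣ 2 ^ 2 * 3 ^ 1 ∨ n ∣ 2 ^ 2 * 5 ^ 1 ∨ n ∣ 3 ^ 1 * 5 ^ 1 := by
      rcases hmem with rfl | rfl | rfl | rfl | rfl | rfl | rfl | rfl | rfl | rfl | rfl | rfl
      · exact absurd rfl hne
      · left; norm_num
      · left; norm_num
      · left; norm_num
      · right; left; norm_num
      · left; norm_num
      · right; left; norm_num
      · left; norm_num
      · right; right; norm_num
      · right; left; norm_num
      · exact absurd rfl h30
      · omega
    rcases h12 with h | h | h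
    · exact Cfsg.Agent.Lib.Helper2.solvable_of_two_primes 2 3 Nat.prime_two Nat.prime_three n Q
        hn.symm (two_primes_of_dvd Nat.prime_two Nat.prime_three h)
    · exact Cfsg.Agent.Lib.Helper2.solvable_of_two_primes 2 5 Nat.prime_two Nat.prime_five n Q
        hn.symm (two_primes_of_dvd Nat.prime_two Nat.prime_five h)
    · exact Cfsg.Agent.Lib.Helper2.solvable_of_two_primes 3 5 Nat.prime_three Nat.prime_five n Q
        hn.symm (two_primes_of_dvd Nat.prime_three Nat.prime_five h)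

theorem recog {G : Type*} [Group G] (x y : G) (hx2 : x ^ 2 = 1) (hy3 : y ^ 3 = 1)
    (hxy5 : (x * y) ^ 5 = 1) (hx1 : x ≠ 1) (hy1 : y ≠ 1) (hxy1 : x * y ≠ 1)
    [Finite (Subgroup.closure ({x, y} : Set G))]
    (hcard : Nat.card (Subgroup.closure ({x, y} : Set G)) ≤ 60) :
    Nonempty (Subgroup.closure ({x, y} : Set G) ≃* alternatingGroup (Fin 5)) := by
  have hperf := perfect_of_gens x y hx2 hy3 hxy5
  have hx : x ∈ Subgroup.closure ({x, y} : Set G) := Subgroup.subset_closure (by simp)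
  have hy : y ∈ Subgroup.closure ({x, y} : Set G) := Subgroup.subset_closure (by simp)
  have : Fact (Nat.Prime 2) := ⟨Nat.prime_two⟩
  have : Fact (Nat.Prime 3) := ⟨Nat.prime_three⟩
  have : Fact (Nat.Prime 5) := ⟨Nat.prime_five⟩
  have o2 : orderOf x = 2 := orderOf_eq_prime hx2 hx1
  have o3 : orderOf y = 3 := orderOf_eq_prime hy3 hy1
  have o5 : orderOf (x * y) = 5 := orderOf_eq_prime hxy5 hxy1
  have d2 : 2 ∣ Nat.card (Subgroup.closure ({x, y} : Set G)) := by
    rw [← o2]; exact Subgroup.orderOf_dvd_natCard _ hx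
  have d3 : 3 ∣ Nat.card (Subgroup.closure ({x, y} : Set G)) := by
    rw [← o3]; exact Subgroup.orderOf_dvd_natCard _ hy
  have d5 : 5 ∣ Nat.card (Subgroup.closure ({x, y} : Set G)) := by
    rw [← o5]; exact Subgroup.orderOf_dvd_natCard _ (mul_mem hx hy)
  have d30 : 30 ∣ Nat.card (Subgroup.closure ({x, y} : Set G)) :=
    Nat.Coprime.mul_dvd_of_dvd_of_dvd (by norm_num : Nat.Coprime 6 5)
      (Nat.Coprime.mul_dvd_of_dvd_of_dvd (by norm_num : Nat.Coprime 2 3) d2 d3) d5
  have hpos : 0 < Nat.card (Subgroup.closure ({x, y} : Set G)) := Nat.card_pos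
  have h60 : Nat.card (Subgroup.closure ({x, y} : Set G)) = 60 := by
    obtain ⟨c, hc⟩ := d30
    have hc12 : c = 1 ∨ c = 2 := by omega
    rcases hc12 with rfl | rfl
    · exfalso
      have h := perfect_small hperf (by rw [hc]; norm_num) (by rw [hc]; norm_num)
      omega
    · omega
  have hnt : Nontrivial (Subgroup.closure ({x, y} : Set G)) :=
    Finite.one_lt_card_iff_nontrivial.mp (by omega)
  have hsimple : IsSimpleGroup (Subgroup.closure ({x, y} : Set G)) := by
    refine ⟨fun N hN => ?_⟩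
    by_contra hcon
    push Not at hcon
    obtain ⟨hbot, htop⟩ := hcon
    have hQperf : commutator (Subgroup.closure ({x, y} : Set G) ⧸ N) = ⊤ := by
      rw [commutator_def, ← Subgroup.map_top_of_surjective (QuotientGroup.mk' N)
        (QuotientGroup.mk'_surjective N), ← Subgroup.map_commutator, ← commutator_def, hperf]
    have hmul := Subgroup.card_eq_card_quotient_mul_card_subgroup N
    rw [h60] at hmul
    have hNpos : 0 < Nat.card N := Nat.card_pos
    have hN1 : Nat.card N ≠ 1 := fun h => hbot (Subgroup.card_eq_one.mp h)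
    have hQ1 : Nat.card (Subgroup.closure ({x, y} : Set G) ⧸ N) ≠ 1 := by
      intro h
      rw [h, one_mul] at hmul
      exact htop (Subgroup.eq_top_of_card_eq N (by rw [h60]; exact hmul.symm))
    have hQ := perfect_small hQperf ⟨Nat.card N, hmul⟩ (by
      by_contra hge
      push Not at hge
      have h2 : 2 ≤ Nat.card N := by omega
      nlinarith)
    exact hQ1 hQ
  exact Cfsg.Agent.Lib.Helper3.simple_sixty_equiv_alt h60

end recog

/-! ### The field side -/

section field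

variable {F : Type*} [Field F] [Fintype F]

theorem z5_two_ne : (2 : ZMod 5) ≠ 0 := by decide

theorem z5_sq : (2 : ZMod 5) ^ 2 = 4 := by decide

theorem z5_a : (((-1 : ℤ) : ZMod 5)) * 1 = 4 := by decide

theorem z5_b : (((-1 : ℤ) : ZMod 5)) * 4 = 1 := by decide

theorem mod_five {q : ℕ} (h5 : 5 ∣ q * (q ^ 2 - 1)) : q % 5 = 0 ∨ q % 5 = 1 ∨ q % 5 = 4 := by
  rcases (Nat.Prime.dvd_mul Nat.prime_five).mp h5 with h | h
  · left; omega
  · have h1 : q ^ 2 % 5 = (q % 5) ^ 2 % 5 := Nat.pow_mod q 2 5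
    have h2 : q % 5 < 5 := Nat.mod_lt _ (by norm_num)
    obtain ⟨r, hr⟩ : ∃ r, r = q % 5 := ⟨_, rfl⟩
    rw [← hr] at h1 h2 ⊢
    obtain ⟨s, hs⟩ : ∃ s, s = q ^ 2 := ⟨_, rfl⟩
    rw [← hs] at h1 h
    interval_cases r <;> omega

theorem exists_tau {q : ℕ} (hF : Fintype.card F = q) (h5 : 5 ∣ q * (q ^ 2 - 1)) :
    ∃ τ : F, τ ^ 2 = τ + 1 := by
  classical
  obtain ⟨p, hchar⟩ := CharP.exists F
  obtain ⟨n, hp, hcard⟩ := FiniteField.card F p
  have hpf : Fact p.Prime := ⟨hp⟩
  rw [hF] at hcard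
  have hm5 := mod_five h5
  by_cases hp5 : p = 5
  · subst hp5
    refine ⟨3, ?_⟩
    have h5F : (5 : F) = 0 := by exact_mod_cast CharP.cast_eq_zero F 5
    linear_combination h5F
  have hq5 : q % 5 ≠ 0 := by
    intro h
    have h1 : 5 ∣ p ^ (n : ℕ) := by rw [← hcard]; omega
    have h2 := Nat.prime_five.dvd_of_dvd_pow h1
    exact hp5 ((Nat.prime_dvd_prime_iff_eq Nat.prime_five hp).mp h2).symm
  by_cases hp2 : p = 2
  · subst hp2
    have h2F : (2 : F) = 0 := by exact_mod_cast CharP.cast_eq_zero F 2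
    have h3 : 3 ∣ q - 1 := by
      rcases Nat.even_or_odd (n : ℕ) with ⟨m, hm⟩ | ⟨m, hm⟩
      · have h4 : q % 3 = 1 := by
          rw [hcard, hm, ← two_mul, pow_mul, Nat.pow_mod]
          norm_num
        omega
      · exfalso
        have h4 : ∀ m : ℕ, (2 ^ 2) ^ m % 5 = 1 ∨ (2 ^ 2) ^ m % 5 = 4 := by
          intro m
          induction m with
          | zero => left; norm_num
          | succ k ih =>
            rw [pow_succ, Nat.mul_mod]
            rcases ih with h | h <;> rw [h] <;> norm_num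
        have h6 : q = (2 ^ 2) ^ m * 2 := by rw [hcard, hm, pow_succ, pow_mul]
        rcases h4 m with h | h <;> omega
    have hcu : Fintype.card Fˣ = q - 1 := by rw [Fintype.card_units, hF]
    have : Fact (Nat.Prime 3) := ⟨Nat.prime_three⟩
    obtain ⟨ω, hω⟩ := exists_prime_orderOf_dvd_card 3 (by rw [hcu]; exact h3 : 3 ∣ Fintype.card Fˣ)
    have hω3 : (ω : F) ^ 3 = 1 := by
      have h := pow_orderOf_eq_one ω
      rw [hω] at h
      have h' := congrArg Units.val h
      rw [Units.val_pow_eq_pow_val, Units.val_one] at h'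
      exact h'
    have hω1 : (ω : F) ≠ 1 := by
      intro h
      have : ω = 1 := Units.ext h
      rw [this, orderOf_one] at hω
      norm_num at hω
    have hz : ((ω : F) - 1) * ((ω : F) ^ 2 + ω + 1) = 0 := by linear_combination hω3
    have hz2 : (ω : F) ^ 2 + ω + 1 = 0 := by
      rcases mul_eq_zero.mp hz with h | h
      · exact absurd (sub_eq_zero.mp h) hω1
      · exact h
    exact ⟨ω, by linear_combination hz2 - ((ω : F) + 1) * h2F⟩
  · have hrc : ringChar F = p := ringChar.eq F p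
    have hchar2 : ringChar F ≠ 2 := by rw [hrc]; exact hp2
    have hchar5 : ringChar F ≠ 5 := by rw [hrc]; exact hp5
    have h2F : (2 : F) ≠ 0 := by
      intro h
      have h3 : p ∣ 2 := (CharP.cast_eq_zero_iff F p 2).mp (by exact_mod_cast h)
      exact hp2 ((Nat.prime_dvd_prime_iff_eq hp Nat.prime_two).mp h3)
    have h5F : (5 : F) ≠ 0 := by
      intro h
      have h3 : p ∣ 5 := (CharP.cast_eq_zero_iff F p 5).mp (by exact_mod_cast h)
      exact hp5 ((Nat.prime_dvd_prime_iff_eq hp Nat.prime_five).mp h3)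
    have : Fact (Nat.Prime 5) := ⟨Nat.prime_five⟩
    have hqc := quadraticChar_odd_prime hchar2 (p := 5) (by norm_num) hchar5
    rw [hF] at hqc
    have hodd : q % 2 = 1 := by
      have := FiniteField.odd_card_of_char_ne_two hchar2
      rw [hF] at this
      exact this
    have hval : quadraticChar (ZMod 5) ((ZMod.χ₄ (q : ZMod 4) : ZMod 5) * (q : ZMod 5)) = 1 := by
      have hq4 : q % 4 = 1 ∨ q % 4 = 3 := by omega
      have hq5' : q % 5 = 1 ∨ q % 5 = 4 := by
        rcases hm5 with h | h | h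
        · exact absurd h hq5
        · exact Or.inl h
        · exact Or.inr h
      have hc : (q : ZMod 5) = 1 ∨ (q : ZMod 5) = 4 := by
        rcases hq5' with h | h
        · left
          rw [← ZMod.natCast_mod, h]
          rfl
        · right
          rw [← ZMod.natCast_mod, h]
          rfl
      have h4 : quadraticChar (ZMod 5) 4 = 1 := by
        have := quadraticChar_sq_one' (F := ZMod 5) (a := 2) z5_two_ne
        rw [z5_sq] at this
        exact this
      rcases hq4 with h | h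
      · rw [ZMod.χ₄_nat_one_mod_four h]
        rcases hc with h' | h' <;> rw [h']
        · simp
        · simpa using h4
      · rw [ZMod.χ₄_nat_three_mod_four h]
        rcases hc with h' | h' <;> rw [h']
        · rw [z5_a]; exact h4
        · rw [z5_b]; simp
    rw [hval] at hqc
    have hsq : IsSquare ((5 : ℕ) : F) :=
      (quadraticChar_one_iff_isSquare (by exact_mod_cast h5F)).mp hqc
    obtain ⟨s, hs⟩ := hsq
    have hs' : (5 : F) = s * s := by exact_mod_cast hs
    refine ⟨(1 + s) / 2, ?_⟩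
    field_simp
    linear_combination (-1 : F) * hs'

open Polynomial in
theorem exists_ab (τ : F) (hτ : τ ^ 2 = τ + 1) :
    ∃ a b : F, a ^ 2 + a + b ^ 2 - τ * b + 1 = 0 := by
  by_cases h2 : (2 : F) = 0
  · exact ⟨τ, 0, by linear_combination hτ + (τ + 1) * h2⟩
  · have hchar : ringChar F ≠ 2 := by
      intro h
      apply h2
      have h3 := CharP.cast_eq_zero F (ringChar F)
      rw [h] at h3
      exact_mod_cast h3
    have hodd := FiniteField.odd_card_of_char_ne_two hchar
    have hf : degree (C (1 : F) * X ^ 2 + C 1 * X + C 1 : F[X]) = 2 :=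
      degree_quadratic one_ne_zero
    have hg : degree (C (1 : F) * X ^ 2 + C (-τ) * X + C 0 : F[X]) = 2 :=
      degree_quadratic one_ne_zero
    obtain ⟨a, b, hab⟩ := FiniteField.exists_root_sum_quadratic hf hg hodd
    refine ⟨a, b, ?_⟩
    simp only [eval_add, eval_mul, eval_C, eval_pow, eval_X] at hab
    linear_combination hab

end field

/-! ### The generators -/

section gens

variable {F : Type*} [Field F]

/-- The generator of order four. -/
def Xm (F : Type*) [Field F] : Matrix.SpecialLinearGroup (Fin 2) F :=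
  ⟨!![0, -1; 1, 0], by simp [Matrix.det_fin_two]⟩

/-- The generator of order three (or six). -/
def Ym (τ a b : F) (h : a ^ 2 + a + b ^ 2 - τ * b + 1 = 0) : Matrix.SpecialLinearGroup (Fin 2) F :=
  ⟨!![a, b; b - τ, -1 - a], by
    rw [Matrix.det_fin_two]
    simp only [Matrix.of_apply, Matrix.cons_val', Matrix.cons_val_zero, Matrix.cons_val_one,
      Matrix.cons_val_fin_one]
    linear_combination -h⟩

theorem Xm_sq : ((Xm F : Matrix.SpecialLinearGroup (Fin 2) F) : Matrix (Fin 2) (Fin 2) F)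
    * ((Xm F : Matrix.SpecialLinearGroup (Fin 2) F) : Matrix (Fin 2) (Fin 2) F) = -1 := by
  ext i j
  fin_cases i <;> fin_cases j <;> simp [Xm, Matrix.mul_apply, Fin.sum_univ_two]

theorem Ym_sq (τ a b : F) (h : a ^ 2 + a + b ^ 2 - τ * b + 1 = 0) :
    ((Ym τ a b h : Matrix.SpecialLinearGroup (Fin 2) F) : Matrix (Fin 2) (Fin 2) F)
      * ((Ym τ a b h : Matrix.SpecialLinearGroup (Fin 2) F) : Matrix (Fin 2) (Fin 2) F)
      = -1 - ((Ym τ a b h : Matrix.SpecialLinearGroup (Fin 2) F) : Matrix (Fin 2) (Fin 2) F) := by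
  have h1 := sl2_cayley (Ym τ a b h)
  have h2 : ((Ym τ a b h : Matrix.SpecialLinearGroup (Fin 2) F) :
      Matrix (Fin 2) (Fin 2) F).trace = -1 := by
    rw [Matrix.trace_fin_two]
    simp [Ym]
  rw [h1, h2, neg_one_smul]
  abel

theorem Ym_Xm (τ a b : F) (h : a ^ 2 + a + b ^ 2 - τ * b + 1 = 0) :
    ((Ym τ a b h : Matrix.SpecialLinearGroup (Fin 2) F) : Matrix (Fin 2) (Fin 2) F)
      * ((Xm F : Matrix.SpecialLinearGroup (Fin 2) F) : Matrix (Fin 2) (Fin 2) F)
      = τ • 1 - ((Xm F : Matrix.SpecialLinearGroup (Fin 2) F) : Matrix (Fin 2) (Fin 2) F)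
        - ((Xm F : Matrix.SpecialLinearGroup (Fin 2) F) : Matrix (Fin 2) (Fin 2) F)
          * ((Ym τ a b h : Matrix.SpecialLinearGroup (Fin 2) F) : Matrix (Fin 2) (Fin 2) F) := by
  ext i j
  fin_cases i <;> fin_cases j <;> simp [Xm, Ym, Matrix.mul_apply, Fin.sum_univ_two]

end gens

theorem exists_A5 {F : Type*} [Field F] [Fintype F] {q : ℕ} (hF : Fintype.card F = q)
    (h5 : 5 ∣ q * (q ^ 2 - 1)) :
    ∃ H : Subgroup (Matrix.ProjectiveSpecialLinearGroup (Fin 2) F),
      Nonempty (H ≃* alternatingGroup (Fin 5)) := by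
  classical
  obtain ⟨τ, hτ⟩ := exists_tau hF h5
  obtain ⟨a, b, hab⟩ := exists_ab τ hτ
  obtain ⟨X', hX'⟩ : ∃ X' : Matrix.SpecialLinearGroup (Fin 2) F, X' = Xm F := ⟨_, rfl⟩
  obtain ⟨Y', hY'⟩ : ∃ Y' : Matrix.SpecialLinearGroup (Fin 2) F, Y' = Ym τ a b hab := ⟨_, rfl⟩
  have hX : (X' : Matrix (Fin 2) (Fin 2) F) * (X' : Matrix (Fin 2) (Fin 2) F) = -1 := by
    rw [hX']; exact Xm_sq
  have hY : (Y' : Matrix (Fin 2) (Fin 2) F) * (Y' : Matrix (Fin 2) (Fin 2) F)
      = -1 - (Y' : Matrix (Fin 2) (Fin 2) F) := by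
    rw [hY']; exact Ym_sq τ a b hab
  have hYX : (Y' : Matrix (Fin 2) (Fin 2) F) * (X' : Matrix (Fin 2) (Fin 2) F)
      = τ • 1 - (X' : Matrix (Fin 2) (Fin 2) F)
        - (X' : Matrix (Fin 2) (Fin 2) F) * (Y' : Matrix (Fin 2) (Fin 2) F) := by
    rw [hX', hY']; exact Ym_Xm τ a b hab
  have hbound := card_closure_le τ hτ X' Y' hX hY hYX
  have hRX := ev_RX τ X'.1 Y'.1 hτ hX hYX
  have hRY := ev_RY τ X'.1 Y'.1 hY
  have h5m : (X' * Y') ^ 5 = -1 := by
    apply Subtype.ext
    have h := congrArg (ev τ X'.1 Y'.1) ico_five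
    rw [hRY, hRX, hRY, hRX, hRY, hRX, hRY, hRX, hRY, hRX, ev_neg, ev_one] at h
    rw [Matrix.SpecialLinearGroup.coe_neg, Matrix.SpecialLinearGroup.coe_one, ← h]
    simp only [pow_succ, pow_zero, one_mul, Matrix.SpecialLinearGroup.coe_mul, mul_assoc]
  have hx2 : (pslMk F X') ^ 2 = 1 := by
    rw [← map_pow, pslMk_eq_one_iff]
    right
    apply Subtype.ext
    rw [pow_two, Matrix.SpecialLinearGroup.coe_mul, Matrix.SpecialLinearGroup.coe_neg,
      Matrix.SpecialLinearGroup.coe_one]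
    exact hX
  have hy3 : (pslMk F Y') ^ 3 = 1 := by
    rw [← map_pow, pslMk_eq_one_iff]
    left
    apply Subtype.ext
    rw [pow_succ, pow_two, Matrix.SpecialLinearGroup.coe_mul, Matrix.SpecialLinearGroup.coe_mul,
      Matrix.SpecialLinearGroup.coe_one, hY, sub_mul, neg_one_mul, hY]
    abel
  have hxy5 : (pslMk F X' * pslMk F Y') ^ 5 = 1 := by
    rw [← map_mul, ← map_pow, pslMk_eq_one_iff]
    right
    exact h5m
  have h10 : (1 : F) ≠ 0 := one_ne_zero
  have hx1 : pslMk F X' ≠ 1 := by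
    intro h
    rw [pslMk_eq_one_iff] at h
    rcases h with h | h
    · have h' := congrArg (fun g : Matrix.SpecialLinearGroup (Fin 2) F =>
        (g : Matrix (Fin 2) (Fin 2) F) 1 0) h
      rw [hX'] at h'
      simp [Xm] at h'
    · have h' := congrArg (fun g : Matrix.SpecialLinearGroup (Fin 2) F =>
        (g : Matrix (Fin 2) (Fin 2) F) 1 0) h
      rw [hX'] at h'
      simp [Xm] at h'
  have hτ0 : τ ≠ 0 := by
    rintro rfl
    norm_num at hτ
  have hy1 : pslMk F Y' ≠ 1 := by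
    intro h
    rw [pslMk_eq_one_iff] at h
    have key : b = 0 ∧ b - τ = 0 := by
      rcases h with h | h
      · have h1 := congrArg (fun g : Matrix.SpecialLinearGroup (Fin 2) F =>
          (g : Matrix (Fin 2) (Fin 2) F) 0 1) h
        have h2 := congrArg (fun g : Matrix.SpecialLinearGroup (Fin 2) F =>
          (g : Matrix (Fin 2) (Fin 2) F) 1 0) h
        rw [hY'] at h1 h2
        simp [Ym] at h1 h2
        exact ⟨h1, h2⟩
      · have h1 := congrArg (fun g : Matrix.SpecialLinearGroup (Fin 2) F =>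
          (g : Matrix (Fin 2) (Fin 2) F) 0 1) h
        have h2 := congrArg (fun g : Matrix.SpecialLinearGroup (Fin 2) F =>
          (g : Matrix (Fin 2) (Fin 2) F) 1 0) h
        rw [hY'] at h1 h2
        simp [Ym] at h1 h2
        exact ⟨h1, h2⟩
    apply hτ0
    linear_combination key.1 - key.2
  have hxy1 : pslMk F X' * pslMk F Y' ≠ 1 := by
    intro h
    rw [← map_mul, pslMk_eq_one_iff] at h
    have key : a = 0 ∧ 1 + a = 0 := by
      rcases h with h | h
      · have h1 := congrArg (fun g : Matrix.SpecialLinearGroup (Fin 2) F =>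
          (g : Matrix (Fin 2) (Fin 2) F) 1 0) h
        have h2 := congrArg (fun g : Matrix.SpecialLinearGroup (Fin 2) F =>
          (g : Matrix (Fin 2) (Fin 2) F) 0 1) h
        simp only [Matrix.SpecialLinearGroup.coe_mul] at h1 h2
        rw [hX', hY'] at h1 h2
        simp [Xm, Ym, Matrix.mul_apply, Fin.sum_univ_two] at h1 h2
        exact ⟨h1, by linear_combination h2⟩
      · have h1 := congrArg (fun g : Matrix.SpecialLinearGroup (Fin 2) F =>
          (g : Matrix (Fin 2) (Fin 2) F) 1 0) h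
        have h2 := congrArg (fun g : Matrix.SpecialLinearGroup (Fin 2) F =>
          (g : Matrix (Fin 2) (Fin 2) F) 0 1) h
        simp only [Matrix.SpecialLinearGroup.coe_mul] at h1 h2
        rw [hX', hY'] at h1 h2
        simp [Xm, Ym, Matrix.mul_apply, Fin.sum_univ_two] at h1 h2
        exact ⟨h1, by linear_combination h2⟩
    apply h10
    linear_combination key.2 - key.1
  have hfin : Finite (Subgroup.closure
      ({pslMk F X', pslMk F Y'} : Set (Matrix.ProjectiveSpecialLinearGroup (Fin 2) F))) :=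
    inferInstance
  exact ⟨_, recog (pslMk F X') (pslMk F Y') hx2 hy3 hxy5 hx1 hy1 hxy1 hbound⟩

theorem card_alt5 : Nat.card (alternatingGroup (Fin 5)) = 60 := by
  have h := two_mul_card_alternatingGroup (α := Fin 5)
  rw [Fintype.card_perm, Fintype.card_fin] at h
  rw [Nat.card_eq_fintype_card]
  have e : Nat.factorial 5 = 120 := by decide
  omega
/-- PSL_2(q) has a subgroup isomorphic to A_5 iff 5 ∣ q(q² − 1). -/
theorem result {F : Type*} [Field F] [Fintype F] {q : ℕ} (hF : Fintype.card F = q) : (∃ H : Subgroup (Matrix.ProjectiveSpecialLinearGroup (Fin 2) F), Nonempty (H ≃* alternatingGroup (Fin 5))) ↔ 5 ∣ q * (q ^ 2 - 1) := by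
  classical
  constructor
  · rintro ⟨H, ⟨e⟩⟩
    have hH : Nat.card H = 60 := by rw [Nat.card_congr e.toEquiv, card_alt5]
    have h1 : 60 ∣ Nat.card (Matrix.ProjectiveSpecialLinearGroup (Fin 2) F) := by
      rw [← hH]; exact Subgroup.card_subgroup_dvd_card H
    have h2 : Nat.card (Matrix.ProjectiveSpecialLinearGroup (Fin 2) F)
        ∣ Nat.card (Matrix.SpecialLinearGroup (Fin 2) F) :=
      Subgroup.card_quotient_dvd_card _
    rw [card_SL2_eq, hF] at h2
    have h3 : 5 ∣ q * ((q - 1) * (q + 1)) :=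
      dvd_trans (dvd_trans (by norm_num : 5 ∣ 60) h1) h2
    have e1 : (q - 1) * (q + 1) = q ^ 2 - 1 := by
      have e2 : q ^ 2 - 1 = q ^ 2 - 1 ^ 2 := by norm_num
      rw [e2, Nat.sq_sub_sq, mul_comm]
    rw [e1] at h3
    exact h3
  · intro h
    exact exists_A5 hF h

end Cfsg.Agent.S0804
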