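import Mathlib
import Cfsg.Statements.S0861
import Cfsg.Agent.Lib.Helper2.GaloisAvg2
import Cfsg.Agent.Lib.Helper2.ItoConv
import Cfsg.Agent.Lib.Helper2.CharOrtho
import Cfsg.Agent.S4558

set_option autoImplicit false
open Cfsg

namespace Cfsg.Agent.S0861

open Cfsg.Agent.Lib.Helper2 Module

open scoped ComplexConjugate commutatorElement

/-- Let P be a normal abelian Sylow p-subgroup of the finite group G and suppose some element g of P has centralizer exactly P. Then the number of irreducible characters of G is at most the order of P, and if equality holds then G / P is abelian (the commutator subgroup lies in P). -/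
theorem result {G : Type*} [Group G] [Finite G] (p : ℕ) [Fact p.Prime] (P : Sylow p G) [(P : Subgroup G).Normal] (hab : ∀ a ∈ P, ∀ b ∈ P, a * b = b * a) (g : G) (hg : g ∈ P) (hC : Subgroup.centralizer ({g} : Set G) = P) : Nat.card (Cfsg.IrrCharacter G) ≤ Nat.card P ∧ (Nat.card (Cfsg.IrrCharacter G) = Nat.card P → commutator G ≤ P) := by
  classical
  have := Fintype.ofFinite G
  have := Fintype.ofFinite (Cfsg.IrrCharacter G)
  have hne0 : NeZero (Fintype.card G) := ⟨Fintype.card_ne_zero⟩
  have hΓpos : (0 : ℝ)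
      < (Fintype.card (CycK (Fintype.card G) ≃ₐ[ℚ] CycK (Fintype.card G)) : ℝ) := by
    exact_mod_cast Fintype.card_pos
  -- centralizers of the Galois powers of g
  have hcent : ∀ σ : CycK (Fintype.card G) ≃ₐ[ℚ] CycK (Fintype.card G),
      Subgroup.centralizer ({g ^ galExp (Fintype.card G) σ} : Set G) = (P : Subgroup G) := by
    intro σ
    rw [← hC]
    have hcop : (galExp (Fintype.card G) σ).Coprime (orderOf g) :=
      Nat.Coprime.coprime_dvd_right (orderOf_dvd_card) (galExp_coprime (Fintype.card G) σ)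
    obtain ⟨m', hm'⟩ := exists_pow_eq_self_of_coprime hcop
    ext x
    rw [Subgroup.mem_centralizer_singleton_iff, Subgroup.mem_centralizer_singleton_iff]
    constructor
    · intro h
      have h1 : Commute x (g ^ galExp (Fintype.card G) σ) := h
      have h2 := h1.pow_right m'
      rw [hm'] at h2
      exact h2
    · intro h
      have h1 : Commute x g := h
      exact h1.pow_right _
  -- column sums
  have hcol : ∀ σ : CycK (Fintype.card G) ≃ₐ[ℚ] CycK (Fintype.card G),
      ∑ χ : Cfsg.IrrCharacter G, ‖(χ : G → ℂ) (g ^ galExp (Fintype.card G) σ)‖ ^ 2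
        = (Nat.card P : ℝ) := by
    intro σ
    have h1 := column_orthogonality (g ^ galExp (Fintype.card G) σ)
      (g ^ galExp (Fintype.card G) σ)
    rw [colFun_of_isConj (IsConj.refl _), hcent σ] at h1
    have h2 : ∑ χ : Cfsg.IrrCharacter G, (χ : G → ℂ) (g ^ galExp (Fintype.card G) σ)
          * conj ((χ : G → ℂ) (g ^ galExp (Fintype.card G) σ))
        = ((∑ χ : Cfsg.IrrCharacter G,
            ‖(χ : G → ℂ) (g ^ galExp (Fintype.card G) σ)‖ ^ 2 : ℝ) : ℂ) := by
      push_cast
      apply Finset.sum_congr rfl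
      intro χ _
      rw [Complex.mul_conj, Complex.normSq_eq_norm_sq]
      push_cast
      rfl
    rw [h2] at h1
    exact_mod_cast h1
  -- each character is nonzero at g
  have hnz : ∀ χ : Cfsg.IrrCharacter G, (χ : G → ℂ) g ≠ 0 := by
    intro χ h0
    obtain ⟨k, hk⟩ := P.isPGroup' ⟨g, hg⟩
    have hord : ∃ j : ℕ, orderOf g = p ^ j := by
      have h1 : g ^ p ^ k = 1 := by simpa using congrArg Subtype.val hk
      obtain ⟨j, -, hj⟩ := (Nat.dvd_prime_pow (Fact.out)).mp (orderOf_dvd_of_pow_eq_one h1)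
      exact ⟨j, hj⟩
    have hdvd := Cfsg.Agent.S4558.result p (χ : G → ℂ) (isCharacter_of_isIrrCharacter χ.2) g
      hord h0
    obtain ⟨m, ρ, hρ, hχ⟩ := χ.2
    have := hρ
    have h1 := ito_degree_dvd_index ρ (P : Subgroup G) hab
    have h2 : Cfsg.charDegree (χ : G → ℂ) = finrank ℂ (Fin m → ℂ) := by
      unfold Cfsg.charDegree
      rw [← hχ, Representation.char_one]
      simp
    rw [h2] at hdvd
    exact P.not_dvd_index (hdvd.trans h1)
  -- lower bound per character
  have hA : ∀ χ : Cfsg.IrrCharacter G,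
      (Fintype.card (CycK (Fintype.card G) ≃ₐ[ℚ] CycK (Fintype.card G)) : ℝ)
        ≤ ∑ σ : CycK (Fintype.card G) ≃ₐ[ℚ] CycK (Fintype.card G),
            ‖(χ : G → ℂ) (g ^ galExp (Fintype.card G) σ)‖ ^ 2 := by
    intro χ
    obtain ⟨m, ρ, hρ, hχ⟩ := χ.2
    have h := galois_avg_char ρ g (by rw [hχ]; exact hnz χ)
    rw [hχ] at h
    exact h
  have htot : ∑ χ : Cfsg.IrrCharacter G,
        ∑ σ : CycK (Fintype.card G) ≃ₐ[ℚ] CycK (Fintype.card G),
          ‖(χ : G → ℂ) (g ^ galExp (Fintype.card G) σ)‖ ^ 2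
      = (Fintype.card (CycK (Fintype.card G) ≃ₐ[ℚ] CycK (Fintype.card G)) : ℝ)
          * (Nat.card P : ℝ) := by
    rw [Finset.sum_comm, Finset.sum_congr rfl (fun σ _ => hcol σ), Finset.sum_const,
      Finset.card_univ, nsmul_eq_mul]
  have hconst : ∑ _χ : Cfsg.IrrCharacter G,
        (Fintype.card (CycK (Fintype.card G) ≃ₐ[ℚ] CycK (Fintype.card G)) : ℝ)
      = (Fintype.card (Cfsg.IrrCharacter G) : ℝ)
          * (Fintype.card (CycK (Fintype.card G) ≃ₐ[ℚ] CycK (Fintype.card G)) : ℝ) := by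
    rw [Finset.sum_const, Finset.card_univ, nsmul_eq_mul]
  constructor
  · have h1 : (Fintype.card (Cfsg.IrrCharacter G) : ℝ)
          * (Fintype.card (CycK (Fintype.card G) ≃ₐ[ℚ] CycK (Fintype.card G)) : ℝ)
        ≤ (Fintype.card (CycK (Fintype.card G) ≃ₐ[ℚ] CycK (Fintype.card G)) : ℝ)
          * (Nat.card P : ℝ) := by
      rw [← htot, ← hconst]
      exact Finset.sum_le_sum (fun χ _ => hA χ)
    have h2 : (Fintype.card (Cfsg.IrrCharacter G) : ℝ) ≤ (Nat.card P : ℝ) := by
      nlinarith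
    rw [Nat.card_eq_fintype_card]
    exact_mod_cast h2
  · intro heq
    have heq' : (Fintype.card (Cfsg.IrrCharacter G) : ℝ) = (Nat.card P : ℝ) := by
      rw [← heq, Nat.card_eq_fintype_card]
    have hAeq : ∀ χ : Cfsg.IrrCharacter G,
        ∑ σ : CycK (Fintype.card G) ≃ₐ[ℚ] CycK (Fintype.card G),
            ‖(χ : G → ℂ) (g ^ galExp (Fintype.card G) σ)‖ ^ 2
          = (Fintype.card (CycK (Fintype.card G) ≃ₐ[ℚ] CycK (Fintype.card G)) : ℝ) := by
      have hsum0 : ∑ χ : Cfsg.IrrCharacter G,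
          ((∑ σ : CycK (Fintype.card G) ≃ₐ[ℚ] CycK (Fintype.card G),
            ‖(χ : G → ℂ) (g ^ galExp (Fintype.card G) σ)‖ ^ 2)
            - (Fintype.card (CycK (Fintype.card G) ≃ₐ[ℚ] CycK (Fintype.card G)) : ℝ)) = 0 := by
        rw [Finset.sum_sub_distrib, htot, hconst, heq']
        ring
      have h0 := (Finset.sum_eq_zero_iff_of_nonneg
        (fun χ _ => sub_nonneg.mpr (hA χ))).mp hsum0
      intro χ
      have := h0 χ (Finset.mem_univ χ)
      linarith
    have hlin : ∀ β : G ⧸ (P : Subgroup G) → ℂ,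
        Cfsg.IsIrrCharacter (G ⧸ (P : Subgroup G)) β → β 1 = 1 := by
      intro β hβ
      have hχ := isIrrCharacter_comp_of_surjective hβ (QuotientGroup.mk' (P : Subgroup G))
        (QuotientGroup.mk'_surjective _)
      have h1 := hAeq ⟨_, hχ⟩
      have h2 : ∀ σ : CycK (Fintype.card G) ≃ₐ[ℚ] CycK (Fintype.card G),
          ‖(β ∘ QuotientGroup.mk' (P : Subgroup G)) (g ^ galExp (Fintype.card G) σ)‖ ^ 2
            = ‖β 1‖ ^ 2 := by
        intro σ
        have h3 : (QuotientGroup.mk' (P : Subgroup G)) (g ^ galExp (Fintype.card G) σ) = 1 := by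
          rw [QuotientGroup.mk'_apply, QuotientGroup.eq_one_iff]
          exact pow_mem hg _
        show ‖β (QuotientGroup.mk' (P : Subgroup G) (g ^ galExp (Fintype.card G) σ))‖ ^ 2 = _
        rw [h3]
      rw [Finset.sum_congr rfl (fun σ _ => h2 σ), Finset.sum_const, Finset.card_univ,
        nsmul_eq_mul] at h1
      obtain ⟨d, hd0, hd⟩ := irr_apply_one hβ
      rw [hd, Complex.norm_natCast] at h1
      have h3 : (d : ℝ) ^ 2 = 1 := mul_left_cancel₀ hΓpos.ne' (h1.trans (mul_one _).symm)
      have h4 : d ^ 2 = 1 := by exact_mod_cast h3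
      have h5 : d = 1 := by
        rcases Nat.pow_eq_one.mp h4 with h | h
        · exact h
        · omega
      rw [hd, h5]
      simp
    have := Fintype.ofFinite (G ⧸ (P : Subgroup G))
    have hcomm := comm_of_all_linear hlin
    rw [commutator_def, Subgroup.commutator_le]
    intro a _ b _
    have h1 : ((⁅a, b⁆ : G) : G ⧸ (P : Subgroup G)) = 1 := by
      rw [commutatorElement_def]
      have h2 := hcomm (a : G ⧸ (P : Subgroup G)) (b : G ⧸ (P : Subgroup G))
      rw [QuotientGroup.mk_mul, QuotientGroup.mk_mul, QuotientGroup.mk_mul, QuotientGroup.mk_inv,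
        QuotientGroup.mk_inv, h2]
      group
    exact (QuotientGroup.eq_one_iff _).mp h1

end Cfsg.Agent.S0861
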