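import Cfsg.Statements.S0948
import Mathlib
import Cfsg.Agent.Lib.Helper25.Klein
import Cfsg.Agent.Lib.Helper25.WeakOrth
import Cfsg.Agent.Lib.Helper2.PResSquares
import Cfsg.Agent.S0947
import Cfsg.Agent.S0944

set_option autoImplicit false
open Cfsg

namespace Cfsg.Agent.S0948

open Cfsg.Agent.Lib.Helper2 Cfsg.Agent.Lib.Helper25 Cfsg.Agent.Lib.Helper8

open scoped ComplexConjugate

/-- a normal `p`-complement lies in the `p'`-core, which then has `p`-power index -/
theorem index_pPrimeCore_of_complement {H : Type*} [Group H] [Finite H] (p : ℕ) [Fact p.Prime]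
    (h : HasNormalPComplement p H) : ∃ k : ℕ, (pPrimeCore p H).index = p ^ k := by
  obtain ⟨Q, N, hN, hc⟩ := h
  have hp : p.Prime := Fact.out
  have hcard : Nat.card N * Nat.card Q = Nat.card H := hc.card_mul_card
  have hidx : N.index = Nat.card Q := by
    have h1 := N.card_mul_index
    have hpos : 0 < Nat.card N := Nat.card_pos
    exact Nat.eq_of_mul_eq_mul_left hpos (h1.trans hcard.symm)
  obtain ⟨k, hk⟩ := IsPGroup.iff_card.mp Q.isPGroup'
  have hcop : (Nat.card N).Coprime p := by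
    have h1 : Nat.card N = (Q : Subgroup H).index := by
      have h2 := (Q : Subgroup H).card_mul_index
      have hpos : 0 < Nat.card Q := Nat.card_pos
      apply Nat.eq_of_mul_eq_mul_left hpos
      rw [h2, mul_comm]
      exact hcard
    rw [h1]
    exact Nat.Coprime.symm ((Nat.Prime.coprime_iff_not_dvd hp).mpr Q.not_dvd_index)
  have hle : N ≤ pPrimeCore p H := le_sSup ⟨hN, hcop⟩
  have hdvd : (pPrimeCore p H).index ∣ p ^ k := by
    rw [← hk, ← hidx]
    exact Subgroup.index_dvd_of_le hle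
  obtain ⟨j, -, hj⟩ := (Nat.dvd_prime_pow hp).mp hdvd
  exact ⟨j, hj⟩

/-- with a Klein four Sylow `2`-subgroup and one class of involutions, the degree of an
irreducible character is congruent modulo `4` to its value at an involution -/
theorem degree_congr {G : Type*} [Group G] [Finite G] (P : Sylow 2 G) (hP : Nat.card P = 4)
    (hexp : ∀ x : P, x * x = 1)
    (hone : ∀ s t : G, orderOf s = 2 → orderOf t = 2 → IsConj s t) (u : G) (hu2 : orderOf u = 2)
    (χ : IrrCharacter G) (n : ℤ) (hn : (χ : G → ℂ) u = (n : ℂ)) :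
    (4 : ℤ) ∣ (charDegree (χ : G → ℂ) : ℤ) - n := by
  classical
  have : Fintype G := Fintype.ofFinite G
  have : Fintype (P : Subgroup G) := Fintype.ofFinite _
  have hval : ∀ x : (P : Subgroup G), (χ : G → ℂ) (x : G)
      = (χ : G → ℂ) u + (if x = 1 then (χ : G → ℂ) 1 - (χ : G → ℂ) u else 0) := by
    intro x
    by_cases hx : x = 1
    · rw [if_pos hx, hx]
      simp
    · rw [if_neg hx, add_zero]
      have hx1 : (x : G) ≠ 1 := fun h => hx (Subtype.ext h)
      have hx2 : orderOf (x : G) = 2 :=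
        orderOf_eq_prime (by rw [pow_two]; exact congrArg Subtype.val (hexp x)) hx1
      exact IsClassFunction.of_isConj (isClassFunction_of_isIrrCharacter χ.2) (hone _ _ hx2 hu2)
  have hsum : ∑ x : (P : Subgroup G), (χ : G → ℂ) (x : G)
      = (χ : G → ℂ) 1 + 3 * (χ : G → ℂ) u := by
    rw [Finset.sum_congr rfl (fun x _ => hval x), Finset.sum_add_distrib, Finset.sum_const,
      Finset.sum_ite_eq' Finset.univ (1 : (P : Subgroup G)), if_pos (Finset.mem_univ _),
      Finset.card_univ, ← Nat.card_eq_fintype_card, hP]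
    simp only [nsmul_eq_mul]
    push_cast
    ring
  have hres : IsCharacter (P : Subgroup G) (fun x : (P : Subgroup G) => (χ : G → ℂ) (x : G)) :=
    IsCharacter.restrict (isCharacter_of_isIrrCharacter χ.2) _
  have htriv : IsCharacter (P : Subgroup G) (fun _ => (1 : ℂ)) :=
    isCharacter_of_isIrrCharacter isIrrCharacter_one
  obtain ⟨m, hm⟩ := classInner_isCharacter_nat hres htriv
  rw [classInner_def, hP] at hm
  simp only [map_one, mul_one] at hm
  rw [hsum, irr_apply_one_eq_charDegree χ.2, hn] at hm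
  have h4 : ((charDegree (χ : G → ℂ) : ℤ) : ℂ) + 3 * (n : ℂ) = ((4 * (m : ℤ) : ℤ) : ℂ) := by
    push_cast
    have h4' : ((4 : ℕ) : ℂ) ≠ 0 := by norm_num
    field_simp at hm
    push_cast at hm
    linear_combination hm
  have h5 : (charDegree (χ : G → ℂ) : ℤ) + 3 * n = 4 * (m : ℤ) := by
    exact_mod_cast h4
  exact ⟨(m : ℤ) - n, by linarith⟩

/-- the principal block: four characters, integer values at an involution, and the relation -/
theorem main {G : Type*} [Group G] [Fintype G] (M : Ideal AlgInt) (hM : IsPModular 2 M)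
    (P : Sylow 2 G) (hP : Nat.card P = 4) (hexp : ∀ x : P, x * x = 1) :
    ∃ u : G, orderOf u = 2 ∧ ∃ a b c : IrrCharacter G, ∃ na nb nc : ℤ,
      a ≠ b ∧ a ≠ c ∧ b ≠ c ∧ (a : G → ℂ) ≠ (fun _ => 1) ∧ (b : G → ℂ) ≠ (fun _ => 1) ∧
      (c : G → ℂ) ≠ (fun _ => 1) ∧
      principalBlock M G
        = {χ : IrrCharacter G | (χ : G → ℂ) = (fun _ => 1) ∨ χ = a ∨ χ = b ∨ χ = c} ∧
      (a : G → ℂ) u = (na : ℂ) ∧ (b : G → ℂ) u = (nb : ℂ) ∧ (c : G → ℂ) u = (nc : ℂ) ∧
      na ^ 2 + nb ^ 2 + nc ^ 2 = 3 ∧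
      ∀ y : G, Odd (orderOf y) →
        1 + (na : ℂ) * (a : G → ℂ) y + (nb : ℂ) * (b : G → ℂ) y + (nc : ℂ) * (c : G → ℂ) y = 0 := by
  classical
  have : Fact (Nat.Prime 2) := ⟨Nat.prime_two⟩
  have hpr := isPrime_of_isPModular hM
  have : Fintype (IrrCharacter G) := Fintype.ofFinite _
  have hsq : ∀ x : G, x ∈ P → x * x = 1 := fun x hx => congrArg Subtype.val (hexp ⟨x, hx⟩)
  obtain ⟨u, huP, hu1⟩ : ∃ u : G, u ∈ P ∧ u ≠ 1 := by
    have h1 : 1 < Nat.card P := by
      rw [hP]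
      norm_num
    have hnt : Nontrivial P := Finite.one_lt_card_iff_nontrivial.mp h1
    obtain ⟨x, hx⟩ := exists_ne (1 : P)
    exact ⟨x, x.2, fun h => hx (Subtype.ext h)⟩
  have hu2 : orderOf u = 2 := orderOf_eq_prime (by rw [pow_two]; exact hsq u huP) hu1
  have hG : (Nat.card G).factorization 2 = 2 := by
    have h := P.card_eq_multiplicity
    rw [hP] at h
    have h' : 2 ^ 2 = 2 ^ (Nat.card G).factorization 2 := by
      rw [← h]
      norm_num
    exact (Nat.pow_right_injective (le_refl 2) h').symm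
  have hk := card_principal_of_sylow_four hM hG
  refine ⟨u, hu2, ?_⟩
  let one : IrrCharacter G := ⟨fun _ => 1, isIrrCharacter_one⟩
  have hone' : one ∈ principalBlock M G := sameBlock_refl M _
  set S : Finset (IrrCharacter G) := Finset.univ.filter (· ∈ principalBlock M G) with hS
  have hBS : principalBlock M G = (S : Set (IrrCharacter G)) := by
    ext χ
    simp [hS]
  have hScard : S.card = 4 := by
    rw [← hk, Nat.card_eq_fintype_card, Fintype.card_subtype]
  have honeS : one ∈ S := by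
    rw [hS, Finset.mem_filter]
    exact ⟨Finset.mem_univ _, hone'⟩
  have hE : (S.erase one).card = 3 := by
    rw [Finset.card_erase_of_mem honeS, hScard]
  obtain ⟨a, b, c, hab, hac, hbc, habc⟩ := Finset.card_eq_three.mp hE
  have hSeq : S = insert one {a, b, c} := by
    rw [← habc, Finset.insert_erase honeS]
  have hmemE : ∀ χ : IrrCharacter G, χ ∈ ({a, b, c} : Finset (IrrCharacter G)) → χ ≠ one := by
    intro χ hχ
    rw [← habc] at hχ
    exact Finset.ne_of_mem_erase hχ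
  have ha1 : a ≠ one := hmemE a (by simp)
  have hb1 : b ≠ one := hmemE b (by simp)
  have hc1 : c ≠ one := hmemE c (by simp)
  have hfun : ∀ χ : IrrCharacter G, (χ : G → ℂ) = (fun _ => 1) ↔ χ = one := fun χ =>
    ⟨fun h => Subtype.ext h, fun h => by rw [h]⟩
  obtain ⟨na, hna, -⟩ := Cfsg.Agent.S0944.result a u hu2
  obtain ⟨nb, hnb, -⟩ := Cfsg.Agent.S0944.result b u hu2
  obtain ⟨nc, hnc, -⟩ := Cfsg.Agent.S0944.result c u hu2
  have hsumS : ∀ f : IrrCharacter G → ℂ, ∑ᶠ χ ∈ principalBlock M G, f χ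
      = f one + f a + f b + f c := by
    intro f
    rw [hBS, finsum_mem_coe_finset, hSeq, Finset.sum_insert, Finset.sum_insert,
      Finset.sum_insert, Finset.sum_singleton]
    · ring
    · simpa using hbc
    · simp [hab, hac]
    · simp [ha1.symm, hb1.symm, hc1.symm]
  have hsumR : ∀ f : IrrCharacter G → ℝ, ∑ᶠ χ ∈ principalBlock M G, f χ
      = f one + f a + f b + f c := by
    intro f
    rw [hBS, finsum_mem_coe_finset, hSeq, Finset.sum_insert, Finset.sum_insert,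
      Finset.sum_insert, Finset.sum_singleton]
    · ring
    · simpa using hbc
    · simp [hab, hac]
    · simp [ha1.symm, hb1.symm, hc1.symm]
  refine ⟨a, b, c, na, nb, nc, hab, hac, hbc, fun h => ha1 ((hfun a).mp h),
    fun h => hb1 ((hfun b).mp h), fun h => hc1 ((hfun c).mp h), ?_, hna, hnb, hnc, ?_, ?_⟩
  · ext χ
    rw [hBS, hSeq, Set.mem_ofPred_eq, hfun]
    simp
  · -- the norm sum at the involution
    have hncompl := hasNormalPComplement_centralizer_involution P hP hexp u huP hu1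
    have hidx := index_pPrimeCore_of_complement 2 hncompl
    have h47 := (Cfsg.Agent.S0947.result 2 M hM u ⟨1, by rw [hu2, pow_one]⟩ hu1
      (1 : Subgroup.centralizer ({u} : Set G)) (by rw [orderOf_one]; norm_num)).2 hidx
    have hle : (P : Subgroup G) ≤ Subgroup.centralizer ({u} : Set G) := by
      intro x hx
      rw [Subgroup.mem_centralizer_singleton_iff]
      exact commute_of_sq_eq_one (P : Subgroup G) hexp x u hx huP
    have hCfac : (Nat.card (Subgroup.centralizer ({u} : Set G))).factorization 2 = 2 := by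
      have hpos : Nat.card (Subgroup.centralizer ({u} : Set G)) ≠ 0 := Nat.card_pos.ne'
      have hGpos : Nat.card G ≠ 0 := Nat.card_pos.ne'
      have h1 : 2 ^ 2 ∣ Nat.card (Subgroup.centralizer ({u} : Set G)) := by
        have := Subgroup.card_dvd_of_le hle
        rw [hP] at this
        exact this
      have h2 := (Nat.Prime.pow_dvd_iff_le_factorization Nat.prime_two hpos).mp h1
      have h3 : (Nat.card (Subgroup.centralizer ({u} : Set G))).factorization 2
          ≤ (Nat.card G).factorization 2 :=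
        (Nat.factorization_le_iff_dvd hpos hGpos).mpr (Subgroup.card_subgroup_dvd_card _) 2
      omega
    rw [hCfac, hsumR, Subgroup.coe_one, mul_one, hna, hnb, hnc] at h47
    have h1 : ‖((one : IrrCharacter G) : G → ℂ) u‖ = 1 := by
      show ‖(1 : ℂ)‖ = 1
      exact norm_one
    rw [h1, Complex.norm_intCast, Complex.norm_intCast, Complex.norm_intCast, sq_abs, sq_abs,
      sq_abs] at h47
    have h5 : ((na ^ 2 + nb ^ 2 + nc ^ 2 : ℤ) : ℝ) = ((3 : ℤ) : ℝ) := by
      push_cast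
      push_cast at h47
      linarith
    exact_mod_cast h5
  · intro y hy
    have hy' : ¬ 2 ∣ orderOf y := by
      intro h
      exact (Nat.not_even_iff_odd.mpr hy) (even_iff_two_dvd.mpr h)
    have h0 := block_orth_finsum hM (principalBlock M G) (blockClosed_principal M) y u hy'
      (by rw [hu2])
    rw [hsumS, hna, hnb, hnc] at h0
    have h1 : ((one : IrrCharacter G) : G → ℂ) y * conj (((one : IrrCharacter G) : G → ℂ) u)
        = 1 := by
      show (1 : ℂ) * conj (1 : ℂ) = 1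
      simp
    rw [h1] at h0
    simp only [map_intCast] at h0
    linear_combination h0

/-- the conclusion, once the three nonprincipal characters are named according to their values
at an involution -/
theorem key {G : Type*} [Group G] [Finite G] (M : Ideal AlgInt) (P : Sylow 2 G)
    (hP : Nat.card P = 4) (hexp : ∀ x : P, x * x = 1)
    (hone : ∀ s t : G, orderOf s = 2 → orderOf t = 2 → IsConj s t) (u : G) (hu2 : orderOf u = 2)
    (a b c : IrrCharacter G) (e : ℤ) (he : e = 1 ∨ e = -1)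
    (hab : a ≠ b) (hac : a ≠ c) (hbc : b ≠ c) (ha1 : (a : G → ℂ) ≠ (fun _ => 1))
    (hb1 : (b : G → ℂ) ≠ (fun _ => 1))
    (hset : principalBlock M G
      = {χ : IrrCharacter G | (χ : G → ℂ) = (fun _ => 1) ∨ χ = a ∨ χ = b ∨ χ = c})
    (hva : (a : G → ℂ) u = ((1 : ℤ) : ℂ)) (hvb : (b : G → ℂ) u = (e : ℂ))
    (hvc : (c : G → ℂ) u = ((-1 : ℤ) : ℂ))
    (hrel : ∀ y : G, Odd (orderOf y) →
      1 + ((1 : ℤ) : ℂ) * (a : G → ℂ) y + (e : ℂ) * (b : G → ℂ) y
        + ((-1 : ℤ) : ℂ) * (c : G → ℂ) y = 0) :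
    ∃ ζ₂ ζ₃ ζ₄ : Cfsg.IrrCharacter G, ∃ ε : ℤ, (ε = 1 ∨ ε = -1) ∧ (ζ₂ : G → ℂ) ≠ (fun _ => 1) ∧ (ζ₃ : G → ℂ) ≠ (fun _ => 1) ∧ ζ₂ ≠ ζ₃ ∧ ζ₂ ≠ ζ₄ ∧ ζ₃ ≠ ζ₄ ∧ Cfsg.principalBlock M G = {χ : Cfsg.IrrCharacter G | (χ : G → ℂ) = (fun _ => 1) ∨ χ = ζ₂ ∨ χ = ζ₃ ∨ χ = ζ₄} ∧ (∀ z : G, orderOf z = 2 → (ζ₂ : G → ℂ) z = 1 ∧ (ζ₃ : G → ℂ) z = (ε : ℂ) ∧ (ζ₄ : G → ℂ) z = -1) ∧ (4 : ℤ) ∣ (Cfsg.charDegree (ζ₂ : G → ℂ) : ℤ) - 1 ∧ (4 : ℤ) ∣ (Cfsg.charDegree (ζ₃ : G → ℂ) : ℤ) - ε ∧ (4 : ℤ) ∣ (Cfsg.charDegree (ζ₄ : G → ℂ) : ℤ) + 1 ∧ ∀ y : G, Odd (orderOf y) → 1 + (ζ₂ : G → ℂ) y + (ε : ℂ) * (ζ₃ : G → ℂ) y - (ζ₄ : G → ℂ) y = 0 := by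
  refine ⟨a, b, c, e, he, ha1, hb1, hab, hac, hbc, hset, ?_, ?_, ?_, ?_, ?_⟩
  · intro z hz
    have hc := hone z u hz hu2
    refine ⟨?_, ?_, ?_⟩
    · rw [IsClassFunction.of_isConj (isClassFunction_of_isIrrCharacter a.2) hc, hva]
      simp
    · rw [IsClassFunction.of_isConj (isClassFunction_of_isIrrCharacter b.2) hc, hvb]
    · rw [IsClassFunction.of_isConj (isClassFunction_of_isIrrCharacter c.2) hc, hvc]
      simp
  · exact degree_congr P hP hexp hone u hu2 a 1 hva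
  · exact degree_congr P hP hexp hone u hu2 b e hvb
  · have h := degree_congr P hP hexp hone u hu2 c (-1) hvc
    rwa [sub_neg_eq_add] at h
  · intro y hy
    have h := hrel y hy
    push_cast at h
    linear_combination h

theorem perm_acb {α : Type*} (o : α → Prop) (a b c : α) :
    {x : α | o x ∨ x = a ∨ x = b ∨ x = c} = {x : α | o x ∨ x = a ∨ x = c ∨ x = b} := by
  ext x
  simp only [Set.mem_ofPred_eq]
  tauto

theorem perm_bca {α : Type*} (o : α → Prop) (a b c : α) :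
    {x : α | o x ∨ x = a ∨ x = b ∨ x = c} = {x : α | o x ∨ x = b ∨ x = c ∨ x = a} := by
  ext x
  simp only [Set.mem_ofPred_eq]
  tauto

theorem perm_bac {α : Type*} (o : α → Prop) (a b c : α) :
    {x : α | o x ∨ x = a ∨ x = b ∨ x = c} = {x : α | o x ∨ x = b ∨ x = a ∨ x = c} := by
  ext x
  simp only [Set.mem_ofPred_eq]
  tauto

theorem perm_cab {α : Type*} (o : α → Prop) (a b c : α) :
    {x : α | o x ∨ x = a ∨ x = b ∨ x = c} = {x : α | o x ∨ x = c ∨ x = a ∨ x = b} := by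
  ext x
  simp only [Set.mem_ofPred_eq]
  tauto

/-- Let the finite group G have a Sylow 2-subgroup P that is a Klein four-group, suppose all involutions of G are conjugate, and fix a maximal ideal M of the algebraic integers containing 2. Then the principal block consists of exactly four irreducible characters, the principal character and ζ₂, ζ₃, ζ₄, and there is a sign ε such that for every involution z: ζ₂ z = 1, ζ₃ z = ε, ζ₄ z = -1; moreover ζ₂ 1 ≡ 1, ζ₃ 1 ≡ ε, ζ₄ 1 ≡ -1 (mod 4), and 1 + ζ₂ y + ε ζ₃ y - ζ₄ y = 0 for every y of odd order. -/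
theorem result {G : Type*} [Group G] [Finite G] (M : Ideal Cfsg.AlgInt) (hM : Cfsg.IsPModular 2 M) (P : Sylow 2 G) (hP : IsKleinFour (P : Subgroup G)) (hone : ∀ s t : G, orderOf s = 2 → orderOf t = 2 → IsConj s t) : ∃ ζ₂ ζ₃ ζ₄ : Cfsg.IrrCharacter G, ∃ ε : ℤ, (ε = 1 ∨ ε = -1) ∧ (ζ₂ : G → ℂ) ≠ (fun _ => 1) ∧ (ζ₃ : G → ℂ) ≠ (fun _ => 1) ∧ ζ₂ ≠ ζ₃ ∧ ζ₂ ≠ ζ₄ ∧ ζ₃ ≠ ζ₄ ∧ Cfsg.principalBlock M G = {χ : Cfsg.IrrCharacter G | (χ : G → ℂ) = (fun _ => 1) ∨ χ = ζ₂ ∨ χ = ζ₃ ∨ χ = ζ₄} ∧ (∀ z : G, orderOf z = 2 → (ζ₂ : G → ℂ) z = 1 ∧ (ζ₃ : G → ℂ) z = (ε : ℂ) ∧ (ζ₄ : G → ℂ) z = -1) ∧ (4 : ℤ) ∣ (Cfsg.charDegree (ζ₂ : G → ℂ) : ℤ) - 1 ∧ (4 : ℤ) ∣ (Cfsg.charDegree (ζ₃ : G → ℂ) : ℤ) - ε ∧ (4 : ℤ) ∣ (Cfsg.charDegree (ζ₄ : G → ℂ) : ℤ) + 1 ∧ ∀ y : G, Odd (orderOf y) → 1 + (ζ₂ : G → ℂ) y + (ε : ℂ) * (ζ₃ : G → ℂ) y - (ζ₄ : G → ℂ) y = 0 := by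
  classical
  have : Fintype G := Fintype.ofFinite G
  have hP4 : Nat.card P = 4 := hP.card_four
  have hexp' : ∀ x : (P : Subgroup G), x * x = 1 := by
    intro x
    have h := Monoid.pow_exponent_eq_one x
    rw [hP.exponent_two, pow_two] at h
    exact h
  have hexp : ∀ x : P, x * x = 1 := fun x => hexp' x
  obtain ⟨u, hu2, a, b, c, na, nb, nc, hab, hac, hbc, ha1, hb1, hc1, hset, hna, hnb, hnc, hsq,
    hrel⟩ := main M hM P hP4 hexp
  obtain ⟨da, hda0, hda⟩ := irr_apply_one a.2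
  obtain ⟨db, hdb0, hdb⟩ := irr_apply_one b.2
  obtain ⟨dc, hdc0, hdc⟩ := irr_apply_one c.2
  have h1 := hrel 1 (by rw [orderOf_one]; exact odd_one)
  rw [hda, hdb, hdc] at h1
  have h1' : 1 + na * (da : ℤ) + nb * (db : ℤ) + nc * (dc : ℤ) = 0 := by exact_mod_cast h1
  have hbd : ∀ n m k : ℤ, n ^ 2 + m ^ 2 + k ^ 2 = 3 → n = 1 ∨ n = -1 := by
    intro n m k h
    have h1 : -2 < n := by nlinarith [sq_nonneg m, sq_nonneg k]
    have h2 : n < 2 := by nlinarith [sq_nonneg m, sq_nonneg k]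
    have h3 : -2 < m := by nlinarith [sq_nonneg n, sq_nonneg k]
    have h4 : m < 2 := by nlinarith [sq_nonneg n, sq_nonneg k]
    have h5 : -2 < k := by nlinarith [sq_nonneg n, sq_nonneg m]
    have h6 : k < 2 := by nlinarith [sq_nonneg n, sq_nonneg m]
    interval_cases n <;> interval_cases m <;> interval_cases k <;> simp_all
  have hna' := hbd na nb nc hsq
  have hnb' := hbd nb na nc (by linarith)
  have hnc' := hbd nc na nb (by linarith)
  rcases hna' with rfl | rfl <;> rcases hnb' with rfl | rfl <;> rcases hnc' with rfl | rfl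
  · exfalso
    omega
  · exact key M P hP4 hexp hone u hu2 a b c 1 (Or.inl rfl) hab hac hbc ha1 hb1 hset hna hnb hnc
      hrel
  · exact key M P hP4 hexp hone u hu2 a c b 1 (Or.inl rfl) hac hab hbc.symm ha1 hc1
      (hset.trans (perm_acb _ a b c)) hna hnc hnb
      (fun y hy => by have h := hrel y hy; linear_combination h)
  · exact key M P hP4 hexp hone u hu2 a b c (-1) (Or.inr rfl) hab hac hbc ha1 hb1 hset hna hnb hnc
      hrel
  · exact key M P hP4 hexp hone u hu2 b c a 1 (Or.inl rfl) hbc hab.symm hac.symm hb1 hc1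
      (hset.trans (perm_bca _ a b c)) hnb hnc hna
      (fun y hy => by have h := hrel y hy; linear_combination h)
  · exact key M P hP4 hexp hone u hu2 b a c (-1) (Or.inr rfl) hab.symm hbc hac hb1 ha1
      (hset.trans (perm_bac _ a b c)) hnb hna hnc
      (fun y hy => by have h := hrel y hy; linear_combination h)
  · exact key M P hP4 hexp hone u hu2 c a b (-1) (Or.inr rfl) hac.symm hbc.symm hab hc1 ha1
      (hset.trans (perm_cab _ a b c)) hnc hna hnb
      (fun y hy => by have h := hrel y hy; linear_combination h)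
  · exfalso
    omega

end Cfsg.Agent.S0948
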