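import Cfsg.Statements.S0951
import Mathlib
import Cfsg.Agent.Lib.Helper24.QuatBlockA
import Cfsg.Agent.Lib.Helper24.QuatBlockB
import Cfsg.Agent.Lib.Helper25.Klein
import Cfsg.Agent.Lib.Helper25.KleinOrder

set_option autoImplicit false
open Cfsg

namespace Cfsg.Agent.S0951

open Cfsg.Agent.Lib.Helper24 Cfsg.Agent.Lib.Helper25 in
/-- Let S be a Sylow 2-subgroup of the finite group G isomorphic to the quaternion group of order 8. Suppose G has no nontrivial normal subgroup of odd order and G ≠ S. Then, relative to any maximal ideal M of the algebraic integers containing 2, the principal block of G consists of exactly 7 irreducible characters. -/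
theorem result {G : Type*} [Group G] [Finite G] (M : Ideal Cfsg.AlgInt) (hM : Cfsg.IsPModular 2 M) (S : Sylow 2 G) (e : (S : Subgroup G) ≃* QuaternionGroup 2) (hO : ∀ N : Subgroup G, N.Normal → Odd (Nat.card N) → N = ⊥) (hG : (S : Subgroup G) ≠ ⊤) : Nat.card (Cfsg.principalBlock M G) = 7 := by
  classical
  have : Fact (Nat.Prime 2) := ⟨Nat.prime_two⟩
  have : Fintype G := Fintype.ofFinite G
  obtain ⟨z, hzS, hz1, hzz, hcomm, hinv, hsq, hcent, hconj, y, hyS, hyy⟩ :=
    quat_sub_facts (S : Subgroup G) e
  have hz2 : orderOf z = 2 := orderOf_eq_prime (by rw [pow_two]; exact hzz) hz1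
  have hzc := quat_center S z hz1 hzz hinv hO
  have hconjz : ∀ d : G, d * z * d⁻¹ = z := by
    intro d
    rw [← hzc d, mul_inv_cancel_right]
  haveI hZn : (Subgroup.zpowers z).Normal := by
    constructor
    intro n hn g
    rcases mem_zpowers_order_two z hz2 n hn with rfl | rfl
    · have h1 : g * 1 * g⁻¹ = 1 := by group
      rw [h1]
      exact Subgroup.one_mem _
    · rw [hconjz g]
      exact Subgroup.mem_zpowers n
  -- orders
  set g₀ := (S : Subgroup G).index with hg₀def
  have hS8 : Nat.card (S : Subgroup G) = 8 := by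
    rw [Nat.card_congr e.toEquiv, Nat.card_eq_fintype_card, QuaternionGroup.card]
  have hGcard : Nat.card G = 8 * g₀ := by
    rw [← hS8]
    exact ((S : Subgroup G).card_mul_index).symm
  have hg₀odd : Odd g₀ := by
    rw [← Nat.not_even_iff_odd, even_iff_two_dvd]
    exact S.not_dvd_index
  have hg₀1 : g₀ ≠ 1 := fun h => hG (Subgroup.index_eq_one.mp h)
  have hQcard : Nat.card (G ⧸ Subgroup.zpowers z) = 4 * g₀ := by
    have h1 := Subgroup.card_eq_card_quotient_mul_card_subgroup (Subgroup.zpowers z)
    rw [Nat.card_zpowers, hz2, hGcard] at h1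
    omega
  have hnc := quat_no_complement z hz2 hzc hO g₀ hg₀odd hg₀1 hQcard
  have hmkz : ((z : G) : G ⧸ Subgroup.zpowers z) = 1 :=
    (QuotientGroup.eq_one_iff z).mpr (Subgroup.mem_zpowers z)
  -- elements of order four map to involutions
  have hinvol : ∀ q : G, q * q = z → orderOf (q : G ⧸ Subgroup.zpowers z) = 2 := by
    intro q hqq
    have hJJ : (q : G ⧸ Subgroup.zpowers z) * (q : G ⧸ Subgroup.zpowers z) = 1 := by
      rw [← QuotientGroup.mk_mul, hqq]
      exact hmkz
    have hJ1 : (q : G ⧸ Subgroup.zpowers z) ≠ 1 := by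
      intro h
      have hqZ : q ∈ Subgroup.zpowers z := (QuotientGroup.eq_one_iff q).mp h
      rcases mem_zpowers_order_two z hz2 q hqZ with h | h
      · rw [h, one_mul] at hqq
        exact hz1 hqq.symm
      · rw [h, hzz] at hqq
        exact hz1 hqq.symm
    exact orderOf_eq_prime (by rw [pow_two]; exact hJJ) hJ1
  have hJ2 := hinvol y hyy
  obtain ⟨P, hP⟩ := (isPGroup_zpowers_of_pow (y : G ⧸ Subgroup.zpowers z) 1 (by
    rw [pow_one, ← hJ2]
    exact pow_orderOf_eq_one _)).exists_le_sylow
  have hJP : (y : G ⧸ Subgroup.zpowers z) ∈ (P : Subgroup (G ⧸ Subgroup.zpowers z)) :=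
    hP (Subgroup.mem_zpowers _)
  have hP4 := klein_sylow_card g₀ hg₀odd hQcard P
  have hexp := klein_exponent g₀ hg₀odd hQcard hnc P
  have hfus := klein_involutions_conj g₀ hg₀odd hQcard hnc P _ hJP hJ2
  have hone : ∀ s t : G ⧸ Subgroup.zpowers z, orderOf s = 2 → orderOf t = 2 → IsConj s t := by
    intro s t hs ht
    obtain ⟨g₁, h1⟩ := hfus s hs
    obtain ⟨g₂, h2⟩ := hfus t ht
    rw [← h1, ← h2]
    exact isConj_iff.mpr ⟨g₂ * g₁⁻¹, by group⟩
  have : Fintype (G ⧸ Subgroup.zpowers z) := Fintype.ofFinite _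
  have hrankQ := klein_principal_rank hM P hP4 hexp hone
  have hrankG : blockRank 2 (principalBlock M G) = 3 := by
    rw [rank_quot_central_involution hM z hz2 hzc, hrankQ]
  -- fusion of the elements of order four
  have hyz : y * z = y⁻¹ := by
    rw [eq_inv_iff_mul_eq_one, ← hyy]
    have h1 : y * (y * y) * y = (y * y) * (y * y) := by group
    rw [h1, hyy, hzz]
  have hfusG : ∀ q : G, q ∈ S → q * q = z → IsConj q y := by
    intro q hqS hqq
    obtain ⟨gq, hgq⟩ := hfus _ (hinvol q hqq)
    obtain ⟨g, rfl⟩ := QuotientGroup.mk_surjective gq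
    have h1 : ((g * y * g⁻¹ : G) : G ⧸ Subgroup.zpowers z) = (q : G ⧸ Subgroup.zpowers z) := hgq
    have h2 : (g * y * g⁻¹)⁻¹ * q ∈ Subgroup.zpowers z := QuotientGroup.eq.mp h1
    rcases mem_zpowers_order_two z hz2 _ h2 with h | h
    · have h3 : q = g * y * g⁻¹ := by
        rw [inv_mul_eq_one] at h
        exact h.symm
      rw [h3]
      exact (isConj_iff.mpr ⟨g, rfl⟩).symm
    · have h3 : q = g * y * g⁻¹ * z := by
        rw [← h]
        group
      obtain ⟨r, hrS, hr⟩ := hconj y hyS hyy
      have h4 : q = (g * r) * y * (g * r)⁻¹ := by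
        rw [h3]
        calc g * y * g⁻¹ * z = g * y * (g⁻¹ * z) := by group
          _ = g * y * (z * g⁻¹) := by rw [hzc g⁻¹]
          _ = g * (y * z) * g⁻¹ := by group
          _ = g * (r * y * r⁻¹) * g⁻¹ := by rw [hyz, hr]
          _ = (g * r) * y * (g * r)⁻¹ := by group
      rw [h4]
      exact (isConj_iff.mpr ⟨g * r, rfl⟩).symm
  have hy4 : orderOf y = 4 := by
    have h1 : y ^ 4 = 1 := by
      rw [show (4 : ℕ) = 2 + 2 from rfl, pow_add, pow_two, hyy, hzz]
    have h2 := orderOf_eq_prime_pow (p := 2) (n := 1) (x := y)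
      (by rw [pow_one, pow_two, hyy]; exact hz1) (by norm_num; exact h1)
    rw [h2]
    norm_num
  have hy1 : y ≠ 1 := by
    rintro rfl
    rw [one_mul] at hyy
    exact hz1 hyy.symm
  have hzy : z ≠ y := by
    intro h
    rw [← h, hzz] at hyy
    exact hz1 hyy.symm
  have hXrep : ∀ g : G, (∃ k : ℕ, orderOf g = 2 ^ k) → g ≠ 1 →
      ∃! x, x ∈ ({z, y} : Finset G) ∧ IsConj g x := by
    rintro g ⟨k, hk⟩ hg1
    have hgk : g ^ 2 ^ k = 1 := by
      rw [← hk]
      exact pow_orderOf_eq_one g
    obtain ⟨c, a₀, -, ha₀, -, ha, -⟩ := pair_in_sylow S g g k k hgk hgk rfl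
    have ha₀1 : a₀ ≠ 1 := by
      rintro rfl
      apply hg1
      rw [ha]
      group
    by_cases ha₀z : a₀ = z
    · have hgz : g = z := by rw [ha, ha₀z, hconjz c]
      refine ⟨z, ⟨by simp, by rw [hgz]⟩, ?_⟩
      rintro x ⟨hx, hxc⟩
      rw [Finset.mem_insert, Finset.mem_singleton] at hx
      rcases hx with rfl | rfl
      · rfl
      · exfalso
        rw [hgz] at hxc
        obtain ⟨d, hd⟩ := isConj_iff.mp hxc
        apply hzy
        rw [← hd, hconjz d]
    · have ha₀sq := hsq a₀ ha₀ ha₀1 ha₀z
      have hcy : IsConj g y := by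
        have h1 := hfusG a₀ ha₀ ha₀sq
        have h2 : IsConj g a₀ := by
          rw [ha]
          exact (isConj_iff.mpr ⟨c, rfl⟩).symm
        exact h2.trans h1
      refine ⟨y, ⟨by simp, hcy⟩, ?_⟩
      rintro x ⟨hx, hxc⟩
      rw [Finset.mem_insert, Finset.mem_singleton] at hx
      rcases hx with rfl | rfl
      · exfalso
        obtain ⟨d, hd⟩ := isConj_iff.mp hxc
        apply ha₀z
        have h3 : g = d⁻¹ * x * d := by
          rw [← hd]
          group
        have h4 : g = x := by
          rw [h3]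
          have := hconjz d⁻¹
          rw [inv_inv] at this
          exact this
        have h5 : a₀ = c⁻¹ * g * c := by
          rw [ha]
          group
        rw [h5, h4]
        have := hconjz c⁻¹
        rw [inv_inv] at this
        exact this
      · rfl
  have hB : IsPBlock M (principalBlock M G) := ⟨Lib.Helper8.trivIrr G, rfl⟩
  have hcount := card_block_eq_rank_add hM (principalBlock M G) hB {z, y} (by
      intro x hx
      rw [Finset.mem_insert, Finset.mem_singleton] at hx
      rcases hx with rfl | rfl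
      · exact ⟨1, by rw [hz2, pow_one]⟩
      · exact ⟨2, by rw [hy4]; norm_num⟩)
    (by
      rw [Finset.mem_insert, Finset.mem_singleton]
      rintro (h | h)
      · exact hz1 h.symm
      · exact hy1 h.symm)
    hXrep
  rw [Finset.sum_pair hzy, finsum_induced_principal hM z ⟨1, by rw [hz2, pow_one]⟩,
    finsum_induced_principal hM y ⟨2, by rw [hy4]; norm_num⟩, hrankG] at hcount
  have hCz : Subgroup.centralizer ({z} : Set G) = ⊤ := by
    rw [eq_top_iff]
    intro g _
    rw [Subgroup.mem_centralizer_singleton_iff]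
    exact (hzc g).symm
  have hrz : blockRank 2 (principalBlock M (Subgroup.centralizer ({z} : Set G))) = 3 := by
    rw [blockRank_principal_iso 2 M ((MulEquiv.subgroupCongr hCz).trans Subgroup.topEquiv),
      hrankG]
  have hncy := quat_centralizer_complement S z y hz1 hzz hsq hcent hyy
  have : Fintype (Subgroup.centralizer ({y} : Set G)) := Fintype.ofFinite _
  have hry := (Cfsg.Agent.S4646.result 2 M hM).mp ((Cfsg.Agent.S4691.result 2 M hM).mp hncy)
  rw [hrz, hry] at hcount
  exact hcount

end Cfsg.Agent.S0951
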