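import Cfsg.Statements.S0975
import Cfsg.Agent.Lib.Helper26.ExcChar3

set_option autoImplicit false
open Cfsg

namespace Cfsg.Agent.S0975

open Cfsg.Agent.Lib.Helper2 Cfsg.Agent.Lib.Lead.TIFN Cfsg.Agent.Lib.Helper8 Cfsg.Agent.Lib.Helper26.ExcChar


theorem arith1 (d y : ℕ) (hd : d ∣ 288) (hd1 : d ≠ 1) (hm : d % 13 = 1)
    (hy : 288 = (d + 1) * y) : False := by
  have hdle : d ≤ 288 := Nat.le_of_dvd (by norm_num) hd
  interval_cases d <;> omega

theorem arith2 (x y : ℕ) (hd : (x + 1) ∣ 288) (hm : (x + 1) % 13 = 12)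
    (hy : 288 = x * y) : False := by
  have hdle : x + 1 ≤ 288 := Nat.le_of_dvd (by norm_num) hd
  have hxle : x ≤ 287 := by omega
  interval_cases x <;> omega

/-- No finite simple group has order 3744 = 2^5 * 3^2 * 13. -/
theorem result {G : Type*} [Group G] [Finite G] [IsSimpleGroup G] : Nat.card G ≠ 3744 := by
  intro hcard
  classical
  have : Fintype G := Fintype.ofFinite G
  have : Fintype (Cfsg.IrrCharacter G) := Fintype.ofFinite _
  have : Fact (Nat.Prime 13) := ⟨by norm_num⟩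
  have hG : Nat.card G = 13 ^ 1 * 288 := by rw [hcard]; norm_num
  have hm : ¬ 13 ∣ 288 := by norm_num
  obtain ⟨P⟩ : Nonempty (Sylow 13 G) := inferInstance
  have hP : Nat.card (P : Subgroup G) = 13 := by
    have := sylow_card_of_card_eq 1 288 hm hG P
    simpa using this
  have hn1 : Nat.card (Sylow 13 G) ∣ 288 := card_sylow_dvd_of_card_eq 1 288 hm hG
  have hn2 : Nat.card (Sylow 13 G) % 13 = 1 := card_sylow_mod
  have hn3 : Nat.card (Sylow 13 G) ≠ 1 :=
    card_sylow_ne_one_of_simple P (by rw [hP]; norm_num) (by rw [hP, hcard]; norm_num)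
  have hn : Nat.card (Sylow 13 G) = 144 := by
    have hle : Nat.card (Sylow 13 G) ≤ 288 := Nat.le_of_dvd (by norm_num) hn1
    generalize Nat.card (Sylow 13 G) = n at hn1 hn2 hn3 hle
    interval_cases n <;> omega
  have hN : Nat.card (Subgroup.normalizer ((P : Subgroup G) : Set G)) = 13 * 2 := by
    have h := card_sylow_mul_card_normalizer P
    rw [hn, hcard] at h
    omega
  have hnc := not_normalizer_le_centralizer_of_simple P (by rw [hP]; norm_num)
    (by rw [hP, hcard]; norm_num)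
  obtain ⟨hTI, hlt, hC, hab, hidx⟩ := sylow_prime_data P hP 2 Nat.prime_two hN hnc
  obtain ⟨ε, c₀, x, E, c, hε, hEcard, hE, ⟨mx, hx⟩, hnE, hsq, hlin⟩ :=
    exc_data (P : Subgroup G) hTI hlt hC hab 13 2 hP (by norm_num) hidx
  have hE6 : E.card = 6 := by omega
  have hperf : commutator G = ⊤ := commutator_eq_top_of_simple (by rw [hcard]; norm_num)
  obtain ⟨T, hT⟩ : ∃ T : Cfsg.IrrCharacter G, T = Cfsg.Agent.S4757.trivChar G := ⟨_, rfl⟩
  have hdT : deg T = 1 := by rw [hT]; exact deg_triv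
  have hTE : T ∉ E := by
    intro hTE
    have hx1 : x = 1 := by rw [← (hE T hTE).1, hdT]
    have hall : ∀ ψ ∈ E, ψ = T := by
      intro ψ hψ
      rw [hT]
      exact deg_one_eq_triv hperf ψ (by rw [(hE ψ hψ).1, hx1])
    have : E.card ≤ 1 := Finset.card_le_one.mpr (fun a ha b hb => by rw [hall a ha, hall b hb])
    omega
  obtain ⟨k₁, hk₁, hk₁ne⟩ : ∃ k ∈ (P : Subgroup G), k ≠ 1 := by
    rcases (P : Subgroup G).bot_or_exists_ne_one with h | h
    · exfalso
      rw [h, Subgroup.card_bot] at hP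
      omega
    · exact h
  have hcT : c T = 1 := by
    have h := (hnE T hTE).2 k₁ hk₁ hk₁ne
    have h2 : (T : G → ℂ) k₁ = 1 := by rw [hT]; rfl
    rw [h2] at h
    exact_mod_cast h.symm
  have hge : (1 : ℤ) + 6 * c₀ ^ 2 ≤ ∑ ψ, c ψ ^ 2 := by
    calc (1 : ℤ) + 6 * c₀ ^ 2 = ∑ ψ ∈ insert T E, c ψ ^ 2 := by
          rw [Finset.sum_insert hTE, hcT,
            Finset.sum_congr rfl (fun ψ hψ => by rw [(hE ψ hψ).2]), Finset.sum_const, hE6]
          simp
      _ ≤ ∑ ψ, c ψ ^ 2 :=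
          Finset.sum_le_sum_of_subset_of_nonneg (Finset.subset_univ _)
            (fun i _ _ => sq_nonneg _)
  have hc0 : c₀ = 0 := by
    rw [hsq] at hge
    push_cast at hge
    by_contra hne
    rcases lt_or_gt_of_ne hne with h | h
    · have h1 : 0 ≤ c₀ ^ 2 + c₀ := by
        nlinarith [mul_nonneg (show (0:ℤ) ≤ -c₀ - 1 by omega) (show (0:ℤ) ≤ -c₀ by omega)]
      rcases hε with rfl | rfl <;> nlinarith
    · have h1 : 0 ≤ c₀ ^ 2 - c₀ := by
        nlinarith [mul_nonneg (show (0:ℤ) ≤ c₀ - 1 by omega) (show (0:ℤ) ≤ c₀ by omega)]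
      rcases hε with rfl | rfl <;> nlinarith
  rw [hc0] at hsq hx
  have hsum1 : ∑ ψ ∈ Finset.univ.erase T, c ψ ^ 2 = 1 := by
    have := Finset.sum_erase_add Finset.univ (fun ψ => c ψ ^ 2) (Finset.mem_univ T)
    rw [hsq, hcT] at this
    push_cast at this
    linarith
  obtain ⟨ψ₁, hψ₁, hc1, hrest⟩ := peel (Finset.univ.erase T) c 1 one_pos hsum1
  have hrest_nonneg : 0 ≤ ∑ j ∈ (Finset.univ.erase T).erase ψ₁, c j ^ 2 :=
    Finset.sum_nonneg (fun i _ => sq_nonneg _)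
  have hc1sq : c ψ₁ ^ 2 = 1 := by
    have h1 : 1 ≤ c ψ₁ ^ 2 := by
      rcases lt_or_gt_of_ne hc1 with h | h <;> nlinarith
    linarith
  have hzero : ∀ ψ ∈ (Finset.univ.erase T).erase ψ₁, c ψ = 0 := by
    apply sum_sq_eq_zero
    rw [hrest, hc1sq]
    ring
  have hlin' : c ψ₁ * (deg ψ₁ : ℤ) + 1 = ε * x := by
    have h1 := Finset.sum_erase_add Finset.univ (fun ψ => c ψ * (deg ψ : ℤ)) (Finset.mem_univ T)
    have h2 := Finset.sum_erase_add (Finset.univ.erase T) (fun ψ => c ψ * (deg ψ : ℤ)) hψ₁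
    have h3 : ∑ ψ ∈ (Finset.univ.erase T).erase ψ₁, c ψ * (deg ψ : ℤ) = 0 :=
      Finset.sum_eq_zero (fun ψ hψ => by rw [hzero ψ hψ, zero_mul])
    rw [h3] at h2
    rw [← h2, hlin, hcT, hdT] at h1
    push_cast at h1
    linarith
  have hψ₁E : ψ₁ ∉ E := by
    intro h
    apply hc1
    rw [(hE ψ₁ h).2, hc0]
  have hψ₁T : ψ₁ ≠ T := (Finset.mem_erase.mp hψ₁).1
  have hd1 : deg ψ₁ ≠ 1 := by
    intro h
    apply hψ₁T
    rw [hT]
    exact deg_one_eq_triv hperf ψ₁ h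
  obtain ⟨m, hm⟩ := (hnE ψ₁ hψ₁E).1
  have hddvd : deg ψ₁ ∣ 3744 := hcard ▸ deg_dvd_card ψ₁
  have hxdvd : x ∣ 3744 := by
    obtain ⟨ψe, hψe⟩ : E.Nonempty := Finset.card_pos.mp (by omega)
    rw [← (hE ψe hψe).1]
    exact hcard ▸ deg_dvd_card ψe
  have hdpos : 0 < deg ψ₁ := deg_pos ψ₁
  generalize deg ψ₁ = d at hlin' hd1 hm hddvd hdpos
  have h13 : Nat.Prime 13 := by norm_num
  have hδ : c ψ₁ = 1 ∨ c ψ₁ = -1 := by
    have h : (c ψ₁ - 1) * (c ψ₁ + 1) = 0 := by linear_combination hc1sq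
    rcases mul_eq_zero.mp h with h | h
    · left; linarith
    · right; linarith
  have hd13 : ¬ 13 ∣ d := by
    rcases hδ with h | h <;> rw [h] at hm <;> omega
  have hx13 : ¬ 13 ∣ x := by
    rcases hε with h | h <;> rw [h] at hx <;> omega
  have hd288 : d ∣ 288 :=
    Nat.Coprime.dvd_of_dvd_mul_left ((Nat.Prime.coprime_iff_not_dvd h13).mpr hd13).symm
      (show d ∣ 288 * 13 from hddvd)
  have hx288 : x ∣ 288 :=
    Nat.Coprime.dvd_of_dvd_mul_left ((Nat.Prime.coprime_iff_not_dvd h13).mpr hx13).symm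
      (show x ∣ 288 * 13 from hxdvd)
  obtain ⟨y, hy⟩ := hx288
  have hdle : d ≤ 288 := Nat.le_of_dvd (by norm_num) hd288
  rcases hδ with h | h <;> rcases hε with h' | h' <;>
    rw [h] at hlin' hm <;> rw [h'] at hlin' hx
  · have hxd : x = d + 1 := by omega
    exact arith1 d y hd288 hd1 (by omega) (by rw [← hxd]; exact hy)
  · omega
  · omega
  · have hxd : d = x + 1 := by omega
    exact arith2 x y (by rw [← hxd]; exact hd288) (by omega) hy

end Cfsg.Agent.S0975
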