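import Cfsg.Statements.S0979
import Cfsg.Agent.Lib.Helper26.ExcChar3

set_option autoImplicit false
open Cfsg

namespace Cfsg.Agent.S0979

open Cfsg.Agent.Lib.Helper2 Cfsg.Agent.Lib.Lead.TIFN Cfsg.Agent.Lib.Helper8 Cfsg.Agent.Lib.Helper26.ExcChar


theorem c0_zero (ε c₀ : ℤ) (hε : ε = 1 ∨ ε = -1) (h : 1 + 6 * c₀ ^ 2 ≤ 3 + 2 * ε * c₀) :
    c₀ = 0 := by
  by_contra hne
  rcases lt_or_gt_of_ne hne with h' | h'
  · have h1 : 0 ≤ c₀ ^ 2 + c₀ := by
      nlinarith [mul_nonneg (show (0:ℤ) ≤ -c₀ - 1 by omega) (show (0:ℤ) ≤ -c₀ by omega)]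
    rcases hε with rfl | rfl <;> nlinarith
  · have h1 : 0 ≤ c₀ ^ 2 - c₀ := by
      nlinarith [mul_nonneg (show (0:ℤ) ≤ c₀ - 1 by omega) (show (0:ℤ) ≤ c₀ by omega)]
    rcases hε with rfl | rfl <;> nlinarith

theorem sq_le_two (z : ℤ) (h0 : z ≠ 0) (h : z ^ 2 ≤ 2) : z ^ 2 = 1 := by
  have h3 : z ≤ 1 := by nlinarith
  have h4 : -1 ≤ z := by nlinarith
  have h5 : z = 1 ∨ z = -1 := by omega
  rcases h5 with h | h <;> rw [h] <;> norm_num

theorem dval (d : ℕ) (hd : d ∣ 288) (hd1 : d ≠ 1) :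
    (d % 19 = 1 → d = 96) ∧ (d % 19 = 18 → d = 18) := by
  have hdle : d ≤ 288 := Nat.le_of_dvd (by norm_num) hd
  interval_cases d <;> omega

theorem xval (x : ℕ) (hx : x ∣ 288) : x ≠ 193 ∧ x ≠ 79 ∧ x ≠ 35 := by
  refine ⟨?_, ?_, ?_⟩ <;> rintro rfl <;> omega

/-- No finite simple group has order 5472 = 2^5 * 3^2 * 19. -/
theorem result {G : Type*} [Group G] [Finite G] [IsSimpleGroup G] : Nat.card G ≠ 5472 := by
  intro hcard
  classical
  have : Fintype G := Fintype.ofFinite G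
  have : Fintype (Cfsg.IrrCharacter G) := Fintype.ofFinite _
  have : Fact (Nat.Prime 19) := ⟨by norm_num⟩
  have hG : Nat.card G = 19 ^ 1 * 288 := by rw [hcard]; norm_num
  have hm : ¬ 19 ∣ 288 := by norm_num
  obtain ⟨P⟩ : Nonempty (Sylow 19 G) := inferInstance
  have hP : Nat.card (P : Subgroup G) = 19 := by
    have := sylow_card_of_card_eq 1 288 hm hG P
    simpa using this
  have hn1 : Nat.card (Sylow 19 G) ∣ 288 := card_sylow_dvd_of_card_eq 1 288 hm hG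
  have hn2 : Nat.card (Sylow 19 G) % 19 = 1 := card_sylow_mod
  have hn3 : Nat.card (Sylow 19 G) ≠ 1 :=
    card_sylow_ne_one_of_simple P (by rw [hP]; norm_num) (by rw [hP, hcard]; norm_num)
  have hn : Nat.card (Sylow 19 G) = 96 := by
    have hle : Nat.card (Sylow 19 G) ≤ 288 := Nat.le_of_dvd (by norm_num) hn1
    generalize Nat.card (Sylow 19 G) = n at hn1 hn2 hn3 hle
    interval_cases n <;> omega
  have hN : Nat.card (Subgroup.normalizer ((P : Subgroup G) : Set G)) = 19 * 3 := by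
    have h := card_sylow_mul_card_normalizer P
    rw [hn, hcard] at h
    omega
  have hnc := not_normalizer_le_centralizer_of_simple P (by rw [hP]; norm_num)
    (by rw [hP, hcard]; norm_num)
  obtain ⟨hTI, hlt, hC, hab, hidx⟩ := sylow_prime_data P hP 3 Nat.prime_three hN hnc
  obtain ⟨ε, c₀, x, E, c, hε, hEcard, hE, ⟨mx, hx⟩, hnE, hsq, hlin⟩ :=
    exc_data (P : Subgroup G) hTI hlt hC hab 19 3 hP (by norm_num) hidx
  have hE6 : E.card = 6 := by omega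
  have hperf : commutator G = ⊤ := commutator_eq_top_of_simple (by rw [hcard]; norm_num)
  obtain ⟨T, hT⟩ : ∃ T : Cfsg.IrrCharacter G, T = Cfsg.Agent.S4757.trivChar G := ⟨_, rfl⟩
  have hdT : deg T = 1 := by rw [hT]; exact deg_triv
  have hTE : T ∉ E := by
    intro hTE
    have hx1 : x = 1 := by rw [← (hE T hTE).1, hdT]
    have hall : ∀ ψ ∈ E, ψ = T := by
      intro ψ hψ
      rw [hT]
      exact deg_one_eq_triv hperf ψ (by rw [(hE ψ hψ).1, hx1])
    have : E.card ≤ 1 := Finset.card_le_one.mpr (fun a ha b hb => by rw [hall a ha, hall b hb])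
    omega
  obtain ⟨k₁, hk₁, hk₁ne⟩ : ∃ k ∈ (P : Subgroup G), k ≠ 1 := by
    rcases (P : Subgroup G).bot_or_exists_ne_one with h | h
    · exfalso
      rw [h, Subgroup.card_bot] at hP
      omega
    · exact h
  have hcT : c T = 1 := by
    have h := (hnE T hTE).2 k₁ hk₁ hk₁ne
    have h2 : (T : G → ℂ) k₁ = 1 := by rw [hT]; rfl
    rw [h2] at h
    exact_mod_cast h.symm
  have hge : (1 : ℤ) + 6 * c₀ ^ 2 ≤ ∑ ψ, c ψ ^ 2 := by
    calc (1 : ℤ) + 6 * c₀ ^ 2 = ∑ ψ ∈ insert T E, c ψ ^ 2 := by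
          rw [Finset.sum_insert hTE, hcT,
            Finset.sum_congr rfl (fun ψ hψ => by rw [(hE ψ hψ).2]), Finset.sum_const, hE6]
          simp
      _ ≤ ∑ ψ, c ψ ^ 2 :=
          Finset.sum_le_sum_of_subset_of_nonneg (Finset.subset_univ _)
            (fun i _ _ => sq_nonneg _)
  have hc0 : c₀ = 0 := by
    rw [hsq] at hge
    push_cast at hge
    exact c0_zero ε c₀ hε hge
  rw [hc0] at hsq hx
  have hsum1 : ∑ ψ ∈ Finset.univ.erase T, c ψ ^ 2 = 2 := by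
    have := Finset.sum_erase_add Finset.univ (fun ψ => c ψ ^ 2) (Finset.mem_univ T)
    rw [hsq, hcT] at this
    push_cast at this
    linarith
  obtain ⟨ψ₁, hψ₁, hc1, hrest⟩ := peel (Finset.univ.erase T) c 2 two_pos hsum1
  have hrest_nonneg : 0 ≤ ∑ j ∈ (Finset.univ.erase T).erase ψ₁, c j ^ 2 :=
    Finset.sum_nonneg (fun i _ => sq_nonneg _)
  have hc1sq : c ψ₁ ^ 2 = 1 := sq_le_two (c ψ₁) hc1 (by linarith)
  rw [hc1sq] at hrest
  have hrest' : ∑ j ∈ (Finset.univ.erase T).erase ψ₁, c j ^ 2 = 1 := by rw [hrest]; norm_num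
  obtain ⟨ψ₂, hψ₂, hc2, hrest2⟩ := peel ((Finset.univ.erase T).erase ψ₁) c 1 one_pos hrest'
  have hrest2_nonneg : 0 ≤ ∑ j ∈ ((Finset.univ.erase T).erase ψ₁).erase ψ₂, c j ^ 2 :=
    Finset.sum_nonneg (fun i _ => sq_nonneg _)
  have hc2sq : c ψ₂ ^ 2 = 1 := sq_le_two (c ψ₂) hc2 (by linarith)
  have hzero : ∀ ψ ∈ ((Finset.univ.erase T).erase ψ₁).erase ψ₂, c ψ = 0 := by
    apply sum_sq_eq_zero
    rw [hrest2, hc2sq]
    ring
  have hlin' : c ψ₁ * (deg ψ₁ : ℤ) + c ψ₂ * (deg ψ₂ : ℤ) + 1 = ε * x := by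
    have h1 := Finset.sum_erase_add Finset.univ (fun ψ => c ψ * (deg ψ : ℤ)) (Finset.mem_univ T)
    have h2 := Finset.sum_erase_add (Finset.univ.erase T) (fun ψ => c ψ * (deg ψ : ℤ)) hψ₁
    have h2' := Finset.sum_erase_add ((Finset.univ.erase T).erase ψ₁)
      (fun ψ => c ψ * (deg ψ : ℤ)) hψ₂
    have h3 : ∑ ψ ∈ ((Finset.univ.erase T).erase ψ₁).erase ψ₂, c ψ * (deg ψ : ℤ) = 0 :=
      Finset.sum_eq_zero (fun ψ hψ => by rw [hzero ψ hψ, zero_mul])
    rw [h3] at h2'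
    rw [← h2'] at h2
    rw [← h2, hlin, hcT, hdT] at h1
    push_cast at h1
    linarith
  have hfacts : ∀ ψ : Cfsg.IrrCharacter G, ψ ≠ T → c ψ ^ 2 = 1 →
      ((c ψ = 1 ∧ deg ψ = 96) ∨ (c ψ = -1 ∧ deg ψ = 18)) := by
    intro ψ hψT hcsq
    have hψE : ψ ∉ E := by
      intro h
      rw [(hE ψ h).2, hc0] at hcsq
      norm_num at hcsq
    have hd1 : deg ψ ≠ 1 := by
      intro h
      apply hψT
      rw [hT]
      exact deg_one_eq_triv hperf ψ h
    obtain ⟨m, hm⟩ := (hnE ψ hψE).1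
    have hddvd : deg ψ ∣ 5472 := hcard ▸ deg_dvd_card ψ
    have hdpos : 0 < deg ψ := deg_pos ψ
    generalize deg ψ = d at hd1 hm hddvd hdpos ⊢
    have h19 : Nat.Prime 19 := by norm_num
    have hδ : c ψ = 1 ∨ c ψ = -1 := by
      have h : (c ψ - 1) * (c ψ + 1) = 0 := by linear_combination hcsq
      rcases mul_eq_zero.mp h with h | h
      · left; linarith
      · right; linarith
    have hd19 : ¬ 19 ∣ d := by
      rcases hδ with h | h <;> rw [h] at hm <;> omega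
    have hd288 : d ∣ 288 :=
      Nat.Coprime.dvd_of_dvd_mul_left ((Nat.Prime.coprime_iff_not_dvd h19).mpr hd19).symm
        (show d ∣ 288 * 19 from hddvd)
    rcases hδ with h | h
    · left
      rw [h] at hm
      exact ⟨h, (dval d hd288 hd1).1 (by omega)⟩
    · right
      rw [h] at hm
      exact ⟨h, (dval d hd288 hd1).2 (by omega)⟩
  have hψ₁T : ψ₁ ≠ T := (Finset.mem_erase.mp hψ₁).1
  have hψ₂T : ψ₂ ≠ T := (Finset.mem_erase.mp (Finset.mem_erase.mp hψ₂).2).1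
  have hxdvd : x ∣ 5472 := by
    obtain ⟨ψe, hψe⟩ : E.Nonempty := Finset.card_pos.mp (by omega)
    rw [← (hE ψe hψe).1]
    exact hcard ▸ deg_dvd_card ψe
  have h19 : Nat.Prime 19 := by norm_num
  have hx19 : ¬ 19 ∣ x := by
    rcases hε with h | h <;> rw [h] at hx <;> omega
  have hx288 : x ∣ 288 :=
    Nat.Coprime.dvd_of_dvd_mul_left ((Nat.Prime.coprime_iff_not_dvd h19).mpr hx19).symm
      (show x ∣ 288 * 19 from hxdvd)
  obtain ⟨hxa, hxb, hxc⟩ := xval x hx288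
  rcases hfacts ψ₁ hψ₁T hc1sq with ⟨h1, h1'⟩ | ⟨h1, h1'⟩ <;>
    rcases hfacts ψ₂ hψ₂T hc2sq with ⟨h2, h2'⟩ | ⟨h2, h2'⟩ <;>
    rcases hε with h' | h' <;>
    rw [h1, h1', h2, h2', h'] at hlin' <;> omega

end Cfsg.Agent.S0979
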