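import Mathlib
import Cfsg.Statements.S0994
import Cfsg.Agent.Lib.Helper8.SimpleAux

set_option autoImplicit false
open Cfsg

namespace Cfsg.Agent.S0994

open Cfsg.Agent.Lib.Helper8 Subgroup

theorem result {G : Type*} [Group G] [Finite G] [IsSimpleGroup G] : Nat.card G ≠ 1188 := by
  intro hG
  haveI : Fact (Nat.Prime 11) := ⟨by norm_num⟩
  have hG' : Nat.card G = 11 ^ 1 * 108 := by rw [hG]; norm_num
  obtain ⟨P⟩ : Nonempty (Sylow 11 G) := inferInstance
  have hPcard : Nat.card P = 11 := by
    have := sylow_card_of_card_eq (G := G) (p := 11) 1 108 (by norm_num) hG' P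
    simpa using this
  have hdvd : Nat.card (Sylow 11 G) ∣ 108 :=
    card_sylow_dvd_of_card_eq (G := G) (p := 11) 1 108 (by norm_num) hG'
  have hmod : Nat.card (Sylow 11 G) % 11 = 1 := card_sylow_mod
  have hne1 : Nat.card (Sylow 11 G) ≠ 1 :=
    card_sylow_ne_one_of_simple P (by rw [hPcard]; norm_num) (by rw [hPcard, hG]; norm_num)
  have hn : Nat.card (Sylow 11 G) = 12 := by
    have hle : Nat.card (Sylow 11 G) ≤ 108 := Nat.le_of_dvd (by norm_num) hdvd
    generalize Nat.card (Sylow 11 G) = n at *
    interval_cases n <;> simp_all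
  have hN : Nat.card (normalizer ((P : Subgroup G) : Set G)) = 99 := by
    have := card_sylow_mul_card_normalizer P
    rw [hn, hG] at this
    omega
  haveI : IsCyclic (P : Subgroup G) := by
    apply isCyclic_of_prime_card (p := 11)
    exact hPcard
  have h1 := relIndex_centralizer_normalizer_dvd_totient (P : Subgroup G)
  rw [hPcard, Nat.totient_prime (by norm_num)] at h1
  have h2 : (centralizer ((P : Subgroup G) : Set G)).relIndex (normalizer ((P : Subgroup G) : Set G)) ∣ 99 := by
    rw [← hN]
    exact Subgroup.relIndex_dvd_card _ _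
  have h3 : (centralizer ((P : Subgroup G) : Set G)).relIndex (normalizer ((P : Subgroup G) : Set G)) = 1 := by
    have := Nat.dvd_gcd h1 h2
    simpa using this
  exact not_normalizer_le_centralizer_of_simple P (by rw [hPcard]; norm_num)
    (by rw [hPcard, hG]; norm_num) (Subgroup.relIndex_eq_one.1 h3)

end Cfsg.Agent.S0994
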