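import Cfsg.Statements.S1239
import Mathlib
import Cfsg.Agent.Lib.Helper10.WrIso2
import Cfsg.Agent.Lib.Helper10.QD5
import Cfsg.Agent.Lib.Helper10.ZS7

set_option autoImplicit false
open Cfsg

namespace Cfsg.Agent.S1239

/-- Let X be a finite group whose Sylow 2-subgroup S is quasi-dihedral or wreathed, and suppose some involution of S is isolated in X. Then the product of the largest normal odd-order subgroup O(X) with the centre of S is normal in X. -/
theorem result {X : Type*} [Group X] [Finite X] (S : Sylow 2 X) (hS : Cfsg.IsQuasiDihedral (S : Subgroup X) ∨ Cfsg.IsWreathed (S : Subgroup X)) (z : X) (hzS : z ∈ S) (hz : Cfsg.IsIsolatedInvolution z) : (Cfsg.oddCore X ⊔ (Subgroup.center (S : Subgroup X)).map (S : Subgroup X).subtype).Normal := by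
  classical
  haveI : Fact (Nat.Prime 2) := ⟨Nat.prime_two⟩
  obtain ⟨Z, hZ⟩ : ∃ Z : Subgroup X,
      Z = (Subgroup.center (S : Subgroup X)).map (S : Subgroup X).subtype := ⟨_, rfl⟩
  rw [← hZ]
  have hZS : Z ≤ (S : Subgroup X) := by rw [hZ]; exact Subgroup.map_subtype_le _
  have hZc : ∀ a ∈ Z, ∀ s ∈ (S : Subgroup X), s * a = a * s := by
    intro a ha s hs
    rw [hZ] at ha
    obtain ⟨a', ha', rfl⟩ := ha
    have := Subgroup.mem_center_iff.1 ha' ⟨s, hs⟩
    exact congrArg Subtype.val this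
  haveI hOn : (Cfsg.pPrimeCore 2 X).Normal := Cfsg.Agent.Lib.Helper1.pPrimeCore_normal 2
  obtain ⟨O, hOdef⟩ : ∃ O : Subgroup X, O = Cfsg.pPrimeCore 2 X := ⟨_, rfl⟩
  haveI hOn' : O.Normal := by rw [hOdef]; exact hOn
  rw [show Cfsg.oddCore X = O from hOdef.symm]
  have hcop : Nat.Coprime (Nat.card O) 2 := by
    rw [hOdef]; exact Cfsg.Agent.Lib.Helper1.pPrimeCore_coprime 2
  have hSO : ∀ u ∈ (S : Subgroup X), u ∈ O → u = 1 := by
    intro u hu huO
    obtain ⟨k, hk⟩ := (IsPGroup.iff_orderOf.1 S.isPGroup') ⟨u, hu⟩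
    rw [Subgroup.orderOf_mk] at hk
    have h1 : orderOf u ∣ Nat.card O := by
      have := orderOf_dvd_natCard (⟨u, huO⟩ : ↥O)
      rwa [Subgroup.orderOf_mk] at this
    have h2 : orderOf u ∣ 2 ^ k := hk ▸ dvd_rfl
    have h3 : orderOf u ∣ Nat.gcd (Nat.card O) (2 ^ k) := Nat.dvd_gcd h1 h2
    rw [Nat.Coprime.pow_right k hcop] at h3
    exact orderOf_eq_one_iff.1 (Nat.dvd_one.1 h3)
  have hzstar : ∀ g : X, z * g * z⁻¹ * g⁻¹ ∈ O := by
    intro g; rw [hOdef]; exact Cfsg.Agent.Lib.Helper10.ZS.zstar z hz g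
  have hzc : ∀ s ∈ (S : Subgroup X), s * z = z * s := by
    intro s hs
    have h1 := hzstar s
    have h2 : z * s * z⁻¹ * s⁻¹ ∈ (S : Subgroup X) :=
      mul_mem (mul_mem (mul_mem hzS hs) (inv_mem hzS)) (inv_mem hs)
    have h3 := hSO _ h2 h1
    have : z * s = s * z := by
      calc z * s = (z * s * z⁻¹ * s⁻¹) * (s * z) := by group
        _ = s * z := by rw [h3, one_mul]
    exact this.symm
  have hcen : ∀ a ∈ Z, ∀ h : X, a * h * a⁻¹ * h⁻¹ ∈ O := by
    rcases hS with hQD | hW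
    · obtain ⟨n, x, y, d⟩ := Cfsg.Agent.Lib.Helper10.QD.exists_data hQD
      have hcard := Cfsg.Agent.Lib.Helper10.QD.card_center d
      have hzcen : (⟨z, hzS⟩ : ↥(S : Subgroup X)) ∈ Subgroup.center ↥(S : Subgroup X) := by
        rw [Subgroup.mem_center_iff]
        intro s; apply Subtype.ext; exact hzc s s.2
      have hz1 : z ≠ 1 := Cfsg.Agent.Lib.Helper10.orderOf_two_ne_one hz.1
      have h2 : ∀ c : ↥(Subgroup.center ↥(S : Subgroup X)), c = 1 ∨ c = ⟨⟨z, hzS⟩, hzcen⟩ := by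
        have hne : (⟨⟨z, hzS⟩, hzcen⟩ : ↥(Subgroup.center ↥(S : Subgroup X))) ≠ 1 := by
          intro h; apply hz1
          exact congrArg
            (fun c : ↥(Subgroup.center ↥(S : Subgroup X)) => ((c : ↥(S : Subgroup X)) : X)) h
        obtain ⟨y0, hy0, hyu⟩ :=
          (Nat.card_eq_two_iff' (1 : ↥(Subgroup.center ↥(S : Subgroup X)))).1 hcard
        intro c
        by_cases hc : c = 1
        · left; exact hc
        · right; rw [hyu c hc, hyu _ hne]
      intro a ha h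
      rw [hZ] at ha
      obtain ⟨a', ha', rfl⟩ := ha
      rcases h2 ⟨a', ha'⟩ with h3 | h3
      · have : a' = 1 := congrArg Subtype.val h3
        rw [this]; simp [one_mem]
      · have : a' = ⟨z, hzS⟩ := congrArg Subtype.val h3
        rw [this]; exact hzstar h
    · obtain ⟨n, x, y, t, d⟩ := Cfsg.Agent.Lib.Helper10.Wr.exists_data hW
      have w := Cfsg.Agent.Lib.Helper10.ZS.wr_setup S d z hzS hz hzc
      intro a ha h
      rw [hOdef]
      refine Cfsg.Agent.Lib.Helper10.ZS.wc_central S a (hZS ha) (hZc a ha) (fun j g hg => ?_) h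
      have hfix := Cfsg.Agent.Lib.Helper10.ZS.fus_S w (a ^ j) (pow_mem (hZS ha) j)
        (fun s hs => ((show Commute s a from hZc a ha s hs).pow_right j).eq) g hg
      rw [hfix]; exact Subgroup.mem_zpowers _
  refine ⟨fun n hn g => ?_⟩
  obtain ⟨o, ho, z', hz', rfl⟩ := Subgroup.mem_sup_of_normal_left.1 hn
  have h1 : g * z' * g⁻¹ * z'⁻¹ ∈ O := by
    have := inv_mem (hcen z' hz' g)
    have e : (z' * g * z'⁻¹ * g⁻¹)⁻¹ = g * z' * g⁻¹ * z'⁻¹ := by group
    rwa [e] at this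
  have e : g * (o * z') * g⁻¹ = ((g * o * g⁻¹) * (g * z' * g⁻¹ * z'⁻¹)) * z' := by group
  rw [e]
  exact mul_mem (Subgroup.mem_sup_left (mul_mem (hOn'.conj_mem o ho g) h1))
    (Subgroup.mem_sup_right hz')

end Cfsg.Agent.S1239
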