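import Cfsg.Statements.S1249
import Cfsg.Agent.Lib.Helper10.Basic

set_option autoImplicit false
open Cfsg

namespace Cfsg.Agent.S1249

open Cfsg.Agent.Lib.Helper10 in
/-- Let P and Q be Sylow p-subgroups of the finite group G both containing the subgroup A. If A is strongly closed in P, then A is strongly closed in Q. -/
theorem result {G : Type*} [Group G] [Finite G] {p : ℕ} [Fact p.Prime] (P Q : Sylow p G) (A : Subgroup G) (hAQ : A ≤ Q) (hA : Cfsg.IsStronglyClosed A (P : Subgroup G)) : Cfsg.IsStronglyClosed A (Q : Subgroup G) := by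
  obtain ⟨hAP, hcl⟩ := hA
  refine ⟨hAQ, ?_⟩
  obtain ⟨h, rfl⟩ := MulAction.exists_smul_eq G P Q
  have key : ∀ x : G, x ∈ (h • P : Sylow p G) ↔ h⁻¹ * x * h ∈ P := mem_smul_sylow_iff P h
  -- conjugation by h⁻¹ maps A into A
  have hmap : ∀ a ∈ A, h⁻¹ * a * h ∈ A := by
    intro a ha
    have h1 : h⁻¹ * a * h ∈ (P : Subgroup G) := (key a).1 (hAQ ha)
    have := hcl a ha h⁻¹ (by rw [inv_inv]; exact h1)
    rw [inv_inv] at this; exact this
  -- hence conjugation by h maps A into A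
  have hmap' : ∀ y ∈ A, h * y * h⁻¹ ∈ A := by
    let f : A → A := fun a => ⟨h⁻¹ * a.1 * h, hmap a.1 a.2⟩
    have hf : Function.Injective f := by
      intro a b hab
      have : h⁻¹ * a.1 * h = h⁻¹ * b.1 * h := congrArg Subtype.val hab
      apply Subtype.ext
      simpa using this
    have hs : Function.Surjective f := Finite.surjective_of_injective hf
    intro y hy
    obtain ⟨a, ha⟩ := hs ⟨y, hy⟩
    have : h⁻¹ * a.1 * h = y := congrArg Subtype.val ha
    have e : h * y * h⁻¹ = a.1 := by rw [← this]; group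
    rw [e]; exact a.2
  intro x hx g hg
  have h1 : h⁻¹ * (g * x * g⁻¹) * h ∈ (P : Subgroup G) := (key _).1 hg
  have h2 : (h⁻¹ * g) * x * (h⁻¹ * g)⁻¹ ∈ A := by
    apply hcl x hx
    have : (h⁻¹ * g) * x * (h⁻¹ * g)⁻¹ = h⁻¹ * (g * x * g⁻¹) * h := by group
    rw [this]; exact h1
  have h3 := hmap' _ h2
  have : h * ((h⁻¹ * g) * x * (h⁻¹ * g)⁻¹) * h⁻¹ = g * x * g⁻¹ := by group
  rw [this] at h3
  exact h3

end Cfsg.Agent.S1249
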