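import Cfsg.Statements.S1250
import Cfsg.Agent.Lib.Helper10.Basic

set_option autoImplicit false
open Cfsg

namespace Cfsg.Agent.S1250

open Cfsg.Agent.Lib.Helper10 in
/-- Let S be a Sylow p-subgroup of the finite group G, A ≤ S strongly closed in S, and N a normal subgroup. Then the image of A in G ⧸ N is strongly closed in the image of S (which is a Sylow p-subgroup of G ⧸ N). -/
theorem result {G : Type*} [Group G] [Finite G] {p : ℕ} [Fact p.Prime] (S : Sylow p G) (A : Subgroup G) (hA : Cfsg.IsStronglyClosed A (S : Subgroup G)) (N : Subgroup G) [N.Normal] : Cfsg.IsStronglyClosed (A.map (QuotientGroup.mk' N)) ((S : Subgroup G).map (QuotientGroup.mk' N)) := by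
  obtain ⟨hAS, hcl⟩ := hA
  refine ⟨Subgroup.map_mono hAS, ?_⟩
  rintro _ ⟨a, ha, rfl⟩ gbar hg
  obtain ⟨g, rfl⟩ := QuotientGroup.mk'_surjective N gbar
  obtain ⟨s, hs, hsy⟩ := hg
  set y := g * a * g⁻¹ with hy
  have hsy' : (QuotientGroup.mk' N) s = (QuotientGroup.mk' N) y := by
    rw [hsy, hy]; simp
  -- y ∈ N ⊔ S
  have hyM : y ∈ N ⊔ (S : Subgroup G) := by
    have h1 : s⁻¹ * y ∈ N := by
      have := QuotientGroup.eq.1 hsy'
      exact this
    have : y = s * (s⁻¹ * y) := by group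
    rw [this]
    exact Subgroup.mul_mem _ (Subgroup.mem_sup_right hs) (Subgroup.mem_sup_left h1)
  -- ⟨y⟩ is a p-group
  have hyp : IsPGroup p (Subgroup.zpowers y) := by
    have h1 : IsPGroup p (Subgroup.zpowers a) := S.2.to_le ((Subgroup.zpowers_le).2 (hAS ha))
    have h2 : Subgroup.zpowers y = (Subgroup.zpowers a).map (MulAut.conj g).toMonoidHom := by
      rw [MonoidHom.map_zpowers]
      simp [hy, MulAut.conj_apply]
    rw [h2]; exact h1.map _
  obtain ⟨m, hm, hmy⟩ := exists_conj_mem_sylow_of_le S (N ⊔ (S : Subgroup G)) (Subgroup.zpowers y)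
    le_sup_right ((Subgroup.zpowers_le).2 hyM) hyp
  have hmy' := hmy y (Subgroup.mem_zpowers y)
  -- m = n * s'
  have hm' : m ∈ ((N ⊔ (S : Subgroup G) : Subgroup G) : Set G) := hm
  rw [Subgroup.normal_mul] at hm'
  obtain ⟨n, hn, s', hs', rfl⟩ := hm'
  have h3 : n⁻¹ * y * n ∈ (S : Subgroup G) := by
    have : n⁻¹ * y * n = s' * ((n * s')⁻¹ * y * (n * s')) * s'⁻¹ := by group
    rw [this]
    exact Subgroup.mul_mem _ (Subgroup.mul_mem _ hs' hmy') (Subgroup.inv_mem _ hs')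
  have h4 : (n⁻¹ * g) * a * (n⁻¹ * g)⁻¹ ∈ A := by
    apply hcl a ha
    have : (n⁻¹ * g) * a * (n⁻¹ * g)⁻¹ = n⁻¹ * y * n := by rw [hy]; group
    rw [this]; exact h3
  refine ⟨(n⁻¹ * g) * a * (n⁻¹ * g)⁻¹, h4, ?_⟩
  have hn1 : (QuotientGroup.mk' N) n = 1 := by
    rw [QuotientGroup.mk'_apply, QuotientGroup.eq_one_iff]; exact hn
  simp only [map_mul, map_inv, hn1, inv_one, one_mul]

end Cfsg.Agent.S1250
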