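import Cfsg.Statements.S1251
import Cfsg.Agent.Lib.Helper10.ZS7
import Cfsg.Agent.Lib.Helper14.Cores
import Cfsg.Agent.Lib.Helper5.StrClosed

set_option autoImplicit false
open Cfsg

namespace Cfsg.Agent.S1251

open Cfsg.Agent.Lib.Helper5 in
/-- One step: if `a ∈ A` and `a ^ 2` centralizes `H`, then `a` centralizes `H` (Glauberman's
`Z*`-theorem applied to the image of `a` in `(H ⊔ ⟨a⟩) ⧸ ⟨a ^ 2⟩`). -/
theorem sc_step {G : Type*} [Group G] [Finite G] (S : Sylow 2 G) (A : Subgroup G)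
    (hA : Cfsg.IsStronglyClosed A (S : Subgroup G)) (H : Subgroup G)
    (hAH : A ≤ Subgroup.normalizer (H : Set G)) (hO : Cfsg.oddCore ↥H = ⊥) (hdisj : A ⊓ H = ⊥)
    (a : G) (ha : a ∈ A) (ha2 : a ^ 2 ∈ Subgroup.centralizer (H : Set G)) :
    a ∈ Subgroup.centralizer (H : Set G) := by
  classical
  by_cases hcase : a ∈ Subgroup.zpowers (a ^ 2)
  · exact (Subgroup.zpowers_le.mpr ha2) hcase
  obtain ⟨K, hK⟩ : ∃ K : Subgroup G, K = H ⊔ Subgroup.zpowers a := ⟨_, rfl⟩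
  have hHK : H ≤ K := hK ▸ le_sup_left
  have haK : a ∈ K := hK ▸ (le_sup_right : Subgroup.zpowers a ≤ _) (Subgroup.mem_zpowers a)
  have hzA : Subgroup.zpowers a ≤ A := Subgroup.zpowers_le.mpr ha
  have hKle : K ≤ H ⊔ A := hK ▸ sup_le_sup_left hzA H
  have hA2 : IsPGroup 2 A := S.isPGroup'.to_le hA.1
  obtain ⟨n, hn⟩ := hA2 ⟨a, ha⟩
  have hn' : a ^ 2 ^ n = 1 := by
    have h1 := congrArg Subtype.val hn
    simpa using h1
  obtain ⟨N, hN⟩ : ∃ N : Subgroup K, N = (Subgroup.zpowers (a ^ 2)).subgroupOf K := ⟨_, rfl⟩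
  have hcen : ∀ k ∈ K, k * a ^ 2 = a ^ 2 * k := by
    intro k hk
    obtain ⟨h, hh, b, hb, rfl⟩ := sc_exists_mul H (Subgroup.zpowers a) (hzA.trans hAH) k (hK ▸ hk)
    obtain ⟨i, rfl⟩ := Subgroup.mem_zpowers_iff.mp hb
    have h1 : h * a ^ 2 = a ^ 2 * h := Subgroup.mem_centralizer_iff.mp ha2 h hh
    have h2 : a ^ i * a ^ 2 = a ^ 2 * a ^ i := (((Commute.refl a).zpow_left i).pow_right 2).eq
    calc h * a ^ i * a ^ 2 = h * (a ^ i * a ^ 2) := by rw [mul_assoc]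
      _ = h * (a ^ 2 * a ^ i) := by rw [h2]
      _ = (h * a ^ 2) * a ^ i := by rw [mul_assoc]
      _ = a ^ 2 * h * a ^ i := by rw [h1]
      _ = a ^ 2 * (h * a ^ i) := by rw [mul_assoc]
  have hNn : N.Normal := by
    constructor
    intro x hx g
    rw [hN, Subgroup.mem_subgroupOf] at hx ⊢
    have h1 : ((g * x * g⁻¹ : K) : G) = (x : G) := by
      obtain ⟨j, hj⟩ := Subgroup.mem_zpowers_iff.mp hx
      have h2 : (g : G) * (a ^ 2) ^ j = (a ^ 2) ^ j * (g : G) :=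
        (Commute.zpow_right (hcen g g.2) j).eq
      rw [Subgroup.coe_mul, Subgroup.coe_mul, Subgroup.coe_inv, ← hj, h2, mul_inv_cancel_right]
    rw [h1]; exact hx
  obtain ⟨π, hπ⟩ : ∃ π : K →* K ⧸ N, π = QuotientGroup.mk' N := ⟨_, rfl⟩
  have hker : ∀ x : K, π x = 1 ↔ (x : G) ∈ Subgroup.zpowers (a ^ 2) := by
    intro x
    rw [hπ, QuotientGroup.mk'_apply, QuotientGroup.eq_one_iff, hN, Subgroup.mem_subgroupOf]
  have hsurj : Function.Surjective π := by rw [hπ]; exact QuotientGroup.mk'_surjective N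
  obtain ⟨z, hz⟩ : ∃ z : K ⧸ N, z = π ⟨a, haK⟩ := ⟨_, rfl⟩
  have hz1 : z ≠ 1 := by
    rw [hz]; intro h1
    exact hcase ((hker _).mp h1)
  have hz2 : z ^ 2 = 1 := by
    rw [hz, ← map_pow, hker]
    exact Subgroup.mem_zpowers (a ^ 2)
  have hzo : orderOf z = 2 := orderOf_eq_prime hz2 hz1
  have hPz : IsPGroup 2 (Subgroup.zpowers z) := sc_isPGroup_zpowers z 1 (by rw [pow_one]; exact hz2)
  have hPN : IsPGroup 2 π.ker := by
    rw [hπ, QuotientGroup.ker_mk', hN]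
    apply IsPGroup.comap_subtype
    apply sc_isPGroup_zpowers (a ^ 2) n
    rw [← pow_mul, mul_comm, pow_mul, hn', one_pow]
  -- the image of `a` is an isolated involution
  have hiso : Cfsg.IsIsolatedInvolution z := by
    refine ⟨hzo, ?_⟩
    intro q hq
    obtain ⟨k, rfl⟩ := hsurj q
    obtain ⟨h, hh, b, hb, hkb⟩ :=
      sc_exists_mul H (Subgroup.zpowers a) (hzA.trans hAH) (k : G) (hK ▸ k.2)
    obtain ⟨i, rfl⟩ := Subgroup.mem_zpowers_iff.mp hb
    have hbK : h * a * h⁻¹ ∈ K := K.mul_mem (K.mul_mem (hHK hh) haK) (K.inv_mem (hHK hh))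
    have hconj : π k * z * (π k)⁻¹ = π ⟨h * a * h⁻¹, hbK⟩ := by
      rw [hz, ← map_inv, ← map_mul, ← map_mul]
      congr 1
      apply Subtype.ext
      rw [Subgroup.coe_mul, Subgroup.coe_mul, Subgroup.coe_inv, hkb]
      show h * a ^ i * a * (h * a ^ i)⁻¹ = h * a * h⁻¹
      group
    have hq2 : (π k * z * (π k)⁻¹) ^ 2 = 1 := by
      rw [conj_pow, hz2, mul_one, mul_inv_cancel]
    have hPq : IsPGroup 2 (Subgroup.zpowers (π k * z * (π k)⁻¹)) :=
      sc_isPGroup_zpowers _ 1 (by rw [pow_one]; exact hq2)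
    have hD := sc_isPGroup_sup_zpowers z (π k * z * (π k)⁻¹) hq hPz hPq
    have hP := (hD.comap_of_ker_isPGroup π hPN).map K.subtype
    have h1 := sc_fusion S A hA H hAH hdisj _ hP
      (by
        intro x hx
        obtain ⟨y, -, rfl⟩ := Subgroup.mem_map.mp hx
        exact hKle y.2)
      a ha
      (Subgroup.mem_map.mpr ⟨⟨a, haK⟩, Subgroup.mem_comap.mpr
        (hz ▸ (le_sup_left : Subgroup.zpowers z ≤ _) (Subgroup.mem_zpowers z)), rfl⟩)
      h hh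
      (Subgroup.mem_map.mpr ⟨⟨h * a * h⁻¹, hbK⟩, Subgroup.mem_comap.mpr
        (hconj ▸ (le_sup_right : Subgroup.zpowers (π k * z * (π k)⁻¹) ≤ _)
          (Subgroup.mem_zpowers _)), rfl⟩)
    rw [hconj, hz]
    congr 1
    exact Subtype.ext h1
  have hzs := Cfsg.Agent.Lib.Helper10.ZS.zstar z hiso
  -- the restriction of `π` to `H` is injective
  obtain ⟨φ, hφ⟩ : ∃ φ : H →* K ⧸ N, φ = π.comp (Subgroup.inclusion hHK) := ⟨_, rfl⟩
  have hφinj : Function.Injective φ := by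
    rw [injective_iff_map_eq_one]
    intro x hx
    rw [hφ, MonoidHom.comp_apply, hker] at hx
    have h1 : (x : G) ∈ A ⊓ H := Subgroup.mem_inf.mpr
      ⟨hzA ((Subgroup.zpowers_le.mpr (Subgroup.pow_mem _ (Subgroup.mem_zpowers a) 2)) hx), x.2⟩
    rw [hdisj, Subgroup.mem_bot] at h1
    exact Subtype.ext h1
  have hOH : (Cfsg.oddCore (K ⧸ N)).comap φ = ⊥ := by
    have h1 : (Nat.card ((Cfsg.oddCore (K ⧸ N)).comap φ)).Coprime 2 :=
      Nat.Coprime.coprime_dvd_left (Subgroup.card_comap_dvd_of_injective _ φ hφinj)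
        (Cfsg.Agent.Lib.Helper14.pPrimeCore_coprime 2)
    have h2 := Cfsg.Agent.Lib.Helper14.le_pPrimeCore 2 (inferInstance :
      ((Cfsg.oddCore (K ⧸ N)).comap φ).Normal) h1
    rw [← le_bot_iff]
    exact hO ▸ h2
  rw [Subgroup.mem_centralizer_iff]
  intro h hh
  have hc : a * h * a⁻¹ * h⁻¹ ∈ H :=
    H.mul_mem (sc_conj_mem H a (hAH ha) h hh) (H.inv_mem hh)
  have h1 : (⟨a * h * a⁻¹ * h⁻¹, hc⟩ : H) ∈ (Cfsg.oddCore (K ⧸ N)).comap φ := by
    rw [Subgroup.mem_comap]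
    have h2 := hzs (π ⟨h, hHK hh⟩)
    have h3 : φ ⟨a * h * a⁻¹ * h⁻¹, hc⟩ = z * π ⟨h, hHK hh⟩ * z⁻¹ * (π ⟨h, hHK hh⟩)⁻¹ := by
      rw [hφ, hz, MonoidHom.comp_apply, ← map_inv, ← map_inv, ← map_mul, ← map_mul, ← map_mul]
      congr 1
    rw [h3]; exact h2
  rw [hOH, Subgroup.mem_bot] at h1
  have h4 : a * h * a⁻¹ * h⁻¹ = 1 := congrArg Subtype.val h1
  have h5 : a * h = h * a := by
    calc a * h = (a * h * a⁻¹ * h⁻¹) * (h * a) := by group
      _ = h * a := by rw [h4, one_mul]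
  exact h5.symm

/-- Let S be a Sylow 2-subgroup of the finite group G and A ≤ S strongly closed in S. If H is a subgroup normalized by A with no nontrivial normal subgroup of odd order and A ∩ H = 1, then A ≤ C_G(H). -/
theorem result {G : Type*} [Group G] [Finite G] (S : Sylow 2 G) (A : Subgroup G) (hA : Cfsg.IsStronglyClosed A (S : Subgroup G)) (H : Subgroup G) (hAH : A ≤ Subgroup.normalizer (H : Set G)) (hO : Cfsg.oddCore ↥H = ⊥) (hdisj : A ⊓ H = ⊥) : A ≤ Subgroup.centralizer (H : Set G) := by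
  have key : ∀ n : ℕ, ∀ a ∈ A, a ^ 2 ^ n = 1 → a ∈ Subgroup.centralizer (H : Set G) := by
    intro n
    induction n with
    | zero =>
      intro a ha h1
      rw [pow_zero, pow_one] at h1
      rw [h1]; exact Subgroup.one_mem _
    | succ n ih =>
      intro a ha h1
      have h2 : (a ^ 2) ^ 2 ^ n = 1 := by rw [← pow_mul, ← pow_succ']; exact h1
      exact sc_step S A hA H hAH hO hdisj a ha (ih (a ^ 2) (A.pow_mem ha 2) h2)
  intro a ha
  have hA2 : IsPGroup 2 A := S.isPGroup'.to_le hA.1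
  obtain ⟨n, hn⟩ := hA2 ⟨a, ha⟩
  have hn' : a ^ 2 ^ n = 1 := by
    have h1 := congrArg Subtype.val hn
    simpa using h1
  exact key n a ha hn'

end Cfsg.Agent.S1251
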