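import Cfsg.Statements.S1253
import Cfsg.Agent.Lib.Helper21.IsoInv
import Cfsg.Agent.Lib.Helper19.WOrder
import Cfsg.Agent.Lib.Helper21.CoprimeHall

set_option autoImplicit false
open Cfsg

namespace Cfsg.Agent.S1253

open Cfsg.Agent.Lib.Helper21

/-- Let z be an isolated involution of the finite group G with centralizer C, p an odd prime and P a Sylow p-subgroup of G normalized by z. Then P ∩ C has p-power-free index in C (it is a Sylow p-subgroup of C), and |P : C_P(z)| equals the number of elements x ∈ P with z x z⁻¹ = x⁻¹. -/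
theorem result {G : Type*} [Group G] [Finite G] (z : G) (hz : Cfsg.IsIsolatedInvolution z) {p : ℕ} [Fact p.Prime] (hp : p ≠ 2) (P : Sylow p G) (hzP : z ∈ Subgroup.normalizer ((P : Subgroup G) : Set G)) : ¬ p ∣ ((P : Subgroup G) ⊓ Subgroup.centralizer ({z} : Set G)).relIndex (Subgroup.centralizer ({z} : Set G)) ∧ ((P : Subgroup G) ⊓ Subgroup.centralizer ({z} : Set G)).relIndex (P : Subgroup G) = Nat.card {x : G // x ∈ P ∧ z * x * z⁻¹ = x⁻¹} := by
  classical
  have hpp : p.Prime := Fact.out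
  have hzz : z * z = 1 := Cfsg.Agent.Lib.Helper10.orderOf_two_mul_self hz.1
  have hzi : z⁻¹ = z := inv_eq_of_mul_eq_one_left hzz
  obtain ⟨C, hC⟩ : ∃ C : Subgroup G, C = Subgroup.centralizer ({z} : Set G) := ⟨_, rfl⟩
  rw [← hC]
  have hCmem : ∀ x : G, x ∈ C ↔ z * x = x * z := by
    intro x
    rw [hC, Subgroup.mem_centralizer_iff]
    exact ⟨fun h => h z rfl, fun h y hy => by rw [Set.mem_singleton_iff.mp hy]; exact h⟩
  have hPodd : ∀ x ∈ (P : Subgroup G), Odd (orderOf x) := by
    intro x hx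
    obtain ⟨k, hk⟩ := (IsPGroup.iff_orderOf.mp P.isPGroup') ⟨x, hx⟩
    rw [Subgroup.orderOf_mk] at hk
    rw [hk]; exact (hpp.odd_of_ne_two hp).pow
  have hconj : ∀ x ∈ (P : Subgroup G), z * x * z⁻¹ ∈ (P : Subgroup G) := fun x hx =>
    (Subgroup.mem_normalizer_iff.mp hzP x).mp hx
  refine ⟨?_, ?_⟩
  · obtain ⟨O, hO⟩ : ∃ O : Subgroup G, O = Cfsg.pPrimeCore 2 G := ⟨_, rfl⟩
    haveI hOn : O.Normal := hO ▸ Cfsg.Agent.Lib.Helper1.pPrimeCore_normal 2
    have hOcop : (Nat.card O).Coprime 2 := hO ▸ Cfsg.Agent.Lib.Helper1.pPrimeCore_coprime 2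
    obtain ⟨Y, hY⟩ : ∃ Y : Subgroup G, Y = (P : Subgroup G) ⊔ O := ⟨_, rfl⟩
    have hPY : (P : Subgroup G) ≤ Y := hY ▸ le_sup_left
    have hOY : O ≤ Y := hY ▸ le_sup_right
    have hYodd : ¬ 2 ∣ Nat.card Y := by
      intro h2
      have h1 := card_sup_mul_card_inf (P : Subgroup G) O
      rw [← hY] at h1
      have h3 : 2 ∣ Nat.card (P : Subgroup G) * Nat.card O := h1 ▸ Dvd.dvd.mul_right h2 _
      rcases (Nat.Prime.dvd_mul Nat.prime_two).mp h3 with h | h
      · obtain ⟨k, hk⟩ := IsPGroup.iff_card.mp P.isPGroup'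
        rw [hk] at h
        have h5 := Nat.Prime.dvd_of_dvd_pow Nat.prime_two h
        exact hp ((Nat.prime_dvd_prime_iff_eq Nat.prime_two hpp).mp h5).symm
      · have h4 : (2 : ℕ) ∣ Nat.gcd (Nat.card O) 2 := Nat.dvd_gcd h dvd_rfl
        rw [hOcop] at h4
        omega
    have hAY : Subgroup.zpowers z ≤ Subgroup.normalizer (Y : Set G) := by
      rw [hY]
      apply le_normalizer_sup_of_le (Subgroup.zpowers_le.mpr hzP)
      rw [Subgroup.normalizer_eq_top]
      exact le_top
    have hidx : ¬ p ∣ (P : Subgroup G).relIndex Y := fun h =>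
      P.not_dvd_index (h.trans (Subgroup.relIndex_dvd_index_of_le hPY))
    have hcard := Cfsg.Agent.Lib.Helper19.WOrder.card_inf_centralizer_of_sylow (p := 2)
      (Subgroup.zpowers z) Y (P : Subgroup G) (zpowers_comm z) (isPGroup_two_zpowers hz.1) hYodd hAY
      hPY P.isPGroup' hidx (Subgroup.zpowers_le.mpr hzP) ({z} : Set G)
      (Set.singleton_subset_iff.mpr (Subgroup.mem_zpowers z))
    rw [← hC] at hcard
    have hle1 : (P : Subgroup G) ⊓ C ≤ Y ⊓ C := inf_le_inf_right C hPY
    have h1 : ¬ p ∣ ((P : Subgroup G) ⊓ C).relIndex (Y ⊓ C) := by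
      intro hdvd
      have h2 := card_mul_relIndex hle1
      rw [hcard] at h2
      have h3 : p ^ ((Nat.card ↥(Y ⊓ C)).factorization p + 1) ∣ Nat.card ↥(Y ⊓ C) := by
        rw [pow_succ]
        calc p ^ (Nat.card ↥(Y ⊓ C)).factorization p * p
            ∣ p ^ (Nat.card ↥(Y ⊓ C)).factorization p *
              ((P : Subgroup G) ⊓ C).relIndex (Y ⊓ C) := Nat.mul_dvd_mul_left _ hdvd
          _ = Nat.card ↥(Y ⊓ C) := h2
      exact Nat.pow_succ_factorization_not_dvd Nat.card_pos.ne' hpp h3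
    have h2 : ¬ p ∣ (Y ⊓ C).relIndex C := by
      rw [Subgroup.inf_relIndex_right]
      have hφ : Function.Surjective ((QuotientGroup.mk' O).comp C.subtype) := by
        intro q
        obtain ⟨g, rfl⟩ := QuotientGroup.mk'_surjective O q
        obtain ⟨o, ho, c, hc, rfl⟩ := iso_exists_core_mul_cent hz g
        rw [← hO] at ho
        rw [← hC] at hc
        refine ⟨⟨c, hc⟩, ?_⟩
        show (QuotientGroup.mk' O) c = (QuotientGroup.mk' O) (o * c)
        have e : (QuotientGroup.mk' O) o = 1 := (QuotientGroup.eq_one_iff o).mpr ho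
        rw [map_mul, e, one_mul]
      have hsub : Y.subgroupOf C =
          (Y.map (QuotientGroup.mk' O)).comap ((QuotientGroup.mk' O).comp C.subtype) := by
        rw [← Subgroup.comap_comap, Subgroup.comap_map_eq, QuotientGroup.ker_mk',
          sup_eq_left.mpr hOY]
        rfl
      have hidxY : Y.relIndex C = Y.index := by
        show (Y.subgroupOf C).index = _
        rw [hsub, Subgroup.index_comap_of_surjective _ hφ]
        have h5 := Subgroup.index_comap_of_surjective (Y.map (QuotientGroup.mk' O))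
          (QuotientGroup.mk'_surjective O)
        rw [← h5, Subgroup.comap_map_eq, QuotientGroup.ker_mk', sup_eq_left.mpr hOY]
      rw [hidxY]
      exact fun h => P.not_dvd_index (h.trans (Subgroup.index_dvd_of_le hPY))
    rw [← Subgroup.relIndex_mul_relIndex _ _ _ hle1 inf_le_right]
    intro h
    rcases hpp.dvd_mul.mp h with h | h
    · exact h1 h
    · exact h2 h
  · obtain ⟨φ, hφdef⟩ : ∃ φ : MulAut G, φ = MulAut.conj z := ⟨_, rfl⟩
    have hφ : ∀ x, φ x = z * x * z⁻¹ := fun x => by rw [hφdef]; rfl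
    have hφφ : ∀ x, φ (φ x) = x := by
      intro x
      rw [hφ, hφ]
      have e : z * (z * x * z⁻¹) * z⁻¹ = (z * z) * x * (z * z)⁻¹ := by group
      rw [e, hzz]; group
    have hφP : ∀ x ∈ (P : Subgroup G), φ x ∈ (P : Subgroup G) := fun x hx => by
      rw [hφ]; exact hconj x hx
    obtain ⟨K, hK⟩ : ∃ K : Subgroup ↥(P : Subgroup G),
        K = ((P : Subgroup G) ⊓ C).subgroupOf (P : Subgroup G) := ⟨_, rfl⟩
    have hKmem : ∀ x : ↥(P : Subgroup G), x ∈ K ↔ φ (x : G) = (x : G) := by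
      intro x
      rw [hK, Subgroup.mem_subgroupOf, Subgroup.mem_inf, hCmem, hφ]
      constructor
      · rintro ⟨-, h⟩
        rw [h]; group
      · intro h
        refine ⟨x.2, ?_⟩
        calc z * (x : G) = (z * (x : G) * z⁻¹) * z := by group
          _ = (x : G) * z := by rw [h]
    show (((P : Subgroup G) ⊓ C).subgroupOf (P : Subgroup G)).index = _
    rw [← hK]
    let f : ↥(P : Subgroup G) → {x : G // x ∈ P ∧ z * x * z⁻¹ = x⁻¹} := fun x =>
      ⟨(x : G) * (φ (x : G))⁻¹, (P : Subgroup G).mul_mem x.2 ((P : Subgroup G).inv_mem (hφP x x.2)), by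
        rw [← hφ, map_mul, map_inv, hφφ]; group⟩
    have hf : ∀ x, ((f x : {x : G // x ∈ P ∧ z * x * z⁻¹ = x⁻¹}) : G) = (x : G) * (φ (x : G))⁻¹ :=
      fun x => rfl
    have hwell : ∀ a b : ↥(P : Subgroup G), a⁻¹ * b ∈ K → f a = f b := by
      intro a b hab
      apply Subtype.ext
      rw [hf, hf]
      have hc := (hKmem _).mp hab
      have e : (b : G) = (a : G) * ((a : G)⁻¹ * (b : G)) := by group
      have hc' : φ ((a : G)⁻¹ * (b : G)) = (a : G)⁻¹ * (b : G) := hc
      rw [e, map_mul, hc']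
      group
    let F : ↥(P : Subgroup G) ⧸ K → {x : G // x ∈ P ∧ z * x * z⁻¹ = x⁻¹} := fun q =>
      Quotient.liftOn' q f (fun a b hab => hwell a b (QuotientGroup.leftRel_apply.mp hab))
    have hFmk : ∀ x : ↥(P : Subgroup G), F (QuotientGroup.mk x) = f x := fun x => rfl
    have hFinj : Function.Injective F := by
      intro q₁ q₂
      refine QuotientGroup.induction_on q₁ (fun a => ?_)
      refine QuotientGroup.induction_on q₂ (fun b => ?_)
      intro h
      rw [hFmk, hFmk] at h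
      have h1 := congrArg Subtype.val h
      rw [hf, hf] at h1
      apply QuotientGroup.eq.mpr
      rw [hKmem]
      show φ ((a : G)⁻¹ * (b : G)) = (a : G)⁻¹ * (b : G)
      rw [map_mul, map_inv]
      have e : (φ (a : G))⁻¹ = (a : G)⁻¹ * ((b : G) * (φ (b : G))⁻¹) := by
        rw [← h1]; group
      rw [e]; group
    have hFsurj : Function.Surjective F := by
      rintro ⟨w, hwP, hwinv⟩
      obtain ⟨k, hk⟩ := exists_sqrt_of_odd (hPodd w hwP)
      have hu := conj_pow_inv hwinv k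
      refine ⟨QuotientGroup.mk ⟨w ^ k, (P : Subgroup G).pow_mem hwP k⟩, ?_⟩
      rw [hFmk]
      apply Subtype.ext
      rw [hf]
      show w ^ k * (φ (w ^ k))⁻¹ = w
      rw [hφ, hu, inv_inv, hk]
    exact Nat.card_congr (Equiv.ofBijective F ⟨hFinj, hFsurj⟩)

end Cfsg.Agent.S1253
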