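import Mathlib
import Cfsg.Statements.S1292
import Cfsg.Agent.Lib.Helper11.FStarInv
import Cfsg.Agent.Lib.Helper11.Hall

set_option autoImplicit false
open Cfsg

namespace Cfsg.Agent.S1292

open Cfsg.Agent.Lib.Helper11 in
/-- Let G be a finite group such that F*(C_G(t)) = O_2(C_G(t)) for every involution t. Then F*(N_G(T)) = O_2(N_G(T)) for every nontrivial 2-subgroup T of G. -/
theorem result {G : Type*} [Group G] [Finite G] (h : ∀ t : G, orderOf t = 2 → Cfsg.generalizedFittingSubgroup ↥(Subgroup.centralizer ({t} : Set G)) = Cfsg.pCore 2 ↥(Subgroup.centralizer ({t} : Set G))) (T : Subgroup G) (hT : IsPGroup 2 ↥T) (hT1 : T ≠ ⊥) : Cfsg.generalizedFittingSubgroup ↥(Subgroup.normalizer (T : Set G)) = Cfsg.pCore 2 ↥(Subgroup.normalizer (T : Set G)) := by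
  have : Fact (Nat.Prime 2) := ⟨Nat.prime_two⟩
  -- an involution `z` in `Z(T)`
  obtain ⟨z, hzT, hz2, hzc⟩ : ∃ z ∈ T, orderOf z = 2 ∧ ∀ g ∈ T, g * z = z * g := by
    have hnt : Nontrivial T := (Subgroup.nontrivial_iff_ne_bot T).mpr hT1
    have hZnt : Nontrivial (Subgroup.center T) := hT.center_nontrivial
    have hZp : IsPGroup 2 (Subgroup.center T) := hT.to_subgroup _
    obtain ⟨k, hk⟩ := IsPGroup.iff_card.mp hZp
    have hk0 : k ≠ 0 := by
      rintro rfl
      rw [pow_zero] at hk
      exact absurd hk (Finite.one_lt_card (α := Subgroup.center T)).ne'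
    have hdvd : 2 ∣ Nat.card (Subgroup.center T) := hk ▸ dvd_pow_self 2 hk0
    obtain ⟨x, hx⟩ := exists_prime_orderOf_dvd_card' 2 hdvd
    refine ⟨((x : T) : G), (x : T).2, ?_, ?_⟩
    · rw [Subgroup.orderOf_coe, Subgroup.orderOf_coe]; exact hx
    · intro g hg
      have := Subgroup.mem_center_iff.mp x.2 ⟨g, hg⟩
      exact congrArg Subtype.val this
  have hF := h z hz2
  obtain ⟨C, hCdef⟩ : ∃ C : Subgroup G, C = Subgroup.centralizer ({z} : Set G) := ⟨_, rfl⟩
  rw [← hCdef] at hF
  obtain ⟨R, hRdef⟩ : ∃ R : Subgroup G, R = (Cfsg.pCore 2 ↥C).map C.subtype := ⟨_, rfl⟩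
  have hRp : IsPGroup 2 R := hRdef ▸ (pCore_isPGroup 2).map _
  have hCR : C ≤ Subgroup.normalizer (R : Set G) := by
    have := pCore_normal' (G := ↥C) 2
    rw [hRdef]
    exact le_normalizer_map_subtype C _
  have hCC : C ⊓ Subgroup.centralizer (R : Set G) ≤ R := by
    intro x hx
    obtain ⟨hxC, hxR⟩ := Subgroup.mem_inf.mp hx
    have h1 : (⟨x, hxC⟩ : C) ∈ Subgroup.centralizer ((Cfsg.pCore 2 ↥C : Subgroup C) : Set C) := by
      rw [Subgroup.mem_centralizer_iff]
      intro g hg
      apply Subtype.ext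
      exact (Subgroup.mem_centralizer_iff.mp hxR) (g : G) (hRdef ▸ Subgroup.mem_map_of_mem _ hg)
    have h2 := centralizer_genFitting_le (G := ↥C)
    rw [hF] at h2
    rw [hRdef]
    exact ⟨⟨x, hxC⟩, h2 h1, rfl⟩
  have hTC : T ≤ C := by
    intro g hg
    rw [hCdef, Subgroup.mem_centralizer_iff]
    intro t ht
    rw [Set.mem_singleton_iff.mp ht]
    exact (hzc g hg).symm
  have hTQ : T.subgroupOf (Subgroup.normalizer (T : Set G)) ≤
      Cfsg.pCore 2 ↥(Subgroup.normalizer (T : Set G)) :=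
    le_pCore_of_normal 2 inferInstance hT.comap_subtype
  -- elements centralizing `O_2(N)` lie in `C`
  have hinC : ∀ y : ↥(Subgroup.normalizer (T : Set G)),
      y ∈ Subgroup.centralizer ((Cfsg.pCore 2 ↥(Subgroup.normalizer (T : Set G)) : Subgroup _) : Set _) →
      (y : G) ∈ C := by
    intro y hyQ
    rw [hCdef, Subgroup.mem_centralizer_iff]
    intro t ht
    rw [Set.mem_singleton_iff.mp ht]
    have h1 : (⟨z, Subgroup.le_normalizer hzT⟩ : ↥(Subgroup.normalizer (T : Set G))) ∈
        Cfsg.pCore 2 ↥(Subgroup.normalizer (T : Set G)) := hTQ (Subgroup.mem_subgroupOf.mpr hzT)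
    exact congrArg Subtype.val ((Subgroup.mem_centralizer_iff.mp hyQ) _ h1)
  have hnormD : ∀ y : ↥(Subgroup.normalizer (T : Set G)),
      y ∈ Subgroup.centralizer ((Cfsg.pCore 2 ↥(Subgroup.normalizer (T : Set G)) : Subgroup _) : Set _) →
      y ∈ Subgroup.normalizer ((R.subgroupOf (Subgroup.normalizer (T : Set G)) : Subgroup _) : Set _) := by
    intro y hyQ
    rw [Subgroup.mem_normalizer_iff]
    intro d
    rw [Subgroup.mem_subgroupOf, Subgroup.mem_subgroupOf]
    exact Subgroup.mem_normalizer_iff.mp (hCR (hinC y hyQ)) (d : G)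
  have key : ∀ y : ↥(Subgroup.normalizer (T : Set G)), ¬ 2 ∣ orderOf y →
      y ∈ Subgroup.centralizer ((Cfsg.pCore 2 ↥(Subgroup.normalizer (T : Set G)) : Subgroup _) : Set _) →
      y ∈ Subgroup.centralizer ((R.subgroupOf (Subgroup.normalizer (T : Set G)) : Subgroup _) : Set _) →
      y = 1 := by
    intro y hyo hyQ hyD
    have := pprime_elt_eq_one 2 C R T hRp hCR hCC hT hTC (y : G) (hinC y hyQ)
      (by rwa [Subgroup.orderOf_coe])
      (by
        rw [Subgroup.mem_centralizer_iff]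
        intro g hg
        have h1 : (⟨g, Subgroup.le_normalizer hg⟩ : ↥(Subgroup.normalizer (T : Set G))) ∈
            Cfsg.pCore 2 ↥(Subgroup.normalizer (T : Set G)) := hTQ (Subgroup.mem_subgroupOf.mpr hg)
        exact congrArg Subtype.val ((Subgroup.mem_centralizer_iff.mp hyQ) _ h1))
      (by
        intro r hr hrT
        have hrN : r ∈ Subgroup.normalizer (T : Set G) := Subgroup.centralizer_le_normalizer _ hrT
        have h1 : (⟨r, hrN⟩ : ↥(Subgroup.normalizer (T : Set G))) ∈
            R.subgroupOf (Subgroup.normalizer (T : Set G)) := Subgroup.mem_subgroupOf.mpr hr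
        exact congrArg Subtype.val ((Subgroup.mem_centralizer_iff.mp hyD) _ h1))
    exact Subtype.ext this
  have hDp : IsPGroup 2 (R.subgroupOf (Subgroup.normalizer (T : Set G))) := hRp.comap_subtype
  apply genFitting_eq_pCore_of_forall
  · rw [eq_bot_iff]
    intro y hy
    rw [Subgroup.mem_bot]
    have hyQ := pPrimeCore_le_centralizer_pCore (X := ↥(Subgroup.normalizer (T : Set G))) 2 hy
    have hcop := pPrimeCore_card_coprime (G := ↥(Subgroup.normalizer (T : Set G))) 2
    apply key y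
    · intro hdvd
      have h1 : orderOf y ∣ Nat.card (Cfsg.pPrimeCore 2 ↥(Subgroup.normalizer (T : Set G))) := by
        have := orderOf_dvd_natCard (⟨y, hy⟩ : Cfsg.pPrimeCore 2 ↥(Subgroup.normalizer (T : Set G)))
        rwa [Subgroup.orderOf_mk] at this
      exact absurd (Nat.Coprime.eq_one_of_dvd hcop.symm (hdvd.trans h1)) (by norm_num)
    · exact hyQ
    · rw [Subgroup.mem_centralizer_iff]
      intro d hd
      have hYn := pPrimeCore_normal' (G := ↥(Subgroup.normalizer (T : Set G))) 2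
      have h1 : y * d * y⁻¹ * d⁻¹ ∈ Cfsg.pPrimeCore 2 ↥(Subgroup.normalizer (T : Set G)) := by
        have h2 : d * y⁻¹ * d⁻¹ ∈ Cfsg.pPrimeCore 2 ↥(Subgroup.normalizer (T : Set G)) :=
          hYn.conj_mem _ (Subgroup.inv_mem _ hy) d
        have h3 : y * d * y⁻¹ * d⁻¹ = y * (d * y⁻¹ * d⁻¹) := by group
        rw [h3]
        exact Subgroup.mul_mem _ hy h2
      have h2 : y * d * y⁻¹ * d⁻¹ ∈ R.subgroupOf (Subgroup.normalizer (T : Set G)) := by
        have h3 := (Subgroup.mem_normalizer_iff.mp (hnormD y hyQ) d).mp hd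
        exact Subgroup.mul_mem _ h3 (Subgroup.inv_mem _ hd)
      have hcop2 : (Nat.card (Cfsg.pPrimeCore 2 ↥(Subgroup.normalizer (T : Set G)))).Coprime
          (Nat.card (R.subgroupOf (Subgroup.normalizer (T : Set G)))) := by
        obtain ⟨k, hk⟩ := IsPGroup.iff_card.mp hDp
        rw [hk]
        exact Nat.Coprime.pow_right k hcop
      have h4 := (Subgroup.disjoint_of_coprime_natCard hcop2).le_bot (Subgroup.mem_inf.mpr ⟨h1, h2⟩)
      rw [Subgroup.mem_bot] at h4
      have h5 : d * y = (y * d * y⁻¹ * d⁻¹)⁻¹ * (y * d) := by group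
      rw [h5, h4, inv_one, one_mul]
  · intro L hL y hy hyo
    have hLQ := component_le_centralizer_pCore 2 hL
    have hDsol : Group.IsSolvable (R.subgroupOf (Subgroup.normalizer (T : Set G))) := by
      have := hDp.isNilpotent
      infer_instance
    have hLD := component_le_centralizer_of_le_normalizer hL hDsol
      (fun l hl => hnormD l (hLQ hl))
    exact key y hyo (hLQ hy) (hLD hy)

end Cfsg.Agent.S1292
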