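import Cfsg.Statements.S1307
import Mathlib
import Cfsg.Agent.Lib.Helper10.ZS7
import Cfsg.Agent.Lib.Lead.UniqueSubgroup
import Cfsg.Agent.Lib.Helper11.Components
import Cfsg.Agent.Lib.Helper11.PCores
import Cfsg.Agent.Lib.Helper11.ClassInv

set_option autoImplicit false
open Cfsg

namespace Cfsg.Agent.S1307

open scoped commutatorElement

set_option linter.style.haveILetI false

/-- Let G be finite, x an involution and L ≤ C_G(x) a component of C_G(x) of even order and 2-rank 1, such that L is a component of C_G(y) for every involution y ∈ C_G(L). Then some involution of L is a classical involution of G. -/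
theorem result {G : Type*} [Group G] [Finite G] (x : G) (hx : orderOf x = 2) (L : Subgroup G) (hLx : L ≤ Subgroup.centralizer ({x} : Set G)) (hL : Cfsg.IsComponent (L.subgroupOf (Subgroup.centralizer ({x} : Set G)))) (heven : Even (Nat.card ↥L)) (hrk : Cfsg.PRankLE 2 1 ↥L) (hne : ∀ y : G, orderOf y = 2 → y ∈ Subgroup.centralizer (L : Set G) → L ≤ Subgroup.centralizer ({y} : Set G) ∧ Cfsg.IsComponent (L.subgroupOf (Subgroup.centralizer ({y} : Set G)))) : ∃ t ∈ L, Cfsg.IsClassicalInvolution t := by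
  classical
  haveI : Fact (Nat.Prime 2) := ⟨Nat.prime_two⟩
  have h2L : 2 ∣ Nat.card ↥L := even_iff_two_dvd.mp heven
  have hqs : Cfsg.IsQuasisimple ↥L :=
    Cfsg.Agent.Lib.Helper11.qs_of_mulEquiv (Subgroup.subgroupOfEquivOfLe hLx) hL.2
  have hperf : commutator ↥L = ⊤ := hqs.1.commutator_eq_top
  obtain ⟨S⟩ : Nonempty (Sylow 2 ↥L) := inferInstance
  have hSne : (S : Subgroup ↥L) ≠ ⊥ := S.ne_bot_of_dvd_card h2L
  have hU : Cfsg.Agent.Lib.Lead.UniqP 2 ↥(S : Subgroup ↥L) :=
    Cfsg.Agent.Lib.Helper11.uniqP_of_prank S.isPGroup'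
      (Cfsg.Agent.Lib.Helper11.prankLE_subgroup hrk _)
  have hncyc : ¬ IsCyclic ↥(S : Subgroup ↥L) := by
    intro hcyc
    have hmin : (Nat.card ↥L).minFac = 2 := (Nat.minFac_eq_two_iff _).mpr h2L
    have hcomp : (MonoidHom.transferSylow S (hcyc.normalizer_le_centralizer hmin)).ker.IsComplement'
        (S : Subgroup ↥L) := IsCyclic.isComplement' hmin hcyc
    have hker : (MonoidHom.transferSylow S (hcyc.normalizer_le_centralizer hmin)).ker = ⊤ := by
      rw [eq_top_iff, ← hperf, commutator_def, Subgroup.commutator_le]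
      intro g _ h _
      rw [MonoidHom.mem_ker, map_commutatorElement, commutatorElement_eq_one_iff_commute]
      obtain ⟨c, hc⟩ := hcyc.exists_zpow_surjective
      obtain ⟨i, hi⟩ := hc (MonoidHom.transferSylow S (hcyc.normalizer_le_centralizer hmin) g)
      obtain ⟨j, hj⟩ := hc (MonoidHom.transferSylow S (hcyc.normalizer_le_centralizer hmin) h)
      have hi' : c ^ i = MonoidHom.transferSylow S (hcyc.normalizer_le_centralizer hmin) g := hi
      have hj' : c ^ j = MonoidHom.transferSylow S (hcyc.normalizer_le_centralizer hmin) h := hj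
      rw [← hi', ← hj']
      exact (Commute.refl c).zpow_zpow i j
    rw [hker] at hcomp
    have hcm := hcomp.card_mul_card
    rw [Subgroup.card_top] at hcm
    have hpos : 0 < Nat.card ↥L := Nat.card_pos
    have hS1 : Nat.card ↥(S : Subgroup ↥L) = 1 :=
      Nat.eq_of_mul_eq_mul_left hpos (by rw [hcm, mul_one])
    exact hSne (Subgroup.eq_bot_of_card_eq _ hS1)
  obtain ⟨n, ⟨eS⟩⟩ : ∃ n : ℕ, Nonempty (↥(S : Subgroup ↥L) ≃* QuaternionGroup (2 ^ (n + 1))) := by
    rcases Cfsg.Agent.Lib.Lead.uniqP_cyclic_or_quaternion 2 S.isPGroup' hU with h | ⟨_, n, ⟨e⟩⟩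
    · exact absurd h hncyc
    · cases n with
      | zero =>
        exfalso
        apply hncyc
        rw [pow_zero] at e
        haveI := QuaternionGroup.quaternionGroup_one_isCyclic
        exact isCyclic_of_surjective e.symm e.symm.surjective
      | succ n => exact ⟨n, ⟨e⟩⟩
  obtain ⟨t, ht⟩ := exists_prime_orderOf_dvd_card' 2 h2L
  have ht2 : t ^ 2 = 1 := by
    have h := pow_orderOf_eq_one t
    rw [ht] at h
    exact h
  have hiso : Cfsg.IsIsolatedInvolution t := by
    refine ⟨ht, ?_⟩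
    intro g hcomm
    have hy2 : (g * t * g⁻¹) ^ 2 = 1 := by
      rw [conj_pow, ht2]; group
    rcases Cfsg.Agent.Lib.Helper11.eq_one_or_eq_of_prank hrk t (g * t * g⁻¹) ht hy2 hcomm with h | h
    · exfalso
      have h1 : t = 1 := by
        have h' : g⁻¹ * (g * t * g⁻¹) * g = 1 := by rw [h]; group
        have h'' : g⁻¹ * (g * t * g⁻¹) * g = t := by group
        rw [← h'', h']
      rw [h1, orderOf_one] at ht
      exact absurd ht (by norm_num)
    · exact h
  have hZ := Cfsg.Agent.Lib.Helper10.ZS.zstar t hiso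
  have hOc : Cfsg.oddCore ↥L ≤ Subgroup.center ↥L := by
    apply Cfsg.Agent.Lib.Helper11.qs_normal_le_center hqs _ inferInstance
    intro htop
    have hcop := Cfsg.Agent.Lib.Helper11.pPrimeCore_card_coprime (G := ↥L) 2
    have h3 : Nat.card ↥(Cfsg.pPrimeCore 2 ↥L) = Nat.card ↥L := by
      have htop' : Cfsg.pPrimeCore 2 ↥L = ⊤ := htop
      rw [htop', Subgroup.card_top]
    rw [h3] at hcop
    exact absurd (Nat.Coprime.eq_one_of_dvd hcop.symm h2L) (by norm_num)
  have htc : ∀ l : ↥L, t * l = l * t := by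
    have hle : commutator ↥L ≤ Subgroup.centralizer ({t} : Set ↥L) := by
      rw [commutator_def, Subgroup.commutator_le]
      intro a _ b _
      rw [Subgroup.mem_centralizer_iff]
      intro y hy
      rw [Set.mem_singleton_iff.mp hy]
      have ha := Subgroup.mem_center_iff.mp (hOc (hZ a))
      have hb := Subgroup.mem_center_iff.mp (hOc (hZ b))
      have e1 : t * ⁅a, b⁆ * t⁻¹ = ⁅t * a * t⁻¹, t * b * t⁻¹⁆ := by
        simp only [commutatorElement_def]; group
      have e2 : t * a * t⁻¹ = a * (t * a * t⁻¹ * a⁻¹) :=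
        calc t * a * t⁻¹ = (t * a * t⁻¹ * a⁻¹) * a := by group
          _ = a * (t * a * t⁻¹ * a⁻¹) := (ha a).symm
      have e3 : t * b * t⁻¹ = b * (t * b * t⁻¹ * b⁻¹) :=
        calc t * b * t⁻¹ = (t * b * t⁻¹ * b⁻¹) * b := by group
          _ = b * (t * b * t⁻¹ * b⁻¹) := (hb b).symm
      have key : t * ⁅a, b⁆ * t⁻¹ = ⁅a, b⁆ := by
        rw [e1]
        calc ⁅t * a * t⁻¹, t * b * t⁻¹⁆
            = ⁅a * (t * a * t⁻¹ * a⁻¹), t * b * t⁻¹⁆ := by rw [← e2]
          _ = ⁅a, t * b * t⁻¹⁆ :=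
              Cfsg.Agent.Lib.Helper11.commElem_mul_central a _ _ (fun g => ha g)
          _ = ⁅t * b * t⁻¹, a⁆⁻¹ := (commutatorElement_inv _ _).symm
          _ = ⁅b * (t * b * t⁻¹ * b⁻¹), a⁆⁻¹ := by rw [← e3]
          _ = ⁅b, a⁆⁻¹ := by
              rw [Cfsg.Agent.Lib.Helper11.commElem_mul_central b _ _ (fun g => hb g)]
          _ = ⁅a, b⁆ := commutatorElement_inv _ _
      calc t * ⁅a, b⁆ = (t * ⁅a, b⁆ * t⁻¹) * t := by group
        _ = ⁅a, b⁆ * t := by rw [key]
    intro l
    have hl : l ∈ Subgroup.centralizer ({t} : Set ↥L) := hle (by rw [hperf]; trivial)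
    rw [Subgroup.mem_centralizer_iff] at hl
    exact hl t rfl
  have htG : orderOf (t : G) = 2 := by rw [Subgroup.orderOf_coe]; exact ht
  have htcen : (t : G) ∈ Subgroup.centralizer (L : Set G) := by
    rw [Subgroup.mem_centralizer_iff]
    intro l hl
    have h1 := htc ⟨l, hl⟩
    have h2 := congrArg Subtype.val h1
    exact h2.symm
  obtain ⟨hLt, hcomp⟩ := hne (t : G) htG htcen
  exact ⟨(t : G), t.2, htG, L, hLt, t.2, hcomp.1, S, n, ⟨eS⟩⟩

end Cfsg.Agent.S1307
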