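import Mathlib
import Cfsg.Statements.S1456
import Cfsg.Agent.Lib.Helper12.NarrowFit

set_option autoImplicit false
open Cfsg

namespace Cfsg.Agent.S1456

open Cfsg.Agent.Lib.Helper12


/-- Let G be a solvable group of odd order, p a prime, and E an elementary abelian p-subgroup of the Fitting subgroup F(G) such that F(G) ∩ C_G(E) has no elementary abelian subgroup of order q ^ 3 for any prime q. Then the derived subgroup of G is contained in F(G). -/
theorem result {G : Type*} [Group G] [Finite G] [Group.IsSolvable G] (hodd : Odd (Nat.card G)) (p : ℕ) [Fact p.Prime] (E : Subgroup G) (hE : E ≤ Cfsg.fittingSubgroup G) (hEe : Cfsg.IsElementaryAbelian p E)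
    (hr : Cfsg.RankLE 2 ↥(Cfsg.fittingSubgroup G ⊓ Subgroup.centralizer (E : Set G))) :
    commutator G ≤ Cfsg.fittingSubgroup G := by
  classical
  have hpp : p.Prime := Fact.out
  have hEP : E ≤ Cfsg.pCore p G := by
    intro t ht
    exact Rk2Fit.mem_pCore_of_mem_fitting p t (hE ht) 1 (by rw [pow_one]; exact hEe.2 t ht)
  have hrk_other : ∀ s : ℕ, s.Prime → s ≠ p → Cfsg.PRankLE s 2 ↥(Cfsg.pCore s G) := by
    intro s hs hsp
    haveI : Fact s.Prime := ⟨hs⟩
    refine Rk2Fit.prank_of_le s 2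
      (K := Cfsg.fittingSubgroup G ⊓ Subgroup.centralizer (E : Set G)) ?_ (hr s hs)
    apply le_inf (Cfsg.Agent.Lib.Helper21.pCore_le_fittingSubgroup s)
    intro a ha
    rw [Subgroup.mem_centralizer_iff]
    intro e he
    exact (Subgroup.commute_of_normal_of_disjoint _ _ (Cfsg.Agent.Lib.Helper1.pCore_normal p)
      (Cfsg.Agent.Lib.Helper1.pCore_normal s)
      (IsPGroup.disjoint_of_ne p s (Ne.symm hsp) _ _ (Cfsg.Agent.Lib.Helper1.pCore_isPGroup p)
        (Cfsg.Agent.Lib.Helper1.pCore_isPGroup s)) e a (hEP he) ha).eq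
  apply Cfsg.Agent.Lib.Helper21.le_fitting_of_coprime_centralize (commutator G)
  rintro q s hq hs hsq x hx ⟨j, hj⟩ y hy
  haveI : Fact s.Prime := ⟨hs⟩
  have ho : orderOf x ∣ q ^ j := orderOf_dvd_of_pow_eq_one hj
  by_cases hrk : Cfsg.PRankLE s 2 ↥(Cfsg.pCore s G)
  · obtain ⟨k, hk⟩ := Rk2Fit.comm_centralizes hodd s hrk x hx
    have hc : (s ^ k).Coprime (orderOf x) :=
      Nat.Coprime.coprime_dvd_right ho (Nat.Coprime.pow k j ((Nat.coprime_primes hs hq).mpr hsq))
    obtain ⟨m, hm⟩ := exists_pow_eq_self_of_coprime hc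
    have hxc : x ∈ Subgroup.centralizer (Cfsg.pCore s G : Set G) := by
      rw [← hm]
      exact Subgroup.pow_mem _ hk m
    exact (Subgroup.mem_centralizer_iff.mp hxc y hy).symm
  · have hsp : s = p := by
      by_contra h
      exact hrk (hrk_other s hs h)
    rw [hsp] at hrk hy hsq
    by_cases hp2 : p = 2
    · rw [hp2, Rk2Fit.pcore_two_eq_bot hodd, Subgroup.mem_bot] at hy
      rw [hy, mul_one, one_mul]
    · haveI := Cfsg.Agent.Lib.Helper1.pCore_normal (G := G) p
      have hgp : (orderOf x).Coprime p :=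
        Nat.Coprime.coprime_dvd_left ho
          (Nat.Coprime.pow_left j ((Nat.coprime_primes hq hpp).mpr (Ne.symm hsq)))
      exact NarrowFit.narrow_case p hp2 (Cfsg.pCore p G)
        (Cfsg.Agent.Lib.Helper1.pCore_isPGroup p) E hEP hEe
        (Rk2Fit.prank_of_le p 2
          (inf_le_inf_right _ (Cfsg.Agent.Lib.Helper21.pCore_le_fittingSubgroup p)) (hr p hpp))
        hrk x hx hgp y hy

end Cfsg.Agent.S1456
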