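import Mathlib
import Cfsg.Statements.S1458
import Cfsg.Agent.Lib.Helper12.ZJeGen
import Cfsg.Agent.Lib.Helper2.ZJeFunctor
import Cfsg.Agent.Lib.Helper12.Puig2

set_option autoImplicit false
open Cfsg

namespace Cfsg.Agent.S1458
open Cfsg.Agent.Lib.Helper12 Cfsg.Agent.Lib.Helper2 Cfsg.Agent.Lib.Helper6


/-- Let G be a solvable group of odd order, p a prime and S a Sylow p-subgroup of G. Then the subgroup generated by the centre of the Thompson subgroup of S and O_{p'}(G) is normal in G. -/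
theorem result {G : Type*} [Group G] [Finite G] [Group.IsSolvable G] (hodd : Odd (Nat.card G)) (p : ℕ) [Fact p.Prime] (S : Sylow p G) :
    (Cfsg.centerThompsonOf p (S : Subgroup G) ⊔ Cfsg.pPrimeCore p G).Normal := by
  by_cases hp2 : p = 2
  · have h1 : Cfsg.pPrimeCore p G = ⊤ := by
      rw [eq_top_iff]
      apply Cfsg.Agent.Lib.Helper1.le_pPrimeCore p (inferInstance : (⊤ : Subgroup G).Normal)
      rw [Subgroup.card_top, hp2]
      exact Nat.coprime_two_right.mpr hodd
    rw [h1, sup_top_eq]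
    infer_instance
  · rw [← inducedFunctor_zjFun' p (S : Subgroup G), inducedFunctor_zjFun]
    have hOc : (Nat.card (Cfsg.pPrimeCore p G)).Coprime p :=
      Cfsg.Agent.Lib.Helper1.pPrimeCore_coprime p
    have hOQ : Cfsg.pPrimeCore p (G ⧸ Cfsg.pPrimeCore p G) = ⊥ :=
      Cfsg.Agent.Lib.Helper6.pPrimeCore_quotient_pPrimeCore_eq_bot
    have hsurj : Function.Surjective (QuotientGroup.mk' (Cfsg.pPrimeCore p G)) :=
      QuotientGroup.mk'_surjective _
    have hoddQ : Odd (Nat.card (G ⧸ Cfsg.pPrimeCore p G)) :=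
      Odd.of_dvd_nat hodd (Subgroup.card_quotient_dvd_card _)
    have hZbn := ZJeGen.zjSub_normal hp2 (G ⧸ Cfsg.pPrimeCore p G) hoddQ hOQ
      (S.mapSurjective hsurj)
    rw [Sylow.coe_mapSurjective] at hZbn
    obtain ⟨π, hπ⟩ : ∃ π : G →* G ⧸ Cfsg.pPrimeCore p G,
        π = QuotientGroup.mk' (Cfsg.pPrimeCore p G) := ⟨_, rfl⟩
    rw [← hπ] at hZbn
    have hinj : Set.InjOn π ((S : Subgroup G) : Set G) := by
      rw [hπ]
      exact Puig.injOn_mk_of_pgroup' _ (S : Subgroup G) hOc S.isPGroup'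
    rw [← ZJeGen.zjSub_map p π _ hinj] at hZbn
    have h1 : ((zjSub p (S : Subgroup G)).map π).comap π =
        zjSub p (S : Subgroup G) ⊔ Cfsg.pPrimeCore p G := by
      rw [Subgroup.comap_map_eq, hπ, QuotientGroup.ker_mk']
    rw [← h1]
    exact hZbn.comap π

end Cfsg.Agent.S1458
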