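import Cfsg.Statements.S1513
import Mathlib
import Cfsg.Agent.Lib.Helper24.TypeP

set_option autoImplicit false
open Cfsg

namespace Cfsg.Agent.S1513

/-- Let L be a finite group with K normal with complement W₁ ≠ 1 a cyclic Hall subgroup, and W₂ ≠ 1 a cyclic subgroup of K equal to C_K(x) for every non-identity x ∈ W₁, with W₁W₂ of odd order. For an irreducible character θ of K: if θ is not fixed under conjugation by some element of W₁, then the function induced from θ to L is an irreducible character of L; and the irreducible characters of K fixed by all of W₁ are exactly Nat.card W₂ in number, each inducing to the sum of Nat.card W₁ pairwise distinct irreducible characters of L. -/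
theorem result {L : Type*} [Group L] [Fintype L] (K W₁ W₂ : Subgroup L) [hK : K.Normal] (hKW₁ : K ⊓ W₁ = ⊥) (hKW₁' : K ⊔ W₁ = ⊤) (hW₁ : W₁ ≠ ⊥) (hW₁c : IsCyclic W₁) (hHall : Nat.Coprime (Nat.card W₁) W₁.index) (hW₂ : W₂ ≠ ⊥) (hW₂c : IsCyclic W₂) (hW₂K : W₂ ≤ K) (hC : ∀ x ∈ W₁, x ≠ 1 → K ⊓ Subgroup.centralizer ({x} : Set L) = W₂) (hodd : Odd (Nat.card ↥(W₁ ⊔ W₂))) : (∀ θ : K → ℂ, Cfsg.IsIrrCharacter K θ → (∃ x ∈ W₁, (fun k : K => θ ⟨x * k * x⁻¹, hK.conj_mem (k : L) k.2 x⟩) ≠ θ) → Cfsg.IsIrrCharacter L (Cfsg.indFun K θ)) ∧ Nat.card {θ : Cfsg.IrrCharacter K // ∀ x ∈ W₁, (fun k : K => (θ : K → ℂ) ⟨x * k * x⁻¹, hK.conj_mem (k : L) k.2 x⟩) = θ} = Nat.card W₂ ∧ (∀ θ : K → ℂ, Cfsg.IsIrrCharacter K θ → (∀ x ∈ W₁, (fun k : K => θ ⟨x * k * x⁻¹, hK.conj_mem (k : L) k.2 x⟩) = θ) → ∃ C : Finset (L → ℂ), C.card = Nat.card W₁ ∧ (∀ μ ∈ C, Cfsg.IsIrrCharacter L μ) ∧ Cfsg.indFun K θ = ∑ μ ∈ C, μ) := by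
  classical
  haveI : Fintype K := Fintype.ofFinite K
  have hcomp : Subgroup.IsComplement' K W₁ := by
    apply Subgroup.isComplement'_of_disjoint_and_mul_eq_univ (disjoint_iff.mpr hKW₁)
    rw [← Subgroup.normal_mul, hKW₁']
    rfl
  have hidx1 : W₁.index = Nat.card K := hcomp.index_eq_card
  have hidx2 : K.index = Nat.card W₁ := hcomp.symm.index_eq_card
  have hcopKW : (Nat.card K).Coprime (Nat.card W₁) := by
    rw [hidx1] at hHall
    exact hHall.symm
  have hW₁ab : ∀ a ∈ W₁, ∀ b ∈ W₁, a * b = b * a := by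
    intro a ha b hb
    have h := (IsCyclic.isMulCommutative (α := W₁)).is_comm.comm ⟨a, ha⟩ ⟨b, hb⟩
    exact congrArg Subtype.val h
  have hW₂ab : ∀ a ∈ W₂, ∀ b ∈ W₂, a * b = b * a := by
    intro a ha b hb
    have h := (IsCyclic.isMulCommutative (α := W₂)).is_comm.comm ⟨a, ha⟩ ⟨b, hb⟩
    exact congrArg Subtype.val h
  have hdecomp : ∀ g : L, ∃ k ∈ K, ∃ w ∈ W₁, k * w = g := by
    intro g
    have hgs : g ∈ (↑(K ⊔ W₁) : Set L) := by
      rw [hKW₁']
      exact Set.mem_univ g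
    rw [Subgroup.normal_mul] at hgs
    exact Set.mem_mul.mp hgs
  -- the two forms of invariance
  have hiff : ∀ θ : K → ℂ, (∀ x ∈ W₁, (fun k : K => θ ⟨x * k * x⁻¹, hK.conj_mem (k : L) k.2 x⟩) = θ)
      ↔ Cfsg.Agent.Lib.Helper2.SInv K W₁ θ := by
    intro θ
    constructor
    · intro h s hs g g' hg
      have h1 := congrFun (h s hs) g
      rw [← h1]
      congr 1
      exact Subtype.ext hg
    · intro h x hx
      funext k
      exact h x hx k _ rfl
  refine ⟨?_, ?_, ?_⟩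
  · intro θ hθ hx
    have hnot : ¬ Cfsg.Agent.Lib.Helper2.SInv K W₁ θ := by
      intro h
      obtain ⟨x, hxW, hxne⟩ := hx
      exact hxne ((hiff θ).mpr h x hxW)
    have hI : ∀ g : L, g ∈ K ↔ Cfsg.Agent.Lib.Helper2.conjFun K θ g = θ := by
      intro g
      constructor
      · intro hg
        exact Cfsg.Agent.Lib.Helper2.conjFun_of_mem K
          (Cfsg.Agent.Lib.Helper2.isClassFunction_of_isIrrCharacter hθ) hg
      · intro hg
        exact Cfsg.Agent.Lib.Helper24.mem_of_fix K W₁ W₂ hKW₁' hcopKW hW₁ab hW₂ab hW₂K hC θ hθ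
          hnot g hg
    exact Cfsg.Agent.Lib.Helper26.indFun_stab_irr K K le_rfl θ hθ θ hθ (fun n => rfl) hI
  · have h1 := Cfsg.Agent.Lib.Helper24.card_sinv_eq K W₁ W₂ W₁ hcopKW hW₁ab hW₂ab hW₂K hC le_rfl hW₁
    rw [← h1]
    exact Nat.card_congr (Equiv.subtypeEquivRight (fun θ => hiff (θ : K → ℂ)))
  · intro θ hθ hinvW
    have hS := (hiff θ).mp hinvW
    have hcf := Cfsg.Agent.Lib.Helper2.isClassFunction_of_isIrrCharacter hθ
    have hinv : ∀ (g : L) (n : K), θ ⟨g * n * g⁻¹, hK.conj_mem (n : L) n.2 g⟩ = θ n := by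
      intro g n
      obtain ⟨k, hk, w, hw, rfl⟩ := hdecomp g
      have h1 : Cfsg.Agent.Lib.Helper2.conjFun K θ (k * w) = θ := by
        rw [Cfsg.Agent.Lib.Helper2.conjFun_mul, Cfsg.Agent.Lib.Helper2.conjFun_of_mem K hcf hk]
        exact Cfsg.Agent.Lib.Helper24.conjFun_of_sinv K W₁ θ hS w hw
      have h2 := congrFun h1 n
      rw [Cfsg.Agent.Lib.Helper2.conjFun_apply] at h2
      exact h2
    obtain ⟨d, hd1, hd0, hdd, -⟩ := Cfsg.Agent.Lib.Helper25.irr_degree (⟨θ, hθ⟩ : Cfsg.IrrCharacter K)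
    have hθc := Cfsg.Agent.Lib.Helper2.isCharacter_of_isIrrCharacter hθ
    obtain ⟨lam, hlam⟩ := Cfsg.Agent.Lib.Helper2.detChar_hom hθc
    have hord : Cfsg.detOrder θ ∣ Nat.card K := by
      unfold Cfsg.detOrder
      rw [hlam, Cfsg.Agent.Lib.Helper2.orderOf_coe_hom]
      apply orderOf_dvd_of_pow_eq_one
      apply MonoidHom.ext
      intro k
      rw [MonoidHom.pow_apply, ← map_pow, pow_card_eq_one', map_one]
      rfl
    have hcop : Nat.Coprime K.index (Cfsg.detOrder θ * d) := by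
      rw [hidx2]
      exact Nat.Coprime.mul_right (Nat.Coprime.coprime_dvd_right hord hcopKW.symm)
        (Nat.Coprime.coprime_dvd_right hdd hcopKW.symm)
    obtain ⟨χ, ⟨hχ, hχK, -⟩, -⟩ := Cfsg.Agent.Lib.Helper2.unique_ext_coprime K hθ hinv hd1 hcop
    have hab : ∀ a b : L ⧸ K, a * b = b * a := by
      have hmk : ∀ q : L ⧸ K, ∃ w ∈ W₁, ((w : L) : L ⧸ K) = q := by
        intro q
        obtain ⟨g, rfl⟩ := QuotientGroup.mk_surjective q
        obtain ⟨k, hk, w, hw, rfl⟩ := hdecomp g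
        refine ⟨w, hw, ?_⟩
        rw [QuotientGroup.mk_mul, (QuotientGroup.eq_one_iff k).mpr hk, one_mul]
      intro a b
      obtain ⟨w, hw, rfl⟩ := hmk a
      obtain ⟨w', hw', rfl⟩ := hmk b
      rw [← QuotientGroup.mk_mul, ← QuotientGroup.mk_mul, hW₁ab w hw w' hw']
    obtain ⟨C, hCcard, hCirr, hCsum⟩ :=
      Cfsg.Agent.Lib.Helper24.gallagher_sum K hab θ hθ χ hχ hχK hinv
    exact ⟨C, hCcard.trans hidx2, hCirr, hCsum⟩

end Cfsg.Agent.S1513
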