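import Mathlib
import Cfsg.Statements.S1550
import Cfsg.Agent.Lib.Helper12.CodeSupp
import Cfsg.Agent.Lib.Helper4.Steiner
import Cfsg.Agent.S0352
import Cfsg.Agent.S0363

set_option autoImplicit false
open Cfsg

namespace Cfsg.Agent.S1550

open Cfsg.Agent.Lib.Helper12 Cfsg.Agent.Lib.Helper4

open Classical in
/-- the sextet through a tetrad -/
noncomputable def sx (t : Finset GolayPt) : Finset (Finset GolayPt) :=
  insert t (((Steiner.blocks octads).filter (fun o => t ⊆ o)).image (fun o => o \ t))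

open Classical in
theorem sx_spec (t : Finset GolayPt) (ht : t.card = 4) :
    sx t ∈ sextets ∧ t ∈ sx t ∧ ∀ S ∈ sextets, t ∈ S → S = sx t := by
  have hB := Cfsg.Agent.S0363.result
  have hα := Cfsg.Agent.Lib.Helper4.Golay.card_pts
  set F := (Steiner.blocks octads).filter (fun o => t ⊆ o) with hF
  have hFcard : F.card = 5 := (Steiner.s5824_deg hα hB t).2.2.2.2.1 ht
  have hFmem : ∀ o, o ∈ F ↔ o ∈ octads ∧ t ⊆ o := by
    intro o
    rw [hF, Finset.mem_filter, Steiner.mem_blocks]
  have hpair : ∀ o₁ ∈ F, ∀ o₂ ∈ F, o₁ ≠ o₂ → o₁ ∩ o₂ = t := by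
    intro o₁ h1 o₂ h2 hne
    obtain ⟨ho1, ht1⟩ := (hFmem o₁).mp h1
    obtain ⟨ho2, ht2⟩ := (hFmem o₂).mp h2
    have hsub : t ⊆ o₁ ∩ o₂ := Finset.subset_inter ht1 ht2
    have hc := Cfsg.Agent.S0352.result hα hB ho1 ho2 hne
    have hge : 4 ≤ (o₁ ∩ o₂).card := by
      rw [← ht]; exact Finset.card_le_card hsub
    exact (Finset.eq_of_subset_of_card_le hsub (by omega)).symm
  have hsd_card : ∀ o ∈ F, (o \ t).card = 4 := by
    intro o ho
    obtain ⟨ho1, ht1⟩ := (hFmem o).mp ho
    rw [Finset.card_sdiff_of_subset ht1, ho1.2, ht]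
  have hinj : Set.InjOn (fun o : Finset GolayPt => o \ t) (F : Set (Finset GolayPt)) := by
    intro o₁ h1 o₂ h2 heq
    have e1 : o₁ = (o₁ \ t) ∪ t :=
      (Finset.sdiff_union_of_subset ((hFmem o₁).mp h1).2).symm
    have e2 : o₂ = (o₂ \ t) ∪ t :=
      (Finset.sdiff_union_of_subset ((hFmem o₂).mp h2).2).symm
    have heq' : o₁ \ t = o₂ \ t := heq
    rw [e1, e2, heq']
  have himg_card : (F.image (fun o => o \ t)).card = 5 := by
    rw [Finset.card_image_of_injOn hinj, hFcard]
  have htnot : t ∉ F.image (fun o => o \ t) := by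
    intro h
    obtain ⟨o, ho, heq⟩ := Finset.mem_image.mp h
    have heq' : o \ t = t := heq
    have hsub : t ⊆ o \ t := by rw [heq']
    have hdis : Disjoint t (o \ t) := Finset.disjoint_sdiff
    have h0 : t = ∅ := by
      apply Finset.eq_empty_of_forall_notMem
      intro p hp
      exact (Finset.disjoint_left.mp hdis hp) (hsub hp)
    rw [h0] at ht
    simp at ht
  have hsx : sx t = insert t (F.image (fun o => o \ t)) := rfl
  refine ⟨⟨?_, ?_, ?_⟩, ?_, ?_⟩
  · rw [hsx, Finset.card_insert_of_notMem htnot, himg_card]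
  · intro u hu
    rw [hsx] at hu
    rcases Finset.mem_insert.mp hu with h | hu'
    · rw [h]; exact ht
    · obtain ⟨o, ho, h⟩ := Finset.mem_image.mp hu'
      rw [← h]
      exact hsd_card o ho
  · intro u hu v hv hne
    rw [hsx] at hu hv
    rcases Finset.mem_insert.mp hu with h | hu' <;> rcases Finset.mem_insert.mp hv with h' | hv'
    · exact absurd (h.trans h'.symm) hne
    · obtain ⟨o, ho, hov⟩ := Finset.mem_image.mp hv'
      obtain ⟨ho1, ht1⟩ := (hFmem o).mp ho
      have e : u ∪ v = o := by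
        rw [h, ← hov]
        exact Finset.union_sdiff_of_subset ht1
      rw [e]; exact ho1
    · obtain ⟨o, ho, hou⟩ := Finset.mem_image.mp hu'
      obtain ⟨ho1, ht1⟩ := (hFmem o).mp ho
      have e : u ∪ v = o := by
        rw [h', ← hou]
        exact Finset.sdiff_union_of_subset ht1
      rw [e]; exact ho1
    · obtain ⟨o₁, ho₁, hou⟩ := Finset.mem_image.mp hu'
      obtain ⟨o₂, ho₂, hov⟩ := Finset.mem_image.mp hv'
      have hne12 : o₁ ≠ o₂ := by
        intro h12
        apply hne
        rw [← hou, ← hov, h12]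
      have hint := hpair o₁ ho₁ o₂ ho₂ hne12
      obtain ⟨ho1, ht1⟩ := (hFmem o₁).mp ho₁
      obtain ⟨ho2, ht2⟩ := (hFmem o₂).mp ho₂
      have e : u ∪ v = symmDiff o₁ o₂ := by
        rw [← hou, ← hov]
        ext p
        have hpt : p ∈ t ↔ p ∈ o₁ ∧ p ∈ o₂ := by
          rw [← hint, Finset.mem_inter]
        simp only [Finset.mem_union, Finset.mem_sdiff, Finset.mem_symmDiff]
        tauto
      rw [e]
      refine ⟨gs_symmDiff ho1.1 ho2.1, ?_⟩
      have hc := card_symmDiff_add o₁ o₂
      rw [hint, ht, ho1.2, ho2.2] at hc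
      omega
  · rw [hsx]; exact Finset.mem_insert_self _ _
  · intro S hS htS
    obtain ⟨hS6, hS4, hSoct⟩ := hS
    have hsub : S ⊆ sx t := by
      intro u hu
      rw [hsx]
      by_cases hut : u = t
      · rw [hut]; exact Finset.mem_insert_self _ _
      · apply Finset.mem_insert_of_mem
        have ho : t ∪ u ∈ octads := hSoct t htS u hu (fun h => hut h.symm)
        have hc := Finset.card_union_add_card_inter t u
        rw [ho.2, ht, hS4 u hu] at hc
        have hdis : Disjoint t u := by
          rw [Finset.disjoint_iff_inter_eq_empty]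
          apply Finset.card_eq_zero.mp
          omega
        refine Finset.mem_image.mpr ⟨t ∪ u, (hFmem _).mpr ⟨ho, Finset.subset_union_left⟩, ?_⟩
        exact Finset.union_sdiff_cancel_left hdis
    apply Finset.eq_of_subset_of_card_le hsub
    rw [hS6, hsx, Finset.card_insert_of_notMem htnot, himg_card]

/-- Every 4-element set of the 24 points is a tetrad of exactly one sextet, and the sextets number 1771. -/
theorem result : (∀ t : Finset Cfsg.GolayPt, t.card = 4 → ∃! S : Finset (Finset Cfsg.GolayPt), S ∈ Cfsg.sextets ∧ t ∈ S) ∧ Cfsg.sextets.ncard = 1771 := by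
  classical
  refine ⟨?_, ?_⟩
  · intro t ht
    obtain ⟨h1, h2, h3⟩ := sx_spec t ht
    exact ⟨sx t, ⟨h1, h2⟩, fun S hS => h3 S hS.1 hS.2⟩
  · rw [Steiner.ncard_eq]
    set 𝒮 : Finset (Finset (Finset GolayPt)) := Steiner.blocks Cfsg.sextets with h𝒮
    have hmem𝒮 : ∀ S, S ∈ 𝒮 ↔ S ∈ Cfsg.sextets := fun S => Steiner.mem_blocks
    set Q : Finset (Finset GolayPt) := (Finset.univ : Finset GolayPt).powersetCard 4 with hQ
    have hQcard : Q.card = 10626 := by
      rw [hQ, Finset.card_powersetCard, Finset.card_univ, Cfsg.Agent.Lib.Helper4.Golay.card_pts]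
      decide
    have hmaps : ∀ t ∈ Q, sx t ∈ 𝒮 := by
      intro t ht
      rw [hmem𝒮]
      exact (sx_spec t (Finset.mem_powersetCard.mp ht).2).1
    have hfiber : ∀ S ∈ 𝒮, (Q.filter (fun t => sx t = S)).card = 6 := by
      intro S hS
      have hS' := (hmem𝒮 S).mp hS
      have e : Q.filter (fun t => sx t = S) = S := by
        ext t
        rw [Finset.mem_filter]
        constructor
        · rintro ⟨htQ, hts⟩
          rw [← hts]
          exact (sx_spec t (Finset.mem_powersetCard.mp htQ).2).2.1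
        · intro htS
          have ht4 : t.card = 4 := hS'.2.1 t htS
          refine ⟨Finset.mem_powersetCard.mpr ⟨Finset.subset_univ _, ht4⟩, ?_⟩
          exact ((sx_spec t ht4).2.2 S hS' htS).symm
      rw [e]
      exact hS'.1
    have hcount := Finset.card_eq_sum_card_fiberwise (s := Q) (t := 𝒮) (f := sx) hmaps
    rw [Finset.sum_congr rfl hfiber, Finset.sum_const, smul_eq_mul, hQcard] at hcount
    show 𝒮.card = 1771
    omega

end Cfsg.Agent.S1550
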