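-- Statement S1551: structure of a sextet stabiliser.
import Cfsg.Statements.S1551
import Cfsg.Agent.Lib.Helper20.SextetData
import Cfsg.Agent.Lib.Helper4.GolayDod2
import Cfsg.Agent.S1550

set_option autoImplicit false
open scoped Pointwise
open Cfsg

namespace Cfsg.Agent.S1551

open Cfsg.Agent.Lib.Helper4 Cfsg.Agent.Lib.Helper4.Golay Cfsg.Agent.Lib.Helper4.Sx
  Cfsg.Agent.Lib.Helper20.SextetData

theorem mkPerm_mul_apply (l1 l1' l2 l2' : List ℕ) (h1 : chk l1 l1' = true)
    (h2 : chk l2 l2' = true) (p : GolayPt) :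
    (mkPerm l1 l1' h1 * mkPerm l2 l2' h2) p = pt (nth (compL l1 l2) (code p)) := by
  rw [Equiv.Perm.mul_apply, mkPerm_apply, mkPerm_apply, nth_compL _ _ _ (code_lt p),
    code_pt _ ((chk_spec h2).2 _ (code_lt p)).1]

/-- Conjugate points have isomorphic stabilisers. -/
theorem conj_stab1 {G : Type*} [Group G] {α : Type*} [MulAction G α] (k : G) (a : α) :
    Nonempty (↥(MulAction.stabilizer G a) ≃* ↥(MulAction.stabilizer G (k • a))) := by
  rw [MulAction.stabilizer_smul_eq_stabilizer_map_conj k a]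
  exact ⟨(MulAut.conj k).subgroupMap _⟩

/-- Swaps of two tetrads of the standard sextet. -/
theorem swap_std {t u : Finset GolayPt} (ht : t ∈ S0) (hu : u ∈ S0) (hne : t ≠ u) :
    ∃ g ∈ M24, g • t = u ∧ g • u = t ∧ ∀ v ∈ S0, v ≠ t → v ≠ u → g • v = v := by
  obtain ⟨a, ha, rfl⟩ := mem_mkSys.1 ht
  obtain ⟨b, hb, rfl⟩ := mem_mkSys.1 hu
  have hab : a ≠ b := fun e => hne (by rw [e])
  obtain ⟨e, -, hc, hm, e1, e2, e3⟩ := swTab_ok a ha b hb hab
  refine ⟨mkPerm e.1 e.2 hc, mkPerm_mem _ _ _ hm, ?_, ?_, ?_⟩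
  · exact smul_support_word hc e2
  · exact smul_support_word hc e1
  · intro v hv hvt hvu
    obtain ⟨c, hcL, rfl⟩ := mem_mkSys.1 hv
    exact smul_support_word hc
      (e3 c hcL (fun e => hvt (by rw [e])) (fun e => hvu (by rw [e])))

/-- Swaps of two tetrads of any sextet. -/
theorem swap_gen {S : Finset (Finset GolayPt)} (hS : S ∈ sextets) {t u : Finset GolayPt}
    (ht : t ∈ S) (hu : u ∈ S) (hne : t ≠ u) :
    ∃ g ∈ M24, g • S = S ∧ g • t = u ∧ g • u = t ∧ ∀ v ∈ S, v ≠ t → v ≠ u → g • v = v := by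
  obtain ⟨h, hh, hS0⟩ := exists_std hS
  have ht' : h • t ∈ S0 := by rw [← hS0]; exact Finset.smul_mem_smul_finset ht
  have hu' : h • u ∈ S0 := by rw [← hS0]; exact Finset.smul_mem_smul_finset hu
  have hne' : h • t ≠ h • u := fun e => hne (smul_left_cancel h e)
  obtain ⟨g0, hg0, e1, e2, e3⟩ := swap_std ht' hu' hne'
  have A : (h⁻¹ * g0 * h) • t = u := by rw [mul_smul, mul_smul, e1, inv_smul_smul]
  have B : (h⁻¹ * g0 * h) • u = t := by rw [mul_smul, mul_smul, e2, inv_smul_smul]
  have C : ∀ v ∈ S, v ≠ t → v ≠ u → (h⁻¹ * g0 * h) • v = v := by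
    intro v hv hvt hvu
    rw [mul_smul, mul_smul, e3 (h • v) (by rw [← hS0]; exact Finset.smul_mem_smul_finset hv)
      (fun e => hvt (smul_left_cancel h e)) (fun e => hvu (smul_left_cancel h e)),
      inv_smul_smul]
  refine ⟨h⁻¹ * g0 * h, M24.mul_mem (M24.mul_mem (M24.inv_mem hh) hg0) hh, ?_, A, B, C⟩
  apply Finset.eq_of_subset_of_card_le
  · intro x hx
    obtain ⟨v, hv, rfl⟩ := Finset.mem_smul_finset.1 hx
    by_cases h1 : v = t
    · rw [h1, A]; exact hu
    · by_cases h2 : v = u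
      · rw [h2, B]; exact ht
      · rw [C v hv h1 h2]; exact hv
  · rw [Finset.card_smul_finset]

/-- Every permutation of the tetrads is induced. -/
theorem part1 {S : Finset (Finset GolayPt)} (hS : S ∈ sextets) (e : Equiv.Perm ↥S) :
    ∃ g ∈ MulAction.stabilizer M24 S, ∀ t : ↥S,
      (g : Equiv.Perm GolayPt) • (t : Finset GolayPt) = ((e t : ↥S) : Finset GolayPt) := by
  induction e using Equiv.Perm.swap_induction_on with
  | one => exact ⟨1, Subgroup.one_mem _, fun t => one_smul _ _⟩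
  | swap_mul f x y hxy ih =>
    obtain ⟨g, hg, hgf⟩ := ih
    obtain ⟨s, hs, hsS, e1, e2, e3⟩ := swap_gen hS x.2 y.2 (fun h => hxy (Subtype.ext h))
    refine ⟨⟨s, hs⟩ * g, Subgroup.mul_mem _
      (show (⟨s, hs⟩ : ↥M24) ∈ MulAction.stabilizer M24 S from hsS) hg, ?_⟩
    intro t
    show (s * (g : Equiv.Perm GolayPt)) • (t : Finset GolayPt) = _
    rw [mul_smul, hgf t, Equiv.Perm.mul_apply]
    by_cases h1 : f t = x
    · rw [h1, Equiv.swap_apply_left]; exact e1
    · by_cases h2 : f t = y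
      · rw [h2, Equiv.swap_apply_right]; exact e2
      · rw [Equiv.swap_apply_of_ne_of_ne h1 h2]
        exact e3 _ (f t).2 (fun h => h1 (Subtype.ext h)) (fun h => h2 (Subtype.ext h))

theorem card_stab {S : Finset (Finset GolayPt)} (hS : S ∈ sextets) :
    Nat.card ↥(MulAction.stabilizer M24 S) = 138240 := by
  have h := card_orbit_mul_stab (G := ↥M24) S
  have horb : MulAction.orbit ↥M24 S = sextets := by
    ext X
    constructor
    · rintro ⟨g, rfl⟩
      exact smul_sextet g.2 hS
    · intro hX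
      obtain ⟨h1, hh1, e1⟩ := exists_std hS
      obtain ⟨h2, hh2, e2⟩ := exists_std hX
      refine ⟨⟨h2⁻¹ * h1, M24.mul_mem (M24.inv_mem hh2) hh1⟩, ?_⟩
      show (h2⁻¹ * h1) • S = X
      rw [mul_smul, e1, ← e2, inv_smul_smul]
  rw [horb, Cfsg.Agent.S1550.result.2, card_M24] at h
  omega

/-- The action of a sextet stabiliser on the tetrads. -/
@[reducible] def tetAction (S : Finset (Finset GolayPt)) :
    MulAction ↥(MulAction.stabilizer M24 S) ↥S where
  smul g t := ⟨((g : M24) : Equiv.Perm GolayPt) • (t : Finset GolayPt), by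
    have hg : ((g : M24) : Equiv.Perm GolayPt) • S = S := g.2
    have h := Finset.smul_mem_smul_finset (a := ((g : M24) : Equiv.Perm GolayPt)) t.2
    rwa [hg] at h⟩
  one_smul t := Subtype.ext (one_smul _ _)
  mul_smul g h t := Subtype.ext (mul_smul _ _ _)

/-- The permutation representation of a sextet stabiliser on the tetrads. -/
def tetHom (S : Finset (Finset GolayPt)) :
    ↥(MulAction.stabilizer M24 S) →* Equiv.Perm ↥S :=
  @MulAction.toPermHom _ _ _ (tetAction S)

theorem tetHom_apply (S : Finset (Finset GolayPt)) (g : ↥(MulAction.stabilizer M24 S))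
    (t : ↥S) : ((tetHom S g t : ↥S) : Finset GolayPt)
      = ((g : M24) : Equiv.Perm GolayPt) • (t : Finset GolayPt) := rfl

/-- The subgroup fixing each tetrad has order 192. -/
theorem part2 {S : Finset (Finset GolayPt)} (hS : S ∈ sextets) :
    Nat.card {g : ↥(MulAction.stabilizer M24 S) //
      ∀ t ∈ S, ((g : M24) : Equiv.Perm GolayPt) • t = t} = 192 := by
  have hsurj : Function.Surjective (tetHom S) := by
    intro e
    obtain ⟨g, hg, h⟩ := part1 hS e
    refine ⟨⟨g, hg⟩, ?_⟩
    apply Equiv.ext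
    intro t
    apply Subtype.ext
    rw [tetHom_apply]
    exact h t
  have h1 := Subgroup.card_eq_card_quotient_mul_card_subgroup (tetHom S).ker
  rw [Nat.card_congr (QuotientGroup.quotientKerEquivOfSurjective (tetHom S) hsurj).toEquiv,
    Nat.card_perm, card_stab hS] at h1
  have h6 : Nat.card ↥S = 6 := by
    rw [Nat.card_eq_fintype_card, Fintype.card_coe]; exact hS.1
  rw [h6] at h1
  have hker : Nat.card ↥(tetHom S).ker = 192 := by
    have h720 : (6 : ℕ).factorial = 720 := by decide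
    rw [h720] at h1
    omega
  rw [← hker]
  apply Nat.card_congr
  apply Equiv.subtypeEquivRight
  intro g
  rw [MonoidHom.mem_ker]
  constructor
  · intro h
    apply Equiv.ext
    intro t
    apply Subtype.ext
    rw [tetHom_apply]
    exact h t.1 t.2
  · intro h t ht
    have h2 := congrArg (fun e : Equiv.Perm ↥S => ((e ⟨t, ht⟩ : ↥S) : Finset GolayPt)) h
    exact h2

theorem kchk (i : Fin 192) : chk (kE i).1 (kE i).2 = true ∧ memChk (kE i).1 = true ∧
    ∀ b ∈ S0L, pmL (kE i).1 b = b := by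
  have h := kTab_ok
  rw [List.all_eq_true] at h
  have h1 := h i.1 (List.mem_range.2 i.2)
  simp only [Bool.and_eq_true, List.all_eq_true, Nat.beq_eq] at h1
  exact ⟨h1.1.1, h1.1.2, h1.2⟩

/-- The permutation of an entry of the kernel table. -/
def kP (i : Fin 192) : Equiv.Perm GolayPt := mkPerm (kE i).1 (kE i).2 (kchk i).1

theorem kP_mem (i : Fin 192) : kP i ∈ M24 := mkPerm_mem _ _ _ (kchk i).2.1

theorem kP_fix (i : Fin 192) {t : Finset GolayPt} (ht : t ∈ S0) : kP i • t = t := by
  obtain ⟨b, hb, rfl⟩ := mem_mkSys.1 ht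
  exact smul_support_word (kchk i).1 ((kchk i).2.2 b hb)

theorem kP_stab (i : Fin 192) : kP i • S0 = S0 := by
  ext t
  constructor
  · intro h
    obtain ⟨v, hv, rfl⟩ := Finset.mem_smul_finset.1 h
    rw [kP_fix i hv]
    exact hv
  · intro h
    exact Finset.mem_smul_finset.2 ⟨t, h, kP_fix i h⟩

theorem kP_inj {i j : Fin 192} (h : kP i = kP j) : i = j := by
  by_contra hne
  have hd := kTab_diff
  rw [List.all_eq_true] at hd
  have h1 := hd i.1 (List.mem_range.2 i.2)
  rw [List.all_eq_true] at h1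
  have h2 := h1 j.1 (List.mem_range.2 j.2)
  rw [Bool.or_eq_true] at h2
  rcases h2 with h2 | h2
  · exact hne (Fin.ext (Nat.eq_of_beq_eq_true h2))
  · rw [diffB, List.any_eq_true] at h2
    obtain ⟨x, hx, hx2⟩ := h2
    rw [List.mem_range] at hx
    have h3 : kP i (pt x) = kP j (pt x) := by rw [h]
    rw [kP, kP, mkPerm_pt _ _ _ x hx, mkPerm_pt _ _ _ x hx] at h3
    have h4 := pt_inj ((chk_spec (kchk i).1).2 x hx).1 ((chk_spec (kchk j).1).2 x hx).1 h3
    rw [h4, Nat.beq_refl] at hx2
    exact absurd hx2 (by decide)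

theorem sq_of_perm (i : Fin 192) (h : kP i * kP i = 1) : sqB (kE i).1 = true := by
  rw [sqB, List.all_eq_true]
  intro x hx
  rw [List.mem_range] at hx
  have h1 : (kP i * kP i) (pt x) = pt x := by rw [h]; rfl
  rw [kP, mkPerm_mul_apply, code_pt x hx, nth_compL _ _ _ hx] at h1
  have hb := (chk_spec (kchk i).1).2
  have h2 := pt_inj (hb _ (hb x hx).1).1 hx h1
  rw [h2]
  exact Nat.beq_refl x

theorem perm_sq (i : Fin 192) (h : sqB (kE i).1 = true) : kP i * kP i = 1 := by
  ext p
  rw [kP, mkPerm_mul_apply, Equiv.Perm.one_apply, nth_compL _ _ _ (code_lt p)]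
  rw [sqB, List.all_eq_true] at h
  rw [Nat.eq_of_beq_eq_true (h (code p) (List.mem_range.2 (code_lt p))), pt_code]

theorem perm_of_sq (i j : Fin 192) (h : sqB (compL (kE i).1 (kE j).1) = true) :
    (kP i * kP j) * (kP i * kP j) = 1 := by
  ext p
  rw [Equiv.Perm.mul_apply, kP, kP, mkPerm_mul_apply, mkPerm_mul_apply, Equiv.Perm.one_apply]
  rw [sqB, List.all_eq_true] at h
  have hlt : nth (compL (kE i).1 (kE j).1) (code p) < 24 := by
    rw [nth_compL _ _ _ (code_lt p)]
    exact ((chk_spec (kchk i).1).2 _ ((chk_spec (kchk j).1).2 _ (code_lt p)).1).1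
  rw [code_pt _ hlt]
  have h1 := h (code p) (List.mem_range.2 (code_lt p))
  rw [Nat.eq_of_beq_eq_true h1, pt_code]

theorem mem_sqL (i : Fin 192) (h : sqB (kE i).1 = true) : i.1 ∈ sqL := by
  rw [sqL, List.mem_filter]
  exact ⟨List.mem_range.2 i.2, h⟩

theorem sq_mul (i j : Fin 192) (hi : sqB (kE i).1 = true) (hj : sqB (kE j).1 = true) :
    sqB (compL (kE i).1 (kE j).1) = true := by
  have h := kTab_sq
  rw [List.all_eq_true] at h
  have h1 := h i.1 (mem_sqL i hi)
  rw [List.all_eq_true] at h1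
  exact h1 j.1 (mem_sqL j hj)

/-- The table entries as elements of the kernel. -/
def kF (i : Fin 192) : {g : ↥(MulAction.stabilizer M24 S0) //
    ∀ t ∈ S0, ((g : M24) : Equiv.Perm GolayPt) • t = t} :=
  ⟨⟨⟨kP i, kP_mem i⟩, kP_stab i⟩, fun _ ht => kP_fix i ht⟩

theorem kF_val (i : Fin 192) : (((kF i).1 : M24) : Equiv.Perm GolayPt) = kP i := rfl

theorem kF_inj : Function.Injective kF := by
  intro i j h
  apply kP_inj
  rw [← kF_val i, ← kF_val j, h]

theorem kF_surj : Function.Surjective kF :=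
  (kF_inj.bijective_of_nat_card_le (by
    rw [part2 S0_sextet, Nat.card_eq_fintype_card, Fintype.card_fin])).2

theorem cnt64 : Fintype.card {i : Fin 192 // sqB (kE i.1).1 = true} = 64 := by
  decide +kernel

/-- The normal subgroup of order 64 of the stabiliser of the standard sextet. -/
def N0 : Subgroup ↥(MulAction.stabilizer M24 S0) where
  carrier := {g | (∀ t ∈ S0, ((g : M24) : Equiv.Perm GolayPt) • t = t) ∧ g * g = 1}
  one_mem' := ⟨fun t _ => one_smul _ t, mul_one 1⟩
  inv_mem' := by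
    rintro g ⟨h1, h2⟩
    refine ⟨fun t ht => ?_, ?_⟩
    · show (((g : M24) : Equiv.Perm GolayPt))⁻¹ • t = t
      rw [inv_smul_eq_iff, h1 t ht]
    · rw [← mul_inv_rev, h2, inv_one]
  mul_mem' := by
    rintro a b ⟨ha1, ha2⟩ ⟨hb1, hb2⟩
    refine ⟨fun t ht => ?_, ?_⟩
    · show (((a : M24) : Equiv.Perm GolayPt) * ((b : M24) : Equiv.Perm GolayPt)) • t = t
      rw [mul_smul, hb1 t ht, ha1 t ht]
    · obtain ⟨i, hi⟩ := kF_surj ⟨a, ha1⟩
      obtain ⟨j, hj⟩ := kF_surj ⟨b, hb1⟩
      have eA : ((a : M24) : Equiv.Perm GolayPt) = kP i := by rw [← kF_val i, hi]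
      have eB : ((b : M24) : Equiv.Perm GolayPt) = kP j := by rw [← kF_val j, hj]
      have sA : kP i * kP i = 1 := by
        rw [← eA]
        exact congrArg (fun z : ↥(MulAction.stabilizer M24 S0) =>
          ((z : M24) : Equiv.Perm GolayPt)) ha2
      have sB : kP j * kP j = 1 := by
        rw [← eB]
        exact congrArg (fun z : ↥(MulAction.stabilizer M24 S0) =>
          ((z : M24) : Equiv.Perm GolayPt)) hb2
      have h3 := perm_of_sq i j (sq_mul i j (sq_of_perm i sA) (sq_of_perm j sB))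
      apply Subtype.ext
      apply Subtype.ext
      show ((a : M24) : Equiv.Perm GolayPt) * ((b : M24) : Equiv.Perm GolayPt) *
        (((a : M24) : Equiv.Perm GolayPt) * ((b : M24) : Equiv.Perm GolayPt)) = 1
      rw [eA, eB]
      exact h3

theorem N0_normal : N0.Normal := by
  constructor
  rintro n ⟨h1, h2⟩ g
  refine ⟨fun t ht => ?_, ?_⟩
  · have hg : ((g : M24) : Equiv.Perm GolayPt) • S0 = S0 := g.2
    have ht' : (((g : M24) : Equiv.Perm GolayPt))⁻¹ • t ∈ S0 :=
      Finset.inv_smul_mem_iff.mpr (by rw [hg]; exact ht)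
    show (((g : M24) : Equiv.Perm GolayPt) * ((n : M24) : Equiv.Perm GolayPt) *
      (((g : M24) : Equiv.Perm GolayPt))⁻¹) • t = t
    rw [mul_smul, mul_smul, h1 _ ht', smul_inv_smul]
  · rw [show g * n * g⁻¹ * (g * n * g⁻¹) = g * (n * n) * g⁻¹ by group, h2]
    group

theorem card_N0 : Nat.card ↥N0 = 64 := by
  apply le_antisymm
  · -- an injection into the indices of square-trivial entries
    have hex : ∀ g : ↥N0, ∃ i : Fin 192, kF i = ⟨g.1, g.2.1⟩ := fun g => kF_surj _
    let ι : ↥N0 → {i : Fin 192 // sqB (kE i.1).1 = true} := fun g =>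
      ⟨(hex g).choose, by
        apply sq_of_perm
        have e := (hex g).choose_spec
        have eA : kP (hex g).choose = (((g.1 : ↥(MulAction.stabilizer M24 S0)) : M24) :
            Equiv.Perm GolayPt) := by rw [← kF_val, e]
        rw [eA]
        exact congrArg (fun z : ↥(MulAction.stabilizer M24 S0) =>
          ((z : M24) : Equiv.Perm GolayPt)) g.2.2⟩
    have hι : Function.Injective ι := by
      intro g g' h
      have h1 : (hex g).choose = (hex g').choose := congrArg Subtype.val h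
      have e := (hex g).choose_spec
      have e' := (hex g').choose_spec
      rw [h1, e'] at e
      exact Subtype.ext (congrArg Subtype.val e).symm
    have h3 := Nat.card_le_card_of_injective ι hι
    rw [Nat.card_eq_fintype_card (α := {i : Fin 192 // sqB (kE i.1).1 = true}), cnt64] at h3
    exact h3
  · let κ : {i : Fin 192 // sqB (kE i.1).1 = true} → ↥N0 := fun i =>
      ⟨(kF i.1).1, (kF i.1).2, by
        apply Subtype.ext
        apply Subtype.ext
        exact perm_sq i.1 i.2⟩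
    have hκ : Function.Injective κ := by
      intro i j h
      apply Subtype.ext
      apply kP_inj
      exact congrArg (fun z : ↥N0 => (((z.1 : ↥(MulAction.stabilizer M24 S0)) : M24) :
        Equiv.Perm GolayPt)) h
    have h3 := Nat.card_le_card_of_injective κ hκ
    rw [Nat.card_eq_fintype_card (α := {i : Fin 192 // sqB (kE i.1).1 = true}), cnt64] at h3
    exact h3

/-- Structure of a sextet stabiliser: it induces every permutation of the six tetrads, the subgroup fixing each tetrad setwise has order 192, and there is a normal subgroup of order 64 consisting of elements squaring to the identity. -/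
theorem result (S : Finset (Finset Cfsg.GolayPt)) (hS : S ∈ Cfsg.sextets) : (∀ e : Equiv.Perm ↥S, ∃ g ∈ MulAction.stabilizer Cfsg.M24 S, ∀ t : ↥S, (g : Equiv.Perm Cfsg.GolayPt) • (t : Finset Cfsg.GolayPt) = ((e t : ↥S) : Finset Cfsg.GolayPt)) ∧ Nat.card {g : ↥(MulAction.stabilizer Cfsg.M24 S) // ∀ t ∈ S, ((g : Cfsg.M24) : Equiv.Perm Cfsg.GolayPt) • t = t} = 192 ∧ ∃ N : Subgroup ↥(MulAction.stabilizer Cfsg.M24 S), N.Normal ∧ Nat.card N = 64 ∧ ∀ x ∈ N, x * x = 1 := by
  refine ⟨part1 hS, part2 hS, ?_⟩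
  obtain ⟨h, hh, hS0⟩ := exists_std hS
  obtain ⟨c⟩ := conj_stab1 (G := ↥M24) ⟨h, hh⟩ S
  have h1 : (⟨h, hh⟩ : ↥M24) • S = S0 := hS0
  rw [h1] at c
  refine ⟨N0.map c.symm.toMonoidHom, N0_normal.map _ c.symm.surjective, ?_, ?_⟩
  · rw [Subgroup.card_map_of_injective c.symm.injective, card_N0]
  · rintro x ⟨y, hy, rfl⟩
    show c.symm y * c.symm y = 1
    rw [← map_mul, hy.2, map_one]

end Cfsg.Agent.S1551
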