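import Cfsg.Statements.S1594
import Cfsg.Agent.S1593

set_option autoImplicit false
open Cfsg

namespace Cfsg.Agent.S1594


open Cfsg.Agent.Lib.Helper13
open scoped Pointwise

/-- A monomial map preserves the code. -/
def tPres (σ : Equiv.Perm Cfsg.ArrayPt) (c : Cfsg.ArrayPt → (ZMod 3)ˣ) : Prop :=
  ∀ x ∈ Cfsg.ternaryGolayCode, Cfsg.monomialMap σ c x ∈ Cfsg.ternaryGolayCode

theorem mono_add (σ : Equiv.Perm Cfsg.ArrayPt) (c : Cfsg.ArrayPt → (ZMod 3)ˣ)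
    (x y : Cfsg.ArrayPt → ZMod 3) :
    Cfsg.monomialMap σ c (x + y) = Cfsg.monomialMap σ c x + Cfsg.monomialMap σ c y := by
  funext i
  simp [Cfsg.monomialMap, mul_add]

theorem mono_smul (σ : Equiv.Perm Cfsg.ArrayPt) (c : Cfsg.ArrayPt → (ZMod 3)ˣ) (a : ZMod 3)
    (x : Cfsg.ArrayPt → ZMod 3) :
    Cfsg.monomialMap σ c (a • x) = a • Cfsg.monomialMap σ c x := by
  funext i
  simp [Cfsg.monomialMap, mul_left_comm]

theorem mono_injective (σ : Equiv.Perm Cfsg.ArrayPt) (c : Cfsg.ArrayPt → (ZMod 3)ˣ) :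
    Function.Injective (Cfsg.monomialMap (F := ZMod 3) σ c) := by
  intro x y h
  funext j
  have h1 := congrFun h (σ j)
  simp only [Cfsg.monomialMap, Equiv.symm_apply_apply] at h1
  exact mul_left_cancel₀ (c (σ j)).ne_zero h1

theorem tPres_one : tPres 1 1 := by
  intro x hx
  have : Cfsg.monomialMap (1 : Equiv.Perm Cfsg.ArrayPt) (1 : Cfsg.ArrayPt → (ZMod 3)ˣ) x = x := by
    funext i
    show ((1 : (ZMod 3)ˣ) : ZMod 3) * x i = x i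
    simp
  rw [this]; exact hx

theorem tPres_mul {σ τ : Equiv.Perm Cfsg.ArrayPt} {c d : Cfsg.ArrayPt → (ZMod 3)ˣ}
    (h1 : tPres σ c) (h2 : tPres τ d) : tPres (σ * τ) (fun i => c i * d (σ.symm i)) := by
  intro x hx
  have : Cfsg.monomialMap (σ * τ) (fun i => c i * d (σ.symm i)) x =
      Cfsg.monomialMap σ c (Cfsg.monomialMap τ d x) := by
    funext i
    show ((c i * d (σ.symm i) : (ZMod 3)ˣ) : ZMod 3) * x (τ.symm (σ.symm i)) =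
      (c i : ZMod 3) * ((d (σ.symm i) : ZMod 3) * x (τ.symm (σ.symm i)))
    rw [Units.val_mul, mul_assoc]
  rw [this]
  exact h1 _ (h2 x hx)

theorem tPres_smul {σ : Equiv.Perm Cfsg.ArrayPt} {c : Cfsg.ArrayPt → (ZMod 3)ˣ} (h1 : tPres σ c)
    (u : (ZMod 3)ˣ) : tPres σ (fun i => u * c i) := by
  intro x hx
  have : Cfsg.monomialMap σ (fun i => u * c i) x = (u : ZMod 3) • Cfsg.monomialMap σ c x := by
    funext i
    show ((u * c i : (ZMod 3)ˣ) : ZMod 3) * x (σ.symm i) =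
      (u : ZMod 3) * ((c i : ZMod 3) * x (σ.symm i))
    rw [Units.val_mul, mul_assoc]
  rw [this]
  exact Submodule.smul_mem _ _ (h1 x hx)

theorem tPres_surj {σ : Equiv.Perm Cfsg.ArrayPt} {d : Cfsg.ArrayPt → (ZMod 3)ˣ}
    (h : tPres σ d) {y : Cfsg.ArrayPt → ZMod 3} (hy : y ∈ Cfsg.ternaryGolayCode) :
    ∃ x ∈ Cfsg.ternaryGolayCode, Cfsg.monomialMap σ d x = y := by
  have hfin : ((Cfsg.ternaryGolayCode : Submodule (ZMod 3) (Cfsg.ArrayPt → ZMod 3)) :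
      Set (Cfsg.ArrayPt → ZMod 3)).Finite := Set.toFinite _
  have hm : Set.MapsTo (Cfsg.monomialMap σ d)
      ((Cfsg.ternaryGolayCode : Submodule (ZMod 3) (Cfsg.ArrayPt → ZMod 3)) :
        Set (Cfsg.ArrayPt → ZMod 3))
      ((Cfsg.ternaryGolayCode : Submodule (ZMod 3) (Cfsg.ArrayPt → ZMod 3)) :
        Set (Cfsg.ArrayPt → ZMod 3)) := fun x hx => h x hx
  have hb := (hfin.injOn_iff_bijOn_of_mapsTo hm).1 (mono_injective σ d).injOn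
  obtain ⟨x, hx, hxy⟩ := hb.surjOn hy
  exact ⟨x, hx, hxy⟩

theorem tPres_div {σ : Equiv.Perm Cfsg.ArrayPt} {c d : Cfsg.ArrayPt → (ZMod 3)ˣ}
    (h1 : tPres σ c) (h2 : tPres σ d) : tPres 1 (fun i => c i * (d i)⁻¹) := by
  intro y hy
  obtain ⟨x, hx, rfl⟩ := tPres_surj h2 hy
  have : Cfsg.monomialMap (1 : Equiv.Perm Cfsg.ArrayPt) (fun i => c i * (d i)⁻¹)
      (Cfsg.monomialMap σ d x) = Cfsg.monomialMap σ c x := by
    funext i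
    show ((c i * (d i)⁻¹ : (ZMod 3)ˣ) : ZMod 3) * ((d i : ZMod 3) * x (σ.symm i)) =
      (c i : ZMod 3) * x (σ.symm i)
    rw [Units.val_mul, mul_assoc, ← mul_assoc (((d i)⁻¹ : (ZMod 3)ˣ) : ZMod 3), Units.inv_mul,
      one_mul]
  rw [this]
  exact h1 x hx

theorem mem_supp (x : Cfsg.ArrayPt → ZMod 3) (a : Cfsg.ArrayPt) :
    a ∈ Cfsg.ternarySupport x ↔ x a ≠ 0 := by
  unfold Cfsg.ternarySupport
  rw [Finset.mem_filter]
  simp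

theorem supp_mono (σ : Equiv.Perm Cfsg.ArrayPt) (c : Cfsg.ArrayPt → (ZMod 3)ˣ)
    (x : Cfsg.ArrayPt → ZMod 3) :
    Cfsg.ternarySupport (Cfsg.monomialMap σ c x) = σ • Cfsg.ternarySupport x := by
  ext i
  rw [mem_supp, Finset.mem_smul_finset]
  constructor
  · intro h
    refine ⟨σ.symm i, ?_, ?_⟩
    · rw [mem_supp]
      intro h0
      apply h
      show (c i : ZMod 3) * x (σ.symm i) = 0
      rw [h0, mul_zero]
    · show σ (σ.symm i) = i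
      simp
  · rintro ⟨j, hj, rfl⟩
    rw [mem_supp] at hj
    show (c (σ j) : ZMod 3) * x (σ.symm (σ j)) ≠ 0
    rw [Equiv.symm_apply_apply]
    exact mul_ne_zero (Units.ne_zero _) hj

/-- Permutation parts of monomial automorphisms preserve the hexad system. -/
theorem pres_stab {σ : Equiv.Perm Cfsg.ArrayPt} {c : Cfsg.ArrayPt → (ZMod 3)ˣ} (h : tPres σ c) :
    σ • (↑Cfsg.Agent.S1592.hexFin : Set (Finset Cfsg.ArrayPt)) = ↑Cfsg.Agent.S1592.hexFin := by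
  have hsub : σ • (↑Cfsg.Agent.S1592.hexFin : Set (Finset Cfsg.ArrayPt)) ⊆
      ↑Cfsg.Agent.S1592.hexFin := by
    rintro _ ⟨b, hb, rfl⟩
    obtain ⟨x, hx, rfl, h6⟩ := Cfsg.Agent.S1592.mem_hexFin.1 (Finset.mem_coe.1 hb)
    refine Finset.mem_coe.2 (Cfsg.Agent.S1592.mem_hexFin.2
      ⟨Cfsg.monomialMap σ c x, h x hx, supp_mono σ c x, ?_⟩)
    rw [Finset.card_smul_finset]; exact h6
  apply Set.eq_of_subset_of_ncard_le hsub _ (Set.toFinite _)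
  rw [Set.ncard_smul_set]

/-- Decidable membership in the code. -/
def tgIn (y : Cfsg.ArrayPt → ZMod 3) : Prop :=
  y = tgGen (y (0, 0)) (y (0, 1)) (y (0, 2)) (y (1, 0)) (y (1, 1)) (y (2, 0))

instance (y : Cfsg.ArrayPt → ZMod 3) : Decidable (tgIn y) := by unfold tgIn; infer_instance

theorem tgIn_mem {y : Cfsg.ArrayPt → ZMod 3} (h : tgIn y) : y ∈ Cfsg.ternaryGolayCode := by
  unfold tgIn at h
  rw [h]; exact tgGen_mem _ _ _ _ _ _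

/-- Decidable criterion for a monomial map to preserve the code. -/
def tgPresC (σ : Equiv.Perm Cfsg.ArrayPt) (c : Cfsg.ArrayPt → (ZMod 3)ˣ) : Prop :=
  ∀ k : Fin 6, tgIn (Cfsg.monomialMap σ c (tgBasis k))

instance (σ : Equiv.Perm Cfsg.ArrayPt) (c : Cfsg.ArrayPt → (ZMod 3)ˣ) : Decidable (tgPresC σ c) := by
  unfold tgPresC; infer_instance

theorem tPres_of_C {σ : Equiv.Perm Cfsg.ArrayPt} {c : Cfsg.ArrayPt → (ZMod 3)ˣ}
    (h : tgPresC σ c) : tPres σ c := by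
  intro x hx
  obtain ⟨a, b, c', d, e, f, rfl⟩ := (tg_mem_iff_gen x).1 hx
  rw [tgGen_lin, mono_add, mono_add, mono_add, mono_add, mono_add, mono_smul, mono_smul, mono_smul,
    mono_smul, mono_smul, mono_smul]
  have hk : ∀ k, Cfsg.monomialMap σ c (tgBasis k) ∈ Cfsg.ternaryGolayCode := fun k => tgIn_mem (h k)
  exact Submodule.add_mem _ (Submodule.add_mem _ (Submodule.add_mem _ (Submodule.add_mem _
    (Submodule.add_mem _ (Submodule.smul_mem _ _ (hk 0)) (Submodule.smul_mem _ _ (hk 1)))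
    (Submodule.smul_mem _ _ (hk 2))) (Submodule.smul_mem _ _ (hk 3)))
    (Submodule.smul_mem _ _ (hk 4))) (Submodule.smul_mem _ _ (hk 5))

/-- Decoding of point indices. -/
def ptOf : ℕ → Cfsg.ArrayPt
  | 0 => (0, 0) | 1 => (0, 1) | 2 => (0, 2) | 3 => (1, 0) | 4 => (1, 1) | 5 => (1, 2)
  | 6 => (2, 0) | 7 => (2, 1) | 8 => (2, 2) | 9 => (3, 0) | 10 => (3, 1) | _ => (3, 2)

def codeOf (p : Cfsg.ArrayPt) : ℕ := 3 * p.1.val + p.2.val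

def nth3 (t : List (List (List ℕ))) (k q p : ℕ) : ℕ := ((t.getD k []).getD q []).getD p 0

def tblF : List (List (List ℕ)) :=
  [[[0, 1, 2, 3, 4, 5, 6, 7, 8, 9, 10, 11],
    [1, 0, 2, 3, 4, 5, 11, 9, 10, 7, 8, 6],
    [2, 0, 1, 3, 4, 5, 8, 6, 7, 10, 11, 9],
    [3, 0, 1, 2, 4, 5, 10, 7, 6, 8, 9, 11],
    [4, 0, 1, 2, 3, 5, 6, 9, 10, 11, 7, 8],
    [5, 0, 1, 2, 3, 4, 9, 6, 8, 7, 11, 10],
    [6, 0, 1, 2, 3, 9, 5, 4, 7, 10, 8, 11],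
    [7, 0, 1, 2, 3, 11, 10, 8, 9, 4, 5, 6],
    [8, 0, 1, 2, 3, 10, 7, 11, 4, 6, 9, 5],
    [9, 0, 1, 2, 3, 6, 4, 5, 11, 8, 10, 7],
    [10, 0, 1, 2, 3, 8, 11, 7, 5, 9, 6, 4],
    [11, 0, 1, 2, 3, 7, 8, 10, 6, 5, 4, 9]],
   [[0, 1, 2, 3, 4, 5, 6, 7, 8, 9, 10, 11],
    [0, 1, 2, 3, 4, 5, 6, 7, 8, 9, 10, 11],
    [0, 2, 1, 3, 4, 5, 9, 10, 11, 6, 7, 8],
    [0, 3, 1, 2, 4, 5, 11, 8, 9, 7, 6, 10],
    [0, 4, 1, 2, 3, 5, 8, 11, 7, 9, 10, 6],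
    [0, 5, 1, 2, 3, 4, 10, 7, 11, 6, 8, 9],
    [0, 6, 1, 2, 3, 9, 11, 10, 8, 4, 7, 5],
    [0, 7, 1, 2, 3, 11, 6, 4, 5, 8, 9, 10],
    [0, 8, 1, 2, 3, 10, 5, 6, 9, 11, 4, 7],
    [0, 9, 1, 2, 3, 6, 7, 8, 10, 5, 11, 4],
    [0, 10, 1, 2, 3, 8, 4, 9, 6, 7, 5, 11],
    [0, 11, 1, 2, 3, 7, 9, 5, 4, 10, 6, 8]],
   [[0, 1, 2, 3, 4, 5, 6, 7, 8, 9, 10, 11],
    [0, 1, 2, 3, 4, 5, 6, 7, 8, 9, 10, 11],
    [0, 1, 2, 3, 4, 5, 6, 7, 8, 9, 10, 11],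
    [0, 1, 3, 2, 4, 5, 7, 6, 10, 11, 8, 9],
    [0, 1, 4, 2, 3, 5, 9, 10, 6, 8, 11, 7],
    [0, 1, 5, 2, 3, 4, 6, 8, 9, 10, 7, 11],
    [0, 1, 6, 2, 3, 9, 4, 7, 5, 11, 10, 8],
    [0, 1, 7, 2, 3, 11, 8, 9, 10, 6, 4, 5],
    [0, 1, 8, 2, 3, 10, 11, 4, 7, 5, 6, 9],
    [0, 1, 9, 2, 3, 6, 5, 11, 4, 7, 8, 10],
    [0, 1, 10, 2, 3, 8, 7, 5, 11, 4, 9, 6],
    [0, 1, 11, 2, 3, 7, 10, 6, 8, 9, 5, 4]],
   [[0, 1, 2, 3, 4, 5, 6, 7, 8, 9, 10, 11],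
    [0, 1, 2, 3, 4, 5, 6, 7, 8, 9, 10, 11],
    [0, 1, 2, 3, 4, 5, 6, 7, 8, 9, 10, 11],
    [0, 1, 2, 3, 4, 5, 6, 7, 8, 9, 10, 11],
    [0, 1, 2, 4, 3, 5, 10, 9, 11, 7, 6, 8],
    [0, 1, 2, 5, 3, 4, 8, 6, 7, 11, 9, 10],
    [0, 1, 2, 6, 3, 9, 7, 4, 10, 8, 5, 11],
    [0, 1, 2, 7, 3, 11, 9, 8, 4, 5, 10, 6],
    [0, 1, 2, 8, 3, 10, 4, 11, 6, 9, 7, 5],
    [0, 1, 2, 9, 3, 6, 11, 5, 8, 10, 4, 7],
    [0, 1, 2, 10, 3, 8, 5, 7, 9, 6, 11, 4],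
    [0, 1, 2, 11, 3, 7, 6, 10, 5, 4, 8, 9]],
   [[0, 1, 2, 3, 4, 5, 6, 7, 8, 9, 10, 11],
    [0, 1, 2, 3, 4, 5, 6, 7, 8, 9, 10, 11],
    [0, 1, 2, 3, 4, 5, 6, 7, 8, 9, 10, 11],
    [0, 1, 2, 3, 4, 5, 6, 7, 8, 9, 10, 11],
    [0, 1, 2, 3, 4, 5, 6, 7, 8, 9, 10, 11],
    [0, 1, 2, 3, 5, 4, 9, 11, 10, 6, 8, 7],
    [0, 1, 2, 3, 6, 9, 5, 8, 11, 4, 7, 10],
    [0, 1, 2, 3, 7, 11, 10, 5, 6, 8, 9, 4],
    [0, 1, 2, 3, 8, 10, 7, 9, 5, 11, 4, 6],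
    [0, 1, 2, 3, 9, 6, 4, 10, 7, 5, 11, 8],
    [0, 1, 2, 3, 10, 8, 11, 6, 4, 7, 5, 9],
    [0, 1, 2, 3, 11, 7, 8, 4, 9, 10, 6, 5]]]

def tblG : List (List (List ℕ)) :=
  [[[0, 1, 2, 3, 4, 5, 6, 7, 8, 9, 10, 11],
    [1, 0, 2, 3, 4, 5, 11, 9, 10, 7, 8, 6],
    [1, 2, 0, 3, 4, 5, 7, 8, 6, 11, 9, 10],
    [1, 2, 3, 0, 4, 5, 8, 7, 9, 10, 6, 11],
    [1, 2, 3, 4, 0, 5, 6, 10, 11, 7, 8, 9],
    [1, 2, 3, 4, 5, 0, 7, 9, 8, 6, 11, 10],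
    [1, 2, 3, 4, 7, 6, 0, 8, 10, 5, 9, 11],
    [1, 2, 3, 4, 9, 10, 11, 0, 7, 8, 6, 5],
    [1, 2, 3, 4, 8, 11, 9, 6, 0, 10, 5, 7],
    [1, 2, 3, 4, 6, 7, 5, 11, 9, 0, 10, 8],
    [1, 2, 3, 4, 11, 8, 10, 7, 5, 9, 0, 6],
    [1, 2, 3, 4, 10, 9, 8, 5, 6, 11, 7, 0]],
   [[0, 1, 2, 3, 4, 5, 6, 7, 8, 9, 10, 11],
    [0, 1, 2, 3, 4, 5, 6, 7, 8, 9, 10, 11],
    [0, 2, 1, 3, 4, 5, 9, 10, 11, 6, 7, 8],
    [0, 2, 3, 1, 4, 5, 10, 9, 7, 8, 11, 6],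
    [0, 2, 3, 4, 1, 5, 11, 8, 6, 9, 10, 7],
    [0, 2, 3, 4, 5, 1, 9, 7, 10, 11, 6, 8],
    [0, 2, 3, 4, 9, 11, 1, 10, 8, 5, 7, 6],
    [0, 2, 3, 4, 7, 8, 6, 1, 9, 10, 11, 5],
    [0, 2, 3, 4, 10, 6, 7, 11, 1, 8, 5, 9],
    [0, 2, 3, 4, 11, 9, 5, 6, 7, 1, 8, 10],
    [0, 2, 3, 4, 6, 10, 8, 9, 5, 7, 1, 11],
    [0, 2, 3, 4, 8, 7, 10, 5, 11, 6, 9, 1]],
   [[0, 1, 2, 3, 4, 5, 6, 7, 8, 9, 10, 11],
    [0, 1, 2, 3, 4, 5, 6, 7, 8, 9, 10, 11],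
    [0, 1, 2, 3, 4, 5, 6, 7, 8, 9, 10, 11],
    [0, 1, 3, 2, 4, 5, 7, 6, 10, 11, 8, 9],
    [0, 1, 3, 4, 2, 5, 8, 11, 9, 6, 7, 10],
    [0, 1, 3, 4, 5, 2, 6, 10, 7, 8, 9, 11],
    [0, 1, 3, 4, 6, 8, 2, 7, 11, 5, 10, 9],
    [0, 1, 3, 4, 10, 11, 9, 2, 6, 7, 8, 5],
    [0, 1, 3, 4, 7, 9, 10, 8, 2, 11, 5, 6],
    [0, 1, 3, 4, 8, 6, 5, 9, 10, 2, 11, 7],
    [0, 1, 3, 4, 9, 7, 11, 6, 5, 10, 2, 8],
    [0, 1, 3, 4, 11, 10, 7, 5, 8, 9, 6, 2]],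
   [[0, 1, 2, 3, 4, 5, 6, 7, 8, 9, 10, 11],
    [0, 1, 2, 3, 4, 5, 6, 7, 8, 9, 10, 11],
    [0, 1, 2, 3, 4, 5, 6, 7, 8, 9, 10, 11],
    [0, 1, 2, 3, 4, 5, 6, 7, 8, 9, 10, 11],
    [0, 1, 2, 4, 3, 5, 10, 9, 11, 7, 6, 8],
    [0, 1, 2, 4, 5, 3, 7, 8, 6, 10, 11, 9],
    [0, 1, 2, 4, 7, 10, 3, 6, 9, 5, 8, 11],
    [0, 1, 2, 4, 8, 9, 11, 3, 7, 6, 10, 5],
    [0, 1, 2, 4, 6, 11, 8, 10, 3, 9, 5, 7],
    [0, 1, 2, 4, 10, 7, 5, 11, 8, 3, 9, 6],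
    [0, 1, 2, 4, 11, 6, 9, 7, 5, 8, 3, 10],
    [0, 1, 2, 4, 9, 8, 6, 5, 10, 11, 7, 3]],
   [[0, 1, 2, 3, 4, 5, 6, 7, 8, 9, 10, 11],
    [0, 1, 2, 3, 4, 5, 6, 7, 8, 9, 10, 11],
    [0, 1, 2, 3, 4, 5, 6, 7, 8, 9, 10, 11],
    [0, 1, 2, 3, 4, 5, 6, 7, 8, 9, 10, 11],
    [0, 1, 2, 3, 4, 5, 6, 7, 8, 9, 10, 11],
    [0, 1, 2, 3, 5, 4, 9, 11, 10, 6, 8, 7],
    [0, 1, 2, 3, 9, 6, 4, 10, 7, 5, 11, 8],
    [0, 1, 2, 3, 11, 7, 8, 4, 9, 10, 6, 5],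
    [0, 1, 2, 3, 10, 8, 11, 6, 4, 7, 5, 9],
    [0, 1, 2, 3, 6, 9, 5, 8, 11, 4, 7, 10],
    [0, 1, 2, 3, 8, 10, 7, 9, 5, 11, 4, 6],
    [0, 1, 2, 3, 7, 11, 10, 5, 6, 8, 9, 4]]]

def tblC : List (List (List ℕ)) :=
  [[[1, 1, 1, 1, 1, 1, 1, 1, 1, 1, 1, 1],
    [1, 1, 1, 1, 1, 1, 1, 1, 1, 1, 1, 1],
    [1, 1, 1, 1, 1, 1, 1, 1, 1, 1, 1, 1],
    [1, 1, 2, 2, 1, 1, 2, 2, 1, 2, 1, 2],
    [1, 1, 2, 1, 2, 1, 1, 2, 2, 2, 2, 1],
    [1, 1, 2, 1, 1, 2, 2, 1, 2, 1, 2, 2],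
    [1, 2, 1, 1, 2, 1, 2, 2, 2, 1, 1, 2],
    [1, 2, 2, 2, 2, 1, 1, 1, 1, 1, 2, 2],
    [1, 1, 1, 2, 1, 1, 2, 2, 1, 1, 2, 1],
    [1, 2, 1, 1, 1, 2, 1, 2, 1, 2, 2, 2],
    [1, 1, 1, 2, 1, 1, 1, 1, 2, 2, 1, 2],
    [1, 2, 2, 2, 1, 2, 1, 2, 2, 1, 1, 1]],
   [[1, 1, 1, 1, 1, 1, 1, 1, 1, 1, 1, 1],
    [1, 1, 1, 1, 1, 1, 1, 1, 1, 1, 1, 1],
    [1, 1, 1, 1, 1, 1, 1, 1, 1, 1, 1, 1],
    [1, 1, 2, 2, 1, 1, 2, 2, 1, 2, 1, 2],
    [1, 1, 2, 1, 2, 1, 1, 2, 2, 2, 2, 1],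
    [1, 1, 2, 1, 1, 2, 2, 1, 2, 1, 2, 2],
    [1, 2, 1, 1, 2, 1, 2, 2, 2, 1, 1, 2],
    [1, 2, 2, 2, 2, 1, 1, 1, 1, 1, 2, 2],
    [1, 1, 1, 2, 1, 1, 2, 2, 1, 1, 2, 1],
    [1, 2, 1, 1, 1, 2, 1, 2, 1, 2, 2, 2],
    [1, 1, 1, 2, 1, 1, 1, 1, 2, 2, 1, 2],
    [1, 2, 2, 2, 1, 2, 1, 2, 2, 1, 1, 1]],
   [[1, 1, 1, 1, 1, 1, 1, 1, 1, 1, 1, 1],
    [1, 1, 1, 1, 1, 1, 1, 1, 1, 1, 1, 1],
    [1, 1, 1, 1, 1, 1, 1, 1, 1, 1, 1, 1],
    [1, 1, 2, 2, 1, 1, 2, 2, 1, 2, 1, 2],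
    [1, 1, 2, 1, 2, 1, 1, 2, 2, 2, 2, 1],
    [1, 1, 2, 1, 1, 2, 2, 1, 2, 1, 2, 2],
    [1, 2, 1, 1, 2, 1, 2, 2, 2, 1, 1, 2],
    [1, 2, 2, 2, 2, 1, 1, 1, 1, 1, 2, 2],
    [1, 1, 1, 2, 1, 1, 2, 2, 1, 1, 2, 1],
    [1, 2, 1, 1, 1, 2, 1, 2, 1, 2, 2, 2],
    [1, 1, 1, 2, 1, 1, 1, 1, 2, 2, 1, 2],
    [1, 2, 2, 2, 1, 2, 1, 2, 2, 1, 1, 1]],
   [[1, 1, 1, 1, 1, 1, 1, 1, 1, 1, 1, 1],
    [1, 1, 1, 1, 1, 1, 1, 1, 1, 1, 1, 1],
    [1, 1, 1, 1, 1, 1, 1, 1, 1, 1, 1, 1],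
    [1, 1, 1, 1, 1, 1, 1, 1, 1, 1, 1, 1],
    [1, 1, 1, 1, 1, 1, 1, 1, 1, 1, 1, 1],
    [1, 1, 1, 1, 1, 1, 1, 1, 1, 1, 1, 1],
    [1, 2, 2, 1, 1, 1, 1, 1, 1, 1, 1, 1],
    [1, 2, 1, 2, 2, 2, 2, 2, 2, 2, 2, 2],
    [1, 1, 2, 2, 2, 2, 2, 2, 2, 2, 2, 2],
    [1, 2, 2, 1, 1, 1, 1, 1, 1, 1, 1, 1],
    [1, 1, 2, 2, 2, 2, 2, 2, 2, 2, 2, 2],
    [1, 2, 1, 2, 2, 2, 2, 2, 2, 2, 2, 2]],
   [[1, 1, 1, 1, 1, 1, 1, 1, 1, 1, 1, 1],
    [1, 1, 1, 1, 1, 1, 1, 1, 1, 1, 1, 1],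
    [1, 1, 1, 1, 1, 1, 1, 1, 1, 1, 1, 1],
    [1, 1, 1, 1, 1, 1, 1, 1, 1, 1, 1, 1],
    [1, 1, 1, 1, 1, 1, 1, 1, 1, 1, 1, 1],
    [1, 1, 1, 1, 1, 1, 1, 1, 1, 1, 1, 1],
    [1, 2, 2, 1, 1, 1, 1, 1, 1, 1, 1, 1],
    [1, 2, 1, 2, 2, 2, 2, 2, 2, 2, 2, 2],
    [1, 1, 2, 2, 2, 2, 2, 2, 2, 2, 2, 2],
    [1, 2, 2, 1, 1, 1, 1, 1, 1, 1, 1, 1],
    [1, 1, 2, 2, 2, 2, 2, 2, 2, 2, 2, 2],
    [1, 2, 1, 2, 2, 2, 2, 2, 2, 2, 2, 2]]]

def Tf (k : Fin 5) (q p : Cfsg.ArrayPt) : Cfsg.ArrayPt :=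
  ptOf (nth3 tblF k.val (codeOf q) (codeOf p))

def Tg (k : Fin 5) (q p : Cfsg.ArrayPt) : Cfsg.ArrayPt :=
  ptOf (nth3 tblG k.val (codeOf q) (codeOf p))

set_option maxRecDepth 100000 in
theorem T_inv : ∀ (k : Fin 5) (q p : Cfsg.ArrayPt),
    Tg k q (Tf k q p) = p ∧ Tf k q (Tg k q p) = p := by
  decide +kernel

/-- The strong generators. -/
def TT (k : Fin 5) (q : Cfsg.ArrayPt) : Equiv.Perm Cfsg.ArrayPt :=
  ⟨Tf k q, Tg k q, fun p => (T_inv k q p).1, fun p => (T_inv k q p).2⟩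

def Tc (k : Fin 5) (q p : Cfsg.ArrayPt) : (ZMod 3)ˣ :=
  if nth3 tblC k.val (codeOf q) (codeOf p) = 1 then 1 else -1

/-- The base points. -/
def bp : Fin 5 → Cfsg.ArrayPt := ![(0, 0), (0, 1), (0, 2), (1, 0), (1, 1)]

set_option maxRecDepth 100000 in
theorem T_ok : ∀ (k : Fin 5) (q : Cfsg.ArrayPt), (∀ i : Fin 5, i < k → q ≠ bp i) →
    tgPresC (TT k q) (Tc k q) ∧ (∀ i : Fin 5, i < k → TT k q (bp i) = bp i) ∧
      TT k q (bp k) = q := by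
  decide +kernel

/-- The monomial automorphisms are 5-transitive on the base. -/
theorem trans5 (y : Fin 5 ↪ Cfsg.ArrayPt) :
    ∃ σ c, tPres σ c ∧ ∀ i, σ (bp i) = y i := by
  have key : ∀ k : ℕ, k ≤ 5 → ∃ σ c, tPres σ c ∧ ∀ i : Fin 5, i.val < k → σ (bp i) = y i := by
    intro k
    induction k with
    | zero =>
      intro _
      exact ⟨1, 1, tPres_one, fun i hi => absurd hi (Nat.not_lt_zero _)⟩
    | succ k ih =>
      intro hk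
      obtain ⟨σ, c, hσ, hy⟩ := ih (by omega)
      have hk5 : k < 5 := by omega
      have hq : ∀ i : Fin 5, i < (⟨k, hk5⟩ : Fin 5) → σ.symm (y ⟨k, hk5⟩) ≠ bp i := by
        intro i hi h
        have h1 : y ⟨k, hk5⟩ = y i := by
          rw [← hy i hi, ← h, Equiv.apply_symm_apply]
        have h2 := y.injective h1
        rw [← h2] at hi
        exact lt_irrefl _ hi
      obtain ⟨t1, t2, t3⟩ := T_ok ⟨k, hk5⟩ (σ.symm (y ⟨k, hk5⟩)) hq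
      refine ⟨σ * TT ⟨k, hk5⟩ (σ.symm (y ⟨k, hk5⟩)), _, tPres_mul hσ (tPres_of_C t1), ?_⟩
      intro i hi
      rw [Equiv.Perm.mul_apply]
      rcases Nat.lt_succ_iff_lt_or_eq.1 hi with h | h
      · rw [t2 i h, hy i h]
      · have : i = ⟨k, hk5⟩ := Fin.ext h
        rw [this, t3, Equiv.apply_symm_apply]
  obtain ⟨σ, c, h1, h2⟩ := key 5 le_rfl
  exact ⟨σ, c, h1, fun i => h2 i i.isLt⟩

theorem supp_hex {c : TgPar} (h : tgWt c = 6) :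
    Cfsg.ternarySupport (tgGen' c) ∈ Cfsg.Agent.S1592.hexFin :=
  Cfsg.Agent.S1592.mem_hexFin.2 ⟨tgGen' c, tgGen'_mem c, rfl, h⟩

/-- Hexad transfer: an automorphism of the hexad system maps a hexad onto the hexad through the
images of five of its points. -/
theorem L1 {τ : Equiv.Perm Cfsg.ArrayPt}
    (hτ : τ • (↑Cfsg.Agent.S1592.hexFin : Set (Finset Cfsg.ArrayPt)) = ↑Cfsg.Agent.S1592.hexFin)
    {cx cy : TgPar} (hx : tgWt cx = 6) (hy : tgWt cy = 6) (r r' : Fin 5 → Cfsg.ArrayPt)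
    (hr : Function.Injective r) (h1 : ∀ i, tgGen' cx (r i) ≠ 0) (h2 : ∀ i, tgGen' cy (r' i) ≠ 0)
    (hτr : ∀ i, τ (r i) = r' i) (a : Cfsg.ArrayPt) (ha : tgGen' cx a ≠ 0) :
    tgGen' cy (τ a) ≠ 0 := by
  have hX : τ • Cfsg.ternarySupport (tgGen' cx) ∈
      (↑Cfsg.Agent.S1592.hexFin : Set (Finset Cfsg.ArrayPt)) := by
    rw [← hτ]
    exact Set.smul_mem_smul_set (Finset.mem_coe.2 (supp_hex hx))
  have hY := supp_hex hy
  have hinj : Function.Injective r' := by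
    intro i j hij
    apply hr
    apply τ.injective
    rw [hτr, hτr, hij]
  have hs : (Finset.univ.image r').card = 5 := by
    rw [Finset.card_image_of_injective _ hinj]
    rfl
  have hs1 : Finset.univ.image r' ⊆ τ • Cfsg.ternarySupport (tgGen' cx) := by
    intro p hp
    obtain ⟨i, _, rfl⟩ := Finset.mem_image.1 hp
    rw [← hτr i]
    exact Finset.smul_mem_smul_finset ((mem_supp _ _).2 (h1 i))
  have hs2 : Finset.univ.image r' ⊆ Cfsg.ternarySupport (tgGen' cy) := by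
    intro p hp
    obtain ⟨i, _, rfl⟩ := Finset.mem_image.1 hp
    exact (mem_supp _ _).2 (h2 i)
  have he := Cfsg.Agent.S1592.hex_unique (Finset.mem_coe.1 hX) hY hs hs1 hs2
  have h3 : τ a ∈ τ • Cfsg.ternarySupport (tgGen' cx) :=
    Finset.smul_mem_smul_finset ((mem_supp _ _).2 ha)
  rw [he] at h3
  exact (mem_supp _ _).1 h3

/-- Five fixed points of a hexad force the sixth to be fixed. -/
theorem L2 {τ : Equiv.Perm Cfsg.ArrayPt}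
    (hτ : τ • (↑Cfsg.Agent.S1592.hexFin : Set (Finset Cfsg.ArrayPt)) = ↑Cfsg.Agent.S1592.hexFin)
    {cx : TgPar} (hx : tgWt cx = 6) (r : Fin 5 → Cfsg.ArrayPt)
    (hr : Function.Injective r) (h1 : ∀ i, tgGen' cx (r i) ≠ 0)
    (hfix : ∀ i, τ (r i) = r i) (a : Cfsg.ArrayPt) (ha : tgGen' cx a ≠ 0)
    (har : ∀ i, a ≠ r i) : τ a = a := by
  have h3 := L1 hτ hx hx r r hr h1 h1 hfix a ha
  have hcard : (insert a (Finset.univ.image r)).card = 6 := by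
    rw [Finset.card_insert_of_notMem, Finset.card_image_of_injective _ hr]
    · rfl
    · intro hmem
      obtain ⟨i, _, hi⟩ := Finset.mem_image.1 hmem
      exact har i hi.symm
  have hsub : insert a (Finset.univ.image r) ⊆ Cfsg.ternarySupport (tgGen' cx) := by
    intro p hp
    rcases Finset.mem_insert.1 hp with rfl | hp
    · exact (mem_supp _ _).2 ha
    · obtain ⟨i, _, rfl⟩ := Finset.mem_image.1 hp
      exact (mem_supp _ _).2 (h1 i)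
  have heq : insert a (Finset.univ.image r) = Cfsg.ternarySupport (tgGen' cx) := by
    apply Finset.eq_of_subset_of_card_le hsub
    rw [hcard]
    exact le_of_eq hx
  have h4 : τ a ∈ insert a (Finset.univ.image r) := by
    rw [heq]; exact (mem_supp _ _).2 h3
  rcases Finset.mem_insert.1 h4 with h5 | h5
  · exact h5
  · exfalso
    obtain ⟨i, _, hi⟩ := Finset.mem_image.1 h5
    have : τ (r i) = τ a := by rw [hfix i, hi]
    exact har i (τ.injective this).symm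

/-- A contradiction certificate for a wrong image of a point. -/
theorem L3 {τ : Equiv.Perm Cfsg.ArrayPt}
    (hτ : τ • (↑Cfsg.Agent.S1592.hexFin : Set (Finset Cfsg.ArrayPt)) = ↑Cfsg.Agent.S1592.hexFin)
    {cx1 cy1 cx2 cy2 : TgPar} (w1 : tgWt cx1 = 6) (w2 : tgWt cy1 = 6) (w3 : tgWt cx2 = 6)
    (w4 : tgWt cy2 = 6) (r1 r1' r2 r2' : Fin 5 → Cfsg.ArrayPt)
    (inj1 : Function.Injective r1) (inj2 : Function.Injective r2)
    (hx1 : ∀ i, tgGen' cx1 (r1 i) ≠ 0) (hy1 : ∀ i, tgGen' cy1 (r1' i) ≠ 0)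
    (hx2 : ∀ i, tgGen' cx2 (r2 i) ≠ 0) (hy2 : ∀ i, tgGen' cy2 (r2' i) ≠ 0)
    (hτ1 : ∀ i, τ (r1 i) = r1' i) (hτ2 : ∀ i, τ (r2 i) = r2' i)
    (a : Cfsg.ArrayPt) (ha1 : tgGen' cx1 a ≠ 0) (ha2 : tgGen' cx2 a ≠ 0)
    (known img : Fin 7 → Cfsg.ArrayPt) (hk : ∀ j, τ (known j) = img j)
    (hcap : ∀ b, tgGen' cy1 b ≠ 0 → tgGen' cy2 b ≠ 0 → ∃ j, b = img j)
    (hne : ∀ j, a ≠ known j) : False := by
  have e1 := L1 hτ w1 w2 r1 r1' inj1 hx1 hy1 hτ1 a ha1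
  have e2 := L1 hτ w3 w4 r2 r2' inj2 hx2 hy2 hτ2 a ha2
  obtain ⟨j, hj⟩ := hcap _ e1 e2
  have : τ a = τ (known j) := by rw [hk j, hj]
  exact hne j (τ.injective this)

theorem all12 : ∀ p : Cfsg.ArrayPt, p = (0, 0) ∨ p = (0, 1) ∨ p = (0, 2) ∨ p = (1, 0) ∨
    p = (1, 1) ∨ p = (1, 2) ∨ p = (2, 0) ∨ p = (2, 1) ∨ p = (2, 2) ∨ p = (3, 0) ∨ p = (3, 1) ∨
    p = (3, 2) := by
  decide

set_option linter.unusedSimpArgs false in
set_option maxRecDepth 100000 in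
/-- An automorphism of the hexad system fixing the five base points is the identity. -/
theorem rigid {τ : Equiv.Perm Cfsg.ArrayPt}
    (hτ : τ • (↑Cfsg.Agent.S1592.hexFin : Set (Finset Cfsg.ArrayPt)) = ↑Cfsg.Agent.S1592.hexFin)
    (h : ∀ i, τ (bp i) = bp i) : τ = 1 := by
  have f0 : τ (0, 0) = (0, 0) := h 0
  have f1 : τ (0, 1) = (0, 1) := h 1
  have f2 : τ (0, 2) = (0, 2) := h 2
  have f3 : τ (1, 0) = (1, 0) := h 3
  have f4 : τ (1, 1) = (1, 1) := h 4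
  have f5 : τ (1, 2) = (1, 2) :=
    L2 hτ (cx := (1, 1, 1, 2, 2, 0)) (by decide +kernel) ![(0, 0), (0, 1), (0, 2), (1, 0), (1, 1)] (by decide) (by decide)
      (by intro i; fin_cases i <;> simp [f0, f1, f2, f3, f4]) (1, 2) (by decide) (by decide)
  have f6 : τ (2, 0) = (2, 0) := by
    rcases all12 (τ (2, 0)) with e | e | e | e | e | e | e | e | e | e | e | e
    · exact absurd (τ.injective (e.trans f0.symm)) (by decide)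
    · exact absurd (τ.injective (e.trans f1.symm)) (by decide)
    · exact absurd (τ.injective (e.trans f2.symm)) (by decide)
    · exact absurd (τ.injective (e.trans f3.symm)) (by decide)
    · exact absurd (τ.injective (e.trans f4.symm)) (by decide)
    · exact absurd (τ.injective (e.trans f5.symm)) (by decide)
    · exact e
    · exfalso
      exact L3 hτ (cx1 := (0, 1, 2, 2, 0, 1)) (cy1 := (0, 1, 1, 1, 0, 0)) (cx2 := (1, 0, 2, 0, 2, 2)) (cy2 := (1, 0, 1, 0, 1, 0))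
        (by decide +kernel) (by decide +kernel) (by decide +kernel) (by decide +kernel)
        ![(0, 1), (0, 2), (1, 0), (1, 2), (2, 0)] ![(0, 1), (0, 2), (1, 0), (1, 2), (2, 1)] ![(0, 0), (0, 2), (1, 1), (1, 2), (2, 0)] ![(0, 0), (0, 2), (1, 1), (1, 2), (2, 1)]
        (by decide) (by decide) (by decide) (by decide) (by decide) (by decide)
        (by intro i; fin_cases i <;> simp [f0, f1, f2, f3, f4, f5, e])
        (by intro i; fin_cases i <;> simp [f0, f1, f2, f3, f4, f5, e])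
        (2, 2) (by decide) (by decide)
        ![(0, 0), (0, 1), (0, 2), (1, 0), (1, 1), (1, 2), (2, 0)] ![(0, 0), (0, 1), (0, 2), (1, 0), (1, 1), (1, 2), (2, 1)]
        (by intro i; fin_cases i <;> simp [f0, f1, f2, f3, f4, f5, e])
        (by decide) (by decide)
    · exfalso
      exact L3 hτ (cx1 := (1, 2, 1, 0, 0, 1)) (cy1 := (1, 2, 2, 0, 0, 0)) (cx2 := (1, 0, 1, 1, 1, 2)) (cy2 := (1, 0, 2, 2, 1, 0))
        (by decide +kernel) (by decide +kernel) (by decide +kernel) (by decide +kernel)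
        ![(0, 0), (0, 1), (0, 2), (1, 2), (2, 0)] ![(0, 0), (0, 1), (0, 2), (1, 2), (2, 2)] ![(0, 0), (0, 2), (1, 0), (1, 1), (2, 0)] ![(0, 0), (0, 2), (1, 0), (1, 1), (2, 2)]
        (by decide) (by decide) (by decide) (by decide) (by decide) (by decide)
        (by intro i; fin_cases i <;> simp [f0, f1, f2, f3, f4, f5, e])
        (by intro i; fin_cases i <;> simp [f0, f1, f2, f3, f4, f5, e])
        (3, 1) (by decide) (by decide)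
        ![(0, 0), (0, 1), (0, 2), (1, 0), (1, 1), (1, 2), (2, 0)] ![(0, 0), (0, 1), (0, 2), (1, 0), (1, 1), (1, 2), (2, 2)]
        (by intro i; fin_cases i <;> simp [f0, f1, f2, f3, f4, f5, e])
        (by decide) (by decide)
    · exfalso
      exact L3 hτ (cx1 := (0, 1, 2, 2, 0, 1)) (cy1 := (0, 1, 2, 1, 0, 0)) (cx2 := (1, 0, 2, 0, 2, 2)) (cy2 := (1, 0, 2, 0, 1, 0))
        (by decide +kernel) (by decide +kernel) (by decide +kernel) (by decide +kernel)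
        ![(0, 1), (0, 2), (1, 0), (1, 2), (2, 0)] ![(0, 1), (0, 2), (1, 0), (1, 2), (3, 0)] ![(0, 0), (0, 2), (1, 1), (1, 2), (2, 0)] ![(0, 0), (0, 2), (1, 1), (1, 2), (3, 0)]
        (by decide) (by decide) (by decide) (by decide) (by decide) (by decide)
        (by intro i; fin_cases i <;> simp [f0, f1, f2, f3, f4, f5, e])
        (by intro i; fin_cases i <;> simp [f0, f1, f2, f3, f4, f5, e])
        (2, 2) (by decide) (by decide)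
        ![(0, 0), (0, 1), (0, 2), (1, 0), (1, 1), (1, 2), (2, 0)] ![(0, 0), (0, 1), (0, 2), (1, 0), (1, 1), (1, 2), (3, 0)]
        (by intro i; fin_cases i <;> simp [f0, f1, f2, f3, f4, f5, e])
        (by decide) (by decide)
    · exfalso
      exact L3 hτ (cx1 := (0, 1, 2, 2, 0, 1)) (cy1 := (0, 1, 1, 1, 0, 0)) (cx2 := (1, 0, 2, 0, 2, 2)) (cy2 := (1, 0, 2, 0, 1, 0))
        (by decide +kernel) (by decide +kernel) (by decide +kernel) (by decide +kernel)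
        ![(0, 1), (0, 2), (1, 0), (1, 2), (2, 0)] ![(0, 1), (0, 2), (1, 0), (1, 2), (3, 1)] ![(0, 0), (0, 2), (1, 1), (1, 2), (2, 0)] ![(0, 0), (0, 2), (1, 1), (1, 2), (3, 1)]
        (by decide) (by decide) (by decide) (by decide) (by decide) (by decide)
        (by intro i; fin_cases i <;> simp [f0, f1, f2, f3, f4, f5, e])
        (by intro i; fin_cases i <;> simp [f0, f1, f2, f3, f4, f5, e])
        (2, 2) (by decide) (by decide)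
        ![(0, 0), (0, 1), (0, 2), (1, 0), (1, 1), (1, 2), (2, 0)] ![(0, 0), (0, 1), (0, 2), (1, 0), (1, 1), (1, 2), (3, 1)]
        (by intro i; fin_cases i <;> simp [f0, f1, f2, f3, f4, f5, e])
        (by decide) (by decide)
    · exfalso
      exact L3 hτ (cx1 := (0, 1, 2, 2, 0, 1)) (cy1 := (0, 1, 2, 1, 0, 0)) (cx2 := (1, 0, 2, 0, 2, 2)) (cy2 := (1, 0, 1, 0, 1, 0))
        (by decide +kernel) (by decide +kernel) (by decide +kernel) (by decide +kernel)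
        ![(0, 1), (0, 2), (1, 0), (1, 2), (2, 0)] ![(0, 1), (0, 2), (1, 0), (1, 2), (3, 2)] ![(0, 0), (0, 2), (1, 1), (1, 2), (2, 0)] ![(0, 0), (0, 2), (1, 1), (1, 2), (3, 2)]
        (by decide) (by decide) (by decide) (by decide) (by decide) (by decide)
        (by intro i; fin_cases i <;> simp [f0, f1, f2, f3, f4, f5, e])
        (by intro i; fin_cases i <;> simp [f0, f1, f2, f3, f4, f5, e])
        (2, 2) (by decide) (by decide)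
        ![(0, 0), (0, 1), (0, 2), (1, 0), (1, 1), (1, 2), (2, 0)] ![(0, 0), (0, 1), (0, 2), (1, 0), (1, 1), (1, 2), (3, 2)]
        (by intro i; fin_cases i <;> simp [f0, f1, f2, f3, f4, f5, e])
        (by decide) (by decide)
  have f7 : τ (2, 1) = (2, 1) :=
    L2 hτ (cx := (1, 2, 0, 0, 1, 2)) (by decide +kernel) ![(0, 0), (0, 1), (1, 1), (1, 2), (2, 0)] (by decide) (by decide)
      (by intro i; fin_cases i <;> simp [f0, f1, f2, f3, f4, f5, f6]) (2, 1) (by decide) (by decide)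
  have f8 : τ (2, 2) = (2, 2) :=
    L2 hτ (cx := (0, 1, 2, 2, 0, 1)) (by decide +kernel) ![(0, 1), (0, 2), (1, 0), (1, 2), (2, 0)] (by decide) (by decide)
      (by intro i; fin_cases i <;> simp [f0, f1, f2, f3, f4, f5, f6]) (2, 2) (by decide) (by decide)
  have f9 : τ (3, 0) = (3, 0) :=
    L2 hτ (cx := (1, 2, 2, 2, 0, 2)) (by decide +kernel) ![(0, 0), (0, 1), (0, 2), (1, 0), (2, 0)] (by decide) (by decide)
      (by intro i; fin_cases i <;> simp [f0, f1, f2, f3, f4, f5, f6]) (3, 0) (by decide) (by decide)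
  have f10 : τ (3, 1) = (3, 1) :=
    L2 hτ (cx := (1, 2, 1, 0, 0, 1)) (by decide +kernel) ![(0, 0), (0, 1), (0, 2), (1, 2), (2, 0)] (by decide) (by decide)
      (by intro i; fin_cases i <;> simp [f0, f1, f2, f3, f4, f5, f6]) (3, 1) (by decide) (by decide)
  have f11 : τ (3, 2) = (3, 2) :=
    L2 hτ (cx := (1, 1, 0, 1, 0, 2)) (by decide +kernel) ![(0, 0), (0, 1), (1, 0), (1, 2), (2, 0)] (by decide) (by decide)
      (by intro i; fin_cases i <;> simp [f0, f1, f2, f3, f4, f5, f6]) (3, 2) (by decide) (by decide)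
  exact Equiv.ext (tg_forall_pt f0 f1 f2 f3 f4 f5 f6 f7 f8 f9 f10 f11)

theorem bp_inj : Function.Injective bp := by decide

theorem mem_aut {τ : Equiv.Perm Cfsg.ArrayPt} :
    τ ∈ Cfsg.setSystemAut (↑Cfsg.Agent.S1592.hexFin : Set (Finset Cfsg.ArrayPt)) ↔
      τ • (↑Cfsg.Agent.S1592.hexFin : Set (Finset Cfsg.ArrayPt)) = ↑Cfsg.Agent.S1592.hexFin :=
  MulAction.mem_stabilizer_iff

theorem rigid' {τ τ' : Equiv.Perm Cfsg.ArrayPt}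
    (hτ : τ • (↑Cfsg.Agent.S1592.hexFin : Set (Finset Cfsg.ArrayPt)) = ↑Cfsg.Agent.S1592.hexFin)
    (hτ' : τ' • (↑Cfsg.Agent.S1592.hexFin : Set (Finset Cfsg.ArrayPt)) = ↑Cfsg.Agent.S1592.hexFin)
    (h : ∀ i, τ (bp i) = τ' (bp i)) : τ = τ' := by
  have h1 : τ⁻¹ * τ' = 1 := by
    apply rigid
    · rw [mul_smul, hτ', inv_smul_eq_iff, hτ]
    · intro i
      rw [Equiv.Perm.mul_apply, Equiv.Perm.inv_eq_iff_eq]
      exact (h i).symm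
  exact inv_mul_eq_one.1 h1

/-- Every automorphism of the hexad system lifts to a monomial automorphism of the code. -/
theorem exists_of_aut {τ : Equiv.Perm Cfsg.ArrayPt}
    (hτ : τ • (↑Cfsg.Agent.S1592.hexFin : Set (Finset Cfsg.ArrayPt)) = ↑Cfsg.Agent.S1592.hexFin) :
    ∃ c, tPres τ c := by
  have hinj : Function.Injective (fun i => τ (bp i)) := τ.injective.comp bp_inj
  obtain ⟨σ, c, hσ, hy⟩ := trans5 ⟨fun i => τ (bp i), hinj⟩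
  have : τ = σ := rigid' hτ (pres_stab hσ) (fun i => (hy i).symm)
  rw [this]
  exact ⟨c, hσ⟩

theorem card_aut :
    Nat.card ↥(Cfsg.setSystemAut (↑Cfsg.Agent.S1592.hexFin : Set (Finset Cfsg.ArrayPt))) =
      95040 := by
  have hbij : Function.Bijective
      (fun τ : ↥(Cfsg.setSystemAut (↑Cfsg.Agent.S1592.hexFin : Set (Finset Cfsg.ArrayPt))) =>
        (⟨fun i => (τ : Equiv.Perm Cfsg.ArrayPt) (bp i), τ.1.injective.comp bp_inj⟩ :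
          Fin 5 ↪ Cfsg.ArrayPt)) := by
    constructor
    · rintro ⟨τ, hτ⟩ ⟨τ', hτ'⟩ h
      have h0 : ∀ i, τ (bp i) = τ' (bp i) := fun i => DFunLike.congr_fun h i
      exact Subtype.ext (rigid' (mem_aut.1 hτ) (mem_aut.1 hτ') h0)
    · intro y
      obtain ⟨σ, c, hσ, hy⟩ := trans5 y
      exact ⟨⟨σ, mem_aut.2 (pres_stab hσ)⟩, Function.Embedding.ext (fun i => hy i)⟩
  rw [Nat.card_eq_of_bijective _ hbij, Nat.card_eq_fintype_card, Fintype.card_embedding_eq,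
    Fintype.card_fin, Cfsg.Agent.S1592.card_arrayPt]
  decide

/-- The monomial automorphism group of the length-12 ternary code has order 190080 and its permutation parts are exactly the automorphisms of its hexad system. -/
theorem result : Nat.card {f : Equiv.Perm Cfsg.ArrayPt × (Cfsg.ArrayPt → (ZMod 3)ˣ) // (∀ x ∈ Cfsg.ternaryGolayCode, Cfsg.monomialMap f.1 f.2 x ∈ Cfsg.ternaryGolayCode)} = 190080 ∧ {σ : Equiv.Perm Cfsg.ArrayPt | ∃ c : Cfsg.ArrayPt → (ZMod 3)ˣ, (∀ x ∈ Cfsg.ternaryGolayCode, Cfsg.monomialMap σ c x ∈ Cfsg.ternaryGolayCode)} = (Cfsg.setSystemAut {h : Finset Cfsg.ArrayPt | ∃ x ∈ Cfsg.ternaryGolayCode, Cfsg.ternarySupport x = h ∧ h.card = 6} : Set (Equiv.Perm Cfsg.ArrayPt)) := by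
  rw [← Cfsg.Agent.S1592.coe_hexFin]
  constructor
  · have hbij : Function.Bijective
        (fun f : {f : Equiv.Perm Cfsg.ArrayPt × (Cfsg.ArrayPt → (ZMod 3)ˣ) //
            (∀ x ∈ Cfsg.ternaryGolayCode, Cfsg.monomialMap f.1 f.2 x ∈ Cfsg.ternaryGolayCode)} =>
          ((⟨f.1.1, mem_aut.2 (pres_stab f.2)⟩ :
            ↥(Cfsg.setSystemAut (↑Cfsg.Agent.S1592.hexFin : Set (Finset Cfsg.ArrayPt)))),
            f.1.2 (0, 0))) := by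
      constructor
      · rintro ⟨⟨σ, c⟩, hf⟩ ⟨⟨τ, d⟩, hg⟩ h
        have h1 : σ = τ := congrArg (fun z => (z.1 : Equiv.Perm Cfsg.ArrayPt)) h
        have h2 : c (0, 0) = d (0, 0) := congrArg (fun z => z.2) h
        subst h1
        have h3 := Cfsg.Agent.S1593.result _ (tPres_div hf hg)
        have h4 : c = d := by
          funext i
          rcases h3 with h3 | h3
          · exact mul_inv_eq_one.1 (h3 i)
          · exfalso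
            have h5 := h3 (0, 0)
            simp only [h2, mul_inv_cancel] at h5
            exact absurd h5 (by decide)
        subst h4
        rfl
      · rintro ⟨⟨σ, hσ⟩, u⟩
        obtain ⟨c0, hc0⟩ := exists_of_aut (mem_aut.1 hσ)
        refine ⟨⟨(σ, fun i => (u * (c0 (0, 0))⁻¹) * c0 i), tPres_smul hc0 _⟩, ?_⟩
        simp
    rw [Nat.card_eq_of_bijective _ hbij, Nat.card_prod, card_aut, Nat.card_eq_fintype_card]
    decide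
  · ext σ
    simp only [Set.mem_ofPred_eq, SetLike.mem_coe]
    rw [mem_aut]
    constructor
    · rintro ⟨c, hc⟩
      exact pres_stab hc
    · intro h
      exact exists_of_aut h

end Cfsg.Agent.S1594
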