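import Cfsg.Statements.S1618
import Mathlib
import Cfsg.Agent.Lib.Helper1.Cores
import Cfsg.Agent.S5560

set_option autoImplicit false
open Cfsg

namespace Cfsg.Agent.S1618

/-- A group generated by a class of involutions whose pairwise products (of distinct members) have p-power order for a fixed odd prime p has nilpotent derived subgroup. -/
theorem result {G : Type*} [Group G] [Finite G] (p : ℕ) (hp : p.Prime) (hodd : p ≠ 2) {D : Set G} (hinv : ∀ d ∈ D, orderOf d = 2) (hconj : ∃ d ∈ D, D = conjugatesOf d) (hgen : Subgroup.closure D = ⊤) (hprod : ∀ x ∈ D, ∀ y ∈ D, x ≠ y → ∃ k : ℕ, orderOf (x * y) = p ^ k) : Group.IsNilpotent ↥(commutator G) := by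
  classical
  obtain ⟨d, hdD, rfl⟩ := hconj
  have hd := hinv d hdD
  have hprod' : ∀ a ∈ conjugatesOf d, ∀ b ∈ conjugatesOf d, ∃ k : ℕ, orderOf (a * b) = p ^ k := by
    intro a ha b hb
    by_cases hab : a = b
    · subst hab
      refine ⟨0, ?_⟩
      have : a * a = 1 := by
        have := pow_orderOf_eq_one a
        rw [hinv a ha, pow_two] at this; exact this
      rw [this, orderOf_one, pow_zero]
    · exact hprod a ha b hb hab
  have h := Cfsg.Agent.S5560.result hp hodd d hd hprod'
  have hN : (Cfsg.pCore p G).Normal := Cfsg.Agent.Lib.Helper1.pCore_normal p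
  have hpf : Fact p.Prime := ⟨hp⟩
  have hNp : IsPGroup p (Cfsg.pCore p G) := Cfsg.Agent.Lib.Helper1.pCore_isPGroup p
  have hle : commutator G ≤ Cfsg.pCore p G := by
    have hall : ∀ g : G, (QuotientGroup.mk g : G ⧸ Cfsg.pCore p G) ∈
        Subgroup.zpowers (QuotientGroup.mk d : G ⧸ Cfsg.pCore p G) := by
      intro g
      have hg : g ∈ Subgroup.closure (conjugatesOf d) := by rw [hgen]; trivial
      refine Subgroup.closure_induction (p := fun g _ => (QuotientGroup.mk g : G ⧸ Cfsg.pCore p G) ∈
        Subgroup.zpowers (QuotientGroup.mk d : G ⧸ Cfsg.pCore p G)) ?_ ?_ ?_ ?_ hg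
      · intro a ha
        have h1 : a * d ∈ Cfsg.pCore p G := h a ha d mem_conjugatesOf_self
        have h2 : (QuotientGroup.mk a : G ⧸ Cfsg.pCore p G) = (QuotientGroup.mk d)⁻¹ := by
          rw [eq_inv_iff_mul_eq_one, ← QuotientGroup.mk_mul]
          exact (QuotientGroup.eq_one_iff _).2 h1
        rw [h2]; exact inv_mem (Subgroup.mem_zpowers _)
      · exact one_mem _
      · intro x y _ _ hx hy; rw [QuotientGroup.mk_mul]; exact mul_mem hx hy
      · intro x _ hx; rw [QuotientGroup.mk_inv]; exact inv_mem hx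
    rw [commutator_def, Subgroup.commutator_le]
    intro g₁ _ g₂ _
    rw [← QuotientGroup.eq_one_iff]
    obtain ⟨i, hi⟩ := hall g₁
    obtain ⟨j, hj⟩ := hall g₂
    rw [commutatorElement_def]
    simp only [QuotientGroup.mk_mul, QuotientGroup.mk_inv]
    rw [← hi, ← hj]
    simp only
    rw [(Commute.zpow_zpow_self _ i j).eq]
    group
  have hp' : IsPGroup p ↥(commutator G) := hNp.to_le hle
  exact hp'.isNilpotent

end Cfsg.Agent.S1618
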