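import Cfsg.Statements.S1896
import Mathlib
import Cfsg.Agent.Lib.Helper11.Meta2Aut

set_option autoImplicit false
open Cfsg

namespace Cfsg.Agent.S1896

/-- A finite metacyclic 2-group whose automorphism group is not a 2-group is isomorphic to the quaternion group of order 8 or to a homocyclic abelian group Z_{2^n} × Z_{2^n}. -/
theorem result {X : Type*} [Group X] [Finite X] (hX : IsPGroup 2 X)
    (hm : Cfsg.IsMetacyclic X) (hA : ¬ IsPGroup 2 (MulAut X)) :
    Nonempty (X ≃* QuaternionGroup 2) ∨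
      ∃ n : ℕ, Nonempty (X ≃* Multiplicative (ZMod (2 ^ n)) × Multiplicative (ZMod (2 ^ n))) := by
  classical
  obtain ⟨r, hr, hr2, β, hβ⟩ : ∃ r : ℕ, r.Prime ∧ r ≠ 2 ∧ ∃ β : MulAut X, orderOf β = r := by
    by_contra hcon
    push_neg at hcon
    apply hA
    rw [IsPGroup.iff_card]
    refine ⟨(Nat.card (MulAut X)).primeFactorsList.length, ?_⟩
    apply Nat.eq_prime_pow_of_unique_prime_dvd (Nat.card_pos.ne')
    intro d hd hdvd
    by_contra hd2
    haveI : Fact d.Prime := ⟨hd⟩
    obtain ⟨β, hβ⟩ := exists_prime_orderOf_dvd_card' d hdvd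
    exact hcon d hd hd2 β hβ
  obtain ⟨N, hNn, hNc, hQc⟩ := hm
  obtain ⟨⟨a, haN⟩, hagen⟩ := hNc.exists_generator
  have hNeq : N = Subgroup.zpowers a := by
    ext x
    constructor
    · intro hx
      obtain ⟨i, hi⟩ := Subgroup.mem_zpowers_iff.mp (hagen ⟨x, hx⟩)
      have h1 := congrArg Subtype.val hi
      rw [Subgroup.coe_zpow] at h1
      exact Subgroup.mem_zpowers_iff.mpr ⟨i, h1⟩
    · intro hx
      obtain ⟨i, rfl⟩ := Subgroup.mem_zpowers_iff.mp hx
      exact Subgroup.zpow_mem _ haN i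
  obtain ⟨q, hq⟩ := hQc.exists_generator
  obtain ⟨b, rfl⟩ := QuotientGroup.mk_surjective q
  have hgen : ∀ x : X, ∃ i j : ℤ, x = b ^ j * a ^ i := by
    intro x
    obtain ⟨j, hj⟩ := Subgroup.mem_zpowers_iff.mp (hq (x : X ⧸ N))
    rw [← QuotientGroup.mk_zpow, QuotientGroup.eq] at hj
    rw [hNeq] at hj
    obtain ⟨i, hi⟩ := Subgroup.mem_zpowers_iff.mp hj
    exact ⟨i, j, by rw [hi]; group⟩
  have hcomm : commutator X ≤ Subgroup.zpowers a := by
    rw [← hNeq]
    apply Subgroup.Normal.quotient_commutative_iff_commutator_le.mp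
    exact IsCyclic.commutative
  have hN' : ∀ g x : X, x ∈ Subgroup.zpowers a → g * x * g⁻¹ ∈ Subgroup.zpowers a := by
    rw [← hNeq]
    intro g x hx
    exact hNn.conj_mem x hx g
  have S : Cfsg.Agent.Lib.Helper11.M2Setup X β r a b :=
    { h2 := hX
      hr := hr
      hr2 := hr2
      hβr := by rw [← hβ]; exact pow_orderOf_eq_one β
      hβ1 := by
        rintro rfl
        rw [orderOf_one] at hβ
        exact hr.one_lt.ne hβ
      hgen := hgen
      hN := hN'
      hcomm := hcomm }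
  by_cases hab : ∀ x y : X, x * y = y * x
  · exact Or.inr (S.abelian_case hab)
  · exact Or.inl (S.nonabelian_case hab)

end Cfsg.Agent.S1896
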