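import Mathlib
import Cfsg.Statements.S1897
import Cfsg.Agent.S0495
import Cfsg.Agent.Lib.Helper20.Simple168

set_option autoImplicit false
open Cfsg

namespace Cfsg.Agent.S1897

/-! ## Abstract part -/

/-- Subgroup given by a multiplication table. -/
def tableSubgroup {Γ : Type*} [Group Γ] {n : ℕ} (t : Fin n → Γ) (m : Fin n → Fin n → Fin n)
    (iv : Fin n → Fin n) (e : Fin n) (hmul : ∀ i j, t i * t j = t (m i j)) (hone : t e = 1)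
    (hinv : ∀ i, m i (iv i) = e) : Subgroup Γ where
  carrier := Set.range t
  mul_mem' := by
    rintro _ _ ⟨i, rfl⟩ ⟨j, rfl⟩
    exact ⟨m i j, (hmul i j).symm⟩
  one_mem' := ⟨e, hone⟩
  inv_mem' := by
    rintro _ ⟨i, rfl⟩
    refine ⟨iv i, ?_⟩
    have h := hmul i (iv i)
    rw [hinv, hone] at h
    exact eq_inv_of_mul_eq_one_right h

theorem mem_tableSubgroup {Γ : Type*} [Group Γ] {n : ℕ} (t : Fin n → Γ)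
    (m : Fin n → Fin n → Fin n) (iv : Fin n → Fin n) (e : Fin n)
    (hmul : ∀ i j, t i * t j = t (m i j)) (hone : t e = 1) (hinv : ∀ i, m i (iv i) = e) (x : Γ) :
    x ∈ tableSubgroup t m iv e hmul hone hinv ↔ ∃ i, t i = x := Iff.rfl

theorem card_tableSubgroup {Γ : Type*} [Group Γ] {n : ℕ} (t : Fin n → Γ)
    (m : Fin n → Fin n → Fin n) (iv : Fin n → Fin n) (e : Fin n)
    (hmul : ∀ i j, t i * t j = t (m i j)) (hone : t e = 1) (hinv : ∀ i, m i (iv i) = e)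
    (hinj : Function.Injective t) :
    Nat.card (tableSubgroup t m iv e hmul hone hinv) = n := by
  have h : Nat.card (Set.range t) = n := by
    rw [Nat.card_congr (Equiv.ofInjective t hinj).symm, Nat.card_fin]
  exact h

theorem abstract168 {Γ : Type*} [Group Γ] (S P : Subgroup Γ) (hS : Nat.card S = 24)
    (hP : Nat.card P = 7)
    (h1 : ∀ p ∈ P, ∀ s ∈ S, ∃ s' ∈ S, ∃ p' ∈ P, p * s = s' * p')
    (v : Γ) (h2 : ∀ s ∈ S, s ≠ 1 → ∃ a ∈ S, ∃ b ∈ S, v = a * s * a⁻¹ * (b * s * b⁻¹))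
    (g : Γ) (hg : g ∈ P) (h3 : g * v * g⁻¹ ∉ S) :
    ∃ H : Subgroup Γ, S ≤ H ∧ P ≤ H ∧ H ≤ S ⊔ P ∧ Nat.card H = 168 ∧ IsSimpleGroup H := by
  classical
  have : Finite S := Nat.finite_of_card_ne_zero (by rw [hS]; norm_num)
  have : Finite P := Nat.finite_of_card_ne_zero (by rw [hP]; norm_num)
  let H : Subgroup Γ :=
    { carrier := {x | ∃ s ∈ S, ∃ p ∈ P, x = s * p}
      mul_mem' := by
        rintro _ _ ⟨s, hs, p, hp, rfl⟩ ⟨s', hs', p', hp', rfl⟩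
        obtain ⟨s'', hs'', p'', hp'', h⟩ := h1 p hp s' hs'
        refine ⟨s * s'', S.mul_mem hs hs'', p'' * p', P.mul_mem hp'' hp', ?_⟩
        calc s * p * (s' * p') = s * (p * s') * p' := by group
          _ = s * (s'' * p'') * p' := by rw [h]
          _ = s * s'' * (p'' * p') := by group
      one_mem' := ⟨1, S.one_mem, 1, P.one_mem, by simp⟩
      inv_mem' := by
        rintro _ ⟨s, hs, p, hp, rfl⟩
        obtain ⟨s'', hs'', p'', hp'', h⟩ := h1 p⁻¹ (P.inv_mem hp) s⁻¹ (S.inv_mem hs)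
        exact ⟨s'', hs'', p'', hp'', by rw [mul_inv_rev, h]⟩ }
  have hSH : S ≤ H := fun s hs => ⟨s, hs, 1, P.one_mem, by simp⟩
  have hPH : P ≤ H := fun p hp => ⟨1, S.one_mem, p, hp, by simp⟩
  have hHle : H ≤ S ⊔ P := by
    rintro _ ⟨s, hs, p, hp, rfl⟩
    exact Subgroup.mul_mem _ (Subgroup.mem_sup_left hs) (Subgroup.mem_sup_right hp)
  let f : S × P → H := fun x => ⟨x.1 * x.2, x.1, x.1.2, x.2, x.2.2, rfl⟩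
  have hf : Function.Surjective f := by
    rintro ⟨_, s, hs, p, hp, rfl⟩
    exact ⟨(⟨s, hs⟩, ⟨p, hp⟩), rfl⟩
  have : Finite H := Finite.of_surjective f hf
  have hle : Nat.card H ≤ 168 := by
    have h := Nat.card_le_card_of_surjective f hf
    rw [Nat.card_prod, hS, hP] at h
    exact h
  have hd1 : 24 ∣ Nat.card H := by
    rw [← hS]; exact Subgroup.card_dvd_of_le hSH
  have hd2 : 7 ∣ Nat.card H := by
    rw [← hP]; exact Subgroup.card_dvd_of_le hPH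
  have hcard : Nat.card H = 168 := by
    have hpos : 0 < Nat.card H := Nat.card_pos
    have h168 : 24 * 7 ∣ Nat.card H :=
      Nat.Coprime.mul_dvd_of_dvd_of_dvd (by norm_num) hd1 hd2
    obtain ⟨c, hc⟩ := h168
    have hc1 : c = 1 := by
      rcases c with _ | _ | c
      · omega
      · rfl
      · omega
    omega
  refine ⟨H, hSH, hPH, hHle, hcard, ?_⟩
  set S' : Subgroup H := S.subgroupOf H with hS'
  have hS'card : Nat.card S' = 24 := by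
    rw [hS', ← hS]
    exact Nat.card_congr (Subgroup.subgroupOfEquivOfLe hSH).toEquiv
  have hidx : S'.index = 7 := by
    have h := Subgroup.card_mul_index S'
    rw [hS'card, hcard] at h; omega
  have hcore : S'.normalCore = ⊥ := by
    rw [eq_bot_iff]
    intro c hc
    rw [Subgroup.mem_bot]
    by_contra hne
    have hcS : c ∈ S' := Subgroup.normalCore_le S' hc
    have hcS2 : (c : Γ) ∈ S := hcS
    have hne2 : (c : Γ) ≠ 1 := fun h => hne (Subtype.ext h)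
    obtain ⟨a, ha, b, hb, hvab⟩ := h2 c hcS2 hne2
    let a' : H := ⟨a, hSH ha⟩
    let b' : H := ⟨b, hSH hb⟩
    let g' : H := ⟨g, hPH hg⟩
    have hN : (S'.normalCore).Normal := inferInstance
    have h4 : a' * c * a'⁻¹ * (b' * c * b'⁻¹) ∈ S'.normalCore :=
      Subgroup.mul_mem _ (hN.conj_mem c hc a') (hN.conj_mem c hc b')
    have h5 : g' * (a' * c * a'⁻¹ * (b' * c * b'⁻¹)) * g'⁻¹ ∈ S'.normalCore :=
      hN.conj_mem _ h4 g'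
    have h6 := Subgroup.normalCore_le S' h5
    have h7 : ((g' * (a' * c * a'⁻¹ * (b' * c * b'⁻¹)) * g'⁻¹ : H) : Γ) ∈ S := h6
    apply h3
    rw [hvab]
    exact h7
  let ρ : H →* Equiv.Perm (H ⧸ S') := MulAction.toPermHom H (H ⧸ S')
  have hker : ρ.ker = ⊥ := by
    rw [← hcore]; exact (Subgroup.normalCore_eq_ker S').symm
  have hinj : Function.Injective ρ := (MonoidHom.ker_eq_bot_iff ρ).mp hker
  have : Fintype (H ⧸ S') := Fintype.ofFinite _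
  have hq : Fintype.card (H ⧸ S') = 7 := by
    rw [← Nat.card_eq_fintype_card]; exact hidx
  have hrange : Nat.card ρ.range = 168 := by
    rw [← hcard]; exact (Nat.card_congr (MonoidHom.ofInjective hinj).toEquiv).symm
  have hsimple : IsSimpleGroup ρ.range :=
    Cfsg.Agent.Lib.Helper20.Simple168.simple_of_card hq ρ.range hrange
  exact (MonoidHom.ofInjective hinj).isSimpleGroup

/-! ## The concrete matrices over the field with nine elements -/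

/-- A computable model of the field with nine elements. -/
abbrev F9 : Type := QuadraticAlgebra (ZMod 3) (-1) 0

/-- The signed permutation matrices of determinant one. -/
def tab : Fin 24 → Matrix (Fin 3) (Fin 3) F9 :=
  ![!![⟨0, 0⟩, ⟨0, 0⟩, ⟨1, 0⟩; ⟨0, 0⟩, ⟨1, 0⟩, ⟨0, 0⟩; ⟨2, 0⟩, ⟨0, 0⟩, ⟨0, 0⟩],
    !![⟨0, 0⟩, ⟨0, 0⟩, ⟨1, 0⟩; ⟨0, 0⟩, ⟨2, 0⟩, ⟨0, 0⟩; ⟨1, 0⟩, ⟨0, 0⟩, ⟨0, 0⟩],
    !![⟨0, 0⟩, ⟨0, 0⟩, ⟨1, 0⟩; ⟨1, 0⟩, ⟨0, 0⟩, ⟨0, 0⟩; ⟨0, 0⟩, ⟨1, 0⟩, ⟨0, 0⟩],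
    !![⟨0, 0⟩, ⟨0, 0⟩, ⟨1, 0⟩; ⟨2, 0⟩, ⟨0, 0⟩, ⟨0, 0⟩; ⟨0, 0⟩, ⟨2, 0⟩, ⟨0, 0⟩],
    !![⟨0, 0⟩, ⟨0, 0⟩, ⟨2, 0⟩; ⟨0, 0⟩, ⟨1, 0⟩, ⟨0, 0⟩; ⟨1, 0⟩, ⟨0, 0⟩, ⟨0, 0⟩],
    !![⟨0, 0⟩, ⟨0, 0⟩, ⟨2, 0⟩; ⟨0, 0⟩, ⟨2, 0⟩, ⟨0, 0⟩; ⟨2, 0⟩, ⟨0, 0⟩, ⟨0, 0⟩],
    !![⟨0, 0⟩, ⟨0, 0⟩, ⟨2, 0⟩; ⟨1, 0⟩, ⟨0, 0⟩, ⟨0, 0⟩; ⟨0, 0⟩, ⟨2, 0⟩, ⟨0, 0⟩],
    !![⟨0, 0⟩, ⟨0, 0⟩, ⟨2, 0⟩; ⟨2, 0⟩, ⟨0, 0⟩, ⟨0, 0⟩; ⟨0, 0⟩, ⟨1, 0⟩, ⟨0, 0⟩],
    !![⟨0, 0⟩, ⟨1, 0⟩, ⟨0, 0⟩; ⟨0, 0⟩, ⟨0, 0⟩, ⟨1, 0⟩; ⟨1, 0⟩, ⟨0, 0⟩, ⟨0, 0⟩],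
    !![⟨0, 0⟩, ⟨1, 0⟩, ⟨0, 0⟩; ⟨0, 0⟩, ⟨0, 0⟩, ⟨2, 0⟩; ⟨2, 0⟩, ⟨0, 0⟩, ⟨0, 0⟩],
    !![⟨0, 0⟩, ⟨1, 0⟩, ⟨0, 0⟩; ⟨1, 0⟩, ⟨0, 0⟩, ⟨0, 0⟩; ⟨0, 0⟩, ⟨0, 0⟩, ⟨2, 0⟩],
    !![⟨0, 0⟩, ⟨1, 0⟩, ⟨0, 0⟩; ⟨2, 0⟩, ⟨0, 0⟩, ⟨0, 0⟩; ⟨0, 0⟩, ⟨0, 0⟩, ⟨1, 0⟩],
    !![⟨0, 0⟩, ⟨2, 0⟩, ⟨0, 0⟩; ⟨0, 0⟩, ⟨0, 0⟩, ⟨1, 0⟩; ⟨2, 0⟩, ⟨0, 0⟩, ⟨0, 0⟩],
    !![⟨0, 0⟩, ⟨2, 0⟩, ⟨0, 0⟩; ⟨0, 0⟩, ⟨0, 0⟩, ⟨2, 0⟩; ⟨1, 0⟩, ⟨0, 0⟩, ⟨0, 0⟩],
    !![⟨0, 0⟩, ⟨2, 0⟩, ⟨0, 0⟩; ⟨1, 0⟩, ⟨0, 0⟩, ⟨0, 0⟩; ⟨0, 0⟩, ⟨0, 0⟩, ⟨1, 0⟩],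
    !![⟨0, 0⟩, ⟨2, 0⟩, ⟨0, 0⟩; ⟨2, 0⟩, ⟨0, 0⟩, ⟨0, 0⟩; ⟨0, 0⟩, ⟨0, 0⟩, ⟨2, 0⟩],
    !![⟨1, 0⟩, ⟨0, 0⟩, ⟨0, 0⟩; ⟨0, 0⟩, ⟨0, 0⟩, ⟨1, 0⟩; ⟨0, 0⟩, ⟨2, 0⟩, ⟨0, 0⟩],
    !![⟨1, 0⟩, ⟨0, 0⟩, ⟨0, 0⟩; ⟨0, 0⟩, ⟨0, 0⟩, ⟨2, 0⟩; ⟨0, 0⟩, ⟨1, 0⟩, ⟨0, 0⟩],
    !![⟨1, 0⟩, ⟨0, 0⟩, ⟨0, 0⟩; ⟨0, 0⟩, ⟨1, 0⟩, ⟨0, 0⟩; ⟨0, 0⟩, ⟨0, 0⟩, ⟨1, 0⟩],
    !![⟨1, 0⟩, ⟨0, 0⟩, ⟨0, 0⟩; ⟨0, 0⟩, ⟨2, 0⟩, ⟨0, 0⟩; ⟨0, 0⟩, ⟨0, 0⟩, ⟨2, 0⟩],
    !![⟨2, 0⟩, ⟨0, 0⟩, ⟨0, 0⟩; ⟨0, 0⟩, ⟨0, 0⟩, ⟨1, 0⟩; ⟨0, 0⟩, ⟨1, 0⟩, ⟨0, 0⟩],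
    !![⟨2, 0⟩, ⟨0, 0⟩, ⟨0, 0⟩; ⟨0, 0⟩, ⟨0, 0⟩, ⟨2, 0⟩; ⟨0, 0⟩, ⟨2, 0⟩, ⟨0, 0⟩],
    !![⟨2, 0⟩, ⟨0, 0⟩, ⟨0, 0⟩; ⟨0, 0⟩, ⟨1, 0⟩, ⟨0, 0⟩; ⟨0, 0⟩, ⟨0, 0⟩, ⟨2, 0⟩],
    !![⟨2, 0⟩, ⟨0, 0⟩, ⟨0, 0⟩; ⟨0, 0⟩, ⟨2, 0⟩, ⟨0, 0⟩; ⟨0, 0⟩, ⟨0, 0⟩, ⟨1, 0⟩]]

/-- The powers of an element of order seven. -/
def gpw : Fin 7 → Matrix (Fin 3) (Fin 3) F9 :=
  ![!![⟨1, 0⟩, ⟨0, 0⟩, ⟨0, 0⟩; ⟨0, 0⟩, ⟨1, 0⟩, ⟨0, 0⟩; ⟨0, 0⟩, ⟨0, 0⟩, ⟨1, 0⟩],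
    !![⟨1, 0⟩, ⟨1, 2⟩, ⟨2, 0⟩; ⟨1, 0⟩, ⟨2, 1⟩, ⟨2, 0⟩; ⟨1, 1⟩, ⟨0, 0⟩, ⟨1, 1⟩],
    !![⟨1, 1⟩, ⟨1, 1⟩, ⟨0, 0⟩; ⟨2, 0⟩, ⟨1, 0⟩, ⟨2, 1⟩; ⟨1, 0⟩, ⟨2, 0⟩, ⟨2, 1⟩],
    !![⟨2, 2⟩, ⟨0, 0⟩, ⟨1, 1⟩; ⟨1, 0⟩, ⟨1, 2⟩, ⟨1, 0⟩; ⟨1, 0⟩, ⟨2, 1⟩, ⟨1, 0⟩],
    !![⟨2, 1⟩, ⟨1, 0⟩, ⟨1, 0⟩; ⟨0, 0⟩, ⟨1, 1⟩, ⟨2, 2⟩; ⟨1, 2⟩, ⟨1, 0⟩, ⟨1, 0⟩],
    !![⟨1, 2⟩, ⟨2, 0⟩, ⟨1, 0⟩; ⟨1, 2⟩, ⟨1, 0⟩, ⟨2, 0⟩; ⟨0, 0⟩, ⟨2, 2⟩, ⟨2, 2⟩],
    !![⟨1, 0⟩, ⟨1, 0⟩, ⟨1, 2⟩; ⟨1, 1⟩, ⟨2, 2⟩, ⟨0, 0⟩; ⟨2, 0⟩, ⟨2, 0⟩, ⟨1, 2⟩]]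

/-- Multiplication table of `tab`. -/
def mulf : Fin 24 → Fin 24 → Fin 24 :=
  ![![22, 19, 10, 15, 18, 23, 14, 11, 16, 21, 6, 3, 20, 17, 2, 7, 12, 9, 0, 5, 8, 13, 4, 1],
    ![23, 18, 11, 14, 19, 22, 15, 10, 17, 20, 7, 2, 21, 16, 3, 6, 13, 8, 1, 4, 9, 12, 5, 0],
    ![20, 16, 8, 12, 17, 21, 13, 9, 18, 22, 4, 0, 23, 19, 1, 5, 14, 10, 2, 6, 11, 15, 7, 3],
    ![21, 17, 9, 13, 16, 20, 12, 8, 19, 23, 5, 1, 22, 18, 0, 4, 15, 11, 3, 7, 10, 14, 6, 2],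
    ![18, 23, 14, 11, 22, 19, 10, 15, 20, 17, 2, 7, 16, 21, 6, 3, 8, 13, 4, 1, 12, 9, 0, 5],
    ![19, 22, 15, 10, 23, 18, 11, 14, 21, 16, 3, 6, 17, 20, 7, 2, 9, 12, 5, 0, 13, 8, 1, 4],
    ![16, 20, 12, 8, 21, 17, 9, 13, 22, 18, 0, 4, 19, 23, 5, 1, 10, 14, 6, 2, 15, 11, 3, 7],
    ![17, 21, 13, 9, 20, 16, 8, 12, 23, 19, 1, 5, 18, 22, 4, 0, 11, 15, 7, 3, 14, 10, 2, 6],
    ![11, 14, 18, 23, 10, 15, 19, 22, 2, 7, 17, 20, 3, 6, 16, 21, 1, 4, 8, 13, 0, 5, 9, 12],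
    ![10, 15, 19, 22, 11, 14, 18, 23, 3, 6, 16, 21, 2, 7, 17, 20, 0, 5, 9, 12, 1, 4, 8, 13],
    ![8, 12, 16, 20, 9, 13, 17, 21, 0, 4, 18, 22, 1, 5, 19, 23, 2, 6, 10, 14, 3, 7, 11, 15],
    ![9, 13, 17, 21, 8, 12, 16, 20, 1, 5, 19, 23, 0, 4, 18, 22, 3, 7, 11, 15, 2, 6, 10, 14],
    ![15, 10, 22, 19, 14, 11, 23, 18, 6, 3, 21, 16, 7, 2, 20, 17, 5, 0, 12, 9, 4, 1, 13, 8],
    ![14, 11, 23, 18, 15, 10, 22, 19, 7, 2, 20, 17, 6, 3, 21, 16, 4, 1, 13, 8, 5, 0, 12, 9],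
    ![12, 8, 20, 16, 13, 9, 21, 17, 4, 0, 22, 18, 5, 1, 23, 19, 6, 2, 14, 10, 7, 3, 15, 11],
    ![13, 9, 21, 17, 12, 8, 20, 16, 5, 1, 23, 19, 4, 0, 22, 18, 7, 3, 15, 11, 6, 2, 14, 10],
    ![3, 2, 0, 1, 6, 7, 5, 4, 10, 11, 9, 8, 15, 14, 12, 13, 19, 18, 16, 17, 22, 23, 21, 20],
    ![2, 3, 1, 0, 7, 6, 4, 5, 11, 10, 8, 9, 14, 15, 13, 12, 18, 19, 17, 16, 23, 22, 20, 21],
    ![0, 1, 2, 3, 4, 5, 6, 7, 8, 9, 10, 11, 12, 13, 14, 15, 16, 17, 18, 19, 20, 21, 22, 23],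
    ![1, 0, 3, 2, 5, 4, 7, 6, 9, 8, 11, 10, 13, 12, 15, 14, 17, 16, 19, 18, 21, 20, 23, 22],
    ![7, 6, 4, 5, 2, 3, 1, 0, 14, 15, 13, 12, 11, 10, 8, 9, 23, 22, 20, 21, 18, 19, 17, 16],
    ![6, 7, 5, 4, 3, 2, 0, 1, 15, 14, 12, 13, 10, 11, 9, 8, 22, 23, 21, 20, 19, 18, 16, 17],
    ![4, 5, 6, 7, 0, 1, 2, 3, 12, 13, 14, 15, 8, 9, 10, 11, 20, 21, 22, 23, 16, 17, 18, 19],
    ![5, 4, 7, 6, 1, 0, 3, 2, 13, 12, 15, 14, 9, 8, 11, 10, 21, 20, 23, 22, 17, 16, 19, 18]]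

/-- Inverses in `tab`. -/
def invf : Fin 24 → Fin 24 :=
  ![4, 1, 8, 13, 0, 5, 9, 12, 2, 6, 10, 14, 7, 3, 11, 15, 17, 16, 18, 19, 20, 21, 22, 23]

/-- Left factor of `gpw k * tab i`. -/
def jf : Fin 7 → Fin 24 → Fin 24 :=
  ![![0, 1, 2, 3, 4, 5, 6, 7, 8, 9, 10, 11, 12, 13, 14, 15, 16, 17, 18, 19, 20, 21, 22, 23],
    ![8, 23, 19, 16, 5, 10, 11, 7, 4, 6, 2, 22, 12, 20, 21, 14, 17, 1, 18, 0, 3, 9, 15, 13],
    ![4, 13, 0, 17, 10, 2, 22, 7, 5, 11, 19, 15, 12, 3, 9, 21, 1, 23, 18, 8, 16, 6, 14, 20],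
    ![5, 20, 8, 1, 2, 19, 15, 7, 10, 22, 0, 14, 12, 16, 6, 9, 23, 13, 18, 4, 17, 11, 21, 3],
    ![10, 3, 4, 23, 19, 0, 14, 7, 2, 15, 8, 21, 12, 17, 11, 6, 13, 20, 18, 5, 1, 22, 9, 16],
    ![2, 16, 5, 13, 0, 8, 21, 7, 19, 14, 4, 9, 12, 1, 22, 11, 20, 3, 18, 10, 23, 15, 6, 17],
    ![19, 17, 10, 20, 8, 4, 9, 7, 0, 21, 5, 6, 12, 23, 15, 22, 3, 16, 18, 2, 13, 14, 11, 1]]

/-- Right factor of `gpw k * tab i`. -/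
def kf : Fin 7 → Fin 24 → Fin 7 :=
  ![![0, 0, 0, 0, 0, 0, 0, 0, 0, 0, 0, 0, 0, 0, 0, 0, 0, 0, 0, 0, 0, 0, 0, 0],
    ![3, 1, 5, 4, 3, 1, 5, 4, 2, 6, 4, 5, 2, 6, 4, 5, 6, 2, 1, 3, 6, 2, 1, 3],
    ![5, 4, 1, 3, 4, 5, 3, 1, 5, 4, 2, 6, 4, 5, 6, 2, 1, 3, 2, 6, 3, 1, 6, 2],
    ![1, 3, 4, 5, 1, 3, 4, 5, 6, 2, 5, 4, 6, 2, 5, 4, 2, 6, 3, 1, 2, 6, 3, 1],
    ![2, 2, 6, 6, 6, 6, 2, 2, 3, 3, 1, 1, 1, 1, 3, 3, 5, 5, 4, 4, 4, 4, 5, 5],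
    ![6, 6, 2, 2, 2, 2, 6, 6, 1, 1, 3, 3, 3, 3, 1, 1, 4, 4, 5, 5, 5, 5, 4, 4],
    ![4, 5, 3, 1, 5, 4, 1, 3, 4, 5, 6, 2, 5, 4, 2, 6, 3, 1, 6, 2, 1, 3, 2, 6]]

/-- First conjugator. -/
def af : Fin 24 → Fin 24 :=
  ![8, 8, 0, 0, 8, 8, 0, 0, 0, 0, 0, 0, 0, 0, 0, 0, 16, 16, 0, 0, 16, 16, 0, 8]

/-- Second conjugator. -/
def bf : Fin 24 → Fin 24 :=
  ![8, 10, 2, 3, 8, 10, 2, 3, 3, 3, 2, 0, 2, 2, 0, 2, 16, 16, 0, 2, 18, 18, 2, 10]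

set_option maxRecDepth 100000 in
theorem det_tab : ∀ i : Fin 24, (tab i).det = 1 := by
  simp only [Matrix.det_fin_three]; decide +kernel

set_option maxRecDepth 100000 in
theorem det_gpw : ∀ k : Fin 7, (gpw k).det = 1 := by
  simp only [Matrix.det_fin_three]; decide +kernel

set_option maxRecDepth 100000 in
theorem tab_mul : ∀ i j : Fin 24, tab i * tab j = tab (mulf i j) := by decide +kernel

set_option maxRecDepth 100000 in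
theorem tab_one : tab 18 = 1 := by decide +kernel

theorem mulf_inv : ∀ i : Fin 24, mulf i (invf i) = 18 := by decide +kernel

set_option maxRecDepth 100000 in
theorem tab_inj : ∀ i j : Fin 24, tab i = tab j → i = j := by decide +kernel

set_option maxRecDepth 100000 in
theorem gpw_mul : ∀ k l : Fin 7, gpw k * gpw l = gpw (k + l) := by decide +kernel

set_option maxRecDepth 100000 in
theorem gpw_one : gpw 0 = 1 := by decide +kernel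

theorem fin7_inv : ∀ k : Fin 7, k + -k = 0 := by decide

set_option maxRecDepth 100000 in
theorem gpw_inj : ∀ k l : Fin 7, gpw k = gpw l → k = l := by decide +kernel

set_option maxRecDepth 100000 in
theorem gpw_tab : ∀ k : Fin 7, ∀ i : Fin 24, gpw k * tab i = tab (jf k i) * gpw (kf k i) := by
  decide +kernel

set_option maxRecDepth 100000 in
theorem h2_tab : ∀ i : Fin 24, i ≠ 18 → tab 19 = tab (af i) * tab i * tab (invf (af i)) *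
    (tab (bf i) * tab i * tab (invf (bf i))) := by decide +kernel

set_option maxRecDepth 100000 in
theorem h3_tab : ∀ j : Fin 24, gpw 1 * tab 19 ≠ tab j * gpw 1 := by decide +kernel

set_option maxRecDepth 100000 in
theorem u_tab : ∀ i : Fin 24, (tab i).transpose * (tab i).map (fun x => x ^ 3) = 1 := by
  decide +kernel

set_option maxRecDepth 100000 in
theorem u_gpw : ∀ k : Fin 7, (gpw k).transpose * (gpw k).map (fun x => x ^ 3) = 1 := by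
  decide +kernel

/-- The elements of the monomial subgroup. -/
def sS (i : Fin 24) : Matrix.SpecialLinearGroup (Fin 3) F9 := ⟨tab i, det_tab i⟩

/-- The elements of the subgroup of order seven. -/
def sP (k : Fin 7) : Matrix.SpecialLinearGroup (Fin 3) F9 := ⟨gpw k, det_gpw k⟩

theorem sS_mul (i j : Fin 24) : sS i * sS j = sS (mulf i j) := Subtype.ext (tab_mul i j)

theorem sS_one : sS 18 = 1 := Subtype.ext tab_one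

theorem sS_inj : Function.Injective sS := fun i j h => tab_inj i j (congrArg Subtype.val h)

theorem sP_mul (k l : Fin 7) : sP k * sP l = sP (k + l) := Subtype.ext (gpw_mul k l)

theorem sP_one : sP 0 = 1 := Subtype.ext gpw_one

theorem sP_inj : Function.Injective sP := fun i j h => gpw_inj i j (congrArg Subtype.val h)

/-- The monomial subgroup of order 24. -/
def SS : Subgroup (Matrix.SpecialLinearGroup (Fin 3) F9) :=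
  tableSubgroup sS mulf invf 18 sS_mul sS_one mulf_inv

/-- The subgroup of order seven. -/
def PP : Subgroup (Matrix.SpecialLinearGroup (Fin 3) F9) :=
  tableSubgroup sP (fun k l => k + l) (fun k => -k) 0 sP_mul sP_one fin7_inv

theorem card_SS : Nat.card SS = 24 := card_tableSubgroup _ _ _ _ _ _ _ sS_inj

theorem card_PP : Nat.card PP = 7 := card_tableSubgroup _ _ _ _ _ _ _ sP_inj

theorem sS_mem (i : Fin 24) : sS i ∈ SS := ⟨i, rfl⟩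

theorem sP_mem (k : Fin 7) : sP k ∈ PP := ⟨k, rfl⟩

theorem sS_inv (i : Fin 24) : (sS i)⁻¹ = sS (invf i) := by
  have h := sS_mul i (invf i)
  rw [mulf_inv, sS_one] at h
  exact (eq_inv_of_mul_eq_one_right h).symm

theorem exists168 : ∃ H : Subgroup (Matrix.SpecialLinearGroup (Fin 3) F9),
    SS ≤ H ∧ PP ≤ H ∧ H ≤ SS ⊔ PP ∧ Nat.card H = 168 ∧ IsSimpleGroup H := by
  refine abstract168 SS PP card_SS card_PP ?_ (sS 19) ?_ (sP 1) (sP_mem 1) ?_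
  · rintro _ ⟨k, rfl⟩ _ ⟨i, rfl⟩
    exact ⟨sS (jf k i), sS_mem _, sP (kf k i), sP_mem _, Subtype.ext (gpw_tab k i)⟩
  · rintro _ ⟨i, rfl⟩ hne
    have hi : i ≠ 18 := fun h => hne (by rw [h]; exact sS_one)
    refine ⟨sS (af i), sS_mem _, sS (bf i), sS_mem _, ?_⟩
    rw [sS_inv, sS_inv]
    exact Subtype.ext (h2_tab i hi)
  · rintro ⟨j, hj⟩
    apply h3_tab j
    have h : sP 1 * sS 19 = sS j * sP 1 := by rw [hj]; group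
    exact congrArg Subtype.val h

/-! ## Transfer to an arbitrary field with nine elements -/

theorem zmod3_sq : ∀ r i : ZMod 3, r ^ 2 + i ^ 2 = 0 → r = 0 ∧ i = 0 := by decide

section Transfer

variable {F : Type*} [Field F] [CharP F 3]

open Matrix

/-- The embedding of the model into a field of characteristic three containing a square root
of `-1`. -/
noncomputable def iota (I : F) (hI : I ^ 2 = -1) : F9 →+* F where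
  toFun z := ZMod.castHom (dvd_refl 3) F z.re + ZMod.castHom (dvd_refl 3) F z.im * I
  map_one' := by simp [QuadraticAlgebra.re_one, QuadraticAlgebra.im_one]
  map_mul' z w := by
    simp only [QuadraticAlgebra.re_mul, QuadraticAlgebra.im_mul, map_add, map_mul, map_neg,
      map_one, map_zero]
    linear_combination (-(ZMod.castHom (dvd_refl 3) F z.im * ZMod.castHom (dvd_refl 3) F w.im))
      * hI
  map_zero' := by simp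
  map_add' z w := by
    simp only [QuadraticAlgebra.re_add, QuadraticAlgebra.im_add, map_add]
    ring

theorem iota_apply (I : F) (hI : I ^ 2 = -1) (z : F9) :
    iota I hI z = ZMod.castHom (dvd_refl 3) F z.re + ZMod.castHom (dvd_refl 3) F z.im * I := rfl

theorem iota_inj (I : F) (hI : I ^ 2 = -1) : Function.Injective (iota I hI) := by
  have : Fact (Nat.Prime 3) := ⟨Nat.prime_three⟩
  rw [injective_iff_map_eq_zero]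
  rintro ⟨r, i⟩ h
  rw [iota_apply] at h
  have h1 : ZMod.castHom (dvd_refl 3) F (r ^ 2 + i ^ 2) = 0 := by
    simp only [map_add, map_pow]
    linear_combination (ZMod.castHom (dvd_refl 3) F r - ZMod.castHom (dvd_refl 3) F i * I) * h
      + (ZMod.castHom (dvd_refl 3) F i) ^ 2 * hI
  have h2 : r ^ 2 + i ^ 2 = 0 := by
    have hinj : Function.Injective (ZMod.castHom (dvd_refl 3) F) := RingHom.injective _
    exact hinj (by rw [h1, map_zero])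
  obtain ⟨rfl, rfl⟩ := zmod3_sq r i h2
  rfl

theorem herm_pres (M : Matrix (Fin 3) (Fin 3) F)
    (hM : M.transpose * M.map (fun x => x ^ 3) = 1) (u v : Fin 3 → F) :
    Cfsg.hermForm 3 F 3 (M *ᵥ u) (M *ᵥ v) = Cfsg.hermForm 3 F 3 u v := by
  have hh : ∀ u v : Fin 3 → F, Cfsg.hermForm 3 F 3 u v = u ⬝ᵥ (fun i => v i ^ 3) :=
    fun u v => rfl
  have : Fact (Nat.Prime 3) := ⟨Nat.prime_three⟩
  rw [hh, hh]
  have h1 : (fun i => (M *ᵥ v) i ^ 3) = M.map (fun x => x ^ 3) *ᵥ (fun i => v i ^ 3) := by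
    funext i
    simp only [Matrix.mulVec, dotProduct, Matrix.map_apply]
    rw [sum_pow_char 3]
    simp [mul_pow]
  rw [h1, ← Matrix.vecMul_transpose, ← Matrix.dotProduct_mulVec, Matrix.mulVec_mulVec, hM,
    Matrix.one_mulVec]

theorem su_mem (ι : F9 →+* F) (M : Matrix.SpecialLinearGroup (Fin 3) F9)
    (hM : (M.1).transpose * (M.1).map (fun x => x ^ 3) = 1) :
    Matrix.SpecialLinearGroup.map ι M ∈ Cfsg.SU 3 F 3 := by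
  intro u v
  show Cfsg.hermForm 3 F 3 ((M.1.map ι) *ᵥ u) ((M.1.map ι) *ᵥ v) = _
  apply herm_pres
  have h1 := congrArg (fun N : Matrix (Fin 3) (Fin 3) F9 => N.map ι) hM
  simp only [Matrix.map_mul, Matrix.map_one _ (map_zero ι) (map_one ι)] at h1
  rw [← h1]
  congr 1
  ext i j
  simp [Matrix.map_apply, map_pow]

omit [CharP F 3] in
theorem map_inj (ι : F9 →+* F) (hι : Function.Injective ι) :
    Function.Injective (Matrix.SpecialLinearGroup.map (n := Fin 3) ι) := by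
  intro M M' h
  apply Subtype.ext
  apply Matrix.ext
  intro i j
  have h1 := congrArg (fun g : Matrix.SpecialLinearGroup (Fin 3) F => g.1 i j) h
  exact hι h1

end Transfer

theorem result {F : Type*} [Field F] [Fintype F] (hF : Fintype.card F = 9)
    {K : Type*} [Field K] [Fintype K] (hK : Fintype.card K = 7) :
    ∃ H : Subgroup (Cfsg.PSU 3 F 3), Nonempty (H ≃* Matrix.ProjectiveSpecialLinearGroup (Fin 2) K) := by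
  classical
  have h9 : ((9 : ℕ) : F) = 0 := by rw [← hF]; exact FiniteField.cast_card_eq_zero F
  have h3 : (3 : F) = 0 := by
    have h33 : (3 : F) * 3 = 0 := by rw [← h9]; norm_num
    exact mul_self_eq_zero.1 h33
  obtain ⟨p, hp⟩ := CharP.exists F
  have hp3 : p ∣ 3 := (CharP.cast_eq_zero_iff F p 3).mp (by exact_mod_cast h3)
  have hpp : p ≠ 1 := CharP.char_ne_one F p
  have hp3' : p = 3 := ((Nat.dvd_prime Nat.prime_three).mp hp3).resolve_left hpp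
  subst hp3'
  obtain ⟨x, hx0, hx1, hx2⟩ : ∃ x : F, x ≠ 0 ∧ x ≠ 1 ∧ x ≠ -1 := by
    by_contra hcon
    push Not at hcon
    have hsub : (Finset.univ : Finset F) ⊆ {0, 1, -1} := fun w _ => by
      by_cases hw : w = 0
      · simp [hw]
      · by_cases hw1 : w = 1
        · simp [hw1]
        · simp [hcon w hw hw1]
    have h5 := Finset.card_le_card hsub
    rw [Finset.card_univ, hF] at h5
    have h6 : ({0, 1, -1} : Finset F).card ≤ 3 := Finset.card_le_three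
    omega
  have hx8 : x ^ 8 = 1 := by
    have h5 := FiniteField.pow_card_sub_one_eq_one x hx0
    rwa [hF] at h5
  obtain ⟨I, hI⟩ : ∃ I : F, I ^ 2 = -1 := by
    have h4 : (x ^ 4 - 1) * (x ^ 4 + 1) = 0 := by linear_combination hx8
    rcases mul_eq_zero.1 h4 with h | h
    · have h2 : (x ^ 2 - 1) * (x ^ 2 + 1) = 0 := by linear_combination h
      rcases mul_eq_zero.1 h2 with h' | h'
      · exfalso
        have h1 : (x - 1) * (x + 1) = 0 := by linear_combination h'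
        rcases mul_eq_zero.1 h1 with h'' | h''
        · exact hx1 (sub_eq_zero.1 h'')
        · exact hx2 (eq_neg_of_add_eq_zero_left h'')
      · exact ⟨x, eq_neg_of_add_eq_zero_left h'⟩
    · exact ⟨x ^ 2, by rw [← pow_mul]; exact eq_neg_of_add_eq_zero_left h⟩
  set ι := iota I hI with hι
  have hιinj := iota_inj I hI
  set Φ := Matrix.SpecialLinearGroup.map (n := Fin 3) ι with hΦ
  have hΦinj : Function.Injective Φ := map_inj ι hιinj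
  set U0 : Subgroup (Matrix.SpecialLinearGroup (Fin 3) F9) := (Cfsg.SU 3 F 3).comap Φ with hU0
  let Ψ : U0 →* Cfsg.SU 3 F 3 := Φ.subgroupComap (Cfsg.SU 3 F 3)
  have hΨinj : Function.Injective Ψ := by
    intro M W h
    apply Subtype.ext
    apply hΦinj
    exact congrArg Subtype.val h
  let π : U0 →* Cfsg.PSU 3 F 3 :=
    (QuotientGroup.mk' (Subgroup.center (Cfsg.SU 3 F 3))).comp Ψ
  have hker : ∀ M W : U0, π M = 1 → M * W = W * M := by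
    intro M W h
    have h5 : Ψ M ∈ Subgroup.center (Cfsg.SU 3 F 3) := (QuotientGroup.eq_one_iff _).1 h
    rw [Subgroup.mem_center_iff] at h5
    have h6 := h5 (Ψ W)
    apply hΨinj
    rw [map_mul, map_mul]; exact h6.symm
  obtain ⟨H, hSH, hPH, hHle, hcard, hsimple⟩ := exists168
  have hSU : SS ≤ U0 := by
    rintro _ ⟨i, rfl⟩
    exact su_mem ι (sS i) (u_tab i)
  have hPU : PP ≤ U0 := by
    rintro _ ⟨k, rfl⟩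
    exact su_mem ι (sP k) (u_gpw k)
  have hHU : H ≤ U0 := hHle.trans (sup_le hSU hPU)
  let θ : H →* Cfsg.PSU 3 F 3 := π.comp (Subgroup.inclusion hHU)
  have : Finite H := Nat.finite_of_card_ne_zero (by rw [hcard]; norm_num)
  have hθ : Function.Injective θ := by
    rw [← MonoidHom.ker_eq_bot_iff]
    rcases (MonoidHom.normal_ker θ).eq_bot_or_eq_top with h | h
    · exact h
    · exfalso
      let g' : H := ⟨sP 1, hPH (sP_mem 1)⟩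
      let v' : H := ⟨sS 19, hSH (sS_mem 19)⟩
      have hg : g' ∈ θ.ker := by rw [h]; exact Subgroup.mem_top _
      have h1 : π (Subgroup.inclusion hHU g') = 1 := hg
      have h2 := hker _ (Subgroup.inclusion hHU v') h1
      have h4 : sP 1 * sS 19 = sS 19 * sP 1 := congrArg Subtype.val h2
      exact h3_tab 19 (congrArg Subtype.val h4)
  obtain ⟨e⟩ := Cfsg.Agent.S0495.result (G := H) hcard hK
  exact ⟨θ.range, ⟨(MonoidHom.ofInjective hθ).symm.trans e⟩⟩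

end Cfsg.Agent.S1897
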