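import Cfsg.Statements.S1901
import Cfsg.Agent.Lib.Helper6.PSolv
import Cfsg.Agent.Lib.Helper10.PComp
import Cfsg.Agent.Lib.Helper14.TightEmb
import Cfsg.Agent.Lib.Helper1.Coprime

set_option autoImplicit false
open Cfsg

namespace Cfsg.Agent.S1901

universe u

open Cfsg.Agent.Lib.Helper14

theorem isPSolvable_subgroup {G : Type u} [Group G] {p : ℕ} (hp : p.Prime) (H : Subgroup G)
    (h : Cfsg.IsPSolvable p G) : Cfsg.IsPSolvable p ↥H := by
  obtain ⟨n, K, h0, hl, hm, hn, hfac⟩ := h
  refine ⟨n, fun i => (K i).subgroupOf H, ?_, ?_, ?_, ?_, ?_⟩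
  · show (K 0).subgroupOf H = ⊥
    rw [h0]; exact Subgroup.bot_subgroupOf H
  · show (K (Fin.last n)).subgroupOf H = ⊤
    rw [hl]; exact Subgroup.top_subgroupOf H
  · intro i j hij
    exact Subgroup.comap_mono (hm hij)
  · intro i
    exact (hn i).subgroupOf H
  · intro i
    have hni := hn i.castSucc
    have hd : ((K i.castSucc).subgroupOf H).relIndex ((K i.succ).subgroupOf H) ∣
        (K i.castSucc).relIndex (K i.succ) := by
      have e : ((K i.castSucc).subgroupOf H).relIndex ((K i.succ).subgroupOf H) =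
          (K i.castSucc).relIndex (K i.succ ⊓ H) := by
        rw [Subgroup.subgroupOf, Subgroup.relIndex_comap, Subgroup.subgroupOf_map_subtype]
      rw [e]
      exact Cfsg.Agent.Lib.Helper6.relIndex_dvd_of_le_right' _ _ _ inf_le_left
    exact Cfsg.Agent.Lib.Helper6.PorP'.of_dvd hp (hfac i) hd

/-- In a `p`-solvable group, a `p'`-subgroup `Q` normalizing a Sylow `p`-subgroup is centralized
by every `p`-element of its normalizer. -/
theorem aux (p : ℕ) [Fact p.Prime] : ∀ (n : ℕ) (G : Type u) [Group G] [Finite G],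
    Nat.card G ≤ n → Cfsg.IsPSolvable p G → ∀ (Q : Subgroup G), (Nat.card Q).Coprime p →
    ∀ (P : Sylow p G), Q ≤ Subgroup.normalizer ((P : Subgroup G) : Set G) →
    ∀ a ∈ Subgroup.normalizer (Q : Set G), (∃ k : ℕ, a ^ (p ^ k) = 1) →
      a ∈ Subgroup.centralizer (Q : Set G) := by
  have hp : p.Prime := Fact.out
  intro n
  induction n with
  | zero =>
    intro G _ _ hcard
    have := Nat.card_pos (α := G)
    omega
  | succ n ih =>
    intro G _ _ hcard hsol Q hQ P hQP a haQ hap
    by_cases htop : (⊤ : Subgroup G) = ⊥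
    · have ha1 : a = 1 := by
        have : a ∈ (⊤ : Subgroup G) := Subgroup.mem_top a
        rw [htop] at this
        exact this
      rw [ha1]; exact one_mem _
    obtain ⟨M, -, hMn, hM1, hM⟩ :=
      Cfsg.Agent.Lib.Helper6.exists_normal_p_or_p' hp hsol ⊤ htop
    -- the quotient
    have hcardq : Nat.card (G ⧸ M) ≤ n := by
      have h1 := Subgroup.card_eq_card_quotient_mul_card_subgroup M
      have h2 : 2 ≤ Nat.card M := by
        have h3 : Nat.card M ≠ 1 := fun h => hM1 (Subgroup.card_eq_one.mp h)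
        have h4 := Nat.card_pos (α := M)
        omega
      have h5 := Nat.card_pos (α := G ⧸ M)
      nlinarith
    have hsolq : Cfsg.IsPSolvable p (G ⧸ M) := Cfsg.Agent.Lib.Helper6.isPSolvable_quotient hp M hsol
    have hQq : (Nat.card (Q.map (QuotientGroup.mk' M))).Coprime p :=
      Nat.Coprime.coprime_dvd_left (Subgroup.card_map_dvd _ _) hQ
    have hQPq : Q.map (QuotientGroup.mk' M) ≤ Subgroup.normalizer
        (((Sylow.mapSurjective (QuotientGroup.mk'_surjective M) P : Sylow p (G ⧸ M)) :
          Subgroup (G ⧸ M)) : Set (G ⧸ M)) := by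
      rw [Sylow.coe_mapSurjective]
      exact (Subgroup.map_mono hQP).trans (Subgroup.le_normalizer_map _)
    have haq : QuotientGroup.mk' M a ∈ Subgroup.normalizer
        ((Q.map (QuotientGroup.mk' M) : Subgroup (G ⧸ M)) : Set (G ⧸ M)) :=
      Subgroup.le_normalizer_map _ (Subgroup.mem_map_of_mem _ haQ)
    have hapq : ∃ k : ℕ, (QuotientGroup.mk' M a) ^ (p ^ k) = 1 := by
      obtain ⟨k, hk⟩ := hap
      exact ⟨k, by rw [← map_pow, hk, map_one]⟩
    have hcq := ih (G ⧸ M) hcardq hsolq (Q.map (QuotientGroup.mk' M)) hQq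
      (Sylow.mapSurjective (QuotientGroup.mk'_surjective M) P) hQPq _ haq hapq
    -- commutators with `a` land in `Q ∩ M`
    have hcomm : ∀ x ∈ Q, a * x * a⁻¹ * x⁻¹ ∈ Q ⊓ M := by
      intro x hx
      refine Subgroup.mem_inf.mpr ⟨?_, ?_⟩
      · exact mul_mem ((Subgroup.mem_normalizer_iff.mp haQ x).mp hx) (inv_mem hx)
      · have h1 := Subgroup.mem_centralizer_iff.mp hcq (QuotientGroup.mk' M x)
          (Subgroup.mem_map_of_mem _ hx)
        rw [← QuotientGroup.ker_mk' M, MonoidHom.mem_ker, map_mul, map_mul, map_mul, map_inv,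
          map_inv, ← h1]
        group
    rcases hM with hMp | hMp'
    · -- `M` a `p`-group
      have hcop : (Nat.card M).Coprime (Nat.card Q) := by
        obtain ⟨k, hk⟩ := IsPGroup.iff_card.mp hMp
        rw [hk]; exact Nat.Coprime.pow_left k hQ.symm
      have hbot : Q ⊓ M = ⊥ := Cfsg.Agent.Lib.Helper1.inf_eq_bot_of_coprime_card hcop
      rw [Subgroup.mem_centralizer_iff]
      intro x hx
      have h1 := hcomm x hx
      rw [hbot, Subgroup.mem_bot] at h1
      calc x * a = (a * x * a⁻¹ * x⁻¹)⁻¹ * (a * x) := by group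
        _ = a * x := by rw [h1, inv_one, one_mul]
    · -- `M` a `p'`-group
      have hPM : (P : Subgroup G) ⊓ M = ⊥ := by
        have hcop : (Nat.card M).Coprime (Nat.card (P : Subgroup G)) := by
          obtain ⟨k, hk⟩ := IsPGroup.iff_card.mp P.isPGroup'
          rw [hk]; exact Nat.Coprime.pow_right k hMp'
        exact Cfsg.Agent.Lib.Helper1.inf_eq_bot_of_coprime_card hcop
      have hPc : (P : Subgroup G) ≤ Subgroup.centralizer ((Q ⊓ M : Subgroup G) : Set G) := by
        intro g hg
        rw [Subgroup.mem_centralizer_iff]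
        intro k hk
        have h1 : k * g * k⁻¹ * g⁻¹ ∈ (P : Subgroup G) ⊓ M := by
          refine Subgroup.mem_inf.mpr ⟨?_, ?_⟩
          · exact mul_mem ((Subgroup.mem_normalizer_iff.mp (hQP hk.1) g).mp hg) (inv_mem hg)
          · have h2 : g * k⁻¹ * g⁻¹ ∈ M := hMn.conj_mem _ (inv_mem hk.2) g
            have e : k * g * k⁻¹ * g⁻¹ = k * (g * k⁻¹ * g⁻¹) := by group
            rw [e]; exact mul_mem hk.2 h2
        rw [hPM, Subgroup.mem_bot] at h1
        calc k * g = (k * g * k⁻¹ * g⁻¹) * (g * k) := by group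
          _ = g * k := by rw [h1, one_mul]
      have haQ1 : a ∈ Subgroup.normalizer ((Q ⊓ M : Subgroup G) : Set G) :=
        mem_normalizer_inf haQ (by rw [Subgroup.normalizer_eq_top_iff.mpr hMn]; exact Subgroup.mem_top a)
      have hQ1cop : (Nat.card ↥(Q ⊓ M)).Coprime p :=
        Nat.Coprime.coprime_dvd_left (Subgroup.card_dvd_of_le inf_le_left) hQ
      -- `a` centralizes `Q ∩ M`
      have hac : ∀ k ∈ Q ⊓ M, a * k = k * a := by
        by_cases hN1 : Subgroup.normalizer ((Q ⊓ M : Subgroup G) : Set G) = ⊤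
        · have hn1 : (Q ⊓ M).Normal := Subgroup.normalizer_eq_top_iff.mp hN1
          have hcn : (Subgroup.centralizer ((Q ⊓ M : Subgroup G) : Set G)).Normal :=
            Subgroup.normal_centralizer
          have hza : IsPGroup p (Subgroup.zpowers a) := by
            obtain ⟨k, hk⟩ := hap
            have h1 : orderOf a ∣ p ^ k := orderOf_dvd_of_pow_eq_one hk
            obtain ⟨j, -, hj⟩ := (Nat.dvd_prime_pow hp).1 h1
            apply IsPGroup.of_card (n := j)
            rw [Nat.card_zpowers, hj]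
          obtain ⟨g, hg⟩ := exists_map_conj_le_sylow P hza
          have h2 : g * a * g⁻¹ ∈ Subgroup.centralizer ((Q ⊓ M : Subgroup G) : Set G) :=
            hPc (hg (conj_mem_map_conj (Subgroup.mem_zpowers a)))
          have h3 := hcn.conj_mem _ h2 g⁻¹
          have e : g⁻¹ * (g * a * g⁻¹) * g⁻¹⁻¹ = a := by group
          rw [e] at h3
          intro k hk
          exact (Subgroup.mem_centralizer_iff.mp h3 k hk).symm
        · obtain ⟨N1, hN1def⟩ : ∃ N1 : Subgroup G,
              N1 = Subgroup.normalizer ((Q ⊓ M : Subgroup G) : Set G) := ⟨_, rfl⟩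
          rw [← hN1def] at hN1 haQ1
          have hQ1N : Q ⊓ M ≤ N1 := hN1def ▸ Subgroup.le_normalizer
          have hPN : (P : Subgroup G) ≤ N1 :=
            hN1def ▸ (hPc.trans (Subgroup.centralizer_le_normalizer _))
          have hcardN : Nat.card ↥N1 ≤ n := by
            have h1 : Nat.card ↥N1 < Nat.card G := by
              by_contra hcon
              push Not at hcon
              apply hN1
              apply Subgroup.eq_top_of_card_eq
              exact le_antisymm (Subgroup.card_le_card_group N1) hcon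
            omega
          have hsolN : Cfsg.IsPSolvable p ↥N1 := isPSolvable_subgroup hp N1 hsol
          have hQ1' : (Nat.card ((Q ⊓ M).subgroupOf N1)).Coprime p := by
            rw [Nat.card_congr (Subgroup.subgroupOfEquivOfLe hQ1N).toEquiv]; exact hQ1cop
          have hQP' : (Q ⊓ M).subgroupOf N1 ≤ Subgroup.normalizer
              (((P.subtype hPN : Sylow p ↥N1) : Subgroup ↥N1) : Set ↥N1) := by
            intro q hq
            rw [Sylow.coe_subtype, Subgroup.mem_normalizer_iff]
            intro h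
            rw [Subgroup.mem_subgroupOf, Subgroup.mem_subgroupOf]
            have hq1 : (q : G) ∈ Subgroup.normalizer ((P : Subgroup G) : Set G) :=
              hQP (Subgroup.mem_subgroupOf.mp hq).1
            exact Subgroup.mem_normalizer_iff.mp hq1 (h : G)
          have ha' : (⟨a, haQ1⟩ : ↥N1) ∈ Subgroup.normalizer
              (((Q ⊓ M).subgroupOf N1 : Subgroup ↥N1) : Set ↥N1) := by
            rw [Subgroup.mem_normalizer_iff]
            intro h
            rw [Subgroup.mem_subgroupOf, Subgroup.mem_subgroupOf]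
            have ha1 : a ∈ Subgroup.normalizer ((Q ⊓ M : Subgroup G) : Set G) := hN1def ▸ haQ1
            exact Subgroup.mem_normalizer_iff.mp ha1 (h : G)
          have hap' : ∃ k : ℕ, (⟨a, haQ1⟩ : ↥N1) ^ (p ^ k) = 1 := by
            obtain ⟨k, hk⟩ := hap
            exact ⟨k, Subtype.ext (by simpa using hk)⟩
          have hc' := ih ↥N1 hcardN hsolN ((Q ⊓ M).subgroupOf N1) hQ1' (P.subtype hPN) hQP'
            ⟨a, haQ1⟩ ha' hap'
          intro k hk
          have h1 := Subgroup.mem_centralizer_iff.mp hc' ⟨k, hQ1N hk⟩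
            (Subgroup.mem_subgroupOf.mpr hk)
          exact (congrArg Subtype.val h1).symm
      -- stability chain
      obtain ⟨k, hk⟩ := hap
      have hst := Cfsg.Agent.Lib.Helper11.stab_step a Q (Q ⊓ M) hac
        (fun h hh => by
          have h1 := hcomm h hh
          have h2 : h⁻¹ * (a * h * a⁻¹ * h⁻¹) * h⁻¹⁻¹ ∈ Q ⊓ M := by
            refine Subgroup.mem_inf.mpr ⟨?_, ?_⟩
            · exact mul_mem (mul_mem (inv_mem hh) h1.1) (inv_mem (inv_mem hh))
            · exact hMn.conj_mem _ h1.2 h⁻¹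
          have e : h⁻¹ * (a * h * a⁻¹) = h⁻¹ * (a * h * a⁻¹ * h⁻¹) * h⁻¹⁻¹ := by group
          rw [e]; exact h2)
        (p ^ k) (Nat.card Q) hk
        (fun x hx => Cfsg.Agent.Lib.Helper11.pow_card_subgroup_eq_one hx.1)
        (Nat.Coprime.pow_left k hQ.symm)
      rw [Subgroup.mem_centralizer_iff]
      intro x hx
      exact (hst x hx).symm

/-- Let G be a finite p-solvable group and Q a subgroup of order prime to p such that p divides the index of C_G(Q) in N_G(Q). Then Q normalizes no Sylow p-subgroup of G. -/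
theorem result {G : Type*} [Group G] [Finite G] {p : ℕ} [Fact p.Prime]
    (hG : Cfsg.IsPSolvable p G) (Q : Subgroup G) (hQ : ¬ p ∣ Nat.card Q)
    (hA : p ∣ (Subgroup.centralizer (Q : Set G)).relIndex (Subgroup.normalizer (Q : Set G)))
    (P : Sylow p G) : ¬ Q ≤ Subgroup.normalizer ((P : Subgroup G) : Set G) := by
  have hp : p.Prime := Fact.out
  intro hQP
  have hQc : (Nat.card Q).Coprime p := ((Nat.Prime.coprime_iff_not_dvd hp).mpr hQ).symm
  have hCN : Subgroup.centralizer (Q : Set G) ≤ Subgroup.normalizer (Q : Set G) :=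
    Subgroup.centralizer_le_normalizer _
  have hnorm : ((Subgroup.centralizer (Q : Set G)).subgroupOf (Subgroup.normalizer (Q : Set G))).Normal := by
    rw [Subgroup.normal_subgroupOf_iff_le_normalizer hCN]
    intro g hg
    apply mem_normalizer_of_map_conj_eq
    rw [← centralizer_map_conj, map_conj_eq_self_of_mem_normalizer hg]
  have hdvd : p ∣ Nat.card (↥(Subgroup.normalizer (Q : Set G)) ⧸
      (Subgroup.centralizer (Q : Set G)).subgroupOf (Subgroup.normalizer (Q : Set G))) := by
    rw [← Subgroup.index_eq_card]; exact hA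
  obtain ⟨y, hy⟩ := exists_prime_orderOf_dvd_card' p hdvd
  have hy' : y ∈ (⊤ : Subgroup ↥(Subgroup.normalizer (Q : Set G))).map (QuotientGroup.mk'
      ((Subgroup.centralizer (Q : Set G)).subgroupOf (Subgroup.normalizer (Q : Set G)))) := by
    obtain ⟨x, rfl⟩ := QuotientGroup.mk'_surjective _ y
    exact ⟨x, trivial, rfl⟩
  obtain ⟨x, -, ⟨j, hj⟩, hxy⟩ := Cfsg.Agent.Lib.Helper10.exists_pElement_lift p
    (QuotientGroup.mk' ((Subgroup.centralizer (Q : Set G)).subgroupOf (Subgroup.normalizer (Q : Set G))))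
    ⊤ hy' ⟨1, by rw [hy, pow_one]⟩
  have hxp : ∃ k : ℕ, (x : G) ^ (p ^ k) = 1 := by
    refine ⟨j, ?_⟩
    have h1 : x ^ (p ^ j) = 1 := by rw [← hj]; exact pow_orderOf_eq_one x
    have h2 := congrArg Subtype.val h1
    simpa using h2
  have hxc := aux p (Nat.card G) G le_rfl hG Q hQc P hQP (x : G) x.2 hxp
  have hy1 : y = 1 := by
    rw [← hxy]
    exact (QuotientGroup.eq_one_iff x).mpr (Subgroup.mem_subgroupOf.mpr hxc)
  rw [hy1, orderOf_one] at hy
  exact hp.one_lt.ne hy

end Cfsg.Agent.S1901
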