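import Cfsg.Statements.S1910
import Cfsg.Agent.Lib.Helper14.TightEmb

set_option autoImplicit false
open Cfsg

namespace Cfsg.Agent.S1910

open Cfsg.Agent.Lib.Helper14

/-- Let Q be a tightly embedded subgroup of a finite group G, g an element outside N_G(Q), T a nontrivial Sylow 2-subgroup of Q^g ∩ N_G(Q), and S a Sylow 2-subgroup of QT containing T. Then T ∩ Q = 1, and N_S(T) is the direct product of T and N_S(T) ∩ Q, with N_S(T) ∩ Q isomorphic to T. -/
theorem result {G : Type*} [Group G] [Finite G] (Q : Subgroup G) (hQ : Cfsg.IsTightlyEmbedded Q)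
    (g : G) (hg : g ∉ Subgroup.normalizer (Q : Set G))
    (T : Subgroup G) (hT1 : T ≠ ⊥) (hT : T ≤ Q.map (MulAut.conj g).toMonoidHom ⊓ Subgroup.normalizer (Q : Set G))
    (hTsyl : IsPGroup 2 T ∧ ¬ 2 ∣ T.relIndex (Q.map (MulAut.conj g).toMonoidHom ⊓ Subgroup.normalizer (Q : Set G)))
    (S : Subgroup G) (hTS : T ≤ S) (hS : S ≤ Q ⊔ T) (hSsyl : IsPGroup 2 S ∧ ¬ 2 ∣ S.relIndex (Q ⊔ T)) :
    T ⊓ Q = ⊥ ∧
      T ⊓ (S ⊓ Subgroup.normalizer (T : Set G) ⊓ Q) = ⊥ ∧
      ⁅T, S ⊓ Subgroup.normalizer (T : Set G) ⊓ Q⁆ = ⊥ ∧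
      T ⊔ (S ⊓ Subgroup.normalizer (T : Set G) ⊓ Q) = S ⊓ Subgroup.normalizer (T : Set G) ∧
      Nonempty (↥(S ⊓ Subgroup.normalizer (T : Set G) ⊓ Q) ≃* T) := by
  classical
  have : Fact (Nat.Prime 2) := ⟨Nat.prime_two⟩
  obtain ⟨hT2, hTidx⟩ := hTsyl
  obtain ⟨hS2, hSidx⟩ := hSsyl
  have hQ' : Cfsg.IsTightlyEmbedded (Q.map (MulAut.conj g).toMonoidHom) :=
    tightlyEmbedded_map_conj hQ g
  generalize hQ'def : Q.map (MulAut.conj g).toMonoidHom = Q' at hT hTidx hQ'
  have hTQ' : T ≤ Q' := fun x hx => (hT hx).1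
  have hTN : T ≤ Subgroup.normalizer (Q : Set G) := fun x hx => (hT hx).2
  have ha : T ⊓ Q = ⊥ := by
    apply tight_inf_eq_bot hQ hg inf_le_right _ (hT2.to_le inf_le_left)
    rw [hQ'def]; exact inf_le_left.trans hTQ'
  generalize hWdef : S ⊓ Subgroup.normalizer (T : Set G) = W
  generalize hRdef : W ⊓ Q = R
  have hb : T ⊓ R = ⊥ := by
    rw [eq_bot_iff, ← ha, ← hRdef]
    exact inf_le_inf_left T inf_le_right
  have hTW : T ≤ W := by rw [← hWdef]; exact le_inf hTS Subgroup.le_normalizer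
  have hRW : R ≤ W := by rw [← hRdef]; exact inf_le_left
  have hRQ : R ≤ Q := by rw [← hRdef]; exact inf_le_right
  have hWS : W ≤ S := by rw [← hWdef]; exact inf_le_left
  have hWNT : W ≤ Subgroup.normalizer (T : Set G) := by rw [← hWdef]; exact inf_le_right
  have hRNT : R ≤ Subgroup.normalizer (T : Set G) := hRW.trans hWNT
  have hcomm : ∀ t ∈ T, ∀ r ∈ R, t * r = r * t := by
    intro t ht r hr
    have h1 : t * r * t⁻¹ * r⁻¹ ∈ T ⊓ Q := by
      refine Subgroup.mem_inf.mpr ⟨?_, ?_⟩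
      · have : r * t⁻¹ * r⁻¹ ∈ T :=
          (Subgroup.mem_normalizer_iff.mp (hRNT hr) t⁻¹).mp (inv_mem ht)
        have e : t * r * t⁻¹ * r⁻¹ = t * (r * t⁻¹ * r⁻¹) := by group
        rw [e]; exact mul_mem ht this
      · have : t * r * t⁻¹ ∈ Q := (Subgroup.mem_normalizer_iff.mp (hTN ht) r).mp (hRQ hr)
        exact mul_mem this (inv_mem (hRQ hr))
    rw [ha, Subgroup.mem_bot] at h1
    calc t * r = (t * r * t⁻¹ * r⁻¹) * (r * t) := by group
      _ = r * t := by rw [h1, one_mul]
  have hc : ⁅T, R⁆ = ⊥ := by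
    rw [Subgroup.commutator_eq_bot_iff_le_centralizer]
    intro t ht
    rw [Subgroup.mem_centralizer_iff]
    intro r hr
    exact (hcomm t ht r hr).symm
  have hd : T ⊔ R = W := by
    apply le_antisymm (sup_le hTW hRW)
    intro x hx
    have hxS : x ∈ S := hWS hx
    have hxQT : x ∈ ((Q ⊔ T : Subgroup G) : Set G) := hS hxS
    rw [Subgroup.coe_mul_of_right_le_normalizer_left Q T hTN] at hxQT
    obtain ⟨q, hq, t, ht, hqt⟩ := Set.mem_mul.mp hxQT
    have hq' : q = x * t⁻¹ := by rw [← hqt]; group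
    have hqR : q ∈ R := by
      rw [← hRdef]
      refine Subgroup.mem_inf.mpr ⟨?_, hq⟩
      rw [hq']
      exact mul_mem hx (inv_mem (hTW ht))
    rw [← hqt]
    exact mul_mem (Subgroup.mem_sup_right hqR) (Subgroup.mem_sup_left ht)
  have hSI : S ⊓ (Q' ⊓ Subgroup.normalizer (Q : Set G)) = T := by
    symm
    exact eq_of_le_of_relIndex (le_inf hTS hT) inf_le_right (hS2.to_le inf_le_left) hTidx
  have hSN : S ≤ Subgroup.normalizer (Q : Set G) :=
    hS.trans (sup_le Subgroup.le_normalizer hTN)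
  have hNT : Subgroup.normalizer (T : Set G) ≤ Subgroup.normalizer (Q' : Set G) :=
    normalizer_le_of_tight hQ' hTQ' hT1 hT2
  have hW2 : IsPGroup 2 W := hS2.to_le hWS
  have hR2 : IsPGroup 2 R := hW2.to_le hRW
  have hWcard : Nat.card W = Nat.card T * Nat.card R := by
    rw [← hd]; exact card_sup_eq_mul_of_le_normalizer T R hRNT hb
  -- side `S`
  have h1 : ∃ f : T →* R, Function.Injective f := by
    by_cases hWS' : W = S
    · have hRidx : ¬ 2 ∣ R.relIndex Q := by
        have e1 : Nat.card ↥(Q ⊔ T) = Nat.card Q * Nat.card T :=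
          card_sup_eq_mul_of_le_normalizer Q T hTN (by rw [inf_comm]; exact ha)
        have e2 := relIndex_mul_card_of_le hS
        have e3 := relIndex_mul_card_of_le hRQ
        have e4 : Nat.card S = Nat.card T * Nat.card R := by rw [← hWS']; exact hWcard
        have e5 : S.relIndex (Q ⊔ T) = R.relIndex Q := by
          have hpos : 0 < Nat.card T * Nat.card R := Nat.mul_pos Nat.card_pos Nat.card_pos
          apply Nat.eq_of_mul_eq_mul_right hpos
          rw [← e4, e2, e1, ← e3, e4]; ring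
        rw [← e5]; exact hSidx
      have hTg : T.map (MulAut.conj g⁻¹).toMonoidHom ≤ Q := by
        rw [map_conj_le_iff, inv_inv, hQ'def]; exact hTQ'
      obtain ⟨q, hq, hqc⟩ :=
        exists_conj_mem_of_relIndex hR2 hRidx (isPGroup_map_conj hT2 g⁻¹) hTg
      apply exists_injective_of_conj_mem (k := q * g⁻¹)
      intro t ht
      have := hqc (g⁻¹ * t * g⁻¹⁻¹) (conj_mem_map_conj ht)
      have e : q * g⁻¹ * t * (q * g⁻¹)⁻¹ = q * (g⁻¹ * t * g⁻¹⁻¹) * q⁻¹ := by group
      rw [e]; exact this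
    · obtain ⟨y, hy, hyW⟩ := exists_mem_normalizer_not_mem hS2 hWS hWS'
      have hyS : y ∈ S := hy.1
      have hyNW : y ∈ Subgroup.normalizer (W : Set G) := hy.2
      have hyQ' : y ∉ Subgroup.normalizer (Q' : Set G) := by
        intro hyQ'
        apply hyW
        rw [← hWdef]
        refine Subgroup.mem_inf.mpr ⟨hyS, ?_⟩
        have hyNQ : y ∈ Subgroup.normalizer (Q : Set G) := hSN hyS
        have hyNN : y ∈ Subgroup.normalizer ((Subgroup.normalizer (Q : Set G) : Subgroup G) : Set G) :=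
          Subgroup.le_normalizer hyNQ
        have hySS : y ∈ Subgroup.normalizer (S : Set G) := Subgroup.le_normalizer hyS
        have := mem_normalizer_inf hySS (mem_normalizer_inf hyQ' hyNN)
        rw [hSI] at this
        exact this
      have hTyW : T.map (MulAut.conj y).toMonoidHom ≤ T ⊔ R := by
        rw [hd]
        calc T.map (MulAut.conj y).toMonoidHom ≤ W.map (MulAut.conj y).toMonoidHom :=
              Subgroup.map_mono hTW
          _ = W := map_conj_eq_self_of_mem_normalizer hyNW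
      have hTyT : T.map (MulAut.conj y).toMonoidHom ⊓ T = ⊥ :=
        tight_inf_eq_bot hQ' hyQ' (inf_le_right.trans hTQ')
          (inf_le_left.trans (Subgroup.map_mono hTQ')) (hT2.to_le inf_le_right)
      obtain ⟨f1, hf1⟩ := exists_injective_of_le_sup_of_inf_eq_bot hcomm hb hTyW hTyT
      obtain ⟨f2, hf2⟩ := exists_injective_of_map_conj_le (X := T) (k := y) le_rfl
      exact ⟨f1.comp f2, hf1.comp hf2⟩
  -- side `S'`
  have h2 : ∃ f : R →* T, Function.Injective f := by
    have hRNQ' : R ≤ Subgroup.normalizer (Q' : Set G) := hRNT.trans hNT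
    have hWle : W ≤ Q' ⊔ R := by rw [← hd]; exact sup_le_sup_right hTQ' R
    obtain ⟨S', hWS', hS'le, hS'2, hS'idx⟩ := exists_relSylow_ge hW2 hWle
    have hS'I : S' ⊓ (Q' ⊓ Subgroup.normalizer (Q : Set G)) = T := by
      symm
      exact eq_of_le_of_relIndex (le_inf (hTW.trans hWS') hT) inf_le_right
        (hS'2.to_le inf_le_left) hTidx
    have hQ'R : Q' ⊓ R = ⊥ := by
      apply tight_inf_eq_bot hQ hg (inf_le_right.trans hRQ) _ (hR2.to_le inf_le_right)
      rw [hQ'def]; exact inf_le_left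
    by_cases hWeq : W = S'
    · have hTidx' : ¬ 2 ∣ T.relIndex Q' := by
        have e1 : Nat.card ↥(Q' ⊔ R) = Nat.card Q' * Nat.card R :=
          card_sup_eq_mul_of_le_normalizer Q' R hRNQ' hQ'R
        have e2 := relIndex_mul_card_of_le hS'le
        have e3 := relIndex_mul_card_of_le hTQ'
        have e4 : Nat.card S' = Nat.card T * Nat.card R := by rw [← hWeq]; exact hWcard
        have e5 : S'.relIndex (Q' ⊔ R) = T.relIndex Q' := by
          have hpos : 0 < Nat.card T * Nat.card R := Nat.mul_pos Nat.card_pos Nat.card_pos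
          apply Nat.eq_of_mul_eq_mul_right hpos
          rw [← e4, e2, e1, ← e3, e4]; ring
        rw [← e5]; exact hS'idx
      have hRg : R.map (MulAut.conj g).toMonoidHom ≤ Q' := by
        rw [← hQ'def]; exact Subgroup.map_mono hRQ
      obtain ⟨q, hq, hqc⟩ :=
        exists_conj_mem_of_relIndex hT2 hTidx' (isPGroup_map_conj hR2 g) hRg
      apply exists_injective_of_conj_mem (k := q * g)
      intro r hr
      have := hqc (g * r * g⁻¹) (conj_mem_map_conj hr)
      have e : q * g * r * (q * g)⁻¹ = q * (g * r * g⁻¹) * q⁻¹ := by group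
      rw [e]; exact this
    · obtain ⟨y, hy, hyW⟩ := exists_mem_normalizer_not_mem hS'2 hWS' hWeq
      have hyS' : y ∈ S' := hy.1
      have hyNW : y ∈ Subgroup.normalizer (W : Set G) := hy.2
      have hyQ : y ∉ Subgroup.normalizer (Q : Set G) := by
        intro hyQ
        apply hyW
        have hyQR : y ∈ ((Q' ⊔ R : Subgroup G) : Set G) := hS'le hyS'
        rw [Subgroup.coe_mul_of_right_le_normalizer_left Q' R hRNQ'] at hyQR
        obtain ⟨q, hq, r, hr, hqr⟩ := Set.mem_mul.mp hyQR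
        have hq' : q = y * r⁻¹ := by rw [← hqr]; group
        have hqT : q ∈ T := by
          rw [← hS'I]
          refine Subgroup.mem_inf.mpr ⟨?_, Subgroup.mem_inf.mpr ⟨hq, ?_⟩⟩
          · rw [hq']; exact mul_mem hyS' (inv_mem (hWS' (hRW hr)))
          · rw [hq']; exact mul_mem hyQ (inv_mem (Subgroup.le_normalizer (hRQ hr)))
        rw [← hqr, ← hd]
        exact mul_mem (Subgroup.mem_sup_left hqT) (Subgroup.mem_sup_right hr)
      have hRyW : R.map (MulAut.conj y).toMonoidHom ≤ R ⊔ T := by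
        rw [sup_comm, hd]
        calc R.map (MulAut.conj y).toMonoidHom ≤ W.map (MulAut.conj y).toMonoidHom :=
              Subgroup.map_mono hRW
          _ = W := map_conj_eq_self_of_mem_normalizer hyNW
      have hRyR : R.map (MulAut.conj y).toMonoidHom ⊓ R = ⊥ :=
        tight_inf_eq_bot hQ hyQ (inf_le_right.trans hRQ)
          (inf_le_left.trans (Subgroup.map_mono hRQ)) (hR2.to_le inf_le_right)
      obtain ⟨f1, hf1⟩ := exists_injective_of_le_sup_of_inf_eq_bot (T := R) (R := T)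
        (fun r hr t ht => (hcomm t ht r hr).symm) (by rw [inf_comm]; exact hb) hRyW hRyR
      obtain ⟨f2, hf2⟩ := exists_injective_of_map_conj_le (X := R) (k := y) le_rfl
      exact ⟨f1.comp f2, hf1.comp hf2⟩
  obtain ⟨f, hf⟩ := h1
  obtain ⟨f', hf'⟩ := h2
  have hcard : Nat.card R = Nat.card T :=
    le_antisymm (Nat.card_le_card_of_injective f' hf') (Nat.card_le_card_of_injective f hf)
  have hbij : Function.Bijective f' :=
    (Nat.bijective_iff_injective_and_card f').mpr ⟨hf', hcard⟩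
  exact ⟨ha, hb, hc, hd, ⟨MulEquiv.ofBijective f' hbij⟩⟩

end Cfsg.Agent.S1910
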