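import Cfsg.Statements.S1921
import Cfsg.Agent.Lib.Helper11.Components
import Cfsg.Agent.Lib.Helper11.Misc

set_option autoImplicit false
open Cfsg

namespace Cfsg.Agent.S1921

/-- Let a be an involution of a finite group H and L a component of H with a L a⁻¹ ≠ L; put M = ⟨L, aLa⁻¹⟩ and let J be the subgroup generated by the elements x · a x a⁻¹ with x ∈ L (the diagonal). Then every element of M outside J·Z(M) generates M together with J. -/
theorem result {H : Type*} [Group H] [Finite H] (a : H) (ha : orderOf a = 2) (L : Subgroup H) (hL : Cfsg.IsComponent L)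
    (hLa : L.map (MulAut.conj a).toMonoidHom ≠ L) (x : H) (hxM : x ∈ L ⊔ L.map (MulAut.conj a).toMonoidHom)
    (hxJ : x ∉ Subgroup.closure {y : H | ∃ l ∈ L, y = l * (a * l * a⁻¹)} ⊔
      ((L ⊔ L.map (MulAut.conj a).toMonoidHom) ⊓ Subgroup.centralizer ((L ⊔ L.map (MulAut.conj a).toMonoidHom : Subgroup H) : Set H))) :
    Subgroup.closure {y : H | ∃ l ∈ L, y = l * (a * l * a⁻¹)} ⊔ Subgroup.zpowers x = L ⊔ L.map (MulAut.conj a).toMonoidHom := by
  classical
  have hLa' : Cfsg.IsComponent (L.map (MulAut.conj a).toMonoidHom) :=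
    Cfsg.Agent.Lib.Helper11.component_map_equiv hL (MulAut.conj a)
  have hcomm0 := Cfsg.Agent.Lib.Helper11.components_comm hL hLa' (Ne.symm hLa)
  rw [Subgroup.commutator_eq_bot_iff_le_centralizer] at hcomm0
  -- elements of `L` commute with elements of the conjugate
  have hcomm : ∀ l ∈ L, ∀ l' ∈ L.map (MulAut.conj a).toMonoidHom, l' * l = l * l' :=
    fun l hl l' hl' => Subgroup.mem_centralizer_iff.mp (hcomm0 hl) l' hl'
  have hconj : ∀ l ∈ L, a * l * a⁻¹ ∈ L.map (MulAut.conj a).toMonoidHom :=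
    fun l hl => ⟨l, hl, by simp [MulAut.conj_apply]⟩
  obtain ⟨J, hJ⟩ : ∃ J : Subgroup H, J = Subgroup.closure {y : H | ∃ l ∈ L, y = l * (a * l * a⁻¹)} :=
    ⟨_, rfl⟩
  rw [← hJ] at hxJ ⊢
  have hgen : ∀ l ∈ L, l * (a * l * a⁻¹) ∈ J := fun l hl => by
    rw [hJ]; exact Subgroup.subset_closure ⟨l, hl, rfl⟩
  have hJM : J ≤ L ⊔ L.map (MulAut.conj a).toMonoidHom := by
    rw [hJ, Subgroup.closure_le]
    rintro y ⟨l, hl, rfl⟩
    exact mul_mem (Subgroup.mem_sup_left hl) (Subgroup.mem_sup_right (hconj l hl))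
  apply le_antisymm
  · exact sup_le hJM (by rw [Subgroup.zpowers_le]; exact hxM)
  · -- decompose `x`
    have hnorm : L.map (MulAut.conj a).toMonoidHom ≤ Subgroup.normalizer (L : Set H) := by
      intro l' hl'
      apply Subgroup.centralizer_le_normalizer
      rw [Subgroup.mem_centralizer_iff]
      intro l hl
      exact (hcomm l hl l' hl').symm
    obtain ⟨l1, hl1, l2', hl2', hx⟩ := Cfsg.Agent.Lib.Helper11.mem_sup_of_le_normalizer hnorm hxM
    obtain ⟨l2, hl2, hl2e⟩ := hl2'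
    have hl2e' : l2' = a * l2 * a⁻¹ := by rw [← hl2e]; simp [MulAut.conj_apply]
    obtain ⟨Y, hY⟩ : ∃ Y : Subgroup H, Y = J ⊔ Subgroup.zpowers x := ⟨_, rfl⟩
    rw [← hY]
    have hJY : J ≤ Y := hY ▸ le_sup_left
    have hxY : x ∈ Y := hY ▸ Subgroup.mem_sup_right (Subgroup.mem_zpowers x)
    have huL : l1 * l2⁻¹ ∈ L := mul_mem hl1 (inv_mem hl2)
    have hxu : x = (l1 * l2⁻¹) * (l2 * (a * l2 * a⁻¹)) := by rw [hx, hl2e']; group
    have huY : l1 * l2⁻¹ ∈ Y := by
      have e : l1 * l2⁻¹ = x * (l2 * (a * l2 * a⁻¹))⁻¹ := by rw [hxu]; group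
      rw [e]; exact mul_mem hxY (inv_mem (hJY (hgen l2 hl2)))
    -- `u = l1 l2⁻¹` is not central in `L`
    have hunc : (⟨l1 * l2⁻¹, huL⟩ : ↥L) ∉ Subgroup.center ↥L := by
      intro hc
      apply hxJ
      rw [hxu]
      refine mul_mem (Subgroup.mem_sup_right ?_) (Subgroup.mem_sup_left (hgen l2 hl2))
      refine Subgroup.mem_inf.mpr ⟨Subgroup.mem_sup_left huL, ?_⟩
      rw [Subgroup.mem_centralizer_iff]
      intro m hm
      have hm' : (L ⊔ L.map (MulAut.conj a).toMonoidHom : Subgroup H) ≤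
          Subgroup.centralizer ({l1 * l2⁻¹} : Set H) := by
        apply sup_le
        · intro l hl
          rw [Subgroup.mem_centralizer_iff]
          rintro _ rfl
          have := Subgroup.mem_center_iff.mp hc ⟨l, hl⟩
          exact (congrArg Subtype.val this).symm
        · intro l' hl'
          rw [Subgroup.mem_centralizer_iff]
          rintro _ rfl
          exact (hcomm _ huL l' hl').symm
      have := Subgroup.mem_centralizer_iff.mp (hm' hm) (l1 * l2⁻¹) rfl
      exact this.symm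
    -- `Y ∩ L` is normal in `L`
    have hYn : (Y.subgroupOf L).Normal := by
      refine ⟨fun y hy l => ?_⟩
      rw [Subgroup.mem_subgroupOf] at hy ⊢
      have hj := hJY (hgen (l : H) l.2)
      have e : ((l * y * l⁻¹ : ↥L) : H) =
          ((l : H) * (a * (l : H) * a⁻¹)) * (y : H) * ((l : H) * (a * (l : H) * a⁻¹))⁻¹ := by
        have h1 := hcomm (y : H) y.2 _ (hconj (l : H) l.2)
        have h2 : (a * (l : H) * a⁻¹) * (y : H) * (a * (l : H) * a⁻¹)⁻¹ = (y : H) := by
          rw [h1]; group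
        calc ((l * y * l⁻¹ : ↥L) : H) = (l : H) * (y : H) * (l : H)⁻¹ := by simp
          _ = (l : H) * ((a * (l : H) * a⁻¹) * (y : H) * (a * (l : H) * a⁻¹)⁻¹) * (l : H)⁻¹ := by
              rw [h2]
          _ = _ := by group
      rw [e]
      exact mul_mem (mul_mem hj hy) (inv_mem hj)
    have hYtop : Y.subgroupOf L = ⊤ := by
      by_contra hne
      have hcen := Cfsg.Agent.Lib.Helper11.qs_normal_le_center hL.2 _ hYn hne
      exact hunc (hcen (Subgroup.mem_subgroupOf.mpr huY))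
    have hLY : L ≤ Y := Subgroup.subgroupOf_eq_top.mp hYtop
    apply sup_le hLY
    rintro _ ⟨l, hl, rfl⟩
    have e : (MulAut.conj a).toMonoidHom l = l⁻¹ * (l * (a * l * a⁻¹)) := by
      simp [MulAut.conj_apply]
    rw [e]
    exact mul_mem (inv_mem (hLY hl)) (hJY (hgen l hl))

end Cfsg.Agent.S1921
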