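import Cfsg.Statements.S1922
import Cfsg.Agent.Lib.Helper19.FixCrit

set_option autoImplicit false
open Cfsg

namespace Cfsg.Agent.S1922

/-- Let z be an involution of a finite group G and H a proper subgroup such that z lies in gHg⁻¹ exactly when g ∈ H. Then the following are equivalent: (1) for every conjugate t ≠ z of z commuting with z, the product zt lies in gHg⁻¹ exactly when g ∈ H; (2) z lies in the centre of some Sylow 2-subgroup of G, and for every conjugate t ≠ z of z commuting with z, the centralizer of zt is contained in H. -/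
theorem result {G : Type*} [Group G] [Finite G] (z : G) (hz : orderOf z = 2) (H : Subgroup G) (hH : H ≠ ⊤)
    (h0 : ∀ g : G, z ∈ H.map (MulAut.conj g).toMonoidHom ↔ g ∈ H) :
    (∀ t : G, IsConj z t → t ≠ z → t * z = z * t → ∀ g : G, z * t ∈ H.map (MulAut.conj g).toMonoidHom ↔ g ∈ H) ↔
      ((∃ P : Sylow 2 G, z ∈ (Subgroup.center ↥(P : Subgroup G)).map (P : Subgroup G).subtype) ∧
        ∀ t : G, IsConj z t → t ≠ z → t * z = z * t → Subgroup.centralizer ({z * t} : Set G) ≤ H) := by
  have h0' : Cfsg.Agent.Lib.Helper19.FixCrit.Fix1 z H := fun g => by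
    rw [← h0 g, Cfsg.Agent.Lib.Helper19.FixCrit.mem_map_conj_iff]
  have hzz : z * z = 1 := Cfsg.Agent.Lib.Helper10.orderOf_two_mul_self hz
  constructor
  · intro h1
    have h1' : Cfsg.Agent.Lib.Helper19.FixCrit.Fix2 z H := fun t ht hne hc g => by
      rw [← h1 t ht hne hc g, Cfsg.Agent.Lib.Helper19.FixCrit.mem_map_conj_iff]
    refine ⟨Cfsg.Agent.Lib.Helper19.FixCrit.two_central hzz h0' h1' hH, ?_⟩
    intro t ht hne hc c hcm
    have hzt : z * t ∈ H := by
      have := (h1' t ht hne hc 1).mpr (one_mem H)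
      simpa using this
    rw [← h1' t ht hne hc c]
    have e : c⁻¹ * (z * t) * c = z * t := by
      have h2 := Subgroup.mem_centralizer_iff.mp hcm (z * t) (Set.mem_singleton _)
      rw [mul_assoc, h2, inv_mul_cancel_left]
    rw [e]
    exact hzt
  · rintro ⟨⟨P, hzP⟩, hC⟩
    intro t ht hne hc g
    rw [Cfsg.Agent.Lib.Helper19.FixCrit.mem_map_conj_iff]
    exact Cfsg.Agent.Lib.Helper19.FixCrit.fix2_of_central hzz h0' P hzP hC t ht hne hc g

end Cfsg.Agent.S1922
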