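import Cfsg.Statements.S1953
import Cfsg.Agent.Lib.Helper14.AutStable
import Cfsg.Agent.Lib.Helper14.KInfCentric
import Cfsg.Agent.Lib.Helper14.KInfChiefB
import Cfsg.Agent.Lib.Helper19.NormalElAb

set_option autoImplicit false
open Cfsg

namespace Cfsg.Agent.S1953

set_option maxHeartbeats 1000000
set_option linter.unusedVariables false
set_option linter.style.haveILetI false
set_option linter.unusedSectionVars false

open Cfsg.Agent.Lib.Helper14

universe u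

/-- splitting an element into commuting `p`- and `p'`-parts -/
theorem split_elt {G : Type*} [Group G] [Finite G] (p : ℕ) [hp : Fact p.Prime] (c : G) :
    ∃ a b : G, c = a * b ∧ a ∈ Subgroup.zpowers c ∧ b ∈ Subgroup.zpowers c ∧
      (∃ k : ℕ, a ^ p ^ k = 1) ∧ ∃ m : ℕ, ¬ p ∣ m ∧ b ^ m = 1 := by
  have hn : orderOf c ≠ 0 := (orderOf_pos c).ne'
  obtain ⟨k, m, hm, hkm⟩ := Nat.exists_eq_pow_mul_and_not_dvd hn p hp.out.ne_one
  have hcop : Nat.Coprime (p ^ k) m :=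
    Nat.Coprime.pow_left k ((Nat.Prime.coprime_iff_not_dvd hp.out).mpr hm)
  have hb := Int.gcd_eq_gcd_ab ((p ^ k : ℕ) : ℤ) (m : ℤ)
  have hg : Int.gcd ((p ^ k : ℕ) : ℤ) (m : ℤ) = 1 := by
    rw [Int.gcd_natCast_natCast]
    exact hcop
  rw [hg] at hb
  obtain ⟨x, hx⟩ : ∃ x : ℤ, x = Int.gcdA ((p ^ k : ℕ) : ℤ) (m : ℤ) := ⟨_, rfl⟩
  obtain ⟨y, hy⟩ : ∃ y : ℤ, y = Int.gcdB ((p ^ k : ℕ) : ℤ) (m : ℤ) := ⟨_, rfl⟩
  rw [← hx, ← hy] at hb
  have hcn : c ^ ((p ^ k : ℕ) * m : ℕ) = 1 := by rw [← hkm]; exact pow_orderOf_eq_one c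
  refine ⟨c ^ ((m : ℤ) * y), c ^ (((p ^ k : ℕ) : ℤ) * x), ?_, ?_, ?_, ⟨k, ?_⟩, m, hm, ?_⟩
  · rw [← zpow_add]
    have : (m : ℤ) * y + ((p ^ k : ℕ) : ℤ) * x = 1 := by
      have := hb.symm
      push_cast at this ⊢
      linarith
    rw [this, zpow_one]
  · exact Subgroup.zpow_mem_zpowers c _
  · exact Subgroup.zpow_mem_zpowers c _
  · rw [← zpow_natCast, ← zpow_mul]
    have : (m : ℤ) * y * ((p ^ k : ℕ) : ℤ) = (((p ^ k : ℕ) * m : ℕ) : ℤ) * y := by
      push_cast; ring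
    rw [this, zpow_mul, zpow_natCast, hcn, one_zpow]
  · rw [← zpow_natCast, ← zpow_mul]
    have : ((p ^ k : ℕ) : ℤ) * x * (m : ℤ) = (((p ^ k : ℕ) * m : ℕ) : ℤ) * x := by
      push_cast; ring
    rw [this, zpow_mul, zpow_natCast, hcn, one_zpow]

theorem mem_of_pow_mem {G : Type*} [Group G] (D : Subgroup G) (b : G) (n m : ℕ)
    (hcop : Nat.Coprime n m) (h1 : b ^ n ∈ D) (h2 : b ^ m = 1) : b ∈ D := by
  have hb := Int.gcd_eq_gcd_ab (n : ℤ) (m : ℤ)
  have hg : Int.gcd (n : ℤ) (m : ℤ) = 1 := by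
    rw [Int.gcd_natCast_natCast]
    exact hcop
  rw [hg] at hb
  have e : b = (b ^ n) ^ (Int.gcdA (n : ℤ) (m : ℤ)) * (b ^ m) ^ (Int.gcdB (n : ℤ) (m : ℤ)) := by
    rw [← zpow_natCast, ← zpow_natCast, ← zpow_mul, ← zpow_mul, ← zpow_add]
    have : (n : ℤ) * Int.gcdA (n : ℤ) (m : ℤ) + (m : ℤ) * Int.gcdB (n : ℤ) (m : ℤ) = 1 := by
      have := hb.symm
      push_cast at this ⊢
      linarith
    rw [this, zpow_one]
  rw [e, h2, one_zpow, mul_one]
  exact zpow_mem h1 _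

theorem relIndex_mul_card' {G : Type*} [Group G] {H K : Subgroup G} (h : H ≤ K) :
    H.relIndex K * Nat.card H = Nat.card K := by
  have h1 := Subgroup.index_mul_card (H.subgroupOf K)
  rw [Nat.card_congr (Subgroup.subgroupOfEquivOfLe h).toEquiv] at h1
  exact h1

theorem mem_normalizer_of_map_conj_le {G : Type*} [Group G] [Finite G] {Q : Subgroup G} {n : G}
    (h : Q.map (MulAut.conj n).toMonoidHom ≤ Q) : n ∈ Subgroup.normalizer (Q : Set G) := by
  apply mem_normalizer_of_map_conj_eq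
  exact Subgroup.eq_of_le_of_card_ge h (by rw [card_map_conj])

theorem conj_mem_centralizer {G : Type*} [Group G] {Q : Subgroup G} {n c : G}
    (hn : n ∈ Subgroup.normalizer (Q : Set G)) (hc : c ∈ Subgroup.centralizer (Q : Set G)) :
    n * c * n⁻¹ ∈ Subgroup.centralizer (Q : Set G) := by
  rw [Subgroup.mem_centralizer_iff] at hc ⊢
  intro q hq
  have hq' : n⁻¹ * q * n ∈ Q := by
    have := (Subgroup.mem_normalizer_iff.mp (inv_mem hn) q).mp hq
    rwa [inv_inv] at this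
  have h1 := hc _ hq'
  calc q * (n * c * n⁻¹) = n * ((n⁻¹ * q * n) * c) * n⁻¹ := by group
    _ = n * (c * (n⁻¹ * q * n)) * n⁻¹ := by rw [h1]
    _ = n * c * n⁻¹ * q := by group

/-- a normal subgroup that is a `p`-group modulo `C₀` lies in `P C₀` -/
theorem core_le {G : Type*} [Group G] [Finite G] {p : ℕ} [hp : Fact p.Prime] (P : Sylow p G)
    (C₀ Y : Subgroup G)
    (hEY : (P : Subgroup G) ⊔ C₀ ≤ Subgroup.normalizer (Y : Set G))
    (hCY : C₀ ≤ Y) (hYC : Y ≤ Subgroup.normalizer (C₀ : Set G))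
    (hpow : ∀ y ∈ Y, ∃ j : ℕ, y ^ p ^ j ∈ C₀) : Y ≤ (P : Subgroup G) ⊔ C₀ := by
  obtain ⟨E, hE⟩ : ∃ E : Subgroup G, E = (P : Subgroup G) ⊔ C₀ := ⟨_, rfl⟩
  rw [← hE] at hEY ⊢
  have hPE : (P : Subgroup G) ≤ E := by rw [hE]; exact le_sup_left
  have hCE : C₀ ≤ E := by rw [hE]; exact le_sup_right
  have h1 : Nat.card ↥(E ⊔ Y) * Nat.card ↥(E ⊓ Y) = Nat.card E * Nat.card Y :=
    Cfsg.Agent.Lib.Helper19.NormalElAb.card_sup_mul_card_inf hEY
  have h2 : E.relIndex (E ⊔ Y) * Nat.card E = Nat.card ↥(E ⊔ Y) := relIndex_mul_card' le_sup_left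
  have h3 : C₀.relIndex Y * Nat.card C₀ = Nat.card Y := relIndex_mul_card' hCY
  have h4 : C₀.relIndex (E ⊓ Y) * Nat.card C₀ = Nat.card ↥(E ⊓ Y) :=
    relIndex_mul_card' (le_inf hCE hCY)
  have h5 : E.relIndex (E ⊔ Y) * C₀.relIndex (E ⊓ Y) = C₀.relIndex Y := by
    have hEpos : 0 < Nat.card E := Nat.card_pos
    have hCpos : 0 < Nat.card C₀ := Nat.card_pos
    have : (E.relIndex (E ⊔ Y) * C₀.relIndex (E ⊓ Y)) * (Nat.card E * Nat.card C₀) =
        C₀.relIndex Y * (Nat.card E * Nat.card C₀) := by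
      calc (E.relIndex (E ⊔ Y) * C₀.relIndex (E ⊓ Y)) * (Nat.card E * Nat.card C₀)
          = (E.relIndex (E ⊔ Y) * Nat.card E) * (C₀.relIndex (E ⊓ Y) * Nat.card C₀) := by ring
        _ = Nat.card ↥(E ⊔ Y) * Nat.card ↥(E ⊓ Y) := by rw [h2, h4]
        _ = Nat.card E * Nat.card Y := h1
        _ = Nat.card E * (C₀.relIndex Y * Nat.card C₀) := by rw [h3]
        _ = C₀.relIndex Y * (Nat.card E * Nat.card C₀) := by ring
    exact Nat.eq_of_mul_eq_mul_right (Nat.mul_pos hEpos hCpos) this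
  have h6 : ∃ j, C₀.relIndex Y = p ^ j := by
    haveI : (C₀.subgroupOf Y).Normal := Subgroup.normal_subgroupOf_of_le_normalizer hYC
    have hPG : IsPGroup p (↥Y ⧸ C₀.subgroupOf Y) := by
      intro x
      obtain ⟨y, rfl⟩ := QuotientGroup.mk_surjective x
      obtain ⟨j, hj⟩ := hpow y y.2
      refine ⟨j, ?_⟩
      rw [← QuotientGroup.mk_pow, QuotientGroup.eq_one_iff, Subgroup.mem_subgroupOf]
      simpa using hj
    obtain ⟨j, hj⟩ := IsPGroup.exists_card_eq hPG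
    exact ⟨j, hj⟩
  obtain ⟨j, hj⟩ := h6
  have h7 : E.relIndex (E ⊔ Y) ∣ p ^ j := ⟨_, by rw [← hj, h5]⟩
  obtain ⟨i, -, hi⟩ := (Nat.dvd_prime_pow hp.out).mp h7
  have h8 : ¬ p ∣ E.relIndex (E ⊔ Y) := by
    intro hd
    have h9 : E.relIndex (E ⊔ Y) ∣ (P : Subgroup G).relIndex (E ⊔ Y) :=
      Subgroup.relIndex_dvd_of_le_left _ hPE
    have h10 : (P : Subgroup G).relIndex (E ⊔ Y) ∣ (P : Subgroup G).index :=
      Subgroup.relIndex_dvd_index_of_le (hPE.trans le_sup_left)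
    exact P.not_dvd_index (hd.trans (h9.trans h10))
  have h11 : E.relIndex (E ⊔ Y) = 1 := by
    rw [hi] at h8 ⊢
    cases i with
    | zero => rfl
    | succ i => exact absurd (dvd_pow_self p (Nat.succ_ne_zero i)) h8
  have h12 : E ⊔ Y ≤ E := Subgroup.relIndex_eq_one.mp h11
  exact le_sup_right.trans h12

section main

variable {G : Type u} [Group G] [Finite G] {p : ℕ} [hp : Fact p.Prime]

/-- `p`-elements of the centralizer of a centric, weakly closed `Q₀` lie in `Q₀` -/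
theorem pelt_mem (P : Sylow p G) (Q₀ : Subgroup G) (hQ₀P : Q₀ ≤ (P : Subgroup G))
    (hcen : ∀ y ∈ (P : Subgroup G), (∀ q ∈ Q₀, y * q = q * y) → y ∈ Q₀)
    (hctl : ∀ (A : Set G), A ⊆ (P : Subgroup G) → ∀ g : G,
      (fun a => g * a * g⁻¹) '' A ⊆ (P : Subgroup G) →
      ∃ x ∈ Subgroup.normalizer (Q₀ : Set G), ∀ a ∈ A, g * a * g⁻¹ = x * a * x⁻¹)
    (y : G) (hyC : y ∈ Subgroup.centralizer (Q₀ : Set G)) (k : ℕ) (hyk : y ^ p ^ k = 1) :
    y ∈ Q₀ := by
  have hzp : IsPGroup p (Subgroup.zpowers y) := by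
    rintro ⟨z, hz⟩
    obtain ⟨i, rfl⟩ := Subgroup.mem_zpowers_iff.mp hz
    refine ⟨k, Subtype.ext ?_⟩
    simp only [Subgroup.coe_pow, Subgroup.coe_one]
    rw [← zpow_natCast, ← zpow_mul, mul_comm, zpow_mul, zpow_natCast, hyk, one_zpow]
  have hQ₀p : IsPGroup p Q₀ := P.isPGroup'.to_le hQ₀P
  have hzn : Subgroup.zpowers y ≤ Subgroup.normalizer (Q₀ : Set G) := by
    rw [Subgroup.zpowers_le]
    exact Subgroup.centralizer_le_normalizer _ hyC
  have hY : IsPGroup p (Subgroup.zpowers y ⊔ Q₀ : Subgroup G) :=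
    hzp.to_sup_of_normal_right' hQ₀p hzn
  obtain ⟨h, hh⟩ := exists_map_conj_le_sylow P hY
  have hA : (fun a => h * a * h⁻¹) '' (Q₀ : Set G) ⊆ (P : Subgroup G) := by
    rintro _ ⟨a, ha, rfl⟩
    exact hh (conj_mem_map_conj (Subgroup.mem_sup_right ha))
  obtain ⟨x, hx, hxa⟩ := hctl (Q₀ : Set G) (SetLike.coe_subset_coe.mpr hQ₀P) h hA
  have hy' : h * y * h⁻¹ ∈ (P : Subgroup G) :=
    hh (conj_mem_map_conj (Subgroup.mem_sup_left (Subgroup.mem_zpowers y)))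
  have hxq : ∀ q ∈ Q₀, x⁻¹ * q * x ∈ Q₀ := by
    intro q hq
    have := (Subgroup.mem_normalizer_iff.mp (inv_mem hx) q).mp hq
    rwa [inv_inv] at this
  have hmem : h * y * h⁻¹ ∈ Q₀ := by
    apply hcen _ hy'
    intro q hq
    have h1 := hxa _ (hxq q hq)
    have h2 : h * (x⁻¹ * q * x) * h⁻¹ = q := by rw [h1]; group
    have h3 : y * (x⁻¹ * q * x) = (x⁻¹ * q * x) * y :=
      ((Subgroup.mem_centralizer_iff.mp hyC) _ (hxq q hq)).symm
    calc h * y * h⁻¹ * q = h * y * h⁻¹ * (h * (x⁻¹ * q * x) * h⁻¹) := by rw [h2]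
      _ = h * (y * (x⁻¹ * q * x)) * h⁻¹ := by group
      _ = h * ((x⁻¹ * q * x) * y) * h⁻¹ := by rw [h3]
      _ = (h * (x⁻¹ * q * x) * h⁻¹) * (h * y * h⁻¹) := by group
      _ = q * (h * y * h⁻¹) := by rw [h2]
  have h4 := hxa _ (hxq _ hmem)
  have h5 : h * (x⁻¹ * (h * y * h⁻¹) * x) * h⁻¹ = h * y * h⁻¹ := by rw [h4]; group
  have h6 : x⁻¹ * (h * y * h⁻¹) * x = y := by
    calc x⁻¹ * (h * y * h⁻¹) * x = h⁻¹ * (h * (x⁻¹ * (h * y * h⁻¹) * x) * h⁻¹) * h := by group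
      _ = h⁻¹ * (h * y * h⁻¹) * h := by rw [h5]
      _ = y := by group
  rw [← h6]
  exact hxq _ hmem

/-- an element of `C(Q₀)` fusing a subgroup of `P` into `P` is a product of an element of `Q₀`
and an element centralizing the subgroup -/
theorem cent_split (P : Sylow p G) (Q₀ : Subgroup G) (hQ₀P : Q₀ ≤ (P : Subgroup G))
    (hPN : (P : Subgroup G) ≤ Subgroup.normalizer (Q₀ : Set G))
    (hcen : ∀ y ∈ (P : Subgroup G), (∀ q ∈ Q₀, y * q = q * y) → y ∈ Q₀)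
    (hctl : ∀ (A : Set G), A ⊆ (P : Subgroup G) → ∀ g : G,
      (fun a => g * a * g⁻¹) '' A ⊆ (P : Subgroup G) →
      ∃ x ∈ Subgroup.normalizer (Q₀ : Set G), ∀ a ∈ A, g * a * g⁻¹ = x * a * x⁻¹)
    (c : G) (hc : c ∈ Subgroup.centralizer (Q₀ : Set G))
    (A : Subgroup G) (hA : A ≤ (P : Subgroup G))
    (hcA : A.map (MulAut.conj c).toMonoidHom ≤ (P : Subgroup G)) :
    ∃ a ∈ Q₀, ∃ b ∈ Subgroup.centralizer (A : Set G), c = a * b := by
  obtain ⟨a, b, hab, haz, hbz, ⟨k, hak⟩, m, hm, hbm⟩ := split_elt p c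
  have hzC : Subgroup.zpowers c ≤ Subgroup.centralizer (Q₀ : Set G) := by
    rw [Subgroup.zpowers_le]; exact hc
  have haC := hzC haz
  have hbC := hzC hbz
  have haQ : a ∈ Q₀ := pelt_mem P Q₀ hQ₀P hcen hctl a haC k hak
  refine ⟨a, haQ, b, ?_, hab⟩
  rw [Subgroup.mem_centralizer_iff]
  intro x hx
  have hxP := hA hx
  have hxN := hPN hxP
  have hcx : c * x * c⁻¹ ∈ (P : Subgroup G) := hcA (conj_mem_map_conj hx)
  obtain ⟨w, hw⟩ : ∃ w : G, w = b * x * b⁻¹ * x⁻¹ := ⟨_, rfl⟩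
  have hbx : b * x * b⁻¹ = w * x := by rw [hw]; group
  have hwC : w ∈ Subgroup.centralizer (Q₀ : Set G) := by
    have e : w = b * (x * b⁻¹ * x⁻¹) := by rw [hw]; group
    rw [e]
    exact mul_mem hbC (conj_mem_centralizer hxN (inv_mem hbC))
  have hbe : b = a⁻¹ * c := by rw [hab]; group
  have haP : a ∈ (P : Subgroup G) := hQ₀P haQ
  have hwP : w ∈ (P : Subgroup G) := by
    have e : w = a⁻¹ * (c * x * c⁻¹) * a * x⁻¹ := by rw [hw, hbe]; group
    rw [e]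
    exact mul_mem (mul_mem (mul_mem (inv_mem haP) hcx) haP) (inv_mem hxP)
  have hwQ : w ∈ Q₀ := by
    apply hcen w hwP
    intro q hq
    exact ((Subgroup.mem_centralizer_iff.mp hwC) q hq).symm
  have hbw : b * w = w * b := ((Subgroup.mem_centralizer_iff.mp hbC) w hwQ).symm
  have hpow : ∀ j : ℕ, b ^ j * x * (b ^ j)⁻¹ = w ^ j * x := by
    intro j
    induction j with
    | zero => simp
    | succ j ih =>
      have hbwj : b * w ^ j = w ^ j * b :=
        (Commute.pow_right (show Commute b w from hbw) j).eq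
      calc b ^ (j + 1) * x * (b ^ (j + 1))⁻¹ = b * (b ^ j * x * (b ^ j)⁻¹) * b⁻¹ := by
            rw [pow_succ', mul_inv_rev]; simp only [mul_assoc]
        _ = b * (w ^ j * x) * b⁻¹ := by rw [ih]
        _ = (b * w ^ j) * x * b⁻¹ := by simp only [mul_assoc]
        _ = (w ^ j * b) * x * b⁻¹ := by rw [hbwj]
        _ = w ^ j * (b * x * b⁻¹) := by simp only [mul_assoc]
        _ = w ^ j * (w * x) := by rw [hbx]
        _ = w ^ (j + 1) * x := by rw [pow_succ, mul_assoc]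
  have h1 := hpow m
  rw [hbm] at h1
  have hwm : w ^ m = 1 := by
    have h2 : w ^ m * x = 1 * x := by
      rw [one_mul, ← h1]; group
    exact mul_right_cancel h2
  obtain ⟨i, hwi⟩ := (P.isPGroup'.to_le hQ₀P) ⟨w, hwQ⟩
  have hwi' : w ^ p ^ i = 1 := by
    have := congrArg Subtype.val hwi
    simpa using this
  have hw1 : w = 1 := by
    have hcop : Nat.Coprime (p ^ i) m :=
      Nat.Coprime.pow_left i ((Nat.Prime.coprime_iff_not_dvd hp.out).mpr hm)
    have := mem_of_pow_mem (⊥ : Subgroup G) w (p ^ i) m hcop (by rw [hwi']; exact one_mem _) hwm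
    exact Subgroup.mem_bot.mp this
  rw [hw1, one_mul] at hbx
  calc x * b = (b * x * b⁻¹) * b := by rw [hbx]
    _ = b * x := by group

/-- the largest subgroup of `P C(Q₀)` invariant under `N(Q₀)` -/
def coreX (P : Sylow p G) (Q₀ : Subgroup G) : Subgroup G where
  carrier := {x | ∀ n ∈ Subgroup.normalizer (Q₀ : Set G),
    n * x * n⁻¹ ∈ (P : Subgroup G) ⊔ Subgroup.centralizer (Q₀ : Set G)}
  mul_mem' := by
    intro a b ha hb n hn
    have e : n * (a * b) * n⁻¹ = (n * a * n⁻¹) * (n * b * n⁻¹) := by group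
    rw [e]
    exact mul_mem (ha n hn) (hb n hn)
  one_mem' := by
    intro n hn
    have e : n * 1 * n⁻¹ = 1 := by group
    rw [e]
    exact one_mem _
  inv_mem' := by
    intro a ha n hn
    have e : n * a⁻¹ * n⁻¹ = (n * a * n⁻¹)⁻¹ := by group
    rw [e]
    exact inv_mem (ha n hn)

theorem mem_coreX {P : Sylow p G} {Q₀ : Subgroup G} {x : G} :
    x ∈ coreX P Q₀ ↔ ∀ n ∈ Subgroup.normalizer (Q₀ : Set G),
      n * x * n⁻¹ ∈ (P : Subgroup G) ⊔ Subgroup.centralizer (Q₀ : Set G) := Iff.rfl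

theorem coreX_le (P : Sylow p G) (Q₀ : Subgroup G) :
    coreX P Q₀ ≤ (P : Subgroup G) ⊔ Subgroup.centralizer (Q₀ : Set G) := by
  intro x hx
  have := hx 1 (one_mem _)
  simpa using this

theorem cent_le_coreX (P : Sylow p G) (Q₀ : Subgroup G) :
    Subgroup.centralizer (Q₀ : Set G) ≤ coreX P Q₀ := by
  intro c hc n hn
  exact Subgroup.mem_sup_right (conj_mem_centralizer hn hc)

theorem le_coreX (P : Sylow p G) (Q₀ : Subgroup G) (hQ₀P : Q₀ ≤ (P : Subgroup G)) :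
    Q₀ ≤ coreX P Q₀ := by
  intro q hq n hn
  exact Subgroup.mem_sup_left (hQ₀P ((Subgroup.mem_normalizer_iff.mp hn q).mp hq))

theorem coreX_conj (P : Sylow p G) (Q₀ : Subgroup G) {x m : G} (hx : x ∈ coreX P Q₀)
    (hm : m ∈ Subgroup.normalizer (Q₀ : Set G)) : m * x * m⁻¹ ∈ coreX P Q₀ := by
  intro n hn
  have e : n * (m * x * m⁻¹) * n⁻¹ = (n * m) * x * (n * m)⁻¹ := by group
  rw [e]
  exact hx (n * m) (mul_mem hn hm)

/-- the Frattini-type splitting of `N(Q₀)` over `C(Q₀)` relative to `Q = P ∩ coreX` -/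
theorem split_N (P : Sylow p G) (Q₀ : Subgroup G)
    (hPN : (P : Subgroup G) ≤ Subgroup.normalizer (Q₀ : Set G))
    (A : Subgroup G) (hA : A ≤ (P : Subgroup G)) (x : G)
    (hx : x ∈ Subgroup.normalizer (Q₀ : Set G))
    (hxA : A.map (MulAut.conj x).toMonoidHom ≤ (P : Subgroup G)) :
    ∃ c ∈ Subgroup.centralizer (Q₀ : Set G),
      c * x ∈ Subgroup.normalizer (((P : Subgroup G) ⊓ coreX P Q₀ : Subgroup G) : Set G) ∧
      A.map (MulAut.conj (c * x)).toMonoidHom ≤ (P : Subgroup G) := by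
  obtain ⟨Q, hQ⟩ : ∃ Q : Subgroup G, Q = (P : Subgroup G) ⊓ coreX P Q₀ := ⟨_, rfl⟩
  rw [← hQ]
  obtain ⟨U, hU⟩ : ∃ U : Subgroup G, U = (A ⊔ Q).map (MulAut.conj x).toMonoidHom := ⟨_, rfl⟩
  have hAQP : A ⊔ Q ≤ (P : Subgroup G) := sup_le hA (by rw [hQ]; exact inf_le_left)
  have hUp : IsPGroup p U := by
    rw [hU]
    exact isPGroup_map_conj (P.isPGroup'.to_le hAQP) x
  have hUE : U ≤ (P : Subgroup G) ⊔ Subgroup.centralizer (Q₀ : Set G) := by
    rw [hU, Subgroup.map_le_iff_le_comap]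
    apply sup_le
    · intro a ha
      exact Subgroup.mem_sup_left (hxA (conj_mem_map_conj ha))
    · intro q hq
      rw [hQ] at hq
      exact (Subgroup.mem_inf.mp hq).2 x hx
  obtain ⟨e, heE, he⟩ := Sylow.exists_conj_mem_of_le P
    (H := (P : Subgroup G) ⊔ Subgroup.centralizer (Q₀ : Set G)) le_sup_left hUp hUE
  have hPnC : (P : Subgroup G) ≤ Subgroup.normalizer
      ((Subgroup.centralizer (Q₀ : Set G) : Subgroup G) : Set G) := by
    intro u hu
    rw [Subgroup.mem_normalizer_iff]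
    intro c
    constructor
    · intro hc
      exact conj_mem_centralizer (hPN hu) hc
    · intro hc
      have := conj_mem_centralizer (inv_mem (hPN hu)) hc
      have e2 : u⁻¹ * (u * c * u⁻¹) * u⁻¹⁻¹ = c := by group
      rwa [e2] at this
  have heinv : e⁻¹ ∈ Subgroup.centralizer (Q₀ : Set G) ⊔ (P : Subgroup G) := by
    rw [sup_comm]; exact inv_mem heE
  obtain ⟨c, hc, u, hu, hcu⟩ := mem_sup_of_le_normalizer hPnC heinv
  have hec : e = u⁻¹ * c⁻¹ := by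
    have : e = (e⁻¹)⁻¹ := (inv_inv e).symm
    rw [this, hcu]; group
  have hcU : ∀ q ∈ U, c⁻¹ * q * c⁻¹⁻¹ ∈ (P : Subgroup G) := by
    intro q hq
    have h1 := he q hq
    have e3 : c⁻¹ * q * c⁻¹⁻¹ = u * (e * q * e⁻¹) * u⁻¹ := by rw [hec]; group
    rw [e3]
    exact mul_mem (mul_mem hu h1) (inv_mem hu)
  have hcN : c⁻¹ ∈ Subgroup.normalizer (Q₀ : Set G) :=
    Subgroup.centralizer_le_normalizer _ (inv_mem hc)
  refine ⟨c⁻¹, inv_mem hc, ?_, ?_⟩
  · apply mem_normalizer_of_map_conj_le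
    rintro _ ⟨q, hq, rfl⟩
    show c⁻¹ * x * q * (c⁻¹ * x)⁻¹ ∈ Q
    have e4 : c⁻¹ * x * q * (c⁻¹ * x)⁻¹ = c⁻¹ * (x * q * x⁻¹) * c⁻¹⁻¹ := by group
    rw [e4, hQ]
    refine Subgroup.mem_inf.mpr ⟨?_, ?_⟩
    · apply hcU
      rw [hU]
      exact conj_mem_map_conj (Subgroup.mem_sup_right hq)
    · rw [hQ] at hq
      exact coreX_conj P Q₀ (coreX_conj P Q₀ (Subgroup.mem_inf.mp hq).2 hx) hcN
  · rintro _ ⟨a, ha, rfl⟩
    show c⁻¹ * x * a * (c⁻¹ * x)⁻¹ ∈ (P : Subgroup G)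
    have e4 : c⁻¹ * x * a * (c⁻¹ * x)⁻¹ = c⁻¹ * (x * a * x⁻¹) * c⁻¹⁻¹ := by group
    rw [e4]
    apply hcU
    rw [hU]
    exact conj_mem_map_conj (Subgroup.mem_sup_left ha)

/-- `N(Q)` controls strong fusion in `P`, for `Q = P ∩ coreX` -/
theorem ctl_Q (P : Sylow p G) (Q₀ : Subgroup G) (hQ₀P : Q₀ ≤ (P : Subgroup G))
    (hPN : (P : Subgroup G) ≤ Subgroup.normalizer (Q₀ : Set G))
    (hcen : ∀ y ∈ (P : Subgroup G), (∀ q ∈ Q₀, y * q = q * y) → y ∈ Q₀)
    (hctl : ∀ (A : Set G), A ⊆ (P : Subgroup G) → ∀ g : G,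
      (fun a => g * a * g⁻¹) '' A ⊆ (P : Subgroup G) →
      ∃ x ∈ Subgroup.normalizer (Q₀ : Set G), ∀ a ∈ A, g * a * g⁻¹ = x * a * x⁻¹)
    (A : Subgroup G) (hA : A ≤ (P : Subgroup G)) (g : G)
    (hg : A.map (MulAut.conj g).toMonoidHom ≤ (P : Subgroup G)) :
    ∃ h ∈ Subgroup.normalizer (((P : Subgroup G) ⊓ coreX P Q₀ : Subgroup G) : Set G),
      ∃ c ∈ Subgroup.centralizer (A : Set G), g = h * c := by
  obtain ⟨x, hx, hxa⟩ := hctl (A : Set G) (SetLike.coe_subset_coe.mpr hA) g (by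
    rintro _ ⟨a, ha, rfl⟩
    exact hg (conj_mem_map_conj ha))
  have hc₁ : x⁻¹ * g ∈ Subgroup.centralizer (A : Set G) := by
    rw [Subgroup.mem_centralizer_iff]
    intro a ha
    have h1 := hxa a ha
    calc a * (x⁻¹ * g) = x⁻¹ * (x * a * x⁻¹) * g := by group
      _ = x⁻¹ * (g * a * g⁻¹) * g := by rw [h1]
      _ = x⁻¹ * g * a := by group
  have hxA : A.map (MulAut.conj x).toMonoidHom ≤ (P : Subgroup G) := by
    rintro _ ⟨a, ha, rfl⟩
    show x * a * x⁻¹ ∈ (P : Subgroup G)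
    rw [← hxa a ha]
    exact hg (conj_mem_map_conj ha)
  obtain ⟨c, hc, hcxN, hcxA⟩ := split_N P Q₀ hPN A hA x hx hxA
  obtain ⟨n', hn'⟩ : ∃ n' : G, n' = c * x := ⟨_, rfl⟩
  rw [← hn'] at hcxN hcxA
  obtain ⟨A₁, hA₁⟩ : ∃ A₁ : Subgroup G, A₁ = A.map (MulAut.conj n').toMonoidHom := ⟨_, rfl⟩
  have hA₁P : A₁ ≤ (P : Subgroup G) := by rw [hA₁]; exact hcxA
  have hcA₁ : A₁.map (MulAut.conj c⁻¹).toMonoidHom ≤ (P : Subgroup G) := by
    rw [hA₁, map_conj_map_conj]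
    have e : c⁻¹ * n' = x := by rw [hn']; group
    rw [e]
    exact hxA
  obtain ⟨a, haQ₀, b, hb, hcab⟩ := cent_split P Q₀ hQ₀P hPN hcen hctl c⁻¹ (inv_mem hc) A₁ hA₁P hcA₁
  have haQ : a ∈ (P : Subgroup G) ⊓ coreX P Q₀ :=
    Subgroup.mem_inf.mpr ⟨hQ₀P haQ₀, le_coreX P Q₀ hQ₀P haQ₀⟩
  refine ⟨a * n', mul_mem (Subgroup.le_normalizer haQ) hcxN, n'⁻¹ * b * n' * (x⁻¹ * g),
    mul_mem ?_ hc₁, ?_⟩
  · rw [Subgroup.mem_centralizer_iff]
    intro a' ha'
    have h1 : n' * a' * n'⁻¹ ∈ A₁ := by rw [hA₁]; exact conj_mem_map_conj ha'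
    have h2 := (Subgroup.mem_centralizer_iff.mp hb) _ h1
    calc a' * (n'⁻¹ * b * n') = n'⁻¹ * ((n' * a' * n'⁻¹) * b) * n' := by group
      _ = n'⁻¹ * (b * (n' * a' * n'⁻¹)) * n' := by rw [h2]
      _ = n'⁻¹ * b * n' * a' := by group
  · have e : a * n' * (n'⁻¹ * b * n' * (x⁻¹ * g)) = (a * b) * n' * x⁻¹ * g := by group
    rw [e, ← hcab, hn']
    group

theorem Q_conj (P : Sylow p G) (Q₀ : Subgroup G)
    (hPN : (P : Subgroup G) ≤ Subgroup.normalizer (Q₀ : Set G)) (x : G)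
    (hx : x ∈ (P : Subgroup G)) :
    ((P : Subgroup G) ⊓ coreX P Q₀).map (MulAut.conj x).toMonoidHom =
      (P : Subgroup G) ⊓ coreX P Q₀ := by
  apply Subgroup.eq_of_le_of_card_ge
  · rintro _ ⟨q, hq, rfl⟩
    show x * q * x⁻¹ ∈ _
    exact Subgroup.mem_inf.mpr ⟨mul_mem (mul_mem hx (Subgroup.mem_inf.mp hq).1) (inv_mem hx),
      coreX_conj P Q₀ (Subgroup.mem_inf.mp hq).2 (hPN hx)⟩
  · rw [card_map_conj]

/-- `N(Q) ≤ N(Q₀)` -/
theorem normalizer_Q_le (P : Sylow p G) (Q₀ : Subgroup G) (hQ₀P : Q₀ ≤ (P : Subgroup G))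
    (hctl : ∀ (A : Set G), A ⊆ (P : Subgroup G) → ∀ g : G,
      (fun a => g * a * g⁻¹) '' A ⊆ (P : Subgroup G) →
      ∃ x ∈ Subgroup.normalizer (Q₀ : Set G), ∀ a ∈ A, g * a * g⁻¹ = x * a * x⁻¹) :
    Subgroup.normalizer (((P : Subgroup G) ⊓ coreX P Q₀ : Subgroup G) : Set G) ≤
      Subgroup.normalizer (Q₀ : Set G) := by
  intro n hn
  have hQ₀Q : Q₀ ≤ (P : Subgroup G) ⊓ coreX P Q₀ := le_inf hQ₀P (le_coreX P Q₀ hQ₀P)
  have hnQ : ∀ q ∈ Q₀, n * q * n⁻¹ ∈ (P : Subgroup G) := by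
    intro q hq
    exact (Subgroup.mem_inf.mp ((Subgroup.mem_normalizer_iff.mp hn q).mp (hQ₀Q hq))).1
  obtain ⟨x, hx, hxa⟩ := hctl (Q₀ : Set G) (SetLike.coe_subset_coe.mpr hQ₀P) n (by
    rintro _ ⟨a, ha, rfl⟩
    exact hnQ a ha)
  apply mem_normalizer_of_map_conj_le
  rintro _ ⟨q, hq, rfl⟩
  show n * q * n⁻¹ ∈ Q₀
  rw [hxa q hq]
  exact (Subgroup.mem_normalizer_iff.mp hx q).mp hq

theorem normalizer_le_normalizer_centralizer (Q₀ : Subgroup G) :
    Subgroup.normalizer (Q₀ : Set G) ≤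
      Subgroup.normalizer ((Subgroup.centralizer (Q₀ : Set G) : Subgroup G) : Set G) := by
  intro u hu
  rw [Subgroup.mem_normalizer_iff]
  intro c
  constructor
  · intro hc
    exact conj_mem_centralizer hu hc
  · intro hc
    have := conj_mem_centralizer (inv_mem hu) hc
    have e2 : u⁻¹ * (u * c * u⁻¹) * u⁻¹⁻¹ = c := by group
    rwa [e2] at this

end main


theorem mul_pow_mem' {G : Type*} [Group G] (C : Subgroup G) {r m : G} (hr : r ∈ C)
    (hm : m ∈ Subgroup.normalizer (C : Set G)) (j : ℕ) :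
    ∃ r' ∈ C, (r * m) ^ j = r' * m ^ j := by
  induction j with
  | zero => exact ⟨1, one_mem _, by simp⟩
  | succ j ih =>
    obtain ⟨r', hr', h⟩ := ih
    have hmj : m ^ j ∈ Subgroup.normalizer (C : Set G) := pow_mem hm j
    refine ⟨r' * (m ^ j * r * (m ^ j)⁻¹),
      mul_mem hr' ((Subgroup.mem_normalizer_iff.mp hmj r).mp hr), ?_⟩
    rw [pow_succ, h, pow_succ]
    simp only [mul_assoc, inv_mul_cancel_left]

theorem relIndex_pow_of_pow_mem {G : Type*} [Group G] [Finite G] {p : ℕ} [hp : Fact p.Prime]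
    (C Y : Subgroup G) (hYC : Y ≤ Subgroup.normalizer (C : Set G))
    (hpow : ∀ y ∈ Y, ∃ j : ℕ, y ^ p ^ j ∈ C) : ∃ j : ℕ, C.relIndex Y = p ^ j := by
  haveI : (C.subgroupOf Y).Normal := Subgroup.normal_subgroupOf_of_le_normalizer hYC
  have hPG : IsPGroup p (↥Y ⧸ C.subgroupOf Y) := by
    intro x
    obtain ⟨y, rfl⟩ := QuotientGroup.mk_surjective x
    obtain ⟨j, hj⟩ := hpow y y.2
    refine ⟨j, ?_⟩
    rw [← QuotientGroup.mk_pow, QuotientGroup.eq_one_iff, Subgroup.mem_subgroupOf]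
    simpa using hj
  obtain ⟨j, hj⟩ := IsPGroup.exists_card_eq hPG
  exact ⟨j, hj⟩

theorem pow_relIndex_mem {G : Type*} [Group G] [Finite G] (D X : Subgroup G)
    (hXD : X ≤ Subgroup.normalizer (D : Set G)) {m : G} (hm : m ∈ X) :
    m ^ D.relIndex X ∈ D := by
  haveI : (D.subgroupOf X).Normal := Subgroup.normal_subgroupOf_of_le_normalizer hXD
  have := Subgroup.pow_index_mem (D.subgroupOf X) (⟨m, hm⟩ : ↥X)
  rw [Subgroup.mem_subgroupOf] at this
  show m ^ (D.subgroupOf X).index ∈ D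
  simpa using this

section main

variable {G : Type u} [Group G] [Finite G] {p : ℕ} [hp : Fact p.Prime]

theorem centric_Q (P : Sylow p G) (Q₀ : Subgroup G) (hQ₀P : Q₀ ≤ (P : Subgroup G))
    (hcen : ∀ y ∈ (P : Subgroup G), (∀ q ∈ Q₀, y * q = q * y) → y ∈ Q₀)
    (hctl : ∀ (A : Set G), A ⊆ (P : Subgroup G) → ∀ g : G,
      (fun a => g * a * g⁻¹) '' A ⊆ (P : Subgroup G) →
      ∃ x ∈ Subgroup.normalizer (Q₀ : Set G), ∀ a ∈ A, g * a * g⁻¹ = x * a * x⁻¹)
    (Q : Subgroup G) (hQ : Q = (P : Subgroup G) ⊓ coreX P Q₀) :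
    ∃ R : Sylow p ↥(Subgroup.centralizer (Q : Set G)),
      (R : Subgroup ↥(Subgroup.centralizer (Q : Set G))).map
        (Subgroup.centralizer (Q : Set G)).subtype = Q ⊓ Subgroup.centralizer (Q : Set G) := by
  have hQP : Q ≤ (P : Subgroup G) := by rw [hQ]; exact inf_le_left
  have hQ₀Q : Q₀ ≤ Q := by rw [hQ]; exact le_inf hQ₀P (le_coreX P Q₀ hQ₀P)
  have hCC : Subgroup.centralizer (Q : Set G) ≤ Subgroup.centralizer (Q₀ : Set G) :=
    Subgroup.centralizer_le (SetLike.coe_subset_coe.mpr hQ₀Q)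
  have hSp : IsPGroup p ↥((Q ⊓ Subgroup.centralizer (Q : Set G)).subgroupOf
      (Subgroup.centralizer (Q : Set G))) :=
    (P.isPGroup'.to_le (inf_le_left.trans hQP)).comap_subtype
  refine ⟨{ toSubgroup := (Q ⊓ Subgroup.centralizer (Q : Set G)).subgroupOf
              (Subgroup.centralizer (Q : Set G))
            isPGroup' := hSp
            is_maximal' := ?_ }, ?_⟩
  · intro S' hS' hle
    apply le_antisymm _ hle
    intro t ht
    rw [Subgroup.mem_subgroupOf]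
    obtain ⟨k, hk⟩ := hS' ⟨t, ht⟩
    have hk' : (t : G) ^ p ^ k = 1 := by
      have := congrArg (fun z : ↥S' => ((z : ↥(Subgroup.centralizer (Q : Set G))) : G)) hk
      simpa using this
    exact Subgroup.mem_inf.mpr
      ⟨hQ₀Q (pelt_mem P Q₀ hQ₀P hcen hctl (t : G) (hCC t.2) k hk'), t.2⟩
  · show ((Q ⊓ Subgroup.centralizer (Q : Set G)).subgroupOf
        (Subgroup.centralizer (Q : Set G))).map (Subgroup.centralizer (Q : Set G)).subtype = _
    rw [Subgroup.subgroupOf_map_subtype, inf_assoc, inf_idem]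

theorem radical_Q (P : Sylow p G) (Q₀ : Subgroup G) (hQ₀P : Q₀ ≤ (P : Subgroup G))
    (hPN : (P : Subgroup G) ≤ Subgroup.normalizer (Q₀ : Set G))
    (hcen : ∀ y ∈ (P : Subgroup G), (∀ q ∈ Q₀, y * q = q * y) → y ∈ Q₀)
    (hctl : ∀ (A : Set G), A ⊆ (P : Subgroup G) → ∀ g : G,
      (fun a => g * a * g⁻¹) '' A ⊆ (P : Subgroup G) →
      ∃ x ∈ Subgroup.normalizer (Q₀ : Set G), ∀ a ∈ A, g * a * g⁻¹ = x * a * x⁻¹)
    (Q : Subgroup G) (hQ : Q = (P : Subgroup G) ⊓ coreX P Q₀)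
    (X : Subgroup G) (hXN : X ≤ Subgroup.normalizer (Q : Set G))
    (hXinv : ∀ n ∈ Subgroup.normalizer (Q : Set G), X.map (MulAut.conj n).toMonoidHom = X)
    (hDX : Q ⊔ Subgroup.centralizer (Q : Set G) ≤ X)
    (hidx : ∃ k : ℕ, (Q ⊔ Subgroup.centralizer (Q : Set G)).relIndex X = p ^ k) :
    X = Q ⊔ Subgroup.centralizer (Q : Set G) := by
  obtain ⟨k, hk⟩ := hidx
  obtain ⟨C₀, hC₀⟩ : ∃ C₀ : Subgroup G, C₀ = Subgroup.centralizer (Q₀ : Set G) := ⟨_, rfl⟩
  obtain ⟨D, hD⟩ : ∃ D : Subgroup G, D = Q ⊔ Subgroup.centralizer (Q : Set G) := ⟨_, rfl⟩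
  rw [← hD] at hDX hk ⊢
  have hQP : Q ≤ (P : Subgroup G) := by rw [hQ]; exact inf_le_left
  have hQ₀Q : Q₀ ≤ Q := by rw [hQ]; exact le_inf hQ₀P (le_coreX P Q₀ hQ₀P)
  have hCC : Subgroup.centralizer (Q : Set G) ≤ C₀ := by
    rw [hC₀]; exact Subgroup.centralizer_le (SetLike.coe_subset_coe.mpr hQ₀Q)
  have hNQN : Subgroup.normalizer (Q : Set G) ≤ Subgroup.normalizer (Q₀ : Set G) := by
    rw [hQ]; exact normalizer_Q_le P Q₀ hQ₀P hctl
  have hNC : Subgroup.normalizer (Q₀ : Set G) ≤ Subgroup.normalizer (C₀ : Set G) := by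
    rw [hC₀]; exact normalizer_le_normalizer_centralizer Q₀
  have hC₀N : C₀ ≤ Subgroup.normalizer (Q₀ : Set G) := by
    rw [hC₀]; exact Subgroup.centralizer_le_normalizer _
  have hXC : X ≤ Subgroup.normalizer (C₀ : Set G) := hXN.trans (hNQN.trans hNC)
  have hXD : X ≤ Subgroup.normalizer (D : Set G) := by
    intro x hx
    have h1 := hXN hx
    rw [hD]
    apply normalizer_inf_le_normalizer_sup
    exact Subgroup.mem_inf.mpr ⟨h1, normalizer_le_normalizer_centralizer Q h1⟩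
  have hF2 : ∀ n ∈ Subgroup.normalizer (Q₀ : Set G), ∃ c ∈ C₀,
      ∃ n' ∈ Subgroup.normalizer (Q : Set G), n = c * n' := by
    intro n hn
    obtain ⟨c, hc, hcn, -⟩ := split_N P Q₀ hPN ⊥ bot_le n hn
      (by rw [Subgroup.map_bot]; exact bot_le)
    refine ⟨c⁻¹, ?_, c * n, ?_, by group⟩
    · rw [hC₀]; exact inv_mem hc
    · rw [hQ]; exact hcn
  obtain ⟨X'', hX''⟩ : ∃ X'' : Subgroup G, X'' = X ⊔ C₀ := ⟨_, rfl⟩
  have hXX'' : X ≤ X'' := by rw [hX'']; exact le_sup_left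
  have hCX'' : C₀ ≤ X'' := by rw [hX'']; exact le_sup_right
  have hNX'' : Subgroup.normalizer (Q₀ : Set G) ≤ Subgroup.normalizer (X'' : Set G) := by
    intro n hn
    obtain ⟨c, hc, n', hn', rfl⟩ := hF2 n hn
    apply mul_mem (Subgroup.le_normalizer (hCX'' hc))
    rw [hX'']
    apply normalizer_inf_le_normalizer_sup
    exact Subgroup.mem_inf.mpr ⟨mem_normalizer_of_map_conj_eq (hXinv n' hn'), hNC (hNQN hn')⟩
  have hX''C : X'' ≤ Subgroup.normalizer (C₀ : Set G) := by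
    rw [hX'']; exact sup_le hXC Subgroup.le_normalizer
  have hQpg : IsPGroup p Q := P.isPGroup'.to_le hQP
  have hpowX : ∀ m ∈ X, ∃ j : ℕ, m ^ p ^ j ∈ C₀ := by
    intro m hm
    have h1 : m ^ p ^ k ∈ D := by
      have := pow_relIndex_mem D X hXD hm
      rwa [hk] at this
    have hQnC : Q ≤ Subgroup.normalizer
        ((Subgroup.centralizer (Q : Set G) : Subgroup G) : Set G) :=
      Subgroup.le_normalizer.trans (normalizer_le_normalizer_centralizer Q)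
    have h1' : m ^ p ^ k ∈ Subgroup.centralizer (Q : Set G) ⊔ Q := by
      rw [sup_comm, ← hD]; exact h1
    obtain ⟨c, hc, q, hq, hcq⟩ := mem_sup_of_le_normalizer hQnC h1'
    obtain ⟨i, hi⟩ := hQpg ⟨q, hq⟩
    have hi' : q ^ p ^ i = 1 := by
      have := congrArg Subtype.val hi
      simpa using this
    have hcomm : Commute c q := ((Subgroup.mem_centralizer_iff.mp hc) q hq).symm
    refine ⟨k + i, ?_⟩
    rw [pow_add, pow_mul, hcq, hcomm.mul_pow, hi', mul_one]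
    exact hCC (pow_mem hc _)
  have hpow : ∀ y ∈ X'', ∃ j : ℕ, y ^ p ^ j ∈ C₀ := by
    intro y hy
    have hy' : y ∈ C₀ ⊔ X := by rw [sup_comm, ← hX'']; exact hy
    obtain ⟨r, hr, m, hm, rfl⟩ := mem_sup_of_le_normalizer hXC hy'
    obtain ⟨j, hj⟩ := hpowX m hm
    obtain ⟨r', hr', h⟩ := mul_pow_mem' C₀ hr (hXC hm) (p ^ j)
    exact ⟨j, by rw [h]; exact mul_mem hr' hj⟩
  have hle : X'' ≤ (P : Subgroup G) ⊔ C₀ := by
    apply core_le P C₀ X'' _ hCX'' hX''C hpow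
    exact (sup_le hPN hC₀N).trans hNX''
  have hXcore : X ≤ coreX P Q₀ := by
    intro x hx n hn
    rw [← hC₀]
    apply hle
    exact (Subgroup.mem_normalizer_iff.mp (hNX'' hn) x).mp (hXX'' hx)
  apply le_antisymm _ hDX
  intro x hx
  have hx1 : x ∈ C₀ ⊔ (P : Subgroup G) := by rw [sup_comm]; exact hle (hXX'' hx)
  obtain ⟨c, hc, u, hu, rfl⟩ := mem_sup_of_le_normalizer (hPN.trans hNC) hx1
  have huQ : u ∈ Q := by
    rw [hQ]
    refine Subgroup.mem_inf.mpr ⟨hu, ?_⟩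
    have e : u = c⁻¹ * (c * u) := by group
    rw [e]
    exact mul_mem (cent_le_coreX P Q₀ (by rw [← hC₀]; exact inv_mem hc)) (hXcore hx)
  have huD : u ∈ D := by rw [hD]; exact Subgroup.mem_sup_left huQ
  have hcX : c ∈ X := by
    have e : c = (c * u) * u⁻¹ := by group
    rw [e]
    exact mul_mem hx (inv_mem (hDX huD))
  refine mul_mem ?_ huD
  obtain ⟨a, b, hab, haz, hbz, ⟨k', hak⟩, m, hm, hbm⟩ := split_elt p c
  have hzC : Subgroup.zpowers c ≤ C₀ := by rw [Subgroup.zpowers_le]; exact hc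
  have hzX : Subgroup.zpowers c ≤ X := by rw [Subgroup.zpowers_le]; exact hcX
  have haQ₀ : a ∈ Q₀ :=
    pelt_mem P Q₀ hQ₀P hcen hctl a (by rw [← hC₀]; exact hzC haz) k' hak
  have haD : a ∈ D := by rw [hD]; exact Subgroup.mem_sup_left (hQ₀Q haQ₀)
  have hbD : b ∈ D := by
    have h1 : b ^ p ^ k ∈ D := by
      have := pow_relIndex_mem D X hXD (hzX hbz)
      rwa [hk] at this
    have hcop : Nat.Coprime (p ^ k) m :=
      Nat.Coprime.pow_left k ((Nat.Prime.coprime_iff_not_dvd hp.out).mpr hm)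
    exact mem_of_pow_mem D b (p ^ k) m hcop h1 hbm
  rw [hab]
  exact mul_mem haD hbD

theorem least_Q (P : Sylow p G) (Q₀ : Subgroup G) (hQ₀P : Q₀ ≤ (P : Subgroup G))
    (hPN : (P : Subgroup G) ≤ Subgroup.normalizer (Q₀ : Set G))
    (hcen : ∀ y ∈ (P : Subgroup G), (∀ q ∈ Q₀, y * q = q * y) → y ∈ Q₀)
    (hctl : ∀ (A : Set G), A ⊆ (P : Subgroup G) → ∀ g : G,
      (fun a => g * a * g⁻¹) '' A ⊆ (P : Subgroup G) →
      ∃ x ∈ Subgroup.normalizer (Q₀ : Set G), ∀ a ∈ A, g * a * g⁻¹ = x * a * x⁻¹)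
    (Q : Subgroup G) (hQ : Q = (P : Subgroup G) ⊓ coreX P Q₀)
    (R : Subgroup G) (hRP : R ≤ (P : Subgroup G))
    (hRcen : ∃ S : Sylow p ↥(Subgroup.centralizer (R : Set G)),
      (S : Subgroup ↥(Subgroup.centralizer (R : Set G))).map
        (Subgroup.centralizer (R : Set G)).subtype = R ⊓ Subgroup.centralizer (R : Set G))
    (hRrad : ∀ X : Subgroup G, X ≤ Subgroup.normalizer (R : Set G) →
      (∀ n ∈ Subgroup.normalizer (R : Set G), X.map (MulAut.conj n).toMonoidHom = X) →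
      R ⊔ Subgroup.centralizer (R : Set G) ≤ X →
      (∃ k : ℕ, (R ⊔ Subgroup.centralizer (R : Set G)).relIndex X = p ^ k) →
      X = R ⊔ Subgroup.centralizer (R : Set G)) :
    Q ≤ R := by
  have hQP : Q ≤ (P : Subgroup G) := by rw [hQ]; exact inf_le_left
  have hPC : (P : Subgroup G) ⊓ Subgroup.centralizer (R : Set G) ≤ R := by
    obtain ⟨S, hS⟩ := hRcen
    have hWp : IsPGroup p ↥(((P : Subgroup G) ⊓ Subgroup.centralizer (R : Set G)).subgroupOf
        (Subgroup.centralizer (R : Set G))) :=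
      (P.isPGroup'.to_le inf_le_left).comap_subtype
    have hSW : (S : Subgroup ↥(Subgroup.centralizer (R : Set G))) ≤
        ((P : Subgroup G) ⊓ Subgroup.centralizer (R : Set G)).subgroupOf
          (Subgroup.centralizer (R : Set G)) := by
      intro s hs
      rw [Subgroup.mem_subgroupOf]
      have h1 : (s : G) ∈ R ⊓ Subgroup.centralizer (R : Set G) := by
        rw [← hS]
        exact ⟨s, hs, rfl⟩
      exact Subgroup.mem_inf.mpr ⟨hRP (Subgroup.mem_inf.mp h1).1, (Subgroup.mem_inf.mp h1).2⟩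
    have hWS := S.is_maximal' hWp hSW
    intro x hx
    have h2 : (⟨x, (Subgroup.mem_inf.mp hx).2⟩ : ↥(Subgroup.centralizer (R : Set G))) ∈
        (S : Subgroup ↥(Subgroup.centralizer (R : Set G))) := by
      rw [← hWS, Subgroup.mem_subgroupOf]
      exact hx
    have h3 : x ∈ R ⊓ Subgroup.centralizer (R : Set G) := by
      rw [← hS]
      exact ⟨_, h2, rfl⟩
    exact (Subgroup.mem_inf.mp h3).1
  obtain ⟨T, hT⟩ : ∃ T : Subgroup G, T = (Q ⊔ R) ⊓ Subgroup.normalizer (R : Set G) :=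
    ⟨_, rfl⟩
  have hQRP : Q ⊔ R ≤ (P : Subgroup G) := sup_le hQP hRP
  have hTP : T ≤ (P : Subgroup G) := by rw [hT]; exact inf_le_left.trans hQRP
  have hTN : T ≤ Subgroup.normalizer (R : Set G) := by rw [hT]; exact inf_le_right
  have hRT : R ≤ T := by rw [hT]; exact le_inf le_sup_right Subgroup.le_normalizer
  have hCN : Subgroup.centralizer (R : Set G) ≤ Subgroup.normalizer (R : Set G) :=
    Subgroup.centralizer_le_normalizer _
  have hNC : Subgroup.normalizer (R : Set G) ≤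
      Subgroup.normalizer ((Subgroup.centralizer (R : Set G) : Subgroup G) : Set G) :=
    normalizer_le_normalizer_centralizer R
  obtain ⟨X', hX'⟩ : ∃ X' : Subgroup G, X' = T ⊔ Subgroup.centralizer (R : Set G) := ⟨_, rfl⟩
  have hX'N : X' ≤ Subgroup.normalizer (R : Set G) := by rw [hX']; exact sup_le hTN hCN
  have hDX' : R ⊔ Subgroup.centralizer (R : Set G) ≤ X' := by
    rw [hX']; exact sup_le_sup_right hRT _
  have hinv : ∀ n ∈ Subgroup.normalizer (R : Set G),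
      X'.map (MulAut.conj n).toMonoidHom = X' := by
    intro n hn
    rw [← mem_normalizer_iff_map_conj_eq]
    have hnR : R.map (MulAut.conj n).toMonoidHom ≤ (P : Subgroup G) := by
      rw [mem_normalizer_iff_map_conj_eq.mp hn]; exact hRP
    obtain ⟨h, hh, c, hc, rfl⟩ := ctl_Q P Q₀ hQ₀P hPN hcen hctl R hRP n hnR
    rw [← hQ] at hh
    have hhR : h ∈ Subgroup.normalizer (R : Set G) := by
      have e : h = (h * c) * c⁻¹ := by group
      rw [e]
      exact mul_mem hn (inv_mem (hCN hc))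
    apply mul_mem _ (Subgroup.le_normalizer (by rw [hX']; exact Subgroup.mem_sup_right hc))
    rw [hX']
    apply normalizer_inf_le_normalizer_sup
    refine Subgroup.mem_inf.mpr ⟨?_, hNC hhR⟩
    rw [hT]
    apply Subgroup.inf_normalizer_le_normalizer_inf
    refine Subgroup.mem_inf.mpr ⟨?_, Subgroup.le_normalizer hhR⟩
    apply normalizer_inf_le_normalizer_sup
    exact Subgroup.mem_inf.mpr ⟨hh, hhR⟩
  have hidx : ∃ k : ℕ, (R ⊔ Subgroup.centralizer (R : Set G)).relIndex X' = p ^ k := by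
    apply relIndex_pow_of_pow_mem (R ⊔ Subgroup.centralizer (R : Set G)) X'
    · intro x hx
      apply normalizer_inf_le_normalizer_sup
      exact Subgroup.mem_inf.mpr ⟨hX'N hx, hNC (hX'N hx)⟩
    · intro y hy
      have hy' : y ∈ Subgroup.centralizer (R : Set G) ⊔ T := by
        rw [sup_comm, ← hX']; exact hy
      obtain ⟨r, hr, m, hm, rfl⟩ := mem_sup_of_le_normalizer (hTN.trans hNC) hy'
      obtain ⟨i, hi⟩ := P.isPGroup' ⟨m, hTP hm⟩
      have hi' : m ^ p ^ i = 1 := by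
        have := congrArg Subtype.val hi
        simpa using this
      obtain ⟨r', hr', h⟩ := mul_pow_mem' (Subgroup.centralizer (R : Set G)) hr
        (hNC (hTN hm)) (p ^ i)
      refine ⟨i, ?_⟩
      rw [h, hi', mul_one]
      exact Subgroup.mem_sup_right hr'
  have hXeq := hRrad X' hX'N hinv hDX' hidx
  have hTR : T ≤ R := by
    intro t ht
    have h1 : t ∈ Subgroup.centralizer (R : Set G) ⊔ R := by
      rw [sup_comm, ← hXeq, hX']; exact Subgroup.mem_sup_left ht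
    obtain ⟨c, hc, r, hr, rfl⟩ :=
      mem_sup_of_le_normalizer (Subgroup.le_normalizer.trans hNC) h1
    have hcP : c ∈ (P : Subgroup G) := by
      have e : c = (c * r) * r⁻¹ := by group
      rw [e]
      exact mul_mem (hTP ht) (inv_mem (hRP hr))
    exact mul_mem (hPC (Subgroup.mem_inf.mpr ⟨hcP, hc⟩)) hr
  by_contra hcon
  have hne : R ≠ Q ⊔ R := by
    intro h
    apply hcon
    calc Q ≤ Q ⊔ R := le_sup_left
      _ = R := h.symm
  have hlt := card_lt_card_normalizer (P.isPGroup'.to_le hQRP) (le_sup_right : R ≤ Q ⊔ R) hne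
  rw [← hT] at hlt
  have := Subgroup.card_le_of_le hTR
  omega

end main

/-- Let p be an odd prime and P a Sylow p-subgroup of the finite group G, and suppose that for no p-subgroup Q of G does N_G(Q)/C_G(Q) have a section isomorphic to SL₂(p). Call a subgroup Q of P centric-radical when Z(Q) is a Sylow p-subgroup of C_G(Q) and the only normal subgroup X of N_G(Q) containing Q·C_G(Q) such that the index of Q·C_G(Q) in X is a power of p is Q·C_G(Q) itself (that is, N_G(Q)/Q·C_G(Q) has no nontrivial normal p-subgroup). Then there is a centric-radical subgroup Q of P contained in every centric-radical subgroup of P; it is normal in P, and N_G(Q) controls strong fusion in P: whenever a subgroup A of P has g A g⁻¹ ≤ P, the element g is a product h c with h in N_G(Q) and c centralizing A. -/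
theorem result {G : Type*} [Group G] [Finite G] {p : ℕ} [Fact p.Prime] (hp : p ≠ 2) (P : Sylow p G)
    (hfree : ∀ Q : Subgroup G, IsPGroup p ↥Q → ¬ ∃ (H K : Subgroup G) (_ : (K.subgroupOf H).Normal),
      Subgroup.centralizer (Q : Set G) ≤ K ∧ K ≤ H ∧ H ≤ Subgroup.normalizer (Q : Set G) ∧
      Nonempty ((↥H ⧸ K.subgroupOf H) ≃* Matrix.SpecialLinearGroup (Fin 2) (ZMod p)))
    (cr : Subgroup G → Prop)
    (hcr : ∀ Q : Subgroup G, cr Q ↔ (Q ≤ (P : Subgroup G) ∧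
      (∃ R : Sylow p ↥(Subgroup.centralizer (Q : Set G)),
        (R : Subgroup ↥(Subgroup.centralizer (Q : Set G))).map (Subgroup.centralizer (Q : Set G)).subtype = Q ⊓ Subgroup.centralizer (Q : Set G)) ∧
      ∀ X : Subgroup G, X ≤ Subgroup.normalizer (Q : Set G) →
        (∀ n ∈ Subgroup.normalizer (Q : Set G), X.map (MulAut.conj n).toMonoidHom = X) →
        Q ⊔ Subgroup.centralizer (Q : Set G) ≤ X → (∃ k : ℕ, (Q ⊔ Subgroup.centralizer (Q : Set G)).relIndex X = p ^ k) →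
        X = Q ⊔ Subgroup.centralizer (Q : Set G))) :
    ∃ Q : Subgroup G, cr Q ∧ (∀ R : Subgroup G, cr R → Q ≤ R) ∧ (∀ x ∈ (P : Subgroup G), Q.map (MulAut.conj x).toMonoidHom = Q) ∧
      ∀ A : Subgroup G, A ≤ (P : Subgroup G) → ∀ g : G, A.map (MulAut.conj g).toMonoidHom ≤ (P : Subgroup G) →
        ∃ h ∈ Subgroup.normalizer (Q : Set G), ∃ c ∈ Subgroup.centralizer (A : Set G), g = h * c := by
  have hst : ∀ (K R : Subgroup G) [hR : (R.subgroupOf K).Normal],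
      Cfsg.IsNormalizerPStable p (↥K ⧸ R.subgroupOf K) := by
    intro K R hR
    exact AutStable.sections_stable_of_aut_free hp hfree K R
  obtain ⟨Q₀, hQ₀⟩ : ∃ Q₀ : Subgroup G,
      Q₀ = Cfsg.inducedFunctor Cfsg.kInfLower (P : Subgroup G) := ⟨_, rfl⟩
  have hQ₀P : Q₀ ≤ (P : Subgroup G) := by rw [hQ₀]; exact inducedFunctor_le _
  have hPN : (P : Subgroup G) ≤ Subgroup.normalizer (Q₀ : Set G) := by
    rw [hQ₀]
    exact Subgroup.le_normalizer.trans
      (sylow_le_normalizer_inducedFunctor (isCharPFunctor_kInfLower p) (P : Subgroup G)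
        P.isPGroup')
  have hcen : ∀ y ∈ (P : Subgroup G), (∀ q ∈ Q₀, y * q = q * y) → y ∈ Q₀ := by
    rw [hQ₀]
    exact fun y hy h => KInfCentric.induced_centric P y hy h
  have hctl : ∀ (A : Set G), A ⊆ (P : Subgroup G) → ∀ g : G,
      (fun a => g * a * g⁻¹) '' A ⊆ (P : Subgroup G) →
      ∃ x ∈ Subgroup.normalizer (Q₀ : Set G), ∀ a ∈ A, g * a * g⁻¹ = x * a * x⁻¹ := by
    rw [hQ₀]
    exact fun A hA g hg => KInfCentric.kinf_ctl hst P A hA g hg
  obtain ⟨Q, hQ⟩ : ∃ Q : Subgroup G, Q = (P : Subgroup G) ⊓ coreX P Q₀ := ⟨_, rfl⟩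
  refine ⟨Q, ?_, ?_, ?_, ?_⟩
  · rw [hcr]
    refine ⟨by rw [hQ]; exact inf_le_left, centric_Q P Q₀ hQ₀P hcen hctl Q hQ, ?_⟩
    intro X hXN hXinv hDX hidx
    exact radical_Q P Q₀ hQ₀P hPN hcen hctl Q hQ X hXN hXinv hDX hidx
  · intro R hR
    rw [hcr] at hR
    obtain ⟨hRP, hRcen, hRrad⟩ := hR
    exact least_Q P Q₀ hQ₀P hPN hcen hctl Q hQ R hRP hRcen hRrad
  · intro x hx
    rw [hQ]
    exact Q_conj P Q₀ hPN x hx
  · intro A hA g hg
    rw [hQ]
    exact ctl_Q P Q₀ hQ₀P hPN hcen hctl A hA g hg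

end Cfsg.Agent.S1953
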