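import Cfsg.Statements.S1972
import Cfsg.Agent.Lib.Helper14.SecY3

set_option autoImplicit false
universe u
open Cfsg

namespace Cfsg.Agent.S1972

/-- Let p be a prime, G a finite group and W an isomorphism-invariant p-group functor (W assigns to every group Q a subgroup W(Q), nontrivial whenever Q is a nontrivial finite p-group, and every isomorphism from a finite p-group Q onto a group R carries W(Q) onto W(R)). Suppose that whenever G* = K/R is a section of G with C_{G*}(O_p(G*)) ≤ O_p(G*) and S* is a Sylow p-subgroup of G* with W(S*) not normal in G*, there is an element g of S* outside O_p(G*) such that [X, g, …, g] ≤ Y with p − 1 entries g, for every chief factor X/Y of G* with X ≤ O_p(G*). Then W controls transfer in every section of G. -/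
theorem result {G : Type u} [Group G] [Finite G] {p : ℕ} [Fact p.Prime] (W : ∀ (Q : Type u) [Group Q], Subgroup Q) (hW : Cfsg.IsCharPFunctor.{u} p W) (hloc : ∀ (K R : Subgroup G) [hR : (R.subgroupOf K).Normal], Subgroup.centralizer ((Cfsg.pCore p (↥K ⧸ R.subgroupOf K) : Subgroup (↥K ⧸ R.subgroupOf K)) : Set (↥K ⧸ R.subgroupOf K)) ≤ Cfsg.pCore p (↥K ⧸ R.subgroupOf K) → ∀ T : Sylow p (↥K ⧸ R.subgroupOf K), ¬ (Cfsg.inducedFunctor (G := (↥K ⧸ R.subgroupOf K)) W ((T : Subgroup (↥K ⧸ R.subgroupOf K)))).Normal → ∃ g : (↥K ⧸ R.subgroupOf K), g ∈ (T : Subgroup (↥K ⧸ R.subgroupOf K)) ∧ g ∉ Cfsg.pCore p (↥K ⧸ R.subgroupOf K) ∧ ∀ U V : Subgroup (↥K ⧸ R.subgroupOf K), Cfsg.IsChiefFactor U V → U ≤ Cfsg.pCore p (↥K ⧸ R.subgroupOf K) → Cfsg.iterCommutator U (Subgroup.zpowers g) (p - 1) ≤ V) : ∀ (K R : Subgroup G) [hR : (R.subgroupOf K).Normal], Cfsg.ControlsTransferIn p (Cfsg.inducedFunctor (G := (↥K ⧸ R.subgroupOf K)) W) ⊤ := by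
  open Cfsg.Agent.Lib.Helper14 in
  have h𝓦 : ∀ W' ∈ ({W} : Set (∀ (Q : Type u) [Group Q], Subgroup Q)),
      Cfsg.IsCharPFunctor.{u} p W' := by
    intro W' hW'
    rw [Set.mem_singleton_iff] at hW'
    exact hW' ▸ hW
  open Cfsg.Agent.Lib.Helper14 in
  have htf := tf_sections (G := G) h𝓦 (fun X _ _ hX hC IH => by
    obtain ⟨K, R, hR, ⟨e⟩⟩ := hX
    have hC' := constrained_of_equiv e hC
    have hcard : Nat.card (↥K ⧸ R.subgroupOf K) = Nat.card X := (Nat.card_congr e.toEquiv).symm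
    refine tf_of_equiv h𝓦 e.symm ?_
    intro S
    by_cases hn : (Cfsg.inducedFunctor (G := (↥K ⧸ R.subgroupOf K)) W
        (S : Subgroup (↥K ⧸ R.subgroupOf K))).Normal
    · have hNtop : Subgroup.normalizer ((Cfsg.inducedFunctor (G := (↥K ⧸ R.subgroupOf K)) W
          (S : Subgroup (↥K ⧸ R.subgroupOf K)) : Subgroup (↥K ⧸ R.subgroupOf K)) :
            Set (↥K ⧸ R.subgroupOf K)) = ⊤ := Subgroup.normalizer_eq_top_iff.mpr hn
      refine le_iSup₂_of_le (Cfsg.inducedFunctor (G := (↥K ⧸ R.subgroupOf K)) W) ⟨W, rfl, rfl⟩ ?_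
      rw [hNtop]
    · obtain ⟨g, hgS, hgQ, hE⟩ := hloc K R hC' S hn
      refine focal_of_engel h𝓦 ⟨W, rfl⟩ ?_ ?_ S g hgS hgQ hE
      · intro H hH
        exact IH ↥H ((isSection_literal K R).subgroup H)
          (hcard ▸ card_subgroup_lt_of_ne_top H hH)
      · intro N _ hN
        exact IH _ ((isSection_literal K R).quotient N)
          (hcard ▸ card_quotient_lt_of_ne_bot N hN))
  intro K R hR
  obtain ⟨T⟩ : Nonempty (Sylow p (↥K ⧸ R.subgroupOf K)) := inferInstance
  open Cfsg.Agent.Lib.Helper14 in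
  have h1 := htf _ (isSection_literal K R) T
  refine ⟨T, le_top, T.isPGroup', ?_, le_antisymm ?_ ?_⟩
  · rw [Subgroup.relIndex_top_right]; exact T.not_dvd_index
  · simp only [top_inf_eq]
    refine h1.trans (iSup₂_le ?_)
    rintro _ ⟨W', hW', rfl⟩
    rw [Set.mem_singleton_iff] at hW'
    rw [hW']
  · exact inf_le_inf_left _ (Subgroup.commutator_mono le_top le_top)

end Cfsg.Agent.S1972
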