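import Cfsg.Statements.S1984
import Cfsg.Agent.S1972
import Cfsg.Agent.Lib.Helper14.KInfCubic
import Cfsg.Agent.Lib.Helper14.Sections

set_option autoImplicit false
universe u
open Cfsg

namespace Cfsg.Agent.S1984

/-- Let p ≥ 5 be a prime and G a finite group. Then the lower K-infinity subgroup controls transfer in G: for some (equivalently, every) Sylow p-subgroup S of G, S ∩ G' = S ∩ (N_G(K))', where K is the lower K-infinity subgroup of S. -/
theorem result {G : Type u} [Group G] [Finite G] {p : ℕ} [Fact p.Prime] (hp : 5 ≤ p) : Cfsg.ControlsTransferIn p (Cfsg.inducedFunctor (G := G) Cfsg.kInfLower) ⊤ := by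
  have hW := Cfsg.Agent.Lib.Helper14.isCharPFunctor_kInfLower.{u} p
  have hctl := Cfsg.Agent.S1972.result (G := G) (p := p) Cfsg.kInfLower hW (by
    intro K R hR _ T hWn
    obtain ⟨g, hgT, hgO, hq⟩ :=
      Cfsg.Agent.Lib.Helper14.kinf_exists_quartic_element T (Or.inl hWn)
    refine ⟨g, hgT, hgO, fun U V hUV hUT => ?_⟩
    have hVn : V.Normal := hUV.2.2.1
    have h4 := Cfsg.Agent.Lib.Helper14.iterCommutator_le_add U (Subgroup.zpowers g) V
      (Cfsg.Agent.Lib.Helper14.le_normalizer_of_normal' V _) 4 (hq U V hUV hUT) (p - 1 - 4)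
    have e : 4 + (p - 1 - 4) = p - 1 := by omega
    rw [e] at h4
    exact h4)
  obtain ⟨K, R, hR, ⟨e⟩⟩ := Cfsg.Agent.Lib.Helper14.isSection_self G
  exact Cfsg.Agent.Lib.Helper14.controlsTransferIn_top_of_equiv hW e.symm (hctl K R)

end Cfsg.Agent.S1984
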