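import Cfsg.Statements.S1990
import Mathlib
import Cfsg.Agent.S2005
import Cfsg.Agent.Lib.Helper2.ZJeFunctor
import Cfsg.Agent.Lib.Helper6.WS4
import Cfsg.Agent.Lib.Helper1.Cores

set_option autoImplicit false
universe u
open Cfsg

namespace Cfsg.Agent.S1990

open scoped commutatorElement

/-- A group with a normal `p`-subgroup `H` and a normal subgroup `K` of `p`-power index which is
abelian of exponent prime to `p` modulo `H`. -/
def AbSec (p : ℕ) (X : Type u) [Group X] : Prop :=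
  ∃ H K : Subgroup X, H.Normal ∧ K.Normal ∧ IsPGroup p H ∧
    (∀ a ∈ K, ∀ b ∈ K, a * b * a⁻¹ * b⁻¹ ∈ H) ∧
    (∃ m : ℕ, m.Coprime p ∧ ∀ k ∈ K, k ^ m ∈ H) ∧ (∀ x : X, ∃ n : ℕ, x ^ (p ^ n) ∈ K)

theorem AbSec.subgroup {p : ℕ} {X : Type u} [Group X] (h : AbSec p X) (L : Subgroup X) :
    AbSec p ↥L := by
  obtain ⟨H, K, hHn, hKn, hHp, hab, ⟨m, hm, hKm⟩, hpow⟩ := h
  refine ⟨H.subgroupOf L, K.subgroupOf L, inferInstance, inferInstance, hHp.comap_subtype,
    ?_, ⟨m, hm, ?_⟩, ?_⟩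
  · intro a ha b hb
    rw [Subgroup.mem_subgroupOf] at ha hb ⊢
    simpa using hab _ ha _ hb
  · intro k hk
    rw [Subgroup.mem_subgroupOf] at hk ⊢
    simpa using hKm _ hk
  · intro x
    obtain ⟨n, hn⟩ := hpow (x : X)
    refine ⟨n, ?_⟩
    rw [Subgroup.mem_subgroupOf]
    simpa using hn

theorem AbSec.quotient {p : ℕ} {X : Type u} [Group X] (h : AbSec p X) (M : Subgroup X)
    [M.Normal] : AbSec p (X ⧸ M) := by
  obtain ⟨H, K, hHn, hKn, hHp, hab, ⟨m, hm, hKm⟩, hpow⟩ := h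
  refine ⟨H.map (QuotientGroup.mk' M), K.map (QuotientGroup.mk' M),
    hHn.map _ (QuotientGroup.mk'_surjective M), hKn.map _ (QuotientGroup.mk'_surjective M),
    hHp.map _, ?_, ⟨m, hm, ?_⟩, ?_⟩
  · rintro _ ⟨a, ha, rfl⟩ _ ⟨b, hb, rfl⟩
    refine ⟨a * b * a⁻¹ * b⁻¹, hab a ha b hb, ?_⟩
    simp
  · rintro _ ⟨k, hk, rfl⟩
    refine ⟨k ^ m, hKm k hk, ?_⟩
    simp
  · intro x
    obtain ⟨y, rfl⟩ := QuotientGroup.mk'_surjective M x
    obtain ⟨n, hn⟩ := hpow y
    refine ⟨n, y ^ (p ^ n), hn, ?_⟩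
    simp

theorem mk_mem_pCore_congr {p : ℕ} {N : Type u} [Group N] (S₁ S₂ : Subgroup N) [S₁.Normal]
    [S₂.Normal] (h : S₁ = S₂) (a : N)
    (ha : (QuotientGroup.mk a : N ⧸ S₁) ∈ Cfsg.pCore p (N ⧸ S₁)) :
    (QuotientGroup.mk a : N ⧸ S₂) ∈ Cfsg.pCore p (N ⧸ S₂) := by
  subst h
  exact ha

theorem AbSec.nps {p : ℕ} [Fact p.Prime] (hp2 : p ≠ 2) {X : Type u} [Group X] [Finite X]
    (h : AbSec p X) : Cfsg.IsNormalizerPStable p X := by
  have hp : p.Prime := Fact.out
  obtain ⟨H, K, hHn, hKn, hHp, hab, ⟨m, hm, hKm⟩, hpow⟩ := h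
  have hKidx : ∃ k : ℕ, K.index = p ^ k := by
    have h1 : IsPGroup p (X ⧸ K) := by
      intro x
      obtain ⟨y, rfl⟩ := QuotientGroup.mk'_surjective K x
      obtain ⟨n, hn⟩ := hpow y
      refine ⟨n, ?_⟩
      rw [QuotientGroup.mk'_apply, ← QuotientGroup.mk_pow, QuotientGroup.eq_one_iff]
      exact hn
    obtain ⟨n, hn⟩ := h1.exists_card_eq
    exact ⟨n, by rw [Subgroup.index_eq_card]; exact hn⟩
  intro P hP g hg hq
  have hPN : P ≤ Subgroup.normalizer (P : Set X) := Subgroup.le_normalizer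
  have hVn : (P.subgroupOf (Subgroup.normalizer (P : Set X))).Normal :=
    Subgroup.normal_in_normalizer
  have hVp : IsPGroup p (P.subgroupOf (Subgroup.normalizer (P : Set X))) := hP.comap_subtype
  have hst := Cfsg.Agent.Lib.Helper6.isPStableOn_subgroup_of_abelian_section hp2 H K hHp hab m hm
    hKm hKidx (Subgroup.normalizer (P : Set X))
    (P.subgroupOf (Subgroup.normalizer (P : Set X))) hVp
  have hq' : ⁅⁅P.subgroupOf (Subgroup.normalizer (P : Set X)),
      Subgroup.zpowers (⟨g, hg⟩ : ↥(Subgroup.normalizer (P : Set X)))⁆,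
      Subgroup.zpowers (⟨g, hg⟩ : ↥(Subgroup.normalizer (P : Set X)))⁆ = ⊥ := by
    apply (Subgroup.map_eq_bot_iff_of_injective _
      (Subgroup.subtype_injective (Subgroup.normalizer (P : Set X)))).mp
    rw [Subgroup.map_commutator, Subgroup.map_commutator, MonoidHom.map_zpowers,
      Subgroup.map_subgroupOf_eq_of_le hPN]
    exact hq
  have h1 := hst ⟨g, hg⟩ hq'
  have hceq : Subgroup.centralizer
      ((P.subgroupOf (Subgroup.normalizer (P : Set X)) :
        Subgroup ↥(Subgroup.normalizer (P : Set X))) : Set ↥(Subgroup.normalizer (P : Set X)))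
      = (Subgroup.centralizer (P : Set X)).subgroupOf (Subgroup.normalizer (P : Set X)) := by
    ext ⟨x, hx⟩
    rw [Subgroup.mem_subgroupOf, Subgroup.mem_centralizer_iff, Subgroup.mem_centralizer_iff]
    constructor
    · intro h y hy
      have h2 := h ⟨y, hPN hy⟩ (by
        show (⟨y, hPN hy⟩ : ↥(Subgroup.normalizer (P : Set X))) ∈
          P.subgroupOf (Subgroup.normalizer (P : Set X))
        rw [Subgroup.mem_subgroupOf]; exact hy)
      simpa using congrArg Subtype.val h2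
    · intro h y hy
      have hy' : (y : X) ∈ P := by
        have : y ∈ P.subgroupOf (Subgroup.normalizer (P : Set X)) := hy
        rwa [Subgroup.mem_subgroupOf] at this
      apply Subtype.ext
      simpa using h _ hy'
  exact mk_mem_pCore_congr _ _ hceq _ h1

/-- Let p be an odd prime, G a finite group with Sylow p-subgroup S, and W an isomorphism-invariant p-group functor (W assigns to every group Q a subgroup W(Q), nontrivial whenever Q is a nontrivial finite p-group, and every isomorphism from a finite p-group Q onto a group R carries W(Q) onto W(R)). Suppose N_G(W(S)) has a normal p-complement, and W(T) controls strong fusion in every section G* = K/R of G all of whose sections are p-stable in the normalizer form, for every Sylow p-subgroup T of G*. Then G has a normal p-complement. -/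
theorem result {G : Type u} [Group G] [Finite G] {p : ℕ} [Fact p.Prime] (hp : p ≠ 2) (W : ∀ (Q : Type u) [Group Q], Subgroup Q) (hW : Cfsg.IsCharPFunctor.{u} p W) (S : Sylow p G) (hN : Cfsg.HasNormalPComplement p ↥(Subgroup.normalizer ((Cfsg.inducedFunctor (G := G) W (S : Subgroup G) : Subgroup G) : Set G))) (hctl : ∀ (K R : Subgroup G) [hR : (R.subgroupOf K).Normal], (∀ (K' R' : Subgroup (↥K ⧸ R.subgroupOf K)) [hR' : (R'.subgroupOf K').Normal], Cfsg.IsNormalizerPStable p (↥K' ⧸ R'.subgroupOf K')) → ∀ T : Sylow p (↥K ⧸ R.subgroupOf K), Cfsg.ControlsStrongFusion p (Cfsg.inducedFunctor (G := (↥K ⧸ R.subgroupOf K)) W (T : Subgroup (↥K ⧸ R.subgroupOf K)))) : Cfsg.HasNormalPComplement p G := by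
  have hpp : p.Prime := Fact.out
  refine Cfsg.Agent.S2005.result W hW S hN ?_
  intro K R hR hc hnpc T hcoatom
  obtain ⟨K₀, cfg⟩ := Cfsg.Agent.Lib.Helper2.zcfg_of_good hp hc hnpc T hcoatom
  have hAb : AbSec p (↥K ⧸ R.subgroupOf K) := by
    refine ⟨Cfsg.pCore p _, K₀, cfg.Hn, cfg.Kn, cfg.Hp, cfg.Kab, cfg.Kexp, ?_⟩
    intro x
    obtain ⟨k, hk, t, ht, rfl⟩ := cfg.prod x
    obtain ⟨n, hn⟩ := (T.isPGroup' ⟨t, ht⟩)
    have hn' : t ^ (p ^ n) = 1 := by simpa using congrArg Subtype.val hn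
    refine ⟨n, ?_⟩
    haveI := cfg.Kn
    rw [← QuotientGroup.eq_one_iff, QuotientGroup.mk_pow, QuotientGroup.mk_mul,
      (QuotientGroup.eq_one_iff k).mpr hk, one_mul, ← QuotientGroup.mk_pow, hn',
      QuotientGroup.mk_one]
  have hst : ∀ (K' R' : Subgroup (↥K ⧸ R.subgroupOf K)) [hR' : (R'.subgroupOf K').Normal],
      Cfsg.IsNormalizerPStable p (↥K' ⧸ R'.subgroupOf K') :=
    fun K' R' _ => ((hAb.subgroup K').quotient _).nps hp
  obtain ⟨T', hWT', hctl'⟩ := hctl K R hst T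
  have hA : ((Cfsg.pCore p (↥K ⧸ R.subgroupOf K) : Subgroup (↥K ⧸ R.subgroupOf K)) :
      Set (↥K ⧸ R.subgroupOf K)) ⊆ (T' : Subgroup (↥K ⧸ R.subgroupOf K)) :=
    Cfsg.Agent.Lib.Helper1.pCore_le_sylow T'
  obtain ⟨-, hfus⟩ := hctl' _ hA
  have hnorm : Subgroup.normalizer ((Cfsg.inducedFunctor (G := (↥K ⧸ R.subgroupOf K)) W
      (T : Subgroup (↥K ⧸ R.subgroupOf K)) : Subgroup (↥K ⧸ R.subgroupOf K)) :
      Set (↥K ⧸ R.subgroupOf K)) = ⊤ := by
    rw [eq_top_iff]
    intro g _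
    have hOn : (Cfsg.pCore p (↥K ⧸ R.subgroupOf K)).Normal := Cfsg.Agent.Lib.Helper1.pCore_normal p
    obtain ⟨x, hx, hxa⟩ := hfus g (by
      rintro _ ⟨a, ha, rfl⟩
      exact hA (hOn.conj_mem a ha g))
    have h1 : x⁻¹ * g ∈ Subgroup.centralizer
        ((Cfsg.pCore p (↥K ⧸ R.subgroupOf K) : Subgroup (↥K ⧸ R.subgroupOf K)) :
          Set (↥K ⧸ R.subgroupOf K)) := by
      rw [Subgroup.mem_centralizer_iff]
      intro a ha
      have h2 := hxa a ha
      calc a * (x⁻¹ * g) = x⁻¹ * (x * a * x⁻¹) * g := by group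
        _ = x⁻¹ * (g * a * g⁻¹) * g := by rw [h2]
        _ = x⁻¹ * g * a := by group
    have h3 : x⁻¹ * g ∈ Subgroup.normalizer
        ((Cfsg.inducedFunctor (G := (↥K ⧸ R.subgroupOf K)) W
          (T : Subgroup (↥K ⧸ R.subgroupOf K)) : Subgroup (↥K ⧸ R.subgroupOf K)) :
          Set (↥K ⧸ R.subgroupOf K)) := by
      apply Cfsg.Agent.S2005.le_normalizer_inducedFunctor hW _ T.isPGroup'
      apply Subgroup.le_normalizer
      exact Cfsg.Agent.Lib.Helper1.pCore_le_sylow T (hc h1)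
    have h4 := Subgroup.mul_mem _ hx h3
    simpa using h4
  exact Subgroup.normalizer_eq_top_iff.mp hnorm

end Cfsg.Agent.S1990
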