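import Cfsg.Statements.S1988
import Cfsg.Agent.S1987
import Cfsg.Agent.S1990
import Cfsg.Agent.Lib.Helper14.KInfMax
import Cfsg.Agent.Lib.Helper14.Cores
import Cfsg.Agent.Lib.Helper14.PNilp
import Cfsg.Agent.Lib.Helper14.SecLift
import Cfsg.Agent.Lib.Helper14.SylowAux

set_option autoImplicit false
universe u
open Cfsg

namespace Cfsg.Agent.S1988

open Cfsg.Agent.Lib.Helper14 in
/-- If every element of order prime to `p` of `N_G(K)`, `K` the lower K-infinity subgroup of a
Sylow `p`-subgroup, centralizes `K`, then `N_G(K)` has a normal `p`-complement. -/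
theorem normalizer_pnilp {G : Type u} [Group G] [Finite G] {p : ℕ} [Fact p.Prime]
    (S : Sylow p G)
    (h : ∀ g ∈ Subgroup.normalizer ((Cfsg.inducedFunctor Cfsg.kInfLower (S : Subgroup G) :
      Subgroup G) : Set G), (orderOf g).Coprime p →
      g ∈ Subgroup.centralizer ((Cfsg.inducedFunctor Cfsg.kInfLower (S : Subgroup G) :
        Subgroup G) : Set G)) :
    PNilp p ↥(Subgroup.normalizer ((Cfsg.inducedFunctor Cfsg.kInfLower (S : Subgroup G) :
      Subgroup G) : Set G)) := by
  have hp : p.Prime := Fact.out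
  have hW := isCharPFunctor_kInfLower.{u} p
  obtain ⟨K, hK⟩ : ∃ K : Subgroup G, K = Cfsg.inducedFunctor Cfsg.kInfLower (S : Subgroup G) :=
    ⟨_, rfl⟩
  rw [← hK] at h ⊢
  have hSN : (S : Subgroup G) ≤ Subgroup.normalizer (K : Set G) := by
    rw [hK]
    exact Subgroup.le_normalizer.trans (sylow_le_normalizer_inducedFunctor hW _ S.isPGroup')
  -- `K` is self-centralizing in `S`
  have hCS : (S : Subgroup G) ⊓ Subgroup.centralizer (K : Set G) ≤ K := by
    intro x hx
    obtain ⟨hxS, hxC⟩ := Subgroup.mem_inf.mp hx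
    have : Group.IsNilpotent ↥(S : Subgroup G) := S.isPGroup'.isNilpotent
    have h1 : (⟨x, hxS⟩ : ↥(S : Subgroup G)) ∈
        Subgroup.centralizer ((Cfsg.kInfLower ↥(S : Subgroup G) : Subgroup ↥(S : Subgroup G)) :
          Set ↥(S : Subgroup G)) := by
      rw [Subgroup.mem_centralizer_iff]
      intro y hy
      apply Subtype.ext
      have hyK : (y : G) ∈ K := by
        rw [hK]; exact Subgroup.mem_map_of_mem _ hy
      exact (Subgroup.mem_centralizer_iff.mp hxC) _ hyK
    have h2 := (centralizer_kInf_le (P := ↥(S : Subgroup G))).1 h1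
    rw [hK]
    exact Subgroup.mem_map_of_mem (S : Subgroup G).subtype h2
  -- the centralizer is normalized by the normalizer
  have hCn : ∀ n ∈ Subgroup.normalizer (K : Set G), ∀ c ∈ Subgroup.centralizer (K : Set G),
      n * c * n⁻¹ ∈ Subgroup.centralizer (K : Set G) := by
    intro n hn c hc
    rw [Subgroup.mem_centralizer_iff]
    intro k hk
    have hk' : n⁻¹ * k * n ∈ K := by
      have := (Subgroup.mem_normalizer_iff.mp (inv_mem hn) k).mp hk
      simpa using this
    have h3 := (Subgroup.mem_centralizer_iff.mp hc) _ hk'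
    have e1 : k * (n * c * n⁻¹) = n * ((n⁻¹ * k * n) * c) * n⁻¹ := by group
    have e2 : n * c * n⁻¹ * k = n * (c * (n⁻¹ * k * n)) * n⁻¹ := by group
    rw [e1, e2, h3]
  -- a Sylow `p`-subgroup of the centralizer is central in it
  obtain ⟨P⟩ : Nonempty (Sylow p ↥(Subgroup.centralizer (K : Set G))) := inferInstance
  have hPc : (P : Subgroup ↥(Subgroup.centralizer (K : Set G))) ≤
      Subgroup.center ↥(Subgroup.centralizer (K : Set G)) := by
    have hP'p : IsPGroup p ↥((P : Subgroup ↥(Subgroup.centralizer (K : Set G))).map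
        (Subgroup.centralizer (K : Set G)).subtype) := P.isPGroup'.map _
    have hP'C : (P : Subgroup ↥(Subgroup.centralizer (K : Set G))).map
        (Subgroup.centralizer (K : Set G)).subtype ≤ Subgroup.centralizer (K : Set G) :=
      Subgroup.map_subtype_le _
    have hidx : ¬ p ∣ (S : Subgroup G).relIndex (Subgroup.normalizer (K : Set G)) := by
      intro hd
      exact S.not_dvd_index (hd.trans (Subgroup.relIndex_dvd_index_of_le hSN))
    obtain ⟨n, hn, hnS⟩ := exists_conj_mem_of_relIndex S.isPGroup' hidx hP'p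
      (hP'C.trans (Subgroup.centralizer_le_normalizer _))
    intro z hz
    rw [Subgroup.mem_center_iff]
    intro c
    apply Subtype.ext
    have hzP : (z : G) ∈ (P : Subgroup ↥(Subgroup.centralizer (K : Set G))).map
        (Subgroup.centralizer (K : Set G)).subtype := Subgroup.mem_map_of_mem _ hz
    have hzK : n * (z : G) * n⁻¹ ∈ K :=
      hCS (Subgroup.mem_inf.mpr ⟨hnS _ hzP, hCn n hn _ z.2⟩)
    have h4 := (Subgroup.mem_centralizer_iff.mp (hCn n hn _ c.2)) _ hzK
    show (c : G) * (z : G) = (z : G) * (c : G)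
    have e1 : (c : G) * (z : G) = n⁻¹ * ((n * (c : G) * n⁻¹) * (n * (z : G) * n⁻¹)) * n := by
      group
    have e2 : (z : G) * (c : G) = n⁻¹ * ((n * (z : G) * n⁻¹) * (n * (c : G) * n⁻¹)) * n := by
      group
    rw [e1, e2, h4]
  obtain ⟨M, hMn, hMp, -, hMmem⟩ := exists_normal_compl_of_central_sylow' P hPc
  -- the elements of order prime to `p` of the normalizer form a normal subgroup
  have hmem : ∀ x : ↥(Subgroup.normalizer (K : Set G)),
      x ∈ (M.map (Subgroup.centralizer (K : Set G)).subtype).subgroupOf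
        (Subgroup.normalizer (K : Set G)) ↔ (orderOf x).Coprime p := by
    intro x
    rw [Subgroup.mem_subgroupOf, ← Subgroup.orderOf_coe]
    constructor
    · rintro ⟨y, hy, hyx⟩
      have := (hMmem y).mp hy
      rw [← Subgroup.orderOf_coe] at this
      rw [← hyx]; exact this
    · intro hx
      have hxC := h _ x.2 hx
      exact ⟨⟨_, hxC⟩, (hMmem _).mpr (by rw [← Subgroup.orderOf_coe]; exact hx), rfl⟩
  have hnorm : ((M.map (Subgroup.centralizer (K : Set G)).subtype).subgroupOf
      (Subgroup.normalizer (K : Set G))).Normal := by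
    refine ⟨fun x hx g => ?_⟩
    rw [hmem] at hx ⊢
    have e : orderOf (g * x * g⁻¹) = orderOf x := by
      have := orderOf_injective (MulAut.conj g).toMonoidHom (MulAut.conj g).injective x
      simpa [MulAut.conj_apply] using this
    rw [e]; exact hx
  refine ⟨(M.map (Subgroup.centralizer (K : Set G)).subtype).subgroupOf
    (Subgroup.normalizer (K : Set G)), hnorm, ?_, ?_⟩
  · rw [Nat.coprime_comm, Nat.Prime.coprime_iff_not_dvd hp]
    intro hd
    obtain ⟨x, hx⟩ := exists_prime_orderOf_dvd_card' p hd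
    have hc := (hmem (x : ↥(Subgroup.normalizer (K : Set G)))).mp x.2
    rw [Subgroup.orderOf_coe, hx] at hc
    exact hp.one_lt.ne' ((Nat.coprime_self p).mp hc)
  · have hq : IsPGroup p (↥(Subgroup.normalizer (K : Set G)) ⧸
        (M.map (Subgroup.centralizer (K : Set G)).subtype).subgroupOf
          (Subgroup.normalizer (K : Set G))) := by
      intro q
      obtain ⟨x, rfl⟩ := QuotientGroup.mk_surjective q
      refine ⟨(orderOf x).factorization p, ?_⟩
      rw [← QuotientGroup.mk_pow, QuotientGroup.eq_one_iff, hmem,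
        orderOf_pow' _ (pow_ne_zero _ hp.ne_zero),
        Nat.gcd_eq_right (Nat.ordProj_dvd _ _)]
      exact (Nat.coprime_ordCompl hp (orderOf_pos x).ne').symm
    obtain ⟨k, hk⟩ := IsPGroup.iff_card.mp hq
    exact ⟨k, by rw [Subgroup.index_eq_card]; exact hk⟩

/-- Let p be an odd prime, G a finite group with Sylow p-subgroup S and K the lower K-infinity subgroup of S. If N_G(K) has a normal p-complement, or if N_G(K)/C_G(K) is a p-group (every element of N_G(K) of order prime to p centralizes K), then G has a normal p-complement. -/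
theorem result {G : Type u} [Group G] [Finite G] {p : ℕ} [Fact p.Prime] (hp : p ≠ 2) (S : Sylow p G) (h : Cfsg.HasNormalPComplement p ↥(Subgroup.normalizer ((Cfsg.inducedFunctor Cfsg.kInfLower (S : Subgroup G) : Subgroup G) : Set G)) ∨ ∀ g ∈ Subgroup.normalizer ((Cfsg.inducedFunctor Cfsg.kInfLower (S : Subgroup G) : Subgroup G) : Set G), (orderOf g).Coprime p → g ∈ Subgroup.centralizer ((Cfsg.inducedFunctor Cfsg.kInfLower (S : Subgroup G) : Subgroup G) : Set G)) : Cfsg.HasNormalPComplement p G := by
  have hW := Cfsg.Agent.Lib.Helper14.isCharPFunctor_kInfLower.{u} p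
  have hN : Cfsg.HasNormalPComplement p ↥(Subgroup.normalizer
      ((Cfsg.inducedFunctor Cfsg.kInfLower (S : Subgroup G) : Subgroup G) : Set G)) := by
    rcases h with h | h
    · exact h
    · exact Cfsg.Agent.Lib.Helper14.pnilp_iff.mp (normalizer_pnilp S h)
  exact Cfsg.Agent.S1990.result hp Cfsg.kInfLower hW S hN
    (fun K R _ hst' T => Cfsg.Agent.S1987.result hp hst' T)

end Cfsg.Agent.S1988
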