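import Cfsg.Statements.S2065
import Cfsg.Agent.Lib.Helper20.J1Data

set_option autoImplicit false
open Cfsg

namespace Cfsg.Agent.S2065

open Cfsg.Agent.Lib.Helper13 Cfsg.Agent.Lib.Helper20.J1D
open scoped Pointwise

/-! ## Subgroups given by tables -/

/-- Subgroup given by a multiplication table. -/
def tableSubgroup {Γ : Type*} [Group Γ] {n : ℕ} (t : Fin n → Γ) (m : Fin n → Fin n → Fin n)
    (iv : Fin n → Fin n) (e : Fin n) (hmul : ∀ i j, t i * t j = t (m i j)) (hone : t e = 1)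
    (hinv : ∀ i, m i (iv i) = e) : Subgroup Γ where
  carrier := Set.range t
  mul_mem' := by
    rintro _ _ ⟨i, rfl⟩ ⟨j, rfl⟩
    exact ⟨m i j, (hmul i j).symm⟩
  one_mem' := ⟨e, hone⟩
  inv_mem' := by
    rintro _ ⟨i, rfl⟩
    refine ⟨iv i, ?_⟩
    have h := hmul i (iv i)
    rw [hinv, hone] at h
    exact eq_inv_of_mul_eq_one_right h

theorem card_tableSubgroup {Γ : Type*} [Group Γ] {n : ℕ} (t : Fin n → Γ)
    (m : Fin n → Fin n → Fin n) (iv : Fin n → Fin n) (e : Fin n)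
    (hmul : ∀ i j, t i * t j = t (m i j)) (hone : t e = 1) (hinv : ∀ i, m i (iv i) = e)
    (hinj : Function.Injective t) :
    Nat.card (tableSubgroup t m iv e hmul hone hinv) = n := by
  have h : Nat.card (Set.range t) = n := by
    rw [Nat.card_congr (Equiv.ofInjective t hinj).symm, Nat.card_fin]
  exact h

theorem mem_conj_iff {G : Type*} [Group G] (g x : G) (L : Subgroup G) :
    x ∈ MulAut.conj g • L ↔ g⁻¹ * x * g ∈ L := by
  rw [Subgroup.mem_pointwise_smul_iff_inv_smul_mem, ← map_inv, MulAut.smul_def,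
    MulAut.conj_apply, inv_inv]

/-! ## Matrices of packed tables -/

/-- Matrix number `n` of a packed table. -/
def matP (T n : ℕ) : Matrix (Fin 7) (Fin 7) (ZMod 11) :=
  fun i j => ((pe T n i j : ℕ) : ZMod 11)

theorem matP_mul (T n T' n' : ℕ) :
    matP T n * matP T' n' = fun i j : Fin 7 => ((dot T n T' n' i j : ℕ) : ZMod 11) := by
  ext i j
  simp only [matP, Matrix.mul_apply, Fin.sum_univ_seven, dot]
  push_cast
  rfl

theorem matP_mul_eq (T n T' n' T2 n2 : ℕ)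
    (h : ∀ i j : Fin 7, dot T n T' n' i j % 11 = pe T2 n2 i j % 11) :
    matP T n * matP T' n' = matP T2 n2 := by
  rw [matP_mul]
  ext i j
  exact (ZMod.natCast_eq_natCast_iff' _ _ 11).2 (h i j)

theorem matP_mul_comm (T n T' n' T2 n2 T3 n3 : ℕ)
    (h : ∀ i j : Fin 7, dot T n T' n' i j % 11 = dot T2 n2 T3 n3 i j % 11) :
    matP T n * matP T' n' = matP T2 n2 * matP T3 n3 := by
  rw [matP_mul, matP_mul]
  ext i j
  exact (ZMod.natCast_eq_natCast_iff' _ _ 11).2 (h i j)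

theorem dot_of_comm (T n T' n' T2 n2 T3 n3 : ℕ)
    (h : matP T n * matP T' n' = matP T2 n2 * matP T3 n3) (i j : Fin 7) :
    dot T n T' n' i j % 11 = dot T2 n2 T3 n3 i j % 11 := by
  rw [matP_mul, matP_mul] at h
  exact (ZMod.natCast_eq_natCast_iff' _ _ 11).1 (congrFun (congrFun h i) j)

theorem matP_mul_one (T n T' n' : ℕ)
    (h : ∀ i j : Fin 7, dot T n T' n' i j % 11 = if i = j then 1 else 0) :
    matP T n * matP T' n' = 1 := by
  rw [matP_mul]
  ext i j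
  rw [Matrix.one_apply, ← ZMod.natCast_mod (dot T n T' n' i j) 11, h i j]
  by_cases hij : i = j <;> simp [hij]

theorem dot_of_mul_one (T n T' n' : ℕ) (h : matP T n * matP T' n' = 1) (i j : Fin 7) :
    dot T n T' n' i j % 11 = if i = j then 1 else 0 := by
  rw [matP_mul] at h
  have h1 : ((dot T n T' n' i j : ℕ) : ZMod 11) = (1 : Matrix (Fin 7) (Fin 7) (ZMod 11)) i j :=
    congrFun (congrFun h i) j
  rw [Matrix.one_apply] at h1
  by_cases hij : i = j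
  · rw [if_pos hij] at h1 ⊢
    have h2 : ((dot T n T' n' i j : ℕ) : ZMod 11) = ((1 : ℕ) : ZMod 11) := by rw [h1]; simp
    exact (ZMod.natCast_eq_natCast_iff' _ _ 11).1 h2
  · rw [if_neg hij] at h1 ⊢
    have h2 : ((dot T n T' n' i j : ℕ) : ZMod 11) = ((0 : ℕ) : ZMod 11) := by rw [h1]; simp
    exact (ZMod.natCast_eq_natCast_iff' _ _ 11).1 h2

theorem matP_eq_iff (T n T' n' : ℕ) (h : matP T n = matP T' n') (i j : Fin 7) :
    pe T n i j % 11 = pe T' n' i j % 11 :=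
  (ZMod.natCast_eq_natCast_iff' _ _ 11).1 (congrFun (congrFun h i) j)

theorem matP_of_eq (T n T' n' : ℕ) (h : ∀ i j : Fin 7, pe T n i j % 11 = pe T' n' i j % 11) :
    matP T n = matP T' n' := by
  ext i j
  exact (ZMod.natCast_eq_natCast_iff' _ _ 11).2 (h i j)

theorem matP_one (T n : ℕ) (h : ∀ i j : Fin 7, pe T n i j = if i = j then 1 else 0) :
    matP T n = 1 := by
  ext i j
  rw [Matrix.one_apply]
  show ((pe T n i j : ℕ) : ZMod 11) = _
  rw [h i j]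
  by_cases hij : i = j <;> simp [hij]

/-! ## The sixty matrices -/

theorem matA_mul (a b : Fin 60) : matP TA a * matP TA b = matP TA (mA a b) :=
  matP_mul_eq _ _ _ _ _ _ (hA1 a b)

theorem matA_one : matP TA (0 : Fin 60) = 1 := matP_one _ _ hA0

/-- The sixty matrices as invertible matrices. -/
def aG (a : Fin 60) : GL (Fin 7) (ZMod 11) :=
  ⟨matP TA a, matP TA (iA a), by rw [matA_mul, hA3]; exact matA_one,
    by rw [matA_mul, hA3']; exact matA_one⟩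

theorem aG_mul (a b : Fin 60) : aG a * aG b = aG (mA a b) := Units.ext (matA_mul a b)

theorem aG_one : aG 0 = 1 := Units.ext matA_one

theorem aG_inj : Function.Injective aG := fun a b h =>
  hA7 a b (fun i j => matP_eq_iff _ _ _ _ (congrArg Units.val h) i j)

theorem gXY_val' (l : Fin 2) : (J1M.gXY l).val = matP TX l := by
  rw [J1M.gXY_val]
  ext i j
  show ((F11M.ent (J1M.tXY l) i j : ℕ) : ZMod 11) = ((pe TX l i j : ℕ) : ZMod 11)
  rw [hgen]

theorem word_val (W : List (Fin 2)) (T n : ℕ)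
    (h : ∀ i j : Fin 7, F11M.ent (F11M.prodL J1M.tXY W) i j = pe T n i j) :
    ((W.map J1M.gXY).prod).val = matP T n := by
  rw [J1M.gXY_prod]
  ext i j
  show ((F11M.ent (F11M.prodL J1M.tXY W) i j : ℕ) : ZMod 11) = ((pe T n i j : ℕ) : ZMod 11)
  rw [h]

theorem word_mem (W : List (Fin 2)) : (W.map J1M.gXY).prod ∈ Cfsg.Spor.J1 :=
  Subgroup.list_prod_mem _ (by
    intro g hg
    obtain ⟨k, -, rfl⟩ := List.mem_map.mp hg
    exact J1M.gXY_mem k)

/-- The chosen involution. -/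
def tG : GL (Fin 7) (ZMod 11) :=
  ⟨matP TC 0, matP TC 0, matP_mul_one _ _ _ _ ht2, matP_mul_one _ _ _ _ ht2⟩

theorem tG_eq : tG = (wt.map J1M.gXY).prod := Units.ext (word_val wt TC 0 hwt).symm

theorem tG_mem : tG ∈ Cfsg.Spor.J1 := by
  rw [tG_eq]
  exact word_mem wt

theorem tG_sq : tG * tG = 1 := Units.ext (matP_mul_one _ _ _ _ ht2)

theorem aG_ne_tG (a : Fin 60) : aG a ≠ tG := fun h =>
  hA8 a (fun i j => matP_eq_iff _ _ _ _ (congrArg Units.val h) i j)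

theorem aG_comm (a : Fin 60) : aG a * tG = tG * aG a :=
  Units.ext (matP_mul_comm _ _ _ _ _ _ _ _ (hAt a))

theorem aG_mem : ∀ a : Fin 60, aG a ∈ Cfsg.Spor.J1 := by
  have h1 : aG 1 ∈ Cfsg.Spor.J1 := by
    have h : aG 1 = (wu.map J1M.gXY).prod := Units.ext (word_val wu TA 1 hwu).symm
    rw [h]
    exact word_mem wu
  have h2 : aG 2 ∈ Cfsg.Spor.J1 := by
    have h : aG 2 = (wv.map J1M.gXY).prod := Units.ext (word_val wv TA 2 hwv).symm
    rw [h]
    exact word_mem wv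
  have key : ∀ k : ℕ, ∀ a : Fin 60, a.val = k → aG a ∈ Cfsg.Spor.J1 := by
    intro k
    induction k using Nat.strong_induction_on with
    | _ k ih =>
      intro a hak
      by_cases ha : a = 0
      · rw [ha, aG_one]
        exact Subgroup.one_mem _
      · obtain ⟨hlt, hg, hm⟩ := hq a ha
        have hq' : aG (qA a) ∈ Cfsg.Spor.J1 :=
          ih (qA a).val (by rw [← hak]; exact hlt) (qA a) rfl
        have hg' : aG (gA a) ∈ Cfsg.Spor.J1 := by
          rcases hg with h | h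
          · rw [h]; exact h1
          · rw [h]; exact h2
        rw [← hm, ← aG_mul]
        exact Subgroup.mul_mem _ hq' hg'
  exact fun a => key a.val a rfl

/-! ## The conjugates of the involution -/

theorem codeF_congr (f g : ℕ → ℕ) (N : ℕ) (h : ∀ k < N, f k % 11 = g k % 11) :
    codeF f N = codeF g N := by
  induction N with
  | zero => rfl
  | succ k ih =>
    rw [codeF, codeF, h k (Nat.lt_succ_self k), ih (fun j hj => h j (Nat.lt_succ_of_lt hj))]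

theorem code_eq (n m : ℕ) (h : matP TC n = matP TC m) : codeE TC n = codeE TC m := by
  apply codeF_congr
  intro k hk
  exact matP_eq_iff _ _ _ _ h ⟨k / 7, by omega⟩ ⟨k % 7, by omega⟩

theorem sg_code_strictMono : StrictMono (fun j : Fin 1463 => codeE TC (sg j)) :=
  (Fin.strictMono_iff_lt_succ (n := 1462)).2 hS1

theorem matC_inj (n m : Fin 1463) (h : matP TC n = matP TC m) : n = m := by
  have h1 := code_eq n m h
  have h2 : tu n = tu m := sg_code_strictMono.injective (by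
    show codeE TC (sg (tu n)) = codeE TC (sg (tu m))
    rw [hS2, hS2]
    exact h1)
  calc n = sg (tu n) := (hS2 n).symm
    _ = sg (tu m) := by rw [h2]
    _ = m := hS2 m

theorem conj_exists : ∀ n : Fin 1463, ∃ g : GL (Fin 7) (ZMod 11), g ∈ Cfsg.Spor.J1 ∧
    g.val * matP TC 0 = matP TC n * g.val := by
  have key : ∀ k : ℕ, ∀ n : Fin 1463, n.val = k → ∃ g : GL (Fin 7) (ZMod 11),
      g ∈ Cfsg.Spor.J1 ∧ g.val * matP TC 0 = matP TC n * g.val := by
    intro k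
    induction k using Nat.strong_induction_on with
    | _ k ih =>
      intro n hnk
      by_cases hn : n = 0
      · refine ⟨1, Subgroup.one_mem _, ?_⟩
        rw [hn, Units.val_one, Matrix.one_mul, Matrix.mul_one]
        rfl
      · obtain ⟨hlt, hd⟩ := hC1 n hn
        obtain ⟨g, hg, hgc⟩ := ih (pC n).val (by rw [← hnk]; exact hlt) (pC n) rfl
        refine ⟨J1M.gXY (sC n) * g, Subgroup.mul_mem _ (J1M.gXY_mem _) hg, ?_⟩
        have hs : matP TX (sC n) * matP TC (pC n) = matP TC n * matP TX (sC n) :=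
          matP_mul_comm _ _ _ _ _ _ _ _ hd
        rw [Units.val_mul, gXY_val', Matrix.mul_assoc, hgc, ← Matrix.mul_assoc, hs,
          Matrix.mul_assoc]
  exact fun n => key n.val n rfl

/-! ## The group of Janko -/

theorem card_J1 : Nat.card ↥Cfsg.Spor.J1 = 175560 := by
  rw [← J1O.card]
  exact (Nat.card_congr J1M.equivJ1.toEquiv).symm

theorem finite_J1 : Finite ↥Cfsg.Spor.J1 :=
  Nat.finite_of_card_ne_zero (by rw [card_J1]; norm_num)

/-- The matrix of an element of the group. -/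
def mt (g : ↥Cfsg.Spor.J1) : Matrix (Fin 7) (Fin 7) (ZMod 11) :=
  ((g : GL (Fin 7) (ZMod 11)) : Matrix (Fin 7) (Fin 7) (ZMod 11))

theorem mt_mul (g h : ↥Cfsg.Spor.J1) : mt (g * h) = mt g * mt h := rfl

theorem mt_one : mt 1 = 1 := rfl

theorem mt_inj : Function.Injective mt := fun _ _ e => Subtype.ext (Units.ext e)

theorem mt_mul_inv (g : ↥Cfsg.Spor.J1) : mt g * mt g⁻¹ = 1 := by
  rw [← mt_mul, mul_inv_cancel]
  rfl

/-- The sixty matrices as elements of the group. -/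
def aJ (a : Fin 60) : ↥Cfsg.Spor.J1 := ⟨aG a, aG_mem a⟩

/-- The chosen involution as an element of the group. -/
def tJ : ↥Cfsg.Spor.J1 := ⟨tG, tG_mem⟩

theorem mt_aJ (a : Fin 60) : mt (aJ a) = matP TA a := rfl

theorem mt_tJ : mt tJ = matP TC 0 := rfl

theorem aJ_mul (a b : Fin 60) : aJ a * aJ b = aJ (mA a b) := Subtype.ext (aG_mul a b)

theorem aJ_one : aJ 0 = 1 := Subtype.ext aG_one

theorem aJ_inj : Function.Injective aJ := fun _ _ h => aG_inj (congrArg Subtype.val h)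

theorem aJ_inv (a : Fin 60) : (aJ a)⁻¹ = aJ (iA a) :=
  inv_eq_of_mul_eq_one_right (by rw [aJ_mul, hA3, aJ_one])

theorem tJ_sq : tJ * tJ = 1 := Subtype.ext tG_sq

theorem tJ_inv : tJ⁻¹ = tJ := inv_eq_of_mul_eq_one_right tJ_sq

theorem aJ_ne_tJ (a : Fin 60) : aJ a ≠ tJ := fun h => aG_ne_tG a (congrArg Subtype.val h)

theorem aJ_comm (a : Fin 60) : aJ a * tJ = tJ * aJ a := Subtype.ext (aG_comm a)

theorem tJ_ne_one : tJ ≠ 1 := fun h => aJ_ne_tJ 0 (aJ_one.trans h.symm)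

theorem tJ_order : orderOf tJ = 2 :=
  orderOf_eq_prime (by rw [pow_two]; exact tJ_sq) tJ_ne_one

/-- The subgroup of the sixty matrices. -/
def AJ : Subgroup ↥Cfsg.Spor.J1 := tableSubgroup aJ mA iA 0 aJ_mul aJ_one hA3

theorem aJ_mem (a : Fin 60) : aJ a ∈ AJ := ⟨a, rfl⟩

theorem AJ_le : AJ ≤ Subgroup.centralizer ({tJ} : Set ↥Cfsg.Spor.J1) := by
  rintro _ ⟨a, rfl⟩
  rw [Subgroup.mem_centralizer_iff]
  intro h hh
  rw [Set.mem_singleton_iff] at hh
  rw [hh]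
  exact (aJ_comm a).symm

theorem tJ_mem_cen : tJ ∈ Subgroup.centralizer ({tJ} : Set ↥Cfsg.Spor.J1) := by
  rw [Subgroup.mem_centralizer_iff]
  intro h hh
  rw [Set.mem_singleton_iff] at hh
  rw [hh]

theorem cen_comm (c : ↥Cfsg.Spor.J1)
    (hc : c ∈ Subgroup.centralizer ({tJ} : Set ↥Cfsg.Spor.J1)) : tJ * c = c * tJ :=
  Subgroup.mem_centralizer_iff.1 hc tJ rfl

/-- Elements conjugating the involution to its conjugates. -/
noncomputable def gC (n : Fin 1463) : ↥Cfsg.Spor.J1 :=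
  ⟨(conj_exists n).choose, (conj_exists n).choose_spec.1⟩

theorem gC_spec (n : Fin 1463) : mt (gC n) * matP TC 0 = matP TC n * mt (gC n) :=
  (conj_exists n).choose_spec.2

/-- The conjugates of the involution as elements of the group. -/
noncomputable def cJ (n : Fin 1463) : ↥Cfsg.Spor.J1 := gC n * tJ * (gC n)⁻¹

theorem mt_cJ (n : Fin 1463) : mt (cJ n) = matP TC n := by
  show mt (gC n) * matP TC 0 * mt (gC n)⁻¹ = matP TC n
  rw [gC_spec, Matrix.mul_assoc, mt_mul_inv, Matrix.mul_one]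

theorem cJ_inj : Function.Injective cJ := fun n m h =>
  matC_inj n m (by rw [← mt_cJ, ← mt_cJ, h])

theorem cJ_zero : cJ 0 = tJ := mt_inj (mt_cJ 0)

/-- The product map from conjugates and the centraliser. -/
noncomputable def fJ (p : Fin 1463 × Subgroup.centralizer ({tJ} : Set ↥Cfsg.Spor.J1)) :
    ↥Cfsg.Spor.J1 := gC p.1 * p.2.val

theorem fJ_rel (p : Fin 1463 × Subgroup.centralizer ({tJ} : Set ↥Cfsg.Spor.J1)) :
    mt (fJ p) * matP TC 0 = matP TC p.1 * mt (fJ p) := by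
  have h1 : mt p.2.val * matP TC 0 = matP TC 0 * mt p.2.val :=
    (congrArg mt (cen_comm _ p.2.2)).symm
  show mt (gC p.1) * mt p.2.val * matP TC 0 = matP TC p.1 * (mt (gC p.1) * mt p.2.val)
  rw [Matrix.mul_assoc, h1, ← Matrix.mul_assoc, gC_spec, Matrix.mul_assoc]

theorem fJ_inj : Function.Injective fJ := by
  intro p q hpq
  have h1 := fJ_rel p
  rw [hpq, fJ_rel q] at h1
  have h2 : matP TC q.1 * mt (fJ q) * mt (fJ q)⁻¹ = matP TC p.1 * mt (fJ q) * mt (fJ q)⁻¹ := by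
    rw [h1]
  rw [Matrix.mul_assoc, Matrix.mul_assoc, mt_mul_inv, Matrix.mul_one, Matrix.mul_one] at h2
  have h3 : p.1 = q.1 := (matC_inj _ _ h2).symm
  have h4 : gC p.1 * p.2.val = gC q.1 * q.2.val := hpq
  rw [h3] at h4
  exact Prod.ext h3 (Subtype.ext (mul_left_cancel h4))

theorem card_cen_le : Nat.card (Subgroup.centralizer ({tJ} : Set ↥Cfsg.Spor.J1)) ≤ 120 := by
  have := finite_J1
  have h5 := Nat.card_le_card_of_injective fJ fJ_inj
  rw [Nat.card_prod, Nat.card_fin, card_J1] at h5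
  omega

/-- The elements of the centraliser. -/
def eJ : Fin 60 ⊕ Fin 60 → ↥Cfsg.Spor.J1 := Sum.elim aJ (fun i => tJ * aJ i)

theorem eJ_mem (p : Fin 60 ⊕ Fin 60) :
    eJ p ∈ Subgroup.centralizer ({tJ} : Set ↥Cfsg.Spor.J1) := by
  rcases p with i | i
  · exact AJ_le (aJ_mem i)
  · exact Subgroup.mul_mem _ tJ_mem_cen (AJ_le (aJ_mem i))

theorem eJ_inj : Function.Injective eJ := by
  rintro (i | i) (j | j) h
  · exact congrArg Sum.inl (aJ_inj h)
  · exfalso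
    have h' : aJ i = tJ * aJ j := h
    have h1 : aJ (mA i (iA j)) = tJ := by
      rw [← aJ_mul, ← aJ_inv, h', mul_inv_cancel_right]
    exact aJ_ne_tJ _ h1
  · exfalso
    have h' : tJ * aJ i = aJ j := h
    have h1 : aJ (mA j (iA i)) = tJ := by
      rw [← aJ_mul, ← aJ_inv, ← h', mul_inv_cancel_right]
    exact aJ_ne_tJ _ h1
  · have h' : tJ * aJ i = tJ * aJ j := h
    exact congrArg Sum.inr (aJ_inj (mul_left_cancel h'))

theorem eJ_bij : Function.Bijective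
    (fun p : Fin 60 ⊕ Fin 60 => (⟨eJ p, eJ_mem p⟩ :
      Subgroup.centralizer ({tJ} : Set ↥Cfsg.Spor.J1))) := by
  have := finite_J1
  have hinj : Function.Injective (fun p : Fin 60 ⊕ Fin 60 => (⟨eJ p, eJ_mem p⟩ :
      Subgroup.centralizer ({tJ} : Set ↥Cfsg.Spor.J1))) :=
    fun p q h => eJ_inj (congrArg Subtype.val h)
  refine hinj.bijective_of_nat_card_le ?_
  rw [Nat.card_sum, Nat.card_fin]
  exact card_cen_le

theorem cen_cases (c : ↥Cfsg.Spor.J1)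
    (hc : c ∈ Subgroup.centralizer ({tJ} : Set ↥Cfsg.Spor.J1)) :
    ∃ i : Fin 60, c = aJ i ∨ c = tJ * aJ i := by
  obtain ⟨p, hp⟩ := eJ_bij.2 ⟨c, hc⟩
  have hp' : eJ p = c := congrArg Subtype.val hp
  rcases p with i | i
  · exact ⟨i, Or.inl hp'.symm⟩
  · exact ⟨i, Or.inr hp'.symm⟩

theorem card_cen : Nat.card (Subgroup.centralizer ({tJ} : Set ↥Cfsg.Spor.J1)) = 120 := by
  rw [← Nat.card_congr (Equiv.ofBijective _ eJ_bij), Nat.card_sum, Nat.card_fin]

theorem fJ_bij : Function.Bijective fJ := by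
  have := finite_J1
  refine fJ_inj.bijective_of_nat_card_le ?_
  rw [Nat.card_prod, Nat.card_fin, card_cen, card_J1]

theorem conj_is_cJ (g : ↥Cfsg.Spor.J1) : ∃ m : Fin 1463, g * tJ * g⁻¹ = cJ m := by
  obtain ⟨⟨n, c⟩, hp⟩ := fJ_bij.2 g
  refine ⟨n, ?_⟩
  have h1 : c.val * tJ * c.val⁻¹ = tJ := by
    rw [← cen_comm _ c.2, mul_inv_cancel_right]
  have h2 : gC n * c.val = g := hp
  rw [← h2]
  have e : gC n * c.val * tJ * (gC n * c.val)⁻¹ = gC n * (c.val * tJ * c.val⁻¹) * (gC n)⁻¹ := by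
    group
  rw [e, h1]
  rfl

/-! ## The Sylow 2-subgroup and the involutions -/

theorem matQ_mul (i j : Fin 8) : matP TQ i * matP TQ j = matP TQ (xor8 i j) :=
  matP_mul_eq _ _ _ _ _ _ (hQ1 i j)

theorem matQ_one : matP TQ (0 : Fin 8) = 1 := matP_one _ _ hQ0

theorem qJ_exists (i : Fin 8) : ∃ q : ↥Cfsg.Spor.J1, mt q = matP TQ i := by
  by_cases hi : i = 0
  · exact ⟨1, by rw [hi, mt_one]; exact matQ_one.symm⟩
  · exact ⟨cJ (cq i), by rw [mt_cJ]; exact (matP_of_eq _ _ _ _ (hQC i hi)).symm⟩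

/-- The eight commuting elements. -/
noncomputable def qJ (i : Fin 8) : ↥Cfsg.Spor.J1 := (qJ_exists i).choose

theorem mt_qJ (i : Fin 8) : mt (qJ i) = matP TQ i := (qJ_exists i).choose_spec

theorem qJ_mul (i j : Fin 8) : qJ i * qJ j = qJ (xor8 i j) :=
  mt_inj (by
    show mt (qJ i) * mt (qJ j) = mt (qJ (xor8 i j))
    rw [mt_qJ, mt_qJ, mt_qJ, matQ_mul])

theorem qJ_one : qJ 0 = 1 := mt_inj (by rw [mt_qJ, mt_one]; exact matQ_one)

theorem qJ_inj : Function.Injective qJ := fun i j h =>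
  hQinj i j (fun r c => matP_eq_iff _ _ _ _ (by rw [← mt_qJ, ← mt_qJ, h]) r c)

theorem qJ_conj (i : Fin 8) (hi : i ≠ 0) : ∃ g : ↥Cfsg.Spor.J1, qJ i = g * tJ * g⁻¹ :=
  ⟨gC (cq i), mt_inj (by
    rw [mt_qJ]
    exact (matP_of_eq _ _ _ _ (hQC i hi)).trans (mt_cJ (cq i)).symm)⟩

/-- The subgroup of order eight. -/
noncomputable def PJ : Subgroup ↥Cfsg.Spor.J1 :=
  tableSubgroup qJ xor8 id 0 qJ_mul qJ_one hQx

theorem card_PJ : Nat.card PJ = 8 := card_tableSubgroup _ _ _ _ _ _ _ qJ_inj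

theorem inv_conj (s : ↥Cfsg.Spor.J1) (hs : orderOf s = 2) :
    ∃ g : ↥Cfsg.Spor.J1, s = g * tJ * g⁻¹ := by
  classical
  have := finite_J1
  haveI : Fact (Nat.Prime 2) := ⟨Nat.prime_two⟩
  have hP : IsPGroup 2 PJ := IsPGroup.of_card (n := 3) (by rw [card_PJ]; norm_num)
  have hidx : ¬ 2 ∣ PJ.index := by
    have h := PJ.index_mul_card
    rw [card_PJ, card_J1] at h
    omega
  have hZ : IsPGroup 2 (Subgroup.zpowers s) :=
    IsPGroup.of_card (n := 1) (by rw [Nat.card_zpowers, hs]; norm_num)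
  obtain ⟨Q, hQ⟩ := hZ.exists_le_sylow
  obtain ⟨g, hg⟩ := MulAction.exists_smul_eq ↥Cfsg.Spor.J1 (hP.toSylow hidx) Q
  have hsQ : s ∈ (Q : Subgroup ↥Cfsg.Spor.J1) := hQ (Subgroup.mem_zpowers s)
  have h1 : g⁻¹ * s * g ∈ (hP.toSylow hidx : Subgroup ↥Cfsg.Spor.J1) := by
    rw [← mem_conj_iff, ← Sylow.coe_subgroup_smul, hg]
    exact hsQ
  have h2 : g⁻¹ * s * g ∈ PJ := (IsPGroup.mem_toSylow hP hidx).1 h1
  obtain ⟨i, hi⟩ := h2
  have hs' : s = g * qJ i * g⁻¹ := by rw [hi]; group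
  have hi0 : i ≠ 0 := by
    intro h
    rw [h, qJ_one] at hs'
    have h3 : s = 1 := by rw [hs']; group
    rw [h3, orderOf_one] at hs
    omega
  obtain ⟨k, hk⟩ := qJ_conj i hi0
  refine ⟨g * k, ?_⟩
  rw [hs', hk]
  group

/-! ## Automorphisms fixing the involution -/

theorem tJ_pow_odd (m : ℕ) (hm : Odd m) : tJ ^ m = tJ := by
  obtain ⟨k, rfl⟩ := hm
  rw [pow_succ, pow_mul, pow_two, tJ_sq, one_pow, one_mul]

theorem odd_mem_A (c : ↥Cfsg.Spor.J1)
    (hc : c ∈ Subgroup.centralizer ({tJ} : Set ↥Cfsg.Spor.J1)) (ho : Odd (orderOf c)) :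
    ∃ i : Fin 60, c = aJ i := by
  obtain ⟨i, h | h⟩ := cen_cases c hc
  · exact ⟨i, h⟩
  · exfalso
    obtain ⟨k, hk⟩ := ho
    have h1 : c ^ (2 * k + 1) = 1 := by rw [← hk]; exact pow_orderOf_eq_one c
    rw [h, (show Commute tJ (aJ i) from (aJ_comm i).symm).mul_pow, tJ_pow_odd _ ⟨k, rfl⟩] at h1
    have h2 : tJ = (aJ i ^ (2 * k + 1))⁻¹ := eq_inv_of_mul_eq_one_left h1
    have h3 : tJ ∈ AJ := by
      rw [h2]
      exact AJ.inv_mem (AJ.pow_mem (aJ_mem i) _)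
    obtain ⟨j, hj⟩ := h3
    exact aJ_ne_tJ j hj

theorem aJ_ne_one (i : Fin 60) (hi : i ≠ 0) : aJ i ≠ 1 := fun h =>
  hi (aJ_inj (h.trans aJ_one.symm))

theorem order_aJ2 : orderOf (aJ 2) = 3 := by
  haveI : Fact (Nat.Prime 3) := ⟨Nat.prime_three⟩
  refine orderOf_eq_prime ?_ (aJ_ne_one 2 (by decide))
  rw [pow_succ, pow_two, aJ_mul, aJ_mul, hord.2.1, aJ_one]

theorem aJ_pw5 (i : Fin 60) : aJ i ^ 5 = aJ (pw5 i) := by
  rw [pw5, ← aJ_mul, ← aJ_mul, ← aJ_mul, ← aJ_mul]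
  simp only [pow_succ, pow_zero, one_mul]

theorem z_ne : mA 1 2 ≠ 0 := by
  intro h
  have h1 : aJ 1 * aJ 2 = 1 := by rw [aJ_mul, h, aJ_one]
  have h2 : aJ 1 * aJ 1 = 1 := by rw [aJ_mul, hord.1, aJ_one]
  have h3 : aJ 2 = aJ 1 := mul_left_cancel (h1.trans h2.symm)
  exact absurd (aJ_inj h3) (by decide)

theorem order_aJz : orderOf (aJ (mA 1 2)) = 5 := by
  haveI : Fact (Nat.Prime 5) := ⟨by norm_num⟩
  refine orderOf_eq_prime ?_ (aJ_ne_one _ z_ne)
  rw [aJ_pw5, hord.2.2, aJ_one]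

theorem phi_cen (φ : MulAut ↥Cfsg.Spor.J1) (h0 : φ tJ = tJ) (c : ↥Cfsg.Spor.J1)
    (hc : c ∈ Subgroup.centralizer ({tJ} : Set ↥Cfsg.Spor.J1)) :
    φ c ∈ Subgroup.centralizer ({tJ} : Set ↥Cfsg.Spor.J1) := by
  rw [Subgroup.mem_centralizer_iff]
  intro h hh
  rw [Set.mem_singleton_iff] at hh
  rw [hh]
  have h1 := congrArg φ (cen_comm c hc)
  rw [map_mul, map_mul, h0] at h1
  exact h1

theorem phi_odd (φ : MulAut ↥Cfsg.Spor.J1) (h0 : φ tJ = tJ) (i : Fin 60)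
    (ho : Odd (orderOf (aJ i))) : ∃ k : Fin 60, φ (aJ i) = aJ k := by
  apply odd_mem_A _ (phi_cen φ h0 _ (AJ_le (aJ_mem i)))
  rw [MulEquiv.orderOf_eq]
  exact ho

theorem phi_ext (φ : MulAut ↥Cfsg.Spor.J1) (τ : Fin 60 → Fin 60) (hτ0 : τ 0 = 0)
    (hτ : ∀ i : Fin 60, i ≠ 0 → τ i = mA (τ (qA i)) (τ (gA i)))
    (h1 : φ (aJ 1) = aJ (τ 1)) (h2 : φ (aJ 2) = aJ (τ 2)) :
    ∀ i : Fin 60, φ (aJ i) = aJ (τ i) := by
  have key : ∀ k : ℕ, ∀ a : Fin 60, a.val = k → φ (aJ a) = aJ (τ a) := by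
    intro k
    induction k using Nat.strong_induction_on with
    | _ k ih =>
      intro a hak
      by_cases ha : a = 0
      · rw [ha, aJ_one, map_one, hτ0, aJ_one]
      · obtain ⟨hlt, hg, hm⟩ := hq a ha
        have hq' : φ (aJ (qA a)) = aJ (τ (qA a)) :=
          ih (qA a).val (by rw [← hak]; exact hlt) (qA a) rfl
        have hg' : φ (aJ (gA a)) = aJ (τ (gA a)) := by
          rcases hg with h | h
          · rw [h]; exact h1
          · rw [h]; exact h2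
        rw [hτ a ha, ← aJ_mul, ← hq', ← hg', ← map_mul, aJ_mul, hm]
  exact fun a => key a.val a rfl

/-! ## The additional involution -/

/-- The additional involution. -/
noncomputable def hJ : ↥Cfsg.Spor.J1 := cJ 590

theorem mt_hJ : mt hJ = matP TC 590 := mt_cJ 590

theorem mt_c1266 : mt (cJ 1266) = matP TC 1266 := mt_cJ 1266

theorem cJ_order (n : Fin 1463) : orderOf (cJ n) = 2 :=
  (MulEquiv.orderOf_eq (MulAut.conj (gC n)) tJ).trans tJ_order

theorem mt_d0 : mt (tJ * aJ 1) = matP TD 0 := matP_mul_eq _ _ _ _ _ _ hD0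

theorem mt_d1 : mt (tJ * aJ 13) = matP TD 1 := matP_mul_eq _ _ _ _ _ _ hD1

theorem mt_d2 : mt (tJ * aJ (sig 13)) = matP TD 2 := matP_mul_eq _ _ _ _ _ _ hD2

theorem hJ_d0 : hJ * (tJ * aJ 1) = tJ * aJ 1 * hJ :=
  mt_inj (by
    show mt hJ * mt (tJ * aJ 1) = mt (tJ * aJ 1) * mt hJ
    rw [mt_hJ, mt_d0]
    exact matP_mul_comm _ _ _ _ _ _ _ _ (hhD 0))

theorem hJ_d1 : hJ * (tJ * aJ 13) = tJ * aJ 13 * hJ :=
  mt_inj (by
    show mt hJ * mt (tJ * aJ 13) = mt (tJ * aJ 13) * mt hJ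
    rw [mt_hJ, mt_d1]
    exact matP_mul_comm _ _ _ _ _ _ _ _ (hhD 1))

theorem cJ_1266 : cJ 1266 = tJ * hJ * tJ :=
  mt_inj (by
    show mt (cJ 1266) = mt tJ * mt hJ * mt tJ
    rw [mt_c1266, mt_tJ, mt_hJ, matP_mul_comm _ _ _ _ _ _ _ _ htht, Matrix.mul_assoc,
      matP_mul_one _ _ _ _ ht2, Matrix.mul_one])

theorem phi_h (φ : MulAut ↥Cfsg.Spor.J1) (h0 : φ tJ = tJ) (h1 : φ (aJ 1) = aJ 1)
    (h13 : φ (aJ 13) = aJ 13 ∨ φ (aJ 13) = aJ (sig 13)) :
    φ hJ = hJ ∨ φ hJ = tJ * hJ * tJ := by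
  have ho : orderOf (φ hJ) = 2 := by
    rw [MulEquiv.orderOf_eq]
    exact cJ_order 590
  obtain ⟨g, hg⟩ := inv_conj _ ho
  obtain ⟨m, hm⟩ := conj_is_cJ g
  have hφ : φ hJ = cJ m := hg.trans hm
  have c0 : cJ m * (tJ * aJ 1) = tJ * aJ 1 * cJ m := by
    have e := congrArg φ hJ_d0
    simp only [map_mul] at e
    rw [h0, h1, hφ] at e
    exact e
  have c0' : ∀ r c : Fin 7, dot TC m TD 0 r c % 11 = dot TD 0 TC m r c % 11 := by
    intro r c
    apply dot_of_comm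
    have e' : mt (cJ m) * mt (tJ * aJ 1) = mt (tJ * aJ 1) * mt (cJ m) := congrArg mt c0
    rw [mt_cJ, mt_d0] at e'
    exact e'
  have hm0 : m ≠ 0 := by
    intro h
    have h2 : hJ = tJ := φ.injective (by rw [hφ, h, cJ_zero, h0])
    exact absurd (cJ_inj (h2.trans cJ_zero.symm)) (by decide)
  rcases h13 with h13 | h13
  · have c1 : cJ m * (tJ * aJ 13) = tJ * aJ 13 * cJ m := by
      have e := congrArg φ hJ_d1
      simp only [map_mul] at e
      rw [h0, h13, hφ] at e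
      exact e
    have c1' : ∀ r c : Fin 7, dot TC m TD 1 r c % 11 = dot TD 1 TC m r c % 11 := by
      intro r c
      apply dot_of_comm
      have e' : mt (cJ m) * mt (tJ * aJ 13) = mt (tJ * aJ 13) * mt (cJ m) := congrArg mt c1
      rw [mt_cJ, mt_d1] at e'
      exact e'
    rcases hSI m c0' c1' with h | h | h
    · exact absurd h hm0
    · left; rw [hφ, h]; rfl
    · right; rw [hφ, h]; exact cJ_1266
  · have c1 : cJ m * (tJ * aJ (sig 13)) = tJ * aJ (sig 13) * cJ m := by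
      have e := congrArg φ hJ_d1
      simp only [map_mul] at e
      rw [h0, h13, hφ] at e
      exact e
    have c1' : ∀ r c : Fin 7, dot TC m TD 2 r c % 11 = dot TD 2 TC m r c % 11 := by
      intro r c
      apply dot_of_comm
      have e' : mt (cJ m) * mt (tJ * aJ (sig 13)) = mt (tJ * aJ (sig 13)) * mt (cJ m) :=
        congrArg mt c1
      rw [mt_cJ, mt_d2] at e'
      exact e'
    rcases hSO m c0' c1' with h | h | h
    · exact absurd h hm0
    · left; rw [hφ, h]; rfl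
    · right; rw [hφ, h]; exact cJ_1266

/-! ## Generation -/

/-- Four elements generating the group. -/
noncomputable def gen4 (l : Fin 4) : ↥Cfsg.Spor.J1 :=
  if l = 0 then tJ else if l = 1 then aJ 1 else if l = 2 then aJ 2 else hJ

theorem matZ_tabOf (T n : ℕ) : F11M.matZ (tabOf T n) = matP T n := by
  ext i j
  show ((F11M.ent (tabOf T n) i j : ℕ) : ZMod 11) = ((pe T n i j : ℕ) : ZMod 11)
  congr 1
  fin_cases i <;> fin_cases j <;> rfl

theorem mt_gen4 (l : Fin 4) : mt (gen4 l) = F11M.matZ (tabs4 l) := by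
  fin_cases l
  · exact (matZ_tabOf TC 0).symm
  · exact (matZ_tabOf TA 1).symm
  · exact (matZ_tabOf TA 2).symm
  · exact mt_hJ.trans (matZ_tabOf TC 590).symm

theorem mt_prod4 (W : List (Fin 4)) :
    mt ((W.map gen4).prod) = F11M.matZ (F11M.prodL tabs4 W) := by
  induction W with
  | nil => rw [F11M.prodL, F11M.matZ_idL]; rfl
  | cons l W ih =>
    rw [List.map_cons, List.prod_cons, mt_mul, ih, F11M.prodL, F11M.matZ_mulL, mt_gen4]

theorem jX_eq : (Cfsg.Spor.jankoX : GL (Fin 7) (ZMod 11)) = ((wX4.map gen4).prod).val := by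
  apply Units.ext
  show _ = mt ((wX4.map gen4).prod)
  rw [mt_prod4]
  have h' : (Cfsg.Spor.jankoX : GL (Fin 7) (ZMod 11)).val = matP TX 0 := gXY_val' 0
  rw [h']
  ext i j
  show ((pe TX 0 i j : ℕ) : ZMod 11) = ((F11M.ent (F11M.prodL tabs4 wX4) i j : ℕ) : ZMod 11)
  rw [hwX4]

theorem jY_eq : (Cfsg.Spor.jankoY : GL (Fin 7) (ZMod 11)) = ((wY4.map gen4).prod).val := by
  apply Units.ext
  show _ = mt ((wY4.map gen4).prod)
  rw [mt_prod4]
  have h' : (Cfsg.Spor.jankoY : GL (Fin 7) (ZMod 11)).val = matP TX 1 := gXY_val' 1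
  rw [h']
  ext i j
  show ((pe TX 1 i j : ℕ) : ZMod 11) = ((F11M.ent (F11M.prodL tabs4 wY4) i j : ℕ) : ZMod 11)
  rw [hwY4]

theorem gen_top : Subgroup.closure ({tJ, aJ 1, aJ 2, hJ} : Set ↥Cfsg.Spor.J1) = ⊤ := by
  rw [eq_top_iff]
  intro g _
  have hmem : ∀ W : List (Fin 4), (W.map gen4).prod ∈
      Subgroup.closure ({tJ, aJ 1, aJ 2, hJ} : Set ↥Cfsg.Spor.J1) := by
    intro W
    apply Subgroup.list_prod_mem
    intro x hx
    obtain ⟨l, -, rfl⟩ := List.mem_map.mp hx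
    apply Subgroup.subset_closure
    fin_cases l
    · exact Or.inl rfl
    · exact Or.inr (Or.inl rfl)
    · exact Or.inr (Or.inr (Or.inl rfl))
    · exact Or.inr (Or.inr (Or.inr rfl))
  have hle : Cfsg.Spor.J1 ≤ (Subgroup.closure
      ({tJ, aJ 1, aJ 2, hJ} : Set ↥Cfsg.Spor.J1)).map Cfsg.Spor.J1.subtype := by
    show Subgroup.closure {Cfsg.Spor.jankoX, Cfsg.Spor.jankoY} ≤ _
    rw [Subgroup.closure_le]
    rintro x (rfl | rfl)
    · exact ⟨_, hmem wX4, jX_eq.symm⟩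
    · exact ⟨_, hmem wY4, jY_eq.symm⟩
  obtain ⟨k, hk, hkg⟩ := hle g.2
  have hkg' : k = g := Subtype.ext hkg
  rw [← hkg']
  exact hk

theorem phi_one (φ : MulAut ↥Cfsg.Spor.J1) (h0 : φ tJ = tJ) (h1 : φ (aJ 1) = aJ 1)
    (h2 : φ (aJ 2) = aJ 2) (h3 : φ hJ = hJ) : φ = 1 := by
  have h : (φ.toMonoidHom : ↥Cfsg.Spor.J1 →* ↥Cfsg.Spor.J1) = MonoidHom.id _ := by
    apply MonoidHom.eq_of_eqOn_dense gen_top
    rintro x (rfl | rfl | rfl | rfl)
    · exact h0
    · exact h1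
    · exact h2
    · exact h3
  apply MulEquiv.ext
  intro x
  exact DFunLike.congr_fun h x

/-! ## The second automorphism of the table does not extend -/

theorem pow_five (x : ↥Cfsg.Spor.J1) : x ^ 5 = x * x * (x * x) * x := by
  simp only [pow_succ, pow_zero, one_mul, mul_assoc]

theorem mt_m30 : mt (hJ * aJ 30) = matP TM 0 := by
  show mt hJ * mt (aJ 30) = _
  rw [mt_hJ]
  exact matP_mul_eq _ _ _ _ _ _ hM0

theorem m30_pow : (hJ * aJ 30) ^ 5 = 1 := by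
  apply mt_inj
  rw [pow_five]
  show mt (hJ * aJ 30) * mt (hJ * aJ 30) * (mt (hJ * aJ 30) * mt (hJ * aJ 30)) *
    mt (hJ * aJ 30) = 1
  rw [mt_m30, matP_mul_eq _ _ _ _ _ _ hM1, matP_mul_eq _ _ _ _ _ _ hM2]
  exact matP_mul_one _ _ _ _ hM3

theorem mt_n2 : mt (hJ * aJ 2) = matP TM 3 := by
  show mt hJ * mt (aJ 2) = _
  rw [mt_hJ]
  exact matP_mul_eq _ _ _ _ _ _ hN0

theorem n2_pow : (hJ * aJ 2) ^ 5 ≠ 1 := by
  intro h
  rw [pow_five] at h
  have h' : mt (hJ * aJ 2) * mt (hJ * aJ 2) * (mt (hJ * aJ 2) * mt (hJ * aJ 2)) *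
      mt (hJ * aJ 2) = 1 := congrArg mt h
  rw [mt_n2, matP_mul_eq _ _ _ _ _ _ hN1, matP_mul_eq _ _ _ _ _ _ hN2] at h'
  exact hN3 (fun r c => dot_of_mul_one _ _ _ _ h' r c)

theorem no_outer (φ : MulAut ↥Cfsg.Spor.J1) (h2 : φ (aJ 2) = aJ 30) (h3 : φ hJ = hJ) :
    False := by
  have h : φ ((hJ * aJ 2) ^ 5) = 1 := by
    rw [map_pow, map_mul, h2, h3, m30_pow]
  exact n2_pow (φ.injective (h.trans (map_one φ).symm))

/-! ## Every automorphism is inner -/

theorem inn_mul_left (g : ↥Cfsg.Spor.J1) (φ : MulAut ↥Cfsg.Spor.J1)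
    (h : (MulAut.conj g)⁻¹ * φ ∈ Cfsg.Inn ↥Cfsg.Spor.J1) : φ ∈ Cfsg.Inn ↥Cfsg.Spor.J1 := by
  have h1 : MulAut.conj g ∈ Cfsg.Inn ↥Cfsg.Spor.J1 := ⟨g, rfl⟩
  have h2 := (Cfsg.Inn ↥Cfsg.Spor.J1).mul_mem h1 h
  rwa [mul_inv_cancel_left] at h2

theorem conj_inv_app (g x : ↥Cfsg.Spor.J1) (φ : MulAut ↥Cfsg.Spor.J1) :
    ((MulAut.conj g)⁻¹ * φ) x = g⁻¹ * φ x * g := rfl

theorem key2 (φ : MulAut ↥Cfsg.Spor.J1) (h0 : φ tJ = tJ) (h1 : φ (aJ 1) = aJ 1)
    (h2 : φ (aJ 2) = aJ 2 ∨ φ (aJ 2) = aJ 30) : φ ∈ Cfsg.Inn ↥Cfsg.Spor.J1 := by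
  have hext : (∀ i, φ (aJ i) = aJ i) ∨ (∀ i, φ (aJ i) = aJ (sig i)) := by
    rcases h2 with h2 | h2
    · left
      exact phi_ext φ (fun i => i) rfl (fun i hi => ((hq i hi).2.2).symm) h1 h2
    · right
      exact phi_ext φ sig hsig.1 hsig.2.2.2 (by rw [hsig.2.1]; exact h1)
        (by rw [hsig.2.2.1]; exact h2)
  have h13 : φ (aJ 13) = aJ 13 ∨ φ (aJ 13) = aJ (sig 13) := by
    rcases hext with h | h
    · exact Or.inl (h 13)
    · exact Or.inr (h 13)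
  rcases phi_h φ h0 h1 h13 with hh | hh
  · rcases h2 with h2 | h2
    · rw [phi_one φ h0 h1 h2 hh]
      exact (Cfsg.Inn ↥Cfsg.Spor.J1).one_mem
    · exact (no_outer φ h2 hh).elim
  · apply inn_mul_left tJ
    have e0 : ((MulAut.conj tJ)⁻¹ * φ) tJ = tJ := by
      rw [conj_inv_app, h0, tJ_inv, tJ_sq, one_mul]
    have e1 : ((MulAut.conj tJ)⁻¹ * φ) (aJ 1) = aJ 1 := by
      rw [conj_inv_app, h1, tJ_inv, ← aJ_comm, mul_assoc, tJ_sq, mul_one]
    have eh : ((MulAut.conj tJ)⁻¹ * φ) hJ = hJ := by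
      rw [conj_inv_app, hh, tJ_inv]
      have e : tJ * (tJ * hJ * tJ) * tJ = (tJ * tJ) * hJ * (tJ * tJ) := by group
      rw [e, tJ_sq, one_mul, mul_one]
    rcases h2 with h2 | h2
    · have e2 : ((MulAut.conj tJ)⁻¹ * φ) (aJ 2) = aJ 2 := by
        rw [conj_inv_app, h2, tJ_inv, ← aJ_comm, mul_assoc, tJ_sq, mul_one]
      rw [phi_one _ e0 e1 e2 eh]
      exact (Cfsg.Inn ↥Cfsg.Spor.J1).one_mem
    · have e2 : ((MulAut.conj tJ)⁻¹ * φ) (aJ 2) = aJ 30 := by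
        rw [conj_inv_app, h2, tJ_inv, ← aJ_comm, mul_assoc, tJ_sq, mul_one]
      exact (no_outer _ e2 eh).elim

theorem aJ_cjA (c i : Fin 60) : aJ (cjA c i) = aJ c * aJ i * (aJ c)⁻¹ := by
  rw [cjA, ← aJ_mul, ← aJ_mul, aJ_inv]

theorem key1 (φ : MulAut ↥Cfsg.Spor.J1) (h0 : φ tJ = tJ) : φ ∈ Cfsg.Inn ↥Cfsg.Spor.J1 := by
  obtain ⟨k, hk⟩ := phi_odd φ h0 2 (by rw [order_aJ2]; decide)
  obtain ⟨l, hl⟩ := phi_odd φ h0 (mA 1 2) (by rw [order_aJz]; decide)
  have hx : aJ 1 = aJ (mA 1 2) * (aJ 2)⁻¹ := by rw [← aJ_mul, mul_inv_cancel_right]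
  have hj : φ (aJ 1) = aJ (mA l (iA k)) := by
    rw [hx, map_mul, map_inv, hl, hk, aJ_inv, aJ_mul]
  generalize mA l (iA k) = j at hj
  have hj0 : j ≠ 0 := by
    intro h
    rw [h, aJ_one] at hj
    exact aJ_ne_one 1 (by decide) (φ.injective (hj.trans (map_one φ).symm))
  have hk0 : k ≠ 0 := by
    intro h
    rw [h, aJ_one] at hk
    exact aJ_ne_one 2 (by decide) (φ.injective (hk.trans (map_one φ).symm))
  have hjj : mA j j = 0 := by
    apply aJ_inj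
    rw [← aJ_mul, ← hj, ← map_mul, aJ_mul, hord.1, aJ_one, map_one]
  have hkk : mA (mA k k) k = 0 := by
    apply aJ_inj
    rw [← aJ_mul, ← aJ_mul, ← hk, ← map_mul, ← map_mul, aJ_mul, aJ_mul, hord.2.1, aJ_one,
      map_one]
  have hjk : pw5 (mA j k) = 0 := by
    apply aJ_inj
    rw [← aJ_pw5, ← aJ_mul, ← hj, ← hk, ← map_mul, ← map_pow, aJ_mul, aJ_pw5, hord.2.2,
      aJ_one, map_one]
  have e0 : ∀ c : Fin 60, ((MulAut.conj (aJ c))⁻¹ * φ) tJ = tJ := by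
    intro c
    rw [conj_inv_app, h0, mul_assoc, ← aJ_comm, inv_mul_cancel_left]
  rcases hAut j k hj0 hk0 hjj hkk hjk with ⟨c, hc1, hc2⟩ | ⟨c, hc1, hc2⟩
  · apply inn_mul_left (aJ c)
    have e1 : ((MulAut.conj (aJ c))⁻¹ * φ) (aJ 1) = aJ 1 := by
      rw [conj_inv_app, hj, ← hc1, aJ_cjA]
      group
    have e2 : ((MulAut.conj (aJ c))⁻¹ * φ) (aJ 2) = aJ 2 := by
      rw [conj_inv_app, hk, ← hc2, aJ_cjA]
      group
    exact key2 _ (e0 c) e1 (Or.inl e2)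
  · apply inn_mul_left (aJ c)
    have e1 : ((MulAut.conj (aJ c))⁻¹ * φ) (aJ 1) = aJ 1 := by
      rw [conj_inv_app, hj, ← hc1, aJ_cjA]
      group
    have e2 : ((MulAut.conj (aJ c))⁻¹ * φ) (aJ 2) = aJ 30 := by
      rw [conj_inv_app, hk, ← hc2, aJ_cjA]
      group
    exact key2 _ (e0 c) e1 (Or.inr e2)

theorem all_inner (φ : MulAut ↥Cfsg.Spor.J1) : φ ∈ Cfsg.Inn ↥Cfsg.Spor.J1 := by
  have ho : orderOf (φ tJ) = 2 := by
    rw [MulEquiv.orderOf_eq]
    exact tJ_order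
  obtain ⟨g, hg⟩ := inv_conj _ ho
  apply inn_mul_left g
  apply key1
  rw [conj_inv_app, hg]
  group

/-- The outer automorphism group of the Janko group J₁ (the group generated by two explicit 7 × 7 matrices over the integers modulo 11) is trivial: every automorphism is inner. -/
theorem result : Nat.card (Cfsg.Out ↥Cfsg.Spor.J1) = 1 := by
  have h : Cfsg.Inn ↥Cfsg.Spor.J1 = ⊤ := by
    rw [eq_top_iff]
    intro φ _
    exact all_inner φ
  exact Subgroup.index_eq_one.2 h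

end Cfsg.Agent.S2065
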