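import Cfsg.Statements.S2039
import Cfsg.Agent.S2065
import Cfsg.Agent.Lib.Helper20.J1Data2

set_option autoImplicit false
open Cfsg

namespace Cfsg.Agent.S2039

open Cfsg.Agent.Lib.Helper13 Cfsg.Agent.Lib.Helper20.J1D Cfsg.Agent.Lib.Helper20.J1D2
open Cfsg.Agent.S2065
open scoped Pointwise

/-! ## A central element of a commutative Sylow subgroup lying in the commutator subgroup -/

theorem transfer_trivial {Γ : Type*} [Group Γ] [Finite Γ] (p : ℕ) [Fact p.Prime] (S : Sylow p Γ)
    (hS : ∀ a b : Γ, a ∈ (S : Subgroup Γ) → b ∈ (S : Subgroup Γ) → a * b = b * a)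
    (z : Γ) (hzS : z ∈ (S : Subgroup Γ)) (hzc : z ∈ Subgroup.center Γ)
    (hzd : z ∈ commutator Γ) : z = 1 := by
  classical
  let cg : CommGroup ↥(S : Subgroup Γ) :=
    { (inferInstance : Group ↥(S : Subgroup Γ)) with
      mul_comm := fun a b => Subtype.ext (hS a b a.2 b.2) }
  have hkey : ∀ (k : ℕ) (g₀ : Γ), g₀⁻¹ * z ^ k * g₀ ∈ (S : Subgroup Γ) →
      g₀⁻¹ * z ^ k * g₀ = z ^ k := by
    intro k g₀ _
    have hc : z ^ k ∈ Subgroup.center Γ := Subgroup.pow_mem _ hzc k
    have h := Subgroup.mem_center_iff.mp hc g₀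
    rw [mul_assoc, ← h, inv_mul_cancel_left]
  have h1 := MonoidHom.transfer_eq_pow (MonoidHom.id ↥(S : Subgroup Γ)) z hkey
  have h2 : MonoidHom.transfer (MonoidHom.id ↥(S : Subgroup Γ)) z = 1 :=
    (Abelianization.commutator_subset_ker
      (MonoidHom.transfer (MonoidHom.id ↥(S : Subgroup Γ)))) hzd
  have h3 : z ^ (S : Subgroup Γ).index = 1 := by
    have h := congrArg Subtype.val (h1.symm.trans h2)
    exact h
  have h4 : orderOf z ∣ (S : Subgroup Γ).index := orderOf_dvd_of_pow_eq_one h3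
  obtain ⟨k, hk⟩ := S.isPGroup' ⟨z, hzS⟩
  have h5 : orderOf z ∣ p ^ k := orderOf_dvd_of_pow_eq_one (congrArg Subtype.val hk)
  have hcop : Nat.Coprime (p ^ k) (S : Subgroup Γ).index :=
    Nat.Coprime.pow_left _ ((Nat.Prime.coprime_iff_not_dvd Fact.out).mpr S.not_dvd_index)
  exact orderOf_eq_one_iff.mp (Nat.eq_one_of_dvd_coprimes hcop h5 h4)

/-! ## Commutators -/

/-- The commutator of two elements. -/
def cm {Γ : Type*} [Group Γ] (u v : Γ) : Γ := u * v * u⁻¹ * v⁻¹

theorem cm_self {Γ : Type*} [Group Γ] (u : Γ) : cm u u = 1 := by unfold cm; group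

theorem cm_anti {Γ : Type*} [Group Γ] (u v : Γ) : cm v u = (cm u v)⁻¹ := by unfold cm; group

theorem cm_conj {Γ : Type*} [Group Γ] (x u v : Γ) :
    cm (x * u * x⁻¹) (x * v * x⁻¹) = x * cm u v * x⁻¹ := by unfold cm; group

theorem cm_comm {Γ : Type*} [Group Γ] (u v : Γ) (h : cm u v = 1) : u * v = v * u := by
  have h1 : u * v = cm u v * (v * u) := by unfold cm; group
  rw [h1, h, one_mul]

theorem cm_mul_left {Γ : Type*} [Group Γ] (a b l : Γ) (h : cm b l ∈ Subgroup.center Γ) :
    cm (a * b) l = cm a l * cm b l := by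
  have hc := Subgroup.mem_center_iff.mp h
  have h1 : cm (a * b) l = a * cm b l * (l * a⁻¹ * l⁻¹) := by unfold cm; group
  have h2 : cm a l * cm b l = cm b l * a * (l * a⁻¹ * l⁻¹) := by
    rw [hc (cm a l)]; unfold cm; group
  rw [h1, h2, hc a]

theorem cm_central_left {Γ : Type*} [Group Γ] (u k v : Γ) (hk : k ∈ Subgroup.center Γ) :
    cm (u * k) v = cm u v := by
  have hc := Subgroup.mem_center_iff.mp hk
  unfold cm
  rw [mul_inv_rev, mul_assoc u k v, ← hc v]
  group

theorem cm_central_right {Γ : Type*} [Group Γ] (u v k : Γ) (hk : k ∈ Subgroup.center Γ) :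
    cm u (v * k) = cm u v := by
  rw [cm_anti (v * k) u, cm_central_left v k u hk, ← cm_anti]

/-! ## Alternating forms on the group of order eight -/

theorem hit : pi7^[6] 1 = 3 ∧ pi7^[6] 4 = 1 ∧ pi7^[4] 1 = 6 ∧ pi7^[4] 5 = 1 := by
  decide +kernel

/-- Three representatives. -/
def rep3 (t : Fin 3) : Fin 8 := if t = 0 then 4 else if t = 1 then 2 else 5

theorem hclos : ∀ i j : Fin 8, i ≠ 0 → j ≠ 0 → i ≠ j → ∃ k : Fin 7, ∃ t : Fin 3,
    (pi7^[k.val] 1 = i ∧ pi7^[k.val] (rep3 t) = j) ∨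
    (pi7^[k.val] 1 = j ∧ pi7^[k.val] (rep3 t) = i) := by
  decide +kernel

theorem beta_trivial {A : Type*} [CommGroup A] (β : Fin 8 → Fin 8 → A)
    (hadd : ∀ i j l, β (xor8 i j) l = β i l * β j l)
    (hdiag : ∀ i, β i i = 1)
    (hanti : ∀ i j, β j i = (β i j)⁻¹)
    (hinv : ∀ i j, β (pi7 i) (pi7 j) = β i j) :
    ∀ i j, β i j = 1 := by
  have h0 : ∀ l, β 0 l = 1 := by
    intro l
    have h := hadd 0 0 l
    rw [hQx] at h
    exact (mul_eq_left.mp h.symm)
  have hsq : ∀ i l, β i l * β i l = 1 := by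
    intro i l
    rw [← hadd, hQx, h0]
  have hsym : ∀ i j, β j i = β i j := by
    intro i j
    rw [hanti i j]
    exact inv_eq_of_mul_eq_one_left (hsq i j)
  have haddr : ∀ l i j, β l (xor8 i j) = β l i * β l j := by
    intro l i j
    rw [hsym (xor8 i j) l, hadd, hsym i l, hsym j l]
  have hinvk : ∀ (k : ℕ) i j, β (pi7^[k] i) (pi7^[k] j) = β i j := by
    intro k
    induction k with
    | zero => intro i j; rfl
    | succ n ih =>
      intro i j
      rw [Function.iterate_succ_apply', Function.iterate_succ_apply', hinv, ih]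
  obtain ⟨hx1, hx2, hx3, hx4, hx5, hx6, hx7⟩ := hxorv
  obtain ⟨hi1, hi2, hi3, hi4⟩ := hit
  have e31 : β 3 1 = β 1 4 := by
    have h := hinvk 6 1 4
    rw [hi1, hi2] at h
    exact h
  have e12 : β 1 2 = β 1 4 := by
    rw [← hx7, haddr, hdiag, mul_one, hsym 3 1, e31]
  have e15 : β 1 5 = β 1 4 := by
    rw [← hx1, haddr, hdiag, one_mul]
  have e61 : β 6 1 = β 1 4 := by
    have h := hinvk 4 1 5
    rw [hi3, hi4] at h
    rw [h, e15]
  have e16 : β 1 6 = 1 := by
    rw [← hx2, haddr, e12, hsq]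
  have a1 : β 1 4 = 1 := by
    rw [← e61, hsym 1 6, e16]
  have hrep : ∀ t : Fin 3, β 1 (rep3 t) = 1 := by
    intro t
    unfold rep3
    split_ifs
    · exact a1
    · rw [e12, a1]
    · rw [e15, a1]
  intro i j
  by_cases hi : i = 0
  · rw [hi, h0]
  by_cases hj : j = 0
  · rw [hj, hsym, h0]
  by_cases hij : i = j
  · rw [hij, hdiag]
  obtain ⟨k, t, h | h⟩ := hclos i j hi hj hij
  · rw [← h.1, ← h.2, hinvk, hrep]
  · rw [← h.1, ← h.2, hsym, hinvk, hrep]

/-! ## The generator acting on the group of order eight -/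

/-- The first generator as an element of the group. -/
def xJ : ↥Cfsg.Spor.J1 := ⟨J1M.gXY 0, J1M.gXY_mem 0⟩

theorem mt_xJ : mt xJ = matP TX 0 := gXY_val' 0

theorem xJ_qJ (i : Fin 8) : xJ * qJ i = qJ (pi7 i) * xJ :=
  mt_inj (by
    show mt xJ * mt (qJ i) = mt (qJ (pi7 i)) * mt xJ
    rw [mt_xJ, mt_qJ, mt_qJ]
    exact matP_mul_comm _ _ _ _ _ _ _ _ (hpi i))

theorem qJ_comm (i j : Fin 8) : qJ i * qJ j = qJ j * qJ i := by
  rw [qJ_mul, qJ_mul, hxor]

/-! ## The preimage of the group of order eight is commutative -/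

theorem comap_comm {Γ : Type} [Group Γ] (σ : Γ →* ↥Cfsg.Spor.J1)
    (hsurj : Function.Surjective σ) (hker : σ.ker ≤ Subgroup.center Γ) (u v : Γ)
    (hu : σ u ∈ PJ) (hv : σ v ∈ PJ) : u * v = v * u := by
  classical
  choose e he using fun i : Fin 8 => hsurj (qJ i)
  obtain ⟨x, hx⟩ := hsurj xJ
  have hcen : ∀ i j, cm (e i) (e j) ∈ Subgroup.center Γ := by
    intro i j
    apply hker
    rw [MonoidHom.mem_ker]
    show σ (e i * e j * (e i)⁻¹ * (e j)⁻¹) = 1
    rw [map_mul, map_mul, map_mul, map_inv, map_inv, he, he, qJ_comm i j]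
    group
  have hlift : ∀ i j, ∃ k ∈ Subgroup.center Γ, e (xor8 i j) = e i * e j * k := by
    intro i j
    refine ⟨(e i * e j)⁻¹ * e (xor8 i j), hker ?_, by group⟩
    rw [MonoidHom.mem_ker, map_mul, map_inv, map_mul, he, he, he, qJ_mul, inv_mul_cancel]
  have hconj : ∀ i, ∃ k ∈ Subgroup.center Γ, x * e i * x⁻¹ = e (pi7 i) * k := by
    intro i
    refine ⟨(e (pi7 i))⁻¹ * (x * e i * x⁻¹), hker ?_, by group⟩
    rw [MonoidHom.mem_ker, map_mul, map_inv, map_mul, map_mul, map_inv, he, he, hx, xJ_qJ i]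
    group
  let cg : CommGroup ↥(Subgroup.center Γ) :=
    { (inferInstance : Group ↥(Subgroup.center Γ)) with
      mul_comm := fun a b => Subtype.ext (Subgroup.mem_center_iff.mp b.2 a.1) }
  let β : Fin 8 → Fin 8 → ↥(Subgroup.center Γ) := fun i j => ⟨cm (e i) (e j), hcen i j⟩
  have hβ : ∀ i j, β i j = 1 := by
    apply beta_trivial β
    · intro i j l
      apply Subtype.ext
      show cm (e (xor8 i j)) (e l) = cm (e i) (e l) * cm (e j) (e l)
      obtain ⟨k, hk, hkk⟩ := hlift i j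
      rw [hkk, cm_central_left _ _ _ hk, cm_mul_left _ _ _ (hcen j l)]
    · intro i
      exact Subtype.ext (cm_self _)
    · intro i j
      exact Subtype.ext (cm_anti _ _)
    · intro i j
      apply Subtype.ext
      show cm (e (pi7 i)) (e (pi7 j)) = cm (e i) (e j)
      obtain ⟨k, hk, hkk⟩ := hconj i
      obtain ⟨k', hk', hkk'⟩ := hconj j
      have h1 := cm_conj x (e i) (e j)
      rw [hkk, hkk', cm_central_left _ _ _ hk, cm_central_right _ _ _ hk'] at h1
      rw [h1, Subgroup.mem_center_iff.mp (hcen i j) x, mul_inv_cancel_right]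
  obtain ⟨i, hi⟩ := hu
  obtain ⟨j, hj⟩ := hv
  have hku : (e i)⁻¹ * u ∈ Subgroup.center Γ := by
    apply hker
    rw [MonoidHom.mem_ker, map_mul, map_inv, he, ← hi, inv_mul_cancel]
  have hkv : (e j)⁻¹ * v ∈ Subgroup.center Γ := by
    apply hker
    rw [MonoidHom.mem_ker, map_mul, map_inv, he, ← hj, inv_mul_cancel]
  have hu' : u = e i * ((e i)⁻¹ * u) := by group
  have hv' : v = e j * ((e j)⁻¹ * v) := by group
  apply cm_comm
  rw [hu', hv', cm_central_left _ _ _ hku, cm_central_right _ _ _ hkv]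
  exact congrArg Subtype.val (hβ i j)

/-! ## Sylow subgroups of a central extension are commutative -/

theorem hsq175 : ∀ p : Fin 420, 2 < p.val → ¬ p.val ^ 2 ∣ 175560 := by decide +kernel

theorem sylow_comm {Γ : Type} [Group Γ] [Finite Γ] (σ : Γ →* ↥Cfsg.Spor.J1)
    (hsurj : Function.Surjective σ) (hker : σ.ker ≤ Subgroup.center Γ) (p : ℕ) [Fact p.Prime]
    (S : Sylow p Γ) (a b : Γ) (ha : a ∈ (S : Subgroup Γ)) (hb : b ∈ (S : Subgroup Γ)) :
    a * b = b * a := by
  classical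
  have := finite_J1
  by_cases hp : p = 2
  · subst hp
    have hT : IsPGroup 2 ((S : Subgroup Γ).map σ) := S.isPGroup'.map σ
    have hP : IsPGroup 2 PJ := IsPGroup.of_card (n := 3) (by rw [card_PJ]; norm_num)
    have hidx : ¬ 2 ∣ PJ.index := by
      have h := PJ.index_mul_card
      rw [card_PJ, card_J1] at h
      omega
    obtain ⟨Q, hQ⟩ := hT.exists_le_sylow
    obtain ⟨g, hg⟩ := MulAction.exists_smul_eq ↥Cfsg.Spor.J1 (hP.toSylow hidx) Q
    have hmem : ∀ c : Γ, c ∈ (S : Subgroup Γ) → g⁻¹ * σ c * g ∈ PJ := by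
      intro c hc
      have hsQ : σ c ∈ (Q : Subgroup ↥Cfsg.Spor.J1) := hQ (Subgroup.mem_map_of_mem σ hc)
      have h1 : g⁻¹ * σ c * g ∈ (hP.toSylow hidx : Subgroup ↥Cfsg.Spor.J1) := by
        rw [← mem_conj_iff, ← Sylow.coe_subgroup_smul, hg]
        exact hsQ
      exact (IsPGroup.mem_toSylow hP hidx).1 h1
    obtain ⟨y, hy⟩ := hsurj g
    have h1 : σ (y⁻¹ * a * y) ∈ PJ := by
      rw [map_mul, map_mul, map_inv, hy]
      exact hmem a ha
    have h2 : σ (y⁻¹ * b * y) ∈ PJ := by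
      rw [map_mul, map_mul, map_inv, hy]
      exact hmem b hb
    have h3 := comap_comm σ hsurj hker _ _ h1 h2
    have h4 : a * b = y * ((y⁻¹ * a * y) * (y⁻¹ * b * y)) * y⁻¹ := by group
    rw [h4, h3]
    group
  · have hp2 : 2 < p := lt_of_le_of_ne (Fact.out : p.Prime).two_le (Ne.symm hp)
    let f : ↥(S : Subgroup Γ) →* ↥((S : Subgroup Γ).map σ) := σ.subgroupMap (S : Subgroup Γ)
    have hf : f.ker ≤ Subgroup.center ↥(S : Subgroup Γ) := by
      intro s hs
      rw [Subgroup.mem_center_iff]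
      intro g
      have h1 : σ (s : Γ) = 1 := congrArg Subtype.val (MonoidHom.mem_ker.mp hs)
      have h2 : (s : Γ) ∈ Subgroup.center Γ := hker (MonoidHom.mem_ker.mpr h1)
      exact Subtype.ext (Subgroup.mem_center_iff.mp h2 g)
    have hT : IsPGroup p ↥((S : Subgroup Γ).map σ) := S.isPGroup'.map σ
    obtain ⟨k, hk⟩ := IsPGroup.iff_card.mp hT
    have hdvd : Nat.card ↥((S : Subgroup Γ).map σ) ∣ 175560 := by
      rw [← card_J1]
      exact Subgroup.card_subgroup_dvd_card _
    have hk1 : k ≤ 1 := by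
      by_contra hk2
      have h2 : p ^ 2 ∣ 175560 := (pow_dvd_pow p (by omega)).trans (hk ▸ hdvd)
      have hlt : p < 420 := by
        by_contra hge
        have h3 := Nat.le_of_dvd (by norm_num) h2
        nlinarith
      exact hsq175 ⟨p, hlt⟩ hp2 h2
    have hcyc : IsCyclic ↥((S : Subgroup Γ).map σ) := by
      interval_cases k
      · rw [pow_zero] at hk
        have hsub : Subsingleton ↥((S : Subgroup Γ).map σ) :=
          (Nat.card_eq_one_iff_unique.mp hk).1
        exact isCyclic_of_subsingleton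
      · rw [pow_one] at hk
        exact isCyclic_of_prime_card hk
    have h := (f.isMulCommutative_of_isCyclic_of_ker_le_center hf).is_comm.comm
      (⟨a, ha⟩ : ↥(S : Subgroup Γ)) ⟨b, hb⟩
    exact congrArg Subtype.val h

/-! ## The kernel of a stem extension is trivial -/

theorem ker_trivial {Γ : Type} [Group Γ] [Finite Γ] (σ : Γ →* ↥Cfsg.Spor.J1)
    (h : IsStemExtension σ) (z : Γ) (hz : z ∈ σ.ker) : z = 1 := by
  obtain ⟨hsurj, hker, hcomm⟩ := h
  by_contra hz1
  have hord : orderOf z ≠ 1 := fun h => hz1 (orderOf_eq_one_iff.mp h)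
  obtain ⟨p, hp, hpd⟩ := Nat.exists_prime_and_dvd hord
  have : Fact p.Prime := ⟨hp⟩
  have hwo : orderOf (z ^ (orderOf z / p)) = p :=
    orderOf_pow_orderOf_div (orderOf_pos z).ne' hpd
  have hwk : z ^ (orderOf z / p) ∈ σ.ker := Subgroup.pow_mem _ hz _
  have hZ : IsPGroup p (Subgroup.zpowers (z ^ (orderOf z / p))) :=
    IsPGroup.of_card (n := 1) (by rw [Nat.card_zpowers, hwo, pow_one])
  obtain ⟨S, hS⟩ := hZ.exists_le_sylow
  have hwS : z ^ (orderOf z / p) ∈ (S : Subgroup Γ) := hS (Subgroup.mem_zpowers _)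
  have hw1 : z ^ (orderOf z / p) = 1 :=
    transfer_trivial p S (fun a b ha hb => sylow_comm σ hsurj hker p S a b ha hb) _ hwS
      (hker hwk) (hcomm hwk)
  rw [hw1, orderOf_one] at hwo
  exact hp.one_lt.ne' hwo.symm

theorem z1_cases : ∀ a : Multiplicative (ZMod 1), a = 1 := by decide

/-- The Schur multiplier of the Janko group J₁ (the group generated by two explicit 7 × 7 matrices over the integers modulo 11) is trivial; here the Schur multiplier is described through stem extensions, as in the definitions: surjective homomorphisms onto the group from a finite group, whose kernel is central in that finite group and contained in that finite group's commutator subgroup. -/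
theorem result : Cfsg.HasCyclicSchurMultiplier ↥Cfsg.Spor.J1 1 := by
  have hfin := finite_J1
  have hk : ∀ z : ↥Cfsg.Spor.J1, z ∈ (MonoidHom.id ↥Cfsg.Spor.J1).ker → z = 1 :=
    fun z hz => MonoidHom.mem_ker.mp hz
  refine ⟨⟨↥Cfsg.Spor.J1, inferInstance, hfin, MonoidHom.id _,
    ⟨Function.surjective_id, ?_, ?_⟩, ⟨?_⟩⟩, ?_⟩
  · intro z hz
    rw [hk z hz]
    exact Subgroup.one_mem _
  · intro z hz
    rw [hk z hz]
    exact Subgroup.one_mem _
  · exact
      { toFun := fun _ => 1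
        invFun := fun _ => 1
        left_inv := fun z => Subtype.ext (hk z.1 z.2).symm
        right_inv := fun a => (z1_cases a).symm
        map_mul' := fun _ _ => (mul_one 1).symm }
  · intro Γ _ _ σ hσ
    refine ⟨1, ?_⟩
    rintro ⟨z, hz⟩
    exact ⟨1, Subtype.ext (ker_trivial σ hσ z hz).symm⟩

end Cfsg.Agent.S2039
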