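import Cfsg.Statements.S2247
import Cfsg.Agent.Lib.Helper15.SzG2

set_option autoImplicit false
open Cfsg

namespace Cfsg.Agent.S2247

/-- In the Suzuki group with q = 2^(2m+1), m ≥ 1 (realised as the stabiliser in SL₄ of the Suzuki–Tits ovoid), the normalizer of a Sylow 2-subgroup P is a maximal subgroup and is the only maximal subgroup containing P. -/
theorem result {F : Type*} [Field F] [Fintype F] {m : ℕ} (hm : 1 ≤ m) (hF : Fintype.card F = 2 ^ (2 * m + 1)) (P : Sylow 2 ↥(Cfsg.Sz F m)) :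
    IsCoatom (Subgroup.normalizer ((P : Subgroup ↥(Cfsg.Sz F m)) : Set ↥(Cfsg.Sz F m))) ∧
    ∀ M : Subgroup ↥(Cfsg.Sz F m), IsCoatom M → (P : Subgroup ↥(Cfsg.Sz F m)) ≤ M → M = Subgroup.normalizer ((P : Subgroup ↥(Cfsg.Sz F m)) : Set ↥(Cfsg.Sz F m)) := by
  have key : ∀ S : Subgroup (Matrix.SpecialLinearGroup (Fin 4) F),
      S = (Cfsg.Agent.Lib.Helper4.Suz.dat hF).G → ∀ P : Sylow 2 ↥S,
      IsCoatom (Subgroup.normalizer ((P : Subgroup ↥S) : Set ↥S)) ∧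
      ∀ M : Subgroup ↥S, IsCoatom M → (P : Subgroup ↥S) ≤ M →
        M = Subgroup.normalizer ((P : Subgroup ↥S) : Set ↥S) := by
    intro S hS
    subst hS
    intro P
    obtain ⟨k0, hk0, hk1⟩ := Cfsg.Agent.Lib.Helper4.Suz.exists_ne01 hm hF
    exact Cfsg.Agent.Lib.Helper15.SzG.sylow_main _ (Cfsg.Agent.Lib.Helper4.Suz.dat_indep hm hF)
      k0 hk0 hk1 (2 * m) hF P
  exact key _ (Cfsg.Agent.Lib.Helper4.Suz.Sz_eq hF) P

end Cfsg.Agent.S2247
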