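import Cfsg.Statements.S2271
import Mathlib

set_option autoImplicit false
open Cfsg

namespace Cfsg.Agent.S2271


set_option linter.unusedSectionVars false
set_option linter.unusedVariables false

section basics
variable {n : ℕ}

/-- number of fixed points of a permutation -/
def fx (σ : Equiv.Perm (Fin n)) : ℕ := (Finset.univ.filter (fun x => σ x = x)).card

theorem inv_app (f : Equiv.Perm (Fin n)) (x : Fin n) : f⁻¹ (f x) = x := f.symm_apply_apply x

theorem app_inv (f : Equiv.Perm (Fin n)) (x : Fin n) : f (f⁻¹ x) = x := f.apply_symm_apply x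

theorem fx_eq (σ : Equiv.Perm (Fin n)) : Nat.card (Function.fixedPoints ⇑σ) = fx σ := by
  classical
  unfold fx
  rw [Nat.card_eq_fintype_card, Fintype.card_subtype]
  exact congrArg Finset.card (Finset.filter_congr (fun x _ => Iff.rfl))

theorem fx_conj (τ σ : Equiv.Perm (Fin n)) : fx (τ * σ * τ⁻¹) = fx σ := by
  unfold fx
  symm
  refine Finset.card_equiv τ (fun x => ?_)
  rw [Finset.mem_filter, Finset.mem_filter]
  simp only [Finset.mem_univ, true_and, Equiv.Perm.mul_apply, inv_app]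
  exact ⟨fun h => by rw [h], fun h => τ.injective h⟩

theorem fx_comm (σ τ : Equiv.Perm (Fin n)) : fx (σ * τ) = fx (τ * σ) := by
  have h : τ * σ = τ * (σ * τ) * τ⁻¹ := by group
  rw [h, fx_conj]

/-- the target property -/
def Q (a b : Equiv.Perm (Fin n)) : Prop :=
  ∃ g₁ h₁ g₂ h₂ : Equiv.Perm (Fin n), g₁ ∈ alternatingGroup (Fin n) ∧
    h₁ ∈ alternatingGroup (Fin n) ∧ g₂ ∈ alternatingGroup (Fin n) ∧
    h₂ ∈ alternatingGroup (Fin n) ∧
    fx (g₁ * a * g₁⁻¹ * (h₁ * b * h₁⁻¹)) ≠ fx (g₂ * a * g₂⁻¹ * (h₂ * b * h₂⁻¹))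

theorem Q_symm {a b : Equiv.Perm (Fin n)} (h : Q b a) : Q a b := by
  obtain ⟨g₁, h₁, g₂, h₂, hg₁, hh₁, hg₂, hh₂, hne⟩ := h
  refine ⟨h₁, g₁, h₂, g₂, hh₁, hg₁, hh₂, hg₂, ?_⟩
  rw [fx_comm (h₁ * a * h₁⁻¹), fx_comm (h₂ * a * h₂⁻¹)]; exact hne

theorem Q_of {a b : Equiv.Perm (Fin n)} (h₁ h₂ : Equiv.Perm (Fin n))
    (hh₁ : h₁ ∈ alternatingGroup (Fin n)) (hh₂ : h₂ ∈ alternatingGroup (Fin n))
    (hne : fx (a * (h₁ * b * h₁⁻¹)) ≠ fx (a * (h₂ * b * h₂⁻¹))) : Q a b := by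
  refine ⟨1, h₁, 1, h₂, Subgroup.one_mem _, hh₁, Subgroup.one_mem _, hh₂, ?_⟩
  simpa using hne

/-- even permutations with prescribed values -/
theorem exists_even {k : ℕ} (f g : Fin k → Fin n) (hf : Function.Injective f)
    (hg : Function.Injective g) (hk : k + 2 ≤ n) :
    ∃ σ : Equiv.Perm (Fin n), σ ∈ alternatingGroup (Fin n) ∧ ∀ i, σ (f i) = g i := by
  classical
  obtain ⟨σ, hσ⟩ := Equiv.Perm.exists_extending_pair f g hf hg
  by_cases hs : Equiv.Perm.sign σ = 1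
  · exact ⟨σ, Equiv.Perm.mem_alternatingGroup.mpr hs, hσ⟩
  · have hcard : 1 < (Finset.univ.image g)ᶜ.card := by
      rw [Finset.card_compl, Finset.card_image_of_injective _ hg]
      simp only [Fintype.card_fin, Finset.card_univ]
      omega
    obtain ⟨p, hp, q, hq, hpq⟩ := Finset.one_lt_card.mp hcard
    have hp' : ∀ i, g i ≠ p := by
      intro i h
      rw [Finset.mem_compl] at hp
      exact hp (Finset.mem_image.mpr ⟨i, Finset.mem_univ _, h⟩)
    have hq' : ∀ i, g i ≠ q := by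
      intro i h
      rw [Finset.mem_compl] at hq
      exact hq (Finset.mem_image.mpr ⟨i, Finset.mem_univ _, h⟩)
    refine ⟨Equiv.swap p q * σ, ?_, ?_⟩
    · rw [Equiv.Perm.mem_alternatingGroup, Equiv.Perm.sign_mul, Equiv.Perm.sign_swap hpq]
      rcases Int.units_eq_one_or (Equiv.Perm.sign σ) with h | h
      · exact absurd h hs
      · rw [h]; rfl
    · intro i
      rw [Equiv.Perm.mul_apply, hσ, Equiv.swap_apply_of_ne_of_ne (hp' i) (hq' i)]

theorem exists_even2 (hn : 4 ≤ n) {u v x y : Fin n} (huv : u ≠ v) (hxy : x ≠ y) :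
    ∃ σ : Equiv.Perm (Fin n), σ ∈ alternatingGroup (Fin n) ∧ σ u = x ∧ σ v = y := by
  obtain ⟨σ, hσ, h⟩ := exists_even (n := n) (k := 2) ![u, v] ![x, y]
    (by intro i j hij; fin_cases i <;> fin_cases j <;> simp_all)
    (by intro i j hij; fin_cases i <;> fin_cases j <;> simp_all) (by omega)
  exact ⟨σ, hσ, h 0, h 1⟩

theorem exists_even3 (hn : 5 ≤ n) {u v w x y z : Fin n} (huv : u ≠ v) (huw : u ≠ w)
    (hvw : v ≠ w) (hxy : x ≠ y) (hxz : x ≠ z) (hyz : y ≠ z) :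
    ∃ σ : Equiv.Perm (Fin n), σ ∈ alternatingGroup (Fin n) ∧ σ u = x ∧ σ v = y ∧ σ w = z := by
  obtain ⟨σ, hσ, h⟩ := exists_even (n := n) (k := 3) ![u, v, w] ![x, y, z]
    (by intro i j hij; fin_cases i <;> fin_cases j <;> simp_all)
    (by intro i j hij; fin_cases i <;> fin_cases j <;> simp_all) (by omega)
  exact ⟨σ, hσ, h 0, h 1, h 2⟩

theorem exists_perm4 {u₁ u₂ u₃ u₄ x₁ x₂ x₃ x₄ : Fin n} (h12 : u₁ ≠ u₂) (h13 : u₁ ≠ u₃)
    (h14 : u₁ ≠ u₄) (h23 : u₂ ≠ u₃) (h24 : u₂ ≠ u₄) (h34 : u₃ ≠ u₄) (k12 : x₁ ≠ x₂)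
    (k13 : x₁ ≠ x₃) (k14 : x₁ ≠ x₄) (k23 : x₂ ≠ x₃) (k24 : x₂ ≠ x₄) (k34 : x₃ ≠ x₄) :
    ∃ σ : Equiv.Perm (Fin n), σ u₁ = x₁ ∧ σ u₂ = x₂ ∧ σ u₃ = x₃ ∧ σ u₄ = x₄ := by
  obtain ⟨σ, h⟩ := Equiv.Perm.exists_extending_pair (α := Fin 4) ![u₁, u₂, u₃, u₄]
    ![x₁, x₂, x₃, x₄]
    (by intro i j hij; fin_cases i <;> fin_cases j <;> simp_all)
    (by intro i j hij; fin_cases i <;> fin_cases j <;> simp_all)
  exact ⟨σ, h 0, h 1, h 2, h 3⟩

end basics

section caseA
variable {n : ℕ}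

theorem exists_moved {a : Equiv.Perm (Fin n)} (ha : a ≠ 1) : ∃ y, a y ≠ y := by
  by_contra hcon
  push Not at hcon
  exact ha (Equiv.ext hcon)

theorem caseA (hn : 5 ≤ n) (a b : Equiv.Perm (Fin n)) (ha : a ≠ 1) (hb : b ≠ 1)
    (q₁ q₂ : Fin n) (hq : q₁ ≠ q₂) (h1 : b q₁ = q₁) (h2 : b q₂ = q₂) : Q a b := by
  classical
  obtain ⟨u, hu⟩ := exists_moved hb
  obtain ⟨y, hy⟩ := exists_moved ha
  obtain ⟨h, hhA, hh1, hh2⟩ := exists_even2 (n := n) (by omega) (u := u) (v := b u)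
    (x := a y) (y := y) (Ne.symm hu) hy
  obtain ⟨b', hb'⟩ : ∃ b' : Equiv.Perm (Fin n), b' = h * b * h⁻¹ := ⟨_, rfl⟩
  have hb'p : b' (a y) = y := by
    rw [hb', Equiv.Perm.mul_apply, Equiv.Perm.mul_apply, ← hh1, inv_app, hh2]
  have hb'q : ∀ z, b z = z → b' (h z) = h z := by
    intro z hz
    rw [hb', Equiv.Perm.mul_apply, Equiv.Perm.mul_apply, inv_app, hz]
  obtain ⟨q, r, hqr, hbq, hbr, haq⟩ : ∃ q r : Fin n, q ≠ r ∧ b' q = q ∧ b' r = r ∧
      a q ≠ b'⁻¹ (a y) := by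
    by_cases hc : a (h q₁) = b'⁻¹ (a y)
    · refine ⟨h q₂, h q₁, fun e => hq (h.injective e).symm, hb'q q₂ h2, hb'q q₁ h1, ?_⟩
      intro e
      rw [← hc] at e
      exact hq (h.injective (a.injective e)).symm
    · exact ⟨h q₁, h q₂, fun e => hq (h.injective e), hb'q q₁ h1, hb'q q₂ h2, hc⟩
  have hpq : a y ≠ q := by
    intro e
    rw [e, hbq] at hb'p
    exact hy (e.trans hb'p)
  have hyq : y ≠ q := by
    intro e
    have : b' (a y) = b' q := by rw [hb'p, hbq, e]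
    exact hpq (b'.injective this)
  have hcomm : Equiv.swap q r * b' * (Equiv.swap q r)⁻¹ = b' := by
    have h3 := Equiv.swap_apply_apply b' q r
    rw [hbq, hbr] at h3
    calc Equiv.swap q r * b' * (Equiv.swap q r)⁻¹
        = (b' * Equiv.swap q r * b'⁻¹) * b' * (Equiv.swap q r)⁻¹ := by rw [← h3]
      _ = b' := by group
  have ht : Equiv.swap (a y) q * Equiv.swap q r * h ∈ alternatingGroup (Fin n) := by
    rw [Equiv.Perm.mem_alternatingGroup] at hhA ⊢
    rw [Equiv.Perm.sign_mul, Equiv.Perm.sign_mul, Equiv.Perm.sign_swap hpq,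
      Equiv.Perm.sign_swap hqr, hhA]
    rfl
  have hb'' : (Equiv.swap (a y) q * Equiv.swap q r * h) * b
      * (Equiv.swap (a y) q * Equiv.swap q r * h)⁻¹
      = Equiv.swap (a y) q * b' * (Equiv.swap (a y) q)⁻¹ := by
    calc (Equiv.swap (a y) q * Equiv.swap q r * h) * b
          * (Equiv.swap (a y) q * Equiv.swap q r * h)⁻¹
        = Equiv.swap (a y) q * (Equiv.swap q r * (h * b * h⁻¹) * (Equiv.swap q r)⁻¹)
          * (Equiv.swap (a y) q)⁻¹ := by group
      _ = Equiv.swap (a y) q * b' * (Equiv.swap (a y) q)⁻¹ := by rw [← hb', hcomm]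
  refine Q_of h (Equiv.swap (a y) q * Equiv.swap q r * h) hhA ht ?_
  rw [hb'', ← hb']
  apply Nat.ne_of_gt
  unfold fx
  apply Finset.card_lt_card
  rw [Finset.ssubset_iff_of_subset]
  · refine ⟨a y, ?_, ?_⟩
    · rw [Finset.mem_filter]
      exact ⟨Finset.mem_univ _, by rw [Equiv.Perm.mul_apply, hb'p]⟩
    · rw [Finset.mem_filter]
      rintro ⟨-, hx⟩
      rw [Equiv.Perm.mul_apply, Equiv.Perm.mul_apply, Equiv.Perm.mul_apply, Equiv.swap_inv,
        Equiv.swap_apply_left, hbq, Equiv.swap_apply_right] at hx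
      exact hy (a.injective hx)
  · intro x hx
    rw [Finset.mem_filter] at hx ⊢
    refine ⟨Finset.mem_univ _, ?_⟩
    have hx := hx.2
    rw [Equiv.Perm.mul_apply, Equiv.Perm.mul_apply, Equiv.Perm.mul_apply, Equiv.swap_inv] at hx
    rw [Equiv.Perm.mul_apply]
    by_cases hxp : x = a y
    · exfalso
      rw [hxp, Equiv.swap_apply_left, hbq, Equiv.swap_apply_right] at hx
      exact hy (a.injective hx)
    by_cases hxq : x = q
    · exfalso
      rw [hxq, Equiv.swap_apply_right, hb'p,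
        Equiv.swap_apply_of_ne_of_ne (fun e => hy e.symm) hyq] at hx
      exact hpq hx
    rw [Equiv.swap_apply_of_ne_of_ne hxp hxq] at hx
    by_cases h3 : b' x = a y
    · exfalso
      rw [h3, Equiv.swap_apply_left] at hx
      apply haq
      rw [hx, ← h3, inv_app]
    by_cases h4 : b' x = q
    · exfalso
      rw [← hbq] at h4
      exact hxq (b'.injective h4)
    rw [Equiv.swap_apply_of_ne_of_ne h3 h4] at hx
    exact hx

end caseA

section averaging
variable {n : ℕ}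

theorem exists_even1 (hn : 4 ≤ n) (u x : Fin n) :
    ∃ σ : Equiv.Perm (Fin n), σ ∈ alternatingGroup (Fin n) ∧ σ u = x := by
  obtain ⟨σ, hσ, h⟩ := exists_even (n := n) (k := 1) ![u] ![x]
    (by intro i j hij; fin_cases i; fin_cases j; rfl)
    (by intro i j hij; fin_cases i; fin_cases j; rfl) (by omega)
  exact ⟨σ, hσ, h 0⟩

theorem count1 (hn : 4 ≤ n) : ∃ M₁ : ℕ, M₁ * n = Fintype.card ↥(alternatingGroup (Fin n)) ∧
    ∀ u x : Fin n, (Finset.univ.filter
      (fun h : ↥(alternatingGroup (Fin n)) => h.1 u = x)).card = M₁ := by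
  classical
  obtain ⟨u₀, -⟩ : ∃ u₀ : Fin n, u₀ = ⟨0, by omega⟩ := ⟨_, rfl⟩
  have key : ∀ u x : Fin n, (Finset.univ.filter
      (fun h : ↥(alternatingGroup (Fin n)) => h.1 u = x)).card
      = (Finset.univ.filter (fun h : ↥(alternatingGroup (Fin n)) => h.1 u₀ = u₀)).card := by
    intro u x
    obtain ⟨k, hk, hk1⟩ := exists_even1 hn x u₀
    obtain ⟨k', hk', hk'1⟩ := exists_even1 hn u₀ u
    refine Finset.card_equiv ((Equiv.mulLeft (⟨k, hk⟩ : ↥(alternatingGroup (Fin n)))).trans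
      (Equiv.mulRight (⟨k', hk'⟩ : ↥(alternatingGroup (Fin n))))) (fun h => ?_)
    rw [Finset.mem_filter, Finset.mem_filter]
    simp only [Finset.mem_univ, true_and, Equiv.trans_apply, Equiv.coe_mulLeft,
      Equiv.coe_mulRight, Subgroup.coe_mul, Equiv.Perm.mul_apply, hk'1]
    rw [← hk1]
    exact ⟨fun e => by rw [e], fun e => k.injective e⟩
  refine ⟨_, ?_, fun u x => key u x⟩
  have h1 := Finset.card_eq_sum_card_fiberwise (f := fun h : ↥(alternatingGroup (Fin n)) => h.1 u₀)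
    (s := Finset.univ) (t := Finset.univ) (fun h _ => Finset.mem_coe.mpr (Finset.mem_univ _))
  rw [Finset.card_univ] at h1
  rw [h1]
  have h2 : ∀ x ∈ (Finset.univ : Finset (Fin n)),
      (Finset.univ.filter (fun h : ↥(alternatingGroup (Fin n)) => h.1 u₀ = x)).card
      = (Finset.univ.filter (fun h : ↥(alternatingGroup (Fin n)) => h.1 u₀ = u₀)).card :=
    fun x _ => key u₀ x
  rw [Finset.sum_congr rfl h2, Finset.sum_const, Finset.card_univ, Fintype.card_fin, smul_eq_mul,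
    mul_comm]

theorem count2 (hn : 4 ≤ n) : ∃ M₂ : ℕ,
    M₂ * (n * (n - 1)) = Fintype.card ↥(alternatingGroup (Fin n)) ∧
    ∀ u v x y : Fin n, u ≠ v → x ≠ y → (Finset.univ.filter
      (fun h : ↥(alternatingGroup (Fin n)) => h.1 u = x ∧ h.1 v = y)).card = M₂ := by
  classical
  obtain ⟨u₀, hu₀⟩ : ∃ u₀ : Fin n, u₀ = ⟨0, by omega⟩ := ⟨_, rfl⟩
  obtain ⟨v₀, hv₀⟩ : ∃ v₀ : Fin n, v₀ = ⟨1, by omega⟩ := ⟨_, rfl⟩
  have huv₀ : u₀ ≠ v₀ := by
    rw [hu₀, hv₀]; intro e; simp [Fin.ext_iff] at e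
  have key : ∀ u v x y : Fin n, u ≠ v → x ≠ y → (Finset.univ.filter
      (fun h : ↥(alternatingGroup (Fin n)) => h.1 u = x ∧ h.1 v = y)).card
      = (Finset.univ.filter
        (fun h : ↥(alternatingGroup (Fin n)) => h.1 u₀ = u₀ ∧ h.1 v₀ = v₀)).card := by
    intro u v x y huv hxy
    obtain ⟨k, hk, hk1, hk2⟩ := exists_even2 hn hxy huv₀
    obtain ⟨k', hk', hk'1, hk'2⟩ := exists_even2 hn huv₀ huv
    refine Finset.card_equiv ((Equiv.mulLeft (⟨k, hk⟩ : ↥(alternatingGroup (Fin n)))).trans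
      (Equiv.mulRight (⟨k', hk'⟩ : ↥(alternatingGroup (Fin n))))) (fun h => ?_)
    rw [Finset.mem_filter, Finset.mem_filter]
    simp only [Finset.mem_univ, true_and, Equiv.trans_apply, Equiv.coe_mulLeft,
      Equiv.coe_mulRight, Subgroup.coe_mul, Equiv.Perm.mul_apply, hk'1, hk'2]
    rw [← hk1, ← hk2]
    exact ⟨fun e => by rw [e.1, e.2]; exact ⟨rfl, rfl⟩,
      fun e => ⟨k.injective e.1, k.injective e.2⟩⟩
  refine ⟨_, ?_, fun u v x y huv hxy => key u v x y huv hxy⟩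
  have h1 := Finset.card_eq_sum_card_fiberwise
    (f := fun h : ↥(alternatingGroup (Fin n)) => (h.1 u₀, h.1 v₀))
    (s := Finset.univ) (t := (Finset.univ : Finset (Fin n)).offDiag) (fun h _ => by
      rw [Finset.mem_coe, Finset.mem_offDiag]
      exact ⟨Finset.mem_univ _, Finset.mem_univ _, fun e => huv₀ (h.1.injective e)⟩)
  rw [Finset.card_univ] at h1
  rw [h1]
  have h2 : ∀ p ∈ (Finset.univ : Finset (Fin n)).offDiag,
      (Finset.univ.filter (fun h : ↥(alternatingGroup (Fin n)) => (h.1 u₀, h.1 v₀) = p)).card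
      = (Finset.univ.filter
        (fun h : ↥(alternatingGroup (Fin n)) => h.1 u₀ = u₀ ∧ h.1 v₀ = v₀)).card := by
    rintro ⟨x, y⟩ hp
    rw [Finset.mem_offDiag] at hp
    rw [← key u₀ v₀ x y huv₀ hp.2.2]
    exact congrArg Finset.card (Finset.filter_congr (fun h _ => Prod.mk.injEq _ _ _ _ ▸ Iff.rfl))
  rw [Finset.sum_congr rfl h2, Finset.sum_const, Finset.offDiag_card, Finset.card_univ,
    Fintype.card_fin, smul_eq_mul, mul_comm, Nat.mul_sub_one]

end averaging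

section averaging2
variable {n : ℕ}

theorem card_moved (a : Equiv.Perm (Fin n)) :
    (Finset.univ.filter (fun x : Fin n => ¬ a x = x)).card = n - fx a := by
  classical
  have h := Finset.card_filter_add_card_filter_not (s := (Finset.univ : Finset (Fin n)))
    (fun x : Fin n => a x = x)
  rw [Finset.card_univ, Fintype.card_fin] at h
  unfold fx
  omega

theorem avg (hn : 4 ≤ n) (a b : Equiv.Perm (Fin n)) (N₀ : ℕ)
    (hconst : ∀ h ∈ alternatingGroup (Fin n), fx (a * (h * b * h⁻¹)) = N₀) :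
    fx a * fx b * (n - 1) + (n - fx a) * (n - fx b) = n * (n - 1) * N₀ := by
  classical
  obtain ⟨M₁, hM₁, hc1⟩ := count1 hn
  obtain ⟨M₂, hM₂, hc2⟩ := count2 hn
  have hfx : ∀ h : ↥(alternatingGroup (Fin n)), fx (a * (h.1 * b * h.1⁻¹))
      = (Finset.univ.filter (fun u : Fin n => a (h.1 (b u)) = h.1 u)).card := by
    intro h
    unfold fx
    symm
    refine Finset.card_equiv h.1 (fun u => ?_)
    rw [Finset.mem_filter, Finset.mem_filter]
    simp only [Finset.mem_univ, true_and, Equiv.Perm.mul_apply, inv_app]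
  have hS1 : ∑ h : ↥(alternatingGroup (Fin n)),
      (Finset.univ.filter (fun u : Fin n => a (h.1 (b u)) = h.1 u)).card
      = Fintype.card ↥(alternatingGroup (Fin n)) * N₀ := by
    rw [Finset.sum_congr rfl (fun h _ => (hfx h).symm),
      Finset.sum_congr rfl (fun h _ => hconst h.1 h.2), Finset.sum_const, Finset.card_univ,
      smul_eq_mul]
  have hS2 : ∑ h : ↥(alternatingGroup (Fin n)),
      (Finset.univ.filter (fun u : Fin n => a (h.1 (b u)) = h.1 u)).card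
      = ∑ u : Fin n, (Finset.univ.filter
        (fun h : ↥(alternatingGroup (Fin n)) => a (h.1 (b u)) = h.1 u)).card := by
    simp only [Finset.card_filter]
    exact Finset.sum_comm
  have hu : ∀ u : Fin n, (Finset.univ.filter
      (fun h : ↥(alternatingGroup (Fin n)) => a (h.1 (b u)) = h.1 u)).card
      = if b u = u then fx a * M₁ else (n - fx a) * M₂ := by
    intro u
    split_ifs with hbu
    · rw [hbu]
      have h1 := Finset.card_eq_sum_card_fiberwise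
        (f := fun h : ↥(alternatingGroup (Fin n)) => h.1 u)
        (s := Finset.univ.filter (fun h : ↥(alternatingGroup (Fin n)) => a (h.1 u) = h.1 u))
        (t := Finset.univ.filter (fun x : Fin n => a x = x))
        (fun h hh => by
          rw [Finset.mem_coe, Finset.mem_filter] at hh ⊢
          exact ⟨Finset.mem_univ _, hh.2⟩)
      rw [h1]
      have h2 : ∀ x ∈ Finset.univ.filter (fun x : Fin n => a x = x),
          ((Finset.univ.filter (fun h : ↥(alternatingGroup (Fin n)) => a (h.1 u) = h.1 u)).filter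
            (fun h => h.1 u = x)).card = M₁ := by
        intro x hx
        rw [Finset.mem_filter] at hx
        rw [← hc1 u x, Finset.filter_filter]
        refine congrArg Finset.card (Finset.filter_congr (fun h _ => ?_))
        constructor
        · exact fun e => e.2
        · intro e
          refine ⟨?_, e⟩
          rw [e]; exact hx.2
      rw [Finset.sum_congr rfl h2, Finset.sum_const, smul_eq_mul]
      rfl
    · have h1 := Finset.card_eq_sum_card_fiberwise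
        (f := fun h : ↥(alternatingGroup (Fin n)) => h.1 u)
        (s := Finset.univ.filter
          (fun h : ↥(alternatingGroup (Fin n)) => a (h.1 (b u)) = h.1 u))
        (t := Finset.univ.filter (fun x : Fin n => ¬ a x = x))
        (fun h hh => by
          rw [Finset.mem_coe, Finset.mem_filter] at hh ⊢
          refine ⟨Finset.mem_univ _, fun e => hbu ?_⟩
          exact h.1.injective (a.injective (hh.2.trans e.symm)))
      rw [h1]
      have h2 : ∀ x ∈ Finset.univ.filter (fun x : Fin n => ¬ a x = x),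
          ((Finset.univ.filter
            (fun h : ↥(alternatingGroup (Fin n)) => a (h.1 (b u)) = h.1 u)).filter
            (fun h => h.1 u = x)).card = M₂ := by
        intro x hx
        rw [Finset.mem_filter] at hx
        have hx2 : x ≠ a⁻¹ x := by
          intro e
          apply hx.2
          nth_rewrite 1 [e]
          rw [app_inv]
        rw [← hc2 u (b u) x (a⁻¹ x) (Ne.symm hbu) hx2, Finset.filter_filter]
        refine congrArg Finset.card (Finset.filter_congr (fun h _ => ?_))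
        constructor
        · rintro ⟨e1, e2⟩
          refine ⟨e2, ?_⟩
          rw [← e2, ← e1, inv_app]
        · rintro ⟨e1, e2⟩
          refine ⟨?_, e1⟩
          rw [e2, app_inv, e1]
      rw [Finset.sum_congr rfl h2, Finset.sum_const, smul_eq_mul, card_moved]
  have hsum : ∑ u : Fin n, (if b u = u then fx a * M₁ else (n - fx a) * M₂)
      = fx b * (fx a * M₁) + (n - fx b) * ((n - fx a) * M₂) := by
    rw [Finset.sum_ite, Finset.sum_const, Finset.sum_const, smul_eq_mul, smul_eq_mul, card_moved]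
    rfl
  have hfin : Fintype.card ↥(alternatingGroup (Fin n)) * N₀
      = fx b * (fx a * M₁) + (n - fx b) * ((n - fx a) * M₂) := by
    rw [← hS1, hS2, Finset.sum_congr rfl (fun u _ => hu u), hsum]
  have hpos : 0 < Fintype.card ↥(alternatingGroup (Fin n)) := Fintype.card_pos
  apply Nat.eq_of_mul_eq_mul_left hpos
  obtain ⟨m1, hm1⟩ : ∃ m1, m1 = n - 1 := ⟨_, rfl⟩
  obtain ⟨ra, hra⟩ : ∃ ra, ra = n - fx a := ⟨_, rfl⟩
  obtain ⟨rb, hrb⟩ : ∃ rb, rb = n - fx b := ⟨_, rfl⟩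
  rw [← hm1] at hM₂ ⊢
  rw [← hra, ← hrb] at hfin ⊢
  calc Fintype.card ↥(alternatingGroup (Fin n)) * (fx a * fx b * m1 + ra * rb)
      = fx a * fx b * m1 * (M₁ * n) + ra * rb * (M₂ * (n * m1)) := by rw [hM₁, hM₂]; ring
    _ = (fx b * (fx a * M₁) + rb * (ra * M₂)) * (n * m1) := by ring
    _ = Fintype.card ↥(alternatingGroup (Fin n)) * N₀ * (n * m1) := by rw [hfin]
    _ = Fintype.card ↥(alternatingGroup (Fin n)) * (n * m1 * N₀) := by ring

end averaging2

section caseB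
variable {n : ℕ}

theorem caseB_none (hn : 5 ≤ n) (a b : Equiv.Perm (Fin n)) (ha : a ≠ 1) (hb : b ≠ 1)
    (hna : ∀ y, a y ≠ y → a (a y) ≠ y) (hnb : ∀ u, b u ≠ u → b (b u) ≠ u) :
    ∃ h ∈ alternatingGroup (Fin n), 2 ≤ fx (a * (h * b * h⁻¹)) := by
  classical
  obtain ⟨u, hu⟩ := exists_moved hb
  obtain ⟨y, hy⟩ := exists_moved ha
  have hu2 : b u ≠ b (b u) := fun e => hu (b.injective e).symm
  have hy2 : a (a y) ≠ a y := fun e => hy (a.injective e)
  obtain ⟨h, hh, h1, h2, h3⟩ := exists_even3 hn (u := u) (v := b u) (w := b (b u))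
    (x := a (a y)) (y := a y) (z := y) (Ne.symm hu) (Ne.symm (hnb u hu)) hu2 hy2 (hna y hy) hy
  refine ⟨h, hh, ?_⟩
  unfold fx
  apply Finset.one_lt_card.mpr
  refine ⟨a y, ?_, a (a y), ?_, Ne.symm hy2⟩
  · rw [Finset.mem_filter]
    refine ⟨Finset.mem_univ _, ?_⟩
    rw [Equiv.Perm.mul_apply, Equiv.Perm.mul_apply, Equiv.Perm.mul_apply]
    nth_rewrite 1 [← h2]
    rw [inv_app, h3]
  · rw [Finset.mem_filter]
    refine ⟨Finset.mem_univ _, ?_⟩
    rw [Equiv.Perm.mul_apply, Equiv.Perm.mul_apply, Equiv.Perm.mul_apply]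
    nth_rewrite 1 [← h1]
    rw [inv_app, h2]

theorem caseB_free (hn : 5 ≤ n) (a b : Equiv.Perm (Fin n)) (ha4 : 4 ≤ n - fx a)
    (hb4 : 4 ≤ n - fx b) (hb2 : ∃ u₀, b u₀ ≠ u₀ ∧ b (b u₀) = u₀) :
    ∃ h ∈ alternatingGroup (Fin n), 2 ≤ fx (a * (h * b * h⁻¹)) := by
  classical
  obtain ⟨u₀, hu₀, hu₀2⟩ := hb2
  -- a second arrow of b
  obtain ⟨u₂, hu₂m, hu₂⟩ : ∃ u₂ ∈ Finset.univ.filter (fun x : Fin n => ¬ b x = x),
      u₂ ∉ ({u₀, b u₀} : Finset (Fin n)) := by
    apply Finset.exists_mem_notMem_of_card_lt_card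
    rw [card_moved]
    have : ({u₀, b u₀} : Finset (Fin n)).card ≤ 2 := Finset.card_le_two
    omega
  rw [Finset.mem_filter] at hu₂m
  rw [Finset.mem_insert, Finset.mem_singleton, not_or] at hu₂
  -- two arrows of a
  obtain ⟨y₁, hy₁⟩ : ∃ y₁ : Fin n, a y₁ ≠ y₁ := by
    have : 0 < (Finset.univ.filter (fun x : Fin n => ¬ a x = x)).card := by
      rw [card_moved]; omega
    obtain ⟨y₁, hy₁⟩ := Finset.card_pos.mp this
    exact ⟨y₁, (Finset.mem_filter.mp hy₁).2⟩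
  obtain ⟨y₂, hy₂m, hy₂⟩ : ∃ y₂ ∈ Finset.univ.filter (fun x : Fin n => ¬ a x = x),
      y₂ ∉ ({y₁, a y₁, a⁻¹ y₁} : Finset (Fin n)) := by
    apply Finset.exists_mem_notMem_of_card_lt_card
    rw [card_moved]
    have : ({y₁, a y₁, a⁻¹ y₁} : Finset (Fin n)).card ≤ 3 := Finset.card_le_three
    omega
  rw [Finset.mem_filter] at hy₂m
  rw [Finset.mem_insert, Finset.mem_insert, Finset.mem_singleton, not_or, not_or] at hy₂
  obtain ⟨h₀, k1, k2, k3, k4⟩ := exists_perm4 (n := n) (u₁ := u₀) (u₂ := b u₀) (u₃ := u₂)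
    (u₄ := b u₂) (x₁ := a y₁) (x₂ := y₁) (x₃ := a y₂) (x₄ := y₂)
    (Ne.symm hu₀) (Ne.symm hu₂.1)
    (fun e => hu₂.2 (b.injective (by rw [← e, hu₀2]))) (Ne.symm hu₂.2)
    (fun e => hu₂.1 (b.injective e).symm) (Ne.symm hu₂m.2)
    hy₁ (fun e => hy₂.1 (a.injective e).symm)
    (Ne.symm hy₂.2.1)
    (fun e => hy₂.2.2 (by rw [e, inv_app])) (Ne.symm hy₂.1) hy₂m.2
  have hfix : 2 ≤ fx (a * (h₀ * b * h₀⁻¹)) := by
    unfold fx
    apply Finset.one_lt_card.mpr
    refine ⟨a y₁, ?_, a y₂, ?_, fun e => hy₂.1 (a.injective e).symm⟩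
    · rw [Finset.mem_filter]
      refine ⟨Finset.mem_univ _, ?_⟩
      rw [Equiv.Perm.mul_apply, Equiv.Perm.mul_apply, Equiv.Perm.mul_apply]
      nth_rewrite 1 [← k1]
      rw [inv_app, k2]
    · rw [Finset.mem_filter]
      refine ⟨Finset.mem_univ _, ?_⟩
      rw [Equiv.Perm.mul_apply, Equiv.Perm.mul_apply, Equiv.Perm.mul_apply]
      nth_rewrite 1 [← k3]
      rw [inv_app, k4]
  by_cases hs : Equiv.Perm.sign h₀ = 1
  · exact ⟨h₀, Equiv.Perm.mem_alternatingGroup.mpr hs, hfix⟩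
  · refine ⟨h₀ * Equiv.swap u₀ (b u₀), ?_, ?_⟩
    · rw [Equiv.Perm.mem_alternatingGroup, Equiv.Perm.sign_mul,
        Equiv.Perm.sign_swap (Ne.symm hu₀)]
      rcases Int.units_eq_one_or (Equiv.Perm.sign h₀) with h | h
      · exact absurd h hs
      · rw [h]; rfl
    · have h3 := Equiv.swap_apply_apply b u₀ (b u₀)
      rw [hu₀2, Equiv.swap_comm] at h3
      have h4 : Equiv.swap u₀ (b u₀) * b * (Equiv.swap u₀ (b u₀))⁻¹ = b := by
        calc Equiv.swap u₀ (b u₀) * b * (Equiv.swap u₀ (b u₀))⁻¹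
            = (b * Equiv.swap u₀ (b u₀) * b⁻¹) * b * (Equiv.swap u₀ (b u₀))⁻¹ := by rw [← h3]
          _ = b := by group
      have h5 : h₀ * Equiv.swap u₀ (b u₀) * b * (h₀ * Equiv.swap u₀ (b u₀))⁻¹
          = h₀ * b * h₀⁻¹ := by
        calc h₀ * Equiv.swap u₀ (b u₀) * b * (h₀ * Equiv.swap u₀ (b u₀))⁻¹
            = h₀ * (Equiv.swap u₀ (b u₀) * b * (Equiv.swap u₀ (b u₀))⁻¹) * h₀⁻¹ := by group
          _ = h₀ * b * h₀⁻¹ := by rw [h4]
      rw [h5]; exact hfix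

theorem caseB_core (hn : 5 ≤ n) (a b : Equiv.Perm (Fin n)) (hfa : fx a ≤ 1) (hfb : fx b ≤ 1)
    (hex : ∃ h ∈ alternatingGroup (Fin n), 2 ≤ fx (a * (h * b * h⁻¹))) : Q a b := by
  by_contra hQ
  have hconst : ∀ h ∈ alternatingGroup (Fin n), fx (a * (h * b * h⁻¹)) = fx (a * b) := by
    intro h hh
    by_contra hne
    exact hQ (Q_of h 1 hh (Subgroup.one_mem _) (by simpa using hne))
  have havg := avg (by omega) a b (fx (a * b)) hconst
  obtain ⟨h, hh, h2⟩ := hex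
  rw [hconst h hh] at h2
  obtain ⟨N₀, hN₀⟩ : ∃ N₀, N₀ = fx (a * b) := ⟨_, rfl⟩
  rw [← hN₀] at havg h2
  obtain ⟨m, rfl⟩ : ∃ m, n = m + 1 := ⟨n - 1, by omega⟩
  have hm : 4 ≤ m := by omega
  have h3 : (m + 1) * m * 2 ≤ (m + 1) * m * N₀ := Nat.mul_le_mul_left _ h2
  rw [Nat.add_sub_cancel] at havg
  have ha' : fx a = 0 ∨ fx a = 1 := by omega
  have hb' : fx b = 0 ∨ fx b = 1 := by omega
  rcases ha' with ha' | ha' <;> rcases hb' with hb' | hb' <;> rw [ha', hb'] at havg <;>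
    simp only [Nat.sub_zero, Nat.add_sub_cancel, zero_mul, mul_zero, one_mul, mul_one,
      zero_add] at havg <;> nlinarith

theorem main (hn : 5 ≤ n) (a b : Equiv.Perm (Fin n)) (ha : a ≠ 1) (hb : b ≠ 1) : Q a b := by
  classical
  by_cases hb2 : ∃ q₁ q₂, q₁ ≠ q₂ ∧ b q₁ = q₁ ∧ b q₂ = q₂
  · obtain ⟨q₁, q₂, hq, h1, h2⟩ := hb2
    exact caseA hn a b ha hb q₁ q₂ hq h1 h2
  by_cases ha2 : ∃ q₁ q₂, q₁ ≠ q₂ ∧ a q₁ = q₁ ∧ a q₂ = q₂
  · obtain ⟨q₁, q₂, hq, h1, h2⟩ := ha2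
    exact Q_symm (caseA hn b a hb ha q₁ q₂ hq h1 h2)
  have hfa : fx a ≤ 1 := by
    by_contra hcon
    rw [not_le] at hcon
    obtain ⟨q₁, hq₁, q₂, hq₂, hne⟩ := Finset.one_lt_card.mp hcon
    exact ha2 ⟨q₁, q₂, hne, (Finset.mem_filter.mp hq₁).2, (Finset.mem_filter.mp hq₂).2⟩
  have hfb : fx b ≤ 1 := by
    by_contra hcon
    rw [not_le] at hcon
    obtain ⟨q₁, hq₁, q₂, hq₂, hne⟩ := Finset.one_lt_card.mp hcon
    exact hb2 ⟨q₁, q₂, hne, (Finset.mem_filter.mp hq₁).2, (Finset.mem_filter.mp hq₂).2⟩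
  by_cases h2b : ∃ u₀, b u₀ ≠ u₀ ∧ b (b u₀) = u₀
  · exact caseB_core hn a b hfa hfb (caseB_free hn a b (by omega) (by omega) h2b)
  by_cases h2a : ∃ y₀, a y₀ ≠ y₀ ∧ a (a y₀) = y₀
  · exact Q_symm (caseB_core hn b a hfb hfa (caseB_free hn b a (by omega) (by omega) h2a))
  · refine caseB_core hn a b hfa hfb (caseB_none hn a b ha hb ?_ ?_)
    · intro y hy e
      exact h2a ⟨y, hy, e⟩
    · intro u hu e
      exact h2b ⟨u, hu, e⟩

end caseB

/-- Let n ≥ 5 and let a, b be non-identity permutations in the symmetric group S_n. Then the number of fixed points is not constant on the set of products a′b′ with a′ conjugate to a and b′ conjugate to b under the alternating group: there are even permutations g₁, h₁, g₂, h₂ such that (g₁ a g₁⁻¹)(h₁ b h₁⁻¹) and (g₂ a g₂⁻¹)(h₂ b h₂⁻¹) have different numbers of fixed points. -/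
theorem result (n : ℕ) (hn : 5 ≤ n) (a b : Equiv.Perm (Fin n)) (ha : a ≠ 1) (hb : b ≠ 1) :
    ∃ g₁ h₁ g₂ h₂ : Equiv.Perm (Fin n), g₁ ∈ alternatingGroup (Fin n) ∧ h₁ ∈ alternatingGroup (Fin n) ∧ g₂ ∈ alternatingGroup (Fin n) ∧ h₂ ∈ alternatingGroup (Fin n) ∧
      Nat.card (Function.fixedPoints ⇑(g₁ * a * g₁⁻¹ * (h₁ * b * h₁⁻¹))) ≠
        Nat.card (Function.fixedPoints ⇑(g₂ * a * g₂⁻¹ * (h₂ * b * h₂⁻¹))) := by
  have hmain := main hn a b ha hb
  unfold Q at hmain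
  obtain ⟨g₁, h₁, g₂, h₂, hg₁, hh₁, hg₂, hh₂, hne⟩ := hmain
  refine ⟨g₁, h₁, g₂, h₂, hg₁, hh₁, hg₂, hh₂, ?_⟩
  rw [fx_eq, fx_eq]
  exact hne

end Cfsg.Agent.S2271
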