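import Cfsg.Statements.S2277
import Cfsg.Agent.Lib.Helper1.CoprimeSylow
import Cfsg.Agent.Lib.Helper1.Coprime
import Cfsg.Agent.Lib.Helper1.ThompsonAux
import Cfsg.Agent.Lib.Helper14.SylowAux
import Cfsg.Agent.Lib.Helper11.Misc

set_option autoImplicit false
open Cfsg

namespace Cfsg.Agent.S2277

set_option linter.style.haveILetI false

section Core
variable {V : Type*} [CommGroup V]

/-- The subgroup of vectors on which two automorphisms agree. -/
def eig (g u : MulAut V) : Subgroup V where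
  carrier := {v | g v = u v}
  mul_mem' := by
    intro a b ha hb
    simp only [Set.mem_ofPred_eq] at *
    rw [map_mul, map_mul, ha, hb]
  one_mem' := by simp
  inv_mem' := by
    intro a ha
    simp only [Set.mem_ofPred_eq] at *
    rw [map_inv, map_inv, ha]

theorem mem_eig {g u : MulAut V} {v : V} : v ∈ eig g u ↔ g v = u v := Iff.rfl

/-- The fixed-point subgroup. -/
def fixSub (g : MulAut V) : Subgroup V := eig g 1

theorem mem_fixSub {g : MulAut V} {v : V} : v ∈ fixSub g ↔ g v = v := Iff.rfl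

/-- The norm-like product along the powers of `u`. -/
def nrm (u : MulAut V) (r : ℕ) (t : V) : V := ∏ j ∈ Finset.range r, (u ^ j) t

theorem nrm_one (r : ℕ) (t : V) : nrm (1 : MulAut V) r t = t ^ r := by
  simp [nrm]

theorem nrm_mem_fix (u : MulAut V) (r : ℕ) (hu : u ^ r = 1) (t : V) :
    nrm u r t ∈ fixSub u := by
  rw [mem_fixSub]
  unfold nrm
  rw [map_prod]
  have h1 : ∀ j, u ((u ^ j) t) = (u ^ (j + 1)) t := by
    intro j
    rw [pow_succ']
    rfl
  simp only [h1]
  have h2 := Finset.prod_range_succ' (fun j => (u ^ j) t) r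
  have h3 := Finset.prod_range_succ (fun j => (u ^ j) t) r
  simp only [hu, pow_zero, MulAut.one_apply] at h2 h3
  rw [h3] at h2
  exact (mul_right_cancel h2).symm

theorem fix_central {Pb : Subgroup (MulAut V)}
    (hirr : ∀ W : Subgroup V, (∀ a ∈ Pb, ∀ w ∈ W, a w ∈ W) → W = ⊥ ∨ W = ⊤)
    (u : MulAut V) (hu : ∀ h ∈ Pb, h * u = u * h) (hu1 : u ≠ 1) : fixSub u = ⊥ := by
  rcases hirr (fixSub u) (by
    intro a ha w hw
    rw [mem_fixSub] at hw ⊢
    have := DFunLike.congr_fun (hu a ha) w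
    simp only [MulAut.mul_apply] at this
    rw [← this, hw]) with h | h
  · exact h
  · exfalso
    apply hu1
    ext v
    have : v ∈ fixSub u := by rw [h]; trivial
    simpa [mem_fixSub] using this

theorem pow_eig (g u : MulAut V) (hgu : g * u = u * g) (t : V) (ht : g t = u t) (j : ℕ) :
    (g ^ j) t = (u ^ j) t := by
  induction j with
  | zero => simp
  | succ j ih =>
    have hc : Commute g (u ^ j) := (show Commute g u from hgu).pow_right j
    have h1 : (g ^ (j + 1)) t = g ((g ^ j) t) := by rw [pow_succ']; rfl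
    have h2 : (u ^ (j + 1)) t = (u ^ j) (u t) := by rw [pow_succ]; rfl
    have h3 : g ((u ^ j) t) = (u ^ j) (g t) := DFunLike.congr_fun hc.eq t
    rw [h1, ih, h3, ht, h2]

theorem vdm (g w : MulAut V) (hgw : g * w = w * g) (r e : ℕ) (t₀ t₁ t₂ : V)
    (h0 : g t₀ = t₀) (h1 : g t₁ = w t₁) (h2 : g t₂ = (w ^ 2) t₂) (h : t₀ * t₁ * t₂ = 1) :
    nrm (w ^ e) r t₀ * nrm (w ^ (e + 1)) r t₁ * nrm (w ^ (e + 2)) r t₂ = 1 := by
  unfold nrm
  rw [← Finset.prod_mul_distrib, ← Finset.prod_mul_distrib]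
  apply Finset.prod_eq_one
  intro j _
  have hc2 : g * w ^ 2 = w ^ 2 * g := ((show Commute g w from hgw).pow_right 2).eq
  have e0 : (g ^ j) t₀ = t₀ := by
    have := pow_eig g 1 (by simp) t₀ (by simpa using h0) j
    simpa using this
  have e1 : (g ^ j) t₁ = (w ^ j) t₁ := pow_eig g w hgw t₁ h1 j
  have e2 : (g ^ j) t₂ = ((w ^ 2) ^ j) t₂ := pow_eig g (w ^ 2) hc2 t₂ h2 j
  have key : ((w ^ e) ^ j) ((g ^ j) (t₀ * t₁ * t₂)) = 1 := by rw [h]; simp
  rw [map_mul, map_mul, map_mul, map_mul, e0, e1, e2] at key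
  have k1 : ((w ^ e) ^ j) ((w ^ j) t₁) = ((w ^ (e + 1)) ^ j) t₁ := by
    rw [← MulAut.mul_apply, ← pow_mul, ← pow_add, ← pow_mul]
    congr 2
    ring
  have k2 : ((w ^ e) ^ j) (((w ^ 2) ^ j) t₂) = ((w ^ (e + 2)) ^ j) t₂ := by
    rw [← MulAut.mul_apply, ← pow_mul, ← pow_mul, ← pow_add, ← pow_mul]
    congr 2
    ring
  rw [k1, k2] at key
  exact key

theorem eq_one_of_pow_coprime [Finite V] {r : ℕ} (hr : r.Coprime (Nat.card V)) {t : V}
    (ht : t ^ r = 1) : t = 1 := by
  have h1 : orderOf t ∣ r := orderOf_dvd_of_pow_eq_one ht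
  have h2 : orderOf t ∣ Nat.card V := orderOf_dvd_natCard t
  have h3 : orderOf t = 1 := Nat.eq_one_of_dvd_coprimes hr h1 h2
  exact orderOf_eq_one_iff.mp h3

theorem fix_cube [Finite V] (p : ℕ) [Fact p.Prime] (hp3 : 3 ≤ p)
    (hcop : (Nat.card V).Coprime p)
    {Pb : Subgroup (MulAut V)} (hPb : IsPGroup p ↥Pb)
    (hirr : ∀ W : Subgroup V, (∀ a ∈ Pb, ∀ w ∈ W, a w ∈ W) → W = ⊥ ∨ W = ⊤)
    (b g w : MulAut V) (hg : g ∈ Pb) (hb : b ∈ Pb) (hwP : w ∈ Pb)
    (hw : ∀ h ∈ Pb, h * w = w * h) (hgb : g * b = w * (b * g)) (hw1 : w ≠ 1) :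
    Nat.card (fixSub g) ^ 3 ≤ Nat.card V := by
  have hgw : g * w = w * g := hw g hg
  -- the order of w
  obtain ⟨k, hk⟩ := (IsPGroup.iff_orderOf.mp hPb) ⟨w, hwP⟩
  rw [Subgroup.orderOf_mk] at hk
  set r := orderOf w with hr
  have hk0 : k ≠ 0 := by
    rintro rfl
    rw [pow_zero] at hk
    exact hw1 (orderOf_eq_one_iff.mp hk)
  have hr3 : 3 ≤ r := by
    rw [hk]
    calc 3 ≤ p := hp3
      _ = p ^ 1 := (pow_one p).symm
      _ ≤ p ^ k := Nat.pow_le_pow_right (Fact.out : p.Prime).pos (Nat.one_le_iff_ne_zero.mpr hk0)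
  have hrcop : r.Coprime (Nat.card V) := by
    rw [hk]
    exact Nat.Coprime.pow_left k hcop.symm
  have hwr : w ^ r = 1 := pow_orderOf_eq_one w
  -- central powers
  have hwn : ∀ n : ℕ, ∀ h ∈ Pb, h * w ^ n = w ^ n * h := fun n h hh =>
    ((show Commute h w from hw h hh).pow_right n).eq
  have hnd : ∀ n t, ¬ r ∣ n → nrm (w ^ n) r t = 1 := by
    intro n t hn
    have h1 : w ^ n ≠ 1 := fun h => hn (orderOf_dvd_of_pow_eq_one h)
    have h2 := fix_central hirr (w ^ n) (hwn n) h1
    have h3 := nrm_mem_fix (w ^ n) r (by rw [← pow_mul, mul_comm, pow_mul, hwr, one_pow]) t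
    rw [h2] at h3
    exact Subgroup.mem_bot.mp h3
  have hd : ∀ n t, r ∣ n → nrm (w ^ n) r t = t ^ r := by
    intro n t hn
    rw [orderOf_dvd_iff_pow_eq_one.mp hn, nrm_one]
  have hlt : ∀ n, 0 < n → n < r → ¬ r ∣ n := fun n h0 h1 h2 =>
    absurd (Nat.le_of_dvd h0 h2) (by omega)
  have hlt' : ∀ n, 0 < n → n < r → ¬ r ∣ r + n := fun n h0 h1 h2 =>
    hlt n h0 h1 ((Nat.dvd_add_right (dvd_refl r)).mp h2)
  -- the three subgroups
  have hkey : ∀ t₀ t₁ t₂ : V, g t₀ = t₀ → g t₁ = w t₁ → g t₂ = (w ^ 2) t₂ →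
      t₀ * t₁ * t₂ = 1 → t₀ = 1 ∧ t₁ = 1 ∧ t₂ = 1 := by
    intro t₀ t₁ t₂ h0 h1 h2 h
    refine ⟨?_, ?_, ?_⟩
    · have := vdm g w hgw r r t₀ t₁ t₂ h0 h1 h2 h
      rw [hd r t₀ dvd_rfl, hnd (r + 1) t₁ (hlt' 1 (by omega) (by omega)),
        hnd (r + 2) t₂ (hlt' 2 (by omega) (by omega)), mul_one, mul_one] at this
      exact eq_one_of_pow_coprime hrcop this
    · have := vdm g w hgw r (r - 1) t₀ t₁ t₂ h0 h1 h2 h
      have e1 : r - 1 + 1 = r := by omega
      have e2 : r - 1 + 2 = r + 1 := by omega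
      rw [e1, e2, hnd (r - 1) t₀ (hlt (r - 1) (by omega) (by omega)), hd r t₁ dvd_rfl,
        hnd (r + 1) t₂ (hlt' 1 (by omega) (by omega)), mul_one, one_mul] at this
      exact eq_one_of_pow_coprime hrcop this
    · have := vdm g w hgw r (r - 2) t₀ t₁ t₂ h0 h1 h2 h
      have e1 : r - 2 + 1 = r - 1 := by omega
      have e2 : r - 2 + 2 = r := by omega
      rw [e1, e2, hnd (r - 2) t₀ (hlt (r - 2) (by omega) (by omega)),
        hnd (r - 1) t₁ (hlt (r - 1) (by omega) (by omega)), hd r t₂ dvd_rfl, one_mul,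
        one_mul] at this
      exact eq_one_of_pow_coprime hrcop this
  -- the product map
  let φ : ↥(fixSub g) × ↥(eig g w) × ↥(eig g (w ^ 2)) →* V :=
    (fixSub g).subtype.coprod ((eig g w).subtype.coprod (eig g (w ^ 2)).subtype)
  have hφ : Function.Injective φ := by
    rw [injective_iff_map_eq_one]
    rintro ⟨⟨t₀, h0⟩, ⟨t₁, h1⟩, ⟨t₂, h2⟩⟩ hx
    have hx' : t₀ * (t₁ * t₂) = 1 := hx
    rw [← mul_assoc] at hx'
    obtain ⟨r0, r1, r2⟩ := hkey t₀ t₁ t₂ h0 h1 h2 hx'
    subst r0 r1 r2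
    rfl
  have hcard := Nat.card_le_card_of_injective φ hφ
  rw [Nat.card_prod, Nat.card_prod] at hcard
  -- conjugation by powers of b
  have hgbk : ∀ j : ℕ, g * b ^ j = w ^ j * (b ^ j * g) := by
    intro j
    induction j with
    | zero => simp
    | succ j ih =>
      have hbw : b ^ j * w = w * b ^ j := ((show Commute b w from hw b hb).pow_left j).eq
      calc g * b ^ (j + 1) = (g * b ^ j) * b := by rw [pow_succ, mul_assoc]
        _ = w ^ j * (b ^ j * (g * b)) := by rw [ih]; simp only [mul_assoc]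
        _ = w ^ j * ((b ^ j * w) * (b * g)) := by rw [hgb]; simp only [mul_assoc]
        _ = w ^ (j + 1) * (b ^ (j + 1) * g) := by
          rw [hbw, pow_succ, pow_succ]; simp only [mul_assoc]
  have hinj : ∀ j : ℕ, Nat.card (fixSub g) ≤ Nat.card (eig g (w ^ j)) := by
    intro j
    have hmem : ∀ t : ↥(fixSub g), (b ^ j) (t : V) ∈ eig g (w ^ j) := by
      intro t
      rw [mem_eig]
      have h1 : g ((b ^ j) (t : V)) = (w ^ j) ((b ^ j) (g (t : V))) :=
        DFunLike.congr_fun (hgbk j) (t : V)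
      rw [h1, mem_fixSub.mp t.2]
    apply Nat.card_le_card_of_injective (fun t : ↥(fixSub g) => (⟨(b ^ j) (t : V), hmem t⟩ :
      ↥(eig g (w ^ j))))
    intro t s hts
    have h1 : (b ^ j) (t : V) = (b ^ j) (s : V) := congrArg Subtype.val hts
    exact Subtype.ext ((b ^ j).injective h1)
  have h1 := hinj 1
  rw [pow_one] at h1
  have h2 := hinj 2
  calc Nat.card (fixSub g) ^ 3
      = Nat.card (fixSub g) * (Nat.card (fixSub g) * Nat.card (fixSub g)) := by ring
    _ ≤ Nat.card (fixSub g) * (Nat.card (eig g w) * Nat.card (eig g (w ^ 2))) :=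
        Nat.mul_le_mul_left _ (Nat.mul_le_mul h1 h2)
    _ ≤ Nat.card V := hcard

theorem core [Finite V] [Nontrivial V] (p : ℕ) [Fact p.Prime] (hp3 : 3 ≤ p)
    (hcop : (Nat.card V).Coprime p)
    (Pb : Subgroup (MulAut V)) (hPb : IsPGroup p ↥Pb)
    (hirr : ∀ W : Subgroup V, (∀ a ∈ Pb, ∀ w ∈ W, a w ∈ W) → W = ⊥ ∨ W = ⊤)
    (C D : Set (MulAut V)) (hC : Subgroup.closure C = Pb) (hD : Subgroup.closure D = Pb)
    (hF : ∀ c ∈ C, ∀ d ∈ D, ∀ v : V, ∃ y : V, d y = y ∧ c (y⁻¹ * v) = y⁻¹ * v) :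
    Pb = ⊥ := by
  by_contra hne
  have hexC : ∀ (S : Set (MulAut V)), Subgroup.closure S = Pb → ∀ a ∈ Pb,
      (∃ x ∈ Pb, x * a ≠ a * x) → ∃ c ∈ S, c * a ≠ a * c := by
    intro S hS a ha ⟨x, hx, hxa⟩
    by_contra hcon
    push Not at hcon
    apply hxa
    have h1 : Subgroup.closure S ≤ Subgroup.centralizer {a} := by
      rw [Subgroup.closure_le]
      intro c hc
      rw [SetLike.mem_coe, Subgroup.mem_centralizer_iff]
      intro h hh
      rw [Set.mem_singleton_iff] at hh
      subst hh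
      exact (hcon c hc).symm
    rw [hS] at h1
    exact ((Subgroup.mem_centralizer_iff.mp (h1 hx)) a rfl).symm
  by_cases hab : ∀ x ∈ Pb, ∀ y ∈ Pb, x * y = y * x
  · -- abelian case
    have hex1 : ∀ (S : Set (MulAut V)), Subgroup.closure S = Pb → ∃ c ∈ S, c ≠ 1 := by
      intro S hS
      by_contra hcon
      push Not at hcon
      apply hne
      rw [← hS, Subgroup.closure_eq_bot_iff]
      intro x hx
      exact hcon x hx
    obtain ⟨c, hcC, hc1⟩ := hex1 C hC
    obtain ⟨d, hdD, hd1⟩ := hex1 D hD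
    have hcP : c ∈ Pb := hC ▸ Subgroup.subset_closure hcC
    have hdP : d ∈ Pb := hD ▸ Subgroup.subset_closure hdD
    have hfc := fix_central hirr c (fun h hh => hab h hh c hcP) hc1
    have hfd := fix_central hirr d (fun h hh => hab h hh d hdP) hd1
    obtain ⟨v, hv⟩ := exists_ne (1 : V)
    obtain ⟨y, hy1, hy2⟩ := hF c hcC d hdD v
    have hy : y = 1 := by
      have : y ∈ fixSub d := hy1
      rw [hfd] at this
      exact Subgroup.mem_bot.mp this
    rw [hy, inv_one, one_mul] at hy2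
    have : v ∈ fixSub c := hy2
    rw [hfc] at this
    exact hv (Subgroup.mem_bot.mp this)
  · -- nonabelian case
    push Not at hab
    obtain ⟨x₀, hx₀, y₀, hy₀, hxy₀⟩ := hab
    have hPq : IsPGroup p (↥Pb ⧸ Subgroup.center ↥Pb) := hPb.to_quotient _
    haveI : Nontrivial (↥Pb ⧸ Subgroup.center ↥Pb) := by
      by_contra hnt
      rw [not_nontrivial_iff_subsingleton] at hnt
      have h1 : Subgroup.center ↥Pb = ⊤ := QuotientGroup.subgroup_eq_top_of_subsingleton _ hnt
      have h2 : (⟨y₀, hy₀⟩ : ↥Pb) ∈ Subgroup.center ↥Pb := by rw [h1]; trivial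
      have h3 := Subgroup.mem_center_iff.mp h2 ⟨x₀, hx₀⟩
      exact hxy₀ (congrArg Subtype.val h3)
    haveI := hPq.center_nontrivial
    obtain ⟨⟨abar, habar⟩, hab1⟩ :=
      exists_ne (1 : Subgroup.center (↥Pb ⧸ Subgroup.center ↥Pb))
    obtain ⟨a, rfl⟩ := QuotientGroup.mk_surjective abar
    have ha_nc : a ∉ Subgroup.center ↥Pb := by
      intro h
      apply hab1
      ext
      exact (QuotientGroup.eq_one_iff a).mpr h
    have hcomm : ∀ g : ↥Pb, g * a * g⁻¹ * a⁻¹ ∈ Subgroup.center ↥Pb := by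
      intro g
      rw [← QuotientGroup.eq_one_iff]
      have := Subgroup.mem_center_iff.mp habar (g : ↥Pb ⧸ Subgroup.center ↥Pb)
      simp only [QuotientGroup.mk_mul, QuotientGroup.mk_inv]
      rw [this]
      group
    have hnc : ∃ x ∈ Pb, x * (a : MulAut V) ≠ (a : MulAut V) * x := by
      by_contra hcon
      push Not at hcon
      apply ha_nc
      rw [Subgroup.mem_center_iff]
      intro g
      exact Subtype.ext (hcon g g.2)
    have hcube : ∀ g ∈ Pb, g * (a : MulAut V) ≠ (a : MulAut V) * g →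
        Nat.card (fixSub g) ^ 3 ≤ Nat.card V := by
      intro g hg hga
      have hwc := hcomm ⟨g, hg⟩
      apply fix_cube p hp3 hcop hPb hirr (a : MulAut V) g
        (g * (a : MulAut V) * g⁻¹ * (a : MulAut V)⁻¹) hg a.2
      · exact Pb.mul_mem (Pb.mul_mem (Pb.mul_mem hg a.2) (Pb.inv_mem hg)) (Pb.inv_mem a.2)
      · intro h hh
        exact congrArg Subtype.val (Subgroup.mem_center_iff.mp hwc ⟨h, hh⟩)
      · group
      · intro h
        apply hga
        calc g * (a : MulAut V) = (g * (a : MulAut V) * g⁻¹ * (a : MulAut V)⁻¹) * ((a : MulAut V) * g) := by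
              group
          _ = (a : MulAut V) * g := by rw [h, one_mul]
    obtain ⟨c, hcC, hca⟩ := hexC C hC a a.2 hnc
    obtain ⟨d, hdD, hda⟩ := hexC D hD a a.2 hnc
    have hcP : c ∈ Pb := hC ▸ Subgroup.subset_closure hcC
    have hdP : d ∈ Pb := hD ▸ Subgroup.subset_closure hdD
    have hA := hcube c hcP hca
    have hB := hcube d hdP hda
    have hsurj : Nat.card V ≤ Nat.card (fixSub d) * Nat.card (fixSub c) := by
      rw [← Nat.card_prod]
      apply Nat.card_le_card_of_surjective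
        (fun x : ↥(fixSub d) × ↥(fixSub c) => (x.1 : V) * (x.2 : V))
      intro v
      obtain ⟨y, hy1, hy2⟩ := hF c hcC d hdD v
      exact ⟨(⟨y, hy1⟩, ⟨y⁻¹ * v, hy2⟩), by simp⟩
    have hV2 : 2 ≤ Nat.card V := by
      haveI : Fintype V := Fintype.ofFinite V
      rw [Nat.card_eq_fintype_card]
      exact Fintype.one_lt_card
    have h1 : Nat.card V ^ 3 ≤ (Nat.card (fixSub d) * Nat.card (fixSub c)) ^ 3 :=
      Nat.pow_le_pow_left hsurj 3
    have h2 : (Nat.card (fixSub d) * Nat.card (fixSub c)) ^ 3 =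
        Nat.card (fixSub d) ^ 3 * Nat.card (fixSub c) ^ 3 := by ring
    have h3 : Nat.card (fixSub d) ^ 3 * Nat.card (fixSub c) ^ 3 ≤ Nat.card V * Nat.card V :=
      Nat.mul_le_mul hB hA
    have h4 : Nat.card V * Nat.card V * Nat.card V ≤ Nat.card V * Nat.card V * 1 := by
      calc Nat.card V * Nat.card V * Nat.card V = Nat.card V ^ 3 := by ring
        _ ≤ Nat.card V * Nat.card V := le_trans h1 (h2 ▸ h3)
        _ = Nat.card V * Nat.card V * 1 := (mul_one _).symm
    have h5 := Nat.le_of_mul_le_mul_left h4 (by positivity)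
    omega

end Core

section QCore

theorem qcore {K : Type*} [Group K] [Finite K] {A : Type*} [Group A] [Finite A]
    (p : ℕ) [Fact p.Prime] (hp3 : 3 ≤ p) (hA : IsPGroup p A)
    (hcop : (Nat.card K).Coprime p) (θ : A →* MulAut K) (M : Subgroup K) [M.Normal]
    (hMab : ∀ x y : K, x * y * x⁻¹ * y⁻¹ ∈ M)
    (hMθ : ∀ a x, x ∈ M → θ a x ∈ M) (hMtop : M ≠ ⊤)
    (hirr : ∀ L : Subgroup K, M ≤ L → (∀ a, ∀ x ∈ L, θ a x ∈ L) → L = M ∨ L = ⊤)
    (C D : Set A) (hC : Subgroup.closure C = ⊤) (hD : Subgroup.closure D = ⊤)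
    (hF : ∀ c ∈ C, ∀ d ∈ D, ∀ x : K, ∃ n : K, θ d n = n ∧ θ c (n * x) = n * x) :
    ∀ a x, x⁻¹ * θ a x ∈ M := by
  letI : CommGroup (K ⧸ M) :=
    { (inferInstance : Group (K ⧸ M)) with
      mul_comm := by
        intro x y
        induction x using QuotientGroup.induction_on with
        | H x =>
          induction y using QuotientGroup.induction_on with
          | H y =>
            rw [← QuotientGroup.mk_mul, ← QuotientGroup.mk_mul, QuotientGroup.eq]
            have := hMab y⁻¹ x⁻¹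
            convert this using 1
            group }
  have he : ∀ a : A, M.map (θ a).toMonoidHom = M := by
    intro a
    apply le_antisymm
    · rintro x ⟨y, hy, rfl⟩
      exact hMθ a y hy
    · intro x hx
      refine ⟨θ a⁻¹ x, hMθ a⁻¹ x hx, ?_⟩
      show θ a (θ a⁻¹ x) = x
      rw [← MulAut.mul_apply, ← map_mul, mul_inv_cancel, map_one, MulAut.one_apply]
  let ρ : A →* MulAut (K ⧸ M) :=
    { toFun := fun a => QuotientGroup.congr M M (θ a) (he a)
      map_one' := by
        ext v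
        induction v using QuotientGroup.induction_on with
        | H x => simp
      map_mul' := by
        intro a b
        ext v
        induction v using QuotientGroup.induction_on with
        | H x =>
          simp
          rfl }
  have hρ : ∀ a x, ρ a (QuotientGroup.mk x : K ⧸ M) = (QuotientGroup.mk (θ a x) : K ⧸ M) :=
    fun a x => rfl
  haveI : Nontrivial (K ⧸ M) := by
    by_contra hnt
    rw [not_nontrivial_iff_subsingleton] at hnt
    exact hMtop (QuotientGroup.subgroup_eq_top_of_subsingleton M hnt)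
  have hcopV : (Nat.card (K ⧸ M)).Coprime p :=
    Nat.Coprime.coprime_dvd_left (Subgroup.card_quotient_dvd_card M) hcop
  have hPb : IsPGroup p ↥ρ.range := hA.of_surjective ρ.rangeRestrict ρ.rangeRestrict_surjective
  have hgen : ∀ S : Set A, Subgroup.closure S = ⊤ → Subgroup.closure (ρ '' S) = ρ.range := by
    intro S hS
    rw [← MonoidHom.map_closure, hS, MonoidHom.range_eq_map]
  have hbot := core p hp3 hcopV ρ.range hPb (by
      intro W hW
      rcases hirr (W.comap (QuotientGroup.mk' M)) (by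
          intro x hx
          rw [Subgroup.mem_comap]
          have : (QuotientGroup.mk' M) x = 1 := (QuotientGroup.eq_one_iff x).mpr hx
          rw [this]
          exact W.one_mem) (by
          intro a x hx
          rw [Subgroup.mem_comap] at hx ⊢
          exact hW (ρ a) ⟨a, rfl⟩ _ hx) with h | h
      · left
        rw [eq_bot_iff]
        intro w hw
        induction w using QuotientGroup.induction_on with
        | H x =>
          have hx : x ∈ W.comap (QuotientGroup.mk' M) := hw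
          rw [h] at hx
          rw [Subgroup.mem_bot]
          exact (QuotientGroup.eq_one_iff x).mpr hx
      · right
        rw [eq_top_iff]
        intro w _
        induction w using QuotientGroup.induction_on with
        | H x =>
          have hx : x ∈ W.comap (QuotientGroup.mk' M) := by rw [h]; trivial
          exact hx)
    (ρ '' C) (ρ '' D) (hgen C hC) (hgen D hD) (by
      rintro _ ⟨c, hc, rfl⟩ _ ⟨d, hd, rfl⟩ v
      induction v using QuotientGroup.induction_on with
      | H x =>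
        obtain ⟨n, hn1, hn2⟩ := hF c hc d hd x
        refine ⟨(QuotientGroup.mk n : K ⧸ M)⁻¹, ?_, ?_⟩
        · rw [map_inv, hρ, hn1]
        · rw [inv_inv, ← QuotientGroup.mk_mul, hρ, hn2])
  intro a x
  have h1 : ρ a = 1 := by
    have : ρ a ∈ ρ.range := ⟨a, rfl⟩
    rw [hbot] at this
    exact Subgroup.mem_bot.mp this
  have h2 : (QuotientGroup.mk x : K ⧸ M) = QuotientGroup.mk (θ a x) := by
    rw [← hρ, h1, MulAut.one_apply]
  exact QuotientGroup.eq.mp h2

end QCore

section Internal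

open Cfsg.Agent.Lib.Helper1
open scoped commutatorElement

variable {G : Type*} [Group G]

/-- Conjugation by an element of the normalizer as an automorphism of the subgroup. -/
def conjAut (N₁ : Subgroup G) (a : G) (ha : a ∈ Subgroup.normalizer (N₁ : Set G)) :
    ↥N₁ ≃* ↥N₁ where
  toFun x := ⟨a * x * a⁻¹, (Subgroup.mem_normalizer_iff.mp ha x).mp x.2⟩
  invFun x := ⟨a⁻¹ * x * a, by
    have h := (Subgroup.mem_normalizer_iff.mp (inv_mem ha) x).mp x.2
    simpa using h⟩
  left_inv x := by ext; simp [mul_assoc]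
  right_inv x := by ext; simp [mul_assoc]
  map_mul' x y := by ext; simp [mul_assoc]

theorem conjAut_coe (N₁ : Subgroup G) (a : G) (ha : a ∈ Subgroup.normalizer (N₁ : Set G))
    (x : ↥N₁) : ((conjAut N₁ a ha x : ↥N₁) : G) = a * x * a⁻¹ := rfl

theorem closure_preimage_eq_top (P : Subgroup G) (C : Set G) (hC : Subgroup.closure C = P) :
    Subgroup.closure {a : ↥P | (a : G) ∈ C} = ⊤ := by
  apply Subgroup.map_injective P.subtype_injective
  rw [MonoidHom.map_closure, ← MonoidHom.range_eq_map, Subgroup.range_subtype]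
  have : (P.subtype '' {a : ↥P | (a : G) ∈ C}) = C := by
    ext x
    constructor
    · rintro ⟨a, ha, rfl⟩
      exact ha
    · intro hx
      exact ⟨⟨x, hC ▸ Subgroup.subset_closure hx⟩, hx, rfl⟩
  rw [this, hC]

theorem step3 [Finite G] (p : ℕ) [Fact p.Prime] (hp3 : 3 ≤ p) (P : Subgroup G)
    (hP : IsPGroup p P) (N₁ : Subgroup G) (hcop : (Nat.card N₁).Coprime p)
    (hPN₁ : P ≤ Subgroup.normalizer (N₁ : Set G))
    (C D : Set G) (hC : Subgroup.closure C = P) (hD : Subgroup.closure D = P)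
    (hF1 : ∀ x ∈ N₁, ∀ c ∈ C, ∀ d ∈ D, ∃ n ∈ N₁, n * d = d * n ∧ (n * x) * c = c * (n * x))
    (M : Subgroup G) (hMN : M ≤ N₁) (hMne : M ≠ N₁) (hder : ⁅N₁, N₁⁆ ≤ M)
    (hPM : P ≤ Subgroup.normalizer (M : Set G))
    (hmax : ∀ L : Subgroup G, M ≤ L → L ≤ N₁ → P ≤ Subgroup.normalizer (L : Set G) →
      L = M ∨ L = N₁) :
    ⁅N₁, P⁆ ≤ M := by
  haveI : (M.subgroupOf N₁).Normal := by
    constructor
    intro m hm g
    rw [Subgroup.mem_subgroupOf] at hm ⊢
    have h1 : ((g * m * g⁻¹ : ↥N₁) : G) = ⁅(g : G), (m : G)⁆ * (m : G) := by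
      rw [commutatorElement_def]
      simp
    rw [h1]
    exact M.mul_mem (hder (Subgroup.commutator_mem_commutator g.2 m.2)) hm
  let θ : ↥P →* MulAut ↥N₁ :=
    { toFun := fun a => conjAut N₁ (a : G) (hPN₁ a.2)
      map_one' := by
        ext x
        simp [conjAut_coe]
      map_mul' := by
        intro a b
        ext x
        simp [conjAut_coe, mul_assoc] }
  have hθ : ∀ (a : ↥P) (x : ↥N₁), ((θ a x : ↥N₁) : G) = (a : G) * x * (a : G)⁻¹ := fun a x => rfl
  have key := qcore p hp3 hP hcop θ (M.subgroupOf N₁) (by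
      intro x y
      rw [Subgroup.mem_subgroupOf]
      have h1 : ((x * y * x⁻¹ * y⁻¹ : ↥N₁) : G) = ⁅(x : G), (y : G)⁆ := by
        rw [commutatorElement_def]
        simp
      rw [h1]
      exact hder (Subgroup.commutator_mem_commutator x.2 y.2)) (by
      intro a x hx
      rw [Subgroup.mem_subgroupOf] at hx ⊢
      rw [hθ]
      exact (Subgroup.mem_normalizer_iff.mp (hPM a.2) x).mp hx) (by
      intro h
      rw [Subgroup.subgroupOf_eq_top] at h
      exact hMne (le_antisymm hMN h)) (by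
      intro L hML hL
      rcases hmax (L.map N₁.subtype) (by
          intro x hx
          exact ⟨⟨x, hMN hx⟩, hML (Subgroup.mem_subgroupOf.mpr hx), rfl⟩)
        (Subgroup.map_subtype_le L) (by
          intro a ha
          apply mem_normalizer_of_conj_mem
          rintro _ ⟨x, hx, rfl⟩
          exact ⟨θ ⟨a, ha⟩ x, hL ⟨a, ha⟩ x hx, rfl⟩) with h | h
      · left
        apply le_antisymm
        · intro x hx
          rw [Subgroup.mem_subgroupOf, ← h]
          exact ⟨x, hx, rfl⟩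
        · exact hML
      · right
        rw [eq_top_iff]
        intro x _
        have hx : (x : G) ∈ L.map N₁.subtype := by rw [h]; exact x.2
        obtain ⟨y, hy, hyx⟩ := hx
        have : y = x := Subtype.ext hyx
        rw [← this]
        exact hy)
    {a : ↥P | (a : G) ∈ C} {a : ↥P | (a : G) ∈ D}
    (closure_preimage_eq_top P C hC) (closure_preimage_eq_top P D hD) (by
      intro c hc d hd x
      obtain ⟨n, hn, hn1, hn2⟩ := hF1 x x.2 c hc d hd
      refine ⟨⟨n, hn⟩, ?_, ?_⟩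
      · apply Subtype.ext
        rw [hθ]
        show (d : G) * n * (d : G)⁻¹ = n
        rw [← hn1, mul_inv_cancel_right]
      · apply Subtype.ext
        rw [hθ]
        show (c : G) * (n * x) * (c : G)⁻¹ = n * x
        rw [← hn2, mul_inv_cancel_right])
  rw [Subgroup.commutator_le]
  intro x hx a ha
  have h1 := key ⟨a, ha⟩ ⟨x⁻¹, N₁.inv_mem hx⟩
  rw [Subgroup.mem_subgroupOf] at h1
  have h2 : ((⟨x⁻¹, N₁.inv_mem hx⟩⁻¹ * θ ⟨a, ha⟩ ⟨x⁻¹, N₁.inv_mem hx⟩ : ↥N₁) : G) = ⁅x, a⁆ := by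
    rw [commutatorElement_def, Subgroup.coe_mul, hθ]
    simp [mul_assoc]
  rw [h2] at h1
  exact h1

theorem f1 [Finite G] (p : ℕ) [Fact p.Prime] (P : Sylow p G) (N : Subgroup G) [N.Normal]
    (hN : (Nat.card N).Coprime p) (C D : Set G) (hCP : C ⊆ (P : Subgroup G))
    (hDP : D ⊆ (P : Subgroup G))
    (h : ∀ x ∈ N, ∀ c ∈ C, ∀ d ∈ D, IsPGroup p ↥(Subgroup.closure ({x * c * x⁻¹, d} : Set G)))
    (N₁ : Subgroup G) (hN₁ : N₁ ≤ N)
    (hPN₁ : (P : Subgroup G) ≤ Subgroup.normalizer (N₁ : Set G))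
    (x : G) (hx : x ∈ N₁) (c : G) (hc : c ∈ C) (d : G) (hd : d ∈ D) :
    ∃ n ∈ N₁, n * d = d * n ∧ (n * x) * c = c * (n * x) := by
  have hR := h x (hN₁ hx) c hc d hd
  have hRle : Subgroup.closure ({x * c * x⁻¹, d} : Set G) ≤ N₁ ⊔ (P : Subgroup G) := by
    rw [Subgroup.closure_le]
    intro y hy
    rcases hy with rfl | rfl
    · have hx' : x ∈ N₁ ⊔ (P : Subgroup G) := Subgroup.mem_sup_left hx
      exact Subgroup.mul_mem _ (Subgroup.mul_mem _ hx' (Subgroup.mem_sup_right (hCP hc)))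
        (Subgroup.inv_mem _ hx')
    · exact Subgroup.mem_sup_right (hDP hd)
  have hidx : ¬ p ∣ (P : Subgroup G).relIndex (N₁ ⊔ (P : Subgroup G)) := fun hdvd =>
    P.not_dvd_index (dvd_trans hdvd (Subgroup.relIndex_dvd_index_of_le le_sup_right))
  obtain ⟨g, hg, hgR⟩ := Cfsg.Agent.Lib.Helper14.exists_conj_mem_of_relIndex P.isPGroup' hidx hR hRle
  obtain ⟨a, ha, b, hb, hab⟩ :=
    Cfsg.Agent.Lib.Helper11.mem_sup_of_le_normalizer hPN₁ (Subgroup.inv_mem _ hg)
  have hg' : g = b⁻¹ * a⁻¹ := by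
    rw [← mul_inv_rev, ← hab, inv_inv]
  -- n = a⁻¹
  have hconj : ∀ q ∈ Subgroup.closure ({x * c * x⁻¹, d} : Set G), a⁻¹ * q * a ∈ (P : Subgroup G) := by
    intro q hq
    have h1 := hgR q hq
    rw [hg'] at h1
    have h2 := (P : Subgroup G).mul_mem ((P : Subgroup G).mul_mem hb h1) ((P : Subgroup G).inv_mem hb)
    convert h2 using 1
    group
  have hPk : ∃ k, Nat.card (P : Subgroup G) = p ^ k := IsPGroup.iff_card.mp P.isPGroup'
  have hcopPN : (Nat.card (P : Subgroup G)).Coprime (Nat.card N) := by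
    obtain ⟨k, hk⟩ := hPk
    rw [hk]
    exact Nat.Coprime.pow_left k hN.symm
  have hinf : N ⊓ (P : Subgroup G) = ⊥ := inf_eq_bot_of_coprime_card hcopPN
  have hcomm : ∀ y ∈ N, ∀ u ∈ (P : Subgroup G), y * u * y⁻¹ ∈ (P : Subgroup G) → y * u = u * y := by
    intro y hy u hu hyu
    have h1 : y * u * y⁻¹ * u⁻¹ ∈ N ⊓ (P : Subgroup G) := by
      refine Subgroup.mem_inf.mpr ⟨?_, (P : Subgroup G).mul_mem hyu ((P : Subgroup G).inv_mem hu)⟩
      have h2 : u * y⁻¹ * u⁻¹ ∈ N := ‹N.Normal›.conj_mem _ (N.inv_mem hy) u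
      have h3 := N.mul_mem hy h2
      convert h3 using 1
      group
    rw [hinf, Subgroup.mem_bot] at h1
    calc y * u = (y * u * y⁻¹ * u⁻¹) * (u * y) := by group
      _ = u * y := by rw [h1, one_mul]
  refine ⟨a⁻¹, N₁.inv_mem ha, ?_, ?_⟩
  · apply hcomm a⁻¹ (N.inv_mem (hN₁ ha)) d (hDP hd)
    have := hconj d (Subgroup.subset_closure (by simp))
    simpa using this
  · apply hcomm (a⁻¹ * x) (N.mul_mem (N.inv_mem (hN₁ ha)) (hN₁ hx)) c (hCP hc)
    have := hconj (x * c * x⁻¹) (Subgroup.subset_closure (by simp))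
    convert this using 1
    group

theorem normalizer_commutator_self [Finite G] {N₁ : Subgroup G} {a : G}
    (ha : a ∈ Subgroup.normalizer (N₁ : Set G)) :
    a ∈ Subgroup.normalizer ((⁅N₁, N₁⁆ : Subgroup G) : Set G) := by
  apply mem_normalizer_of_conj_mem
  intro x hx
  have h1 : N₁.map (MulAut.conj a).toMonoidHom ≤ N₁ := by
    rintro _ ⟨y, hy, rfl⟩
    exact (Subgroup.mem_normalizer_iff.mp ha y).mp hy
  have h2 : (⁅N₁, N₁⁆ : Subgroup G).map (MulAut.conj a).toMonoidHom ≤ ⁅N₁, N₁⁆ := by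
    rw [Subgroup.map_commutator]
    exact Subgroup.commutator_mono h1 h1
  exact h2 ⟨x, hx, rfl⟩

theorem main_ind [Finite G] (p : ℕ) [Fact p.Prime] (hp3 : 3 ≤ p) (P : Sylow p G)
    (N : Subgroup G) [N.Normal] (hN : (Nat.card N).Coprime p)
    (C D : Set G) (hC : Subgroup.closure C = (P : Subgroup G))
    (hD : Subgroup.closure D = (P : Subgroup G))
    (h : ∀ x ∈ N, ∀ c ∈ C, ∀ d ∈ D, IsPGroup p ↥(Subgroup.closure ({x * c * x⁻¹, d} : Set G))) :
    ∀ n : ℕ, ∀ N₁ : Subgroup G, N₁ ≤ N → (P : Subgroup G) ≤ Subgroup.normalizer (N₁ : Set G) →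
      Nat.card N₁ ≤ n → N₁ ≤ Subgroup.centralizer ((P : Subgroup G) : Set G) := by
  have hCP : C ⊆ (P : Subgroup G) := by rw [← hC]; exact Subgroup.subset_closure
  have hDP : D ⊆ (P : Subgroup G) := by rw [← hD]; exact Subgroup.subset_closure
  haveI : Group.IsNilpotent ↥(P : Subgroup G) := P.isPGroup'.isNilpotent
  have hsolvP : Group.IsSolvable ↥(P : Subgroup G) := inferInstance
  intro n
  induction n with
  | zero =>
    intro N₁ _ _ hcard
    exfalso
    have := Nat.card_pos (α := ↥N₁)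
    omega
  | succ n ih =>
    intro N₁ hN₁ hPN₁ hcard
    have hcopN₁ : (Nat.card N₁).Coprime p :=
      Nat.Coprime.coprime_dvd_left (Subgroup.card_dvd_of_le hN₁) hN
    have hcop : (Nat.card (P : Subgroup G)).Coprime (Nat.card N₁) := by
      obtain ⟨k, hk⟩ := IsPGroup.iff_card.mp P.isPGroup'
      rw [hk]
      exact Nat.Coprime.pow_left k hcopN₁.symm
    -- smaller invariant subgroups are centralized
    have ih' : ∀ L : Subgroup G, L ≤ N₁ → L ≠ N₁ →
        (P : Subgroup G) ≤ Subgroup.normalizer (L : Set G) →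
        L ≤ Subgroup.centralizer ((P : Subgroup G) : Set G) := by
      intro L hL hLne hPL
      apply ih L (hL.trans hN₁) hPL
      by_contra hcon
      push Not at hcon
      exact hLne (Subgroup.eq_of_le_of_card_ge hL (by omega))
    by_cases hq : ∃ q : ℕ, q.Prime ∧ IsPGroup q ↥N₁
    swap
    · -- Sylow reduction
      have h1 : (N₁ ⊓ Subgroup.centralizer ((P : Subgroup G) : Set G)).relIndex N₁ = 1 := by
        by_contra hne
        obtain ⟨q, hqp, hqd⟩ := Nat.exists_prime_and_dvd hne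
        haveI : Fact q.Prime := ⟨hqp⟩
        obtain ⟨S, hS⟩ := exists_invariant_sylow (P : Subgroup G) N₁ hPN₁ hcop (Or.inl hsolvP) q
        have hSle : (S : Subgroup ↥N₁).map N₁.subtype ≤ N₁ := Subgroup.map_subtype_le _
        have hSne : (S : Subgroup ↥N₁).map N₁.subtype ≠ N₁ := by
          intro heq
          apply hq
          refine ⟨q, hqp, ?_⟩
          intro g
          have hg : (g : G) ∈ (S : Subgroup ↥N₁).map N₁.subtype := by rw [heq]; exact g.2
          obtain ⟨g', hg', hgg⟩ := hg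
          have : g' = g := Subtype.ext hgg
          subst this
          obtain ⟨k, hk⟩ := S.isPGroup' ⟨g', hg'⟩
          exact ⟨k, congrArg Subtype.val hk⟩
        have hScen := ih' _ hSle hSne hS
        have hdvd := Subgroup.relIndex_dvd_of_le_left N₁ (le_inf hSle hScen)
        have hidx : ((S : Subgroup ↥N₁).map N₁.subtype).relIndex N₁ = (S : Subgroup ↥N₁).index := by
          rw [Subgroup.relIndex, Subgroup.subgroupOf,
            Subgroup.comap_map_eq_self_of_injective N₁.subtype_injective]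
        rw [hidx] at hdvd
        exact S.not_dvd_index (dvd_trans hqd hdvd)
      exact (Subgroup.relIndex_eq_one.mp h1).trans inf_le_right
    obtain ⟨q, hqp, hqN₁⟩ := hq
    by_cases hcomm : ⁅N₁, (P : Subgroup G)⁆ = N₁
    swap
    · have hle := commutator_le_of_le_normalizer hPN₁
      have hnorm : (P : Subgroup G) ≤
          Subgroup.normalizer ((⁅N₁, (P : Subgroup G)⁆ : Subgroup G) : Set G) :=
        le_sup_right.trans (commutator_normalizer hPN₁)
      have h1 := ih' _ hle hcomm hnorm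
      have h2 := coprime_commutator_commutator (P : Subgroup G) N₁ hPN₁ hcop (Or.inl hsolvP)
      rw [Subgroup.commutator_eq_bot_iff_le_centralizer.mpr h1] at h2
      exact Subgroup.commutator_eq_bot_iff_le_centralizer.mp h2.symm
    -- Step 3
    by_cases hbot : N₁ = ⊥
    · rw [hbot]; exact bot_le
    exfalso
    haveI : Fact q.Prime := ⟨hqp⟩
    haveI : Nontrivial ↥N₁ := (Subgroup.nontrivial_iff_ne_bot N₁).mpr hbot
    haveI : Group.IsNilpotent ↥N₁ := hqN₁.isNilpotent
    have hder_lt := Group.IsSolvable.commutator_lt_top_of_nontrivial ↥N₁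
    have hder_ne : ⁅N₁, N₁⁆ ≠ N₁ := by
      intro heq
      apply ne_of_lt hder_lt
      apply Subgroup.map_injective N₁.subtype_injective
      rw [Subgroup.map_subtype_commutator, heq, ← MonoidHom.range_eq_map, Subgroup.range_subtype]
    -- choose M maximal
    let S : Set (Subgroup G) := {M | ⁅N₁, N₁⁆ ≤ M ∧ M ≤ N₁ ∧ M ≠ N₁ ∧
      (P : Subgroup G) ≤ Subgroup.normalizer (M : Set G)}
    have hSne : S.Nonempty := ⟨⁅N₁, N₁⁆, le_rfl, Subgroup.commutator_le_self N₁, hder_ne,
      fun a ha => normalizer_commutator_self (hPN₁ ha)⟩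
    haveI : Nonempty S := hSne.to_subtype
    obtain ⟨⟨M, hM1, hM2, hM3, hM4⟩, hMmax⟩ :=
      Finite.exists_max (fun M : S => Nat.card (M : Subgroup G))
    have hstep := step3 p hp3 (P : Subgroup G) P.isPGroup' N₁ hcopN₁ hPN₁ C D hC hD
      (fun x hx c hc d hd => f1 p P N hN C D hCP hDP h N₁ hN₁ hPN₁ x hx c hc d hd)
      M hM2 hM3 hM1 hM4 (by
        intro L hML hLN hPL
        by_cases hLN' : L = N₁
        · right; exact hLN'
        · left
          have := hMmax ⟨L, hM1.trans hML, hLN, hLN', hPL⟩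
          exact (Subgroup.eq_of_le_of_card_ge hML this).symm)
    rw [hcomm] at hstep
    exact hM3 (le_antisymm hM2 hstep)

end Internal

/-- Let p ≥ 3 be prime and G a finite group with a Sylow p-subgroup P and a normal p-complement N (N normal, of order prime to p, with NP = G). Suppose P is generated by a subset C and also by a subset D, and that ⟨x c x⁻¹, d⟩ is a p-group for all x ∈ N, c ∈ C, d ∈ D. Then P centralizes N, so that G = N × P. -/
theorem result {G : Type*} [Group G] [Finite G] (p : ℕ) [Fact p.Prime] (hp3 : 3 ≤ p) (P : Sylow p G)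
    (N : Subgroup G) [N.Normal] (hN : (Nat.card N).Coprime p) (hNP : N ⊔ (P : Subgroup G) = ⊤)
    (C D : Set G) (hC : Subgroup.closure C = (P : Subgroup G)) (hD : Subgroup.closure D = (P : Subgroup G))
    (h : ∀ x ∈ N, ∀ c ∈ C, ∀ d ∈ D, IsPGroup p ↥(Subgroup.closure ({x * c * x⁻¹, d} : Set G))) :
    ⁅(P : Subgroup G), N⁆ = ⊥ := by
  have hmain := main_ind p hp3 P N hN C D hC hD h (Nat.card N) N le_rfl
    (by rw [Subgroup.normalizer_eq_top]; exact le_top) le_rfl
  rw [Subgroup.commutator_comm, Subgroup.commutator_eq_bot_iff_le_centralizer]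
  exact hmain

end Cfsg.Agent.S2277
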