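import Cfsg.Statements.S2299
import Cfsg.Agent.Lib.Helper15.SL2Count

set_option autoImplicit false
open Cfsg

namespace Cfsg.Agent.S2299

/-- Over a finite field F with q elements, q odd, every irreducible complex character of SL₂ has degree 1, q, q + 1, q − 1, (q + 1)/2 or (q − 1)/2; and when q ≥ 5 (so that these six numbers are distinct) there are exactly one irreducible character of degree 1, one of degree q, (q − 3)/2 of degree q + 1, (q − 1)/2 of degree q − 1, two of degree (q + 1)/2 and two of degree (q − 1)/2. -/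
theorem result {F : Type*} [Field F] [Fintype F] (hodd : Odd (Fintype.card F)) :
    (∀ χ : Matrix.SpecialLinearGroup (Fin 2) F → ℂ, Cfsg.IsIrrCharacter (Matrix.SpecialLinearGroup (Fin 2) F) χ →
      χ 1 = 1 ∨ χ 1 = (Fintype.card F : ℂ) ∨ χ 1 = (Fintype.card F : ℂ) + 1 ∨ χ 1 = (Fintype.card F : ℂ) - 1 ∨
        χ 1 = (((Fintype.card F + 1) / 2 : ℕ) : ℂ) ∨ χ 1 = (((Fintype.card F - 1) / 2 : ℕ) : ℂ)) ∧
    (5 ≤ Fintype.card F →
      Nat.card {χ : Cfsg.IrrCharacter (Matrix.SpecialLinearGroup (Fin 2) F) // (χ : Matrix.SpecialLinearGroup (Fin 2) F → ℂ) 1 = 1} = 1 ∧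
      Nat.card {χ : Cfsg.IrrCharacter (Matrix.SpecialLinearGroup (Fin 2) F) // (χ : Matrix.SpecialLinearGroup (Fin 2) F → ℂ) 1 = (Fintype.card F : ℂ)} = 1 ∧
      Nat.card {χ : Cfsg.IrrCharacter (Matrix.SpecialLinearGroup (Fin 2) F) // (χ : Matrix.SpecialLinearGroup (Fin 2) F → ℂ) 1 = (Fintype.card F : ℂ) + 1} = (Fintype.card F - 3) / 2 ∧
      Nat.card {χ : Cfsg.IrrCharacter (Matrix.SpecialLinearGroup (Fin 2) F) // (χ : Matrix.SpecialLinearGroup (Fin 2) F → ℂ) 1 = (Fintype.card F : ℂ) - 1} = (Fintype.card F - 1) / 2 ∧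
      Nat.card {χ : Cfsg.IrrCharacter (Matrix.SpecialLinearGroup (Fin 2) F) // (χ : Matrix.SpecialLinearGroup (Fin 2) F → ℂ) 1 = (((Fintype.card F + 1) / 2 : ℕ) : ℂ)} = 2 ∧
      Nat.card {χ : Cfsg.IrrCharacter (Matrix.SpecialLinearGroup (Fin 2) F) // (χ : Matrix.SpecialLinearGroup (Fin 2) F → ℂ) 1 = (((Fintype.card F - 1) / 2 : ℕ) : ℂ)} = 2) := by
  classical
  have hF : ringChar F ≠ 2 := Cfsg.Agent.Lib.Helper15.ringChar_ne_two_of_odd hodd
  have hq2 : 2 ≤ Fintype.card F := Fintype.one_lt_card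
  have hoddq : Fintype.card F % 2 = 1 := Nat.odd_iff.mp hodd
  have hc : ((Fintype.card F - 1 : ℕ) : ℂ) = (Fintype.card F : ℂ) - 1 := by
    rw [Nat.cast_sub Fintype.card_pos, Nat.cast_one]
  constructor
  · intro χ hχ
    rcases Cfsg.Agent.Lib.Helper15.SL2_types χ hχ with
      ⟨_, h⟩ | ⟨_, h⟩ | ⟨_, h⟩ | ⟨_, _, h⟩ | ⟨_, h | ⟨_, h⟩⟩
    · left; rw [h]; simp
    · right; left; exact h
    · right; right; left; rw [h]; push_cast; ring
    · right; right; right; right; left; exact h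
    · right; right; right; left; rw [h, hc]
    · right; right; right; right; right; exact h
  · intro hq
    have hq4 : 4 ≤ Fintype.card F := by omega
    obtain ⟨cP, cD, cA, cB⟩ := Cfsg.Agent.Lib.Helper15.SL2_odd_count hF
    refine ⟨?_, ?_, ?_, ?_, ?_, ?_⟩
    · exact Cfsg.Agent.Lib.Helper15.card_subtype_eq_one' _
        ⟨fun _ => 1, Cfsg.Agent.Lib.Helper2.isIrrCharacter_one⟩ rfl
        (fun ψ hψ => Subtype.ext ((Cfsg.Agent.Lib.Helper15.SL2_deg_one_iff hq4 ψ.1 ψ.2).mp hψ))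
    · exact Cfsg.Agent.Lib.Helper15.card_subtype_eq_one' _
        ⟨Cfsg.Agent.Lib.Helper15.stS, Cfsg.Agent.Lib.Helper15.stS_irr⟩
        Cfsg.Agent.Lib.Helper15.stS_one
        (fun ψ hψ => Subtype.ext ((Cfsg.Agent.Lib.Helper15.SL2_deg_q_iff ψ.1 ψ.2).mp hψ))
    · rw [Nat.card_congr (Equiv.subtypeEquivRight
        (fun ψ : Cfsg.IrrCharacter (Matrix.SpecialLinearGroup (Fin 2) F) =>
          Cfsg.Agent.Lib.Helper15.SL2_deg_q_add_one_iff ψ.1 ψ.2))]
      omega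
    · rw [Nat.card_congr (Equiv.subtypeEquivRight
        (fun ψ : Cfsg.IrrCharacter (Matrix.SpecialLinearGroup (Fin 2) F) =>
          Cfsg.Agent.Lib.Helper15.SL2_deg_q_sub_one_iff hq4 ψ.1 ψ.2))]
      exact cA
    · rw [Nat.card_congr (Equiv.subtypeEquivRight
        (fun ψ : Cfsg.IrrCharacter (Matrix.SpecialLinearGroup (Fin 2) F) =>
          Cfsg.Agent.Lib.Helper15.SL2_deg_half_add_iff hq hF ψ.1 ψ.2))]
      exact cD
    · rw [Nat.card_congr (Equiv.subtypeEquivRight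
        (fun ψ : Cfsg.IrrCharacter (Matrix.SpecialLinearGroup (Fin 2) F) =>
          Cfsg.Agent.Lib.Helper15.SL2_deg_half_sub_iff hq hF ψ.1 ψ.2))]
      exact cB

end Cfsg.Agent.S2299
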