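import Cfsg.Statements.S2300
import Cfsg.Agent.Lib.Helper15.SL2Count

set_option autoImplicit false
open Cfsg

namespace Cfsg.Agent.S2300

/-- Over a finite field F with q elements, q even, every irreducible complex character of SL₂ has degree 1, q − 1, q or q + 1; and when q ≥ 4 (so that these four numbers are distinct) there are exactly one irreducible character of degree 1, one of degree q, (q − 2)/2 of degree q + 1 and q/2 of degree q − 1. -/
theorem result {F : Type*} [Field F] [Fintype F] [CharP F 2] :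
    (∀ χ : Matrix.SpecialLinearGroup (Fin 2) F → ℂ, Cfsg.IsIrrCharacter (Matrix.SpecialLinearGroup (Fin 2) F) χ →
      χ 1 = 1 ∨ χ 1 = (Fintype.card F : ℂ) - 1 ∨ χ 1 = (Fintype.card F : ℂ) ∨ χ 1 = (Fintype.card F : ℂ) + 1) ∧
    (4 ≤ Fintype.card F →
      Nat.card {χ : Cfsg.IrrCharacter (Matrix.SpecialLinearGroup (Fin 2) F) // (χ : Matrix.SpecialLinearGroup (Fin 2) F → ℂ) 1 = 1} = 1 ∧
      Nat.card {χ : Cfsg.IrrCharacter (Matrix.SpecialLinearGroup (Fin 2) F) // (χ : Matrix.SpecialLinearGroup (Fin 2) F → ℂ) 1 = (Fintype.card F : ℂ)} = 1 ∧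
      Nat.card {χ : Cfsg.IrrCharacter (Matrix.SpecialLinearGroup (Fin 2) F) // (χ : Matrix.SpecialLinearGroup (Fin 2) F → ℂ) 1 = (Fintype.card F : ℂ) + 1} = (Fintype.card F - 2) / 2 ∧
      Nat.card {χ : Cfsg.IrrCharacter (Matrix.SpecialLinearGroup (Fin 2) F) // (χ : Matrix.SpecialLinearGroup (Fin 2) F → ℂ) 1 = (Fintype.card F : ℂ) - 1} = Fintype.card F / 2) := by
  classical
  have hF : ringChar F = 2 := ringChar.eq F 2
  have hq2 : 2 ≤ Fintype.card F := Fintype.one_lt_card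
  constructor
  · intro χ hχ
    rcases Cfsg.Agent.Lib.Helper15.SL2_types χ hχ with
      ⟨_, h⟩ | ⟨_, h⟩ | ⟨_, h⟩ | ⟨hF', _⟩ | ⟨_, h | ⟨hF', _⟩⟩
    · left; rw [h]; simp
    · right; right; left; exact h
    · right; right; right; rw [h]; push_cast; ring
    · exact absurd hF hF'
    · right; left; rw [h, Nat.cast_sub Fintype.card_pos, Nat.cast_one]
    · exact absurd hF hF'
  · intro hq
    obtain ⟨cP, cC⟩ := Cfsg.Agent.Lib.Helper15.SL2_even_count hF
    refine ⟨?_, ?_, ?_, ?_⟩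
    · exact Cfsg.Agent.Lib.Helper15.card_subtype_eq_one' _
        ⟨fun _ => 1, Cfsg.Agent.Lib.Helper2.isIrrCharacter_one⟩ rfl
        (fun ψ hψ => Subtype.ext ((Cfsg.Agent.Lib.Helper15.SL2_deg_one_iff hq ψ.1 ψ.2).mp hψ))
    · exact Cfsg.Agent.Lib.Helper15.card_subtype_eq_one' _
        ⟨Cfsg.Agent.Lib.Helper15.stS, Cfsg.Agent.Lib.Helper15.stS_irr⟩
        Cfsg.Agent.Lib.Helper15.stS_one
        (fun ψ hψ => Subtype.ext ((Cfsg.Agent.Lib.Helper15.SL2_deg_q_iff ψ.1 ψ.2).mp hψ))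
    · rw [Nat.card_congr (Equiv.subtypeEquivRight
        (fun ψ : Cfsg.IrrCharacter (Matrix.SpecialLinearGroup (Fin 2) F) =>
          Cfsg.Agent.Lib.Helper15.SL2_deg_q_add_one_iff ψ.1 ψ.2))]
      omega
    · rw [Nat.card_congr (Equiv.subtypeEquivRight
        (fun ψ : Cfsg.IrrCharacter (Matrix.SpecialLinearGroup (Fin 2) F) =>
          (⟨fun h => ((Cfsg.Agent.Lib.Helper15.SL2_deg_q_sub_one_iff hq ψ.1 ψ.2).mp h).1,
            fun h => Cfsg.Agent.Lib.Helper15.cuspS_degree_even hF ψ.1 ψ.2 h⟩ :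
            ψ.1 1 = (Fintype.card F : ℂ) - 1 ↔
              ∀ α : MulChar F ℂ, Cfsg.classInner (Cfsg.Agent.Lib.Helper15.piS α) ψ.1 = 0)))]
      omega

end Cfsg.Agent.S2300
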