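import Cfsg.Statements.S2475
import Mathlib
import Cfsg.Agent.Lib.Helper16.PSL2Order

set_option autoImplicit false
open Cfsg

namespace Cfsg.Agent.S2475

open Cfsg.Agent.Lib.Helper16

theorem card_even_of_two {F : Type*} [Field F] [Fintype F] (h2 : (2 : F) = 0) :
    Fintype.card F % 2 = 0 := by
  have hchar : ringChar F = 2 :=
    CharP.ringChar_of_prime_eq_zero Nat.prime_two (by exact_mod_cast h2)
  exact FiniteField.even_card_iff_char_two.mp hchar

theorem card_odd_of_two {F : Type*} [Field F] [Fintype F] (h2 : (2 : F) ≠ 0) :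
    Fintype.card F % 2 = 1 := by
  by_contra h
  have h0 : Fintype.card F % 2 = 0 := by omega
  have hchar := FiniteField.even_card_iff_char_two.mpr h0
  apply h2
  have := CharP.cast_eq_zero F (ringChar F)
  rw [hchar] at this
  exact_mod_cast this

theorem gcd_two {F : Type*} [Field F] [Fintype F] (h2 : (2 : F) = 0) :
    Nat.gcd 2 (Fintype.card F - 1) = 1 := by
  have h := card_even_of_two h2
  have hq : 2 ≤ Fintype.card F := Fintype.one_lt_card
  have hodd : Odd (Fintype.card F - 1) := by
    rw [Nat.odd_iff]; omega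
  exact Nat.Coprime.gcd_eq_one (Nat.coprime_two_left.mpr hodd)

theorem gcd_odd {F : Type*} [Field F] [Fintype F] (h2 : (2 : F) ≠ 0) :
    Nat.gcd 2 (Fintype.card F - 1) = 2 := by
  have h := card_odd_of_two h2
  exact Nat.gcd_eq_left (by omega)

theorem order_dvd {F : Type*} [Field F] [Fintype F] (p : ℕ) [Fact p.Prime] [CharP F p]
    (g : Matrix.SpecialLinearGroup (Fin 2) F) :
    orderOf (pslMk F g) ∣ p ∨
    orderOf (pslMk F g) ∣ (Fintype.card F - 1) / Nat.gcd 2 (Fintype.card F - 1) ∨
    orderOf (pslMk F g) ∣ (Fintype.card F + 1) / Nat.gcd 2 (Fintype.card F - 1) := by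
  classical
  have hq : 2 ≤ Fintype.card F := Fintype.one_lt_card
  by_cases hs : Cfsg.Agent.Lib.Helper15.IsScalar2 (g : Matrix (Fin 2) (Fin 2) F)
  · left
    rw [(pslMk_eq_one_iff g).mpr (sl2_scalar_cases g hs), orderOf_one]
    exact one_dvd p
  · by_cases ht : (g : Matrix (Fin 2) (Fin 2) F).trace ^ 2 = 4
    · left
      exact orderOf_dvd_of_pow_eq_one (psl_parabolic_pow p g ht)
    · by_cases hr : ∃ m : F, m ^ 2 + (g : Matrix (Fin 2) (Fin 2) F).trace * m + 1 = 0
      · right; left
        obtain ⟨m, hm⟩ := hr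
        have hm0 : m ≠ 0 := by
          rintro rfl
          simp at hm
        have hu2 : ((Units.mk0 (-m) (neg_ne_zero.mpr hm0) : Fˣ) : F) ^ 2 ≠ 1 := by
          rw [Units.val_mk0]
          intro h
          apply ht
          have h1 : m ^ 2 = 1 := by linear_combination h
          have h3 : (g : Matrix (Fin 2) (Fin 2) F).trace * m = -2 := by linear_combination hm - h1
          have : (g : Matrix (Fin 2) (Fin 2) F).trace ^ 2 =
              ((g : Matrix (Fin 2) (Fin 2) F).trace * m) ^ 2 := by
            rw [mul_pow, h1, mul_one]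
          rw [this, h3]
          norm_num
        have htr : (diagS (Units.mk0 (-m) (neg_ne_zero.mpr hm0)) : Matrix (Fin 2) (Fin 2) F).trace =
            (g : Matrix (Fin 2) (Fin 2) F).trace := by
          rw [diagS_trace, Units.val_inv_eq_inv_val, Units.val_mk0]
          field_simp
          linear_combination -hm
        have hconj := Cfsg.Agent.Lib.Helper15.SL2_isConj_of_trace
          (diagS (Units.mk0 (-m) (neg_ne_zero.mpr hm0))) g
          (Or.inr (by rw [htr]; exact ht)) (diagS_not_scalar _ hu2) hs htr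
        obtain ⟨c, hc⟩ := isConj_iff.mp hconj
        rw [← hc, map_mul, map_mul, map_inv, orderOf_conj']
        apply orderOf_dvd_of_pow_eq_one
        have hpow : (Units.mk0 (-m) (neg_ne_zero.mpr hm0) : Fˣ) ^ (Fintype.card F - 1) = 1 := by
          rw [← Fintype.card_units]
          exact pow_card_eq_one
        by_cases h2 : (2 : F) = 0
        · rw [gcd_two h2, Nat.div_one, psl_diag_pow_two h2]
          exact hpow
        · rw [gcd_odd h2, psl_diag_pow_odd]
          have h := card_odd_of_two h2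
          have e : 2 * ((Fintype.card F - 1) / 2) = Fintype.card F - 1 := by omega
          rw [e]
          exact hpow
      · right; right
        have hn : NoRoot (g : Matrix (Fin 2) (Fin 2) F).trace := fun m hm => hr ⟨m, hm⟩
        have hconj := Cfsg.Agent.Lib.Helper15.SL2_isConj_of_trace
          (ellE (g : Matrix (Fin 2) (Fin 2) F).trace) g
          (Or.inr (by rw [ellE_trace]; exact ht)) (ellE_not_scalar _) hs (ellE_trace _)
        obtain ⟨c, hc⟩ := isConj_iff.mp hconj
        rw [← hc, map_mul, map_mul, map_inv, orderOf_conj']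
        apply orderOf_dvd_of_pow_eq_one
        have hpow : ellE (g : Matrix (Fin 2) (Fin 2) F).trace ^ (Fintype.card F + 1) = 1 := by
          have h1 : (⟨ellE (g : Matrix (Fin 2) (Fin 2) F).trace, ellE_mem _⟩ :
              nsT (g : Matrix (Fin 2) (Fin 2) F).trace) ^
              Nat.card (nsT (g : Matrix (Fin 2) (Fin 2) F).trace) = 1 := pow_card_eq_one'
          rw [card_nsT_of_noRoot _ hn] at h1
          have h3 := congrArg Subtype.val h1
          rw [Subgroup.coe_pow, Subgroup.coe_one] at h3
          exact h3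
        by_cases h2 : (2 : F) = 0
        · rw [gcd_two h2, Nat.div_one, psl_nsT_pow_two h2]
          exact hpow
        · rw [gcd_odd h2, psl_nsT_pow_odd h2 _ _ (ellE_mem _)]
          have h := card_odd_of_two h2
          have e : 2 * ((Fintype.card F + 1) / 2) = Fintype.card F + 1 := by omega
          rw [e]
          exact hpow

theorem ex_p {F : Type*} [Field F] [Fintype F] (p : ℕ) [Fact p.Prime] [CharP F p] :
    ∃ x : Matrix.ProjectiveSpecialLinearGroup (Fin 2) F, orderOf x = p := by
  refine ⟨pslMk F (unipU F), ?_⟩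
  have h1 : orderOf (pslMk F (unipU F)) ∣ p :=
    orderOf_dvd_of_pow_eq_one (psl_parabolic_pow p _ (by rw [unipU_trace]; norm_num))
  rcases (Nat.dvd_prime (Fact.out : p.Prime)).mp h1 with h | h
  · exfalso
    rw [orderOf_eq_one_iff, pslMk_eq_one_iff] at h
    apply unipU_not_scalar (F := F)
    rcases h with h | h
    · rw [h]
      exact ⟨by simp, by simp, by simp⟩
    · rw [h]
      exact ⟨by simp, by simp, by simp⟩
  · exact h

theorem ex_split {F : Type*} [Field F] [Fintype F] (m : ℕ)
    (hm : m ∣ (Fintype.card F - 1) / Nat.gcd 2 (Fintype.card F - 1)) :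
    ∃ x : Matrix.ProjectiveSpecialLinearGroup (Fin 2) F, orderOf x = m := by
  classical
  have hq : 2 ≤ Fintype.card F := Fintype.one_lt_card
  obtain ⟨u₀, hu₀⟩ := IsCyclic.exists_generator (α := Fˣ)
  have hord : orderOf u₀ = Fintype.card F - 1 := by
    rw [orderOf_eq_card_of_forall_mem_zpowers hu₀, Nat.card_eq_fintype_card, Fintype.card_units]
  by_cases h2 : (2 : F) = 0
  · rw [gcd_two h2, Nat.div_one] at hm
    have ho : orderOf (u₀ ^ (orderOf u₀ / m)) = m :=
      orderOf_pow_orderOf_div (by rw [hord]; omega) (by rw [hord]; exact hm)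
    refine ⟨pslMk F (diagS (u₀ ^ (orderOf u₀ / m))), ?_⟩
    apply orderOf_eq_of_pow_iff
    intro k
    rw [psl_diag_pow_two h2, ← orderOf_dvd_iff_pow_eq_one, ho]
  · rw [gcd_odd h2] at hm
    have h := card_odd_of_two h2
    have hdvd : 2 * m ∣ Fintype.card F - 1 := by
      have e : Fintype.card F - 1 = 2 * ((Fintype.card F - 1) / 2) := by omega
      rw [e]
      exact Nat.mul_dvd_mul_left 2 hm
    have ho : orderOf (u₀ ^ (orderOf u₀ / (2 * m))) = 2 * m :=
      orderOf_pow_orderOf_div (by rw [hord]; omega) (by rw [hord]; exact hdvd)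
    refine ⟨pslMk F (diagS (u₀ ^ (orderOf u₀ / (2 * m)))), ?_⟩
    apply orderOf_eq_of_pow_iff
    intro k
    rw [psl_diag_pow_odd, ← orderOf_dvd_iff_pow_eq_one, ho]
    exact Nat.mul_dvd_mul_iff_left (by norm_num)

theorem ex_nonsplit {F : Type*} [Field F] [Fintype F] (m : ℕ)
    (hm : m ∣ (Fintype.card F + 1) / Nat.gcd 2 (Fintype.card F - 1)) :
    ∃ x : Matrix.ProjectiveSpecialLinearGroup (Fin 2) F, orderOf x = m := by
  classical
  have hq : 2 ≤ Fintype.card F := Fintype.one_lt_card
  obtain ⟨t, ht⟩ := exists_noRoot (F := F)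
  have hcyc := isCyclic_nsT_of_noRoot t ht
  obtain ⟨z₀, hz₀⟩ := IsCyclic.exists_generator (α := nsT t)
  have hord : orderOf (z₀ : Matrix.SpecialLinearGroup (Fin 2) F) = Fintype.card F + 1 := by
    rw [Subgroup.orderOf_coe, orderOf_eq_card_of_forall_mem_zpowers hz₀, card_nsT_of_noRoot t ht]
  by_cases h2 : (2 : F) = 0
  · rw [gcd_two h2, Nat.div_one] at hm
    have ho : orderOf ((z₀ : Matrix.SpecialLinearGroup (Fin 2) F) ^
        (orderOf (z₀ : Matrix.SpecialLinearGroup (Fin 2) F) / m)) = m :=
      orderOf_pow_orderOf_div (by rw [hord]; omega) (by rw [hord]; exact hm)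
    refine ⟨pslMk F ((z₀ : Matrix.SpecialLinearGroup (Fin 2) F) ^
        (orderOf (z₀ : Matrix.SpecialLinearGroup (Fin 2) F) / m)), ?_⟩
    apply orderOf_eq_of_pow_iff
    intro k
    rw [psl_nsT_pow_two h2, ← orderOf_dvd_iff_pow_eq_one, ho]
  · rw [gcd_odd h2] at hm
    have h := card_odd_of_two h2
    have hdvd : 2 * m ∣ Fintype.card F + 1 := by
      have e : Fintype.card F + 1 = 2 * ((Fintype.card F + 1) / 2) := by omega
      rw [e]
      exact Nat.mul_dvd_mul_left 2 hm
    have ho : orderOf ((z₀ : Matrix.SpecialLinearGroup (Fin 2) F) ^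
        (orderOf (z₀ : Matrix.SpecialLinearGroup (Fin 2) F) / (2 * m))) = 2 * m :=
      orderOf_pow_orderOf_div (by rw [hord]; omega) (by rw [hord]; exact hdvd)
    refine ⟨pslMk F ((z₀ : Matrix.SpecialLinearGroup (Fin 2) F) ^
        (orderOf (z₀ : Matrix.SpecialLinearGroup (Fin 2) F) / (2 * m))), ?_⟩
    apply orderOf_eq_of_pow_iff
    intro k
    rw [psl_nsT_pow_odd h2 t _ ((nsT t).pow_mem z₀.2 _), ← orderOf_dvd_iff_pow_eq_one, ho]
    exact Nat.mul_dvd_mul_iff_left (by norm_num)

/-- The set of element orders of PSL(2,q): let F be a finite field of characteristic p with q ≥ 4 elements and d = gcd(2, q − 1). The orders of elements of PSL(2,F) are exactly the divisors of p, of (q − 1)/d and of (q + 1)/d. -/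
theorem result {F : Type*} [Field F] [Fintype F] (p : ℕ) [Fact p.Prime] [CharP F p] (h4 : 4 ≤ Fintype.card F) :
    Set.range (orderOf : Matrix.ProjectiveSpecialLinearGroup (Fin 2) F → ℕ) =
      {m : ℕ | m ∣ p ∨ m ∣ (Fintype.card F - 1) / Nat.gcd 2 (Fintype.card F - 1) ∨ m ∣ (Fintype.card F + 1) / Nat.gcd 2 (Fintype.card F - 1)} := by
  ext m
  simp only [Set.mem_range, Set.mem_ofPred_eq]
  constructor
  · rintro ⟨x, rfl⟩
    obtain ⟨g, rfl⟩ := Cfsg.Agent.Lib.Helper16.pslMk_surjective x
    exact order_dvd p g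
  · rintro (h | h | h)
    · rcases (Nat.dvd_prime (Fact.out : p.Prime)).mp h with h1 | h1
      · exact ⟨1, by rw [orderOf_one, h1]⟩
      · rw [h1]
        exact ex_p p
    · exact ex_split m h
    · exact ex_nonsplit m h

end Cfsg.Agent.S2475
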