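import Cfsg.Statements.S2477
import Mathlib

set_option autoImplicit false
open Cfsg

namespace Cfsg.Agent.S2477

theorem alt_order_iff (n k : ℕ) :
    (k ∈ Set.range (orderOf : alternatingGroup (Fin n) → ℕ)) ↔
      ∃ m : Multiset ℕ, (∀ a ∈ m, 2 ≤ a) ∧ m.sum ≤ n ∧ Even (m.sum + Multiset.card m) ∧ m.lcm = k := by
  constructor
  · rintro ⟨⟨σ, hσ⟩, rfl⟩
    refine ⟨σ.cycleType, fun a ha => Equiv.Perm.two_le_of_mem_cycleType ha, ?_, ?_, ?_⟩
    · rw [Equiv.Perm.sum_cycleType]
      simpa using Finset.card_le_univ σ.support
    · rw [Equiv.Perm.mem_alternatingGroup, Equiv.Perm.sign_of_cycleType] at hσ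
      exact (neg_one_pow_eq_one_iff_even (by decide)).mp hσ
    · rw [Equiv.Perm.lcm_cycleType, Subgroup.orderOf_mk]
  · rintro ⟨m, h2, hsum, hev, rfl⟩
    obtain ⟨g, hg⟩ := (Equiv.Perm.exists_with_cycleType_iff (α := Fin n)).mpr ⟨by simpa using hsum, h2⟩
    have hmem : g ∈ alternatingGroup (Fin n) := by
      rw [Equiv.Perm.mem_alternatingGroup, Equiv.Perm.sign_of_cycleType, hg]
      exact hev.neg_one_pow
    refine ⟨⟨g, hmem⟩, ?_⟩
    rw [Subgroup.orderOf_mk, ← Equiv.Perm.lcm_cycleType, hg]

def chk (S : List ℕ) : ℕ → ℕ → ℕ → Bool → Bool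
  | 0, _, _, _ => false
  | fuel + 1, budget, cur, odd =>
    (odd || decide (cur ∈ S)) &&
      (List.range (budget + 1)).all (fun a => decide (a < 2) ||
        chk S fuel (budget - a) (Nat.lcm cur a) (xor odd (decide (a % 2 = 0))))

theorem chk_sound (S : List ℕ) (m : Multiset ℕ) :
    ∀ (fuel budget cur : ℕ) (odd : Bool), Multiset.card m < fuel → (∀ a ∈ m, 2 ≤ a) → m.sum ≤ budget →
      chk S fuel budget cur odd = true →
      (xor odd (decide ((m.sum + Multiset.card m) % 2 = 1))) = false → Nat.lcm cur m.lcm ∈ S := by
  induction m using Multiset.induction_on with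
  | empty =>
    intro fuel budget cur odd hf h2 hs hc hp
    cases fuel with
    | zero => simp at hf
    | succ f =>
      rw [chk, Bool.and_eq_true] at hc
      have hodd : odd = false := by simpa using hp
      subst hodd
      simpa using hc.1
  | cons a s ih =>
    intro fuel budget cur odd hf h2 hs hc hp
    cases fuel with
    | zero => simp at hf
    | succ f =>
      rw [chk, Bool.and_eq_true, List.all_eq_true] at hc
      have ha2 : 2 ≤ a := h2 a (Multiset.mem_cons_self a s)
      have hsum : a + s.sum ≤ budget := by simpa using hs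
      have h1 := hc.2 a (List.mem_range.mpr (by omega))
      simp only [Bool.or_eq_true, decide_eq_true_eq] at h1
      have h1' : chk S f (budget - a) (Nat.lcm cur a) (xor odd (decide (a % 2 = 0))) = true := by
        rcases h1 with h1 | h1
        · omega
        · exact h1
      have hpar : (xor (xor odd (decide (a % 2 = 0))) (decide ((s.sum + Multiset.card s) % 2 = 1))) = false := by
        rw [Multiset.sum_cons, Multiset.card_cons] at hp
        rcases Nat.mod_two_eq_zero_or_one a with h | h <;>
          rcases Nat.mod_two_eq_zero_or_one (s.sum + Multiset.card s) with h' | h' <;>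
          cases odd <;> simp_all <;> omega
      have := ih f (budget - a) (Nat.lcm cur a) (xor odd (decide (a % 2 = 0)))
        (by simpa using hf) (fun b hb => h2 b (Multiset.mem_cons_of_mem hb)) (by omega) h1' hpar
      rw [Multiset.lcm_cons, lcm_eq_nat_lcm, ← Nat.lcm_assoc]
      exact this

theorem chk_A10 : chk [1, 2, 3, 4, 5, 6, 7, 8, 9, 10, 12, 15, 21] 6 10 1 false = true := by
  decide

/-- The set of element orders of the alternating group of degree 10 is {1, 2, 3, 4, 5, 6, 7, 8, 9, 10, 12, 15, 21}. -/
theorem result : Set.range (orderOf : alternatingGroup (Fin 10) → ℕ) = {1, 2, 3, 4, 5, 6, 7, 8, 9, 10, 12, 15, 21} := by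
  ext k
  rw [alt_order_iff]
  constructor
  · rintro ⟨m, h2, hsum, hev, hlcm⟩
    have hcard : Multiset.card m < 6 := by
      have := Multiset.card_nsmul_le_sum (s := m) (a := 2) h2
      simp only [smul_eq_mul] at this
      omega
    have hpar : (xor false (decide ((m.sum + Multiset.card m) % 2 = 1))) = false := by
      have := Nat.even_iff.mp hev
      simp [this]
    have := chk_sound [1, 2, 3, 4, 5, 6, 7, 8, 9, 10, 12, 15, 21] m 6 10 1 false hcard h2 hsum chk_A10 hpar
    rw [Nat.lcm_one_left, hlcm] at this
    simpa using this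
  · intro hk
    simp only [Set.mem_insert_iff, Set.mem_singleton_iff] at hk
    rcases hk with rfl | rfl | rfl | rfl | rfl | rfl | rfl | rfl | rfl | rfl | rfl | rfl | rfl
    · exact ⟨0, by decide, by decide, by decide, by decide⟩
    · exact ⟨{2, 2}, by decide, by decide, by decide, by decide⟩
    · exact ⟨{3}, by decide, by decide, by decide, by decide⟩
    · exact ⟨{4, 2}, by decide, by decide, by decide, by decide⟩
    · exact ⟨{5}, by decide, by decide, by decide, by decide⟩
    · exact ⟨{3, 2, 2}, by decide, by decide, by decide, by decide⟩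
    · exact ⟨{7}, by decide, by decide, by decide, by decide⟩
    · exact ⟨{8, 2}, by decide, by decide, by decide, by decide⟩
    · exact ⟨{9}, by decide, by decide, by decide, by decide⟩
    · exact ⟨{5, 2, 2}, by decide, by decide, by decide, by decide⟩
    · exact ⟨{4, 3, 2}, by decide, by decide, by decide, by decide⟩
    · exact ⟨{5, 3}, by decide, by decide, by decide, by decide⟩
    · exact ⟨{7, 3}, by decide, by decide, by decide, by decide⟩

end Cfsg.Agent.S2477
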