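import Cfsg.Statements.S2530
import Mathlib

set_option autoImplicit false
open Cfsg

namespace Cfsg.Agent.S2530

theorem A_apply (n : ℕ) (i i' : Fin n) : (CoxeterMatrix.A n) i i' =
    if i = i' then 1 else (if (i' : ℕ) + 1 = i ∨ (i : ℕ) + 1 = i' then 3 else 2) := rfl

theorem swap_liftable (n : ℕ) :
    (CoxeterMatrix.A n).IsLiftable (fun i : Fin n => Equiv.swap i.castSucc i.succ) := by
  intro i i'
  show (Equiv.swap i.castSucc i.succ * Equiv.swap i'.castSucc i'.succ) ^ (CoxeterMatrix.A n) i i'
    = 1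
  rw [A_apply]
  by_cases h : i = i'
  · subst h
    simp
  · rw [if_neg h]
    have hv : (i : ℕ) ≠ i' := fun hh => h (Fin.ext hh)
    by_cases h2 : (i' : ℕ) + 1 = i ∨ (i : ℕ) + 1 = i'
    · rw [if_pos h2]
      have h3 : Equiv.Perm.IsThreeCycle
          (Equiv.swap i.castSucc i.succ * Equiv.swap i'.castSucc i'.succ) := by
        rcases h2 with h2 | h2
        · have e : i'.succ = i.castSucc := Fin.ext (by simp [h2])
          rw [e, Equiv.swap_comm i'.castSucc]
          apply Equiv.Perm.isThreeCycle_swap_mul_swap_same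
          · intro hh
            have := congrArg Fin.val hh
            simp at this
          · intro hh
            have := congrArg Fin.val hh
            simp at this
            omega
          · intro hh
            have := congrArg Fin.val hh
            simp at this
            omega
        · have e : i'.castSucc = i.succ := Fin.ext (by simp [h2])
          rw [e, Equiv.swap_comm i.castSucc]
          apply Equiv.Perm.isThreeCycle_swap_mul_swap_same
          · intro hh
            have := congrArg Fin.val hh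
            simp at this
          · intro hh
            have := congrArg Fin.val hh
            simp at this
            omega
          · intro hh
            have := congrArg Fin.val hh
            simp at this
            omega
      rw [← h3.orderOf]
      exact pow_orderOf_eq_one _
    · rw [if_neg h2]
      push Not at h2
      have hd : Equiv.Perm.Disjoint (Equiv.swap i.castSucc i.succ)
          (Equiv.swap i'.castSucc i'.succ) := by
        apply Equiv.Perm.disjoint_swap_swap
        simp [Fin.ext_iff]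
        omega
      rw [pow_two, hd.commute.symm.mul_mul_mul_comm]
      simp

/-- generators indexed by natural numbers (trivial outside the range) -/
noncomputable def sg (n : ℕ) (j : ℕ) : (CoxeterMatrix.A n).Group :=
  if h : j < n then (CoxeterMatrix.A n).toCoxeterSystem.simple ⟨j, h⟩ else 1

theorem sg_of_lt (n : ℕ) {j : ℕ} (h : j < n) :
    sg n j = (CoxeterMatrix.A n).toCoxeterSystem.simple ⟨j, h⟩ := by
  rw [sg, dif_pos h]

theorem sg_of_ge (n : ℕ) {j : ℕ} (h : n ≤ j) : sg n j = 1 := by
  rw [sg, dif_neg (by omega)]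

theorem sg_sq (n j : ℕ) : sg n j * sg n j = 1 := by
  by_cases h : j < n
  · rw [sg_of_lt n h]
    exact (CoxeterMatrix.A n).toCoxeterSystem.simple_mul_simple_self _
  · rw [sg_of_ge n (by omega), one_mul]

theorem sg_inv (n j : ℕ) : (sg n j)⁻¹ = sg n j :=
  inv_eq_of_mul_eq_one_right (sg_sq n j)

theorem sg_comm (n : ℕ) {i j : ℕ} (h : i + 2 ≤ j) : sg n i * sg n j = sg n j * sg n i := by
  by_cases hj : j < n
  · have hi : i < n := by omega
    have h1 := (CoxeterMatrix.A n).toCoxeterSystem.simple_mul_simple_pow ⟨i, hi⟩ ⟨j, hj⟩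
    have hne : (⟨i, hi⟩ : Fin n) ≠ ⟨j, hj⟩ := by
      intro hh
      have h' : i = j := congrArg Fin.val hh
      omega
    have hna : ¬ (((⟨j, hj⟩ : Fin n) : ℕ) + 1 = ((⟨i, hi⟩ : Fin n) : ℕ) ∨
        ((⟨i, hi⟩ : Fin n) : ℕ) + 1 = ((⟨j, hj⟩ : Fin n) : ℕ)) := by
      show ¬ (j + 1 = i ∨ i + 1 = j)
      omega
    rw [A_apply, if_neg hne, if_neg hna, ← sg_of_lt n hi, ← sg_of_lt n hj, pow_two] at h1
    have h2 : sg n i * sg n j = (sg n i * sg n j)⁻¹ := eq_inv_of_mul_eq_one_left h1
    rw [h2, mul_inv_rev, sg_inv, sg_inv]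
  · rw [sg_of_ge n (j := j) (by omega), one_mul, mul_one]

theorem sg_braid (n : ℕ) {j : ℕ} (h : j + 1 < n) :
    sg n j * sg n (j + 1) * sg n j = sg n (j + 1) * sg n j * sg n (j + 1) := by
  have hj : j < n := by omega
  have h1 := (CoxeterMatrix.A n).toCoxeterSystem.simple_mul_simple_pow ⟨j, hj⟩ ⟨j + 1, h⟩
  have hne : (⟨j, hj⟩ : Fin n) ≠ ⟨j + 1, h⟩ := by
    intro hh
    have h' : j = j + 1 := congrArg Fin.val hh
    omega
  have hna : (((⟨j + 1, h⟩ : Fin n) : ℕ) + 1 = ((⟨j, hj⟩ : Fin n) : ℕ) ∨
      ((⟨j, hj⟩ : Fin n) : ℕ) + 1 = ((⟨j + 1, h⟩ : Fin n) : ℕ)) := Or.inr rfl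
  rw [A_apply, if_neg hne, if_pos hna, ← sg_of_lt n hj, ← sg_of_lt n h, pow_succ, pow_two] at h1
  have h2 : sg n j * sg n (j + 1) * sg n j * (sg n (j + 1) * sg n j * sg n (j + 1)) = 1 := by
    rw [← h1]
    simp only [mul_assoc]
  have h3 := eq_inv_of_mul_eq_one_left h2
  rw [h3, mul_inv_rev, mul_inv_rev, sg_inv, sg_inv, mul_assoc]

/-- the descending chains `s_n s_{n-1} ⋯ s_{n-k+1}` -/
noncomputable def ch (n : ℕ) : ℕ → (CoxeterMatrix.A (n + 1)).Group
  | 0 => 1
  | k + 1 => ch n k * sg (n + 1) (n - k)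

theorem ch_zero (n : ℕ) : ch n 0 = 1 := rfl

theorem ch_succ (n k : ℕ) : ch n (k + 1) = ch n k * sg (n + 1) (n - k) := rfl

theorem ch_comm (n : ℕ) (m i : ℕ) (h : i + 2 ≤ n + 1 - m) :
    ch n m * sg (n + 1) i = sg (n + 1) i * ch n m := by
  induction m with
  | zero => rw [ch_zero, one_mul, mul_one]
  | succ m ih =>
    rw [ch_succ, mul_assoc, ← sg_comm (n + 1) (i := i) (j := n - m) (by omega), ← mul_assoc,
      ih (by omega), mul_assoc]

theorem ch_step (n : ℕ) (k j : ℕ) (h1 : n + 1 - k < j) (h2 : j ≤ n) (hk : k ≤ n + 1) :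
    ch n k * sg (n + 1) j = sg (n + 1) (j - 1) * ch n k := by
  induction k with
  | zero => omega
  | succ k ih =>
    by_cases hj : j = n + 1 - k
    · obtain ⟨k', rfl⟩ : ∃ k', k = k' + 1 := ⟨k - 1, by omega⟩
      have e1 : n - k' = j := by omega
      have e2 : n - (k' + 1) = j - 1 := by omega
      rw [ch_succ, ch_succ, e1, e2]
      have hb := sg_braid (n + 1) (j := j - 1) (by omega)
      have e3 : j - 1 + 1 = j := by omega
      rw [e3] at hb
      have hc := ch_comm n k' (j - 1) (by omega)
      calc ch n k' * sg (n + 1) j * sg (n + 1) (j - 1) * sg (n + 1) j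
          = ch n k' * (sg (n + 1) j * sg (n + 1) (j - 1) * sg (n + 1) j) := by
            simp only [mul_assoc]
        _ = ch n k' * (sg (n + 1) (j - 1) * sg (n + 1) j * sg (n + 1) (j - 1)) := by rw [hb]
        _ = (ch n k' * sg (n + 1) (j - 1)) * sg (n + 1) j * sg (n + 1) (j - 1) := by
            simp only [mul_assoc]
        _ = sg (n + 1) (j - 1) * (ch n k' * sg (n + 1) j * sg (n + 1) (j - 1)) := by
            rw [hc]
            simp only [mul_assoc]
    · have ih' := ih (by omega) (by omega)
      rw [ch_succ, mul_assoc, sg_comm (n + 1) (i := n - k) (j := j) (by omega), ← mul_assoc, ih',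
        mul_assoc]

theorem emb_liftable (n : ℕ) : (CoxeterMatrix.A n).IsLiftable
    (fun i : Fin n => (CoxeterMatrix.A (n + 1)).toCoxeterSystem.simple i.castSucc) := by
  intro i i'
  have h1 := (CoxeterMatrix.A (n + 1)).toCoxeterSystem.simple_mul_simple_pow
    i.castSucc i'.castSucc
  have h2 : (CoxeterMatrix.A (n + 1)) i.castSucc i'.castSucc = (CoxeterMatrix.A n) i i' := by
    rw [A_apply, A_apply]
    simp [Fin.ext_iff]
  rw [h2] at h1
  exact h1

/-- the embedding of the type `A_n` group into the type `A_{n+1}` group -/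
noncomputable def emb (n : ℕ) : (CoxeterMatrix.A n).Group →* (CoxeterMatrix.A (n + 1)).Group :=
  (CoxeterMatrix.A n).toCoxeterSystem.lift ⟨_, emb_liftable n⟩

theorem emb_sg (n : ℕ) {j : ℕ} (h : j < n) : emb n (sg n j) = sg (n + 1) j := by
  rw [sg_of_lt n h, sg_of_lt (n + 1) (by omega : j < n + 1), emb]
  exact CoxeterSystem.lift_apply_simple _ (emb_liftable n) ⟨j, h⟩

theorem coset_step (n : ℕ) (k j : ℕ) (hk : k ≤ n + 1) (hj : j ≤ n) :
    ∃ x : (CoxeterMatrix.A n).Group, ∃ k', k' ≤ n + 1 ∧
      ch n k * sg (n + 1) j = emb n x * ch n k' := by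
  rcases Nat.lt_or_ge (j + 1) (n + 1 - k) with h | h
  · exact ⟨sg n j, k, hk, by rw [emb_sg n (by omega), ch_comm n k j (by omega)]⟩
  · rcases Nat.lt_or_ge j (n + 1 - k) with h' | h'
    · refine ⟨1, k + 1, by omega, ?_⟩
      have e : n - k = j := by omega
      rw [map_one, one_mul, ch_succ, e]
    · rcases Nat.lt_or_ge (n + 1 - k) j with h'' | h''
      · exact ⟨sg n (j - 1), k, hk, by rw [emb_sg n (by omega), ch_step n k j h'' hj hk]⟩
      · obtain ⟨k', rfl⟩ : ∃ k', k = k' + 1 := ⟨k - 1, by omega⟩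
        refine ⟨1, k', by omega, ?_⟩
        have e : n - k' = j := by omega
        rw [map_one, one_mul, ch_succ, e, mul_assoc, sg_sq, mul_one]

theorem cover (n : ℕ) (w : (CoxeterMatrix.A (n + 1)).Group) :
    ∃ x : (CoxeterMatrix.A n).Group, ∃ k', k' ≤ n + 1 ∧ w = emb n x * ch n k' := by
  induction w using (CoxeterMatrix.A (n + 1)).toCoxeterSystem.simple_induction_right with
  | one => exact ⟨1, 0, by omega, by rw [map_one, one_mul, ch_zero]⟩
  | mul_simple_right w i ih =>
    obtain ⟨x, k, hk, rfl⟩ := ih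
    obtain ⟨y, k', hk', hy⟩ := coset_step n k (i : ℕ) hk (by have := i.2; omega)
    refine ⟨x * y, k', hk', ?_⟩
    have e : (CoxeterMatrix.A (n + 1)).toCoxeterSystem.simple i = sg (n + 1) (i : ℕ) := by
      rw [sg_of_lt (n + 1) i.2]
    rw [e, mul_assoc, hy, map_mul, mul_assoc]

theorem card_le (n : ℕ) : Finite (CoxeterMatrix.A n).Group ∧
    Nat.card (CoxeterMatrix.A n).Group ≤ (n + 1).factorial := by
  induction n with
  | zero =>
    have hsub : Subsingleton (CoxeterMatrix.A 0).Group := by
      constructor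
      intro a b
      have h1 : ∀ w : (CoxeterMatrix.A 0).Group, w = 1 := by
        intro w
        induction w using (CoxeterMatrix.A 0).toCoxeterSystem.simple_induction_right with
        | one => rfl
        | mul_simple_right w i ih => exact i.elim0
      rw [h1 a, h1 b]
    refine ⟨inferInstance, ?_⟩
    rw [Nat.card_unique]
    simp
  | succ n ih =>
    obtain ⟨hfin, hcard⟩ := ih
    have hsurj : Function.Surjective
        (fun p : (CoxeterMatrix.A n).Group × Fin (n + 2) => emb n p.1 * ch n (p.2 : ℕ)) := by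
      intro w
      obtain ⟨x, k, hk, rfl⟩ := cover n w
      exact ⟨(x, ⟨k, by omega⟩), rfl⟩
    have hfin' : Finite (CoxeterMatrix.A (n + 1)).Group := Finite.of_surjective _ hsurj
    refine ⟨hfin', ?_⟩
    have h1 := Nat.card_le_card_of_surjective _ hsurj
    rw [Nat.card_prod, Nat.card_fin] at h1
    calc Nat.card (CoxeterMatrix.A (n + 1)).Group
        ≤ Nat.card (CoxeterMatrix.A n).Group * (n + 2) := h1
      _ ≤ (n + 1).factorial * (n + 2) := Nat.mul_le_mul_right _ hcard
      _ = (n + 1 + 1).factorial := by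
          rw [Nat.factorial_succ (n + 1)]
          ring

/-- The Coxeter presentation of the symmetric group: for every n, the symmetric group on n+1 letters is the Coxeter group of type A_n with the adjacent transpositions (i, i+1) as simple reflections; that is, it is presented by generators r_1, …, r_n subject to r_i² = 1, (r_i r_j)² = 1 for |i − j| > 1 and (r_i r_{i+1})³ = 1, with r_i mapping to (i, i+1). -/
theorem result (n : ℕ) :
    ∃ cs : CoxeterSystem (CoxeterMatrix.A n) (Equiv.Perm (Fin (n + 1))), ∀ i : Fin n, cs.simple i = Equiv.swap i.castSucc i.succ := by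
  classical
  obtain ⟨hfin, hcard⟩ := card_le n
  let φ : (CoxeterMatrix.A n).Group →* Equiv.Perm (Fin (n + 1)) :=
    (CoxeterMatrix.A n).toCoxeterSystem.lift ⟨_, swap_liftable n⟩
  have hφ : ∀ i : Fin n, φ ((CoxeterMatrix.A n).toCoxeterSystem.simple i) =
      Equiv.swap i.castSucc i.succ := fun i =>
    CoxeterSystem.lift_apply_simple _ (swap_liftable n) i
  have hsurj : Function.Surjective φ := by
    rw [← MonoidHom.range_eq_top, eq_top_iff]
    have h1 : (⊤ : Submonoid (Equiv.Perm (Fin (n + 1)))) ≤ φ.range.toSubmonoid := by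
      rw [← Equiv.Perm.mclosure_swap_castSucc_succ n, Submonoid.closure_le]
      rintro _ ⟨i, rfl⟩
      exact ⟨_, hφ i⟩
    intro x _
    exact h1 (Submonoid.mem_top x)
  have hbij : Function.Bijective φ := by
    apply hsurj.bijective_of_nat_card_le
    rw [Nat.card_perm, Nat.card_fin]
    exact hcard
  refine ⟨⟨(MulEquiv.ofBijective φ hbij).symm⟩, ?_⟩
  intro i
  exact hφ i

end Cfsg.Agent.S2530
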