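import Cfsg.Statements.S2794
import Cfsg.Agent.Lib.Helper14.QdRed
import Cfsg.Agent.Lib.Helper17.QdConv
import Cfsg.Agent.Lib.Helper17.QdZJ
import Cfsg.Agent.Lib.Helper17.QdFail2

set_option autoImplicit false
open Cfsg

namespace Cfsg.Agent.S2794

/-- For an odd prime p and a finite group G, the group Qd(p) is not involved in G if and only if in every section K/R of G, for every Sylow p-subgroup S* of K/R, the centre of J(S*) (J generated by the abelian subgroups of largest order) controls strong fusion in K/R. -/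
theorem result {G : Type*} [Group G] [Finite G] {p : ℕ} [Fact p.Prime] (hp : p ≠ 2) : ¬ Cfsg.Involves ↥(Cfsg.qd p) G ↔ ∀ (K R : Subgroup G) [hR : (R.subgroupOf K).Normal], ∀ T : Sylow p (K ⧸ R.subgroupOf K), Cfsg.ControlsStrongFusion p (Cfsg.centerThompsonAOf (T : Subgroup (K ⧸ R.subgroupOf K))) := by
  constructor
  · intro hno K R hR T
    haveI := hR
    have hnoY : ¬ Cfsg.Involves ↥(Cfsg.qd p) (↥K ⧸ R.subgroupOf K) := by
      intro hinv
      apply hno
      exact Cfsg.Agent.Lib.Helper17.involves_of_subgroup K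
        (Cfsg.Agent.Lib.Helper17.involves_of_quotient (R.subgroupOf K) hinv)
    apply Cfsg.Agent.Lib.Helper17.zjA_sf_of_sections_stable hp
    intro K' R' hR'
    haveI := hR'
    apply Cfsg.Agent.Lib.Helper14.QdRed.qd_stable hp
    intro hinv
    apply hnoY
    exact Cfsg.Agent.Lib.Helper17.involves_of_subgroup K'
      (Cfsg.Agent.Lib.Helper17.involves_of_quotient (R'.subgroupOf K') hinv)
  · intro h
    rintro ⟨K, R, hR, ⟨e⟩⟩
    haveI := hR
    have T : Sylow p (↥K ⧸ R.subgroupOf K) := default
    exact Cfsg.Agent.Lib.Helper17.qd_zjA_not_sf e T (h K R T)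

end Cfsg.Agent.S2794
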