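import Cfsg.Statements.S2803
import Cfsg.Agent.Lib.Helper17.SylowNormal
import Cfsg.Agent.Lib.Helper17.Amalgam

set_option autoImplicit false
open Cfsg

namespace Cfsg.Agent.S2803

open Cfsg.Agent.Lib.Helper17

/-- Let L be a finite group and p a prime with C_L(O_p(L)) ≤ O_p(L), T a Sylow p-subgroup, and Y the largest p-reduced normal subgroup of L. Put T_L = C_T(Y) and L_T = N_L(T_L). Then L = L_T · C_L(Y) (elementwise), T_L = O_p(L_T), and Y = Ω₁(Z(T_L)). -/
theorem result {L : Type*} [Group L] [Finite L] {p : ℕ} [Fact p.Prime] (hchar : Subgroup.centralizer (Cfsg.pCore p L : Set L) ≤ Cfsg.pCore p L) (T : Sylow p L) (Y : Subgroup L) (hY : (Cfsg.IsPReducedNormal p Y ∧ ∀ V : Subgroup L, Cfsg.IsPReducedNormal p V → V ≤ Y)) (TL : Subgroup L) (hTL : TL = (T : Subgroup L) ⊓ Subgroup.centralizer (Y : Set L)) : (∀ g : L, ∃ a ∈ Subgroup.normalizer (TL : Set L), ∃ c ∈ Subgroup.centralizer (Y : Set L), g = a * c) ∧ (Cfsg.pCore p ↥(Subgroup.normalizer (TL : Set L))).map (Subgroup.normalizer (TL :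 Set L)).subtype = TL ∧ Y = Cfsg.omegaOne p (TL ⊓ Subgroup.centralizer (TL : Set L)) := by
  obtain ⟨hYred, hYmax⟩ := hY
  have hYred' := hYred
  obtain ⟨hYn, hYe, hCN, hYcore⟩ := hYred
  haveI := hCN
  haveI := hYn
  subst hTL
  have hcardTL := card_sylow_inf_normal T (Subgroup.centralizer (Y : Set L))
  have hTLC : (T : Subgroup L) ⊓ Subgroup.centralizer (Y : Set L) ≤ Subgroup.centralizer (Y : Set L) :=
    inf_le_right
  have hTLT : (T : Subgroup L) ⊓ Subgroup.centralizer (Y : Set L) ≤ T := inf_le_left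
  have hTLp : IsPGroup p ↥((T : Subgroup L) ⊓ Subgroup.centralizer (Y : Set L)) :=
    T.isPGroup'.to_le hTLT
  have hFr := frattini_sylow_inf_normal T (Subgroup.centralizer (Y : Set L))
  have hpT : Cfsg.pCore p L ≤ (T : Subgroup L) := pCore_le_sylow T
  have hYab : Y ≤ Subgroup.centralizer (Y : Set L) := by
    intro y hy
    rw [Subgroup.mem_centralizer_iff]
    intro z hz
    have := hYe.1.is_comm.comm (⟨z, hz⟩ : Y) ⟨y, hy⟩
    exact congrArg Subtype.val this
  have hYomega : Y ≤ omegaCenterPCore L p := pReduced_le_omegaCenterPCore hchar hYred'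
  -- Y ≤ Ω₁(Z(TL))
  have hYW : Y ≤ Cfsg.omegaOne p (((T : Subgroup L) ⊓ Subgroup.centralizer (Y : Set L)) ⊓
      Subgroup.centralizer ((((T : Subgroup L) ⊓ Subgroup.centralizer (Y : Set L)) : Subgroup L) : Set L)) := by
    intro y hy
    have h1 := hYomega hy
    apply mem_omegaOne p _ _ h1.2
    refine Subgroup.mem_inf.mpr ⟨Subgroup.mem_inf.mpr ⟨hpT (Subgroup.mem_inf.mp h1.1).1, hYab hy⟩, ?_⟩
    rw [Subgroup.mem_centralizer_iff]
    intro t ht
    exact (Subgroup.mem_centralizer_iff.mp (hTLC ht) y hy).symm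
  refine ⟨hFr, ?_, ?_⟩
  · -- O_p(N(TL)) = TL
    have hge : (T : Subgroup L) ⊓ Subgroup.centralizer (Y : Set L) ≤
        (Cfsg.pCore p ↥(Subgroup.normalizer ((((T : Subgroup L) ⊓ Subgroup.centralizer (Y : Set L)) : Subgroup L) : Set L))).map
          (Subgroup.normalizer ((((T : Subgroup L) ⊓ Subgroup.centralizer (Y : Set L)) : Subgroup L) : Set L)).subtype := by
      have h1 : (((T : Subgroup L) ⊓ Subgroup.centralizer (Y : Set L)).subgroupOf
          (Subgroup.normalizer ((((T : Subgroup L) ⊓ Subgroup.centralizer (Y : Set L)) : Subgroup L) : Set L))) ≤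
          Cfsg.pCore p ↥(Subgroup.normalizer ((((T : Subgroup L) ⊓ Subgroup.centralizer (Y : Set L)) : Subgroup L) : Set L)) := by
        apply le_pCore
        · exact Subgroup.normal_in_normalizer
        · exact hTLp.comap_subtype
      intro x hx
      have hxN : x ∈ Subgroup.normalizer ((((T : Subgroup L) ⊓ Subgroup.centralizer (Y : Set L)) : Subgroup L) : Set L) :=
        Subgroup.le_normalizer hx
      refine ⟨⟨x, hxN⟩, h1 ?_, rfl⟩
      rw [Subgroup.mem_subgroupOf]
      exact hx
    apply eq_sylow_inf_normal_of_le T _ _ _ _ hge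
    · exact (pCore_isPGroup).map _
    · -- Q ≤ C
      have hQn : (((Cfsg.pCore p ↥(Subgroup.normalizer ((((T : Subgroup L) ⊓ Subgroup.centralizer (Y : Set L)) : Subgroup L) : Set L))).map (Subgroup.normalizer ((((T : Subgroup L) ⊓ Subgroup.centralizer (Y : Set L)) : Subgroup L) : Set L)).subtype).map (QuotientGroup.mk' (Subgroup.centralizer (Y : Set L)))).Normal := by
        constructor
        rintro _ ⟨_, ⟨q, hq, rfl⟩, rfl⟩ y
        obtain ⟨g, rfl⟩ := QuotientGroup.mk'_surjective _ y
        obtain ⟨a, ha, c, hc, rfl⟩ := hFr g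
        have hq' := (Cfsg.Agent.Lib.Helper17.pCore_normal (G := ↥(Subgroup.normalizer ((((T : Subgroup L) ⊓ Subgroup.centralizer (Y : Set L)) : Subgroup L) : Set L))) (p := p)).conj_mem q hq ⟨a, ha⟩
        refine ⟨a * (q : L) * a⁻¹, ⟨_, hq', rfl⟩, ?_⟩
        have hc1 : QuotientGroup.mk' (Subgroup.centralizer (Y : Set L)) c = 1 :=
          (QuotientGroup.eq_one_iff c).mpr hc
        simp only [map_mul, map_inv, hc1, mul_one, Subgroup.coe_subtype]
      have hQp : IsPGroup p ↥(((Cfsg.pCore p ↥(Subgroup.normalizer ((((T : Subgroup L) ⊓ Subgroup.centralizer (Y : Set L)) : Subgroup L) : Set L))).map (Subgroup.normalizer ((((T : Subgroup L) ⊓ Subgroup.centralizer (Y : Set L)) : Subgroup L) : Set L)).subtype).map (QuotientGroup.mk' (Subgroup.centralizer (Y : Set L)))) :=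
        ((pCore_isPGroup).map _).map _
      have h3 := le_pCore hQn hQp
      rw [hYcore] at h3
      intro x hx
      have h4 := h3 (Subgroup.mem_map_of_mem _ hx)
      rw [Subgroup.mem_bot] at h4
      exact (QuotientGroup.eq_one_iff x).mp h4
  · apply le_antisymm hYW
    -- W ≤ Y
    have hpTL : Cfsg.pCore p L ≤ (T : Subgroup L) ⊓ Subgroup.centralizer (Y : Set L) :=
      le_inf hpT (normal_pGroup_le_centralizer_of_pReduced hYred' _ Cfsg.Agent.Lib.Helper17.pCore_normal pCore_isPGroup)
    have hWomega : Cfsg.omegaOne p (((T : Subgroup L) ⊓ Subgroup.centralizer (Y : Set L)) ⊓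
        Subgroup.centralizer ((((T : Subgroup L) ⊓ Subgroup.centralizer (Y : Set L)) : Subgroup L) : Set L)) ≤
        omegaCenterPCore L p := by
      unfold Cfsg.omegaOne
      rw [Subgroup.closure_le]
      rintro x ⟨hx, hxp⟩
      have hxc : x ∈ Subgroup.centralizer (Cfsg.pCore p L : Set L) :=
        Subgroup.centralizer_le (SetLike.coe_subset_coe.mpr hpTL) (Subgroup.mem_inf.mp hx).2
      exact ⟨Subgroup.mem_inf.mpr ⟨hchar hxc, hxc⟩, hxp⟩
    have hWV := Subgroup.le_normalClosure (G := L) (H := Cfsg.omegaOne p (((T : Subgroup L) ⊓ Subgroup.centralizer (Y : Set L)) ⊓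
        Subgroup.centralizer ((((T : Subgroup L) ⊓ Subgroup.centralizer (Y : Set L)) : Subgroup L) : Set L)))
    refine hWV.trans (hYmax _ ?_)
    have hVE : Subgroup.normalClosure ((Cfsg.omegaOne p (((T : Subgroup L) ⊓ Subgroup.centralizer (Y : Set L)) ⊓
        Subgroup.centralizer ((((T : Subgroup L) ⊓ Subgroup.centralizer (Y : Set L)) : Subgroup L) : Set L)) : Subgroup L) : Set L) ≤
        omegaCenterPCore L p := by
      haveI := omegaCenterPCore_normal (L := L) (p := p)
      exact Subgroup.normalClosure_le_normal hWomega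
    have hVn : (Subgroup.normalClosure ((Cfsg.omegaOne p (((T : Subgroup L) ⊓ Subgroup.centralizer (Y : Set L)) ⊓
        Subgroup.centralizer ((((T : Subgroup L) ⊓ Subgroup.centralizer (Y : Set L)) : Subgroup L) : Set L)) : Subgroup L) : Set L)).Normal :=
      Subgroup.normalClosure_normal
    refine ⟨hVn, isElementaryAbelian_of_le_omegaCenterPCore hVE, ?_⟩
    haveI := hVn
    refine ⟨inferInstance, ?_⟩
    apply pCore_quot_eq_bot_of
    intro D hD hCD hDp
    have hCVY : Subgroup.centralizer ((Subgroup.normalClosure ((Cfsg.omegaOne p (((T : Subgroup L) ⊓ Subgroup.centralizer (Y : Set L)) ⊓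
        Subgroup.centralizer ((((T : Subgroup L) ⊓ Subgroup.centralizer (Y : Set L)) : Subgroup L) : Set L)) : Subgroup L) : Set L) : Subgroup L) : Set L) ≤
        Subgroup.centralizer (Y : Set L) :=
      Subgroup.centralizer_le (SetLike.coe_subset_coe.mpr (hYW.trans hWV))
    have hDY : D ≤ Subgroup.centralizer (Y : Set L) := by
      apply le_of_pCore_quot_eq_bot _ hYcore D hD
      intro d hd
      obtain ⟨k, hk⟩ := hDp d hd
      exact ⟨k, hCVY hk⟩
    have hDW : D ≤ Subgroup.centralizer ((Cfsg.omegaOne p (((T : Subgroup L) ⊓ Subgroup.centralizer (Y : Set L)) ⊓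
        Subgroup.centralizer ((((T : Subgroup L) ⊓ Subgroup.centralizer (Y : Set L)) : Subgroup L) : Set L)) : Subgroup L) : Set L) := by
      intro d hd
      obtain ⟨t, ht, c, hc, rfl⟩ := exists_sylow_mul_of_pGroup_mod _ T D hD hDp d hd
      have htD : t ∈ D := by
        have h4 : t = t * c * c⁻¹ := by group
        rw [h4]; exact D.mul_mem hd (D.inv_mem (hCD hc))
      have htTL : t ∈ (T : Subgroup L) ⊓ Subgroup.centralizer (Y : Set L) :=
        Subgroup.mem_inf.mpr ⟨ht, hDY htD⟩
      apply Subgroup.mul_mem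
      · rw [Subgroup.mem_centralizer_iff]
        intro w hw
        have hw' := (omegaOne_le p _ hw)
        exact (Subgroup.mem_centralizer_iff.mp (Subgroup.mem_inf.mp hw').2 t htTL).symm
      · exact Subgroup.centralizer_le (SetLike.coe_subset_coe.mpr hWV) hc
    haveI := hD
    have hfin : Subgroup.normalClosure ((Cfsg.omegaOne p (((T : Subgroup L) ⊓ Subgroup.centralizer (Y : Set L)) ⊓
        Subgroup.centralizer ((((T : Subgroup L) ⊓ Subgroup.centralizer (Y : Set L)) : Subgroup L) : Set L)) : Subgroup L) : Set L) ≤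
        Subgroup.centralizer (D : Set L) :=
      Subgroup.normalClosure_le_normal (Subgroup.le_centralizer_iff.mp hDW)
    exact Subgroup.le_centralizer_iff.mp hfin

end Cfsg.Agent.S2803
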