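import Cfsg.Statements.S2804
import Cfsg.Agent.Lib.Helper17.CoprimeComm

set_option autoImplicit false
open Cfsg

namespace Cfsg.Agent.S2804

open Cfsg.Agent.Lib in
open scoped commutatorElement in
theorem main {L : Type*} [Group L] [Finite L] {p : ℕ} [Fact p.Prime]
    (V : Subgroup L) (hV : Cfsg.IsPReducedNormal p V) (K : Subgroup L) (hK : K.IsSubnormal) :
    ⁅V, Helper18.pResOf p K⁆ ≤ K ∧
      Cfsg.IsPReducedNormal p ((⁅V, Helper18.pResOf p K⁆).subgroupOf K) := by
  obtain ⟨hVn, ⟨hVcomm, hVexp⟩, hCn, hcore⟩ := hV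
  have := hVn
  have := hCn
  have hVc : ∀ a ∈ V, ∀ b ∈ V, a * b = b * a := by
    intro a ha b hb
    have h0 := hVcomm.is_comm.comm ⟨a, ha⟩ ⟨b, hb⟩
    exact congrArg Subtype.val h0
  have hVp : IsPGroup p V := by
    intro a
    refine ⟨1, ?_⟩
    apply Subtype.ext
    simpa using hVexp a a.2
  have hWK : ⁅V, Helper18.pResOf p K⁆ ≤ K :=
    Helper17.commutator_pResOf_le_of_isSubnormal hVc hVp hK
  have hWV : ⁅V, Helper18.pResOf p K⁆ ≤ V := Subgroup.commutator_le_left V _
  have hKW : K ≤ Subgroup.normalizer ((⁅V, Helper18.pResOf p K⁆ : Subgroup L) : Set L) := by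
    intro k hk
    apply Helper18.mem_normalizer_of_map_conj_eq
    rw [Subgroup.map_commutator]
    have h1 : V.map (MulAut.conj k).toMonoidHom = V :=
      Helper18.map_conj_eq_of_mem_normalizer V
        (by rw [Subgroup.normalizer_eq_top_iff.mpr hVn]; trivial)
    have h2 : (Helper18.pResOf p K).map (MulAut.conj k).toMonoidHom = Helper18.pResOf p K :=
      Helper18.map_conj_eq_of_mem_normalizer _ (Helper18.le_normalizer_pResOf p K hk)
    rw [h1, h2]
  have hWn : ((⁅V, Helper18.pResOf p K⁆).subgroupOf K).Normal :=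
    Subgroup.normal_subgroupOf_of_le_normalizer hKW
  have := hWn
  refine ⟨hWK, hWn, ⟨⟨⟨fun a b => ?_⟩⟩, fun a ha => ?_⟩, inferInstance, ?_⟩
  · apply Subtype.ext
    apply Subtype.ext
    exact hVc _ (hWV a.2) _ (hWV b.2)
  · apply Subtype.ext
    have h0 := hVexp _ (hWV ha)
    simpa using h0
  · apply Helper17.pCore_quot_eq_bot_of
    intro D' hD'n hND' hD'p
    have hDK : D'.map K.subtype ≤ K := Subgroup.map_subtype_le D'
    have hKD : K ≤ Subgroup.normalizer ((D'.map K.subtype : Subgroup L) : Set L) := by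
      have h1 := Subgroup.le_normalizer_map (H := D') K.subtype
      rw [Subgroup.normalizer_eq_top_iff.mpr hD'n, ← MonoidHom.range_eq_map, Subgroup.range_subtype] at h1
      exact h1
    have hDC : D'.map K.subtype ≤ Subgroup.centralizer (V : Set L) := by
      apply Helper17.le_of_subnormal_of_pCore_quot_eq_bot _ hcore hK _ hDK hKD
      rintro _ ⟨d', hd', rfl⟩
      obtain ⟨k, hk⟩ := hD'p d' hd'
      obtain ⟨n, hn⟩ := Helper18.exists_pow_coprime_order (p := p) (isOfFinOrder_of_finite (d' : L))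
      refine ⟨n, ?_⟩
      have hxK : (d' : L) ^ (p ^ n) ∈ K := K.pow_mem d'.2 _
      have hxR : (d' : L) ^ (p ^ n) ∈ Helper18.pResOf p K := Helper18.mem_pResOf hxK hn
      have hdk : (d' : L) ^ (p ^ k) ∈
          Subgroup.centralizer ((⁅V, Helper18.pResOf p K⁆ : Subgroup L) : Set L) := by
        rw [Subgroup.mem_centralizer_iff]
        intro w hw
        rw [Subgroup.mem_centralizer_iff] at hk
        have h1 := hk ⟨w, hWK hw⟩ (by
          show (⟨w, hWK hw⟩ : ↥K) ∈ (⁅V, Helper18.pResOf p K⁆).subgroupOf K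
          rw [Subgroup.mem_subgroupOf]; exact hw)
        have h2 := congrArg Subtype.val h1
        simpa using h2
      have hxW : (d' : L) ^ (p ^ n) ∈
          Subgroup.centralizer ((⁅V, Helper18.pResOf p K⁆ : Subgroup L) : Set L) := by
        apply Helper18.mem_of_pow_mem_of_coprime (n := k) _ hn
        rw [pow_right_comm]
        exact Subgroup.pow_mem _ hdk _
      rw [Subgroup.mem_centralizer_iff]
      apply Helper18.commute_of_coprime_of_series (N := ⁅V, Helper18.pResOf p K⁆) hVp hn
      · rw [Subgroup.normalizer_eq_top_iff.mpr hVn]; trivial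
      · intro w hw
        have h0 : w * (d' : L) ^ (p ^ n) * w⁻¹ * ((d' : L) ^ (p ^ n))⁻¹ = ⁅w, (d' : L) ^ (p ^ n)⁆ := by
          rw [commutatorElement_def]
        rw [h0]
        exact Subgroup.commutator_mem_commutator hw hxR
      · intro w hw
        exact Subgroup.mem_centralizer_iff.mp hxW w hw
    intro d' hd'
    rw [Subgroup.mem_centralizer_iff]
    intro w' hw'
    apply Subtype.ext
    have h1 : (d' : L) ∈ Subgroup.centralizer (V : Set L) := hDC ⟨d', hd', rfl⟩
    rw [SetLike.mem_coe, Subgroup.mem_subgroupOf] at hw'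
    exact Subgroup.mem_centralizer_iff.mp h1 _ (hWV hw')

/-- Let L be a finite group and p a prime with C_L(O_p(L)) ≤ O_p(L), V a p-reduced normal subgroup of L and K a subnormal subgroup of L. Then [V, O^p(K)] is contained in K and is a p-reduced normal subgroup of K, where O^p(K) is the subgroup of K generated by its elements of order prime to p. -/
theorem result {L : Type*} [Group L] [Finite L] {p : ℕ} [Fact p.Prime] (hchar : Subgroup.centralizer (Cfsg.pCore p L : Set L) ≤ Cfsg.pCore p L) (V : Subgroup L) (hV : Cfsg.IsPReducedNormal p V) (K : Subgroup L) (hK : K.IsSubnormal) : ⁅V, (Cfsg.pResidual p ↥K).map K.subtype⁆ ≤ K ∧ Cfsg.IsPReducedNormal p ((⁅V, (Cfsg.pResidual p ↥K).map K.subtype⁆).subgroupOf K) := by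
  rw [Cfsg.Agent.Lib.Helper18.map_pResidual_subtype]
  exact main V hV K hK

end Cfsg.Agent.S2804
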