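import Cfsg.Statements.S2809

set_option autoImplicit false
open Cfsg

namespace Cfsg.Agent.S2809

open scoped commutatorElement

theorem iter_succ_le {H : Type*} [Group H] (R L : Subgroup H)
    (hL : L ≤ Subgroup.normalizer (R : Set H)) (i : ℕ) :
    Cfsg.iterCommutator R L (i + 1) ≤ Cfsg.iterCommutator R L i := by
  induction i with
  | zero =>
    show ⁅R, L⁆ ≤ R
    rw [Subgroup.commutator_le]
    intro r hr l hl
    have h1 : l * r⁻¹ * l⁻¹ ∈ R := (Subgroup.mem_normalizer_iff.mp (hL hl) r⁻¹).mp (R.inv_mem hr)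
    have h2 : ⁅r, l⁆ = r * (l * r⁻¹ * l⁻¹) := by rw [commutatorElement_def]; group
    rw [h2]; exact R.mul_mem hr h1
  | succ i ih =>
    show ⁅Cfsg.iterCommutator R L (i + 1), L⁆ ≤ ⁅Cfsg.iterCommutator R L i, L⁆
    exact Subgroup.commutator_mono ih le_rfl

theorem iter_le {H : Type*} [Group H] (R L : Subgroup H)
    (hL : L ≤ Subgroup.normalizer (R : Set H)) (i : ℕ) :
    Cfsg.iterCommutator R L i ≤ R := by
  induction i with
  | zero => exact le_rfl
  | succ i ih => exact (iter_succ_le R L hL i).trans ih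

theorem centralizes_of_coprime {H : Type*} [Group H] {p : ℕ} [Fact p.Prime] (R : Subgroup H)
    (hR : IsPGroup p ↥R) (L : Subgroup H) (hL : L ≤ Subgroup.normalizer (R : Set H))
    (n : ℕ) (hn : Cfsg.iterCommutator R L n = ⊥) (x : H) (hx : x ∈ L) (m : ℕ) (hm : x ^ m = 1)
    (hcop : Nat.Coprime m p) :
    ∀ j : ℕ, j ≤ n → ∀ r ∈ Cfsg.iterCommutator R L (n - j), r * x = x * r := by
  intro j
  induction j with
  | zero =>
    intro _ r hr
    rw [Nat.sub_zero, hn, Subgroup.mem_bot] at hr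
    rw [hr]; simp
  | succ j ih =>
    intro hj r hr
    have hidx : n - (j + 1) + 1 = n - j := by omega
    have hc : ⁅r, x⁆ ∈ Cfsg.iterCommutator R L (n - j) := by
      rw [← hidx]
      exact Subgroup.commutator_mem_commutator hr hx
    have hcx : ⁅r, x⁆ * x = x * ⁅r, x⁆ := ih (by omega) _ hc
    have hcR : ⁅r, x⁆ ∈ R := iter_le R L hL _ hc
    obtain ⟨k, hk⟩ := hR ⟨⁅r, x⁆, hcR⟩
    have hk' : ⁅r, x⁆ ^ (p ^ k) = 1 := by
      have := congrArg Subtype.val hk
      simpa using this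
    have h1 : r * x * r⁻¹ = ⁅r, x⁆ * x := by rw [commutatorElement_def]; group
    have h2 : (r * x * r⁻¹) ^ m = 1 := by
      rw [conj_pow, hm]; group
    have h3 : (⁅r, x⁆ * x) ^ m = ⁅r, x⁆ ^ m * x ^ m := Commute.mul_pow hcx m
    have h4 : ⁅r, x⁆ ^ m = 1 := by
      rw [h1, h3, hm, mul_one] at h2
      exact h2
    have h5 : ⁅r, x⁆ ^ (Nat.gcd m (p ^ k)) = 1 := pow_gcd_eq_one.mpr ⟨h4, hk'⟩
    have h6 : Nat.gcd m (p ^ k) = 1 := Nat.Coprime.pow_right k hcop
    rw [h6, pow_one] at h5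
    rw [commutatorElement_def] at h5
    calc r * x = (r * x * r⁻¹ * x⁻¹) * x * r := by group
      _ = x * r := by rw [h5]; group

/-- Let H be a finite group, p a prime, R a p-subgroup of H with C_H(R) ≤ R, and L a subgroup of N_H(R) acting nilpotently on R (some iterated commutator [R, L, …, L] is trivial). Then L is a p-group. -/
theorem result {H : Type*} [Group H] [Finite H] {p : ℕ} [Fact p.Prime] (R : Subgroup H) (hR : IsPGroup p ↥R) (hC : Subgroup.centralizer (R : Set H) ≤ R) (L : Subgroup H) (hL : L ≤ Subgroup.normalizer (R : Set H)) (hnil : ∃ n : ℕ, Cfsg.iterCommutator R L n = ⊥) : IsPGroup p ↥L := by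
  obtain ⟨n, hn⟩ := hnil
  have hp : p.Prime := Fact.out
  intro g
  have hpos : 0 < orderOf (g : H) := orderOf_pos (g : H)
  obtain ⟨a, m, hmp, hfac⟩ := Nat.exists_eq_pow_mul_and_not_dvd hpos.ne' p hp.ne_one
  have hcop : Nat.Coprime m p := (Nat.Prime.coprime_iff_not_dvd hp).mpr hmp |>.symm
  have hxm : ((g : H) ^ (p ^ a)) ^ m = 1 := by
    rw [← pow_mul, ← hfac]; exact pow_orderOf_eq_one _
  have hxL : (g : H) ^ (p ^ a) ∈ L := L.pow_mem g.2 _
  have hcent := centralizes_of_coprime R hR L hL n hn _ hxL m hxm hcop n le_rfl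
  rw [Nat.sub_self] at hcent
  have hxC : (g : H) ^ (p ^ a) ∈ Subgroup.centralizer (R : Set H) := by
    rw [Subgroup.mem_centralizer_iff]
    intro r hr
    exact hcent r hr
  have hxR : (g : H) ^ (p ^ a) ∈ R := hC hxC
  obtain ⟨k, hk⟩ := hR ⟨_, hxR⟩
  have hk' : ((g : H) ^ (p ^ a)) ^ (p ^ k) = 1 := by
    have := congrArg Subtype.val hk
    simpa using this
  have h5 : ((g : H) ^ (p ^ a)) ^ (Nat.gcd m (p ^ k)) = 1 := pow_gcd_eq_one.mpr ⟨hxm, hk'⟩
  have h6 : Nat.gcd m (p ^ k) = 1 := Nat.Coprime.pow_right k hcop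
  rw [h6, pow_one] at h5
  refine ⟨a, ?_⟩
  apply Subtype.ext
  simpa using h5

end Cfsg.Agent.S2809
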