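import Cfsg.Statements.S2810
import Cfsg.Agent.Lib.Helper17.PCore

set_option autoImplicit false
open Cfsg

namespace Cfsg.Agent.S2810

open scoped commutatorElement

/-- the elements acting trivially on every factor of the chain -/
def stab {H : Type*} [Group H] (n : ℕ) (A : Fin (n + 1) → Subgroup H)
    (hnorm : ∀ i, (A i).Normal) : Subgroup H where
  carrier := {g | ∀ i : Fin n, ∀ a ∈ A i.succ, a * g * a⁻¹ * g⁻¹ ∈ A i.castSucc}
  one_mem' := by
    intro i a _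
    have h1 : a * 1 * a⁻¹ * (1 : H)⁻¹ = 1 := by group
    rw [h1]; exact Subgroup.one_mem _
  mul_mem' := by
    intro g h hg hh i a ha
    have h1 : a * (g * h) * a⁻¹ * (g * h)⁻¹ = (a * g * a⁻¹ * g⁻¹) * (g * (a * h * a⁻¹ * h⁻¹) * g⁻¹) := by
      group
    rw [h1]
    exact Subgroup.mul_mem _ (hg i a ha) ((hnorm i.castSucc).conj_mem _ (hh i a ha) g)
  inv_mem' := by
    intro g hg i a ha
    have h1 : a * g⁻¹ * a⁻¹ * g⁻¹⁻¹ = g⁻¹ * (a * g * a⁻¹ * g⁻¹)⁻¹ * g⁻¹⁻¹ := by group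
    rw [h1]
    exact (hnorm i.castSucc).conj_mem _ (Subgroup.inv_mem _ (hg i a ha)) g⁻¹

theorem stab_normal {H : Type*} [Group H] (n : ℕ) (A : Fin (n + 1) → Subgroup H)
    (hnorm : ∀ i, (A i).Normal) : (stab n A hnorm).Normal := by
  constructor
  intro g hg k i a ha
  have h1 : a * (k * g * k⁻¹) * a⁻¹ * (k * g * k⁻¹)⁻¹ =
      k * ((k⁻¹ * a * k⁻¹⁻¹) * g * (k⁻¹ * a * k⁻¹⁻¹)⁻¹ * g⁻¹) * k⁻¹ := by group
  rw [h1]
  exact (hnorm i.castSucc).conj_mem _ (hg i _ ((hnorm i.succ).conj_mem a ha k⁻¹)) k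

theorem centralizes_chain {H : Type*} [Group H] {p : ℕ} [Fact p.Prime] (n : ℕ)
    (A : Fin (n + 1) → Subgroup H) (h0 : A 0 = ⊥) (hn : A (Fin.last n) = Cfsg.pCore p H)
    (hmono : Monotone A) (hnorm : ∀ i, (A i).Normal) (x : H) (hx : x ∈ stab n A hnorm)
    (m : ℕ) (hm : x ^ m = 1) (hcop : Nat.Coprime m p) :
    ∀ i : Fin (n + 1), ∀ a ∈ A i, a * x = x * a := by
  intro i
  induction i using Fin.induction with
  | zero =>
    intro a ha
    rw [h0, Subgroup.mem_bot] at ha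
    rw [ha]; simp
  | succ i ih =>
    intro a ha
    have hc : a * x * a⁻¹ * x⁻¹ ∈ A i.castSucc := hx i a ha
    have hcx : (a * x * a⁻¹ * x⁻¹) * x = x * (a * x * a⁻¹ * x⁻¹) := ih _ hc
    have hcP : a * x * a⁻¹ * x⁻¹ ∈ Cfsg.pCore p H := by
      rw [← hn]; exact hmono (Fin.le_last _) hc
    obtain ⟨k, hk⟩ := (Cfsg.Agent.Lib.Helper17.pCore_isPGroup (G := H) (p := p)) ⟨_, hcP⟩
    have hk' : (a * x * a⁻¹ * x⁻¹) ^ (p ^ k) = 1 := by
      have := congrArg Subtype.val hk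
      simpa using this
    have h1 : a * x * a⁻¹ = (a * x * a⁻¹ * x⁻¹) * x := by group
    have h2 : (a * x * a⁻¹) ^ m = 1 := by
      rw [conj_pow, hm]; group
    have h3 : ((a * x * a⁻¹ * x⁻¹) * x) ^ m = (a * x * a⁻¹ * x⁻¹) ^ m * x ^ m := Commute.mul_pow hcx m
    have h4 : (a * x * a⁻¹ * x⁻¹) ^ m = 1 := by
      rw [h1, h3, hm, mul_one] at h2
      exact h2
    have h5 : (a * x * a⁻¹ * x⁻¹) ^ (Nat.gcd m (p ^ k)) = 1 := pow_gcd_eq_one.mpr ⟨h4, hk'⟩
    have h6 : Nat.gcd m (p ^ k) = 1 := Nat.Coprime.pow_right k hcop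
    rw [h6, pow_one] at h5
    calc a * x = (a * x * a⁻¹ * x⁻¹) * x * a := by group
      _ = x * a := by rw [h5]; group

/-- Let H be a finite group of characteristic p and L a subgroup of H centralizing every factor of some H-invariant chain 1 = A₀ ≤ A₁ ≤ … ≤ Aₙ = O_p(H) of normal subgroups (that is, [A_{i+1}, L] ≤ Aᵢ for each i). Then L ≤ O_p(H). -/
theorem result {H : Type*} [Group H] [Finite H] {p : ℕ} [Fact p.Prime] (hchar : Subgroup.centralizer (Cfsg.pCore p H : Set H) ≤ Cfsg.pCore p H) (L : Subgroup H) (n : ℕ) (A : Fin (n + 1) → Subgroup H) (h0 : A 0 = ⊥) (hn : A (Fin.last n) = Cfsg.pCore p H) (hmono : Monotone A) (hnorm : ∀ i, (A i).Normal) (hcent : ∀ i : Fin n, ⁅A i.succ, L⁆ ≤ A i.castSucc) : L ≤ Cfsg.pCore p H := by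
  have hp : p.Prime := Fact.out
  have hLs : L ≤ stab n A hnorm := by
    intro l hl i a ha
    have h1 : a * l * a⁻¹ * l⁻¹ = ⁅a, l⁆ := by rw [commutatorElement_def]
    rw [h1]
    exact hcent i (Subgroup.commutator_mem_commutator ha hl)
  have hPG : IsPGroup p (stab n A hnorm) := by
    intro g
    have hpos : 0 < orderOf (g : H) := orderOf_pos (g : H)
    obtain ⟨a, m, hmp, hfac⟩ := Nat.exists_eq_pow_mul_and_not_dvd hpos.ne' p hp.ne_one
    have hcop : Nat.Coprime m p := (Nat.Prime.coprime_iff_not_dvd hp).mpr hmp |>.symm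
    have hxm : ((g : H) ^ (p ^ a)) ^ m = 1 := by
      rw [← pow_mul, ← hfac]; exact pow_orderOf_eq_one _
    have hxL : (g : H) ^ (p ^ a) ∈ stab n A hnorm := Subgroup.pow_mem _ g.2 _
    have hcent' := centralizes_chain n A h0 hn hmono hnorm _ hxL m hxm hcop (Fin.last n)
    rw [hn] at hcent'
    have hxC : (g : H) ^ (p ^ a) ∈ Subgroup.centralizer (Cfsg.pCore p H : Set H) := by
      rw [Subgroup.mem_centralizer_iff]
      intro r hr
      exact hcent' r hr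
    have hxR : (g : H) ^ (p ^ a) ∈ Cfsg.pCore p H := hchar hxC
    obtain ⟨k, hk⟩ := (Cfsg.Agent.Lib.Helper17.pCore_isPGroup (G := H) (p := p)) ⟨_, hxR⟩
    have hk' : ((g : H) ^ (p ^ a)) ^ (p ^ k) = 1 := by
      have := congrArg Subtype.val hk
      simpa using this
    have h5 : ((g : H) ^ (p ^ a)) ^ (Nat.gcd m (p ^ k)) = 1 := pow_gcd_eq_one.mpr ⟨hxm, hk'⟩
    have h6 : Nat.gcd m (p ^ k) = 1 := Nat.Coprime.pow_right k hcop
    rw [h6, pow_one] at h5
    refine ⟨a, ?_⟩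
    apply Subtype.ext
    simpa using h5
  exact hLs.trans (Cfsg.Agent.Lib.Helper17.le_pCore (stab_normal n A hnorm) hPG)

end Cfsg.Agent.S2810
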