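import Cfsg.Statements.S2813
import Cfsg.Agent.Lib.Helper18.Basic

set_option autoImplicit false
open Cfsg

namespace Cfsg.Agent.S2813

open Cfsg.Agent.Lib.Helper18
open scoped commutatorElement

/-- Let K be a subgroup of the finite group H with O_p(K) = 1 and Y a p-subgroup of N_H(K) with [K, Y, Y] = 1. Then [K, Y] = 1. -/
theorem result {H : Type*} [Group H] [Finite H] {p : ℕ} [Fact p.Prime] (K : Subgroup H) (hO : Cfsg.pCore p ↥K = ⊥) (Y : Subgroup H) (hY : IsPGroup p ↥Y) (hYK : Y ≤ Subgroup.normalizer (K : Set H)) (hq : ⁅⁅K, Y⁆, Y⁆ = ⊥) : ⁅K, Y⁆ = ⊥ := by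
  set D : Subgroup H := ⁅K, Y⁆ with hD
  have hDK : D ≤ K := commutator_le_of_le_normalizer' hYK
  have hKD : K ≤ Subgroup.normalizer (D : Set H) := le_normalizer_commutator_left K Y
  -- D is abelian via the three subgroups lemma
  have h1 : ⁅⁅Y, D⁆, K⁆ = ⊥ := by
    have : ⁅Y, D⁆ = ⊥ := by rw [Subgroup.commutator_comm]; exact hq
    rw [this]; exact Subgroup.commutator_bot_left K
  have h2 : ⁅⁅D, K⁆, Y⁆ = ⊥ := by
    have h : ⁅D, K⁆ ≤ D := commutator_le_of_le_normalizer' hKD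
    exact le_bot_iff.mp ((Subgroup.commutator_mono h le_rfl).trans (le_of_eq hq))
  have h3 : ⁅⁅K, Y⁆, D⁆ = ⊥ := Subgroup.commutator_commutator_eq_bot_of_rotate h1 h2
  have hab : ∀ a ∈ D, ∀ b ∈ D, a * b = b * a := by
    intro a ha b hb
    have : ⁅a, b⁆ ∈ ⁅⁅K, Y⁆, D⁆ := Subgroup.commutator_mem_commutator ha hb
    rw [h3, Subgroup.mem_bot, commutatorElement_eq_one_iff_mul_comm] at this
    exact this
  have hDY : ∀ d ∈ D, ∀ y ∈ Y, d * y = y * d := by
    intro d hd y hy
    have : ⁅d, y⁆ ∈ ⁅⁅K, Y⁆, Y⁆ := Subgroup.commutator_mem_commutator hd hy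
    rw [hq, Subgroup.mem_bot, commutatorElement_eq_one_iff_mul_comm] at this
    exact this
  -- D is a p-group
  have hDp : ∀ d ∈ D, ∃ n : ℕ, d ^ (p ^ n) = 1 := by
    intro d hd
    rw [hD, Subgroup.commutator_def] at hd
    induction hd using Subgroup.closure_induction with
    | mem x hx =>
      obtain ⟨k, hk, y, hy, rfl⟩ := hx
      have hc : ⁅k, y⁆ ∈ D := Subgroup.commutator_mem_commutator hk hy
      obtain ⟨n, hn⟩ := exists_pow_eq_one_of_mem hY hy
      refine ⟨n, ?_⟩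
      have e : k * y * k⁻¹ = ⁅k, y⁆ * y := by rw [commutatorElement_def]; group
      have e2 : (k * y * k⁻¹) ^ (p ^ n) = 1 := by
        rw [conj_pow, hn]; group
      have hcm : Commute ⁅k, y⁆ y := hDY _ hc y hy
      rw [e, hcm.mul_pow, hn, mul_one] at e2
      exact e2
    | one => exact ⟨0, by simp⟩
    | mul a b ha hb iha ihb =>
      obtain ⟨n, hn⟩ := iha
      obtain ⟨m, hm⟩ := ihb
      have haD : a ∈ D := by rw [hD, Subgroup.commutator_def]; exact ha
      have hbD : b ∈ D := by rw [hD, Subgroup.commutator_def]; exact hb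
      refine ⟨n + m, ?_⟩
      have hcm : Commute a b := hab a haD b hbD
      rw [hcm.mul_pow, pow_add, pow_mul, hn, one_pow, mul_comm, pow_mul,
        hm, one_pow, mul_one]
    | inv a ha iha =>
      obtain ⟨n, hn⟩ := iha
      exact ⟨n, by rw [inv_pow, hn, inv_one]⟩
  have hDpg : IsPGroup p D := by
    intro d
    obtain ⟨n, hn⟩ := hDp d.1 d.2
    exact ⟨n, Subtype.ext (by simpa using hn)⟩
  have hle : D ≤ pCoreOf p K := le_pCoreOf hDK hKD hDpg
  have hbot : pCoreOf p K = ⊥ := by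
    unfold pCoreOf
    rw [hO, Subgroup.map_bot]
  rw [hbot] at hle
  exact le_bot_iff.mp hle

end Cfsg.Agent.S2813
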