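import Cfsg.Statements.S2814
import Cfsg.Agent.Lib.Helper18.Subnormal

set_option autoImplicit false
open Cfsg

namespace Cfsg.Agent.S2814

open Cfsg.Agent.Lib.Helper18
open scoped commutatorElement

/-- Let A be a subgroup of the finite group H and K the subnormal closure of A (intersection of the subnormal subgroups containing A). Then K is the normal closure of A inside K and N_H(A) ≤ N_H(K); K = A·O^p(K), O^p(K) being generated by the elements of K of order prime to p; and if A is a p-group, O^p(K) = [O^p(K), A]. -/
theorem result {H : Type*} [Group H] [Finite H] {p : ℕ} [Fact p.Prime] (A : Subgroup H) (K : Subgroup H) (hK : K = Cfsg.subnormalClosure A) : (Subgroup.normalClosure ((A.subgroupOf K : Subgroup ↥K) : Set ↥K)).map K.subtype = K ∧ Subgroup.normalizer (A : Set H) ≤ Subgroup.normalizer (K : Set H) ∧ A ⊔ (Cfsg.pResidual p ↥K).map K.subtype = K ∧ (IsPGroup p ↥A → ⁅(Cfsg.pResidual p ↥K).map K.subtype, A⁆ = (Cfsg.pResidual p ↥K).map K.subtype) := by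
  subst hK
  set K := Cfsg.subnormalClosure A with hKdef
  have hAK : A ≤ K := le_subnormalClosure A
  -- part 1
  have h1 : (Subgroup.normalClosure ((A.subgroupOf K : Subgroup ↥K) : Set ↥K)).map K.subtype
      = K := by
    apply eq_subnormalClosure
    · intro a ha
      exact ⟨⟨a, hAK ha⟩, Subgroup.subset_normalClosure
        (by simpa [Subgroup.mem_subgroupOf] using ha), rfl⟩
    · exact Subgroup.map_subtype_le _
    · have : ((Subgroup.normalClosure ((A.subgroupOf K : Subgroup ↥K) : Set ↥K)).map
          K.subtype).subgroupOf K = Subgroup.normalClosure ((A.subgroupOf K : Subgroup ↥K) : Set ↥K) :=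
        Subgroup.comap_map_eq_self_of_injective K.subtype_injective _
      rw [this]
      exact Subgroup.Normal.isSubnormal Subgroup.normalClosure_normal
  have h2 := normalizer_le_normalizer_subnormalClosure A
  -- part 3
  have hR : (Cfsg.pResidual p ↥K).map K.subtype = pResOf p K := map_pResidual_subtype p K
  rw [hR]
  set R := pResOf p K with hRdef
  have hRK : R ≤ K := pResOf_le p K
  have h3 : A ⊔ R = K := by
    apply eq_subnormalClosure le_sup_left (sup_le hAK hRK)
    set R' := Cfsg.pResidual p ↥K with hR'
    have hQ : IsPGroup p (↥K ⧸ R') := isPGroup_quotient_of_pResidual_le R' le_rfl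
    have hle : R' ≤ (A ⊔ R).subgroupOf K := by
      have : R'.map K.subtype ≤ A ⊔ R := by rw [hR]; exact le_sup_right
      exact Subgroup.map_le_iff_le_comap.mp this
    have hsn := isSubnormal_of_isPGroup hQ (((A ⊔ R).subgroupOf K).map (QuotientGroup.mk' R'))
    have hc := hsn.comap (QuotientGroup.mk' R')
    rw [QuotientGroup.comap_map_mk', sup_eq_right.mpr hle] at hc
    exact hc
  refine ⟨h1, h2, h3, ?_⟩
  intro hAp
  set D := ⁅R, A⁆ with hDdef
  have hKR : K ≤ Subgroup.normalizer (R : Set H) := le_normalizer_pResOf p K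
  have hDR : D ≤ R := commutator_le_of_le_normalizer' (hAK.trans hKR)
  have hAD : A ≤ Subgroup.normalizer (D : Set H) := le_normalizer_commutator_right R A
  have hRD : R ≤ Subgroup.normalizer (D : Set H) := le_normalizer_commutator_left R A
  have hKD : K ≤ Subgroup.normalizer (D : Set H) := by
    rw [← h3]; exact sup_le hAD hRD
  have hRM : R ≤ Subgroup.normalizer ((A ⊔ D : Subgroup H) : Set H) := by
    apply le_normalizer_of_forall_map_conj_le
    intro r hr
    rw [Subgroup.map_sup]
    apply sup_le
    · rintro x ⟨a, ha, rfl⟩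
      simp only [MulEquiv.coe_toMonoidHom, MulAut.conj_apply]
      have e : r * a * r⁻¹ = ⁅r, a⁆ * a := by rw [commutatorElement_def]; group
      rw [e]
      exact Subgroup.mul_mem _ (le_sup_right (a := A) (Subgroup.commutator_mem_commutator hr ha))
        (le_sup_left (b := D) ha)
    · rw [map_conj_eq_of_mem_normalizer D (hRD hr)]; exact le_sup_right
  have hKM : K ≤ Subgroup.normalizer ((A ⊔ D : Subgroup H) : Set H) := by
    rw [← h3]
    exact sup_le (le_sup_left.trans Subgroup.le_normalizer) hRM
  have h4 : A ⊔ D = K := by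
    apply eq_subnormalClosure le_sup_left (sup_le hAK (hDR.trans hRK))
    exact (Subgroup.normal_subgroupOf_of_le_normalizer hKM).isSubnormal
  apply le_antisymm hDR
  apply pResOf_le_of_forall_pow_mem
  intro k hk
  rw [← h4] at hk
  obtain ⟨a, ha, d, hd, rfl⟩ := mem_sup_of_le_normalizer hAD hk
  obtain ⟨n, hn⟩ := exists_pow_eq_one_of_mem hAp ha
  obtain ⟨d', hd', e⟩ := exists_pow_mul_eq (hAD ha) hd (p ^ n)
  exact ⟨n, by rw [e, hn, one_mul]; exact hd'⟩

end Cfsg.Agent.S2814
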