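import Cfsg.Statements.S2815
import Cfsg.Agent.Lib.Helper18.YL4
import Cfsg.Agent.Lib.Helper18.PMin
import Cfsg.Agent.Lib.Helper11.Components

set_option autoImplicit false
open Cfsg

namespace Cfsg.Agent.S2815

open Cfsg.Agent.Lib.Helper18 in
/-- A perfect subgroup lies in `O^p(H)`. -/
theorem perfect_le_pResidual {H : Type*} [Group H] [Finite H] {p : ℕ} [Fact p.Prime]
    {L : Subgroup H} (hL : ⁅L, L⁆ = L) : L ≤ Cfsg.pResidual p H := by
  have hpg : IsPGroup p (H ⧸ Cfsg.pResidual p H) :=
    isPGroup_quotient_of_pResidual_le (Cfsg.pResidual p H) le_rfl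
  have hnil : Group.IsNilpotent (H ⧸ Cfsg.pResidual p H) := hpg.isNilpotent
  have hsol : Group.IsSolvable (H ⧸ Cfsg.pResidual p H) := IsNilpotent.to_isSolvable
  obtain ⟨n, hn⟩ := (Group.isSolvable_def _).mp hsol
  have key : ∀ m : ℕ, L.map (QuotientGroup.mk' (Cfsg.pResidual p H)) ≤
      derivedSeries (H ⧸ Cfsg.pResidual p H) m := by
    intro m
    induction m with
    | zero => exact le_top
    | succ m ih =>
      rw [derivedSeries_succ]
      calc L.map (QuotientGroup.mk' (Cfsg.pResidual p H))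
          = (⁅L, L⁆ : Subgroup H).map (QuotientGroup.mk' (Cfsg.pResidual p H)) := by rw [hL]
        _ = ⁅L.map (QuotientGroup.mk' (Cfsg.pResidual p H)),
              L.map (QuotientGroup.mk' (Cfsg.pResidual p H))⁆ := Subgroup.map_commutator _ _ _
        _ ≤ _ := Subgroup.commutator_mono ih ih
  have h1 := key n
  rw [hn, le_bot_iff, Subgroup.map_eq_bot_iff, QuotientGroup.ker_mk'] at h1
  exact h1

open Cfsg.Agent.Lib.Helper18 in
theorem main {H : Type*} [Group H] [Finite H] {p : ℕ} [Fact p.Prime] (K : Subgroup H)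
    (hKdef : K = Cfsg.pResidual p H) (hp : p ∣ Nat.card H) (hO : Cfsg.pCore p H = ⊥)
    (hq : Cfsg.IsQuasisimple ↥K) :
    K = Cfsg.generalizedFittingSubgroup H ∧
    (∀ Y : Subgroup H, IsPGroup p ↥Y → Y ≠ ⊥ → ⁅K, Y⁆ = K ∧
      K ≤ ⨆ k : ↥K, Y.map (MulAut.conj (k : H)).toMonoidHom) ∧
    (∀ C : Subgroup H, C.Normal → ¬ K ≤ C → (Nat.card ↥C).Coprime p) ∧
    Cfsg.IsPIrreducible p H := by
  have hKn : K.Normal := hKdef ▸ pResidual_normal' p H
  have hperf : ⁅K, K⁆ = K := Subgroup.isPerfect_iff.mp hq.1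
  have hcent : ∀ N : Subgroup H, N ≤ K → K ≤ Subgroup.normalizer (N : Set H) → N ≠ K →
      N ≤ Subgroup.centralizer (K : Set H) := by
    intro N hNK hKN hne
    have hn : (N.subgroupOf K).Normal :=
      (Subgroup.normal_subgroupOf_iff_le_normalizer hNK).mpr hKN
    have hne' : N.subgroupOf K ≠ ⊤ := by
      intro e
      apply hne
      apply le_antisymm hNK
      intro k hk
      have : (⟨k, hk⟩ : K) ∈ N.subgroupOf K := by rw [e]; exact Subgroup.mem_top _
      exact Subgroup.mem_subgroupOf.mp this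
    have h1 := Cfsg.Agent.Lib.Helper11.qs_normal_le_center hq (N.subgroupOf K) hn hne'
    intro n hnN
    rw [Subgroup.mem_centralizer_iff]
    intro k hk
    have h2 : (⟨n, hNK hnN⟩ : K) ∈ Subgroup.center ↥K :=
      h1 (Subgroup.mem_subgroupOf.mpr hnN)
    have h3 := Subgroup.mem_center_iff.mp h2 ⟨k, hk⟩
    exact congrArg Subtype.val h3
  have hnsol : ¬ Group.IsSolvable ↥K := Cfsg.Agent.Lib.Helper11.qs_not_solvable hq
  have hKnab : ¬ K ≤ Subgroup.centralizer (K : Set H) := by
    intro h
    have h1 : ⁅K, K⁆ = ⊥ := Subgroup.commutator_eq_bot_iff_le_centralizer.mpr h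
    rw [hperf] at h1
    have := Cfsg.Agent.Lib.Helper11.qs_nontrivial hq
    have h2 : Subsingleton ↥K := by rw [h1]; infer_instance
    exact not_subsingleton _ h2
  -- (3)
  have h3 : ∀ C : Subgroup H, C.Normal → ¬ K ≤ C → (Nat.card ↥C).Coprime p := by
    intro C hCn hKC
    have hCK : C ⊓ K ≤ Subgroup.centralizer (K : Set H) := by
      apply hcent _ inf_le_right
      · exact (le_inf (le_top.trans (Subgroup.normalizer_eq_top_iff.mpr hCn).ge)
          Subgroup.le_normalizer).trans (normalizer_inf_le _ _)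
      · intro e
        apply hKC
        rw [← e]; exact inf_le_left
    have hCcent : C ≤ Subgroup.centralizer (K : Set H) := by
      have h1 : ⁅⁅C, K⁆, K⁆ = ⊥ :=
        Subgroup.commutator_eq_bot_iff_le_centralizer.mpr
          ((Subgroup.commutator_le_inf C K).trans hCK)
      have h2 := Cfsg.Agent.Lib.Helper11.perfect_comm_of_triple hperf h1
      rw [Subgroup.commutator_comm] at h2
      exact Subgroup.commutator_eq_bot_iff_le_centralizer.mp h2
    obtain ⟨P, hP, -⟩ := exists_isSylowIn_ge (p := p) (R₀ := ⊥) (K := C) IsPGroup.of_bot bot_le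
    have hCP : C ≤ Subgroup.normalizer (P : Set H) := by
      intro c hc
      obtain ⟨r, hr, s, hs, rfl⟩ := exists_mul_pResOf_of_isSylowIn hP hc
      have hrK : r ∈ K := by
        rw [hKdef, ← pResOf_top]
        exact pResOf_mono p le_top hr
      have hrP : r ∈ Subgroup.centralizer (P : Set H) := by
        rw [Subgroup.mem_centralizer_iff]
        intro x hx
        exact (Subgroup.mem_centralizer_iff.mp (hCcent (hP.1 hx)) r hrK).symm
      exact Subgroup.mul_mem _ (Subgroup.centralizer_le_normalizer _ hrP)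
        (Subgroup.le_normalizer hs)
    have hPcore : P ≤ pCoreOf p C := le_pCoreOf hP.1 hCP hP.2.1
    have h4 : pCoreOf p C ≤ Cfsg.pCore p H := by
      rw [← pCoreOf_top]
      exact pCoreOf_le_pCoreOf_of_normal le_top (Subgroup.normalizer_eq_top_iff.mpr hCn).ge
    have hPbot : P = ⊥ := by
      rw [← le_bot_iff, ← hO]; exact hPcore.trans h4
    have h5 := hP.not_dvd_relIndex
    rw [hPbot, Subgroup.relIndex_bot_left] at h5
    exact ((Nat.Prime.coprime_iff_not_dvd Fact.out).mpr h5).symm
  have hpElt : ∀ C : Subgroup H, (Nat.card ↥C).Coprime p → ∀ Y : Subgroup H, IsPGroup p ↥Y →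
      Y ≤ C → Y = ⊥ := by
    intro C hC Y hY hYC
    rw [Subgroup.eq_bot_iff_forall]
    intro y hy
    exact eq_one_of_mem_of_coprime hY hy
      (Nat.Coprime.coprime_dvd_left (Subgroup.orderOf_dvd_natCard C (hYC hy)) hC)
  refine ⟨?_, ?_, h3, ?_, ?_⟩
  · -- (1)
    apply le_antisymm
    · exact (Cfsg.Agent.Lib.Helper11.component_le_layer ⟨hKn.isSubnormal, hq⟩).trans le_sup_left
    · refine sup_le ?_ ?_
      · apply sSup_le
        intro L hL
        rw [hKdef]
        exact perfect_le_pResidual (Cfsg.Agent.Lib.Helper11.component_perfect hL)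
      · apply sSup_le
        rintro N ⟨hNn, hNnil⟩
        have hKN : ¬ K ≤ N := by
          intro h
          apply hnsol
          have : Group.IsSolvable ↥N := IsNilpotent.to_isSolvable
          exact Group.isSolvable_of_isSolvable_injective (Subgroup.inclusion_injective h)
        have hcop := h3 N hNn hKN
        intro x hx
        rw [hKdef]
        exact Subgroup.subset_closure
          (Nat.Coprime.coprime_dvd_left (Subgroup.orderOf_dvd_natCard N hx) hcop)
  · -- (2)
    intro Y hY hYne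
    have hKY : ⁅K, Y⁆ = K := by
      by_contra hne
      have h1 : ⁅K, Y⁆ ≤ Subgroup.centralizer (K : Set H) :=
        hcent _ (Subgroup.commutator_le_left K Y) (le_normalizer_commutator_left K Y) hne
      have h2 : ⁅⁅Y, K⁆, K⁆ = ⊥ := by
        rw [Subgroup.commutator_comm Y K]
        exact Subgroup.commutator_eq_bot_iff_le_centralizer.mpr h1
      have h4 := Cfsg.Agent.Lib.Helper11.perfect_comm_of_triple hperf h2
      rw [Subgroup.commutator_comm] at h4
      have h5 : Y ≤ Subgroup.centralizer (K : Set H) :=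
        Subgroup.commutator_eq_bot_iff_le_centralizer.mp h4
      have hCn : (Subgroup.centralizer (K : Set H)).Normal := Subgroup.normal_centralizer
      exact hYne (hpElt _ (h3 _ hCn hKnab) Y hY h5)
    refine ⟨hKY, ?_⟩
    conv_lhs => rw [← hKY]
    rw [Subgroup.commutator_le]
    intro k hk y hy
    have h1 : k * y * k⁻¹ ∈ ⨆ k : ↥K, Y.map (MulAut.conj (k : H)).toMonoidHom :=
      (le_iSup (fun k : ↥K => Y.map (MulAut.conj (k : H)).toMonoidHom) ⟨k, hk⟩)
        (conj_mem_map_conj Y k hy)
    have h2 : y⁻¹ ∈ ⨆ k : ↥K, Y.map (MulAut.conj (k : H)).toMonoidHom := by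
      have := (le_iSup (fun k : ↥K => Y.map (MulAut.conj (k : H)).toMonoidHom) ⟨1, K.one_mem⟩)
      apply this
      show y⁻¹ ∈ Y.map (MulAut.conj (1 : H)).toMonoidHom
      rw [map_conj_one]
      exact Y.inv_mem hy
    exact Subgroup.mul_mem _ h1 h2
  · -- not p-closed
    intro hcl
    have P : Sylow p H := default
    have hPn : (P : Subgroup H).Normal := hcl P
    have h1 : (P : Subgroup H) ≤ Cfsg.pCore p H := le_pCore hPn P.isPGroup'
    rw [hO, le_bot_iff] at h1
    exact P.ne_bot_of_dvd_card hp h1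
  · intro N hNn hNcl
    by_contra hKN
    rw [← hKdef] at hKN
    have hcop := h3 N hNn hKN
    apply hNcl
    intro P
    have h1 : (P : Subgroup ↥N) = ⊥ := by
      rw [Subgroup.eq_bot_iff_forall]
      intro x hx
      exact eq_one_of_mem_of_coprime P.isPGroup' hx
        (Nat.Coprime.coprime_dvd_left (orderOf_dvd_natCard x) hcop)
    rw [h1]
    exact Subgroup.normal_bot

/-- Let H be a finite group and p a prime dividing its order with O_p(H) = 1, and suppose K = O^p(H) (generated by the elements of order prime to p) is quasisimple. Then K = F*(H); for every nontrivial p-subgroup Y of H, K = [K, Y] and K lies in the subgroup generated by the K-conjugates of Y; every normal subgroup of H not containing K has order prime to p; and H is p-irreducible. -/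
theorem result {H : Type*} [Group H] [Finite H] {p : ℕ} [Fact p.Prime] (hp : p ∣ Nat.card H) (hO : Cfsg.pCore p H = ⊥) (hq : Cfsg.IsQuasisimple ↥(Cfsg.pResidual p H)) : Cfsg.pResidual p H = Cfsg.generalizedFittingSubgroup H ∧ (∀ Y : Subgroup H, IsPGroup p ↥Y → Y ≠ ⊥ → ⁅Cfsg.pResidual p H, Y⁆ = Cfsg.pResidual p H ∧ Cfsg.pResidual p H ≤ ⨆ k : ↥(Cfsg.pResidual p H), Y.map (MulAut.conj (k : H)).toMonoidHom) ∧ (∀ C : Subgroup H, C.Normal → ¬ Cfsg.pResidual p H ≤ C → (Nat.card ↥C).Coprime p) ∧ Cfsg.IsPIrreducible p H := by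
  exact main _ rfl hp hO hq

end Cfsg.Agent.S2815
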