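import Cfsg.Statements.S2816
import Cfsg.Agent.Lib.Helper18.FStarComm
import Cfsg.Agent.Lib.Helper17.CoprimeComm

set_option autoImplicit false
open Cfsg

namespace Cfsg.Agent.S2816

open Cfsg.Agent.Lib.Helper18 Cfsg.Agent.Lib.Helper11 in
theorem partA {H : Type*} [Group H] [Finite H] {p : ℕ} [Fact p.Prime]
    (hO : Cfsg.pCore p H = ⊥) (Y : Subgroup H) (hY : IsPGroup p ↥Y)
    (K : Subgroup H) (hK : K.IsSubnormal) (hYK : Y ≤ K) :
    ⁅Cfsg.generalizedFittingSubgroup H, Y⁆ =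
      ⁅(Cfsg.generalizedFittingSubgroup ↥K).map K.subtype, Y⁆ ∧
    ⁅(Cfsg.generalizedFittingSubgroup ↥K).map K.subtype, Y⁆ =
      ⁅⁅(Cfsg.generalizedFittingSubgroup ↥K).map K.subtype, Y⁆, Y⁆ := by
  have hXn : (Cfsg.generalizedFittingSubgroup H).Normal := genFitting_normal
  have hXK : (Cfsg.generalizedFittingSubgroup ↥K).map K.subtype = layOf K ⊔ fitOf K := by
    unfold Cfsg.generalizedFittingSubgroup layOf fitOf
    rw [Subgroup.map_sup]
  have hOK : Cfsg.pCore p ↥K = ⊥ := by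
    have h1 := Cfsg.Agent.Lib.Helper17.pCoreOf_le_pCore_of_isSubnormal (p := p) hK
    rw [hO, le_bot_iff] at h1
    exact (Subgroup.map_eq_bot_iff_of_injective _ (Subgroup.subtype_injective _)).mp h1
  have hYK' : (Y.subgroupOf K).map K.subtype = Y := by
    rw [Subgroup.subgroupOf_map_subtype, inf_of_le_left hYK]
  have hYp' : IsPGroup p ↥(Y.subgroupOf K) := hY.comap_subtype
  have h2 : ⁅(Cfsg.generalizedFittingSubgroup ↥K).map K.subtype, Y⁆ =
      ⁅⁅(Cfsg.generalizedFittingSubgroup ↥K).map K.subtype, Y⁆, Y⁆ := by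
    have h3 := genFitting_commutator_commutator hOK hYp'
    have h4 := congrArg (Subgroup.map K.subtype) h3
    rw [Subgroup.map_commutator, Subgroup.map_commutator, hYK'] at h4
    exact h4.symm
  refine ⟨?_, h2⟩
  apply le_antisymm
  · have hU := genFitting_commutator_commutator hO hY
    have hUK : ⁅Cfsg.generalizedFittingSubgroup H, Y⁆ ≤ K :=
      le_of_commutator_eq_of_isSubnormal hU hK hYK
    have hUX : ⁅Cfsg.generalizedFittingSubgroup H, Y⁆ ≤ Cfsg.generalizedFittingSubgroup H :=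
      Subgroup.commutator_le_left _ _
    have hS : (Cfsg.generalizedFittingSubgroup H ⊓ K).IsSubnormal := by
      have h5 : ((Cfsg.generalizedFittingSubgroup H).subgroupOf K).Normal := hXn.subgroupOf K
      have h6 := h5.isSubnormal.trans' hK
      rw [Subgroup.subgroupOf_map_subtype] at h6
      exact h6
    have h7 := genFitting_subnormal_le hS inf_le_left
    have h8 : Cfsg.generalizedFittingSubgroup H ⊓ K ≤
        (Cfsg.generalizedFittingSubgroup ↥K).map K.subtype := by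
      rw [hXK]
      refine h7.trans (sup_le ?_ ?_)
      · rw [fitOf_eq_of_subnormal hK]
        exact le_trans (inf_le_inf_left _ inf_le_right) le_sup_right
      · exact le_trans (layOf_le_of_subnormal hS inf_le_right) le_sup_left
    calc ⁅Cfsg.generalizedFittingSubgroup H, Y⁆
        = ⁅⁅Cfsg.generalizedFittingSubgroup H, Y⁆, Y⁆ := hU.symm
      _ ≤ ⁅(Cfsg.generalizedFittingSubgroup ↥K).map K.subtype, Y⁆ :=
        Subgroup.commutator_mono ((le_inf hUX hUK).trans h8) le_rfl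
  · apply Subgroup.commutator_mono _ le_rfl
    rw [hXK]
    exact sup_le_sup (layer_map_subtype_le hK) (fitOf_le_fitting_of_subnormal hK)

/-- Let H be a finite group and p a prime with O_p(H) = 1, and Y a p-subgroup of H. Then for every subnormal subgroup K of H containing Y, [F*(H), Y] = [F*(K), Y] = [F*(K), Y, Y]; and if Y₀ ≤ Y with [F*(H), Y, Y₀] = 1 then Y₀ = 1 (in particular [F*(H), Y] = 1 forces Y = 1). -/
theorem result {H : Type*} [Group H] [Finite H] {p : ℕ} [Fact p.Prime] (hO : Cfsg.pCore p H = ⊥) (Y : Subgroup H) (hY : IsPGroup p ↥Y) : (∀ K : Subgroup H, K.IsSubnormal → Y ≤ K → ⁅Cfsg.generalizedFittingSubgroup H, Y⁆ = ⁅(Cfsg.generalizedFittingSubgroup ↥K).map K.subtype, Y⁆ ∧ ⁅(Cfsg.generalizedFittingSubgroup ↥K).map K.subtype, Y⁆ = ⁅⁅(Cfsg.generalizedFittingSubgroup ↥K).map K.subtype, Y⁆, Y⁆) ∧ (∀ Y₀ : Subgroup H, Y₀ ≤ Y → ⁅⁅Cfsg.generalizedFittingSubgroup H, Y⁆, Y₀⁆ = ⊥ → Y₀ = ⊥) := by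
  refine ⟨fun K hK hYK => partA hO Y hY K hK hYK, ?_⟩
  intro Y₀ hY₀ h
  have hY₀p : IsPGroup p ↥Y₀ := hY.to_le hY₀
  have h1 : ⁅⁅Cfsg.generalizedFittingSubgroup H, Y₀⁆, Y₀⁆ = ⊥ := by
    rw [← le_bot_iff, ← h]
    exact Subgroup.commutator_mono (Subgroup.commutator_mono le_rfl hY₀) le_rfl
  rw [Cfsg.Agent.Lib.Helper18.genFitting_commutator_commutator hO hY₀p] at h1
  apply Cfsg.Agent.Lib.Helper18.eq_bot_of_le_centralizer_genFitting hO hY₀p
  rw [Subgroup.commutator_eq_bot_iff_le_centralizer] at h1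
  exact Subgroup.le_centralizer_iff.mp h1

end Cfsg.Agent.S2816
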