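import Cfsg.Statements.S2817
import Cfsg.Agent.Lib.Helper18.FStarComm2
import Cfsg.Agent.Lib.Helper18.SylowRel
import Cfsg.Agent.Lib.Helper18.PMin
import Cfsg.Agent.Lib.Helper18.PIrr
import Cfsg.Agent.Lib.Helper18.Coprime
import Cfsg.Agent.Lib.Helper1.PQ

set_option autoImplicit false
open Cfsg

namespace Cfsg.Agent.S2817

open Cfsg.Agent.Lib.Helper18 Cfsg.Agent.Lib.Helper11 in
open scoped commutatorElement in
theorem main {H : Type*} [Group H] [Finite H] {p : ℕ} [Fact p.Prime]
    (hO : Cfsg.pCore p H = ⊥) (Q : Subgroup H) (hQ : IsPGroup p ↥Q) (L X : Subgroup H)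
    (hX : X = Cfsg.generalizedFittingSubgroup H) (hL : L = ⁅X, Q⁆) (F : Subgroup H)
    (hF : F ≤ X ∧ X ≤ Subgroup.normalizer (F : Set H) ∧ Q ≤ Subgroup.centralizer (F : Set H) ∧
      ∀ N : Subgroup H, N ≤ X → X ≤ Subgroup.normalizer (N : Set H) →
        Q ≤ Subgroup.centralizer (N : Set H) → N ≤ F) :
    F = X ⊓ Subgroup.centralizer ((L ⊔ Q : Subgroup H) : Set H) ∧ ⁅L, Q⁆ = L ∧
    L ⊓ F ≤ (frattini ↥L).map L.subtype ∧
    (∀ B : Subgroup H, IsPGroup p ↥B → B ≤ Subgroup.normalizer (Q : Set H) → ⁅L, B⁆ ≤ F →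
      ⁅L, B⁆ = ⊥) ∧
    (Nat.card ↥(Subgroup.centralizer ((F ⊔ L : Subgroup H) : Set H))).Coprime p := by
  obtain ⟨hFX, hXF, hQF, hFmax⟩ := hF
  have hXn : X.Normal := hX ▸ genFitting_normal
  have hEn : (Cfsg.layer H).Normal := layer_normal
  have hVn : (Cfsg.fittingSubgroup H).Normal := fitting_normal
  have hLX : L ≤ X := hL ▸ Subgroup.commutator_le_left X Q
  have hXL : X ≤ Subgroup.normalizer (L : Set H) := hL ▸ Cfsg.Agent.Lib.Helper18.le_normalizer_commutator_left X Q
  have hQL : Q ≤ Subgroup.normalizer (L : Set H) := hL ▸ le_normalizer_commutator_right X Q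
  have hLQ : ⁅L, Q⁆ = L := by
    rw [hL, hX]; exact genFitting_commutator_commutator hO hQ
  have hQFb : ⁅Q, F⁆ = ⊥ := Subgroup.commutator_eq_bot_iff_le_centralizer.mpr hQF
  have hFQ : ⁅F, Q⁆ = ⊥ := by rw [Subgroup.commutator_comm]; exact hQFb
  have hLF : ⁅L, F⁆ = ⊥ := by
    rw [hL]
    apply Subgroup.commutator_commutator_eq_bot_of_rotate
    · rw [hQFb, Subgroup.commutator_bot_left]
    · rw [← le_bot_iff, ← hFQ]
      exact Subgroup.commutator_mono (commutator_le_of_le_normalizer' hXF) le_rfl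
  have hLcF : L ≤ Subgroup.centralizer (F : Set H) :=
    Subgroup.commutator_eq_bot_iff_le_centralizer.mp hLF
  have hFcL : F ≤ Subgroup.centralizer (L : Set H) := Subgroup.le_centralizer_iff.mp hLcF
  -- (a)
  have ha : F = X ⊓ Subgroup.centralizer ((L ⊔ Q : Subgroup H) : Set H) := by
    apply le_antisymm
    · exact le_inf hFX (Subgroup.le_centralizer_iff.mp (sup_le hLcF hQF))
    · apply hFmax _ inf_le_left
      · have h1 : X ≤ Subgroup.normalizer ((L ⊔ Q : Subgroup H) : Set H) := by
          apply le_normalizer_of_forall_map_conj_le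
          intro x hx
          rw [Subgroup.map_sup]
          refine sup_le ?_ ?_
          · rw [map_conj_eq_of_mem_normalizer L (hXL hx)]; exact le_sup_left
          · rintro _ ⟨q, hq, rfl⟩
            have h2 : ⁅x, q⁆ ∈ L := hL ▸ Subgroup.commutator_mem_commutator hx hq
            have h3 : (MulAut.conj x).toMonoidHom q = ⁅x, q⁆ * q := by
              simp [commutatorElement_def]
            rw [h3]
            exact Subgroup.mul_mem _ (Subgroup.mem_sup_left h2) (Subgroup.mem_sup_right hq)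
        exact (le_inf Subgroup.le_normalizer
          (h1.trans (normalizer_le_normalizer_centralizer _))).trans (normalizer_inf_le _ _)
      · apply Subgroup.le_centralizer_iff.mp
        exact inf_le_right.trans (Subgroup.centralizer_le (le_sup_right : Q ≤ L ⊔ Q))
  -- the central subgroup Z
  obtain ⟨Z, hZdef⟩ : ∃ Z : Subgroup H, Z = L ⊓ F := ⟨_, rfl⟩
  have hZL : Z ≤ L := hZdef ▸ inf_le_left
  have hZF : Z ≤ F := hZdef ▸ inf_le_right
  have hZcL : Z ≤ Subgroup.centralizer (L : Set H) := hZF.trans hFcL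
  have hZsub : Z.IsSubnormal := by
    have hZX : Z ≤ X := hZL.trans hLX
    have hXZ : X ≤ Subgroup.normalizer (Z : Set H) := by
      rw [hZdef]; exact (le_inf hXL hXF).trans (normalizer_inf_le _ _)
    exact Subgroup.IsSubnormal.step Z X hZX hXn.isSubnormal
      ((Subgroup.normal_subgroupOf_iff_le_normalizer hZX).mpr hXZ)
  have hZnil : Group.IsNilpotent ↥Z :=
    nilpotent_of_le_centralizer_self Z (hZcL.trans (Subgroup.centralizer_le hZL))
  have hZcop : (Nat.card ↥Z).Coprime p := card_coprime_of_subnormal_nilpotent hO hZsub hZnil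
  have hZelt : ∀ z ∈ Z, (orderOf z).Coprime p := fun z hz =>
    Nat.Coprime.coprime_dvd_left (Subgroup.orderOf_dvd_natCard Z hz) hZcop
  have hZd : Z ≤ ⁅L, L⁆ := by
    intro z hz
    have h1 := pow_card_mem_commutator_of_centralized hQL hLQ (hZL hz)
      (Subgroup.le_centralizer_iff.mp hQF (hZF hz))
    obtain ⟨k, hk⟩ := IsPGroup.iff_card.mp hQ
    rw [hk] at h1
    exact mem_of_pow_mem_of_coprime h1 (hZelt z hz)
  -- (d)
  have hd : ∀ B : Subgroup H, IsPGroup p ↥B → B ≤ Subgroup.normalizer (Q : Set H) →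
      ⁅L, B⁆ ≤ F → ⁅L, B⁆ = ⊥ := by
    intro B hB hBQ hLBF
    have hBL : B ≤ Subgroup.normalizer (L : Set H) := by
      rw [hL]
      exact (le_inf ((Subgroup.normalizer_eq_top_iff.mpr hXn).ge.trans' le_top) hBQ).trans
        (normalizer_inf_le_normalizer_commutator X Q)
    have hLBZ : ⁅L, B⁆ ≤ Z := hZdef ▸ le_inf (commutator_le_of_le_normalizer' hBL) hLBF
    have h1 : ⁅⁅L, B⁆, L⁆ = ⊥ :=
      Subgroup.commutator_eq_bot_iff_le_centralizer.mpr (hLBZ.trans hZcL)
    have h2 : ⁅⁅B, L⁆, L⁆ = ⊥ := by rw [Subgroup.commutator_comm B L]; exact h1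
    have h3 : ⁅⁅L, L⁆, B⁆ = ⊥ := Subgroup.commutator_commutator_eq_bot_of_rotate h1 h2
    have h4 : Z ≤ Subgroup.centralizer (B : Set H) :=
      hZd.trans (Subgroup.commutator_eq_bot_iff_le_centralizer.mp h3)
    rw [eq_bot_iff, Subgroup.commutator_le]
    intro l hl b hb
    rw [Subgroup.mem_bot]
    have hc : ⁅l, b⁆ ∈ Z := hLBZ (Subgroup.commutator_mem_commutator hl hb)
    have hcomm : b * ⁅l, b⁆ = ⁅l, b⁆ * b := Subgroup.mem_centralizer_iff.mp (h4 hc) b hb
    obtain ⟨k, hk⟩ := exists_pow_eq_one_of_mem hB hb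
    have h5 := commutatorElement_pow_right hcomm (p ^ k)
    rw [hk] at h5
    have h6 : ⁅l, b⁆ ^ (p ^ k) ∈ (⊥ : Subgroup H) := by rw [← h5]; simp
    exact Subgroup.mem_bot.mp (mem_of_pow_mem_of_coprime h6 (hZelt _ hc))
  -- (e)
  have he : (Nat.card ↥(Subgroup.centralizer ((F ⊔ L : Subgroup H) : Set H))).Coprime p := by
    obtain ⟨C, hCdef⟩ : ∃ C : Subgroup H,
        C = Subgroup.centralizer ((F ⊔ L : Subgroup H) : Set H) := ⟨_, rfl⟩
    rw [← hCdef]
    have hCF : C ≤ Subgroup.centralizer (F : Set H) :=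
      hCdef ▸ Subgroup.centralizer_le (le_sup_left : F ≤ F ⊔ L)
    have hCL : C ≤ Subgroup.centralizer (L : Set H) :=
      hCdef ▸ Subgroup.centralizer_le (le_sup_right : L ≤ F ⊔ L)
    have hQC : Q ≤ Subgroup.normalizer (C : Set H) := by
      rw [hCdef]
      refine le_trans ?_ (normalizer_le_normalizer_centralizer _)
      exact (le_inf (hQF.trans (Subgroup.centralizer_le_normalizer _)) hQL).trans
        (normalizer_inf_le_normalizer_sup _ _)
    have hVsol : Group.IsSolvable ↥(Cfsg.fittingSubgroup H) := by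
      have : Group.IsNilpotent ↥(Cfsg.fittingSubgroup H) := Cfsg.Agent.S0008.result
      exact IsNilpotent.to_isSolvable
    have hE : Cfsg.layer H ≤ F ⊔ L := by
      apply sSup_le
      intro L₁ hL₁
      rcases component_commutator_eq_bot_or_le hL₁ Q with h | h
      · refine le_trans ?_ le_sup_left
        apply hFmax
        · rw [hX]; exact (component_le_layer hL₁).trans le_sup_left
        · rw [hX]
          refine sup_le (layer_le_normalizer_component hL₁) ?_
          have h1 := component_comm_solvable_subnormal hL₁ hVn.isSubnormal hVsol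
          rw [Subgroup.commutator_comm, Subgroup.commutator_eq_bot_iff_le_centralizer] at h1
          exact h1.trans (Subgroup.centralizer_le_normalizer _)
        · exact Subgroup.le_centralizer_iff.mp
            (Subgroup.commutator_eq_bot_iff_le_centralizer.mp h)
      · refine le_trans ?_ le_sup_right
        rw [hL, hX]
        exact h.trans (Subgroup.commutator_mono
          ((component_le_layer hL₁).trans le_sup_left) le_rfl)
    have claimE : ∀ n : ℕ, ∀ T : Subgroup H, Nat.card ↥T ≤ n → IsPGroup p ↥T → T ≤ C →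
        Q ≤ Subgroup.normalizer (T : Set H) → T = ⊥ := by
      intro n
      induction n using Nat.strong_induction_on with
      | _ n ih =>
        intro T hn hT hTC hQT
        by_contra hne
        have hlt : ⁅T, Q⁆ < T := Cfsg.Agent.Lib.Helper1.commutator_lt_of_pgroups hT hQ hQT hne
        have hTQ : ⁅T, Q⁆ = ⊥ := by
          apply ih (Nat.card ↥(⁅T, Q⁆ : Subgroup H)) _ _ le_rfl (hT.to_le hlt.le)
            (hlt.le.trans hTC) (le_normalizer_commutator_right T Q)
          refine lt_of_lt_of_le ?_ hn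
          exact lt_of_not_ge (fun h => hlt.ne (Subgroup.eq_of_le_of_card_ge hlt.le h))
        apply hne
        apply eq_bot_of_le_centralizer_genFitting hO hT
        have hFLT : F ⊔ L ≤ Subgroup.centralizer (T : Set H) :=
          Subgroup.le_centralizer_iff.mp (hCdef ▸ hTC)
        have hTE : ⁅Cfsg.layer H, T⁆ = ⊥ :=
          Subgroup.commutator_eq_bot_iff_le_centralizer.mpr (hE.trans hFLT)
        have hTV : ⁅Cfsg.fittingSubgroup H, T⁆ = ⊥ := by
          obtain ⟨R, hRdef⟩ : ∃ R : Subgroup H, R = ⁅Cfsg.fittingSubgroup H, Q⁆ := ⟨_, rfl⟩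
          have hRL : R ≤ L := by
            rw [hRdef, hL, hX]; exact Subgroup.commutator_mono le_sup_right le_rfl
          have hRT : ⁅R, T⁆ = ⊥ :=
            Subgroup.commutator_eq_bot_iff_le_centralizer.mpr
              (hRL.trans (le_sup_right.trans hFLT))
          have hTR : ⁅T, R⁆ = ⊥ := by rw [Subgroup.commutator_comm]; exact hRT
          have s1 : ⁅⁅Cfsg.fittingSubgroup H, T⁆, R⁆ = ⊥ := by
            apply Subgroup.commutator_commutator_eq_bot_of_rotate
            · rw [hTR, Subgroup.commutator_bot_left]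
            · rw [← le_bot_iff, ← hRT]
              exact Subgroup.commutator_mono (commutator_le_of_le_normalizer'
                (hRdef ▸ Cfsg.Agent.Lib.Helper18.le_normalizer_commutator_left (Cfsg.fittingSubgroup H) Q)) le_rfl
          have s2 : ⁅⁅Cfsg.fittingSubgroup H, T⁆, Q⁆ = ⊥ := by
            apply Subgroup.commutator_commutator_eq_bot_of_rotate
            · rw [hTQ, Subgroup.commutator_bot_left]
            · rw [Subgroup.commutator_comm Q (Cfsg.fittingSubgroup H), ← hRdef]; exact hRT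
          have hWV : ⁅Cfsg.fittingSubgroup H, T⁆ ≤ Cfsg.fittingSubgroup H :=
            Subgroup.commutator_le_left _ _
          have hWF : ⁅Cfsg.fittingSubgroup H, T⁆ ≤ F := by
            rw [ha]
            refine le_inf ?_ ?_
            · rw [hX]; exact hWV.trans le_sup_right
            · apply Subgroup.le_centralizer_iff.mp
              refine sup_le ?_ (Subgroup.le_centralizer_iff.mp
                (Subgroup.commutator_eq_bot_iff_le_centralizer.mp s2))
              rw [hL, hX, commutator_genFitting_eq_sup, ← hRdef]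
              refine sup_le ?_ (Subgroup.le_centralizer_iff.mp
                (Subgroup.commutator_eq_bot_iff_le_centralizer.mp s1))
              have h1 : ⁅Cfsg.layer H, Q⁆ ≤ Cfsg.layer H := Subgroup.commutator_le_left _ _
              have h3 := layer_comm_fitting (G := H)
              rw [Subgroup.commutator_eq_bot_iff_le_centralizer] at h3
              exact h1.trans (h3.trans (Subgroup.centralizer_le hWV))
          have hWT : ⁅⁅Cfsg.fittingSubgroup H, T⁆, T⁆ = ⊥ :=
            Subgroup.commutator_eq_bot_iff_le_centralizer.mpr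
              (hWF.trans (le_sup_left.trans hFLT))
          have hcop := Cfsg.Agent.Lib.Helper1.coprime_commutator_commutator T
            (Cfsg.fittingSubgroup H)
            ((Subgroup.normalizer_eq_top_iff.mpr hVn).ge.trans' le_top)
            (by
              obtain ⟨k, hk⟩ := IsPGroup.iff_card.mp hT
              rw [hk]
              exact Nat.Coprime.pow_left k (card_fitting_coprime hO).symm)
            (Or.inr hVsol)
          rw [← hcop]; exact hWT
        have h9 : ⁅Cfsg.generalizedFittingSubgroup H, T⁆ = ⊥ := by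
          rw [commutator_genFitting_eq_sup, hTE, hTV, bot_sup_eq]
        exact Subgroup.le_centralizer_iff.mp
          (Subgroup.commutator_eq_bot_iff_le_centralizer.mp h9)
    obtain ⟨S, hS, hQS⟩ := exists_isSylowIn_ge (p := p) (R₀ := Q) (K := C ⊔ Q) hQ le_sup_right
    have hSC : S ⊓ C = ⊥ := by
      apply claimE _ _ le_rfl (hS.2.1.to_le inf_le_left) inf_le_right
      exact (le_inf (hQS.trans Subgroup.le_normalizer) hQC).trans (normalizer_inf_le _ _)
    obtain ⟨P, hP, -⟩ := exists_isSylowIn_ge (p := p) (R₀ := ⊥) (K := C) IsPGroup.of_bot bot_le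
    obtain ⟨S', hS', hPS'⟩ := exists_isSylowIn_ge (p := p) (R₀ := P) (K := C ⊔ Q) hP.2.1
      (hP.1.trans le_sup_left)
    obtain ⟨g, hg, hgS⟩ := hS.exists_conj_eq hS'
    have hgC : g ∈ Subgroup.normalizer (C : Set H) := (sup_le Subgroup.le_normalizer hQC) hg
    have hPbot : P = ⊥ := by
      rw [Subgroup.eq_bot_iff_forall]
      intro x hx
      have h1 : x ∈ S.map (MulAut.conj g).toMonoidHom := hgS ▸ hPS' hx
      obtain ⟨s, hs, rfl⟩ := h1
      have h3 : g * s * g⁻¹ ∈ C := hP.1 hx
      have h2 : s ∈ C := (Subgroup.mem_normalizer_iff.mp hgC s).mpr h3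
      have h4 : s ∈ S ⊓ C := Subgroup.mem_inf.mpr ⟨hs, h2⟩
      rw [hSC, Subgroup.mem_bot] at h4
      rw [h4]; simp
    have h5 := hP.not_dvd_relIndex
    rw [hPbot, Subgroup.relIndex_bot_left] at h5
    exact ((Nat.Prime.coprime_iff_not_dvd Fact.out).mpr h5).symm
  refine ⟨ha, hLQ, ?_, hd, he⟩
  rw [← hZdef]
  exact le_frattini_of_central_of_le_commutator hZL hZcL hZd

/-- Let H be a finite group and p a prime with O_p(H) = 1, Q a p-subgroup of H, L = [F*(H), Q], and F the largest normal subgroup of F*(H) centralized by Q (a normal subgroup of F*(H) centralized by Q and containing every such). Then F = C_{F*(H)}(LQ); L = [L, Q]; L ∩ F ≤ Φ(L); every p-subgroup B of N_H(Q) with [L, B] ≤ F satisfies [L, B] = 1; and C_H(FL) has order prime to p. -/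
theorem result {H : Type*} [Group H] [Finite H] {p : ℕ} [Fact p.Prime] (hO : Cfsg.pCore p H = ⊥) (Q : Subgroup H) (hQ : IsPGroup p ↥Q) (L : Subgroup H) (hL : L = ⁅Cfsg.generalizedFittingSubgroup H, Q⁆) (F : Subgroup H) (hF : F ≤ Cfsg.generalizedFittingSubgroup H ∧ Cfsg.generalizedFittingSubgroup H ≤ Subgroup.normalizer (F : Set H) ∧ Q ≤ Subgroup.centralizer (F : Set H) ∧ ∀ N : Subgroup H, N ≤ Cfsg.generalizedFittingSubgroup H → Cfsg.generalizedFittingSubgroup H ≤ Subgroup.normalizer (N : Set H) → Q ≤ Subgroup.centralizer (N : Set H) → N ≤ F) : F = Cfsg.generalizedFittingSubgroup H ⊓ Subgroup.centralizer ((L ⊔ Q : Subgroup H) : Set H) ∧ ⁅L, Q⁆ = L ∧ L ⊓ F ≤ (frattini ↥L).map L.subtype ∧ (∀ B : Subgroup H, IsPGroup p ↥B → B ≤ Subgroup.normalizer (Q : Set H) → ⁅L, B⁆ ≤ F → ⁅L, B⁆ = ⊥) ∧ (Nat.card ↥(Subgroup.centralizer ((F ⊔ L : Subgroup H) : Set H))).Coprime p := by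
  exact main hO Q hQ L _ rfl hL F hF

end Cfsg.Agent.S2817
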