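import Cfsg.Statements.S2818
import Cfsg.Agent.Lib.Helper18.Frattini

set_option autoImplicit false
open Cfsg

namespace Cfsg.Agent.S2818

open Cfsg.Agent.Lib.Helper18
open scoped commutatorElement

/-- Let P be a finite p-subgroup of a group G and H a subgroup of N_G(P) with [P, H] ≤ Ω₁(Z(P)) (the elements of order dividing p in the centre of P). Then H centralizes the Frattini subgroup of P. -/
theorem result {G : Type*} [Group G] [Finite G] {p : ℕ} [Fact p.Prime] (P : Subgroup G) (hP : IsPGroup p ↥P) (H : Subgroup G) (hH : H ≤ Subgroup.normalizer (P : Set G)) (h : ⁅P, H⁆ ≤ Cfsg.omegaOne p (P ⊓ Subgroup.centralizer (P : Set G))) : ⁅(frattini ↥P).map P.subtype, H⁆ = ⊥ := by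
  have hW : ∀ w ∈ Cfsg.omegaOne p (P ⊓ Subgroup.centralizer (P : Set G)),
      w ∈ P ∧ w ∈ Subgroup.centralizer (P : Set G) ∧ w ^ p = 1 := by
    intro w hw
    unfold Cfsg.omegaOne at hw
    induction hw using Subgroup.closure_induction with
    | mem x hx => exact ⟨hx.1.1, hx.1.2, hx.2⟩
    | one => exact ⟨Subgroup.one_mem _, Subgroup.one_mem _, one_pow _⟩
    | mul a b ha hb iha ihb =>
      refine ⟨Subgroup.mul_mem _ iha.1 ihb.1, Subgroup.mul_mem _ iha.2.1 ihb.2.1, ?_⟩
      have hcm : Commute a b := Subgroup.mem_centralizer_iff.mp ihb.2.1 a iha.1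
      rw [hcm.mul_pow, iha.2.2, ihb.2.2, one_mul]
    | inv a ha iha =>
      exact ⟨Subgroup.inv_mem _ iha.1, Subgroup.inv_mem _ iha.2.1, by rw [inv_pow, iha.2.2, inv_one]⟩
  rw [Subgroup.commutator_eq_bot_iff_le_centralizer]
  have key : (frattini ↥P).map P.subtype ≤ P ⊓ Subgroup.centralizer (H : Set G) := by
    apply map_frattini_le (p := p)
    · intro a ha b hb
      refine ⟨P.mul_mem (P.mul_mem (P.mul_mem ha hb) (P.inv_mem ha)) (P.inv_mem hb), ?_⟩
      have h1 : ⁅⁅P, H⁆, P⁆ = ⊥ := by
        rw [Subgroup.commutator_eq_bot_iff_le_centralizer]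
        intro w hw; exact (hW w (h hw)).2.1
      have h2 : ⁅⁅H, P⁆, P⁆ = ⊥ := by rw [Subgroup.commutator_comm H P]; exact h1
      have h3 : ⁅⁅P, P⁆, H⁆ = ⊥ := Subgroup.commutator_commutator_eq_bot_of_rotate h1 h2
      rw [Subgroup.commutator_eq_bot_iff_le_centralizer] at h3
      have : ⁅a, b⁆ ∈ ⁅P, P⁆ := Subgroup.commutator_mem_commutator ha hb
      rw [commutatorElement_def] at this
      exact h3 this
    · intro a ha
      refine ⟨P.pow_mem ha p, ?_⟩
      show a ^ p ∈ Subgroup.centralizer (H : Set G)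
      rw [Subgroup.mem_centralizer_iff]
      intro x hx
      have hz := hW _ (h (Subgroup.commutator_mem_commutator ha hx))
      set z := ⁅a, x⁆ with hzdef
      have e1 : x * a * x⁻¹ = z⁻¹ * a := by rw [hzdef, commutatorElement_def]; group
      have hcm : Commute z⁻¹ a := by
        have h5 : Commute a z := Subgroup.mem_centralizer_iff.mp hz.2.1 a ha
        exact h5.symm.inv_left
      have e2 : x * a ^ p * x⁻¹ = a ^ p := by
        rw [← conj_pow, e1, hcm.mul_pow, inv_pow, hz.2.2, inv_one, one_mul]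
      calc x * a ^ p = (x * a ^ p * x⁻¹) * x := by group
        _ = a ^ p * x := by rw [e2]
  exact key.trans inf_le_right

end Cfsg.Agent.S2818
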