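import Cfsg.Statements.S2819
import Cfsg.Agent.Lib.Helper18.Frattini

set_option autoImplicit false
open Cfsg

namespace Cfsg.Agent.S2819

open Cfsg.Agent.Lib.Helper18
open scoped commutatorElement

/-- Let P be a finite p-subgroup of a group G, H a subgroup of N_G(P), and Y a subgroup of H centralizing the derived subgroup P' such that [P, Y] is elementary abelian. Then O^p(⟨Y^H⟩), the subgroup of the normal closure of Y in H generated by its elements of order prime to p, centralizes the Frattini subgroup of P. -/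
theorem result {G : Type*} [Group G] [Finite G] {p : ℕ} [Fact p.Prime] (P : Subgroup G) (hP : IsPGroup p ↥P) (H : Subgroup G) (hH : H ≤ Subgroup.normalizer (P : Set G)) (Y : Subgroup G) (hYH : Y ≤ H) (hYc : Y ≤ Subgroup.centralizer ((⁅P, P⁆ : Subgroup G) : Set G)) (hel : Cfsg.IsElementaryAbelian p ⁅P, Y⁆) (NY : Subgroup G) (hNY : NY = (Subgroup.normalClosure ((Y.subgroupOf H : Subgroup ↥H) : Set ↥H)).map H.subtype) : (Cfsg.pResidual p ↥NY).map NY.subtype ≤ Subgroup.centralizer (((frattini ↥P).map P.subtype : Subgroup G) : Set G) := by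
  rw [map_pResidual_subtype]
  set F := (frattini ↥P).map P.subtype with hF
  set D := ⁅P, P⁆ with hD
  have hFP : F ≤ P := Subgroup.map_subtype_le _
  have hPD : P ≤ Subgroup.normalizer (D : Set G) :=
    Subgroup.le_normalizer.trans (normalizer_le_normalizer_commutator_self P)
  have hHF : H ≤ Subgroup.normalizer (F : Set G) :=
    hH.trans (normalizer_le_normalizer_map_frattini P)
  have hHD : H ≤ Subgroup.normalizer (D : Set G) :=
    hH.trans (normalizer_le_normalizer_commutator_self P)
  have hHC : H ≤ Subgroup.normalizer (stabSeries F D : Set G) :=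
    (le_inf hHF hHD).trans (normalizer_inf_le_normalizer_stabSeries F D)
  have hYC : Y ≤ stabSeries F D := by
    intro y hy
    refine ⟨hYc hy, ?_⟩
    let Ky : Subgroup G :=
      { carrier := {x | x ∈ P ∧ x * y * x⁻¹ * y⁻¹ ∈ D}
        mul_mem' := by
          rintro a b ⟨ha, ha'⟩ ⟨hb, hb'⟩
          refine ⟨P.mul_mem ha hb, ?_⟩
          have e : a * b * y * (a * b)⁻¹ * y⁻¹ = (a * (b * y * b⁻¹ * y⁻¹) * a⁻¹) * (a * y * a⁻¹ * y⁻¹) := by
            group
          rw [e]
          exact D.mul_mem ((Subgroup.mem_normalizer_iff.mp (hPD ha) _).mp hb') ha'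
        one_mem' := ⟨P.one_mem, by simp⟩
        inv_mem' := by
          rintro a ⟨ha, ha'⟩
          refine ⟨P.inv_mem ha, ?_⟩
          have e : a⁻¹ * y * a⁻¹⁻¹ * y⁻¹ = a⁻¹ * (a * y * a⁻¹ * y⁻¹)⁻¹ * a⁻¹⁻¹ := by group
          rw [e]
          exact (Subgroup.mem_normalizer_iff.mp (hPD (P.inv_mem ha)) _).mp (D.inv_mem ha') }
    have hFK : F ≤ Ky := by
      apply map_frattini_le (p := p)
      · intro a ha b hb
        have hcD : a * b * a⁻¹ * b⁻¹ ∈ D := by
          have : ⁅a, b⁆ ∈ ⁅P, P⁆ := Subgroup.commutator_mem_commutator ha hb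
          rw [commutatorElement_def] at this
          exact this
        refine ⟨P.mul_mem (P.mul_mem (P.mul_mem ha hb) (P.inv_mem ha)) (P.inv_mem hb), ?_⟩
        have hcy := Subgroup.mem_centralizer_iff.mp (hYc hy) _ hcD
        have e : a * b * a⁻¹ * b⁻¹ * y * (a * b * a⁻¹ * b⁻¹)⁻¹ * y⁻¹ = 1 := by
          rw [hcy]; group
        rw [e]; exact D.one_mem
      · intro a ha
        refine ⟨P.pow_mem ha p, ?_⟩
        have hc : ⁅a, y⁆ ∈ ⁅P, Y⁆ := Subgroup.commutator_mem_commutator ha hy
        have hcp : ⁅a, y⁆ ^ p = 1 := hel.2 _ hc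
        have hyP : y * a⁻¹ * y⁻¹ ∈ P :=
          (Subgroup.mem_normalizer_iff.mp (hH (hYH hy)) _).mp (P.inv_mem ha)
        have hcP : ⁅a, y⁆ ∈ P := by
          rw [commutatorElement_def]
          have e : a * y * a⁻¹ * y⁻¹ = a * (y * a⁻¹ * y⁻¹) := by group
          rw [e]; exact P.mul_mem ha hyP
        set c := ⁅a, y⁆ with hcdef
        have e1 : y * a * y⁻¹ = c⁻¹ * a := by rw [hcdef, commutatorElement_def]; group
        have h7 := mul_pow_mem_commutator (P.inv_mem hcP) ha p
        rw [inv_pow, hcp, inv_one, one_mul, ← e1, conj_pow] at h7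
        have h8 := D.inv_mem h7
        have e : a ^ p * y * (a ^ p)⁻¹ * y⁻¹ = (y * a ^ p * y⁻¹ * (a ^ p)⁻¹)⁻¹ := by group
        rw [e]; exact h8
    exact fun w hw => (hFK hw).2
  have hNYC : NY ≤ stabSeries F D := by
    rw [hNY]
    haveI : ((stabSeries F D).subgroupOf H).Normal :=
      Subgroup.normal_subgroupOf_of_le_normalizer hHC
    have h1 : Subgroup.normalClosure ((Y.subgroupOf H : Subgroup ↥H) : Set ↥H) ≤
        (stabSeries F D).subgroupOf H := by
      apply Subgroup.normalClosure_le_normal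
      intro y hy
      exact hYC hy
    calc _ ≤ ((stabSeries F D).subgroupOf H).map H.subtype := Subgroup.map_mono h1
      _ ≤ stabSeries F D := by rw [Subgroup.subgroupOf_map_subtype]; exact inf_le_left
  have hNYH : NY ≤ H := by rw [hNY]; exact Subgroup.map_subtype_le _
  unfold pResOf
  rw [Subgroup.closure_le]
  rintro x ⟨hx, hc⟩
  exact commute_of_mem_stabSeries (hP.to_le hFP) hc (hHF (hNYH hx)) (hNYC hx)

end Cfsg.Agent.S2819
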