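import Cfsg.Statements.S2821
import Cfsg.Agent.Lib.Helper18.YL

set_option autoImplicit false
open Cfsg

namespace Cfsg.Agent.S2821

open Cfsg.Agent.Lib.Helper18


/-- Let H be a finite group, p a prime, T a Sylow p-subgroup and L a subgroup of characteristic p containing T; let Y_L be the largest p-reduced normal subgroup of L (the join of the normal elementary abelian p-subgroups V of L with O_p(L/C_L(V)) = 1). Then T₀ := C_T(Y_L) is a Sylow p-subgroup of C_H(Y_L); moreover O_p(L) ≤ T₀ ≤ C_L(Y_L) and Ω₁(Z(T)) ≤ Z_L ≤ Y_L ≤ Ω₁(Z(O_p(L))), where Z_L is generated by the Ω₁(Z(S)) over the Sylow p-subgroups S of L. -/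
theorem result {H : Type*} [Group H] [Finite H] {p : ℕ} [Fact p.Prime] (T : Sylow p H) (L : Subgroup H) (hTL : (T : Subgroup H) ≤ L) (hL : Subgroup.centralizer (Cfsg.pCore p ↥L : Set ↥L) ≤ Cfsg.pCore p ↥L) (T₀ : Subgroup H) (hT₀ : T₀ = (T : Subgroup H) ⊓ Subgroup.centralizer (((Cfsg.largestPReducedOf p L) : Subgroup H) : Set H)) : (∃ P : Sylow p ↥(Subgroup.centralizer (((Cfsg.largestPReducedOf p L) : Subgroup H) : Set H)), (P : Subgroup ↥(Subgroup.centralizer (((Cfsg.largestPReducedOf p L) : Subgroup H) : Set H))) = T₀.subgroupOf (Subgroup.centralizer (((Cfsg.largestPReducedOf p L) : Subgroup H) : Set H))) ∧ (Cfsg.pCoreOf p L) ≤ T₀ ∧ T₀ ≤ L ⊓ Subgroup.centralizer (((Cfsg.largestPReducedOf p L) : Subgroup H) : Set H) ∧ (Cfsg.omegaOne p ((T : Subgroup H) ⊓ Subgroup.centralizer (((T : Subgroup H) : Subgroup H) : Set H))) ≤ Cfsg.sylowCenterClosure p L ∧ Cfsg.sylowCenterClosure p L ≤ (Cfsg.largestPReducedOf p L) ∧ (Cfsg.largestPReducedOf p L) ≤ (Cfsg.omegaOne p ((Cfsg.pCoreOf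 p L) ⊓ Subgroup.centralizer (((Cfsg.pCoreOf p L) : Subgroup H) : Set H))) := by
  subst hT₀
  have hY := isPRedIn_largestPReducedOf (p := p) hL
  refine ⟨?_, ?_, ?_, ?_, ?_, ?_⟩
  · have hTN : (T : Subgroup H) ≤ Subgroup.normalizer
        (Subgroup.centralizer (((Cfsg.largestPReducedOf p L) : Subgroup H) : Set H) : Set H) :=
      hTL.trans (hY.2.1.trans (normalizer_le_normalizer_centralizer _))
    obtain ⟨S, hS⟩ := (isSylowIn_inf_of_le_normalizer T hTN).exists_sylow
    refine ⟨S, ?_⟩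
    rw [← hS]
    exact (Subgroup.comap_map_eq_self_of_injective (Subgroup.subtype_injective _) _).symm
  · exact le_inf (pCoreOf_le_sylow T hTL) (pCoreOf_le_centralizer_largestPReducedOf hL)
  · exact inf_le_inf_right _ hTL
  · unfold sylowCenterClosure
    have e : ((T.subtype hTL : Sylow p ↥L) : Subgroup ↥L).map L.subtype = (T : Subgroup H) := by
      rw [Sylow.coe_subtype, Subgroup.subgroupOf_map_subtype, inf_of_le_left hTL]
    have h1 := le_iSup (fun S : Sylow p ↥L => omegaOne p (((S : Subgroup ↥L).map L.subtype) ⊓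
      Subgroup.centralizer (((S : Subgroup ↥L).map L.subtype : Subgroup H) : Set H)))
      (T.subtype hTL)
    simp only [e] at h1
    exact h1
  · unfold sylowCenterClosure
    apply iSup_le
    intro S
    exact omegaOne_center_sylow_le hL S
  · exact largestPReducedOf_le_omegaOne hL

end Cfsg.Agent.S2821
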