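import Cfsg.Statements.S2822
import Cfsg.Agent.Lib.Helper18.YL
import Cfsg.Agent.Lib.Helper18.Coprime

set_option autoImplicit false
open Cfsg

namespace Cfsg.Agent.S2822

open Cfsg.Agent.Lib.Helper18


/-- Let H be a finite group, p a prime, T a Sylow p-subgroup, and L, M subgroups of characteristic p containing T, with largest p-reduced normal subgroups Y_L, Y_M. If L·C_H(Y_M) = M·C_H(Y_M), then Y_M ≤ Y_L. -/
theorem result {H : Type*} [Group H] [Finite H] {p : ℕ} [Fact p.Prime] (T : Sylow p H) (L M : Subgroup H) (hTL : (T : Subgroup H) ≤ L) (hTM : (T : Subgroup H) ≤ M) (hL : Subgroup.centralizer (Cfsg.pCore p ↥L : Set ↥L) ≤ Cfsg.pCore p ↥L) (hM : Subgroup.centralizer (Cfsg.pCore p ↥M : Set ↥M) ≤ Cfsg.pCore p ↥M) : L ⊔ Subgroup.centralizer (((Cfsg.largestPReducedOf p M) : Subgroup H) : Set H) = M ⊔ Subgroup.centralizer (((Cfsg.largestPReducedOf p M) : Subgroup H) : Set H) → (Cfsg.largestPReducedOf p M) ≤ (Cfsg.largestPReducedOf p L) := by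
  intro hsup
  have hYM : IsPRedIn p (largestPReducedOf p M) M := isPRedIn_largestPReducedOf hM
  have hYL0 : largestPReducedOf p M ≤ L :=
    (largestPReducedOf_le_pCoreOf hM).trans ((pCoreOf_le_sylow T hTM).trans hTL)
  revert hsup hYM hYL0
  generalize largestPReducedOf p M = Y
  intro hsup hYM hYL
  obtain ⟨hYleM, hMY, hcomm, hexp, hred⟩ := hYM
  apply le_largestPReducedOf
  have hCY : Subgroup.centralizer (Y : Set H) ≤ Subgroup.normalizer (Y : Set H) :=
    Subgroup.centralizer_le_normalizer _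
  have hLsup : L ≤ M ⊔ Subgroup.centralizer (Y : Set H) := hsup ▸ le_sup_left
  have hLY : L ≤ Subgroup.normalizer (Y : Set H) := hLsup.trans (sup_le hMY hCY)
  have hMsup : M ≤ L ⊔ Subgroup.centralizer (Y : Set H) := hsup.symm ▸ le_sup_left
  have hLC : L ≤ Subgroup.normalizer (Subgroup.centralizer (Y : Set H) : Set H) :=
    hLY.trans (normalizer_le_normalizer_centralizer Y)
  have hMC : M ≤ Subgroup.normalizer (Subgroup.centralizer (Y : Set H) : Set H) :=
    hMY.trans (normalizer_le_normalizer_centralizer Y)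
  refine ⟨hYL, hLY, hcomm, hexp, ?_⟩
  intro D hDL hLD hDp
  have hDC : D ≤ Subgroup.normalizer (Subgroup.centralizer (Y : Set H) : Set H) := hDL.trans hLC
  have hE : (D ⊔ Subgroup.centralizer (Y : Set H)) ⊓ M ≤ Subgroup.centralizer (Y : Set H) := by
    apply hred
    · exact inf_le_right
    · have h1 : L ⊔ Subgroup.centralizer (Y : Set H) ≤
          Subgroup.normalizer ((D ⊔ Subgroup.centralizer (Y : Set H) : Subgroup H) : Set H) := by
        refine sup_le ?_ ?_
        · exact (le_inf hLD hLC).trans (normalizer_inf_le_normalizer_sup D _)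
        · exact le_sup_right.trans Subgroup.le_normalizer
      exact (le_inf (hMsup.trans h1) Subgroup.le_normalizer).trans (normalizer_inf_le _ _)
    · intro e he
      obtain ⟨d, hd, c, hc, rfl⟩ := mem_sup_of_le_normalizer hDC (Subgroup.mem_inf.mp he).1
      obtain ⟨k, hk⟩ := hDp d hd
      obtain ⟨c', hc', e2⟩ := exists_pow_mul_eq (hDC hd) hc (p ^ k)
      exact ⟨k, by rw [e2]; exact Subgroup.mul_mem _ hk hc'⟩
  intro d hd
  obtain ⟨m, hm, c, hc, rfl⟩ := mem_sup_of_le_normalizer hMC (hLsup (hDL hd))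
  have hmE : m ∈ (D ⊔ Subgroup.centralizer (Y : Set H)) ⊓ M := by
    refine Subgroup.mem_inf.mpr ⟨?_, hm⟩
    have e3 : m = (m * c) * c⁻¹ := by group
    rw [e3]
    exact Subgroup.mul_mem _ (Subgroup.mem_sup_left hd)
      (Subgroup.mem_sup_right (Subgroup.inv_mem _ hc))
  exact Subgroup.mul_mem _ (hE hmE) hc

end Cfsg.Agent.S2822
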