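import Cfsg.Statements.S2823
import Cfsg.Agent.Lib.Helper18.ZL

set_option autoImplicit false
open Cfsg

namespace Cfsg.Agent.S2823

open Cfsg.Agent.Lib.Helper18
open scoped commutatorElement

/-- Let H be a finite group, p a prime, T a Sylow p-subgroup and L a subgroup of characteristic p containing T; let Z_L be the subgroup generated by the Ω₁(Z(S)) over the Sylow p-subgroups S of L and O^p(L) the subgroup generated by the elements of L of order prime to p. Then Z_L = Ω₁(Z(L))·[Z_L, O^p(L)] and [Z_L, L] = [Z_L, O^p(L)]. -/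
theorem result {H : Type*} [Group H] [Finite H] {p : ℕ} [Fact p.Prime] (T : Sylow p H) (L : Subgroup H) (hTL : (T : Subgroup H) ≤ L) (hL : Subgroup.centralizer (Cfsg.pCore p ↥L : Set ↥L) ≤ Cfsg.pCore p ↥L) : Cfsg.sylowCenterClosure p L = (Cfsg.omegaOne p (L ⊓ Subgroup.centralizer ((L : Subgroup H) : Set H))) ⊔ ⁅Cfsg.sylowCenterClosure p L, (Cfsg.pResidual p ↥L).map L.subtype⁆ ∧ ⁅Cfsg.sylowCenterClosure p L, L⁆ = ⁅Cfsg.sylowCenterClosure p L, (Cfsg.pResidual p ↥L).map L.subtype⁆ := by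
  have hY := isPRedIn_largestPReducedOf (p := p) hL
  have hZY : Cfsg.sylowCenterClosure p L ≤ Cfsg.largestPReducedOf p L :=
    sylowCenterClosure_le (fun R hR => by
      obtain ⟨S, rfl⟩ := hR.exists_sylow
      exact omegaOne_center_sylow_le hL S)
  obtain ⟨Z, hZdef⟩ : ∃ Z : Subgroup H, Z = Cfsg.sylowCenterClosure p L := ⟨_, rfl⟩
  obtain ⟨R, hRdef⟩ : ∃ R : Subgroup H, R = (Cfsg.pResidual p ↥L).map L.subtype := ⟨_, rfl⟩
  have hD := sylowCenterClosure_le_sup T hTL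
  have hT : IsSylowIn p (T : Subgroup H) L := isSylowIn_of_sylow_le T hTL
  have hΩZ := le_sylowCenterClosure hT
  have hLZ := le_normalizer_sylowCenterClosure p L
  rw [← hZdef, ← hRdef] at hD ⊢
  rw [← hZdef] at hZY hΩZ hLZ
  have hZL : Z ≤ L := hZY.trans hY.1
  have hZc : ∀ a ∈ Z, ∀ b ∈ Z, a * b = b * a := fun a ha b hb => hY.2.2.1 a (hZY ha) b (hZY hb)
  have hZp : ∀ a ∈ Z, a ^ p = 1 := fun a ha => hY.2.2.2.1 a (hZY ha)
  have hRL : R ≤ L := hRdef ▸ Subgroup.map_subtype_le _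
  have hLR : L ≤ Subgroup.normalizer (R : Set H) :=
    hRdef ▸ le_normalizer_map_subtype_of_normal _
  have hLW : L ≤ Subgroup.normalizer ((⁅Z, R⁆ : Subgroup H) : Set H) :=
    (le_inf hLZ hLR).trans (normalizer_inf_le_normalizer_commutator Z R)
  have hWZ : ⁅Z, R⁆ ≤ Z := commutator_le_of_le_normalizer' (hRL.trans hLZ)
  have hconjW : ∀ l ∈ L, ∀ w ∈ ⁅Z, R⁆, l * w * l⁻¹ ∈ ⁅Z, R⁆ := fun l hl w hw =>
    (Subgroup.mem_normalizer_iff.mp (hLW hl) w).mp hw
  -- part (2)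
  have h2 : ⁅Z, L⁆ = ⁅Z, R⁆ := by
    apply le_antisymm _ (Subgroup.commutator_mono le_rfl hRL)
    rw [Subgroup.commutator_le]
    intro z hz l hl
    obtain ⟨r, hr, s, hs, e⟩ := exists_mul_of_mem_of_sylow_le T hTL hl
    rw [← hRdef] at hr
    have hΩW : omegaOne p ((T : Subgroup H) ⊓ Subgroup.centralizer ((T : Subgroup H) : Set H)) ≤
        Subgroup.normalizer ((⁅Z, R⁆ : Subgroup H) : Set H) := (hΩZ.trans hZL).trans hLW
    obtain ⟨u, hu, w, hw, e2⟩ := mem_sup_of_le_normalizer hΩW (hD hz)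
    have huC := (mem_omegaOne_center_iff.mp hu).1.2
    have hus : ⁅u, s⁆ = 1 := by
      rw [commutatorElement_def, ← Subgroup.mem_centralizer_iff.mp huC s hs]
      group
    have huL : u ∈ L := hZL (hΩZ hu)
    have hws : ⁅w, s⁆ ∈ ⁅Z, R⁆ := by
      have h3 : ⁅w, s⁆ = w * (s * w⁻¹ * s⁻¹) := by rw [commutatorElement_def]; group
      rw [h3]
      exact Subgroup.mul_mem _ hw (hconjW s (hTL hs) _ (Subgroup.inv_mem _ hw))
    have hzs : ⁅z, s⁆ ∈ ⁅Z, R⁆ := by
      have h3 : ⁅z, s⁆ = u * ⁅w, s⁆ * u⁻¹ * ⁅u, s⁆ := by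
        rw [e2]; simp only [commutatorElement_def]; group
      rw [h3, hus, mul_one]
      exact hconjW u huL _ hws
    have h4 : ⁅z, l⁆ = ⁅z, r⁆ * (r * ⁅z, s⁆ * r⁻¹) := by
      rw [e]; simp only [commutatorElement_def]; group
    rw [h4]
    exact Subgroup.mul_mem _ (Subgroup.commutator_mem_commutator hz hr)
      (hconjW r (hRL hr) _ hzs)
  refine ⟨?_, h2⟩
  apply le_antisymm
  · -- Z ≤ Ω₁Z(L) ⊔ W
    refine hD.trans (sup_le ?_ le_sup_right)
    intro x hx
    obtain ⟨⟨hxT, hxC⟩, hxp⟩ := mem_omegaOne_center_iff.mp hx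
    obtain ⟨y, hy, w, hw, e⟩ :=
      exists_central_mul_commutator_rel (S := (T : Subgroup H)) hZc hZL hLZ (hΩZ hx) hxC
    rw [h2] at hw
    have hyΩ : y ∈ Cfsg.omegaOne p (L ⊓ Subgroup.centralizer ((L : Subgroup H) : Set H)) :=
      mem_omegaOne_center_iff.mpr ⟨⟨hZL hy.1, hy.2⟩, hZp y hy.1⟩
    have h3 : x ^ (T : Subgroup H).relIndex L ∈
        Cfsg.omegaOne p (L ⊓ Subgroup.centralizer ((L : Subgroup H) : Set H)) ⊔ ⁅Z, R⁆ := by
      have h4 : x ^ (T : Subgroup H).relIndex L = y * w⁻¹ := by rw [e]; group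
      rw [h4]
      exact Subgroup.mul_mem _ (Subgroup.mem_sup_left hyΩ)
        (Subgroup.mem_sup_right (Subgroup.inv_mem _ hw))
    have h5 : x ^ p ∈
        Cfsg.omegaOne p (L ⊓ Subgroup.centralizer ((L : Subgroup H) : Set H)) ⊔ ⁅Z, R⁆ := by
      rw [hxp]; exact Subgroup.one_mem _
    have hp : p.Prime := Fact.out
    have hcop : Nat.Coprime ((T : Subgroup H).relIndex L) p :=
      ((Nat.Prime.coprime_iff_not_dvd hp).mpr hT.not_dvd_relIndex).symm
    exact mem_of_pow_mem_of_pow_mem hcop h3 h5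
  · apply sup_le _ hWZ
    -- Ω₁Z(L) ≤ Z
    intro z hz
    obtain ⟨⟨hzL, hzC⟩, hzp⟩ := mem_omegaOne_center_iff.mp hz
    apply hΩZ
    have hzcore : Subgroup.zpowers z ≤ pCoreOf p L := by
      apply le_pCoreOf
      · rw [Subgroup.zpowers_le]; exact hzL
      · refine le_trans ?_ (centralizer_singleton_le_normalizer_zpowers z)
        intro l hl
        rw [Subgroup.mem_centralizer_iff]
        intro y hy
        rw [Set.mem_singleton_iff] at hy
        rw [hy]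
        exact (Subgroup.mem_centralizer_iff.mp hzC l hl).symm
      · rintro ⟨y, hy⟩
        obtain ⟨n, rfl⟩ := Subgroup.mem_zpowers_iff.mp hy
        refine ⟨1, Subtype.ext ?_⟩
        show (z ^ n) ^ (p ^ 1) = 1
        rw [pow_one, ← zpow_natCast, ← zpow_mul, mul_comm, zpow_mul, zpow_natCast, hzp, one_zpow]
    have hzT : z ∈ (T : Subgroup H) :=
      pCoreOf_le_sylow T hTL (hzcore (Subgroup.mem_zpowers z))
    refine mem_omegaOne_center_iff.mpr ⟨⟨hzT, ?_⟩, hzp⟩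
    exact Subgroup.centralizer_le hTL hzC

end Cfsg.Agent.S2823
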