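import Cfsg.Statements.S2824
import Cfsg.Agent.Lib.Helper18.YL2
import Cfsg.Agent.Lib.Helper18.OddCore
import Cfsg.Agent.Lib.Helper18.CharP

set_option autoImplicit false
open Cfsg

namespace Cfsg.Agent.S2824

open Cfsg.Agent.Lib.Helper18

/-- Let H be a finite group, p a prime, T a Sylow p-subgroup, L and M subgroups of characteristic p containing T, Y_L the largest p-reduced normal subgroup of L and T₀ = C_T(Y_L). If M·C_H(Y_L) = L·C_H(Y_L), then L* := N_M(T₀) has Y_{L*} = Y_L and L·C_H(Y_L) = L*·C_H(Y_L). -/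
theorem result {H : Type*} [Group H] [Finite H] {p : ℕ} [Fact p.Prime] (T : Sylow p H) (L M : Subgroup H) (hTL : (T : Subgroup H) ≤ L) (hTM : (T : Subgroup H) ≤ M) (hL : Subgroup.centralizer (Cfsg.pCore p ↥L : Set ↥L) ≤ Cfsg.pCore p ↥L) (hM : Subgroup.centralizer (Cfsg.pCore p ↥M : Set ↥M) ≤ Cfsg.pCore p ↥M) (T₀ : Subgroup H) (hT₀ : T₀ = (T : Subgroup H) ⊓ Subgroup.centralizer (((Cfsg.largestPReducedOf p L) : Subgroup H) : Set H)) (hfac : M ⊔ Subgroup.centralizer (((Cfsg.largestPReducedOf p L) : Subgroup H) : Set H) = L ⊔ Subgroup.centralizer (((Cfsg.largestPReducedOf p L) : Subgroup H) : Set H)) (Ls : Subgroup H) (hLs : Ls = M ⊓ Subgroup.normalizer ((T₀ : Subgroup H) : Set H)) : (Cfsg.largestPReducedOf p Ls) = (Cfsg.largestPReducedOf p L) ∧ L ⊔ Subgroup.centralizer (((Cfsg.largestPReducedOf p L) : Subgroup H) : Set H) = Ls ⊔ Subgroup.centralizer (((Cfsg.largestPReducedOf p L) : Subgroup H) : Set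 H) := by
  have hp : p.Prime := Fact.out
  obtain ⟨Y, hYdef⟩ : ∃ Y : Subgroup H, Y = largestPReducedOf p L := ⟨_, rfl⟩
  rw [← hYdef] at hT₀ hfac ⊢
  have hY : IsPRedIn p Y L := hYdef ▸ isPRedIn_largestPReducedOf (p := p) hL
  have hYT : Y ≤ (T : Subgroup H) :=
    hYdef ▸ ((largestPReducedOf_le_pCoreOf hL).trans (pCoreOf_le_sylow T hTL))
  have hΩY : omegaOne p ((T : Subgroup H) ⊓ Subgroup.centralizer ((T : Subgroup H) : Set H))
      ≤ Y := by
    rw [hYdef]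
    exact (le_sylowCenterClosure (isSylowIn_of_sylow_le T hTL)).trans
      (sylowCenterClosure_le (fun R hR => by
        obtain ⟨S, rfl⟩ := hR.exists_sylow
        exact omegaOne_center_sylow_le hL S))
  obtain ⟨C, hCdef⟩ : ∃ C : Subgroup H, C = Subgroup.centralizer (Y : Set H) := ⟨_, rfl⟩
  rw [← hCdef] at hT₀ hfac ⊢
  subst hT₀
  have hLY := hY.2.1
  have hLC : L ≤ Subgroup.normalizer (C : Set H) :=
    hCdef ▸ hLY.trans (normalizer_le_normalizer_centralizer Y)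
  have hMC : M ≤ Subgroup.normalizer (C : Set H) :=
    (le_sup_left.trans hfac.le).trans (sup_le hLC Subgroup.le_normalizer)
  have hTC : (T : Subgroup H) ≤ Subgroup.normalizer (C : Set H) := hTL.trans hLC
  have hTT₀ : (T : Subgroup H) ≤ Subgroup.normalizer (((T : Subgroup H) ⊓ C : Subgroup H) : Set H) :=
    (le_inf Subgroup.le_normalizer hTC).trans (normalizer_inf_le _ _)
  have hTLs : (T : Subgroup H) ≤ Ls := hLs ▸ le_inf hTM hTT₀
  have hLsM : Ls ≤ M := hLs ▸ inf_le_left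
  have hLsN : Ls ≤ Subgroup.normalizer (((T : Subgroup H) ⊓ C : Subgroup H) : Set H) :=
    hLs ▸ inf_le_right
  -- Step 1: Frattini in M
  have hT₀C : IsSylowIn p ((T : Subgroup H) ⊓ C) C := isSylowIn_inf_of_le_normalizer T hTC
  have hT₀MC : IsSylowIn p ((T : Subgroup H) ⊓ C) (M ⊓ C) :=
    ⟨le_inf (inf_le_left.trans hTM) inf_le_right, hT₀C.2.1,
      fun R' hR' hle hR'N => hT₀C.2.2 R' hR' hle (hR'N.trans inf_le_right)⟩
  have hM_MC : M ≤ Subgroup.normalizer ((M ⊓ C : Subgroup H) : Set H) :=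
    (le_inf Subgroup.le_normalizer hMC).trans (normalizer_inf_le _ _)
  have hMle : M ≤ Ls ⊔ C := by
    intro m hm
    obtain ⟨n, hn, x, hx, e⟩ := exists_mul_of_isSylowIn hM_MC hT₀MC hm
    have hxM : x ∈ M := by
      have h1 : x = n⁻¹ * m := by rw [e]; group
      rw [h1]; exact M.mul_mem (M.inv_mem hn.1) hm
    rw [e]
    exact Subgroup.mul_mem _ (Subgroup.mem_sup_right hn.2)
      (Subgroup.mem_sup_left (hLs ▸ Subgroup.mem_inf.mpr ⟨hxM, hx⟩))
  have hsupLs : L ⊔ C = Ls ⊔ C := by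
    rw [← hfac]
    apply le_antisymm
    · exact sup_le hMle le_sup_right
    · exact sup_le (hLsM.trans le_sup_left) le_sup_right
  -- Step 2: Ls has characteristic p
  have hMch : Cfsg.Agent.Lib.Helper18.CharP p M := (Cfsg.Agent.Lib.Helper18.charP_iff p M).mp hM
  have hLsch : Cfsg.Agent.Lib.Helper18.CharP p Ls :=
    charP_of_normalized hMch hLsM
      (((pCoreOf_le_sylow T hTM).trans hTLs).trans Subgroup.le_normalizer)
  have hLs' : Subgroup.centralizer (pCore p ↥Ls : Set ↥Ls) ≤ pCore p ↥Ls :=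
    (Cfsg.Agent.Lib.Helper18.charP_iff p Ls).mpr hLsch
  -- Step 3: Y ≤ Y_{Ls}
  have hYLs : IsPRedIn p Y Ls := by
    apply IsPRedIn.of_sup_eq hY (hYT.trans hTLs)
    rw [← hCdef]; exact hsupLs.symm
  obtain ⟨Ys, hYsdef⟩ : ∃ Ys : Subgroup H, Ys = largestPReducedOf p Ls := ⟨_, rfl⟩
  rw [← hYsdef]
  have hYYs : Y ≤ Ys := hYsdef ▸ le_largestPReducedOf hYLs
  have hYs : IsPRedIn p Ys Ls := hYsdef ▸ isPRedIn_largestPReducedOf (p := p) hLs'
  refine ⟨le_antisymm ?_ hYYs, hsupLs⟩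
  -- Step 4: Y_{Ls} ≤ Y
  have hYsT : Ys ≤ (T : Subgroup H) :=
    hYsdef ▸ ((largestPReducedOf_le_pCoreOf hLs').trans (pCoreOf_le_sylow T hTLs))
  have hYsC : Ys ≤ C := by
    rw [hCdef]
    intro y hy
    rw [Subgroup.mem_centralizer_iff]
    intro v hv
    exact hYs.2.2.1 v (hYYs hv) y hy
  have hT₀core : (T : Subgroup H) ⊓ C ≤ pCoreOf p Ls :=
    le_pCoreOf (inf_le_left.trans hTLs) hLsN (T.isPGroup'.to_le inf_le_left)
  have hT₀Ys : (T : Subgroup H) ⊓ C ≤ Subgroup.centralizer (Ys : Set H) :=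
    hT₀core.trans (hYsdef ▸ pCoreOf_le_centralizer_largestPReducedOf hLs')
  obtain ⟨V₀, hV₀def⟩ : ∃ V₀ : Subgroup H, V₀ = omegaOne p (((T : Subgroup H) ⊓ C) ⊓
      Subgroup.centralizer (((T : Subgroup H) ⊓ C : Subgroup H) : Set H)) := ⟨_, rfl⟩
  have hV₀mem : ∀ x, x ∈ V₀ ↔ ((x ∈ (T : Subgroup H) ⊓ C ∧
      x ∈ Subgroup.centralizer (((T : Subgroup H) ⊓ C : Subgroup H) : Set H)) ∧ x ^ p = 1) :=
    fun x => by rw [hV₀def]; exact mem_omegaOne_center_iff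
  have hYsV₀ : Ys ≤ V₀ := by
    intro y hy
    refine (hV₀mem y).mpr ⟨⟨⟨hYsT hy, hYsC hy⟩, ?_⟩, hYs.2.2.2.1 y hy⟩
    rw [Subgroup.mem_centralizer_iff]
    intro t ht
    exact (Subgroup.mem_centralizer_iff.mp (hT₀Ys ht) y hy).symm
  obtain ⟨C₀, hC₀def⟩ : ∃ C₀ : Subgroup H, C₀ = C ⊓
      Subgroup.normalizer (((T : Subgroup H) ⊓ C : Subgroup H) : Set H) := ⟨_, rfl⟩
  have hC₀C : C₀ ≤ C := hC₀def ▸ inf_le_left
  have hC₀N : C₀ ≤ Subgroup.normalizer (((T : Subgroup H) ⊓ C : Subgroup H) : Set H) :=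
    hC₀def ▸ inf_le_right
  have hV₀T₀ : V₀ ≤ (T : Subgroup H) ⊓ C := fun x hx => ((hV₀mem x).mp hx).1.1
  have hV₀c : ∀ a ∈ V₀, ∀ b ∈ V₀, a * b = b * a := by
    intro a ha b hb
    exact Subgroup.mem_centralizer_iff.mp ((hV₀mem b).mp hb).1.2 a ((hV₀mem a).mp ha).1.1
  have hT₀C₀ : (T : Subgroup H) ⊓ C ≤ C₀ := hC₀def ▸ le_inf inf_le_right Subgroup.le_normalizer
  have hNV₀ : Subgroup.normalizer (((T : Subgroup H) ⊓ C : Subgroup H) : Set H) ≤
      Subgroup.normalizer (V₀ : Set H) := by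
    intro g hg
    apply mem_normalizer_of_map_conj_eq
    rw [hV₀def, omegaOne_center_map_conj, map_conj_eq_of_mem_normalizer _ hg]
  have hC₀V₀ : C₀ ≤ Subgroup.normalizer (V₀ : Set H) := hC₀N.trans hNV₀
  have hT₀cV₀ : (T : Subgroup H) ⊓ C ≤ Subgroup.centralizer (V₀ : Set H) := by
    intro t ht
    rw [Subgroup.mem_centralizer_iff]
    intro v hv
    exact (Subgroup.mem_centralizer_iff.mp ((hV₀mem v).mp hv).1.2 t ht).symm
  have hT₀syl : IsSylowIn p ((T : Subgroup H) ⊓ C) C₀ :=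
    ⟨hT₀C₀, hT₀C.2.1, fun R' hR' hle hR'N => hT₀C.2.2 R' hR' hle (hR'N.trans hC₀C)⟩
  have hTC₀ : (T : Subgroup H) ≤ Subgroup.normalizer (C₀ : Set H) := by
    rw [hC₀def]
    exact (le_inf hTC (hTT₀.trans Subgroup.le_normalizer)).trans (normalizer_inf_le _ _)
  have hU : ⁅V₀, C₀⁆ = ⊥ := by
    by_contra hne
    have hUV₀ : ⁅V₀, C₀⁆ ≤ V₀ := commutator_le_of_le_normalizer' hC₀V₀
    have hUT : ⁅V₀, C₀⁆ ≤ (T : Subgroup H) := hUV₀.trans (hV₀T₀.trans inf_le_left)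
    have hTU : (T : Subgroup H) ≤ Subgroup.normalizer ((⁅V₀, C₀⁆ : Subgroup H) : Set H) :=
      (le_inf (hTT₀.trans hNV₀) hTC₀).trans (normalizer_inf_le_normalizer_commutator V₀ C₀)
    obtain ⟨z, hzU, hzo, hzc⟩ := exists_central_mem_of_normal T.isPGroup' hUT hTU hne
    have hzV₀ : z ∈ V₀ := hUV₀ hzU
    have hzp : z ^ p = 1 := ((hV₀mem z).mp hzV₀).2
    have hzY : z ∈ Y := by
      apply hΩY
      refine mem_omegaOne_center_iff.mpr ⟨⟨hUT hzU, ?_⟩, hzp⟩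
      rw [Subgroup.mem_centralizer_iff]
      intro s hs
      exact hzc s hs
    have hzC₀ : z ∈ Subgroup.centralizer (C₀ : Set H) := by
      rw [Subgroup.mem_centralizer_iff]
      intro c hc
      have hcC : c ∈ Subgroup.centralizer (Y : Set H) := hCdef ▸ hC₀C hc
      exact (Subgroup.mem_centralizer_iff.mp hcC z hzY).symm
    have h1 := pow_relIndex_eq_one_of_mem_commutator (S := (T : Subgroup H) ⊓ C) hV₀c
      (hV₀T₀.trans hT₀C₀) hC₀V₀ hT₀cV₀ (Subgroup.mem_inf.mpr ⟨hzV₀, hzC₀⟩) hzU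
    have hcop : Nat.Coprime (((T : Subgroup H) ⊓ C).relIndex C₀) p :=
      ((Nat.Prime.coprime_iff_not_dvd hp).mpr hT₀syl.not_dvd_relIndex).symm
    have hz1 : z ∈ (⊥ : Subgroup H) := mem_of_pow_mem_of_pow_mem hcop
      (by rw [h1]; exact Subgroup.one_mem _) (by rw [hzp]; exact Subgroup.one_mem _)
    rw [Subgroup.mem_bot] at hz1
    rw [hz1, orderOf_one] at hzo
    exact (Nat.Prime.one_lt hp).ne hzo
  have hC₀Ys : C₀ ≤ Subgroup.centralizer (Ys : Set H) := by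
    have h1 : V₀ ≤ Subgroup.centralizer (C₀ : Set H) :=
      Subgroup.commutator_eq_bot_iff_le_centralizer.mp hU
    exact Subgroup.le_centralizer_iff.mp (hYsV₀.trans h1)
  -- L₁
  obtain ⟨L₁, hL₁def⟩ : ∃ L₁ : Subgroup H, L₁ = L ⊓
      Subgroup.normalizer (((T : Subgroup H) ⊓ C : Subgroup H) : Set H) := ⟨_, rfl⟩
  have hTL₁ : (T : Subgroup H) ≤ L₁ := hL₁def ▸ le_inf hTL hTT₀
  have hL₁L : L₁ ≤ L := hL₁def ▸ inf_le_left
  have hL₁N : L₁ ≤ Subgroup.normalizer (((T : Subgroup H) ⊓ C : Subgroup H) : Set H) :=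
    hL₁def ▸ inf_le_right
  have hT₀LC : IsSylowIn p ((T : Subgroup H) ⊓ C) (L ⊓ C) :=
    ⟨le_inf (inf_le_left.trans hTL) inf_le_right, hT₀C.2.1,
      fun R' hR' hle hR'N => hT₀C.2.2 R' hR' hle (hR'N.trans inf_le_right)⟩
  have hL_LC : L ≤ Subgroup.normalizer ((L ⊓ C : Subgroup H) : Set H) :=
    (le_inf Subgroup.le_normalizer hLC).trans (normalizer_inf_le _ _)
  have hLsC : Ls ≤ Subgroup.normalizer (C : Set H) := hLsM.trans hMC
  have hsup1 : L₁ ⊔ Subgroup.centralizer (Ys : Set H) = Ls ⊔ Subgroup.centralizer (Ys : Set H) := by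
    apply le_antisymm
    · refine sup_le ?_ le_sup_right
      intro l hl
      have h1 : l ∈ Ls ⊔ C := hsupLs ▸ Subgroup.mem_sup_left (hL₁L hl)
      obtain ⟨x, hx, c, hc, e⟩ := mem_sup_of_le_normalizer hLsC h1
      have hcN : c ∈ Subgroup.normalizer (((T : Subgroup H) ⊓ C : Subgroup H) : Set H) := by
        have h2 : c = x⁻¹ * l := by rw [e]; group
        rw [h2]
        exact Subgroup.mul_mem _ (Subgroup.inv_mem _ (hLsN hx)) (hL₁N hl)
      rw [e]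
      exact Subgroup.mul_mem _ (Subgroup.mem_sup_left hx)
        (Subgroup.mem_sup_right (hC₀Ys (hC₀def ▸ Subgroup.mem_inf.mpr ⟨hc, hcN⟩)))
    · refine sup_le ?_ le_sup_right
      intro x hx
      have h1 : x ∈ L ⊔ C := hfac ▸ Subgroup.mem_sup_left (hLsM hx)
      obtain ⟨l, hl, c, hc, e⟩ := mem_sup_of_le_normalizer hLC h1
      obtain ⟨n, hn, l₁, hl₁, e2⟩ := exists_mul_of_isSylowIn hL_LC hT₀LC hl
      have hl₁L : l₁ ∈ L := by
        have h2 : l₁ = n⁻¹ * l := by rw [e2]; group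
        rw [h2]; exact L.mul_mem (L.inv_mem hn.1) hl
      have hc' : l₁⁻¹ * n * l₁ * c ∈ C := by
        apply Subgroup.mul_mem _ _ hc
        have h3 := (Subgroup.mem_normalizer_iff.mp (hLC (L.inv_mem hl₁L)) n).mp hn.2
        simpa using h3
      have hc'N : l₁⁻¹ * n * l₁ * c ∈
          Subgroup.normalizer (((T : Subgroup H) ⊓ C : Subgroup H) : Set H) := by
        have h2 : l₁⁻¹ * n * l₁ * c = l₁⁻¹ * x := by rw [e, e2]; group
        rw [h2]
        exact Subgroup.mul_mem _ (Subgroup.inv_mem _ hl₁) (hLsN hx)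
      have h4 : x = l₁ * (l₁⁻¹ * n * l₁ * c) := by rw [e, e2]; group
      rw [h4]
      exact Subgroup.mul_mem _ (Subgroup.mem_sup_left (hL₁def ▸ Subgroup.mem_inf.mpr ⟨hl₁L, hl₁⟩))
        (Subgroup.mem_sup_right (hC₀Ys (hC₀def ▸ Subgroup.mem_inf.mpr ⟨hc', hc'N⟩)))
  have hYsL₁ : IsPRedIn p Ys L₁ := IsPRedIn.of_sup_eq hYs (hYsT.trans hTL₁) hsup1
  rw [hYdef]
  exact le_largestPReducedOf_of_le T hTL₁ hL₁L hL hYsL₁

end Cfsg.Agent.S2824
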