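import Cfsg.Statements.S2825
import Cfsg.Agent.Lib.Helper18.YL4
import Cfsg.Agent.Lib.Helper17.CoprimeComm

set_option autoImplicit false
open Cfsg

namespace Cfsg.Agent.S2825

open Cfsg.Agent.Lib.Helper18 in
theorem main {H : Type*} [Group H] [Finite H] {p : ℕ} [Fact p.Prime] (L Y : Subgroup H)
    (hL : L.IsSubnormal) (hYdef : Y = Cfsg.largestPReduced p H) :
    Y ⊓ L = Y ⊓ (Cfsg.largestPReducedOf p L) ∧
    Cfsg.IsPReducedNormal p ((Y ⊓ L).subgroupOf L) ∧
    L ⊓ Subgroup.centralizer ((Cfsg.largestPReducedOf p L : Subgroup H) : Set H) =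
      L ⊓ Subgroup.centralizer (Y : Set H) ∧
    L ⊓ Subgroup.centralizer (Y : Set H) =
      L ⊓ Subgroup.centralizer ((Y ⊓ L : Subgroup H) : Set H) ∧
    (Cfsg.pResidual p H ≤ L →
      (⁅(Cfsg.largestPReducedOf p L), L⁆ = ⊥ ↔ ⁅Y, (⊤ : Subgroup H)⁆ = ⊥)) := by
  have hYred : IsPRedIn p Y ⊤ := hYdef ▸ isPRedIn_largestPReduced_top p H
  have hYN : Cfsg.IsPReducedNormal p Y := hYdef ▸ isPReducedNormal_largestPReduced' p H
  obtain ⟨hYn, -, hCn, hcore⟩ := hYN
  obtain ⟨-, hYnorm, hYc, hYe, hYr⟩ := hYred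
  have hYp : IsPGroup p Y := by
    rintro ⟨u, hu⟩
    refine ⟨1, Subtype.ext ?_⟩
    show u ^ (p ^ 1) = 1
    rw [pow_one, hYe u hu]
  have hLY : L ≤ Subgroup.normalizer (Y : Set H) := le_top.trans hYnorm
  have claimA : ∀ D' : Subgroup H, D' ≤ L → L ≤ Subgroup.normalizer (D' : Set H) →
      (∀ d ∈ D', ∃ k : ℕ, d ^ (p ^ k) ∈
        Subgroup.centralizer ((Y ⊓ L : Subgroup H) : Set H)) →
      D' ≤ Subgroup.centralizer (Y : Set H) := by
    intro D' hD'L hLD' hD'p
    have hstar : ∀ x ∈ L, (orderOf x).Coprime p →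
        x ∈ Subgroup.centralizer ((Y ⊓ L : Subgroup H) : Set H) →
        x ∈ Subgroup.centralizer (Y : Set H) := by
      intro x hxL hxc hxW
      have hcomm := commute_of_coprime_of_series (W := Y) (N := Y ⊓ L) hYp hxc (hLY hxL) ?_ ?_
      · rw [Subgroup.mem_centralizer_iff]
        intro y hy
        exact hcomm y hy
      · intro w hw
        refine Subgroup.mem_inf.mpr ⟨?_, ?_⟩
        · have h1 : x * w⁻¹ * x⁻¹ ∈ Y := hYn.conj_mem _ (Y.inv_mem hw) x
          have h2 : w * x * w⁻¹ * x⁻¹ = w * (x * w⁻¹ * x⁻¹) := by group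
          rw [h2]; exact Y.mul_mem hw h1
        · have h1 := Cfsg.Agent.Lib.Helper17.commutator_pResOf_le_of_isSubnormal (p := p)
            (V := Y) hYc hYp hL
          exact h1 (Subgroup.commutator_mem_commutator hw (mem_pResOf hxL hxc))
      · intro n hn
        exact Subgroup.mem_centralizer_iff.mp hxW n hn
    apply Cfsg.Agent.Lib.Helper17.le_of_subnormal_of_pCore_quot_eq_bot
      (Subgroup.centralizer (Y : Set H)) hcore hL D' hD'L hLD'
    intro d hd
    obtain ⟨k, hk⟩ := hD'p d hd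
    obtain ⟨m, hm⟩ := exists_pow_coprime_order (p := p) (k := d ^ (p ^ k))
      (isOfFinOrder_of_finite _)
    refine ⟨k + m, ?_⟩
    rw [pow_add, pow_mul]
    exact hstar _ (L.pow_mem (L.pow_mem (hD'L hd) _) _) hm (Subgroup.pow_mem _ hk _)
  have hLW : L ≤ Subgroup.normalizer ((Y ⊓ L : Subgroup H) : Set H) :=
    (le_inf hLY Subgroup.le_normalizer).trans (normalizer_inf_le _ _)
  have hW : IsPRedIn p (Y ⊓ L) L := by
    refine ⟨inf_le_right, hLW, fun a ha b hb => hYc a ha.1 b hb.1, fun a ha => hYe a ha.1, ?_⟩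
    intro D' hD'L hLD' hD'p
    exact (claimA D' hD'L hLD' hD'p).trans (Subgroup.centralizer_le (inf_le_left : Y ⊓ L ≤ Y))
  have hWYL : Y ⊓ L ≤ Cfsg.largestPReducedOf p L := le_largestPReducedOf hW
  have hYLL : Cfsg.largestPReducedOf p L ≤ L := Subgroup.map_subtype_le _
  have hd : L ⊓ Subgroup.centralizer (Y : Set H) =
      L ⊓ Subgroup.centralizer ((Y ⊓ L : Subgroup H) : Set H) := by
    apply le_antisymm
    · exact inf_le_inf_left L (Subgroup.centralizer_le (inf_le_left : Y ⊓ L ≤ Y))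
    · refine le_inf inf_le_left ?_
      apply claimA _ inf_le_left
      · exact (le_inf Subgroup.le_normalizer
          (hLW.trans (normalizer_le_normalizer_centralizer _))).trans (normalizer_inf_le _ _)
      · intro d hd
        exact ⟨0, by simpa using hd.2⟩
  have hc : L ⊓ Subgroup.centralizer ((Cfsg.largestPReducedOf p L : Subgroup H) : Set H) =
      L ⊓ Subgroup.centralizer (Y : Set H) := by
    apply le_antisymm
    · rw [hd]
      exact inf_le_inf_left L (Subgroup.centralizer_le hWYL)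
    · refine le_inf inf_le_left ?_
      rw [hYdef]
      exact inf_centralizer_largestPReduced_le hL
  refine ⟨?_, isPReducedNormal_of_isPRedIn hW, hc, hd, ?_⟩
  · apply le_antisymm
    · exact le_inf inf_le_left hWYL
    · exact inf_le_inf_left Y hYLL
  · intro hres
    rw [Subgroup.commutator_eq_bot_iff_le_centralizer,
      Subgroup.commutator_eq_bot_iff_le_centralizer]
    constructor
    · intro h
      have h1 : L ≤ Subgroup.centralizer ((Cfsg.largestPReducedOf p L : Subgroup H) : Set H) :=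
        Subgroup.le_centralizer_iff.mp h
      have h2 : L ≤ Subgroup.centralizer (Y : Set H) := by
        have h3 : L ≤ L ⊓ Subgroup.centralizer
            ((Cfsg.largestPReducedOf p L : Subgroup H) : Set H) := le_inf le_rfl h1
        rw [hc] at h3
        exact h3.trans inf_le_right
      have h4 : (⊤ : Subgroup H) ≤ Subgroup.centralizer (Y : Set H) := by
        apply hYr ⊤ le_rfl
        · intro x _
          rw [Subgroup.mem_normalizer_iff]
          intro y; simp
        · intro d _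
          obtain ⟨n, hn⟩ := exists_pow_mem_pResidual (p := p) d
          exact ⟨n, h2 (hres hn)⟩
      exact Subgroup.le_centralizer_iff.mp h4
    · intro h
      have h1 : (⊤ : Subgroup H) ≤ Subgroup.centralizer (Y : Set H) :=
        Subgroup.le_centralizer_iff.mp h
      have h3 : L ≤ L ⊓ Subgroup.centralizer (Y : Set H) := le_inf le_rfl (le_top.trans h1)
      rw [← hc] at h3
      exact Subgroup.le_centralizer_iff.mp (h3.trans inf_le_right)

/-- Let L be a subnormal subgroup of the finite group H, p a prime, Y_H and Y_L the largest p-reduced normal subgroups. Then Y_H ∩ L = Y_H ∩ Y_L and this subgroup is a p-reduced normal subgroup of L; C_L(Y_L) = C_L(Y_H) = C_L(Y_H ∩ L); and if O^p(H) ≤ L, then [Y_L, L] = 1 if and only if [Y_H, H] = 1. -/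
theorem result {H : Type*} [Group H] [Finite H] {p : ℕ} [Fact p.Prime] (L : Subgroup H) (hL : L.IsSubnormal) : Cfsg.largestPReduced p H ⊓ L = Cfsg.largestPReduced p H ⊓ (Cfsg.largestPReducedOf p L) ∧ Cfsg.IsPReducedNormal p ((Cfsg.largestPReduced p H ⊓ L).subgroupOf L) ∧ L ⊓ Subgroup.centralizer ((Cfsg.largestPReducedOf p L : Subgroup H) : Set H) = L ⊓ Subgroup.centralizer (Cfsg.largestPReduced p H : Set H) ∧ L ⊓ Subgroup.centralizer (Cfsg.largestPReduced p H : Set H) = L ⊓ Subgroup.centralizer ((Cfsg.largestPReduced p H ⊓ L : Subgroup H) : Set H) ∧ (Cfsg.pResidual p H ≤ L → (⁅(Cfsg.largestPReducedOf p L), L⁆ = ⊥ ↔ ⁅Cfsg.largestPReduced p H, (⊤ : Subgroup H)⁆ = ⊥)) := by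
  exact main L _ hL rfl

end Cfsg.Agent.S2825
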