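import Cfsg.Statements.S2826
import Cfsg.Agent.S2823

set_option autoImplicit false
open Cfsg

namespace Cfsg.Agent.S2826

open Cfsg.Agent.Lib.Helper18
open scoped commutatorElement

/-- `Ω₁(Z(L)) ≤ Ω₁(Z(T))` for a Sylow `p`-subgroup `T` of the ambient group inside `L`. -/
theorem omegaOne_center_le {H : Type*} [Group H] [Finite H] {p : ℕ} [Fact p.Prime]
    (T : Sylow p H) {L : Subgroup H} (hTL : (T : Subgroup H) ≤ L) :
    Cfsg.omegaOne p (L ⊓ Subgroup.centralizer ((L : Subgroup H) : Set H)) ≤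
      Cfsg.omegaOne p ((T : Subgroup H) ⊓ Subgroup.centralizer ((T : Subgroup H) : Set H)) := by
  intro z hz
  obtain ⟨⟨hzL, hzC⟩, hzp⟩ := mem_omegaOne_center_iff.mp hz
  have hzcore : Subgroup.zpowers z ≤ pCoreOf p L := by
    apply le_pCoreOf
    · rw [Subgroup.zpowers_le]; exact hzL
    · refine le_trans ?_ (centralizer_singleton_le_normalizer_zpowers z)
      intro l hl
      rw [Subgroup.mem_centralizer_iff]
      intro y hy
      rw [Set.mem_singleton_iff] at hy
      rw [hy]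
      exact (Subgroup.mem_centralizer_iff.mp hzC l hl).symm
    · rintro ⟨y, hy⟩
      obtain ⟨n, rfl⟩ := Subgroup.mem_zpowers_iff.mp hy
      refine ⟨1, Subtype.ext ?_⟩
      show (z ^ n) ^ (p ^ 1) = 1
      rw [pow_one, ← zpow_natCast, ← zpow_mul, mul_comm, zpow_mul, zpow_natCast, hzp, one_zpow]
  have hzT : z ∈ (T : Subgroup H) :=
    pCoreOf_le_sylow T hTL (hzcore (Subgroup.mem_zpowers z))
  exact mem_omegaOne_center_iff.mpr ⟨⟨hzT, Subgroup.centralizer_le hTL hzC⟩, hzp⟩

/-- Let H be a finite group of characteristic p, T a Sylow p-subgroup, and V a normal elementary abelian p-subgroup of H containing Ω₁(Z(T)). Then C_H(Ω₁(Z(T))) = C_H([V, O^p(H)] ∩ Ω₁(Z(T))), O^p(H) being generated by the elements of order prime to p. -/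
theorem result {H : Type*} [Group H] [Finite H] {p : ℕ} [Fact p.Prime] (hH : Subgroup.centralizer (Cfsg.pCore p H : Set H) ≤ Cfsg.pCore p H) (T : Sylow p H) (V : Subgroup H) [V.Normal] (hV : Cfsg.IsElementaryAbelian p V) (hZV : (Cfsg.omegaOne p ((T : Subgroup H) ⊓ Subgroup.centralizer (((T : Subgroup H) : Subgroup H) : Set H))) ≤ V) : Subgroup.centralizer ((Cfsg.omegaOne p ((T : Subgroup H) ⊓ Subgroup.centralizer (((T : Subgroup H) : Subgroup H) : Set H))) : Set H) = Subgroup.centralizer (((⁅V, Cfsg.pResidual p H⁆ ⊓ (Cfsg.omegaOne p ((T : Subgroup H) ⊓ Subgroup.centralizer (((T : Subgroup H) : Subgroup H) : Set H)))) : Subgroup H) : Set H) := by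
  have hLtop : Subgroup.centralizer (Cfsg.pCore p ↥(⊤ : Subgroup H) : Set ↥(⊤ : Subgroup H)) ≤
      Cfsg.pCore p ↥(⊤ : Subgroup H) :=
    (Cfsg.Agent.Lib.Helper18.charP_iff p ⊤).mpr ((charP_top_iff p H).mp hH)
  obtain ⟨h1, -⟩ := Cfsg.Agent.S2823.result T ⊤ le_top hLtop
  rw [map_pResidual_subtype, pResOf_top] at h1
  have hT : IsSylowIn p (T : Subgroup H) ⊤ := isSylowIn_of_sylow_le T le_top
  have hΩZ := le_sylowCenterClosure hT
  have hZV : Cfsg.sylowCenterClosure p (⊤ : Subgroup H) ≤ V := by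
    apply sylowCenterClosure_le
    intro R hR
    obtain ⟨c, -, e⟩ := hT.exists_conj_eq hR
    rw [e, ← omegaOne_center_map_conj]
    have hVc : V.map (MulAut.conj c).toMonoidHom = V :=
      map_conj_eq_of_mem_normalizer V (le_normalizer_of_normal inferInstance ⊤ (Subgroup.mem_top c))
    calc _ ≤ V.map (MulAut.conj c).toMonoidHom := Subgroup.map_mono hZV
      _ = V := hVc
  have hΩ₀ := omegaOne_center_le T (L := ⊤) le_top
  revert h1 hΩZ hZV hΩ₀
  generalize Cfsg.sylowCenterClosure p (⊤ : Subgroup H) = Z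
  generalize Cfsg.omegaOne p ((T : Subgroup H) ⊓
    Subgroup.centralizer ((T : Subgroup H) : Set H)) = Ω
  intro h1 hΩZ hZV hΩ₀
  apply le_antisymm
  · exact Subgroup.centralizer_le inf_le_right
  · intro g hg
    rw [Subgroup.mem_centralizer_iff] at hg ⊢
    intro x hx
    have hxZ := hΩZ hx
    rw [h1] at hxZ
    have hnorm : Cfsg.omegaOne p ((⊤ : Subgroup H) ⊓
        Subgroup.centralizer (((⊤ : Subgroup H) : Subgroup H) : Set H)) ≤
        Subgroup.normalizer ((⁅Z, Cfsg.pResidual p H⁆ : Subgroup H) : Set H) := by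
      intro z hz
      have hzC := (mem_omegaOne_center_iff.mp hz).1.2
      rw [Subgroup.mem_normalizer_iff]
      intro y
      have h2 : z * y * z⁻¹ = y := by
        rw [← Subgroup.mem_centralizer_iff.mp hzC y (Subgroup.mem_top y), mul_inv_cancel_right]
      rw [h2]
    obtain ⟨z, hz, w, hw, e⟩ := mem_sup_of_le_normalizer hnorm hxZ
    have hzC := (mem_omegaOne_center_iff.mp hz).1.2
    have hwΩ : w ∈ Ω := by
      have h2 : w = z⁻¹ * x := by rw [e]; group
      rw [h2]
      exact Subgroup.mul_mem _ (Subgroup.inv_mem _ (hΩ₀ hz)) hx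
    have hwV : w ∈ ⁅V, Cfsg.pResidual p H⁆ := Subgroup.commutator_mono hZV le_rfl hw
    have h3 := hg w (Subgroup.mem_inf.mpr ⟨hwV, hwΩ⟩)
    have h4 := Subgroup.mem_centralizer_iff.mp hzC g (Subgroup.mem_top g)
    calc x * g = z * (w * g) := by rw [e, mul_assoc]
      _ = (z * g) * w := by rw [h3, mul_assoc]
      _ = g * x := by rw [← h4, e, mul_assoc]

end Cfsg.Agent.S2826
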