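import Cfsg.Statements.S2827
import Cfsg.Agent.Lib.Helper18.PIrr
import Cfsg.Agent.Lib.Helper18.Coprime

set_option autoImplicit false
open Cfsg

namespace Cfsg.Agent.S2827

open Cfsg.Agent.Lib.Helper18
open scoped commutatorElement


/-- Let H be a finite p-irreducible group (not p-closed, and O^p(H) lies in every normal subgroup that is not p-closed) and T a Sylow p-subgroup. Then H is generated by the conjugates of T and H = H'·T; O^p(H) ≤ H'; and for every normal subgroup Y of T not contained in O_p(H), O^p(H) = [O^p(H), Y] and O^p(H) is contained in the normal closure of Y in H. -/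
theorem result {H : Type*} [Group H] [Finite H] {p : ℕ} [Fact p.Prime] (hH : Cfsg.IsPIrreducible p H) (T : Sylow p H) : Subgroup.normalClosure ((T : Subgroup H) : Set H) = ⊤ ∧ commutator H ⊔ (T : Subgroup H) = ⊤ ∧ Cfsg.pResidual p H ≤ commutator H ∧ ∀ Y : Subgroup H, Y ≤ (T : Subgroup H) → (T : Subgroup H) ≤ Subgroup.normalizer (Y : Set H) → ¬ Y ≤ Cfsg.pCore p H → ⁅Cfsg.pResidual p H, Y⁆ = Cfsg.pResidual p H ∧ Cfsg.pResidual p H ≤ Subgroup.normalClosure (Y : Set H) := by
  obtain ⟨hnc, hirr⟩ := hH
  have hTn : ¬ (T : Subgroup H).Normal := fun hn => hnc (isPClosed_of_sylow_normal T hn)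
  have hRT : pResidual p H ⊔ (T : Subgroup H) = ⊤ := pResidual_sup_sylow T
  have key : ∀ N : Subgroup H, N.Normal → (T : Subgroup H) ≤ N → N = ⊤ := by
    intro N hN hTN
    have h1 : ¬ IsPClosed p ↥N := fun hc => hTn (sylow_normal_of_le_of_isPClosed T hN hTN hc)
    have h2 := hirr N hN h1
    rw [eq_top_iff, ← hRT]; exact sup_le h2 hTN
  have h1 : Subgroup.normalClosure ((T : Subgroup H) : Set H) = ⊤ :=
    key _ Subgroup.normalClosure_normal Subgroup.le_normalClosure
  have h2 : commutator H ⊔ (T : Subgroup H) = ⊤ :=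
    key _ (normal_of_commutator_le le_sup_left) le_sup_right
  have h3 : pResidual p H ≤ commutator H :=
    pResidual_le_of_sup_eq_top inferInstance T.isPGroup' h2
  refine ⟨h1, h2, h3, ?_⟩
  intro Y hYT hTY hYcore
  have hK : pResidual p H ≤ Subgroup.normalClosure (Y : Set H) := by
    apply hirr _ Subgroup.normalClosure_normal
    intro hc
    apply hYcore
    obtain ⟨S, hS, hYS⟩ := exists_isSylowIn_ge (p := p) (R₀ := Y)
      (K := Subgroup.normalClosure (Y : Set H)) (T.isPGroup'.to_le hYT) Subgroup.le_normalClosure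
    have hSn : S.Normal :=
      hS.normal_of_normal Subgroup.normalClosure_normal ((isPClosed_subgroup_iff hS).mp hc)
    exact hYS.trans (le_pCore hSn hS.2.1)
  refine ⟨?_, hK⟩
  apply le_antisymm
  · exact Subgroup.commutator_le_left _ _
  · have hYN : Y ≤ Subgroup.normalizer ((⁅pResidual p H, Y⁆ : Subgroup H) : Set H) :=
      le_normalizer_commutator_right _ _
    have hRN : pResidual p H ≤ Subgroup.normalizer ((⁅pResidual p H, Y⁆ : Subgroup H) : Set H) :=
      le_normalizer_commutator_left _ _
    have hTcomm : (T : Subgroup H) ≤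
        Subgroup.normalizer ((⁅pResidual p H, Y⁆ : Subgroup H) : Set H) :=
      (le_inf (le_normalizer_of_normal inferInstance _) hTY).trans
        (normalizer_inf_le_normalizer_commutator _ _)
    have hnorm : (Y ⊔ ⁅pResidual p H, Y⁆).Normal := by
      apply Subgroup.normalizer_eq_top_iff.mp
      rw [eq_top_iff, ← hRT]
      refine sup_le ?_ ?_
      · apply le_normalizer_of_forall_map_conj_le
        intro r hr
        rw [Subgroup.map_sup]
        refine sup_le ?_ ?_
        · rintro _ ⟨y, hy, rfl⟩
          have e : (MulAut.conj r).toMonoidHom y = ⁅r, y⁆ * y := by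
            simp [commutatorElement_def]
          rw [e]
          exact Subgroup.mul_mem _
            (Subgroup.mem_sup_right (Subgroup.commutator_mem_commutator hr hy))
            (Subgroup.mem_sup_left hy)
        · rw [map_conj_eq_of_mem_normalizer _ (hRN hr)]; exact le_sup_right
      · exact (le_inf hTY hTcomm).trans (normalizer_inf_le_normalizer_sup _ _)
    have hKle : Subgroup.normalClosure (Y : Set H) ≤ Y ⊔ ⁅pResidual p H, Y⁆ :=
      Subgroup.normalClosure_le_normal (SetLike.coe_subset_coe.mpr le_sup_left)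
    calc pResidual p H = pResOf p (pResOf p (⊤ : Subgroup H)) := by
          rw [Cfsg.Agent.S2820.pResOf_idem, pResOf_top]
      _ ≤ pResOf p (Y ⊔ ⁅pResidual p H, Y⁆) :=
          pResOf_mono p (by rw [pResOf_top]; exact hK.trans hKle)
      _ ≤ ⁅pResidual p H, Y⁆ := Cfsg.Agent.S2820.pResOf_sup_le (T.isPGroup'.to_le hYT) hYN

end Cfsg.Agent.S2827
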