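import Cfsg.Statements.S2828
import Cfsg.Agent.Lib.Helper18.PClosed

set_option autoImplicit false
open Cfsg

namespace Cfsg.Agent.S2828

open Cfsg.Agent.Lib.Helper18
open scoped commutatorElement


/-- Let H be a finite group, p a prime and D a normal p-subgroup of H. Then H is p-irreducible if and only if H/D is p-irreducible, and H is strongly p-irreducible if and only if H/D is strongly p-irreducible. -/
theorem result {H : Type*} [Group H] [Finite H] {p : ℕ} [Fact p.Prime] (D : Subgroup H) [D.Normal] (hD : IsPGroup p ↥D) : (Cfsg.IsPIrreducible p H ↔ Cfsg.IsPIrreducible p (H ⧸ D)) ∧ (Cfsg.IsStronglyPIrreducible p H ↔ Cfsg.IsStronglyPIrreducible p (H ⧸ D)) := by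
  have hπ : Function.Surjective (QuotientGroup.mk' D) := QuotientGroup.mk'_surjective D
  have hDn : D.Normal := inferInstance
  have hmaptop : (⊤ : Subgroup H).map (QuotientGroup.mk' D) = ⊤ := by
    rw [← MonoidHom.range_eq_map, MonoidHom.range_eq_top.mpr hπ]
  have hcl : IsPClosed p H ↔ IsPClosed p (H ⧸ D) := by
    rw [isPClosed_iff_pClosedIn_top, isPClosed_iff_pClosedIn_top,
      ← pClosedIn_comap_iff D hD ⊤, Subgroup.comap_top]
  -- transfer of "not p-closed" along preimages and images
  have hpre : ∀ N : Subgroup (H ⧸ D), ¬ IsPClosed p ↥N →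
      ¬ IsPClosed p ↥(N.comap (QuotientGroup.mk' D)) := by
    intro N hN hc
    apply hN
    rw [isPClosed_subgroup_iff_pClosedIn] at hc ⊢
    exact (pClosedIn_comap_iff D hD N).mp hc
  have himg : ∀ N : Subgroup H, ¬ IsPClosed p ↥N →
      ¬ IsPClosed p ↥(N.map (QuotientGroup.mk' D)) := by
    intro N hN hc
    apply hN
    rw [isPClosed_subgroup_iff_pClosedIn] at hc ⊢
    have h1 := (pClosedIn_comap_iff D hD _).mpr hc
    rw [Subgroup.comap_map_eq, QuotientGroup.ker_mk'] at h1
    exact pClosedIn_of_le h1 le_sup_left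
  -- conclusion transfer
  have hres1 : ∀ N : Subgroup (H ⧸ D),
      pResidual p H ≤ N.comap (QuotientGroup.mk' D) → pResidual p (H ⧸ D) ≤ N := by
    intro N h
    rw [← map_pResidual_mk D]
    exact Subgroup.map_le_iff_le_comap.mpr h
  have hres2 : ∀ N : Subgroup H, N.Normal →
      pResidual p (H ⧸ D) ≤ N.map (QuotientGroup.mk' D) → pResidual p H ≤ N := by
    intro N hN h
    rw [← map_pResidual_mk D, Subgroup.map_le_map_iff, QuotientGroup.ker_mk'] at h
    exact pResidual_le_of_le_sup hN hD h
  have hDcore : D ≤ pCore p H := le_pCore hDn hD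
  constructor
  · constructor
    · rintro ⟨hnc, hirr⟩
      refine ⟨fun hc => hnc (hcl.mpr hc), fun N hN hNc => ?_⟩
      exact hres1 N (hirr _ (hN.comap _) (hpre N hNc))
    · rintro ⟨hnc, hirr⟩
      refine ⟨fun hc => hnc (hcl.mp hc), fun N hN hNc => ?_⟩
      exact hres2 N hN (hirr _ (hN.map _ hπ) (himg N hNc))
  · constructor
    · rintro ⟨hnc, hs⟩
      refine ⟨fun hc => hnc (hcl.mpr hc), fun N hN hNc => ?_⟩
      apply hres1 N
      apply hs _ (hN.comap _)
      intro hle
      apply hNc
      have h1 := Subgroup.map_mono (f := QuotientGroup.mk' D) hle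
      rw [Subgroup.map_commutator, Subgroup.map_comap_eq_self_of_surjective hπ, hmaptop,
        map_pCore_mk D hD] at h1
      exact h1
    · rintro ⟨hnc, hs⟩
      refine ⟨fun hc => hnc (hcl.mp hc), fun N hN hNc => ?_⟩
      apply hres2 N hN
      apply hs _ (hN.map _ hπ)
      intro hle
      apply hNc
      rw [← hmaptop, ← Subgroup.map_commutator, ← map_pCore_mk D hD, Subgroup.map_le_map_iff,
        QuotientGroup.ker_mk', sup_of_le_left hDcore] at hle
      exact hle

end Cfsg.Agent.S2828
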