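import Cfsg.Statements.S2829
import Cfsg.Agent.Lib.Helper18.PIrr

set_option autoImplicit false
open Cfsg

namespace Cfsg.Agent.S2829

open Cfsg.Agent.Lib.Helper18
open scoped commutatorElement


/-- Every strongly p-irreducible finite group is p-irreducible. -/
theorem result {H : Type*} [Group H] [Finite H] {p : ℕ} [Fact p.Prime] (hH : Cfsg.IsStronglyPIrreducible p H) : Cfsg.IsPIrreducible p H := by
  obtain ⟨h1, h2⟩ := hH
  refine ⟨h1, fun N hN hNc => h2 N hN ?_⟩
  intro hcomm
  apply hNc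
  obtain ⟨R, hR, -⟩ := exists_isSylowIn_ge (p := p) (R₀ := ⊥) (K := N) IsPGroup.of_bot bot_le
  rw [isPClosed_subgroup_iff hR]
  have hQ : pCore p H ⊓ N ≤ R := by
    refine hR.le_of_normal ((pCore_isPGroup p H).to_le inf_le_left) inf_le_right ?_
    refine le_trans ?_ (normalizer_inf_le _ _)
    exact le_inf (le_normalizer_of_normal (pCore_normal p H) N) Subgroup.le_normalizer
  apply le_normalizer_of_forall_map_conj_le
  rintro n hn _ ⟨r, hr, rfl⟩
  have e : (MulAut.conj n).toMonoidHom r = ⁅n, r⁆ * r := by simp [commutatorElement_def]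
  rw [e]
  refine R.mul_mem (hQ (Subgroup.mem_inf.mpr
    ⟨hcomm (Subgroup.commutator_mem_commutator hn (Subgroup.mem_top r)), ?_⟩)) hr
  rw [commutatorElement_def]
  exact N.mul_mem (N.mul_mem (N.mul_mem hn (hR.1 hr)) (N.inv_mem hn)) (N.inv_mem (hR.1 hr))

end Cfsg.Agent.S2829
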