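import Cfsg.Statements.S2830
import Cfsg.Agent.Lib.Helper18.PClosed2
import Cfsg.Agent.Lib.Helper17.PReduced

set_option autoImplicit false
open Cfsg

namespace Cfsg.Agent.S2830

open Cfsg.Agent.Lib.Helper18

theorem aux {G : Type*} [Group G] [Finite G] {p : ℕ} [Fact p.Prime] (C H : Subgroup G)
    (hHC : H ≤ Subgroup.normalizer (C : Set G)) (hH : Cfsg.IsPIrreducible p ↥H)
    (hnc : ¬ (Cfsg.pResidual p ↥H).map H.subtype ≤ C) [hn : (C.subgroupOf H).Normal] :
    Cfsg.IsPClosed p ↥(H ⊓ C) ∧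
    (∀ T : Subgroup G, T ≤ H → IsPGroup p ↥T → T ⊓ C ≤ Cfsg.pCoreOf p H) ∧
    (Cfsg.pCoreOf p H ≤ C →
      (∀ T : Subgroup G, T ≤ H → IsPGroup p ↥T → T ⊓ C = T ⊓ Cfsg.pCoreOf p H) ∧
      Cfsg.pCore p (↥H ⧸ C.subgroupOf H) = ⊥) := by
  have hres : ¬ Cfsg.pResidual p ↥H ≤ C.subgroupOf H := by
    intro h
    apply hnc
    rintro _ ⟨y, hy, rfl⟩
    exact h hy
  have hcl' : IsPClosed p ↥(C.subgroupOf H) := by
    by_contra h
    exact hres (hH.2 _ hn h)
  have hcl : PClosedIn p (H ⊓ C) := by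
    have h1 := pClosedIn_map_subtype H _ ((isPClosed_subgroup_iff_pClosedIn _).mp hcl')
    rwa [Subgroup.subgroupOf_map_subtype, inf_comm] at h1
  have hHHC : H ≤ Subgroup.normalizer ((H ⊓ C : Subgroup G) : Set G) :=
    (le_inf Subgroup.le_normalizer hHC).trans (normalizer_inf_le _ _)
  obtain ⟨R, hRle, hR, hRH, hel⟩ := hcl.exists_normalized hHHC
  have hRcore : R ≤ pCoreOf p H := le_pCoreOf (hRle.trans inf_le_left) hRH hR
  have part2 : ∀ T : Subgroup G, T ≤ H → IsPGroup p ↥T → T ⊓ C ≤ pCoreOf p H := by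
    intro T hTH hT x hx
    apply hRcore
    apply hel x ⟨hTH hx.1, hx.2⟩
    obtain ⟨k, hk⟩ := hT ⟨x, hx.1⟩
    exact ⟨k, congrArg Subtype.val hk⟩
  refine ⟨(isPClosed_subgroup_iff_pClosedIn (H ⊓ C)).mpr hcl, part2, ?_⟩
  intro hcore
  refine ⟨fun T hTH hT => le_antisymm (le_inf inf_le_left (part2 T hTH hT))
    (inf_le_inf_left _ hcore), ?_⟩
  apply Cfsg.Agent.Lib.Helper17.pCore_quot_eq_bot_of
  intro D hD hCD hDp
  by_cases hDc : IsPClosed p ↥D
  · obtain ⟨R', hR'le, hR', hR'n, hel'⟩ :=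
      ((isPClosed_subgroup_iff_pClosedIn D).mp hDc).exists_normal hD
    have hR'core : R' ≤ pCore p ↥H := le_pCore hR'n hR'
    have hR'C : R' ≤ C.subgroupOf H := by
      intro y hy
      exact hcore ⟨y, hR'core hy, rfl⟩
    intro d hd
    obtain ⟨k, hk⟩ := hDp d hd
    exact mem_of_pow_mem_of_pElements_mem hd (fun x hx hxp => hR'C (hel' x hx hxp)) hk
  · have h1 := hH.2 D hD hDc
    exfalso; apply hres
    rw [pResidual, Subgroup.closure_le]
    intro g hg
    obtain ⟨k, hk⟩ := hDp g (h1 (Subgroup.subset_closure hg))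
    exact mem_of_pow_mem_of_coprime hk hg

/-- Let H act by conjugation on the elementary abelian p-subgroup V of a finite group G (H ≤ N(V)), with H p-irreducible and O^p(H) not centralizing V. Then C_H(V) is p-closed and C_T(V) ≤ O_p(H) for every p-subgroup T of H. If in addition O_p(H) centralizes V, then C_T(V) = T ∩ O_p(H) for every p-subgroup T of H, and V is p-reduced for H: O_p(H/C_H(V)) = 1. -/
theorem result {G : Type*} [Group G] [Finite G] {p : ℕ} [Fact p.Prime] (V H : Subgroup G) (hV : Cfsg.IsElementaryAbelian p V) (hHV : H ≤ Subgroup.normalizer (V : Set G)) (hH : Cfsg.IsPIrreducible p ↥H) (hnc : ¬ (Cfsg.pResidual p ↥H).map H.subtype ≤ Subgroup.centralizer (V : Set G)) [hn : ((Subgroup.centralizer (V : Set G)).subgroupOf H).Normal] : Cfsg.IsPClosed p ↥(H ⊓ Subgroup.centralizer (V : Set G)) ∧ (∀ T : Subgroup G, T ≤ H → IsPGroup p ↥T → T ⊓ Subgroup.centralizer (V : Set G) ≤ Cfsg.pCoreOf p H) ∧ (Cfsg.pCoreOf p H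 ≤ Subgroup.centralizer (V : Set G) → (∀ T : Subgroup G, T ≤ H → IsPGroup p ↥T → T ⊓ Subgroup.centralizer (V : Set G) = T ⊓ Cfsg.pCoreOf p H) ∧ Cfsg.pCore p (↥H ⧸ (Subgroup.centralizer (V : Set G)).subgroupOf H) = ⊥) := by
  exact aux (Subgroup.centralizer (V : Set G)) H
    (hHV.trans (normalizer_le_normalizer_centralizer V)) hH hnc

end Cfsg.Agent.S2830
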