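import Cfsg.Statements.S2831
import Cfsg.Agent.Lib.Helper18.PIrr

set_option autoImplicit false
open Cfsg

namespace Cfsg.Agent.S2831

open Cfsg.Agent.Lib.Helper18


/-- Let H be a finite group with Sylow p-subgroup T such that H is T-minimal (H is generated by the conjugates of T and T lies in exactly one maximal subgroup of H). Then H is p-irreducible: H is not p-closed and O^p(H) lies in every normal subgroup of H that is not p-closed. -/
theorem result {H : Type*} [Group H] [Finite H] {p : ℕ} [Fact p.Prime] (T : Sylow p H) (hmin : Cfsg.IsMinimalOver (T : Subgroup H)) : Cfsg.IsPIrreducible p H := by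
  obtain ⟨hcl, M, ⟨hM, hTM⟩, huniq⟩ := hmin
  have hle : ∀ K : Subgroup H, (T : Subgroup H) ≤ K → K ≠ ⊤ → K ≤ M := by
    intro K hTK hK
    obtain ⟨M', hM', hKM'⟩ := (eq_top_or_exists_le_coatom K).resolve_left hK
    have h1 := huniq M' ⟨hM', hTK.trans hKM'⟩
    rw [← h1]; exact hKM'
  have hTn : ¬ (T : Subgroup H).Normal := by
    intro hn
    have h1 : Subgroup.normalClosure ((T : Subgroup H) : Set H) = T :=
      Subgroup.normalClosure_eq_self _
    rw [h1] at hcl
    exact hM.1 (top_le_iff.mp (hcl ▸ hTM))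
  refine ⟨fun hc => hTn (hc T), ?_⟩
  intro N hN hNc
  by_cases hNT : N ⊔ (T : Subgroup H) = ⊤
  · exact pResidual_le_of_sup_eq_top hN T.isPGroup' hNT
  · exfalso
    apply hNc
    have hNM : N ≤ M := le_sup_left.trans (hle _ le_sup_right hNT)
    have hTN : (T : Subgroup H) ≤ Subgroup.normalizer (N : Set H) := le_normalizer_of_normal hN _
    have hS := isSylowIn_inf_of_le_normalizer T hTN
    rw [isPClosed_subgroup_iff hS]
    have hTK : (T : Subgroup H) ≤
        Subgroup.normalizer (((T : Subgroup H) ⊓ N : Subgroup H) : Set H) :=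
      (le_inf Subgroup.le_normalizer hTN).trans (normalizer_inf_le _ _)
    by_contra hcon
    have hK : Subgroup.normalizer (((T : Subgroup H) ⊓ N : Subgroup H) : Set H) ≠ ⊤ :=
      fun e => hcon (e ▸ le_top)
    have hKM := hle _ hTK hK
    obtain ⟨S, hSe⟩ := hS.exists_sylow
    have := hN
    have hfr := Sylow.normalizer_sup_eq_top S
    rw [hSe] at hfr
    exact hM.1 (top_le_iff.mp (hfr ▸ sup_le hKM hNM))

end Cfsg.Agent.S2831
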