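import Cfsg.Statements.S2832
import Cfsg.Agent.Lib.Helper18.PIrr

set_option autoImplicit false
open Cfsg

namespace Cfsg.Agent.S2832

open Cfsg.Agent.Lib.Helper18


/-- Let H be a finite group with Sylow p-subgroup T such that H is T-minimal (generated by the conjugates of T, with T in exactly one maximal subgroup), and let N be a normal subgroup of H. Then either H/N is a p-group or H/N is minimal over the image of T in the same sense. -/
theorem result {H : Type*} [Group H] [Finite H] {p : ℕ} [Fact p.Prime] (T : Sylow p H) (hmin : Cfsg.IsMinimalOver (T : Subgroup H)) (N : Subgroup H) [N.Normal] : IsPGroup p (H ⧸ N) ∨ Cfsg.IsMinimalOver ((T : Subgroup H).map (QuotientGroup.mk' N)) := by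
  obtain ⟨hcl, M, ⟨hM, hTM⟩, huniq⟩ := hmin
  have hle : ∀ K : Subgroup H, (T : Subgroup H) ≤ K → K ≠ ⊤ → K ≤ M := by
    intro K hTK hK
    obtain ⟨M', hM', hKM'⟩ := (eq_top_or_exists_le_coatom K).resolve_left hK
    have h1 := huniq M' ⟨hM', hTK.trans hKM'⟩
    rw [← h1]; exact hKM'
  have hN : N.Normal := inferInstance
  by_cases hNT : N ⊔ (T : Subgroup H) = ⊤
  · left
    exact isPGroup_quotient_of_pResidual_le N (pResidual_le_of_sup_eq_top hN T.isPGroup' hNT)
  · right
    have hNM : N ≤ M := le_sup_left.trans (hle _ le_sup_right hNT)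
    have hπ : Function.Surjective (QuotientGroup.mk' N) := QuotientGroup.mk'_surjective N
    have hmaptop : (⊤ : Subgroup H).map (QuotientGroup.mk' N) = ⊤ := by
      rw [← MonoidHom.range_eq_map, MonoidHom.range_eq_top.mpr hπ]
    have hcm : (M.map (QuotientGroup.mk' N)).comap (QuotientGroup.mk' N) = M := by
      rw [Subgroup.comap_map_eq, QuotientGroup.ker_mk', sup_of_le_left hNM]
    refine ⟨?_, M.map (QuotientGroup.mk' N), ⟨?_, Subgroup.map_mono hTM⟩, ?_⟩
    · have h1 := Subgroup.map_normalClosure ((T : Subgroup H) : Set H) (QuotientGroup.mk' N) hπ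
      rw [hcl, hmaptop] at h1
      rw [Subgroup.coe_map]
      exact h1.symm
    · constructor
      · intro e
        rw [e, Subgroup.comap_top] at hcm
        exact hM.1 hcm.symm
      · intro K hK
        have h1 : M < K.comap (QuotientGroup.mk' N) := by
          rw [← hcm]
          exact (Subgroup.comap_lt_comap_of_surjective hπ).mpr hK
        have h2 := hM.2 _ h1
        rw [← Subgroup.map_comap_eq_self_of_surjective hπ K, h2, hmaptop]
    · rintro K ⟨hK, hTK⟩
      have hc : IsCoatom (K.comap (QuotientGroup.mk' N)) :=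
        Subgroup.isCoatom_comap_of_surjective hπ hK
      have hTc : (T : Subgroup H) ≤ K.comap (QuotientGroup.mk' N) :=
        Subgroup.map_le_iff_le_comap.mp hTK
      have h3 := huniq _ ⟨hc, hTc⟩
      rw [← h3, Subgroup.map_comap_eq_self_of_surjective hπ]

end Cfsg.Agent.S2832
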