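import Cfsg.Statements.S2833
import Cfsg.Agent.Lib.Helper18.Basic
import Cfsg.Agent.Lib.Helper18.Subnormal

set_option autoImplicit false
open Cfsg

namespace Cfsg.Agent.S2833

open Cfsg.Agent.Lib.Helper18
open scoped commutatorElement

/-- `[V, X ⊔ X'] ≤ N` when `N` is normalised by `X`, `X'` and contains `[V, X]`, `[V, X']`. -/
theorem commutator_sup_le {G : Type*} [Group G] {V X X' N : Subgroup G}
    (hX : X ≤ Subgroup.normalizer (N : Set G)) (hX' : X' ≤ Subgroup.normalizer (N : Set G))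
    (h1 : ⁅V, X⁆ ≤ N) (h2 : ⁅V, X'⁆ ≤ N) : ⁅V, X ⊔ X'⁆ ≤ N := by
  let K : Subgroup G :=
    { carrier := {l | l ∈ Subgroup.normalizer (N : Set G) ∧ ∀ v ∈ V, ⁅v, l⁆ ∈ N}
      mul_mem' := by
        rintro l l' ⟨hl, hlv⟩ ⟨hl', hlv'⟩
        refine ⟨Subgroup.mul_mem _ hl hl', fun v hv => ?_⟩
        have e : ⁅v, l * l'⁆ = ⁅v, l⁆ * (l * ⁅v, l'⁆ * l⁻¹) := by
          simp only [commutatorElement_def]; group
        rw [e]
        exact N.mul_mem (hlv v hv) ((Subgroup.mem_normalizer_iff.mp hl _).mp (hlv' v hv))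
      one_mem' := ⟨Subgroup.one_mem _, fun v _ => by
        simp only [commutatorElement_def]; simp⟩
      inv_mem' := by
        rintro l ⟨hl, hlv⟩
        refine ⟨Subgroup.inv_mem _ hl, fun v hv => ?_⟩
        have e : ⁅v, l⁻¹⁆ = l⁻¹ * (⁅v, l⁆)⁻¹ * l⁻¹⁻¹ := by
          simp only [commutatorElement_def]; group
        rw [e]
        exact (Subgroup.mem_normalizer_iff.mp (Subgroup.inv_mem _ hl) _).mp
          (N.inv_mem (hlv v hv)) }
  have hXK : X ≤ K := fun x hx =>
    ⟨hX hx, fun v hv => h1 (Subgroup.commutator_mem_commutator hv hx)⟩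
  have hX'K : X' ≤ K := fun x hx =>
    ⟨hX' hx, fun v hv => h2 (Subgroup.commutator_mem_commutator hv hx)⟩
  rw [Subgroup.commutator_le]
  intro v hv l hl
  exact ((sup_le hXK hX'K) hl).2 v hv


/-- Let V be a subgroup of a finite group G normalized by the subgroup L, let X ≤ L and g ∈ L with [V, X, X] = 1 and L generated by X and gXg⁻¹. Put W = [V, L]. Then W = [V, X]·[V, gXg⁻¹], C_W(X) = [V, X], and C_W(L) = [V, X] ∩ [V, gXg⁻¹]. -/
theorem result {G : Type*} [Group G] [Finite G] (V L : Subgroup G) (hLV : L ≤ Subgroup.normalizer (V : Set G)) (X : Subgroup G) (hX : X ≤ L) (g : G) (hg : g ∈ L) (hq : ⁅⁅V, X⁆, X⁆ = ⊥) (hgen : X ⊔ X.map (MulAut.conj g).toMonoidHom = L) (W : Subgroup G) (hW : W = ⁅V, L⁆) : ⁅V, X⁆ ⊔ ⁅V, X.map (MulAut.conj g).toMonoidHom⁆ = W ∧ W ⊓ Subgroup.centralizer (X : Set G) = ⁅V, X⁆ ∧ W ⊓ Subgroup.centralizer (L : Set G) = ⁅V, X⁆ ⊓ ⁅V, X.map (MulAut.conj g).toMonoidHom⁆ := by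
  subst hW
  have hVg : V.map (MulAut.conj g).toMonoidHom = V := map_conj_eq_of_mem_normalizer V (hLV hg)
  have hB : ⁅V, X.map (MulAut.conj g).toMonoidHom⁆ = (⁅V, X⁆).map (MulAut.conj g).toMonoidHom := by
    rw [Subgroup.map_commutator, hVg]
  have hX'L : X.map (MulAut.conj g).toMonoidHom ≤ L := by
    rw [← hgen]; exact le_sup_right
  have hAV : ⁅V, X⁆ ≤ V := commutator_le_of_le_normalizer' (hX.trans hLV)
  have hBV : ⁅V, X.map (MulAut.conj g).toMonoidHom⁆ ≤ V :=
    commutator_le_of_le_normalizer' (hX'L.trans hLV)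
  have hAc : ⁅V, X⁆ ≤ Subgroup.centralizer (X : Set G) :=
    Subgroup.commutator_eq_bot_iff_le_centralizer.mp hq
  have hBc : ⁅V, X.map (MulAut.conj g).toMonoidHom⁆ ≤
      Subgroup.centralizer ((X.map (MulAut.conj g).toMonoidHom : Subgroup G) : Set G) := by
    rw [hB]
    rintro _ ⟨a, ha, rfl⟩
    rw [Subgroup.mem_centralizer_iff]
    rintro _ ⟨x, hx, rfl⟩
    have h1 := Subgroup.mem_centralizer_iff.mp (hAc ha) x hx
    simp only [MulEquiv.coe_toMonoidHom, MulAut.conj_apply]
    calc g * x * g⁻¹ * (g * a * g⁻¹) = g * (x * a) * g⁻¹ := by group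
      _ = g * (a * x) * g⁻¹ := by rw [h1]
      _ = g * a * g⁻¹ * (g * x * g⁻¹) := by group
  -- `X` normalises `A ⊔ B`
  have hXN : X ≤ Subgroup.normalizer
      ((⁅V, X⁆ ⊔ ⁅V, X.map (MulAut.conj g).toMonoidHom⁆ : Subgroup G) : Set G) := by
    apply le_normalizer_of_forall_map_conj_le
    intro x hx
    rw [Subgroup.map_sup]
    refine sup_le ?_ ?_
    · rintro _ ⟨a, ha, rfl⟩
      have h1 := Subgroup.mem_centralizer_iff.mp (hAc ha) x hx
      have e : (MulAut.conj x).toMonoidHom a = a := by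
        simp only [MulEquiv.coe_toMonoidHom, MulAut.conj_apply]
        rw [h1]; group
      rw [e]; exact Subgroup.mem_sup_left ha
    · rintro _ ⟨b, hb, rfl⟩
      have e : (MulAut.conj x).toMonoidHom b = (⁅b, x⁆)⁻¹ * b := by
        simp only [MulEquiv.coe_toMonoidHom, MulAut.conj_apply, commutatorElement_def]; group
      rw [e]
      exact Subgroup.mul_mem _
        (Subgroup.mem_sup_left (Subgroup.inv_mem _ (Subgroup.commutator_mem_commutator (hBV hb) hx)))
        (Subgroup.mem_sup_right hb)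
  have hX'N : X.map (MulAut.conj g).toMonoidHom ≤ Subgroup.normalizer
      ((⁅V, X⁆ ⊔ ⁅V, X.map (MulAut.conj g).toMonoidHom⁆ : Subgroup G) : Set G) := by
    apply le_normalizer_of_forall_map_conj_le
    intro x hx
    rw [Subgroup.map_sup]
    refine sup_le ?_ ?_
    · rintro _ ⟨a, ha, rfl⟩
      have e : (MulAut.conj x).toMonoidHom a = (⁅a, x⁆)⁻¹ * a := by
        simp only [MulEquiv.coe_toMonoidHom, MulAut.conj_apply, commutatorElement_def]; group
      rw [e]
      exact Subgroup.mul_mem _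
        (Subgroup.mem_sup_right (Subgroup.inv_mem _ (Subgroup.commutator_mem_commutator (hAV ha) hx)))
        (Subgroup.mem_sup_left ha)
    · rintro _ ⟨b, hb, rfl⟩
      have h1 := Subgroup.mem_centralizer_iff.mp (hBc hb) x hx
      have e : (MulAut.conj x).toMonoidHom b = b := by
        simp only [MulEquiv.coe_toMonoidHom, MulAut.conj_apply]
        rw [h1]; group
      rw [e]; exact Subgroup.mem_sup_right hb
  have hc1 : ⁅V, X⁆ ⊔ ⁅V, X.map (MulAut.conj g).toMonoidHom⁆ = ⁅V, L⁆ := by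
    apply le_antisymm
    · exact sup_le (Subgroup.commutator_mono le_rfl hX) (Subgroup.commutator_mono le_rfl hX'L)
    · rw [← hgen]
      exact commutator_sup_le hXN hX'N le_sup_left le_sup_right
  -- elements of `B` centralised by `X` lie in `A`
  have hkey : ∀ b ∈ ⁅V, X.map (MulAut.conj g).toMonoidHom⁆,
      b ∈ Subgroup.centralizer (X : Set G) → b ∈ ⁅V, X⁆ := by
    intro b hb hbX
    have hbL : b ∈ Subgroup.centralizer (L : Set G) := by
      have h1 : X ⊔ X.map (MulAut.conj g).toMonoidHom ≤ Subgroup.centralizer ({b} : Set G) := by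
        refine sup_le ?_ ?_
        · intro x hx
          rw [Subgroup.mem_centralizer_iff]
          intro u hu
          rw [Set.mem_singleton_iff] at hu; subst hu
          exact (Subgroup.mem_centralizer_iff.mp hbX x hx).symm
        · intro x hx
          rw [Subgroup.mem_centralizer_iff]
          intro u hu
          rw [Set.mem_singleton_iff] at hu; subst hu
          exact (Subgroup.mem_centralizer_iff.mp (hBc hb) x hx).symm
      rw [hgen] at h1
      rw [Subgroup.mem_centralizer_iff]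
      intro l hl
      exact (Subgroup.mem_centralizer_iff.mp (h1 hl) b (Set.mem_singleton b)).symm
    rw [hB, mem_map_conj_iff] at hb
    have h2 := Subgroup.mem_centralizer_iff.mp hbL g hg
    have e : g⁻¹ * b * g = b := by rw [mul_assoc, ← h2]; group
    rwa [e] at hb
  have hc2 : ⁅V, L⁆ ⊓ Subgroup.centralizer (X : Set G) = ⁅V, X⁆ := by
    apply le_antisymm
    · rintro w ⟨hw, hwX⟩
      rw [← hc1] at hw
      have hAN : ⁅V, X⁆ ≤ Subgroup.normalizer
          ((⁅V, X.map (MulAut.conj g).toMonoidHom⁆ : Subgroup G) : Set G) :=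
        hAV.trans (le_normalizer_commutator_left V _)
      obtain ⟨a, ha, b, hb, rfl⟩ := mem_sup_of_le_normalizer hAN hw
      have hbX : b ∈ Subgroup.centralizer (X : Set G) := by
        have e : b = a⁻¹ * (a * b) := by group
        rw [e]
        exact Subgroup.mul_mem _ (Subgroup.inv_mem _ (hAc ha)) hwX
      exact Subgroup.mul_mem _ ha (hkey b hb hbX)
    · exact le_inf (Subgroup.commutator_mono le_rfl hX) hAc
  refine ⟨hc1, hc2, ?_⟩
  apply le_antisymm
  · rintro w ⟨hw, hwL⟩
    have hwX : w ∈ Subgroup.centralizer (X : Set G) :=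
      Subgroup.centralizer_le (SetLike.coe_subset_coe.mpr hX) hwL
    have hwA : w ∈ ⁅V, X⁆ := by
      rw [← hc2]; exact ⟨hw, hwX⟩
    refine Subgroup.mem_inf.mpr ⟨hwA, ?_⟩
    rw [hB, mem_map_conj_iff]
    have h2 := Subgroup.mem_centralizer_iff.mp hwL g hg
    have e : g⁻¹ * w * g = w := by rw [mul_assoc, ← h2]; group
    rw [e]; exact hwA
  · refine le_inf (inf_le_left.trans (Subgroup.commutator_mono le_rfl hX)) ?_
    intro w hw
    have h1 : X ⊔ X.map (MulAut.conj g).toMonoidHom ≤ Subgroup.centralizer ({w} : Set G) := by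
      refine sup_le ?_ ?_
      · intro x hx
        rw [Subgroup.mem_centralizer_iff]
        intro u hu
        rw [Set.mem_singleton_iff] at hu; subst hu
        exact (Subgroup.mem_centralizer_iff.mp (hAc hw.1) x hx).symm
      · intro x hx
        rw [Subgroup.mem_centralizer_iff]
        intro u hu
        rw [Set.mem_singleton_iff] at hu; subst hu
        exact (Subgroup.mem_centralizer_iff.mp (hBc hw.2) x hx).symm
    rw [hgen] at h1
    rw [Subgroup.mem_centralizer_iff]
    intro l hl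
    exact (Subgroup.mem_centralizer_iff.mp (h1 hl) w (Set.mem_singleton w)).symm

end Cfsg.Agent.S2833
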