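import Cfsg.Statements.S2834
import Cfsg.Agent.Lib.Helper18.LLemma
import Cfsg.Agent.Lib.Helper18.YL

set_option autoImplicit false
open Cfsg

namespace Cfsg.Agent.S2834

open Cfsg.Agent.Lib.Helper18


/-- The L-Lemma: let H be a finite group with Sylow p-subgroup T such that H is T-minimal (generated by the conjugates of T, T in exactly one maximal subgroup M), and let A ≤ T with A not contained in O_p(H). Then there is a subgroup L of H containing A·O_p(H) such that (a) A·O_p(L) lies in exactly one maximal subgroup L₀ of L, and L₀ = L ∩ gMg⁻¹ for some g ∈ H; (b) L = ⟨A, xAx⁻¹⟩·O_p(L) for every x ∈ L outside L₀. -/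
theorem result {H : Type*} [Group H] [Finite H] {p : ℕ} [Fact p.Prime] (T : Sylow p H) (hmin : Cfsg.IsMinimalOver (T : Subgroup H)) (M : Subgroup H) (hM : IsCoatom M ∧ (T : Subgroup H) ≤ M) (A : Subgroup H) (hAT : A ≤ (T : Subgroup H)) (hA : ¬ A ≤ Cfsg.pCore p H) : ∃ L : Subgroup H, A ⊔ Cfsg.pCore p H ≤ L ∧ ∃ L₀ : Subgroup H, A ⊔ (Cfsg.pCoreOf p L) ≤ L₀ ∧ L₀ < L ∧ (∀ X : Subgroup H, A ⊔ (Cfsg.pCoreOf p L) ≤ X → X < L → X ≤ L₀) ∧ (∃ g : H, L₀ = L ⊓ ((M : Subgroup H).map (MulAut.conj (g : H)).toMonoidHom)) ∧ ∀ x ∈ L, x ∉ L₀ → (A ⊔ ((A : Subgroup H).map (MulAut.conj (x : H)).toMonoidHom)) ⊔ (Cfsg.pCoreOf p L) = L := by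
  classical
  obtain ⟨hnc, M', hM', huniq⟩ := hmin
  have hMu : ∀ M'' : Subgroup H, IsCoatom M'' → (T : Subgroup H) ≤ M'' → M'' = M := by
    intro M'' h1 h2
    rw [huniq M'' ⟨h1, h2⟩, huniq M hM]
  have hmax : ∀ X : Subgroup H, (T : Subgroup H) ≤ X → X ≠ ⊤ → X ≤ M := by
    intro X hTX hX
    rcases eq_top_or_exists_le_coatom X with h | ⟨M'', hM'', hXM⟩
    · exact absurd h hX
    · rw [← hMu M'' hM'' (hTX.trans hXM)]; exact hXM
  have hMnn : ¬ (⊤ : Subgroup H) ≤ Subgroup.normalizer (M : Set H) := by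
    intro h
    have hMn : M.Normal := Subgroup.normalizer_eq_top_iff.mp (top_le_iff.mp h)
    have h1 : Subgroup.normalClosure ((T : Subgroup H) : Set H) ≤ M :=
      Subgroup.normalClosure_le_normal hM.2
    rw [hnc] at h1
    exact hM.1.1 (top_le_iff.mp h1)
  have hTW : TMinW p (⊤ : Subgroup H) M (T : Subgroup H) :=
    ⟨le_top, isSylowIn_of_sylow_le T le_top, hM.2, fun X hTX _ hX => hmax X hTX hX, hMnn⟩
  have hTM : TMin p (⊤ : Subgroup H) M := ⟨_, hTW⟩
  obtain ⟨O, hO⟩ : ∃ O, O = Cfsg.pCore p H := ⟨_, rfl⟩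
  have hOn : O.Normal := by rw [hO]; infer_instance
  have hOT : O ≤ (T : Subgroup H) := by rw [hO]; exact pCore_le_sylow T
  have hOp : IsPGroup p O := by rw [hO]; exact pCore_isPGroup p H
  have hOc : ∀ g : H, O ≤ (Subgroup.map (MulAut.conj g).toMonoidHom M) := by
    intro g
    have h1 : (Subgroup.map (MulAut.conj g).toMonoidHom O) = O := map_conj_eq_of_mem_normalizer O
      (by rw [Subgroup.normalizer_eq_top_iff.mpr hOn]; exact Subgroup.mem_top g)
    rw [← h1]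
    exact Subgroup.map_mono (hOT.trans hM.2)
  have hexA : ∃ g ∈ (⊤ : Subgroup H), ¬ A ≤ (Subgroup.map (MulAut.conj g).toMonoidHom M) := by
    by_contra hcon
    push Not at hcon
    have hcon' : ∀ g : H, A ≤ (Subgroup.map (MulAut.conj g).toMonoidHom M) := fun g => hcon g (Subgroup.mem_top g)
    apply hA
    have hK₁n : (M.normalCore).Normal := Subgroup.normalCore_normal M
    have hAK₁ : A ≤ M.normalCore := by
      intro a ha b
      have h1 := hcon' b⁻¹ ha
      rw [mem_map_conj_iff, inv_inv] at h1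
      exact h1
    have hTn : (T : Subgroup H) ≤ Subgroup.normalizer ((M.normalCore : Subgroup H) : Set H) := by
      rw [Subgroup.normalizer_eq_top_iff.mpr hK₁n]; exact le_top
    have hP := isSylowIn_inf_of_le_normalizer T hTn
    obtain ⟨P, hPe⟩ := hP.exists_sylow
    have hfr := Sylow.normalizer_sup_eq_top P
    rw [hPe] at hfr
    have hTN : (T : Subgroup H) ≤
        Subgroup.normalizer (((T : Subgroup H) ⊓ M.normalCore : Subgroup H) : Set H) :=
      (le_inf Subgroup.le_normalizer hTn).trans (normalizer_inf_le _ _)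
    have hNtop : Subgroup.normalizer (((T : Subgroup H) ⊓ M.normalCore : Subgroup H) : Set H)
        = ⊤ := by
      by_contra hne
      have h1 := hmax _ hTN hne
      have h2 : (⊤ : Subgroup H) ≤ M := by
        rw [← hfr]; exact sup_le h1 (Subgroup.normalCore_le M)
      exact hM.1.1 (top_le_iff.mp h2)
    have hPn : ((T : Subgroup H) ⊓ M.normalCore).Normal :=
      Subgroup.normalizer_eq_top_iff.mp hNtop
    exact (le_inf hAT hAK₁).trans (le_pCore hPn (T.isPGroup'.to_le inf_le_left))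
  have hAOp : IsPGroup p (A ⊔ O : Subgroup H) := T.isPGroup'.to_le (sup_le hAT hOT)
  have hexAO : ∃ g ∈ (⊤ : Subgroup H), ¬ (A ⊔ O) ≤ (Subgroup.map (MulAut.conj g).toMonoidHom M) := by
    obtain ⟨g, hg, hAg⟩ := hexA
    exact ⟨g, hg, fun h => hAg (le_sup_left.trans h)⟩
  have hgood := exists_good hTM hAOp le_top hexAO
  have hexn : ∃ m, ∃ (L : Subgroup H) (c : H), Nat.card L = m ∧ LGood (A ⊔ O) L M c := by
    obtain ⟨L, c, -, -, hg⟩ := hgood
    exact ⟨_, L, c, rfl, hg⟩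
  obtain ⟨L, c, hcL, hg⟩ := Nat.find_spec hexn
  have hminL : ∀ (X : Subgroup H) (c' : H), LGood (A ⊔ O) X M c' →
      Nat.card L ≤ Nat.card X := by
    intro X c' hg'
    rw [hcL]
    exact Nat.find_min' hexn ⟨X, c', rfl, hg'⟩
  have m1 : ∀ X : Subgroup H, A ⊔ O ≤ X → X ≤ L → X ≠ L → X ≤ (Subgroup.map (MulAut.conj c).toMonoidHom M) := by
    intro X hAX hXL hXne
    by_contra hXC
    have hg' : LGood (A ⊔ O) X M c := ⟨hAX, hg.2.1, hXC, fun l hl => hg.2.2.2 l (hXL hl)⟩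
    exact hXne (Subgroup.eq_of_le_of_card_ge hXL (hminL X c hg'))
  have hLnp : ¬ IsPGroup p L := hg.not_isPGroup hTM le_top (Subgroup.mem_top c)
  have hAL : A ≤ L := le_sup_left.trans hg.1
  have hOL : O ≤ L := le_sup_right.trans hg.1
  have hOpc : O ≤ Cfsg.pCoreOf p L :=
    le_pCoreOf hOL (by rw [Subgroup.normalizer_eq_top_iff.mpr hOn]; exact le_top) hOp
  have hXp : IsPGroup p (A ⊔ Cfsg.pCoreOf p L : Subgroup H) :=
    IsPGroup.to_sup_of_normal_right' (T.isPGroup'.to_le hAT) (pCoreOf_isPGroup p L)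
      (hAL.trans (le_normalizer_pCoreOf p L))
  have hXL : A ⊔ Cfsg.pCoreOf p L ≤ L := sup_le hAL (pCoreOf_le p L)
  have hXne : A ⊔ Cfsg.pCoreOf p L ≠ L := fun e => hLnp (e ▸ hXp)
  have hAOX : A ⊔ O ≤ A ⊔ Cfsg.pCoreOf p L := sup_le_sup_left hOpc A
  have hXC : A ⊔ Cfsg.pCoreOf p L ≤ (Subgroup.map (MulAut.conj c).toMonoidHom M) := m1 _ hAOX hXL hXne
  refine ⟨L, ?_, L ⊓ (Subgroup.map (MulAut.conj c).toMonoidHom M), le_inf hXL hXC, ?_, ?_, ⟨c, rfl⟩, ?_⟩
  · rw [← hO]; exact hg.1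
  · exact lt_of_le_of_ne inf_le_left (fun e => hg.2.2.1 (e ▸ inf_le_right))
  · intro X hX hXlt
    exact le_inf hXlt.le (m1 X (hAOX.trans hX) hXlt.le hXlt.ne)
  · intro x hxL hxL₀
    by_contra hne
    apply hxL₀
    have hAxL : (Subgroup.map (MulAut.conj x).toMonoidHom A) ≤ L := map_conj_le_of_mem hAL hxL
    have hYL : (A ⊔ (Subgroup.map (MulAut.conj x).toMonoidHom A)) ⊔ Cfsg.pCoreOf p L ≤ L :=
      sup_le (sup_le hAL hAxL) (pCoreOf_le p L)
    have hAOY : A ⊔ O ≤ (A ⊔ (Subgroup.map (MulAut.conj x).toMonoidHom A)) ⊔ Cfsg.pCoreOf p L :=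
      sup_le (le_sup_left.trans le_sup_left) (hOpc.trans le_sup_right)
    have hYC := m1 _ hAOY hYL hne
    have hAxC : (Subgroup.map (MulAut.conj x).toMonoidHom A) ≤ (Subgroup.map (MulAut.conj c).toMonoidHom M) := (le_sup_right.trans le_sup_left).trans hYC
    have h1 : A ⊔ O ≤ (Subgroup.map (MulAut.conj (x⁻¹ * c)).toMonoidHom M) := by
      refine sup_le ?_ (hOc _)
      rw [map_conj_mul]
      exact (map_conj_le_iff A _ x).mp hAxC
    have h2 := hg.mem_of_le hTM le_top (Subgroup.mem_top c) (L.inv_mem hxL) h1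
    have h3 := ((Subgroup.map (MulAut.conj c).toMonoidHom M)).inv_mem h2
    rw [inv_inv] at h3
    exact ⟨hxL, h3⟩

end Cfsg.Agent.S2834
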