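import Cfsg.Statements.S2835
import Cfsg.Agent.Lib.Helper18.SylowRel
import Mathlib.Algebra.Group.Subgroup.Order

set_option autoImplicit false
open Cfsg

namespace Cfsg.Agent.S2835

open Cfsg.Agent.Lib.Helper18


/-- Let L be a finite group, L₀ a maximal subgroup, T a Sylow p-subgroup of L₀ and Y ≤ T, and suppose L is Y-minimal (generated by the conjugates of Y, with Y in exactly one maximal subgroup, necessarily L₀). Then N_L(T) ≤ L₀, O_p(L) ≤ L₀ and T is a Sylow p-subgroup of L; N_L(L₀) = L₀; L = ⟨Y, gYg⁻¹⟩ for each g ∈ L outside L₀; and if Y is abelian then Y ∩ gYg⁻¹ = C_Y(L) for each such g. -/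
theorem result {L : Type*} [Group L] [Finite L] {p : ℕ} [Fact p.Prime] (L₀ : Subgroup L) (hL₀ : IsCoatom L₀) (T : Sylow p ↥L₀) (Y : Subgroup L) (hYT : Y ≤ (T : Subgroup ↥L₀).map L₀.subtype) (hmin : Cfsg.IsMinimalOver Y) : Subgroup.normalizer (((T : Subgroup ↥L₀).map L₀.subtype : Subgroup L) : Set L) ≤ L₀ ∧ Cfsg.pCore p L ≤ L₀ ∧ (∃ P : Sylow p L, (P : Subgroup L) = (T : Subgroup ↥L₀).map L₀.subtype) ∧ Subgroup.normalizer (L₀ : Set L) = L₀ ∧ (∀ g : L, g ∉ L₀ → Y ⊔ Y.map (MulAut.conj g).toMonoidHom = ⊤) ∧ (IsMulCommutative ↥Y → ∀ g : L, g ∉ L₀ → Y ⊓ Y.map (MulAut.conj g).toMonoidHom = Y ⊓ Subgroup.center L) := by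
  have hTS : IsSylowIn p ((T : Subgroup ↥L₀).map L₀.subtype) L₀ := isSylowIn_map_subtype L₀ T
  have hT'L₀ : (T : Subgroup ↥L₀).map L₀.subtype ≤ L₀ := hTS.1
  have hYL₀ : Y ≤ L₀ := hYT.trans hT'L₀
  obtain ⟨hcl, M, ⟨hM, hYM⟩, huniq⟩ := hmin
  have hML₀ : L₀ = M := huniq L₀ ⟨hL₀, hYL₀⟩
  have hle : ∀ K : Subgroup L, Y ≤ K → K ≠ ⊤ → K ≤ L₀ := by
    intro K hYK hK
    obtain ⟨M', hM', hKM'⟩ := (eq_top_or_exists_le_coatom K).resolve_left hK
    have h1 := huniq M' ⟨hM', hYK.trans hKM'⟩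
    rw [hML₀, ← h1]; exact hKM'
  have hnn : ∀ N : Subgroup L, N.Normal → Y ≤ N → N = ⊤ := by
    intro N hN hYN
    have h1 : Subgroup.normalClosure (Y : Set L) ≤ N :=
      Subgroup.normalClosure_le_normal (SetLike.coe_subset_coe.mpr hYN)
    rw [hcl] at h1
    exact top_le_iff.mp h1
  have h1 : Subgroup.normalizer (((T : Subgroup ↥L₀).map L₀.subtype : Subgroup L) : Set L) ≤ L₀ := by
    apply hle _ (hYT.trans Subgroup.le_normalizer)
    intro htop
    have hn : ((T : Subgroup ↥L₀).map L₀.subtype).Normal := Subgroup.normalizer_eq_top_iff.mp htop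
    have h2 := hnn _ hn hYT
    rw [h2] at hT'L₀
    exact hL₀.1 (top_le_iff.mp hT'L₀)
  obtain ⟨P, hP⟩ := (hTS.isSylowIn_top h1).exists_eq_sylow
  have h4 : Subgroup.normalizer (L₀ : Set L) = L₀ := by
    apply le_antisymm _ Subgroup.le_normalizer
    apply hle _ (hYL₀.trans Subgroup.le_normalizer)
    intro htop
    have hn : L₀.Normal := Subgroup.normalizer_eq_top_iff.mp htop
    exact hL₀.1 (hnn _ hn hYL₀)
  have h5 : ∀ g : L, g ∉ L₀ → Y ⊔ Y.map (MulAut.conj g).toMonoidHom = ⊤ := by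
    intro g hg
    by_contra hne
    have hK := hle _ le_sup_left hne
    have hYg : Y ≤ L₀.map (MulAut.conj g⁻¹).toMonoidHom := by
      rw [← map_conj_le_iff]; exact le_sup_right.trans hK
    have hco : IsCoatom (L₀.map (MulAut.conj g⁻¹).toMonoidHom) :=
      ((MulAut.conj g⁻¹).mapSubgroup.isCoatom_iff L₀).mpr hL₀
    have h6 := huniq _ ⟨hco, hYg⟩
    rw [← hML₀] at h6
    have h7 : g⁻¹ ∈ Subgroup.normalizer (L₀ : Set L) := mem_normalizer_of_map_conj_eq L₀ h6
    rw [h4] at h7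
    exact hg (by simpa using L₀.inv_mem h7)
  refine ⟨h1, ?_, ⟨P, hP⟩, h4, h5, ?_⟩
  · have h2 : Cfsg.pCore p L ≤ (P : Subgroup L) := by
      have hn : (Cfsg.pCore p L).Normal := pCore_normal p L
      exact (pCore_isPGroup p L).le_sylow_of_normal P
    rw [hP] at h2
    exact h2.trans hT'L₀
  · intro hc g hg
    have hcomm : ∀ a ∈ Y, ∀ b ∈ Y, a * b = b * a := by
      intro a ha b hb
      have h2 := hc.is_comm.comm ⟨a, ha⟩ ⟨b, hb⟩
      exact congrArg Subtype.val h2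
    apply le_antisymm
    · rintro w ⟨hwY, hwYg⟩
      refine Subgroup.mem_inf.mpr ⟨hwY, ?_⟩
      have hwYg' : g⁻¹ * w * g ∈ Y := (mem_map_conj_iff Y g w).mp hwYg
      have h2 : Y ⊔ Y.map (MulAut.conj g).toMonoidHom ≤ Subgroup.centralizer ({w} : Set L) := by
        refine sup_le ?_ ?_
        · intro y hy
          rw [Subgroup.mem_centralizer_iff]
          intro u hu
          rw [Set.mem_singleton_iff] at hu; subst hu
          exact hcomm u hwY y hy
        · intro y hy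
          rw [Subgroup.mem_centralizer_iff]
          intro u hu
          rw [Set.mem_singleton_iff] at hu; subst hu
          have hy' : g⁻¹ * y * g ∈ Y := (mem_map_conj_iff Y g y).mp hy
          have h3 := hcomm _ hwYg' _ hy'
          calc u * y = g * ((g⁻¹ * u * g) * (g⁻¹ * y * g)) * g⁻¹ := by group
            _ = g * ((g⁻¹ * y * g) * (g⁻¹ * u * g)) * g⁻¹ := by rw [h3]
            _ = y * u := by group
      rw [h5 g hg] at h2
      rw [Subgroup.mem_center_iff]
      intro l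
      exact (Subgroup.mem_centralizer_iff.mp (h2 (Subgroup.mem_top l)) w (Set.mem_singleton w)).symm
    · rintro w ⟨hwY, hwZ⟩
      refine Subgroup.mem_inf.mpr ⟨hwY, ?_⟩
      rw [mem_map_conj_iff]
      have h2 := Subgroup.mem_center_iff.mp hwZ g
      have e : g⁻¹ * w * g = w := by rw [mul_assoc, ← h2]; group
      rw [e]; exact hwY

end Cfsg.Agent.S2835
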