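import Cfsg.Statements.S2836
import Cfsg.Agent.S2835
import Cfsg.Agent.Lib.Helper18.YL
import Cfsg.Agent.Lib.Helper18.PIrr
import Cfsg.Agent.Lib.Helper18.PMin
import Cfsg.Agent.Lib.Helper5.ProdIndex

set_option autoImplicit false
open Cfsg

namespace Cfsg.Agent.S2836

open Cfsg.Agent.Lib.Helper18

theorem coprime_card_quot {G : Type*} [Group G] [Finite G] {p : ℕ} [Fact p.Prime]
    (h : Cfsg.IsPClosed p G) : (Nat.card (G ⧸ Cfsg.pCore p G)).Coprime p := by
  have S : Sylow p G := default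
  have hS : (S : Subgroup G).Normal := h S
  have h1 : (S : Subgroup G) ≤ Cfsg.pCore p G := le_pCore hS S.isPGroup'
  have h2 : (Cfsg.pCore p G).index ∣ (S : Subgroup G).index := Subgroup.index_dvd_of_le h1
  rw [← Subgroup.index_eq_card]
  exact ((Nat.Prime.coprime_iff_not_dvd Fact.out).mpr
    (fun h3 => S.not_dvd_index (h3.trans h2))).symm

/-- Frattini argument: the Sylow subgroup of a normal subgroup inside `L₀` is normal. -/
theorem frattini_arg {L : Type*} [Group L] [Finite L] {p : ℕ} [Fact p.Prime]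
    (L₀ Y : Subgroup L) (hL₀ : L₀ ≠ ⊤)
    (hle : ∀ K : Subgroup L, Y ≤ K → K ≠ ⊤ → K ≤ L₀) (P : Sylow p L)
    (hYP : Y ≤ (P : Subgroup L)) (N : Subgroup L) (hN : N.Normal) (hNL₀ : N ≤ L₀) :
    ((P : Subgroup L) ⊓ N : Subgroup L).Normal := by
  have hR : IsSylowIn p ((P : Subgroup L) ⊓ N) N :=
    isSylowIn_inf_of_le_normalizer P (le_normalizer_of_normal hN _)
  obtain ⟨S, hS⟩ := hR.exists_sylow
  have hfr := Sylow.normalizer_sup_eq_top S
  rw [hS] at hfr
  rw [← Subgroup.normalizer_eq_top_iff]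
  by_contra hne
  have h1 : Subgroup.normalizer (((P : Subgroup L) ⊓ N : Subgroup L) : Set L) ≤ L₀ := by
    apply hle _ _ hne
    exact hYP.trans ((le_inf Subgroup.le_normalizer (le_normalizer_of_normal hN _)).trans
      (normalizer_inf_le _ _))
  apply hL₀
  rw [← top_le_iff, ← hfr]
  exact sup_le h1 hNL₀

theorem core_le_coatom {L : Type*} [Group L] [Finite L] {p : ℕ} [Fact p.Prime]
    (L₀ Y : Subgroup L) (huniq : ∀ M : Subgroup L, IsCoatom M → Y ≤ M → M = L₀)
    (P : Sylow p L) (hYP : Y ≤ (P : Subgroup L))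
    (hRn : ((P : Subgroup L) ⊓ L₀.normalCore : Subgroup L).Normal)
    (M : Subgroup L) (hM : IsCoatom M) (hOM : Cfsg.pCore p L ≤ M) : L₀.normalCore ≤ M := by
  by_contra hDM
  have hDn : (L₀.normalCore).Normal := Subgroup.normalCore_normal L₀
  have htop : M ⊔ L₀.normalCore = ⊤ :=
    hM.2 _ (lt_of_le_of_ne le_sup_left (fun e => hDM (by rw [e]; exact le_sup_right)))
  have hRO : (P : Subgroup L) ⊓ L₀.normalCore ≤ Cfsg.pCore p L :=
    le_pCore hRn (P.isPGroup'.to_le inf_le_left)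
  have hRS : IsSylowIn p ((P : Subgroup L) ⊓ L₀.normalCore) L₀.normalCore :=
    isSylowIn_inf_of_le_normalizer P (le_normalizer_of_normal hDn _)
  have hidx : M.index = M.relIndex L₀.normalCore := by
    apply Cfsg.Agent.Lib.Helper5.index_eq_relIndex_of_mul
    intro g
    have hg : g⁻¹ ∈ M ⊔ L₀.normalCore := by rw [htop]; exact Subgroup.mem_top _
    obtain ⟨m, hm, d, hd, e⟩ := mem_sup_of_le_normalizer (le_normalizer_of_normal hDn M) hg
    refine ⟨d⁻¹, inv_mem hd, m⁻¹, inv_mem hm, ?_⟩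
    rw [← mul_inv_rev, ← e, inv_inv]
  have hnd : ¬ p ∣ M.index := by
    rw [hidx, ← Subgroup.inf_relIndex_right]
    intro h
    exact hRS.not_dvd_relIndex (h.trans (Subgroup.relIndex_dvd_of_le_left _
      (le_inf (hRO.trans hOM) inf_le_right)))
  obtain ⟨Q, hQM⟩ := exists_sylow_le_of_not_dvd_index' M hnd
  obtain ⟨c, -, hc⟩ := (isSylowIn_of_sylow_le P le_top).exists_conj_eq
    (isSylowIn_of_sylow_le Q le_top)
  have hYc : Y.map (MulAut.conj c).toMonoidHom ≤ M :=
    (Subgroup.map_mono hYP).trans (hc ▸ hQM)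
  have hYM' : Y ≤ M.map (MulAut.conj c⁻¹).toMonoidHom := by
    rw [← map_conj_le_iff]; exact hYc
  have hco : IsCoatom (M.map (MulAut.conj c⁻¹).toMonoidHom) :=
    ((MulAut.conj c⁻¹).mapSubgroup.isCoatom_iff M).mpr hM
  have h6 := huniq _ hco hYM'
  apply hDM
  have h7 : L₀.normalCore ≤ M.map (MulAut.conj c⁻¹).toMonoidHom :=
    h6 ▸ Subgroup.normalCore_le L₀
  have h8 := (map_conj_le_iff _ _ c).mpr h7
  rwa [map_conj_eq_of_mem_normalizer _
    (le_normalizer_of_normal hDn ⊤ (Subgroup.mem_top c))] at h8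

theorem map_core {L : Type*} [Group L] [Finite L] {p : ℕ} [Fact p.Prime]
    (L₀ Y : Subgroup L) (hL₀ : IsCoatom L₀)
    (huniq : ∀ M : Subgroup L, IsCoatom M → Y ≤ M → M = L₀)
    (P : Sylow p L) (hYP : Y ≤ (P : Subgroup L)) (hO : Cfsg.pCore p L ≤ L₀)
    (hRn : ((P : Subgroup L) ⊓ L₀.normalCore : Subgroup L).Normal) :
    (L₀.normalCore).map (QuotientGroup.mk' (Cfsg.pCore p L)) =
      frattini (L ⧸ Cfsg.pCore p L) := by
  have hker : (QuotientGroup.mk' (Cfsg.pCore p L)).ker = Cfsg.pCore p L :=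
    QuotientGroup.ker_mk' _
  have hsurj := QuotientGroup.mk'_surjective (Cfsg.pCore p L)
  apply le_antisymm
  · unfold frattini Order.radical
    refine le_iInf₂ ?_
    intro Mbar hMbar
    have hM : IsCoatom (Mbar.comap (QuotientGroup.mk' (Cfsg.pCore p L))) :=
      Subgroup.isCoatom_comap_of_surjective hsurj hMbar
    have hOM : Cfsg.pCore p L ≤ Mbar.comap (QuotientGroup.mk' (Cfsg.pCore p L)) := by
      conv_lhs => rw [← hker]
      exact MonoidHom.ker_le_comap _ _
    have hDM := core_le_coatom L₀ Y huniq P hYP hRn _ hM hOM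
    calc (L₀.normalCore).map (QuotientGroup.mk' (Cfsg.pCore p L))
        ≤ (Mbar.comap (QuotientGroup.mk' (Cfsg.pCore p L))).map
            (QuotientGroup.mk' (Cfsg.pCore p L)) := Subgroup.map_mono hDM
      _ = Mbar := Subgroup.map_comap_eq_self_of_surjective hsurj _
  · have hcm : (L₀.map (QuotientGroup.mk' (Cfsg.pCore p L))).comap
        (QuotientGroup.mk' (Cfsg.pCore p L)) = L₀ := by
      rw [Subgroup.comap_map_eq, hker, sup_of_le_left hO]
    have hco : IsCoatom (L₀.map (QuotientGroup.mk' (Cfsg.pCore p L))) := by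
      constructor
      · intro e
        apply hL₀.1
        rw [← hcm, e, Subgroup.comap_top]
      · intro K hK
        have h1 : L₀ ≤ K.comap (QuotientGroup.mk' (Cfsg.pCore p L)) := by
          conv_lhs => rw [← hcm]
          exact Subgroup.comap_mono hK.le
        have h2 : L₀ ≠ K.comap (QuotientGroup.mk' (Cfsg.pCore p L)) := by
          intro e
          apply hK.ne
          rw [← Subgroup.map_comap_eq_self_of_surjective hsurj K, ← e]
        have h3 := hL₀.2 _ (lt_of_le_of_ne h1 h2)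
        rw [← Subgroup.map_comap_eq_self_of_surjective hsurj K, h3,
          Subgroup.map_top_of_surjective _ hsurj]
    intro z hz
    obtain ⟨a, rfl⟩ := hsurj z
    refine ⟨a, ?_, rfl⟩
    show ∀ b : L, b * a * b⁻¹ ∈ L₀
    intro b
    have hfn : (frattini (L ⧸ Cfsg.pCore p L)).Normal := inferInstance
    have h1 : QuotientGroup.mk' (Cfsg.pCore p L) (b * a * b⁻¹) ∈
        frattini (L ⧸ Cfsg.pCore p L) := by
      rw [map_mul, map_mul, map_inv]
      exact hfn.conj_mem _ hz _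
    obtain ⟨c, hc, e⟩ := frattini_le_coatom hco h1
    have h3 : c⁻¹ * (b * a * b⁻¹) ∈ Cfsg.pCore p L := QuotientGroup.eq.mp e
    have h4 : b * a * b⁻¹ = c * (c⁻¹ * (b * a * b⁻¹)) := by group
    rw [h4]
    exact L₀.mul_mem hc (hO h3)

theorem nilpotent_quot {L : Type*} [Group L] [Finite L] {p : ℕ} [Fact p.Prime]
    (N : Subgroup L) (hN : N.Normal)
    (hNf : N.map (QuotientGroup.mk' (Cfsg.pCore p L)) ≤ frattini (L ⧸ Cfsg.pCore p L)) :
    Group.IsNilpotent (↥N ⧸ Cfsg.pCore p ↥N) := by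
  obtain ⟨f, hf⟩ : ∃ f : ↥N →* ↥(frattini (L ⧸ Cfsg.pCore p L)),
      ∀ x : ↥N, ((f x : ↥(frattini (L ⧸ Cfsg.pCore p L))) : L ⧸ Cfsg.pCore p L) =
        QuotientGroup.mk' (Cfsg.pCore p L) (x : L) :=
    ⟨((QuotientGroup.mk' (Cfsg.pCore p L)).comp N.subtype).codRestrict
      (frattini (L ⧸ Cfsg.pCore p L)) (fun x => hNf ⟨x, x.2, rfl⟩), fun x => rfl⟩
  have hker : f.ker = Cfsg.pCore p ↥N := by
    apply le_antisymm
    · intro x hx
      have h1 : (x : L) ∈ Cfsg.pCore p L := by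
        have h2 := congrArg Subtype.val (MonoidHom.mem_ker.mp hx)
        rw [hf] at h2
        exact (QuotientGroup.eq_one_iff _).mp h2
      have hn : ((Cfsg.pCore p L).subgroupOf N).Normal := (Cfsg.pCore_normal p L).subgroupOf N
      have hp : IsPGroup p ↥((Cfsg.pCore p L).subgroupOf N) :=
        (pCore_isPGroup p L).comap_subtype
      exact le_pCore hn hp (Subgroup.mem_subgroupOf.mpr h1)
    · intro x hx
      have h1 : (x : L) ∈ Cfsg.pCoreOf p N := ⟨x, hx, rfl⟩
      have h2 : Cfsg.pCoreOf p N ≤ Cfsg.pCore p L := by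
        rw [← pCoreOf_top]
        exact pCoreOf_le_pCoreOf_of_normal le_top (le_normalizer_of_normal hN _)
      rw [MonoidHom.mem_ker]
      apply Subtype.ext
      rw [hf]
      exact (QuotientGroup.eq_one_iff _).mpr (h2 h1)
  have hinj : Function.Injective (QuotientGroup.lift (Cfsg.pCore p ↥N) f hker.ge) := by
    rw [← MonoidHom.ker_eq_bot_iff, QuotientGroup.ker_lift, hker]
    rw [Subgroup.map_eq_bot_iff, QuotientGroup.ker_mk']
  have hnil : Group.IsNilpotent ↥(frattini (L ⧸ Cfsg.pCore p L)) := frattini_nilpotent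
  have hr : Group.IsNilpotent
      ↥(QuotientGroup.lift (Cfsg.pCore p ↥N) f hker.ge).range := inferInstance
  exact (Group.isNilpotent_congr (MonoidHom.ofInjective hinj)).mpr hr

/-- Let L be a finite group, L₀ a maximal subgroup, T a Sylow p-subgroup of L₀, Y ≤ T, and suppose L is Y-minimal. Let D be the intersection of the conjugates of L₀ (the core of L₀). Then D contains O_p(L) and D/O_p(L) is the Frattini subgroup of L/O_p(L), so D is p-closed; and every normal subgroup N of L contained in L₀ is p-closed with N/O_p(N) a nilpotent group of order prime to p. -/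
theorem result {L : Type*} [Group L] [Finite L] {p : ℕ} [Fact p.Prime] (L₀ : Subgroup L) (hL₀ : IsCoatom L₀) (T : Sylow p ↥L₀) (Y : Subgroup L) (hYT : Y ≤ (T : Subgroup ↥L₀).map L₀.subtype) (hmin : Cfsg.IsMinimalOver Y) : (Cfsg.pCore p L ≤ L₀.normalCore ∧ (L₀.normalCore).map (QuotientGroup.mk' (Cfsg.pCore p L)) = frattini (L ⧸ Cfsg.pCore p L) ∧ Cfsg.IsPClosed p ↥(L₀.normalCore)) ∧ ∀ (N : Subgroup L) [N.Normal], N ≤ L₀ → Cfsg.IsPClosed p ↥N ∧ Group.IsNilpotent (↥N ⧸ Cfsg.pCore p ↥N) ∧ (Nat.card (↥N ⧸ Cfsg.pCore p ↥N)).Coprime p := by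
  obtain ⟨-, hOL₀, ⟨P, hP⟩, -, -, -⟩ := Cfsg.Agent.S2835.result L₀ hL₀ T Y hYT hmin
  have hYP : Y ≤ (P : Subgroup L) := hP ▸ hYT
  have hYL₀ : Y ≤ L₀ := hYT.trans (Subgroup.map_subtype_le _)
  obtain ⟨hcl, M, ⟨hM, hYM⟩, huniq'⟩ := hmin
  have hML₀ : L₀ = M := huniq' L₀ ⟨hL₀, hYL₀⟩
  have huniq : ∀ M' : Subgroup L, IsCoatom M' → Y ≤ M' → M' = L₀ :=
    fun M' h h' => (huniq' M' ⟨h, h'⟩).trans hML₀.symm
  have hle : ∀ K : Subgroup L, Y ≤ K → K ≠ ⊤ → K ≤ L₀ := by
    intro K hYK hK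
    obtain ⟨M', hM', hKM'⟩ := (eq_top_or_exists_le_coatom K).resolve_left hK
    rw [← huniq M' hM' (hYK.trans hKM')]; exact hKM'
  have hDn : (L₀.normalCore).Normal := Subgroup.normalCore_normal L₀
  have hRD := frattini_arg L₀ Y hL₀.1 hle P hYP _ hDn (Subgroup.normalCore_le L₀)
  have hOn : (Cfsg.pCore p L).Normal := Cfsg.pCore_normal p L
  have hmap := map_core L₀ Y hL₀ huniq P hYP hOL₀ hRD
  have hclosed : ∀ N : Subgroup L, N.Normal → N ≤ L₀ → Cfsg.IsPClosed p ↥N := by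
    intro N hN hNL₀
    have hRn := frattini_arg L₀ Y hL₀.1 hle P hYP N hN hNL₀
    have hRS : Cfsg.Agent.Lib.Helper18.IsSylowIn p ((P : Subgroup L) ⊓ N) N :=
      Cfsg.Agent.Lib.Helper18.isSylowIn_inf_of_le_normalizer P
        (Cfsg.Agent.Lib.Helper18.le_normalizer_of_normal hN _)
    exact (Cfsg.Agent.Lib.Helper18.isPClosed_subgroup_iff hRS).mpr
      (Cfsg.Agent.Lib.Helper18.le_normalizer_of_normal hRn N)
  refine ⟨⟨Subgroup.normal_le_normalCore.mpr hOL₀, hmap,
    hclosed _ hDn (Subgroup.normalCore_le L₀)⟩, ?_⟩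
  intro N hN hNL₀
  have hcl' := hclosed N hN hNL₀
  refine ⟨hcl', ?_, coprime_card_quot hcl'⟩
  apply nilpotent_quot N hN
  rw [← hmap]
  exact Subgroup.map_mono (Subgroup.normal_le_normalCore.mpr hNL₀)

end Cfsg.Agent.S2836
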