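import Cfsg.Statements.S2837
import Cfsg.Agent.S2835
import Cfsg.Agent.S2833
import Cfsg.Agent.Lib.Helper18.PGroupFrat
import Cfsg.Agent.Lib.Helper18.PIrr
import Cfsg.Agent.Lib.Helper18.Large

set_option autoImplicit false
open Cfsg

namespace Cfsg.Agent.S2837

open Cfsg.Agent.Lib.Helper18 in
open scoped commutatorElement in
theorem main {L : Type*} [Group L] [Finite L] {p : ℕ} [Fact p.Prime]
    (hchar : Subgroup.centralizer (Cfsg.pCore p L : Set L) ≤ Cfsg.pCore p L)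
    (Y : Subgroup L) (hYc : ∀ a ∈ Y, ∀ b ∈ Y, a * b = b * a) (hYe : ∀ a ∈ Y, a ^ p = 1)
    (hOY : Cfsg.pCore p L ≤ Subgroup.normalizer (Y : Set L)) (A : Subgroup L)
    (hA : A = Subgroup.normalClosure (((Cfsg.pCore p L ⊓ Y : Subgroup L)) : Set L)) (g : L)
    (hgen : Y ⊔ Y.map (MulAut.conj g).toMonoidHom = ⊤)
    (hint : Y ⊓ Y.map (MulAut.conj g).toMonoidHom = Y ⊓ Subgroup.center L) :
    (frattini ↥A).map A.subtype = ⁅A, A⁆ ∧ ⁅A, A⁆ = ⁅A ⊓ Y, A⁆ ∧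
    ⁅A ⊓ Y, A⁆ = ⁅A ⊓ Y, A ⊓ Y.map (MulAut.conj g).toMonoidHom⁆ ∧
    ⁅A ⊓ Y, A⁆ ≤ Y ⊓ Subgroup.center L ∧
    Y ⊓ Y.map (MulAut.conj g).toMonoidHom = Y ⊓ Subgroup.center L ∧
    (A ⊓ Y) ⊓ (A ⊓ Y.map (MulAut.conj g).toMonoidHom) = Y ⊓ Subgroup.center L ∧
    A ⊓ Subgroup.center L = Y ⊓ Subgroup.center L := by
  obtain ⟨Q, hQdef⟩ : ∃ Q : Subgroup L, Q = Cfsg.pCore p L := ⟨_, rfl⟩
  rw [← hQdef] at hchar hOY hA
  have hQn : Q.Normal := hQdef ▸ Cfsg.pCore_normal p L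
  have hQp : IsPGroup p ↥Q := hQdef ▸ pCore_isPGroup p L
  obtain ⟨Yg, hYgdef⟩ : ∃ Yg : Subgroup L, Yg = Y.map (MulAut.conj g).toMonoidHom := ⟨_, rfl⟩
  rw [← hYgdef] at hgen hint ⊢
  have hYgc : ∀ a ∈ Yg, ∀ b ∈ Yg, a * b = b * a := by
    rw [hYgdef]
    rintro _ ⟨a, ha, rfl⟩ _ ⟨b, hb, rfl⟩
    have h1 := hYc a ha b hb
    show g * a * g⁻¹ * (g * b * g⁻¹) = g * b * g⁻¹ * (g * a * g⁻¹)
    calc g * a * g⁻¹ * (g * b * g⁻¹) = g * (a * b) * g⁻¹ := by group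
      _ = g * (b * a) * g⁻¹ := by rw [h1]
      _ = g * b * g⁻¹ * (g * a * g⁻¹) := by group
  have hYge : ∀ a ∈ Yg, a ^ p = 1 := by
    rw [hYgdef]
    rintro _ ⟨a, ha, rfl⟩
    rw [← map_pow, hYe a ha, map_one]
  have hQYg : Q ≤ Subgroup.normalizer (Yg : Set L) := by
    rw [hYgdef, normalizer_map_conj]
    intro q hq
    rw [mem_map_conj_iff]
    apply hOY
    have h1 := hQn.conj_mem q hq g⁻¹
    rwa [inv_inv] at h1
  obtain ⟨Y₀, hY₀def⟩ : ∃ Y₀ : Subgroup L, Y₀ = Q ⊓ Y := ⟨_, rfl⟩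
  obtain ⟨Y₁, hY₁def⟩ : ∃ Y₁ : Subgroup L, Y₁ = Q ⊓ Yg := ⟨_, rfl⟩
  rw [← hY₀def] at hA
  have hY₀Q : Y₀ ≤ Q := hY₀def ▸ inf_le_left
  have hY₀Y : Y₀ ≤ Y := hY₀def ▸ inf_le_right
  have hY₁Q : Y₁ ≤ Q := hY₁def ▸ inf_le_left
  have hY₁Yg : Y₁ ≤ Yg := hY₁def ▸ inf_le_right
  have hQY₀ : Q ≤ Subgroup.normalizer (Y₀ : Set L) := by
    rw [hY₀def]; exact (le_inf Subgroup.le_normalizer hOY).trans (normalizer_inf_le _ _)
  have hQY₁ : Q ≤ Subgroup.normalizer (Y₁ : Set L) := by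
    rw [hY₁def]; exact (le_inf Subgroup.le_normalizer hQYg).trans (normalizer_inf_le _ _)
  have hYY₀ : Y ≤ Subgroup.normalizer (Y₀ : Set L) := by
    rw [hY₀def]
    exact (le_inf (le_normalizer_of_normal hQn Y) Subgroup.le_normalizer).trans
      (normalizer_inf_le _ _)
  have hYgY₁ : Yg ≤ Subgroup.normalizer (Y₁ : Set L) := by
    rw [hY₁def]
    exact (le_inf (le_normalizer_of_normal hQn Yg) Subgroup.le_normalizer).trans
      (normalizer_inf_le _ _)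
  have hYQ : ⁅Y, Q⁆ ≤ Y₀ := by
    rw [hY₀def]
    exact le_inf (commutator_le_of_le_normalizer (le_normalizer_of_normal hQn Y))
      (commutator_le_of_le_normalizer' hOY)
  have hYgQ : ⁅Yg, Q⁆ ≤ Y₁ := by
    rw [hY₁def]
    exact le_inf (commutator_le_of_le_normalizer (le_normalizer_of_normal hQn Yg))
      (commutator_le_of_le_normalizer' hQYg)
  have hYB : Y ≤ Subgroup.normalizer ((Y₀ ⊔ Y₁ : Subgroup L) : Set L) := by
    apply le_normalizer_of_forall_map_conj_le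
    intro y hy
    rw [Subgroup.map_sup]
    refine sup_le ?_ ?_
    · rw [map_conj_eq_of_mem_normalizer Y₀ (hYY₀ hy)]; exact le_sup_left
    · rintro _ ⟨b, hb, rfl⟩
      have h1 : ⁅y, b⁆ ∈ Y₀ := hYQ (Subgroup.commutator_mem_commutator hy (hY₁Q hb))
      have h2 : (MulAut.conj y).toMonoidHom b = ⁅y, b⁆ * b := by
        simp [commutatorElement_def]
      rw [h2]
      exact Subgroup.mul_mem _ (Subgroup.mem_sup_left h1) (Subgroup.mem_sup_right hb)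
  have hYgB : Yg ≤ Subgroup.normalizer ((Y₀ ⊔ Y₁ : Subgroup L) : Set L) := by
    apply le_normalizer_of_forall_map_conj_le
    intro y hy
    rw [Subgroup.map_sup]
    refine sup_le ?_ ?_
    · rintro _ ⟨b, hb, rfl⟩
      have h1 : ⁅y, b⁆ ∈ Y₁ := hYgQ (Subgroup.commutator_mem_commutator hy (hY₀Q hb))
      have h2 : (MulAut.conj y).toMonoidHom b = ⁅y, b⁆ * b := by
        simp [commutatorElement_def]
      rw [h2]
      exact Subgroup.mul_mem _ (Subgroup.mem_sup_right h1) (Subgroup.mem_sup_left hb)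
    · rw [map_conj_eq_of_mem_normalizer Y₁ (hYgY₁ hy)]; exact le_sup_right
  have hBn : (Y₀ ⊔ Y₁ : Subgroup L).Normal := by
    rw [← Subgroup.normalizer_eq_top_iff, ← top_le_iff, ← hgen]
    exact sup_le hYB hYgB
  have hAn : A.Normal := hA ▸ Subgroup.normalClosure_normal
  have hY₀A : Y₀ ≤ A := by rw [hA]; exact Subgroup.le_normalClosure
  have hY₁A : Y₁ ≤ A := by
    intro x hx
    rw [hY₁def, hYgdef] at hx
    obtain ⟨hxQ, y, hy, rfl⟩ := Subgroup.mem_inf.mp hx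
    have hyQ : y ∈ Q := by
      have h1 := hQn.conj_mem _ hxQ g⁻¹
      have h2 : g⁻¹ * (MulAut.conj g).toMonoidHom y * g⁻¹⁻¹ = y := by
        simp [mul_assoc]
      rwa [h2] at h1
    exact hAn.conj_mem y (hY₀A (hY₀def ▸ Subgroup.mem_inf.mpr ⟨hyQ, hy⟩)) g
  have hAeq : A = Y₀ ⊔ Y₁ := by
    apply le_antisymm
    · rw [hA]
      exact Subgroup.normalClosure_le_normal (SetLike.coe_subset_coe.mpr le_sup_left)
    · exact sup_le hY₀A hY₁A
  have hAQ : A ≤ Q := by rw [hAeq]; exact sup_le hY₀Q hY₁Q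
  have hAY : A ⊓ Y = Y₀ := by
    apply le_antisymm
    · rw [hY₀def]; exact inf_le_inf_right Y hAQ
    · exact le_inf hY₀A hY₀Y
  have hAYg : A ⊓ Yg = Y₁ := by
    apply le_antisymm
    · rw [hY₁def]; exact inf_le_inf_right Yg hAQ
    · exact le_inf hY₁A hY₁Yg
  rw [hAY, hAYg]
  obtain ⟨Z, hZdef⟩ : ∃ Z : Subgroup L, Z = Y ⊓ Subgroup.center L := ⟨_, rfl⟩
  rw [← hZdef] at hint ⊢
  have hZc : Z ≤ Subgroup.center L := hZdef ▸ inf_le_right
  have hZQ : Z ≤ Q := by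
    refine le_trans ?_ hchar
    intro z hz
    rw [Subgroup.mem_centralizer_iff]
    intro q _
    exact Subgroup.mem_center_iff.mp (hZc hz) q
  have hZY₀ : Z ≤ Y₀ := by rw [hY₀def]; exact le_inf hZQ (hZdef ▸ inf_le_left)
  have hZY₁ : Z ≤ Y₁ := by rw [hY₁def]; exact le_inf hZQ (hint ▸ inf_le_right)
  have hC : ⁅Y₀, Y₁⁆ ≤ Z := by
    rw [← hint]
    exact le_inf ((commutator_le_of_le_normalizer' (hY₁Q.trans hQY₀)).trans hY₀Y)
      ((commutator_le_of_le_normalizer (hY₀Q.trans hQY₁)).trans hY₁Yg)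
  have hCnorm : (⁅Y₀, Y₁⁆ : Subgroup L).Normal := by
    refine ⟨fun c hc x => ?_⟩
    have h1 := Subgroup.mem_center_iff.mp (hZc (hC hc)) x
    rw [h1, mul_inv_cancel_right]
    exact hc
  have hCn : ∀ K : Subgroup L, K ≤ Subgroup.normalizer ((⁅Y₀, Y₁⁆ : Subgroup L) : Set L) :=
    fun K => le_normalizer_of_normal hCnorm K
  have hYab : ⁅Y, Y⁆ = ⊥ := by
    rw [Subgroup.commutator_eq_bot_iff_le_centralizer]
    intro a ha
    rw [Subgroup.mem_centralizer_iff]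
    intro b hb
    exact hYc b hb a ha
  have hYgab : ⁅Yg, Yg⁆ = ⊥ := by
    rw [Subgroup.commutator_eq_bot_iff_le_centralizer]
    intro a ha
    rw [Subgroup.mem_centralizer_iff]
    intro b hb
    exact hYgc b hb a ha
  have hY₀ab : ⁅Y₀, Y₀⁆ = ⊥ := by
    rw [← le_bot_iff, ← hYab]; exact Subgroup.commutator_mono hY₀Y hY₀Y
  have hY₁ab : ⁅Y₁, Y₁⁆ = ⊥ := by
    rw [← le_bot_iff, ← hYgab]; exact Subgroup.commutator_mono hY₁Yg hY₁Yg
  have h3a : ⁅Y₀, A⁆ ≤ ⁅Y₀, Y₁⁆ := by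
    rw [hAeq]
    exact Cfsg.Agent.S2833.commutator_sup_le (hCn _) (hCn _) (hY₀ab ▸ bot_le) le_rfl
  have h3b : ⁅Y₁, A⁆ ≤ ⁅Y₀, Y₁⁆ := by
    rw [hAeq]
    exact Cfsg.Agent.S2833.commutator_sup_le (hCn _) (hCn _)
      (by rw [Subgroup.commutator_comm]) (hY₁ab ▸ bot_le)
  have h2 : ⁅A, A⁆ ≤ ⁅Y₀, Y₁⁆ := by
    have h4 : ⁅A, Y₀ ⊔ Y₁⁆ ≤ ⁅Y₀, Y₁⁆ :=
      Cfsg.Agent.S2833.commutator_sup_le (hCn _) (hCn _)
        (by rw [Subgroup.commutator_comm]; exact h3a)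
        (by rw [Subgroup.commutator_comm]; exact h3b)
    rw [← hAeq] at h4
    exact h4
  have hAfin : Finite ↥A := inferInstance
  refine ⟨?_, ?_, ?_, h3a.trans hC, hint, ?_, ?_⟩
  · apply le_antisymm
    · apply map_frattini_le (p := p) A ⁅A, A⁆
      · intro a ha b hb
        exact Subgroup.commutator_mem_commutator ha hb
      · exact pow_mem_commutator_of_sup hAeq (fun u hu => hYe u (hY₀Y hu))
          (fun v hv => hYge v (hY₁Yg hv))
    · exact commutator_le_map_frattini (hQp.to_le hAQ)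
  · exact le_antisymm (h2.trans (Subgroup.commutator_mono le_rfl hY₁A))
      (Subgroup.commutator_mono hY₀A le_rfl)
  · exact le_antisymm h3a (Subgroup.commutator_mono le_rfl hY₁A)
  · exact le_antisymm ((inf_le_inf hY₀Y hY₁Yg).trans hint.le) (le_inf hZY₀ hZY₁)
  · apply le_antisymm
    · intro z hz
      obtain ⟨hzA, hzc⟩ := Subgroup.mem_inf.mp hz
      rw [hAeq] at hzA
      obtain ⟨a, ha, b, hb, rfl⟩ := mem_sup_of_le_normalizer (hY₀Q.trans hQY₁) hzA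
      have hbc : Y ⊔ Yg ≤ Subgroup.centralizer ({b} : Set L) := by
        refine sup_le ?_ ?_
        · intro y hy
          rw [Subgroup.mem_centralizer_iff]
          intro b' hb'
          rw [Set.mem_singleton_iff] at hb'
          subst hb'
          have h5 := Subgroup.mem_center_iff.mp hzc y
          have h6 := hYc y hy a (hY₀Y ha)
          have h7 : a * (y * b') = a * (b' * y) := by
            rw [← mul_assoc, ← h6, mul_assoc, h5, mul_assoc]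
          exact (mul_left_cancel h7).symm
        · intro y hy
          rw [Subgroup.mem_centralizer_iff]
          intro b' hb'
          rw [Set.mem_singleton_iff] at hb'
          subst hb'
          exact hYgc b' (hY₁Yg hb) y hy
      have hbcen : b ∈ Subgroup.center L := by
        rw [Subgroup.mem_center_iff]
        intro x
        have hx : x ∈ Y ⊔ Yg := hgen ▸ Subgroup.mem_top x
        exact (Subgroup.mem_centralizer_iff.mp (hbc hx) b rfl).symm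
      have hbY : b ∈ Y := by
        have h8 : b ∈ Yg := hY₁Yg hb
        rw [hYgdef] at h8
        obtain ⟨y, hy, e⟩ := h8
        have h9 : y = b := by
          have h10 : g * y * g⁻¹ = b := e
          have h11 := Subgroup.mem_center_iff.mp hbcen g
          have h12 : g * y = g * b := by
            rw [h11, ← h10, inv_mul_cancel_right]
          exact mul_left_cancel h12
        rw [← h9]; exact hy
      rw [hZdef]
      exact Subgroup.mem_inf.mpr ⟨Y.mul_mem (hY₀Y ha) hbY, hzc⟩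
    · exact le_inf (hZY₀.trans hY₀A) hZc

/-- Let L be a finite group of characteristic p, L₀ a maximal subgroup, Y an elementary abelian p-subgroup of L₀ with L Y-minimal and O_p(L) ≤ N_L(Y). Put A = the normal closure of O_p(L) ∩ Y in L. Then for every g ∈ L outside L₀: Φ(A) = A' = [A ∩ Y, A] = [A ∩ Y, A ∩ gYg⁻¹] ≤ C_Y(L), and Y ∩ gYg⁻¹ = (A ∩ Y) ∩ (A ∩ gYg⁻¹) = C_Y(L) = C_A(L). -/
theorem result {L : Type*} [Group L] [Finite L] {p : ℕ} [Fact p.Prime] (hchar : Subgroup.centralizer (Cfsg.pCore p L : Set L) ≤ Cfsg.pCore p L) (L₀ : Subgroup L) (hL₀ : IsCoatom L₀) (Y : Subgroup L) (hYL₀ : Y ≤ L₀) (hYel : Cfsg.IsElementaryAbelian p Y) (hmin : Cfsg.IsMinimalOver Y) (hOY : Cfsg.pCore p L ≤ Subgroup.normalizer (Y : Set L)) (A : Subgroup L) (hA : A = Subgroup.normalClosure (((Cfsg.pCore p L ⊓ Y : Subgroup L)) : Set L)) (g : L) (hg : g ∉ L₀) : (frattini ↥A).map A.subtype = ⁅A, A⁆ ∧ ⁅A, A⁆ = ⁅A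 ⊓ Y, A⁆ ∧ ⁅A ⊓ Y, A⁆ = ⁅A ⊓ Y, A ⊓ Y.map (MulAut.conj g).toMonoidHom⁆ ∧ ⁅A ⊓ Y, A⁆ ≤ Y ⊓ Subgroup.center L ∧ Y ⊓ Y.map (MulAut.conj g).toMonoidHom = Y ⊓ Subgroup.center L ∧ (A ⊓ Y) ⊓ (A ⊓ Y.map (MulAut.conj g).toMonoidHom) = Y ⊓ Subgroup.center L ∧ A ⊓ Subgroup.center L = Y ⊓ Subgroup.center L := by
  have hYp : IsPGroup p ↥Y := by
    rintro ⟨u, hu⟩
    refine ⟨1, Subtype.ext ?_⟩
    show u ^ (p ^ 1) = 1
    rw [pow_one, hYel.2 u hu]
  obtain ⟨T, hT⟩ := (hYp.comap_subtype (K := L₀)).exists_le_sylow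
  have hYT : Y ≤ (T : Subgroup ↥L₀).map L₀.subtype := by
    intro y hy
    exact ⟨⟨y, hYL₀ hy⟩, hT (Subgroup.mem_subgroupOf.mpr hy), rfl⟩
  obtain ⟨-, -, -, -, h5, h6⟩ := Cfsg.Agent.S2835.result L₀ hL₀ T Y hYT hmin
  have hYc : ∀ a ∈ Y, ∀ b ∈ Y, a * b = b * a := by
    intro a ha b hb
    exact congrArg Subtype.val (hYel.1.is_comm.comm ⟨a, ha⟩ ⟨b, hb⟩)
  exact main hchar Y hYc hYel.2 hOY A hA g (h5 g hg) (h6 hYel.1 g hg)

end Cfsg.Agent.S2837
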