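import Cfsg.Statements.S2838
import Cfsg.Agent.Lib.Helper18.WeakClosed

set_option autoImplicit false
open Cfsg

namespace Cfsg.Agent.S2838

open Cfsg.Agent.Lib.Helper18
open scoped commutatorElement

/-- For a nontrivial p-subgroup Q of a finite group H the following are equivalent: Q is a weakly closed subgroup (it is the only H-conjugate of itself inside some Sylow p-subgroup containing it); Q = P for every conjugate P of Q with [Q, P] ≤ Q ∩ P; Q is normal in N_H(R) for every p-subgroup R of H containing Q. -/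
theorem result {H : Type*} [Group H] [Finite H] {p : ℕ} [Fact p.Prime] (Q : Subgroup H) (hQp : IsPGroup p ↥Q) (hQ1 : Q ≠ ⊥) : (Cfsg.IsWeaklyClosedSubgroup p Q ↔ ∀ g : H, ⁅Q, ((Q : Subgroup H).map (MulAut.conj (g : H)).toMonoidHom)⁆ ≤ Q ⊓ ((Q : Subgroup H).map (MulAut.conj (g : H)).toMonoidHom) → ((Q : Subgroup H).map (MulAut.conj (g : H)).toMonoidHom) = Q) ∧ (Cfsg.IsWeaklyClosedSubgroup p Q ↔ ∀ R : Subgroup H, IsPGroup p ↥R → Q ≤ R → Subgroup.normalizer ((R : Subgroup H) : Set H) ≤ Subgroup.normalizer ((Q : Subgroup H) : Set H)) := by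
  refine ⟨⟨?_, ?_⟩, ⟨?_, ?_⟩⟩
  · intro hwc g hcomm
    have h1 : Q.map (MulAut.conj g).toMonoidHom ≤ Subgroup.normalizer (Q : Set H) := by
      apply le_normalizer_of_forall_map_conj_le
      rintro x hx _ ⟨q, hq, rfl⟩
      simp only [MulEquiv.coe_toMonoidHom, MulAut.conj_apply]
      have h2 : ⁅q⁻¹, x⁆ ∈ Q := (hcomm (Subgroup.commutator_mem_commutator (Q.inv_mem hq) hx)).1
      have e : x * q * x⁻¹ = q * ⁅q⁻¹, x⁆ := by rw [commutatorElement_def]; group
      rw [e]; exact Q.mul_mem hq h2
    have hR : IsPGroup p (Q ⊔ Q.map (MulAut.conj g).toMonoidHom : Subgroup H) :=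
      hQp.to_sup_of_normal_left' (hQp.map _) h1
    exact wcs_eq_of_le hwc hR le_sup_left le_sup_right
  · intro hyp
    have hyp' : ∀ g : H, Q.map (MulAut.conj g).toMonoidHom ≤ Subgroup.normalizer (Q : Set H) →
        Q ≤ Subgroup.normalizer ((Q.map (MulAut.conj g).toMonoidHom : Subgroup H) : Set H) →
        Q.map (MulAut.conj g).toMonoidHom = Q := by
      intro g h1 h2
      exact hyp g (le_inf (commutator_le_of_le_normalizer' h1) (commutator_le_of_le_normalizer h2))
    obtain ⟨T, hQT⟩ := hQp.exists_le_sylow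
    have hSL : ∀ a : H, Q.map (MulAut.conj a).toMonoidHom ≤ T →
        (T : Subgroup H) ≤ Subgroup.normalizer ((Q.map (MulAut.conj a).toMonoidHom : Subgroup H) : Set H) := by
      intro a ha
      by_contra hcon
      set Q₁ := Q.map (MulAut.conj a).toMonoidHom with hQ₁
      set M := (T : Subgroup H) ⊓ Subgroup.normalizer (Q₁ : Set H) with hM
      have hlt : M < (T : Subgroup H) := lt_of_le_of_ne inf_le_left (fun e => hcon (e ▸ inf_le_right))
      obtain ⟨t, htT, htM, htn⟩ := exists_mem_normalizer_not_mem T.isPGroup' hlt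
      have hQ₁M : Q₁ ≤ M := le_inf ha Subgroup.le_normalizer
      have hMt : M.map (MulAut.conj t).toMonoidHom = M := map_conj_eq_of_mem_normalizer M htM
      have h1 : Q₁.map (MulAut.conj t).toMonoidHom ≤ Subgroup.normalizer (Q₁ : Set H) := by
        have : Q₁.map (MulAut.conj t).toMonoidHom ≤ M := by
          rw [← hMt]; exact Subgroup.map_mono hQ₁M
        exact this.trans inf_le_right
      have h2 : Q₁ ≤ Subgroup.normalizer ((Q₁.map (MulAut.conj t).toMonoidHom : Subgroup H) : Set H) := by
        intro x hx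
        have hx' : x ∈ M.map (MulAut.conj t).toMonoidHom := by rw [hMt]; exact hQ₁M hx
        rw [mem_map_conj_iff] at hx'
        have h3 := conj_mem_normalizer_map_conj (R := Q₁) hx'.2 t
        have e : t * (t⁻¹ * x * t) * t⁻¹ = x := by group
        rw [e] at h3
        exact h3
      -- conjugate back by a⁻¹
      have eQ : Q₁.map (MulAut.conj a⁻¹).toMonoidHom = Q := by
        rw [hQ₁, ← map_conj_mul, inv_mul_cancel, map_conj_one]
      have eQ' : (Q₁.map (MulAut.conj t).toMonoidHom).map (MulAut.conj a⁻¹).toMonoidHom =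
          Q.map (MulAut.conj (a⁻¹ * t * a)).toMonoidHom := by
        rw [hQ₁, ← map_conj_mul, ← map_conj_mul, mul_assoc]
      have h4 : Q.map (MulAut.conj (a⁻¹ * t * a)).toMonoidHom ≤ Subgroup.normalizer (Q : Set H) := by
        rw [← eQ']
        rintro _ ⟨y, hy, rfl⟩
        simp only [MulEquiv.coe_toMonoidHom, MulAut.conj_apply]
        have := conj_mem_normalizer_map_conj (h1 hy) a⁻¹
        rw [eQ] at this
        exact this
      have h5 : Q ≤ Subgroup.normalizer
          ((Q.map (MulAut.conj (a⁻¹ * t * a)).toMonoidHom : Subgroup H) : Set H) := by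
        rw [← eQ']
        intro q hq
        have hq' : a * q * a⁻¹ ∈ Q₁ := conj_mem_map_conj Q a hq
        have := conj_mem_normalizer_map_conj (h2 hq') a⁻¹
        have e : a⁻¹ * (a * q * a⁻¹) * a⁻¹⁻¹ = q := by group
        rw [e] at this
        exact this
      have h6 := hyp' _ h4 h5
      apply htn
      refine Subgroup.mem_inf.mpr ⟨htT, ?_⟩
      apply mem_normalizer_of_map_conj_eq
      have e7 : Q₁.map (MulAut.conj t).toMonoidHom =
          (Q.map (MulAut.conj (a⁻¹ * t * a)).toMonoidHom).map (MulAut.conj a).toMonoidHom := by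
        rw [hQ₁, ← map_conj_mul, ← map_conj_mul]
        congr 3
        group
      rw [e7, h6]
    refine ⟨T, hQT, ?_⟩
    intro g hg
    have h1 := hSL 1 (by rw [map_conj_one]; exact hQT)
    rw [map_conj_one] at h1
    exact hyp' g (hg.trans h1) (hQT.trans (hSL g hg))
  · intro hwc R hR hQR n hn
    apply mem_normalizer_of_map_conj_eq
    apply wcs_eq_of_le hwc hR hQR
    rw [← map_conj_eq_of_mem_normalizer R hn]
    exact Subgroup.map_mono hQR
  · intro hyp
    obtain ⟨T, hQT⟩ := hQp.exists_le_sylow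
    refine ⟨T, hQT, ?_⟩
    intro g hg
    have hT : (T : Subgroup H) ≤ Subgroup.normalizer (Q : Set H) :=
      Subgroup.le_normalizer.trans (hyp T T.isPGroup' hQT)
    have hQT₁ : Q ≤ (sylowConj T g⁻¹ : Subgroup H) := by
      rw [coe_sylowConj, ← map_conj_le_iff]; exact hg
    have hT₁ : (sylowConj T g⁻¹ : Subgroup H) ≤ Subgroup.normalizer (Q : Set H) :=
      Subgroup.le_normalizer.trans (hyp _ (sylowConj T g⁻¹).isPGroup' hQT₁)
    obtain ⟨n, hn, e⟩ := exists_conj_eq_of_sylow_le T (sylowConj T g⁻¹) hT hT₁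
    rw [coe_sylowConj] at e
    have h2 : (T : Subgroup H).map (MulAut.conj (g * n)).toMonoidHom = T := by
      rw [map_conj_mul, ← e, ← map_conj_mul, mul_inv_cancel, map_conj_one]
    have h3 : g * n ∈ Subgroup.normalizer (Q : Set H) :=
      hyp T T.isPGroup' hQT (mem_normalizer_of_map_conj_eq _ h2)
    have h4 : g ∈ Subgroup.normalizer (Q : Set H) := by
      have e2 : g = (g * n) * n⁻¹ := by group
      rw [e2]; exact Subgroup.mul_mem _ h3 (Subgroup.inv_mem _ hn)
    exact map_conj_eq_of_mem_normalizer Q h4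

end Cfsg.Agent.S2838
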