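import Cfsg.Statements.S2839
import Cfsg.Agent.Lib.Helper18.WeakClosed

set_option autoImplicit false
open Cfsg

namespace Cfsg.Agent.S2839

open Cfsg.Agent.Lib.Helper18

/-- Let Q be a nontrivial p-subgroup of the finite group H that is a weakly closed subgroup, K a subgroup containing Q and N a normal subgroup of H. Then Q is a weakly closed subgroup of K; every H-conjugate of Q contained in K is a K-conjugate of Q; N_K(Q) contains a Sylow p-subgroup of K; N = N_N(Q)·O^p(N); and QN/N is a weakly closed subgroup of H/N. -/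
theorem result {H : Type*} [Group H] [Finite H] {p : ℕ} [Fact p.Prime] (Q : Subgroup H) (hQp : IsPGroup p ↥Q) (hQ1 : Q ≠ ⊥) (hwc : Cfsg.IsWeaklyClosedSubgroup p Q) (K : Subgroup H) (hQK : Q ≤ K) (N' : Subgroup H) [N'.Normal] : Cfsg.IsWeaklyClosedSubgroup p (Q.subgroupOf K) ∧ (∀ g : H, ((Q : Subgroup H).map (MulAut.conj (g : H)).toMonoidHom) ≤ K → ∃ k ∈ K, ((Q : Subgroup H).map (MulAut.conj (g : H)).toMonoidHom) = ((Q : Subgroup H).map (MulAut.conj (k : H)).toMonoidHom)) ∧ Cfsg.IsParabolic p ((Subgroup.normalizer ((Q : Subgroup H) : Set H)).subgroupOf K) ∧ (N' ⊓ Subgroup.normalizer ((Q : Subgroup H) : Set H)) ⊔ (Cfsg.pResidual p ↥N').map N'.subtype = N' ∧ Cfsg.IsWeaklyClosedSubgroup p (Q.map (QuotientGroup.mk' N')) := by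
  refine ⟨wcs_subgroupOf hwc hQK, fun g hg => wcs_exists_conj_eq hwc hQK hg, ?_, ?_, ?_⟩
  · obtain ⟨S, hS⟩ := (hQp.comap_subtype (K := K)).exists_le_sylow
    refine ⟨S, ?_⟩
    intro x hx
    show (x : H) ∈ Subgroup.normalizer (Q : Set H)
    have hQS : Q ≤ (S : Subgroup K).map K.subtype := by
      intro q hq
      exact ⟨⟨q, hQK hq⟩, hS hq, rfl⟩
    exact wcs_le_normalizer_of_le hwc (S.isPGroup'.map _) hQS ⟨x, hx, rfl⟩
  · rw [map_pResidual_subtype]
    apply le_antisymm (sup_le inf_le_left (pResOf_le p N'))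
    intro n hn
    have hQN : Q ≤ Subgroup.normalizer (N' : Set H) := by
      rw [Subgroup.normalizer_eq_top N']; exact le_top
    obtain ⟨R, hR, hQR⟩ := exists_isSylowIn_ge hQp (le_sup_left : Q ≤ Q ⊔ N')
    have e := hR.pResOf_sup
    rw [pResOf_sup_eq hQp hQN, sup_comm] at e
    have hRM : R ≤ Subgroup.normalizer (pResOf p N' : Set H) := by
      refine le_trans ?_ (normalizer_le_normalizer_pResOf p N')
      rw [Subgroup.normalizer_eq_top N']; exact le_top
    have hn' : n ∈ R ⊔ pResOf p N' := by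
      rw [e]; exact le_sup_right (a := Q) hn
    obtain ⟨r, hr, m, hm, rfl⟩ := mem_sup_of_le_normalizer hRM hn'
    have hmN : m ∈ N' := pResOf_le p N' hm
    have hrN : r ∈ N' := by
      have e2 : r = r * m * m⁻¹ := by group
      rw [e2]; exact N'.mul_mem hn (N'.inv_mem hmN)
    have hrQ : r ∈ Subgroup.normalizer (Q : Set H) :=
      wcs_le_normalizer_of_le hwc hR.2.1 hQR hr
    exact Subgroup.mul_mem _
      (le_sup_left (b := pResOf p N') (Subgroup.mem_inf.mpr ⟨hrN, hrQ⟩))
      (le_sup_right (a := N' ⊓ Subgroup.normalizer (Q : Set H)) hm)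
  · obtain ⟨T, hQT, hT⟩ := hwc
    refine ⟨T.mapSurjective (QuotientGroup.mk'_surjective N'), ?_, ?_⟩
    · rw [Sylow.coe_mapSurjective]; exact Subgroup.map_mono hQT
    · intro gbar hgbar
      obtain ⟨g, rfl⟩ := QuotientGroup.mk'_surjective N' gbar
      have e : ∀ y : H, (Q.map (QuotientGroup.mk' N')).map
          (MulAut.conj (QuotientGroup.mk' N' y)).toMonoidHom =
          (Q.map (MulAut.conj y).toMonoidHom).map (QuotientGroup.mk' N') := by
        intro y
        rw [Subgroup.map_map, Subgroup.map_map]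
        congr 1
      rw [e] at hgbar ⊢
      rw [Sylow.coe_mapSurjective, Subgroup.map_le_map_iff, QuotientGroup.ker_mk'] at hgbar
      obtain ⟨x, hx, hle⟩ := exists_conj_le_of_sylow_le (hQp.map _) hgbar T le_sup_left
      have h3 : Q.map (MulAut.conj (x⁻¹ * g)).toMonoidHom ≤ T := by
        rw [map_conj_mul, map_conj_le_iff, inv_inv]; exact hle
      have h4 := hT (x⁻¹ * g) h3
      have e1 : g = x * (x⁻¹ * g) := by group
      have h5 : Q.map (MulAut.conj g).toMonoidHom = Q.map (MulAut.conj x).toMonoidHom := by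
        conv_lhs => rw [e1, map_conj_mul, h4]
      rw [sup_comm] at hx
      obtain ⟨n, hn, t, ht, rfl⟩ := Subgroup.mem_sup_of_normal_left.mp hx
      have h6 : Q.map (MulAut.conj t).toMonoidHom = Q := by
        apply hT t
        rintro _ ⟨q, hq, rfl⟩
        simp only [MulEquiv.coe_toMonoidHom, MulAut.conj_apply]
        exact Subgroup.mul_mem _ (Subgroup.mul_mem _ ht (hQT hq)) (Subgroup.inv_mem _ ht)
      rw [h5, map_conj_mul, h6, ← e n]
      have h7 : QuotientGroup.mk' N' n = 1 := by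
        rw [QuotientGroup.mk'_apply]; exact (QuotientGroup.eq_one_iff n).mpr hn
      rw [h7, map_conj_one]

end Cfsg.Agent.S2839
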