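import Cfsg.Statements.S2840
import Cfsg.Agent.Lib.Helper18.WeakClosed

set_option autoImplicit false
open Cfsg

namespace Cfsg.Agent.S2840

open Cfsg.Agent.Lib.Helper18

/-- Let Q be a nontrivial p-subgroup of the finite group H that is a weakly closed subgroup and K a subgroup containing Q; let K° be the weak closure of Q in K (generated by the H-conjugates of Q inside K). Then K° is generated by the K-conjugates of Q, and K° is the subnormal closure of Q in K. -/
theorem result {H : Type*} [Group H] [Finite H] {p : ℕ} [Fact p.Prime] (Q : Subgroup H) (hQp : IsPGroup p ↥Q) (hQ1 : Q ≠ ⊥) (hwc : Cfsg.IsWeaklyClosedSubgroup p Q) (K : Subgroup H) (hQK : Q ≤ K) (Kc : Subgroup H) (hKc : Kc = Cfsg.weakClosure Q K) : Kc = ⨆ k : ↥K, ((Q : Subgroup H).map (MulAut.conj ((k : H) : H)).toMonoidHom) ∧ Kc = (Cfsg.subnormalClosure (Q.subgroupOf K)).map K.subtype := by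
  have part1 : Kc = ⨆ k : ↥K, ((Q : Subgroup H).map (MulAut.conj ((k : H) : H)).toMonoidHom) := by
    rw [hKc]
    unfold Cfsg.weakClosure
    apply le_antisymm
    · apply iSup_le
      rintro ⟨g, hg⟩
      obtain ⟨k, hk, e⟩ := wcs_exists_conj_eq hwc hQK hg
      show Q.map (MulAut.conj g).toMonoidHom ≤ _
      rw [e]
      exact le_iSup (fun k : K => Q.map (MulAut.conj (k : H)).toMonoidHom) ⟨k, hk⟩
    · apply iSup_le
      intro k
      have hk : Q.map (MulAut.conj (k : H)).toMonoidHom ≤ K := by
        rintro _ ⟨q, hq, rfl⟩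
        simp only [MulEquiv.coe_toMonoidHom, MulAut.conj_apply]
        exact K.mul_mem (K.mul_mem k.2 (hQK hq)) (K.inv_mem k.2)
      exact le_iSup (fun g : {g : H // Q.map (MulAut.conj g).toMonoidHom ≤ K} =>
        Q.map (MulAut.conj (g : H)).toMonoidHom) ⟨(k : H), hk⟩
  refine ⟨part1, ?_⟩
  have hwcK := wcs_subgroupOf hwc hQK
  set QK := Q.subgroupOf K with hQKdef
  set J : Subgroup K := ⨆ k : K, QK.map (MulAut.conj k).toMonoidHom with hJ
  have hQJ : QK ≤ J := by
    have := le_iSup (fun k : K => QK.map (MulAut.conj k).toMonoidHom) 1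
    rw [map_conj_one] at this
    exact this
  have hJn : J.Normal := by
    refine ⟨fun n hn g => ?_⟩
    have h1 : J.map (MulAut.conj g).toMonoidHom ≤ J := by
      rw [hJ, Subgroup.map_iSup]
      apply iSup_le
      intro k
      rw [← map_conj_mul]
      exact le_iSup (fun k : K => QK.map (MulAut.conj k).toMonoidHom) (g * k)
    exact h1 (conj_mem_map_conj J g hn)
  have hclosure : Cfsg.subnormalClosure QK = J := by
    apply le_antisymm
    · exact subnormalClosure_le hQJ hJn.isSubnormal
    · unfold Cfsg.subnormalClosure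
      apply le_sInf
      rintro X ⟨hQX, hX⟩
      have key : ∀ k : K, QK.map (MulAut.conj k).toMonoidHom ≤ X := by
        induction hX with
        | top => intro k; exact le_top
        | step X Y hXY hY hXn ih =>
          intro k
          have h1 := ih (hQX.trans hXY) k
          obtain ⟨y, hy, e⟩ := wcs_exists_conj_eq hwcK (hQX.trans hXY) h1
          rw [e]
          rintro _ ⟨q, hq, rfl⟩
          simp only [MulEquiv.coe_toMonoidHom, MulAut.conj_apply]
          have h2 : (⟨q, hXY (hQX hq)⟩ : Y) ∈ X.subgroupOf Y := hQX hq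
          have h3 := hXn.conj_mem _ h2 ⟨y, hy⟩
          exact h3
      rw [hJ]
      exact iSup_le key
  rw [hclosure, part1, hJ, Subgroup.map_iSup]
  congr 1
  ext k : 1
  rw [map_subtype_map_conj, hQKdef, Subgroup.subgroupOf_map_subtype, inf_eq_left.mpr hQK]

end Cfsg.Agent.S2840
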