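import Cfsg.Statements.S2841
import Cfsg.Agent.Lib.Helper18.WeakClosed

set_option autoImplicit false
open Cfsg

namespace Cfsg.Agent.S2841

open Cfsg.Agent.Lib.Helper18
open scoped commutatorElement

/-- Let Q be a nontrivial p-subgroup of the finite group H that is a weakly closed subgroup and N a normal subgroup of H. Then N = N_N(Q)·[N, Q] and [N, Q] = (Q ∩ [N, Q])·[N, Q, Q]. -/
theorem result {H : Type*} [Group H] [Finite H] {p : ℕ} [Fact p.Prime] (Q : Subgroup H) (hQp : IsPGroup p ↥Q) (hQ1 : Q ≠ ⊥) (hwc : Cfsg.IsWeaklyClosedSubgroup p Q) (N' : Subgroup H) [N'.Normal] : (∀ n : H, n ∈ N' → ∃ a ∈ N' ⊓ Subgroup.normalizer ((Q : Subgroup H) : Set H), ∃ b ∈ ⁅N', Q⁆, n = a * b) ∧ (∀ c : H, c ∈ ⁅N', Q⁆ → ∃ a ∈ Q ⊓ ⁅N', Q⁆, ∃ b ∈ ⁅⁅N', Q⁆, Q⁆, c = a * b) := by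
  set L := ⁅N', Q⁆ with hL
  have hQN : Q ≤ Subgroup.normalizer (N' : Set H) := by
    rw [Subgroup.normalizer_eq_top N']; exact le_top
  have hLN : L ≤ N' := commutator_le_of_le_normalizer' hQN
  have hNL : N' ≤ Subgroup.normalizer (L : Set H) := le_normalizer_commutator_left N' Q
  have hQL : Q ≤ Subgroup.normalizer (L : Set H) := le_normalizer_commutator_right N' Q
  have partA : ∀ n : H, n ∈ N' → ∃ a ∈ N' ⊓ Subgroup.normalizer ((Q : Subgroup H) : Set H),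
      ∃ b ∈ L, n = a * b := by
    intro n hn
    have hle : Q.map (MulAut.conj n).toMonoidHom ≤ Q ⊔ L := by
      rintro _ ⟨q, hq, rfl⟩
      simp only [MulEquiv.coe_toMonoidHom, MulAut.conj_apply]
      have e : n * q * n⁻¹ = ⁅n, q⁆ * q := by rw [commutatorElement_def]; group
      rw [e]
      exact Subgroup.mul_mem _ (le_sup_right (a := Q) (Subgroup.commutator_mem_commutator hn hq))
        (le_sup_left (b := L) hq)
    obtain ⟨k, hk, hconj⟩ := wcs_exists_conj_eq hwc (le_sup_left : Q ≤ Q ⊔ L) hle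
    obtain ⟨q₀, hq₀, l, hl, rfl⟩ := mem_sup_of_le_normalizer hQL hk
    have hl' : q₀ * l * q₀⁻¹ ∈ L := (Subgroup.mem_normalizer_iff.mp (hQL hq₀) l).mp hl
    have e1 : q₀ * l = (q₀ * l * q₀⁻¹) * q₀ := by group
    rw [e1, map_conj_mul, map_conj_eq_of_mem_normalizer Q (Subgroup.le_normalizer hq₀)] at hconj
    set l' := q₀ * l * q₀⁻¹ with hl'def
    have h2 : Q.map (MulAut.conj (l'⁻¹ * n)).toMonoidHom = Q := by
      rw [map_conj_mul, hconj, ← map_conj_mul, inv_mul_cancel, map_conj_one]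
    have ha1 : l'⁻¹ * n ∈ Subgroup.normalizer (Q : Set H) := mem_normalizer_of_map_conj_eq Q h2
    have ha2 : l'⁻¹ * n ∈ N' := N'.mul_mem (N'.inv_mem (hLN hl')) hn
    refine ⟨l'⁻¹ * n, Subgroup.mem_inf.mpr ⟨ha2, ha1⟩, (l'⁻¹ * n)⁻¹ * l' * (l'⁻¹ * n)⁻¹⁻¹, ?_, ?_⟩
    · exact (Subgroup.mem_normalizer_iff.mp (hNL (N'.inv_mem ha2)) l').mp hl'
    · group
  refine ⟨partA, ?_⟩
  set L₂ := ⁅L, Q⁆ with hL₂
  have hQL₂ : Q ≤ Subgroup.normalizer (L₂ : Set H) := le_normalizer_commutator_right L Q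
  have hLM : L ≤ (Q ⊓ L) ⊔ L₂ := by
    rw [hL, Subgroup.commutator_le]
    intro n hn q hq
    obtain ⟨a, ha, b, hb, rfl⟩ := partA n hn
    obtain ⟨haN, haQ⟩ := Subgroup.mem_inf.mp ha
    have e : ⁅a * b, q⁆ = (a * ⁅b, q⁆ * a⁻¹) * ⁅a, q⁆ := by
      simp only [commutatorElement_def]; group
    rw [e]
    have h1 : ⁅a, q⁆ ∈ Q ⊓ L := by
      refine Subgroup.mem_inf.mpr ⟨?_, Subgroup.commutator_mem_commutator haN hq⟩
      rw [commutatorElement_def]
      exact Q.mul_mem ((Subgroup.mem_normalizer_iff.mp haQ q).mp hq) (Q.inv_mem hq)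
    have h2 : a * ⁅b, q⁆ * a⁻¹ ∈ L₂ := by
      have haL₂ : a ∈ Subgroup.normalizer (L₂ : Set H) := by
        apply mem_normalizer_of_map_conj_eq
        rw [hL₂, Subgroup.map_commutator, map_conj_eq_of_mem_normalizer L (hNL haN),
          map_conj_eq_of_mem_normalizer Q haQ]
      exact (Subgroup.mem_normalizer_iff.mp haL₂ _).mp (Subgroup.commutator_mem_commutator hb hq)
    exact Subgroup.mul_mem _ (le_sup_right (a := Q ⊓ L) h2) (le_sup_left (b := L₂) h1)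
  intro c hc
  exact mem_sup_of_le_normalizer (inf_le_left.trans hQL₂) (hLM hc)

end Cfsg.Agent.S2841
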