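import Cfsg.Statements.S2842
import Cfsg.Agent.Lib.Helper18.WCChar

set_option autoImplicit false
open Cfsg

namespace Cfsg.Agent.S2842

open Cfsg.Agent.Lib.Helper18
open scoped commutatorElement

theorem core {H : Type*} [Group H] [Finite H] {p : ℕ} [Fact p.Prime] {Q L : Subgroup H}
    (hwc : Cfsg.IsWeaklyClosedSubgroup p Q) (hCQ : Subgroup.centralizer (Q : Set H) ≤ Q)
    (hQL : Q ≤ L) {y : H} (hyP : y ∈ Cfsg.pCoreOf p L)
    (hyQ : y ∈ Subgroup.centralizer (Q : Set H))
    (hK : Cfsg.Agent.Lib.Helper18.CharP p (Subgroup.centralizer ({y} : Set H))) :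
    ⁅Q, Subgroup.centralizer (Cfsg.pCoreOf p L : Set H)⁆ ≤ Q ⊓ Cfsg.pCoreOf p L ∧
      IsPGroup p (Subgroup.centralizer (Cfsg.pCoreOf p L : Set H)) ∧
      Cfsg.Agent.Lib.Helper18.CharP p L := by
  have hQp := wcs_isPGroup hwc
  have hPp : IsPGroup p (Cfsg.pCoreOf p L) := pCoreOf_isPGroup p L
  have hLP : L ≤ Subgroup.normalizer (Cfsg.pCoreOf p L : Set H) := le_normalizer_pCoreOf p L
  have hQK : Q ≤ Subgroup.centralizer ({y} : Set H) := by
    intro q hq
    exact mem_centralizer_singleton_iff.mpr (Subgroup.mem_centralizer_iff.mp hyQ q hq).symm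
  have hCK : Subgroup.centralizer (Cfsg.pCoreOf p L : Set H) ≤ Subgroup.centralizer ({y} : Set H) :=
    Subgroup.centralizer_le (Set.singleton_subset_iff.mpr hyP)
  -- `L` has characteristic `p`
  have hcharL : L ⊓ Subgroup.centralizer (Cfsg.pCoreOf p L : Set H) ≤ Cfsg.pCoreOf p L := by
    have hLy : Cfsg.Agent.Lib.Helper18.CharP p (L ⊓ Subgroup.centralizer ({y} : Set H)) :=
      charP_of_wcs hK hwc hCQ (le_inf hQL hQK) inf_le_right
    have hCL : Cfsg.Agent.Lib.Helper18.CharP p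
        (L ⊓ Subgroup.centralizer (Cfsg.pCoreOf p L : Set H)) :=
      charP_of_normalized hLy (inf_le_inf_left _ hCK)
        ((pCoreOf_le p _).trans (inf_le_left.trans (le_normalizer_inf_centralizer_pCoreOf p L)))
    intro x hx
    have h1 := pCoreOf_inf_centralizer_le p L
    apply h1
    apply hCL
    exact Subgroup.mem_inf.mpr ⟨hx,
      Subgroup.centralizer_le (SetLike.coe_subset_coe.mpr h1) (Subgroup.mem_inf.mp hx).2⟩
  -- `C(P)` has characteristic `p`
  have hcharC : Cfsg.Agent.Lib.Helper18.CharP p (Subgroup.centralizer (Cfsg.pCoreOf p L : Set H)) := by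
    have hX : Cfsg.Agent.Lib.Helper18.CharP p
        (Subgroup.normalizer (Cfsg.pCoreOf p L : Set H) ⊓ Subgroup.centralizer ({y} : Set H)) :=
      charP_of_wcs hK hwc hCQ (le_inf (hQL.trans hLP) hQK) inf_le_right
    exact charP_of_normalized hX (le_inf (Subgroup.centralizer_le_normalizer _) hCK)
      ((pCoreOf_le p _).trans (inf_le_left.trans (normalizer_le_normalizer_centralizer _)))
  have hQC : Q ≤ Subgroup.normalizer (Subgroup.centralizer (Cfsg.pCoreOf p L : Set H) : Set H) :=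
    hQL.trans (hLP.trans (normalizer_le_normalizer_centralizer _))
  have hDp : IsPGroup p (Cfsg.pCoreOf p (Subgroup.centralizer (Cfsg.pCoreOf p L : Set H))) :=
    pCoreOf_isPGroup p _
  have hQD : Q ≤ Subgroup.normalizer
      (Cfsg.pCoreOf p (Subgroup.centralizer (Cfsg.pCoreOf p L : Set H)) : Set H) :=
    hQC.trans (normalizer_le_normalizer_pCoreOf p _)
  have hDQ : Cfsg.pCoreOf p (Subgroup.centralizer (Cfsg.pCoreOf p L : Set H)) ≤
      Subgroup.normalizer (Q : Set H) :=
    le_sup_right.trans (wcs_le_normalizer_of_le hwc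
      (IsPGroup.to_sup_of_normal_right' hQp hDp hQD) le_sup_left)
  have hcomm : ⁅Cfsg.pCoreOf p (Subgroup.centralizer (Cfsg.pCoreOf p L : Set H)), Q⁆ ≤
      Subgroup.centralizer (Subgroup.centralizer (Cfsg.pCoreOf p L : Set H) : Set H) := by
    have h1 : ⁅Cfsg.pCoreOf p (Subgroup.centralizer (Cfsg.pCoreOf p L : Set H)), Q⁆ ≤
        L ⊓ Subgroup.centralizer (Cfsg.pCoreOf p L : Set H) :=
      le_inf ((commutator_le_of_le_normalizer hDQ).trans hQL)
        ((commutator_le_of_le_normalizer' hQD).trans (pCoreOf_le p _))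
    refine (h1.trans hcharL).trans ?_
    exact Subgroup.le_centralizer_iff.mp le_rfl
  have hstab := comm_mem_pCoreOf_of_stab hDp (le_normalizer_pCoreOf p _) hQD hQC hcomm
    (fun c hc hcop hcD => eq_one_of_mem_of_coprime hDp
      (hcharC (Subgroup.mem_inf.mpr ⟨hc, hcD⟩)) hcop)
  have hCQn : Subgroup.centralizer (Cfsg.pCoreOf p L : Set H) ≤ Subgroup.normalizer (Q : Set H) := by
    intro c hc
    apply mem_normalizer_of_map_conj_eq
    apply wcs_eq_of_le hwc (IsPGroup.to_sup_of_normal_right' hQp hDp hQD) le_sup_left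
    rintro _ ⟨q, hq, rfl⟩
    have e : (MulAut.conj c).toMonoidHom q = (c * q * c⁻¹ * q⁻¹) * q := by
      simp only [MulEquiv.coe_toMonoidHom, MulAut.conj_apply]; group
    rw [e]
    exact Subgroup.mul_mem _ (Subgroup.mem_sup_right (hstab c hc q hq)) (Subgroup.mem_sup_left hq)
  have hPQ : Cfsg.pCoreOf p L ≤ Subgroup.normalizer (Q : Set H) :=
    le_sup_right.trans (wcs_le_normalizer_of_le hwc
      (IsPGroup.to_sup_of_normal_right' hQp hPp (hQL.trans hLP)) le_sup_left)
  have hQCP : Q ⊓ Subgroup.centralizer (Cfsg.pCoreOf p L : Set H) ≤ Cfsg.pCoreOf p L :=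
    (inf_le_inf_right _ hQL).trans hcharL
  refine ⟨?_, ?_, hcharL⟩
  · have h1 : ⁅Q, Subgroup.centralizer (Cfsg.pCoreOf p L : Set H)⁆ ≤ Q :=
      commutator_le_of_le_normalizer' hCQn
    have h2 : ⁅Q, Subgroup.centralizer (Cfsg.pCoreOf p L : Set H)⁆ ≤
        Subgroup.centralizer (Cfsg.pCoreOf p L : Set H) := commutator_le_of_le_normalizer hQC
    exact le_inf h1 ((le_inf h1 h2).trans hQCP)
  · apply isPGroup_of_coprime_eq_one (fun c _ => isOfFinOrder_of_finite c)
    intro c hc hcop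
    have h1 : c ∈ Subgroup.centralizer (Q : Set H) := by
      apply centralizes_of_thompson hPp hQp hcop hc hPQ (hCQn hc)
      intro x hx
      rw [Subgroup.mem_centralizer_iff]
      intro u hu
      rw [Set.mem_singleton_iff] at hu; subst hu
      exact (Subgroup.mem_centralizer_iff.mp hc x (hQCP hx)).symm
    exact eq_one_of_mem_of_coprime hQp (hCQ h1) hcop


/-- Let Q be a nontrivial p-subgroup of the finite group H that is a weakly closed subgroup with C_H(Q) ≤ Q, and Q ≤ L ≤ H. Suppose H has characteristic p, or more generally that C_H(y) has characteristic p for some nonidentity y ∈ C_{O_p(L)}(Q). Then [Q, C_H(O_p(L))] ≤ Q ∩ O_p(L), C_H(O_p(L)) is a p-group, and L has characteristic p. -/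
theorem result {H : Type*} [Group H] [Finite H] {p : ℕ} [Fact p.Prime] (Q : Subgroup H) (hQp : IsPGroup p ↥Q) (hQ1 : Q ≠ ⊥) (hwc : Cfsg.IsWeaklyClosedSubgroup p Q) (hCQ : Subgroup.centralizer ((Q : Subgroup H) : Set H) ≤ Q) (L : Subgroup H) (hQL : Q ≤ L) (hyp : Subgroup.centralizer (Cfsg.pCore p H : Set H) ≤ Cfsg.pCore p H ∨ ∃ y : H, y ≠ 1 ∧ y ∈ (Cfsg.pCoreOf p L) ⊓ Subgroup.centralizer ((Q : Subgroup H) : Set H) ∧ Subgroup.centralizer (Cfsg.pCore p ↥(Subgroup.centralizer ({y} : Set H)) : Set ↥(Subgroup.centralizer ({y} : Set H))) ≤ Cfsg.pCore p ↥(Subgroup.centralizer ({y} : Set H))) : ⁅Q, Subgroup.centralizer (((Cfsg.pCoreOf p L) : Subgroup H) : Set H)⁆ ≤ Q ⊓ (Cfsg.pCoreOf p L) ∧ IsPGroup p ↥(Subgroup.centralizer (((Cfsg.pCoreOf p L) : Subgroup H) : Set H)) ∧ Subgroup.centralizer (Cfsg.pCore p ↥L : Set ↥L) ≤ Cfsg.pCore p ↥L := by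
  have hQp := wcs_isPGroup hwc
  have key : ∃ y : H, y ∈ Cfsg.pCoreOf p L ∧ y ∈ Subgroup.centralizer (Q : Set H) ∧
      Cfsg.Agent.Lib.Helper18.CharP p (Subgroup.centralizer ({y} : Set H)) := by
    rcases hyp with hH | ⟨y, -, hy, hchar⟩
    · have hDn : ∀ K : Subgroup H, K ≤ Subgroup.normalizer (Cfsg.pCore p H : Set H) :=
        fun K => by rw [Subgroup.normalizer_eq_top_iff.mpr (pCore_normal p H)]; exact le_top
      have hE1 : Cfsg.pCore p H ≠ ⊥ := by
        intro hE
        apply hQ1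
        rw [eq_bot_iff, ← hE]
        intro q _
        apply hH
        rw [hE, Subgroup.mem_centralizer_iff]
        intro h hh
        have h1 : h = 1 := by simpa using hh
        rw [h1]; simp
      obtain ⟨z, hzE, hzo, hzc⟩ := exists_fixed_of_le_normalizer hQp (pCore_isPGroup p H) hE1 (hDn Q)
      have hzQ : z ∈ Subgroup.centralizer (Q : Set H) := Subgroup.mem_centralizer_iff.mpr hzc
      refine ⟨z, ?_, hzQ, ?_⟩
      · have h1 : Cfsg.pCore p H ⊓ L ≤ Cfsg.pCoreOf p L := by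
          refine le_pCoreOf inf_le_right ?_ ((pCore_isPGroup p H).to_le inf_le_left)
          exact (le_inf (hDn L) Subgroup.le_normalizer).trans (normalizer_inf_le _ _)
        exact h1 (Subgroup.mem_inf.mpr ⟨hzE, hQL (hCQ hzQ)⟩)
      · exact charP_centralizer_singleton hH ⟨1, by rw [pow_one, ← hzo]; exact pow_orderOf_eq_one z⟩
    · exact ⟨y, (Subgroup.mem_inf.mp hy).1, (Subgroup.mem_inf.mp hy).2, (charP_iff p _).mp hchar⟩
  obtain ⟨y, hyP, hyQ, hK⟩ := key
  obtain ⟨h1, h2, h3⟩ := core hwc hCQ hQL hyP hyQ hK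
  exact ⟨h1, h2, (charP_iff p L).mpr h3⟩

end Cfsg.Agent.S2842
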