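import Cfsg.Statements.S2843
import Cfsg.Agent.Lib.Helper18.Large2
import Cfsg.Agent.Lib.Helper18.SylowRel

set_option autoImplicit false
open Cfsg

namespace Cfsg.Agent.S2843

open Cfsg.Agent.Lib.Helper18
open scoped commutatorElement


/-- Let Q be a nontrivial large p-subgroup of the finite group H, Q ≤ L ≤ H, and Y a nontrivial p-subgroup of H normalized by L. Let L° be the weak closure of Q in L (generated by the conjugates of Q inside L). Then L° equals the weak closure of Q in L·C_H(Y), and [L°, C_H(Y)] ≤ O_p(L°); in particular C_H(Y) normalizes L°. -/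
theorem result {H : Type*} [Group H] [Finite H] {p : ℕ} [Fact p.Prime] (Q : Subgroup H) (hQp : IsPGroup p ↥Q) (hQ1 : Q ≠ ⊥) (hL : Cfsg.IsLarge Q) (L : Subgroup H) (hQL : Q ≤ L) (Y : Subgroup H) (hYp : IsPGroup p ↥Y) (hY1 : Y ≠ ⊥) (hLY : L ≤ Subgroup.normalizer ((Y : Subgroup H) : Set H)) : Cfsg.weakClosure Q L = Cfsg.weakClosure Q (L ⊔ Subgroup.centralizer ((Y : Subgroup H) : Set H)) ∧ ⁅Cfsg.weakClosure Q L, Subgroup.centralizer ((Y : Subgroup H) : Set H)⁆ ≤ (Cfsg.pCoreOf p (Cfsg.weakClosure Q L)) ∧ Subgroup.centralizer ((Y : Subgroup H) : Set H) ≤ Subgroup.normalizer (((Cfsg.weakClosure Q L) : Subgroup H) : Set H) := by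
  have hCY : Subgroup.centralizer (Y : Set H) ≤ Subgroup.normalizer (Y : Set H) :=
    Subgroup.centralizer_le_normalizer _
  have hLC : L ≤ Subgroup.normalizer (Subgroup.centralizer (Y : Set H) : Set H) :=
    hLY.trans (normalizer_le_normalizer_centralizer Y)
  have hsupY : L ⊔ Subgroup.centralizer (Y : Set H) ≤ Subgroup.normalizer (Y : Set H) :=
    sup_le hLY hCY
  have hstep2 : ∀ g : H, Q.map (MulAut.conj g).toMonoidHom ≤ L ⊔ Subgroup.centralizer (Y : Set H) →
      Subgroup.centralizer (Y : Set H) ≤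
        Subgroup.normalizer ((Q.map (MulAut.conj g).toMonoidHom : Subgroup H) : Set H) := by
    intro g hg
    exact isLarge_centralizer_le_normalizer (hQp.map _) (isLarge_map_conj hL g) hYp hY1
      (hg.trans hsupY)
  have hQsup : Q ≤ L ⊔ Subgroup.centralizer (Y : Set H) := hQL.trans le_sup_left
  have hCQ : Subgroup.centralizer (Y : Set H) ≤ Subgroup.normalizer (Q : Set H) := by
    have h := hstep2 1 (by rw [map_conj_one]; exact hQsup)
    rwa [map_conj_one] at h
  have hstep3 : ∀ g : H, Q.map (MulAut.conj g).toMonoidHom ≤ L ⊔ Subgroup.centralizer (Y : Set H) →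
      ∃ l ∈ L, Q.map (MulAut.conj g).toMonoidHom = Q.map (MulAut.conj l).toMonoidHom := by
    intro g hg
    obtain ⟨S, hS, hRS⟩ := exists_isSylowIn_ge (hQp.map (MulAut.conj g).toMonoidHom) hg
    obtain ⟨x, hx, hQx⟩ := hS.exists_conj_le hQp hQsup
    have h1 : Q.map (MulAut.conj x⁻¹).toMonoidHom ≤ S := by
      rw [map_conj_le_iff, inv_inv]; exact hQx
    obtain ⟨l, hl, c, hc, e⟩ := mem_sup_of_le_normalizer hLC (Subgroup.inv_mem _ hx)
    rw [e, map_conj_mul, map_conj_eq_of_mem_normalizer Q (hCQ hc)] at h1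
    refine ⟨l, hl, ?_⟩
    have e2 : Q.map (MulAut.conj g).toMonoidHom =
        (Q.map (MulAut.conj l).toMonoidHom).map (MulAut.conj (g * l⁻¹)).toMonoidHom := by
      rw [← map_conj_mul, inv_mul_cancel_right]
    rw [e2]
    apply isLarge_conj_eq_of_le_pGroup (hQp.map _) (map_conj_ne_bot hQ1 l) (isLarge_map_conj hL l)
      hS.2.1 h1
    rw [← e2]; exact hRS
  have h4 : weakClosure Q L = weakClosure Q (L ⊔ Subgroup.centralizer (Y : Set H)) := by
    apply le_antisymm
    · exact weakClosure_le (fun g hg => conj_le_weakClosure (hg.trans le_sup_left))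
    · apply weakClosure_le
      intro g hg
      obtain ⟨l, hl, e⟩ := hstep3 g hg
      rw [e]
      apply conj_le_weakClosure
      rintro _ ⟨q, hq, rfl⟩
      exact L.mul_mem (L.mul_mem hl (hQL hq)) (L.inv_mem hl)
  have h5 : Subgroup.centralizer (Y : Set H) ≤
      Subgroup.normalizer ((weakClosure Q L : Subgroup H) : Set H) := by
    apply le_normalizer_of_forall_map_conj_le
    intro c hc
    exact mem_normalizer_weakClosure (fun g hg => hstep2 g (hg.trans le_sup_left) hc)
  refine ⟨h4, ?_, h5⟩
  rw [Subgroup.commutator_comm]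
  have key : ⁅Subgroup.centralizer (Y : Set H),
      ⨆ g : {g : H // Q.map (MulAut.conj g).toMonoidHom ≤ L},
        Q.map (MulAut.conj (g : H)).toMonoidHom⁆ ≤ pCoreOf p (weakClosure Q L) := by
    apply commutator_iSup_le
    · intro g
      exact (conj_le_weakClosure g.2).trans (le_normalizer_pCoreOf p _)
    · intro g
      have hgsup : Q.map (MulAut.conj (g : H)).toMonoidHom ≤
          L ⊔ Subgroup.centralizer (Y : Set H) := g.2.trans le_sup_left
      have ha : ⁅Subgroup.centralizer (Y : Set H), Q.map (MulAut.conj (g : H)).toMonoidHom⁆ ≤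
          Q.map (MulAut.conj (g : H)).toMonoidHom :=
        commutator_le_of_le_normalizer (hstep2 g.1 hgsup)
      have hb : ⁅Subgroup.centralizer (Y : Set H), Q.map (MulAut.conj (g : H)).toMonoidHom⁆ ≤
          Subgroup.centralizer (Y : Set H) :=
        commutator_le_of_le_normalizer' (g.2.trans hLC)
      have hc : Q.map (MulAut.conj (g : H)).toMonoidHom ⊓ Subgroup.centralizer (Y : Set H) ≤
          pCoreOf p (Subgroup.centralizer (Y : Set H)) := by
        refine le_pCoreOf inf_le_right ?_ ((hQp.map _).to_le inf_le_left)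
        exact (le_inf (hstep2 g.1 hgsup) Subgroup.le_normalizer).trans (normalizer_inf_le _ _)
      have hd : pCoreOf p (Subgroup.centralizer (Y : Set H)) ⊓ weakClosure Q L ≤
          pCoreOf p (weakClosure Q L) := by
        refine le_pCoreOf inf_le_right ?_ ((pCoreOf_isPGroup p _).to_le inf_le_left)
        refine (le_inf ?_ Subgroup.le_normalizer).trans (normalizer_inf_le _ _)
        exact (weakClosure_le_self Q L).trans (hLC.trans (normalizer_le_normalizer_pCoreOf p _))
      exact (le_inf ((le_inf ha hb).trans hc) (ha.trans (conj_le_weakClosure g.2))).trans hd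
  exact key

end Cfsg.Agent.S2843
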