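import Cfsg.Statements.S2844
import Cfsg.Agent.Lib.Helper18.Large

set_option autoImplicit false
open Cfsg

namespace Cfsg.Agent.S2844

open Cfsg.Agent.Lib.Helper18


/-- Let Q be a nontrivial large p-subgroup of the finite group H and Q• = O_p(N_H(Q)). Then for every g ∈ H outside N_H(Q): C_H(Q) ∩ C_H(gQg⁻¹) = 1, C_H(Q•) ∩ C_H(gQ•g⁻¹) = 1, Z(Q) ∩ Z(gQg⁻¹) = 1 and Z(Q•) ∩ Z(gQ•g⁻¹) = 1; moreover N_H(Q) = N_H(Q•) and Q• is large in H. -/
theorem result {H : Type*} [Group H] [Finite H] {p : ℕ} [Fact p.Prime] (Q : Subgroup H) (hQp : IsPGroup p ↥Q) (hQ1 : Q ≠ ⊥) (hL : Cfsg.IsLarge Q) (Qb : Subgroup H) (hQb : Qb = Cfsg.largeBullet p Q) : (∀ g : H, g ∉ Subgroup.normalizer ((Q : Subgroup H) : Set H) → Subgroup.centralizer ((Q : Subgroup H) : Set H) ⊓ Subgroup.centralizer ((((Q : Subgroup H).map (MulAut.conj (g : H)).toMonoidHom) : Subgroup H) : Set H) = ⊥ ∧ Subgroup.centralizer ((Qb : Subgroup H) : Set H) ⊓ Subgroup.centralizer ((((Qb : Subgroup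 H).map (MulAut.conj (g : H)).toMonoidHom) : Subgroup H) : Set H) = ⊥ ∧ (Q ⊓ Subgroup.centralizer ((Q : Subgroup H) : Set H)) ⊓ (((Q : Subgroup H).map (MulAut.conj (g : H)).toMonoidHom) ⊓ Subgroup.centralizer ((((Q : Subgroup H).map (MulAut.conj (g : H)).toMonoidHom) : Subgroup H) : Set H)) = ⊥ ∧ (Qb ⊓ Subgroup.centralizer ((Qb : Subgroup H) : Set H)) ⊓ (((Qb : Subgroup H).map (MulAut.conj (g : H)).toMonoidHom) ⊓ Subgroup.centralizer ((((Qb : Subgroup H).map (MulAut.conj (g : H)).toMonoidHom) : Subgroup H) : Set H)) = ⊥) ∧ Subgroup.normalizer ((Q : Subgroup H) : Set H) = Subgroup.normalizer ((Qb : Subgroup H) : Set H) ∧ Cfsg.IsLarge Qb := by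
  subst hQb
  unfold largeBullet
  have hQQb : Q ≤ pCoreOf p (Subgroup.normalizer (Q : Set H)) :=
    le_pCoreOf Subgroup.le_normalizer le_rfl hQp
  have hQbp : IsPGroup p (pCoreOf p (Subgroup.normalizer (Q : Set H))) := pCoreOf_isPGroup p _
  have hQb1 : pCoreOf p (Subgroup.normalizer (Q : Set H)) ≠ ⊥ :=
    fun h => hQ1 (le_bot_iff.mp (h ▸ hQQb))
  have hCle : Subgroup.centralizer ((pCoreOf p (Subgroup.normalizer (Q : Set H)) : Subgroup H) : Set H)
      ≤ Subgroup.centralizer (Q : Set H) :=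
    Subgroup.centralizer_le (SetLike.coe_subset_coe.mpr hQQb)
  have hCgle : ∀ g : H, Subgroup.centralizer
      (((pCoreOf p (Subgroup.normalizer (Q : Set H))).map (MulAut.conj g).toMonoidHom : Subgroup H) : Set H)
      ≤ Subgroup.centralizer ((Q.map (MulAut.conj g).toMonoidHom : Subgroup H) : Set H) :=
    fun g => Subgroup.centralizer_le (SetLike.coe_subset_coe.mpr (Subgroup.map_mono hQQb))
  have hmain : ∀ g : H, g ∉ Subgroup.normalizer (Q : Set H) →
      Subgroup.centralizer (Q : Set H) ⊓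
        Subgroup.centralizer ((Q.map (MulAut.conj g).toMonoidHom : Subgroup H) : Set H) = ⊥ := by
    intro g hg
    by_contra hne
    exact hg (isLarge_mem_normalizer_of_centralizer_inf_ne_bot hQp hQ1 hL g hne)
  have hNeq : Subgroup.normalizer (Q : Set H) =
      Subgroup.normalizer ((pCoreOf p (Subgroup.normalizer (Q : Set H)) : Subgroup H) : Set H) := by
    apply le_antisymm
    · exact Subgroup.le_normalizer.trans (normalizer_le_normalizer_pCoreOf p _)
    · exact (normalizer_le_normalizer_center _).trans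
        (hL.2 _ (inf_le_right.trans hCle) (center_ne_bot hQbp hQb1))
  refine ⟨fun g hg => ⟨hmain g hg, ?_, ?_, ?_⟩, hNeq,
    ⟨hCle.trans (hL.1.trans hQQb), fun U hU hU1 => (hL.2 U (hU.trans hCle) hU1).trans hNeq.le⟩⟩
  · rw [eq_bot_iff, ← hmain g hg]; exact inf_le_inf hCle (hCgle g)
  · rw [eq_bot_iff, ← hmain g hg]; exact inf_le_inf inf_le_right inf_le_right
  · rw [eq_bot_iff, ← hmain g hg]
    exact inf_le_inf (inf_le_right.trans hCle) (inf_le_right.trans (hCgle g))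

end Cfsg.Agent.S2844
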