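import Cfsg.Statements.S2845
import Cfsg.Agent.Lib.Helper18.Large3
import Cfsg.Agent.Lib.Helper18.SylowL

set_option autoImplicit false
open Cfsg

namespace Cfsg.Agent.S2845

open Cfsg.Agent.Lib.Helper18

theorem pCoreOf_ne_bot {H : Type*} [Group H] {p : ℕ} {L : Subgroup H}
    (h : Cfsg.pCore p ↥L ≠ ⊥) : Cfsg.pCoreOf p L ≠ ⊥ := by
  intro hb
  apply h
  unfold Cfsg.pCoreOf at hb
  exact (Subgroup.map_eq_bot_iff_of_injective _ (Subgroup.subtype_injective L)).mp hb


/-- Let Q be a nontrivial large p-subgroup of the finite group H. Then for every subgroup L ≥ Q with O_p(L) ≠ 1, C_H(O_p(L)) is a p-group and L has characteristic p, and either the weak closure L° of Q in L equals Q or C_H(L°) = 1; for every subgroup R of H containing a Sylow p-subgroup of H with O_p(R) ≠ 1, C_H(O_p(R)) ≤ O_p(R); and H has parabolic characteristic p. -/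
theorem result {H : Type*} [Group H] [Finite H] {p : ℕ} [Fact p.Prime] (Q : Subgroup H) (hQp : IsPGroup p ↥Q) (hQ1 : Q ≠ ⊥) (hL : Cfsg.IsLarge Q) : (∀ L : Subgroup H, Q ≤ L → Cfsg.pCore p ↥L ≠ ⊥ → IsPGroup p ↥(Subgroup.centralizer (((Cfsg.pCoreOf p L) : Subgroup H) : Set H)) ∧ Subgroup.centralizer (Cfsg.pCore p ↥L : Set ↥L) ≤ Cfsg.pCore p ↥L ∧ (Cfsg.weakClosure Q L = Q ∨ Subgroup.centralizer (((Cfsg.weakClosure Q L) : Subgroup H) : Set H) = ⊥)) ∧ (∀ R : Subgroup H, Cfsg.IsParabolic p R → Cfsg.pCore p ↥R ≠ ⊥ → Subgroup.centralizer (((Cfsg.pCoreOf p R) : Subgroup H) : Set H) ≤ (Cfsg.pCoreOf p R)) ∧ Cfsg.IsOfParabolicCharacteristic p H := by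
  have hconj : ∀ T : Sylow p H, ∃ Q' : Subgroup H, IsPGroup p Q' ∧ Q' ≠ ⊥ ∧ Cfsg.IsLarge Q' ∧
      Q' ≤ (T : Subgroup H) := by
    intro T
    obtain ⟨g, hg⟩ := exists_conj_le_sylow hQp T
    refine ⟨Q.map (MulAut.conj g⁻¹).toMonoidHom, hQp.map _, map_conj_ne_bot hQ1 _,
      isLarge_map_conj hL _, ?_⟩
    rw [map_conj_le_iff, inv_inv]; exact hg
  refine ⟨?_, ?_, ?_⟩
  · intro L hQL hne
    obtain ⟨h1, h2⟩ := isLarge_charP hQp hQ1 hL hQL (pCoreOf_ne_bot hne)
    refine ⟨h1, (charP_iff p L).mpr h2, ?_⟩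
    by_cases hw : Cfsg.weakClosure Q L = Q
    · exact Or.inl hw
    · right
      have hex : ∃ g : H, Q.map (MulAut.conj g).toMonoidHom ≤ L ∧
          Q.map (MulAut.conj g).toMonoidHom ≠ Q := by
        by_contra hcon
        push Not at hcon
        apply hw
        apply le_antisymm
        · exact weakClosure_le (fun g hg => (hcon g hg).le)
        · exact le_weakClosure hQL
      obtain ⟨g, hg, hgne⟩ := hex
      by_contra hne'
      apply hgne
      apply map_conj_eq_of_mem_normalizer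
      apply isLarge_mem_normalizer_of_centralizer_inf_ne_bot hQp hQ1 hL g
      intro hbot
      apply hne'
      rw [eq_bot_iff, ← hbot]
      exact le_inf
        (Subgroup.centralizer_le (SetLike.coe_subset_coe.mpr (le_weakClosure hQL)))
        (Subgroup.centralizer_le (SetLike.coe_subset_coe.mpr (conj_le_weakClosure hg)))
  · rintro R ⟨T, hTR⟩ hne
    obtain ⟨Q', hQ'p, hQ'1, hQ'L, hQ'T⟩ := hconj T
    obtain ⟨h1, h2⟩ := isLarge_charP hQ'p hQ'1 hQ'L (hQ'T.trans hTR) (pCoreOf_ne_bot hne)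
    have hTn : (T : Subgroup H) ≤ Subgroup.normalizer
        (Subgroup.centralizer (Cfsg.pCoreOf p R : Set H) : Set H) :=
      hTR.trans ((le_normalizer_pCoreOf p R).trans (normalizer_le_normalizer_centralizer _))
    have hsup : IsPGroup p (Subgroup.centralizer (Cfsg.pCoreOf p R : Set H) ⊔ (T : Subgroup H) :
        Subgroup H) := IsPGroup.to_sup_of_normal_left' h1 T.isPGroup' hTn
    have heq := T.is_maximal' hsup le_sup_right
    have hCT : Subgroup.centralizer (Cfsg.pCoreOf p R : Set H) ≤ (T : Subgroup H) := by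
      rw [← heq]; exact le_sup_left
    exact fun x hx => h2 (Subgroup.mem_inf.mpr ⟨hTR (hCT hx), hx⟩)
  · intro R hRp hR1 hpar
    obtain ⟨T, hTR⟩ := hpar
    obtain ⟨Q', hQ'p, hQ'1, hQ'L, hQ'T⟩ := hconj T
    have hR : R ≤ Cfsg.pCoreOf p (Subgroup.normalizer (R : Set H)) :=
      le_pCoreOf Subgroup.le_normalizer le_rfl hRp
    have hP1 : Cfsg.pCoreOf p (Subgroup.normalizer (R : Set H)) ≠ ⊥ :=
      fun h => hR1 (le_bot_iff.mp (h ▸ hR))
    obtain ⟨-, h2⟩ := isLarge_charP hQ'p hQ'1 hQ'L (hQ'T.trans hTR) hP1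
    exact (charP_iff p _).mpr h2

end Cfsg.Agent.S2845
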