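import Cfsg.Statements.S2846
import Cfsg.Agent.Lib.Helper18.MinSupp
import Cfsg.Agent.Lib.Helper18.Large2
import Cfsg.Agent.S2843
import Cfsg.Agent.S2845

set_option autoImplicit false
open Cfsg

namespace Cfsg.Agent.S2846

open Cfsg.Agent.Lib.Helper18


/-- Let Q be a nontrivial large p-subgroup of the finite group H, S a Sylow p-subgroup containing Q, and L a subgroup containing S with O_p(L) ≠ 1 and C_H(O_p(L)) ≤ O_p(L). Then there are a subgroup M containing S having the basic property (M ∈ 𝔐_H, writing Y_X for the largest p-reduced normal subgroup of X and 𝓛_H for the set of subgroups X with O_p(X) ≠ 1 and C_H(O_p(X)) ≤ O_p(X): M ∈ 𝓛_H, M·C_H(Y_M) is the only maximal member of 𝓛_H containing M and its largest p-reduced normal subgroup is again Y_M, C_M(Y_M) is p-closed, and the image of C_M(Y_M) in M/O_p(M) lies in the Frattini subgroup of M/O_p(M)) and a subgroup L* with S ≤ L* ≤ M, O_p(L*) ≠ 1, C_H(O_p(L*)) ≤ O_p(L*), such that L·C_H(Y_L)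 = L*·C_H(Y_L), the weak closures of Q in L and in L* agree and lie in that of M, and Y_L = Y_{L*} ≤ Y_M. If moreover Q is not normal in L, then Q is normal in neither L* nor M. -/
theorem result {H : Type*} [Group H] [Finite H] {p : ℕ} [Fact p.Prime] (Q : Subgroup H) (hQp : IsPGroup p ↥Q) (hQ1 : Q ≠ ⊥) (hLg : Cfsg.IsLarge Q) (S : Sylow p H) (hQS : Q ≤ (S : Subgroup H)) (L : Subgroup H) (hSL : (S : Subgroup H) ≤ L) (hL : L ∈ Cfsg.charPSubgroups p H) : ∃ M Ls : Subgroup H, (S : Subgroup H) ≤ M ∧ Cfsg.IsInFrakM p M ∧ (S : Subgroup H) ≤ Ls ∧ Ls ≤ M ∧ Ls ∈ Cfsg.charPSubgroups p H ∧ L ⊔ Subgroup.centralizer (((Cfsg.largestPReducedOf p L) : Subgroup H) : Set H) = Ls ⊔ Subgroup.centralizer (((Cfsg.largestPReducedOf p L) : Subgroup H) : Set H) ∧ Cfsg.weakClosure Q L = Cfsg.weakClosure Q Ls ∧ Cfsg.weakClosure Q Ls ≤ Cfsg.weakClosure Q M ∧ (Cfsg.largestPReducedOf p L) = (Cfsg.largestPReducedOf p Ls) ∧ (Cfsg.largestPReducedOf p Ls) ≤ (Cfsg.largestPReducedOf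 p M) ∧ (¬ L ≤ Subgroup.normalizer ((Q : Subgroup H) : Set H) → ¬ Ls ≤ Subgroup.normalizer ((Q : Subgroup H) : Set H) ∧ ¬ M ≤ Subgroup.normalizer ((Q : Subgroup H) : Set H)) := by
  have hpar : ∀ X : Subgroup H, (S : Subgroup H) ≤ X → Cfsg.pCoreOf p X ≠ ⊥ →
      Subgroup.centralizer ((Cfsg.pCoreOf p X : Subgroup H) : Set H) ≤ Cfsg.pCoreOf p X := by
    intro X hSX hR1
    apply (Cfsg.Agent.S2845.result Q hQp hQ1 hLg).2.1 X ⟨S, hSX⟩
    intro hbot
    apply hR1
    unfold Cfsg.pCoreOf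
    rw [hbot, Subgroup.map_bot]
  obtain ⟨M, Ls, hSM, hFrak, hSLs, hLsM, hLsL, hYeq, hYM, hsup⟩ := basic_core S hpar L hSL hL
  have hcharL := charP_of_mem_charPSubgroups' hL
  have hYS : Cfsg.largestPReducedOf p L ≤ (S : Subgroup H) :=
    (largestPReducedOf_le_pCoreOf hcharL).trans (pCoreOf_le_sylow S hSL)
  have hYp : IsPGroup p (Cfsg.largestPReducedOf p L) := S.isPGroup'.to_le hYS
  have hY1 : Cfsg.largestPReducedOf p L ≠ ⊥ := largestPReducedOf_ne_bot S hSL hL
  have hLnY : L ≤ Subgroup.normalizer ((Cfsg.largestPReducedOf p L : Subgroup H) : Set H) :=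
    (isPRedIn_largestPReducedOf' (p := p) L).2.1
  have hLsnY : Ls ≤ Subgroup.normalizer ((Cfsg.largestPReducedOf p L : Subgroup H) : Set H) := by
    rw [hYeq]; exact (isPRedIn_largestPReducedOf' (p := p) Ls).2.1
  have hw1 := (Cfsg.Agent.S2843.result Q hQp hQ1 hLg L (hQS.trans hSL) _ hYp hY1 hLnY).1
  have hw2 := (Cfsg.Agent.S2843.result Q hQp hQ1 hLg Ls (hQS.trans hSLs) _ hYp hY1 hLsnY).1
  have hw : Cfsg.weakClosure Q L = Cfsg.weakClosure Q Ls := by rw [hw1, hw2, hsup]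
  have hnot : ¬ L ≤ Subgroup.normalizer ((Q : Subgroup H) : Set H) →
      ¬ Ls ≤ Subgroup.normalizer ((Q : Subgroup H) : Set H) := by
    intro hLQ hLsQ
    apply hLQ
    have hwQ : Cfsg.weakClosure Q Ls = Q := by
      apply le_antisymm
      · apply weakClosure_le
        intro g hg
        have hpg : IsPGroup p (Q.map (MulAut.conj g).toMonoidHom ⊔ Q : Subgroup H) :=
          IsPGroup.to_sup_of_normal_right' (hQp.map _) hQp (hg.trans hLsQ)
        exact (isLarge_conj_eq_of_le_pGroup hQp hQ1 hLg hpg le_sup_right g le_sup_left).le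
      · exact le_weakClosure (hQS.trans hSLs)
    apply le_normalizer_of_forall_map_conj_le
    intro l hl
    have h1 : Q.map (MulAut.conj l).toMonoidHom ≤ L := by
      have := Subgroup.map_mono (f := (MulAut.conj l).toMonoidHom) (hQS.trans hSL)
      rwa [map_conj_eq_of_mem_normalizer L (Subgroup.le_normalizer hl)] at this
    have h2 := conj_le_weakClosure h1
    rwa [hw, hwQ] at h2
  exact ⟨M, Ls, hSM, hFrak, hSLs, hLsM, hLsL, hsup, hw,
    weakClosure_le (fun g hg => conj_le_weakClosure (hg.trans hLsM)), hYeq,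
    by rw [← hYeq]; exact hYM,
    fun hLQ => ⟨hnot hLQ, fun hMQ => hnot hLQ (hLsM.trans hMQ)⟩⟩

end Cfsg.Agent.S2846
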