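import Cfsg.Statements.S2847
import Cfsg.Agent.Lib.Helper18.MinSupp

set_option autoImplicit false
open Cfsg

namespace Cfsg.Agent.S2847

open Cfsg.Agent.Lib.Helper18


/-- Let H be a finite group of parabolic characteristic p, T a Sylow p-subgroup and L a subgroup containing T with O_p(L) ≠ 1 and C_H(O_p(L)) ≤ O_p(L). Then there are M ≥ T with the basic property (M ∈ 𝔐_H) and L* with T ≤ L* ≤ M, O_p(L*) ≠ 1, C_H(O_p(L*)) ≤ O_p(L*), such that Y_L = Y_{L*} ≤ Y_M and L·C_H(Y_L) = L*·C_H(Y_L), Y denoting largest p-reduced normal subgroups. -/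
theorem result {H : Type*} [Group H] [Finite H] {p : ℕ} [Fact p.Prime] (hH : Cfsg.IsOfParabolicCharacteristic p H) (T : Sylow p H) (L : Subgroup H) (hTL : (T : Subgroup H) ≤ L) (hL : L ∈ Cfsg.charPSubgroups p H) : ∃ M Ls : Subgroup H, (T : Subgroup H) ≤ M ∧ Cfsg.IsInFrakM p M ∧ (T : Subgroup H) ≤ Ls ∧ Ls ≤ M ∧ Ls ∈ Cfsg.charPSubgroups p H ∧ (Cfsg.largestPReducedOf p L) = (Cfsg.largestPReducedOf p Ls) ∧ (Cfsg.largestPReducedOf p L) ≤ (Cfsg.largestPReducedOf p M) ∧ L ⊔ Subgroup.centralizer (((Cfsg.largestPReducedOf p L) : Subgroup H) : Set H) = Ls ⊔ Subgroup.centralizer (((Cfsg.largestPReducedOf p L) : Subgroup H) : Set H) := by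
  have hpar : ∀ X : Subgroup H, (T : Subgroup H) ≤ X → Cfsg.pCoreOf p X ≠ ⊥ →
      Subgroup.centralizer ((Cfsg.pCoreOf p X : Subgroup H) : Set H) ≤ Cfsg.pCoreOf p X := by
    intro X hTX hR1
    obtain ⟨R, hR⟩ : ∃ R : Subgroup H, R = Cfsg.pCoreOf p X := ⟨_, rfl⟩
    rw [← hR] at hR1 ⊢
    have hRp : IsPGroup p R := by rw [hR]; exact pCoreOf_isPGroup p X
    have hXN : X ≤ Subgroup.normalizer (R : Set H) := by rw [hR]; exact le_normalizer_pCoreOf p X
    have hTN : (T : Subgroup H) ≤ Subgroup.normalizer (R : Set H) := hTX.trans hXN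
    have h1 := (charP_iff p _).mp (hH R hRp hR1 ⟨T, hTN⟩)
    unfold Cfsg.Agent.Lib.Helper18.CharP at h1
    have h2 : Cfsg.pCoreOf p (Subgroup.normalizer (R : Set H)) ≤ R := by
      have h := le_pCoreOf (p := p) ((pCoreOf_le_sylow T hTN).trans hTX)
        (hXN.trans (le_normalizer_pCoreOf p _)) (pCoreOf_isPGroup p _)
      rw [← hR] at h
      exact h
    have h3 : R ≤ Cfsg.pCoreOf p (Subgroup.normalizer (R : Set H)) :=
      le_pCoreOf Subgroup.le_normalizer le_rfl hRp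
    have h4 : Cfsg.pCoreOf p (Subgroup.normalizer (R : Set H)) = R := le_antisymm h2 h3
    rw [h4] at h1
    exact (le_inf (Subgroup.centralizer_le_normalizer _) le_rfl).trans h1
  exact basic_core T hpar L hTL hL

end Cfsg.Agent.S2847
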