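import Cfsg.Statements.S2848
import Cfsg.Agent.Lib.Helper18.YL2
import Cfsg.Agent.Lib.Helper18.PClosed2
import Cfsg.Agent.Lib.Helper18.CharP

set_option autoImplicit false
open Cfsg

namespace Cfsg.Agent.S2848

open Cfsg.Agent.Lib.Helper18

/-- Members of `𝓛` have characteristic `p`. -/
theorem charP_of_mem_charPSubgroups {G : Type*} [Group G] {p : ℕ} {M : Subgroup G}
    (h : M ∈ Cfsg.charPSubgroups p G) :
    Subgroup.centralizer (Cfsg.pCore p ↥M : Set ↥M) ≤ Cfsg.pCore p ↥M := by
  apply (Cfsg.Agent.Lib.Helper18.charP_iff p M).mpr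
  exact inf_le_right.trans h.2

/-- For `M ∈ 𝔐` containing the Sylow `p`-subgroup `S`: `O_p(M) = C_S(Y_M)`. -/
theorem pCoreOf_eq {G : Type*} [Group G] [Finite G] {p : ℕ} [Fact p.Prime] (S : Sylow p G)
    {M : Subgroup G} (hSM : (S : Subgroup G) ≤ M) (hM : Cfsg.IsInFrakM p M) :
    Cfsg.pCoreOf p M = (S : Subgroup G) ⊓
      Subgroup.centralizer ((Cfsg.largestPReducedOf p M : Subgroup G) : Set G) := by
  have hchar := charP_of_mem_charPSubgroups hM.1
  have hY := isPRedIn_largestPReducedOf (p := p) hchar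
  apply le_antisymm
  · exact le_inf (pCoreOf_le_sylow S hSM) (pCoreOf_le_centralizer_largestPReducedOf hchar)
  · have hcl := (isPClosed_subgroup_iff_pClosedIn _).mp hM.2.2.2.2.1
    have hMN : M ≤ Subgroup.normalizer ((M ⊓ Subgroup.centralizer
        ((Cfsg.largestPReducedOf p M : Subgroup G) : Set G) : Subgroup G) : Set G) :=
      (le_inf Subgroup.le_normalizer
        (hY.2.1.trans (normalizer_le_normalizer_centralizer _))).trans (normalizer_inf_le _ _)
    obtain ⟨R, hRle, hR, hRM, hel⟩ := hcl.exists_normalized hMN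
    have hRcore : R ≤ pCoreOf p M := le_pCoreOf (hRle.trans inf_le_left) hRM hR
    intro x hx
    apply hRcore
    apply hel x ⟨hSM hx.1, hx.2⟩
    obtain ⟨k, hk⟩ := S.isPGroup' ⟨x, hx.1⟩
    exact ⟨k, congrArg Subtype.val hk⟩

/-- Standing hypotheses: G a finite group, S a Sylow p-subgroup, Q a nontrivial large p-subgroup of G contained in S (C_G(Q) ≤ Q and N_G(U) ≤ N_G(Q) for all nontrivial U ≤ C_G(Q)), and M a subgroup containing S with the basic property (M ∈ 𝔐_G(S)); Y_M denotes the largest p-reduced normal subgroup of M and M† = M·C_G(Y_M). Then O_p(M) is a weakly closed subgroup of M† (for p): it is the only M†-conjugate of itself inside some Sylow p-subgroup of M† containing it. -/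
theorem result {G : Type*} [Group G] [Finite G] {p : ℕ} [Fact p.Prime] (S : Sylow p G) (Q : Subgroup G) (hQp : IsPGroup p ↥Q) (hQ1 : Q ≠ ⊥) (hQS : Q ≤ (S : Subgroup G)) (hQ : Cfsg.IsLarge Q) (M : Subgroup G) (hSM : (S : Subgroup G) ≤ M) (hM : Cfsg.IsInFrakM p M) : Cfsg.IsWeaklyClosedSubgroup p (((Cfsg.pCoreOf p M)).subgroupOf (M ⊔ Subgroup.centralizer (((Cfsg.largestPReducedOf p M) : Subgroup G) : Set G))) := by
  have hchar := charP_of_mem_charPSubgroups hM.1
  have hY := isPRedIn_largestPReducedOf (p := p) hchar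
  have hcore := pCoreOf_eq S hSM hM
  obtain ⟨Md, hMd⟩ : ∃ Md : Subgroup G, Md = M ⊔ Subgroup.centralizer
      ((Cfsg.largestPReducedOf p M : Subgroup G) : Set G) := ⟨_, rfl⟩
  rw [← hMd]
  have hSMd : (S : Subgroup G) ≤ Md := hMd ▸ hSM.trans le_sup_left
  have hMdC : Md ≤ Subgroup.normalizer (Subgroup.centralizer
      ((Cfsg.largestPReducedOf p M : Subgroup G) : Set G) : Set G) :=
    hMd ▸ sup_le (hY.2.1.trans (normalizer_le_normalizer_centralizer _)) Subgroup.le_normalizer
  refine ⟨S.subtype hSMd, ?_, ?_⟩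
  · rw [Sylow.coe_subtype]
    intro x hx
    exact pCoreOf_le_sylow S hSM hx
  · intro g hg
    rw [Sylow.coe_subtype] at hg
    have hle : ((Cfsg.pCoreOf p M).subgroupOf Md).map (MulAut.conj g).toMonoidHom ≤
        (Cfsg.pCoreOf p M).subgroupOf Md := by
      rintro _ ⟨x, hx, rfl⟩
      have hyS : (((MulAut.conj g).toMonoidHom x : Md) : G) ∈ (S : Subgroup G) :=
        hg ⟨x, hx, rfl⟩
      have hx' : (x : G) ∈ Cfsg.pCoreOf p M := hx
      rw [hcore] at hx'
      show (((MulAut.conj g).toMonoidHom x : Md) : G) ∈ Cfsg.pCoreOf p M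
      rw [hcore]
      refine ⟨hyS, ?_⟩
      exact (Subgroup.mem_normalizer_iff.mp (hMdC g.2) _).mp hx'.2
    exact Subgroup.eq_of_le_of_card_ge hle (by rw [card_map_conj])

end Cfsg.Agent.S2848
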