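import Cfsg.Statements.S2849
import Cfsg.Agent.S2848

set_option autoImplicit false
open Cfsg

namespace Cfsg.Agent.S2849

open Cfsg.Agent.Lib.Helper18
open scoped commutatorElement

/-- A join of pairwise commuting subgroups of exponent `p` is abelian of exponent `p`. -/
theorem elemAb_iSup {G : Type*} [Group G] {p : ℕ} {ι : Sort*} (F : ι → Subgroup G)
    (hc : ∀ i j, ∀ a ∈ F i, ∀ b ∈ F j, a * b = b * a) (he : ∀ i, ∀ a ∈ F i, a ^ p = 1) :
    (∀ a ∈ ⨆ i, F i, ∀ b ∈ ⨆ i, F i, a * b = b * a) ∧ ∀ a ∈ ⨆ i, F i, a ^ p = 1 := by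
  have hcomm : (⨆ i, F i) ≤ Subgroup.centralizer (((⨆ i, F i : Subgroup G)) : Set G) := by
    apply iSup_le
    intro i
    apply Subgroup.le_centralizer_iff.mp
    apply iSup_le
    intro j a ha
    rw [Subgroup.mem_centralizer_iff]
    intro b hb
    exact hc i j b hb a ha
  have hc' : ∀ a ∈ ⨆ i, F i, ∀ b ∈ ⨆ i, F i, a * b = b * a := fun a ha b hb =>
    Subgroup.mem_centralizer_iff.mp (hcomm hb) a ha
  refine ⟨hc', ?_⟩
  let K : Subgroup G :=
    { carrier := {a | a ∈ (⨆ i, F i) ∧ a ^ p = 1}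
      one_mem' := ⟨Subgroup.one_mem _, one_pow _⟩
      mul_mem' := by
        rintro a b ⟨ha, hap⟩ ⟨hb, hbp⟩
        refine ⟨Subgroup.mul_mem _ ha hb, ?_⟩
        have hcm : Commute a b := hc' a ha b hb
        rw [hcm.mul_pow, hap, hbp, one_mul]
      inv_mem' := by
        rintro a ⟨ha, hap⟩
        exact ⟨Subgroup.inv_mem _ ha, by rw [inv_pow, hap, inv_one]⟩ }
  have hK : (⨆ i, F i) ≤ K :=
    iSup_le (fun i a ha => ⟨Subgroup.mem_iSup_of_mem i ha, he i a ha⟩)
  intro a ha
  exact (hK ha).2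

/-- The normal closure of `Y` in `N` is elementary abelian when the `N`-conjugates of `Y`
commute pairwise and `Y` has exponent `p`. -/
theorem elemAb_normalClosure {G : Type*} [Group G] {p : ℕ} (N Y : Subgroup G)
    (hpair : ∀ h₁ ∈ N, ∀ h₂ ∈ N, ∀ a ∈ Y.map (MulAut.conj h₁).toMonoidHom,
      ∀ b ∈ Y.map (MulAut.conj h₂).toMonoidHom, a * b = b * a)
    (hexp : ∀ a ∈ Y, a ^ p = 1) :
    Cfsg.IsElementaryAbelian p
      ((Subgroup.normalClosure ((Y.subgroupOf N : Subgroup ↥N) : Set ↥N)).map N.subtype) := by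
  obtain ⟨h1, h2⟩ := elemAb_iSup (p := p)
    (fun h : ↥N => Y.map (MulAut.conj (h : G)).toMonoidHom)
    (fun i j a ha b hb => hpair i i.2 j j.2 a ha b hb)
    (fun i a ha => by
      obtain ⟨y, hy, rfl⟩ := ha
      rw [← map_pow, hexp y hy, map_one])
  have hle : (Subgroup.normalClosure ((Y.subgroupOf N : Subgroup ↥N) : Set ↥N)).map N.subtype ≤
      ⨆ h : ↥N, Y.map (MulAut.conj (h : G)).toMonoidHom := by
    rw [Subgroup.map_le_iff_le_comap]
    apply (Subgroup.closure_le _).mpr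
    intro x hx
    rw [Group.mem_conjugatesOfSet_iff] at hx
    obtain ⟨y, hy, hc⟩ := hx
    rw [isConj_iff] at hc
    obtain ⟨c, rfl⟩ := hc
    apply Subgroup.mem_iSup_of_mem c
    exact ⟨(y : G), hy, rfl⟩
  exact ⟨⟨⟨fun a b => Subtype.ext (h1 a (hle a.2) b (hle b.2))⟩⟩, fun a ha => h2 a (hle ha)⟩

/-- Standing hypotheses: G a finite group, S a Sylow p-subgroup, Q a nontrivial large p-subgroup of G contained in S (C_G(Q) ≤ Q and N_G(U) ≤ N_G(Q) for all nontrivial U ≤ C_G(Q)), and M a subgroup containing S with the basic property (M ∈ 𝔐_G(S)); Y_M denotes the largest p-reduced normal subgroup of M and M† = M·C_G(Y_M). Suppose Y_M is asymmetric in G. Then for every subgroup R with Y_M ≤ R ≤ M†, the normal closure of Y_M in N_G(R) is elementary abelian. -/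
theorem result {G : Type*} [Group G] [Finite G] {p : ℕ} [Fact p.Prime] (S : Sylow p G) (Q : Subgroup G) (hQp : IsPGroup p ↥Q) (hQ1 : Q ≠ ⊥) (hQS : Q ≤ (S : Subgroup G)) (hQ : Cfsg.IsLarge Q) (M : Subgroup G) (hSM : (S : Subgroup G) ≤ M) (hM : Cfsg.IsInFrakM p M) (hasym : ¬ Cfsg.IsSymmetricIn (Cfsg.largestPReducedOf p M)) (R : Subgroup G) (hYR : (Cfsg.largestPReducedOf p M) ≤ R) (hRM : R ≤ (M ⊔ Subgroup.centralizer (((Cfsg.largestPReducedOf p M) : Subgroup G) : Set G))) : Cfsg.IsElementaryAbelian p ((Subgroup.normalClosure ((((Cfsg.largestPReducedOf p M)).subgroupOf (Subgroup.normalizer ((R : Subgroup G) : Set G)) : Subgroup ↥(Subgroup.normalizer ((R : Subgroup G) : Set G))) : Set ↥(Subgroup.normalizer ((R : Subgroup G) : Set G)))).map (Subgroup.normalizer ((R : Subgroup G) : Set G)).subtype) := by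
  have hchar := Cfsg.Agent.S2848.charP_of_mem_charPSubgroups hM.1
  have hY := isPRedIn_largestPReducedOf (p := p) hchar
  revert hasym hYR hRM hY
  generalize Cfsg.largestPReducedOf p M = Y
  intro hasym hYR hRM hY
  obtain ⟨hYM, hMY, hcomm, hexp, -⟩ := hY
  have hRY : R ≤ Subgroup.normalizer (Y : Set G) :=
    hRM.trans (sup_le hMY (Subgroup.centralizer_le_normalizer _))
  have key : ∀ h ∈ Subgroup.normalizer (R : Set G),
      ⁅Y, Y.map (MulAut.conj h).toMonoidHom⁆ = ⊥ := by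
    intro h hh
    by_contra hne
    apply hasym
    refine ⟨h, hne, le_inf ?_ ?_⟩
    · apply commutator_le_of_le_normalizer'
      have h1 : Y.map (MulAut.conj h).toMonoidHom ≤ R.map (MulAut.conj h).toMonoidHom :=
        Subgroup.map_mono hYR
      rw [map_conj_eq_of_mem_normalizer R hh] at h1
      exact h1.trans hRY
    · apply commutator_le_of_le_normalizer
      rw [normalizer_map_conj]
      have h1 : R.map (MulAut.conj h).toMonoidHom ≤
          (Subgroup.normalizer (Y : Set G)).map (MulAut.conj h).toMonoidHom :=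
        Subgroup.map_mono hRY
      rw [map_conj_eq_of_mem_normalizer R hh] at h1
      exact hYR.trans h1
  apply elemAb_normalClosure _ _ _ hexp
  intro h₁ hh₁ h₂ hh₂ a ha b hb
  have h3 : ⁅Y.map (MulAut.conj h₁).toMonoidHom, Y.map (MulAut.conj h₂).toMonoidHom⁆ = ⊥ := by
    have h4 := key (h₁⁻¹ * h₂) (Subgroup.mul_mem _ (Subgroup.inv_mem _ hh₁) hh₂)
    have h5 := congrArg (Subgroup.map (MulAut.conj h₁).toMonoidHom) h4
    rw [Subgroup.map_commutator, ← map_conj_mul, mul_inv_cancel_left, Subgroup.map_bot] at h5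
    exact h5
  have h6 := Subgroup.commutator_eq_bot_iff_le_centralizer.mp h3
  exact Subgroup.mem_centralizer_iff.mp (h6 ha) b hb |>.symm

end Cfsg.Agent.S2849
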