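import Cfsg.Statements.S2850
import Cfsg.Agent.S2838
import Cfsg.Agent.S2839
import Cfsg.Agent.S2845
import Cfsg.Agent.S2848
import Cfsg.Agent.Lib.Helper18.Asym

set_option autoImplicit false
open Cfsg

namespace Cfsg.Agent.S2850

open Cfsg.Agent.Lib.Helper18

open scoped commutatorElement in
theorem le_normalizer_of_commutator_le {G : Type*} [Group G] {A B : Subgroup G}
    (h : ⁅A, B⁆ ≤ A) : B ≤ Subgroup.normalizer (A : Set G) := by
  have key : ∀ b ∈ B, ∀ a ∈ A, b * a * b⁻¹ ∈ A := by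
    intro b hb a ha
    have h1 : ⁅a, b⁆ ∈ A := h (Subgroup.commutator_mem_commutator ha hb)
    have e : b * a * b⁻¹ = ⁅a, b⁆⁻¹ * a := by
      rw [commutatorElement_def]
      group
    rw [e]
    exact A.mul_mem (A.inv_mem h1) ha
  intro b hb
  rw [Subgroup.mem_normalizer_iff]
  intro a
  constructor
  · exact key b hb a
  · intro ha
    have h2 := key b⁻¹ (B.inv_mem hb) _ ha
    have e : b⁻¹ * (b * a * b⁻¹) * b⁻¹⁻¹ = a := by group
    rwa [e] at h2

/-- Every member of `𝓛` lies in a maximal member. -/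
theorem exists_max_charP {G : Type*} [Group G] [Finite G] {p : ℕ} {L : Subgroup G}
    (hL : L ∈ Cfsg.charPSubgroups p G) : ∃ X ∈ Cfsg.maxCharPSubgroups p G, L ≤ X := by
  obtain ⟨X, hLX, hX⟩ := (Set.toFinite (Cfsg.charPSubgroups p G)).exists_le_maximal hL
  exact ⟨X, ⟨hX.1, fun L' hL' hXL' => le_antisymm (hX.2 hL' hXL') hXL'⟩, hLX⟩

/-- With a large subgroup, the normalizer of a nontrivial `p`-subgroup normalized by `M ≥ S`
lies in `M†`. -/
theorem normalizer_le_dagger {G : Type*} [Group G] [Finite G] {p : ℕ} [Fact p.Prime]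
    (S : Sylow p G) (Q : Subgroup G) (hQp : IsPGroup p ↥Q) (hQ1 : Q ≠ ⊥) (hQ : Cfsg.IsLarge Q)
    (M : Subgroup G) (hSM : (S : Subgroup G) ≤ M) (hM : Cfsg.IsInFrakM p M)
    (U : Subgroup G) (hU1 : U ≠ ⊥) (hUp : IsPGroup p U)
    (hMU : M ≤ Subgroup.normalizer (U : Set G)) :
    Subgroup.normalizer (U : Set G) ≤
      M ⊔ Subgroup.centralizer ((Cfsg.largestPReducedOf p M : Subgroup G) : Set G) := by
  have h45 := (Cfsg.Agent.S2845.result Q hQp hQ1 hQ).2.1
  have hpar : Cfsg.IsParabolic p (Subgroup.normalizer (U : Set G)) := ⟨S, hSM.trans hMU⟩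
  have hUcore : U ≤ Cfsg.pCoreOf p (Subgroup.normalizer (U : Set G)) :=
    le_pCoreOf Subgroup.le_normalizer le_rfl hUp
  have hcore1 : Cfsg.pCore p ↥(Subgroup.normalizer (U : Set G)) ≠ ⊥ := by
    intro e
    apply hU1
    have h0 : Cfsg.pCoreOf p (Subgroup.normalizer (U : Set G)) = ⊥ := by
      unfold Cfsg.pCoreOf
      rw [e, Subgroup.map_bot]
    rw [h0] at hUcore
    exact le_bot_iff.mp hUcore
  have hmem : Subgroup.normalizer (U : Set G) ∈ Cfsg.charPSubgroups p G :=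
    ⟨hcore1, h45 _ hpar hcore1⟩
  obtain ⟨X, hX, hle⟩ := exists_max_charP hmem
  have hXeq := hM.2.2.1 X hX (hMU.trans hle)
  rw [← hXeq]
  exact hle

/-- The abstract asymmetric data attached to `M ∈ 𝔐_G(S)` with `Y_M` asymmetric. -/
theorem asymData {G : Type*} [Group G] [Finite G] {p : ℕ} [Fact p.Prime]
    (S : Sylow p G) (M : Subgroup G) (hSM : (S : Subgroup G) ≤ M) (hM : Cfsg.IsInFrakM p M)
    (hnd : Subgroup.normalizer ((Cfsg.pCoreOf p M : Subgroup G) : Set G) ≤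
      M ⊔ Subgroup.centralizer ((Cfsg.largestPReducedOf p M : Subgroup G) : Set G))
    (hasym : ¬ Cfsg.IsSymmetricIn (Cfsg.largestPReducedOf p M)) :
    AsymData p (Cfsg.pCoreOf p M) (Cfsg.largestPReducedOf p M) := by
  have hchar := Cfsg.Agent.S2848.charP_of_mem_charPSubgroups hM.1
  have hY := isPRedIn_largestPReducedOf (p := p) hchar
  have hcore := Cfsg.Agent.S2848.pCoreOf_eq S hSM hM
  have hSN : (S : Subgroup G) ≤ Subgroup.normalizer (Subgroup.centralizer
      ((Cfsg.largestPReducedOf p M : Subgroup G) : Set G) : Set G) :=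
    hSM.trans (hY.2.1.trans (normalizer_le_normalizer_centralizer _))
  have hsyl := isSylowIn_inf_of_le_normalizer S hSN
  rw [← hcore] at hsyl
  refine ⟨pCoreOf_isPGroup p M, largestPReducedOf_le_pCoreOf hchar,
    pCoreOf_le_centralizer_largestPReducedOf hchar,
    hnd.trans (sup_le hY.2.1 (Subgroup.centralizer_le_normalizer _)), ?_, ?_⟩
  · intro P hP hPc hPn
    have h1 : IsPGroup p (P ⊔ Cfsg.pCoreOf p M : Subgroup G) :=
      IsPGroup.to_sup_of_normal_right' hP (pCoreOf_isPGroup p M) hPn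
    have h2 := hsyl.2.2 _ h1 le_sup_right (sup_le hPc hsyl.1)
    exact le_sup_left.trans_eq h2
  · intro g hle
    by_contra hne
    exact hasym ⟨g, hne, hle⟩

/-- `O_p(M)` is nontrivial for `M ∈ 𝓛`. -/
theorem pCoreOf_ne_bot' {G : Type*} [Group G] {p : ℕ} {M : Subgroup G}
    (h : Cfsg.pCore p ↥M ≠ ⊥) : Cfsg.pCoreOf p M ≠ ⊥ := by
  intro e
  apply h
  unfold Cfsg.pCoreOf at e
  exact (Subgroup.map_eq_bot_iff_of_injective _ M.subtype_injective).mp e

/-- The main consequences of asymmetry: `N_G(O_p(M)) ≤ M†` and `O_p(M)` is weakly closed. -/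
theorem main {G : Type*} [Group G] [Finite G] {p : ℕ} [Fact p.Prime] (S : Sylow p G)
    (Q : Subgroup G) (hQp : IsPGroup p ↥Q) (hQ1 : Q ≠ ⊥) (hQ : Cfsg.IsLarge Q)
    (M : Subgroup G) (hSM : (S : Subgroup G) ≤ M) (hM : Cfsg.IsInFrakM p M)
    (hasym : ¬ Cfsg.IsSymmetricIn (Cfsg.largestPReducedOf p M)) :
    Subgroup.normalizer ((Cfsg.pCoreOf p M : Subgroup G) : Set G) ≤
      M ⊔ Subgroup.centralizer ((Cfsg.largestPReducedOf p M : Subgroup G) : Set G) ∧
    Cfsg.IsWeaklyClosedSubgroup p (Cfsg.pCoreOf p M) := by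
  have hchar := Cfsg.Agent.S2848.charP_of_mem_charPSubgroups hM.1
  have hY := isPRedIn_largestPReducedOf (p := p) hchar
  have hD1 : Cfsg.pCoreOf p M ≠ ⊥ := pCoreOf_ne_bot' hM.1.1
  have hDp : IsPGroup p (Cfsg.pCoreOf p M) := pCoreOf_isPGroup p M
  have hMD : M ≤ Subgroup.normalizer ((Cfsg.pCoreOf p M : Subgroup G) : Set G) :=
    le_normalizer_pCoreOf p M
  have hnd := normalizer_le_dagger S Q hQp hQ1 hQ M hSM hM _ hD1 hDp hMD
  refine ⟨hnd, ?_⟩
  have hdata := asymData S M hSM hM hnd hasym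
  have hdY : M ⊔ Subgroup.centralizer ((Cfsg.largestPReducedOf p M : Subgroup G) : Set G) ≤
      Subgroup.normalizer ((Cfsg.largestPReducedOf p M : Subgroup G) : Set G) :=
    sup_le hY.2.1 (Subgroup.centralizer_le_normalizer _)
  apply (Cfsg.Agent.S2838.result (Cfsg.pCoreOf p M) hDp hD1).1.mpr
  intro g hg
  apply hdata.core M hMD
    (fun U hU1 hUp hMU => (normalizer_le_dagger S Q hQp hQ1 hQ M hSM hM U hU1 hUp hMU).trans hdY) g
  · exact le_normalizer_of_commutator_le (hg.trans inf_le_left)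
  · apply le_normalizer_of_commutator_le
    rw [Subgroup.commutator_comm]
    exact hg.trans inf_le_right

/-- Standing hypotheses: G a finite group, S a Sylow p-subgroup, Q a nontrivial large p-subgroup of G contained in S (C_G(Q) ≤ Q and N_G(U) ≤ N_G(Q) for all nontrivial U ≤ C_G(Q)), and M a subgroup containing S with the basic property (M ∈ 𝔐_G(S)); Y_M denotes the largest p-reduced normal subgroup of M and M† = M·C_G(Y_M). Suppose Y_M is asymmetric in G. Then N_G(L) ≤ N_G(O_p(M)) ≤ M† for every p-subgroup L containing O_p(M); O_p(M) is a weakly closed subgroup of G; for every subgroup L containing O_p(M), L ∩ M† contains a Sylow p-subgroup of L; and two elements of Y_M conjugate in G are conjugate in M. -/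
theorem result {G : Type*} [Group G] [Finite G] {p : ℕ} [Fact p.Prime] (S : Sylow p G) (Q : Subgroup G) (hQp : IsPGroup p ↥Q) (hQ1 : Q ≠ ⊥) (hQS : Q ≤ (S : Subgroup G)) (hQ : Cfsg.IsLarge Q) (M : Subgroup G) (hSM : (S : Subgroup G) ≤ M) (hM : Cfsg.IsInFrakM p M) (hasym : ¬ Cfsg.IsSymmetricIn (Cfsg.largestPReducedOf p M)) : (∀ L : Subgroup G, IsPGroup p ↥L → (Cfsg.pCoreOf p M) ≤ L → Subgroup.normalizer ((L : Subgroup G) : Set G) ≤ Subgroup.normalizer (((Cfsg.pCoreOf p M) : Subgroup G) : Set G) ∧ Subgroup.normalizer (((Cfsg.pCoreOf p M) : Subgroup G) : Set G) ≤ (M ⊔ Subgroup.centralizer (((Cfsg.largestPReducedOf p M) : Subgroup G) : Set G))) ∧ Cfsg.IsWeaklyClosedSubgroup p (Cfsg.pCoreOf p M) ∧ (∀ L : Subgroup G, (Cfsg.pCoreOf p M) ≤ L → Cfsg.IsParabolic p ((L ⊓ (M ⊔ Subgroup.centralizer (((Cfsg.largestPReducedOf p M) : Subgroup G) : Set G))).subgroupOf L)) ∧ (∀ x ∈ (Cfsg.largestPReducedOf p M), ∀ g : G, g * x * g⁻¹ ∈ (Cfsg.largestPReducedOf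 p M) → ∃ m ∈ M, m * x * m⁻¹ = g * x * g⁻¹) := by
  classical
  have hchar := Cfsg.Agent.S2848.charP_of_mem_charPSubgroups hM.1
  have hY := isPRedIn_largestPReducedOf (p := p) hchar
  have hD1 : Cfsg.pCoreOf p M ≠ ⊥ := pCoreOf_ne_bot' hM.1.1
  have hDp : IsPGroup p (Cfsg.pCoreOf p M) := pCoreOf_isPGroup p M
  obtain ⟨hnd, hwc⟩ := main S Q hQp hQ1 hQ M hSM hM hasym
  have hdata := asymData S M hSM hM hnd hasym
  have h38 := (Cfsg.Agent.S2838.result (Cfsg.pCoreOf p M) hDp hD1).2.mp hwc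
  refine ⟨fun L hLp hDL => ⟨h38 L hLp hDL, hnd⟩, hwc, ?_, ?_⟩
  · intro L hDL
    obtain ⟨T, hT⟩ := (Cfsg.Agent.S2839.result (Cfsg.pCoreOf p M) hDp hD1 hwc L hDL ⊤).2.2.1
    refine ⟨T, hT.trans ?_⟩
    intro x hx
    rw [Subgroup.mem_subgroupOf] at hx ⊢
    exact ⟨x.2, hnd hx⟩
  · intro x hx g hgx
    obtain ⟨L, hL⟩ : ∃ L : Subgroup G, L = Subgroup.centralizer ({g * x * g⁻¹} : Set G) :=
      ⟨_, rfl⟩
    have hDL : Cfsg.pCoreOf p M ≤ L := by
      rw [hL]
      intro d hd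
      rw [Subgroup.mem_centralizer_iff]
      intro y hy
      rw [Set.mem_singleton_iff] at hy
      rw [hy]
      exact Subgroup.mem_centralizer_iff.mp (hdata.cent hd) _ hgx
    have hDgL : (Cfsg.pCoreOf p M).map (MulAut.conj g).toMonoidHom ≤ L := by
      rw [hL]
      intro d hd
      rw [Subgroup.mem_centralizer_iff]
      intro y hy
      rw [Set.mem_singleton_iff] at hy
      rw [hy]
      exact Subgroup.mem_centralizer_iff.mp (hdata.cent_conj g hd) _
        (conj_mem_map_conj _ g hx)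
    obtain ⟨k, hkL, hk⟩ :=
      (Cfsg.Agent.S2839.result (Cfsg.pCoreOf p M) hDp hD1 hwc L hDL ⊤).2.1 g hDgL
    have hkg : k⁻¹ * g ∈ Subgroup.normalizer ((Cfsg.pCoreOf p M : Subgroup G) : Set G) := by
      apply mem_normalizer_of_map_conj_eq
      rw [map_conj_mul, hk, ← map_conj_mul, inv_mul_cancel, map_conj_one]
    have hMN : M ≤ Subgroup.normalizer (Subgroup.centralizer
        ((Cfsg.largestPReducedOf p M : Subgroup G) : Set G) : Set G) :=
      hY.2.1.trans (normalizer_le_normalizer_centralizer _)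
    obtain ⟨m, hm, c, hc, hmc⟩ := mem_sup_of_le_normalizer hMN (hnd hkg)
    refine ⟨m, hm, ?_⟩
    have hcx : c * x = x * c := (Subgroup.mem_centralizer_iff.mp hc x hx).symm
    have hkx : k * (g * x * g⁻¹) = (g * x * g⁻¹) * k := by
      rw [hL] at hkL
      exact (Subgroup.mem_centralizer_iff.mp hkL _ rfl).symm
    have hg : g = k * (m * c) := by rw [← hmc]; group
    have e1 : g * x * g⁻¹ = k * (m * x * m⁻¹) * k⁻¹ := by
      rw [hg]
      have : k * (m * c) * x * (k * (m * c))⁻¹ = k * (m * (c * x * c⁻¹) * m⁻¹) * k⁻¹ := by group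
      rw [this, hcx]
      group
    have e2 : k * (m * x * m⁻¹) * k⁻¹ = k * (m * x * m⁻¹) * k⁻¹ := rfl
    have e3 : m * x * m⁻¹ = k⁻¹ * (g * x * g⁻¹) * k := by rw [e1]; group
    rw [e3, mul_assoc, ← hkx]
    group

end Cfsg.Agent.S2850
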