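import Cfsg.Statements.S2853
import Cfsg.Agent.S2850
import Cfsg.Agent.Lib.Helper18.WCChar
import Cfsg.Agent.Lib.Helper18.WeakClosed
import Cfsg.Agent.Lib.Helper18.Coprime
import Cfsg.Agent.Lib.Helper18.PIrr

set_option autoImplicit false
open Cfsg

namespace Cfsg.Agent.S2853

open Cfsg.Agent.Lib.Helper18

/-- If `O^p(H) ≤ P ≤ H` then `O_p(P) ≤ O_p(H)`. -/
theorem pCoreOf_le_of_pResOf_le {G : Type*} [Group G] [Finite G] {p : ℕ} [Fact p.Prime]
    {P H : Subgroup G} (hPH : P ≤ H) (hR : pResOf p H ≤ P) :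
    Cfsg.pCoreOf p P ≤ Cfsg.pCoreOf p H := by
  obtain ⟨T, hT, hUT⟩ := exists_isSylowIn_ge (pCoreOf_isPGroup p P) ((pCoreOf_le p P).trans hPH)
  obtain ⟨N, hN⟩ : ∃ N : Subgroup G,
      N = ⨆ h : ↥H, (Cfsg.pCoreOf p P).map (MulAut.conj (h : G)).toMonoidHom := ⟨_, rfl⟩
  have hNT : N ≤ T := by
    rw [hN]
    apply iSup_le
    intro h
    have hh : (h : G) ∈ T ⊔ pResOf p H := by
      rw [sup_comm, hT.pResOf_sup]
      exact h.2
    have hTn : T ≤ Subgroup.normalizer ((pResOf p H : Subgroup G) : Set G) :=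
      hT.1.trans (le_normalizer_pResOf p H)
    obtain ⟨t, ht, r, hr, e⟩ := mem_sup_of_le_normalizer hTn hh
    rw [e, map_conj_mul, map_conj_eq_of_mem_normalizer _ (le_normalizer_pCoreOf p P (hR hr))]
    rintro _ ⟨u, hu, rfl⟩
    exact T.mul_mem (T.mul_mem ht (hUT hu)) (T.inv_mem ht)
  have hNH : N ≤ H := hNT.trans hT.1
  have hHN : H ≤ Subgroup.normalizer (N : Set G) := by
    apply le_normalizer_of_forall_map_conj_le
    intro h hh
    rw [hN, Subgroup.map_iSup]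
    apply iSup_le
    intro h'
    rw [← map_conj_mul]
    exact le_iSup (fun h : ↥H => (Cfsg.pCoreOf p P).map (MulAut.conj (h : G)).toMonoidHom)
      ⟨h * h', H.mul_mem hh h'.2⟩
  have hUN : Cfsg.pCoreOf p P ≤ N := by
    rw [hN]
    have h3 := le_iSup (fun h : ↥H => (Cfsg.pCoreOf p P).map (MulAut.conj (h : G)).toMonoidHom)
      ⟨1, H.one_mem⟩
    rwa [map_conj_one] at h3
  exact hUN.trans (le_pCoreOf hNH hHN (hT.2.1.to_le hNT))

theorem le_normalizer_map_subtype_of_normal {G : Type*} [Group G] {H : Subgroup G}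
    (N' : Subgroup ↥H) (hN : N'.Normal) :
    H ≤ Subgroup.normalizer ((N'.map H.subtype : Subgroup G) : Set G) := by
  apply le_normalizer_of_forall_map_conj_le
  intro h hh
  rintro _ ⟨_, ⟨x, hx, rfl⟩, rfl⟩
  exact ⟨⟨h, hh⟩ * x * ⟨h, hh⟩⁻¹, hN.conj_mem x hx ⟨h, hh⟩, by simp⟩

open scoped commutatorElement in
/-- The structure of `H ∈ ℌ_G(O_p(M))` relative to `D = O_p(M)` and `Y = Y_M`, abstractly. -/
theorem structH {G : Type*} [Group G] [Finite G] {p : ℕ} [Fact p.Prime] {D Y H : Subgroup G}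
    (hDp : IsPGroup p D) (hYD : Y ≤ D) (hDY : D ≤ Subgroup.normalizer (Y : Set G))
    (hDH : D ≤ H) (hYH : ¬ Y ≤ Cfsg.pCoreOf p H)
    (hHmin : ∀ P : Subgroup G, D ≤ P → P < H → Y ≤ Cfsg.pCoreOf p P) :
    ⁅pResOf p H, Y⁆ = pResOf p H ∧ pResOf p H ⊔ D = H ∧
      pResOf p H ⊔ Y =
        (Subgroup.normalClosure ((Y.subgroupOf H : Subgroup ↥H) : Set ↥H)).map H.subtype ∧
      (Subgroup.normalClosure ((D.subgroupOf H : Subgroup ↥H) : Set ↥H)).map H.subtype = H := by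
  obtain ⟨R, hR'⟩ : ∃ R : Subgroup G, R = pResOf p H := ⟨_, rfl⟩
  rw [← hR']
  have hRH : R ≤ H := hR' ▸ pResOf_le p H
  have hHR : H ≤ Subgroup.normalizer (R : Set G) := hR' ▸ le_normalizer_pResOf p H
  have hd : R ⊔ D = H := by
    by_contra hne
    have hle : R ⊔ D ≤ H := sup_le hRH hDH
    have hlt : R ⊔ D < H := lt_of_le_of_ne hle hne
    have h1 := hHmin _ le_sup_right hlt
    exact hYH (h1.trans (pCoreOf_le_of_pResOf_le hle (hR' ▸ le_sup_left)))
  have hR1le : ⁅R, Y⁆ ≤ R :=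
    commutator_le_of_le_normalizer' ((hYD.trans hDH).trans hHR)
  have hDR : D ≤ Subgroup.normalizer (R : Set G) := hDH.trans hHR
  have hHR1 : H ≤ Subgroup.normalizer ((⁅R, Y⁆ : Subgroup G) : Set G) :=
    hd.symm.le.trans (sup_le (le_normalizer_commutator_left R Y)
      ((le_inf hDR hDY).trans (normalizer_inf_le_normalizer_commutator R Y)))
  have hRW : R ≤ Subgroup.normalizer ((⁅R, Y⁆ ⊔ Y : Subgroup G) : Set G) := by
    apply le_normalizer_of_forall_map_conj_le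
    intro r hr
    rw [Subgroup.map_sup]
    apply sup_le
    · rw [map_conj_eq_of_mem_normalizer _ (le_normalizer_commutator_left R Y hr)]
      exact le_sup_left
    · rintro _ ⟨y, hy, rfl⟩
      have e : (MulAut.conj r).toMonoidHom y = ⁅r, y⁆ * y := by
        simp [commutatorElement_def]
      rw [e]
      exact Subgroup.mul_mem _
        ((le_sup_left : ⁅R, Y⁆ ≤ ⁅R, Y⁆ ⊔ Y) (Subgroup.commutator_mem_commutator hr hy))
        ((le_sup_right : Y ≤ ⁅R, Y⁆ ⊔ Y) hy)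
  have hDW : D ≤ Subgroup.normalizer ((⁅R, Y⁆ ⊔ Y : Subgroup G) : Set G) :=
    (le_inf (hDH.trans hHR1) hDY).trans (normalizer_inf_le_normalizer_sup _ _)
  have hHW : H ≤ Subgroup.normalizer ((⁅R, Y⁆ ⊔ Y : Subgroup G) : Set G) :=
    hd.symm.le.trans (sup_le hRW hDW)
  have hc1 : ⁅R, Y⁆ ⊔ D = H := by
    by_contra hne
    have hle : ⁅R, Y⁆ ⊔ D ≤ H := sup_le (hR1le.trans hRH) hDH
    have hlt : ⁅R, Y⁆ ⊔ D < H := lt_of_le_of_ne hle hne
    have hYU := hHmin _ le_sup_right hlt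
    have hWP : ⁅R, Y⁆ ⊔ Y ≤ ⁅R, Y⁆ ⊔ D := sup_le le_sup_left (hYD.trans le_sup_right)
    have hUW : Cfsg.pCoreOf p (⁅R, Y⁆ ⊔ D) ⊓ (⁅R, Y⁆ ⊔ Y) ≤ Cfsg.pCoreOf p (⁅R, Y⁆ ⊔ Y) := by
      apply le_pCoreOf inf_le_right _ ((pCoreOf_isPGroup p _).to_le inf_le_left)
      exact (le_inf (hWP.trans (le_normalizer_pCoreOf p _)) Subgroup.le_normalizer).trans
        (normalizer_inf_le _ _)
    have hWH : Cfsg.pCoreOf p (⁅R, Y⁆ ⊔ Y) ≤ Cfsg.pCoreOf p H :=
      pCoreOf_le_pCoreOf_of_normal (sup_le (hR1le.trans hRH) (hYD.trans hDH)) hHW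
    exact hYH ((le_inf hYU le_sup_right).trans (hUW.trans hWH))
  have hc : ⁅R, Y⁆ = R := by
    apply le_antisymm hR1le
    have h1 : pResOf p (D ⊔ ⁅R, Y⁆) = pResOf p ⁅R, Y⁆ := pResOf_sup_eq hDp (hDH.trans hHR1)
    rw [sup_comm D, hc1] at h1
    calc R = pResOf p H := hR'
      _ = pResOf p ⁅R, Y⁆ := h1
      _ ≤ ⁅R, Y⁆ := pResOf_le p _
  have hHW' : H ≤ Subgroup.normalizer ((R ⊔ Y : Subgroup G) : Set G) := by
    have h2 := hHW
    rwa [hc] at h2
  refine ⟨hc, hd, ?_, ?_⟩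
  · apply le_antisymm
    · apply sup_le
      · have hcomm : ⁅R, Y⁆ ≤ (Subgroup.normalClosure
            ((Y.subgroupOf H : Subgroup ↥H) : Set ↥H)).map H.subtype := by
          rw [Subgroup.commutator_le]
          intro r hr y hy
          have hyH : y ∈ H := hDH (hYD hy)
          have hrH : r ∈ H := hRH hr
          have hyN : (⟨y, hyH⟩ : ↥H) ∈ Subgroup.normalClosure
              ((Y.subgroupOf H : Subgroup ↥H) : Set ↥H) :=
            Subgroup.subset_normalClosure (show (⟨y, hyH⟩ : ↥H) ∈ Y.subgroupOf H from hy)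
          have hn : (Subgroup.normalClosure ((Y.subgroupOf H : Subgroup ↥H) : Set ↥H)).Normal :=
            Subgroup.normalClosure_normal
          have h1 := hn.conj_mem _ hyN ⟨r, hrH⟩
          have h2 := Subgroup.mul_mem _ h1 (Subgroup.inv_mem _ hyN)
          refine ⟨_, h2, ?_⟩
          simp [commutatorElement_def]
        rw [hc] at hcomm
        exact hcomm
      · intro y hy
        exact ⟨⟨y, hDH (hYD hy)⟩, Subgroup.subset_normalClosure
          (show (⟨y, hDH (hYD hy)⟩ : ↥H) ∈ Y.subgroupOf H from hy), rfl⟩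
    · rw [Subgroup.map_le_iff_le_comap]
      have hWn : ((R ⊔ Y).subgroupOf H).Normal :=
        Subgroup.normal_subgroupOf_of_le_normalizer hHW'
      show Subgroup.normalClosure ((Y.subgroupOf H : Subgroup ↥H) : Set ↥H) ≤
        (R ⊔ Y).subgroupOf H
      apply Subgroup.normalClosure_le_normal
      intro x hx
      exact Subgroup.mem_subgroupOf.mpr
        ((le_sup_right : Y ≤ R ⊔ Y) (Subgroup.mem_subgroupOf.mp hx))
  · by_contra hne
    have hle : (Subgroup.normalClosure ((D.subgroupOf H : Subgroup ↥H) : Set ↥H)).map H.subtype ≤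
        H := Subgroup.map_subtype_le _
    have hlt := lt_of_le_of_ne hle hne
    have hDN : D ≤ (Subgroup.normalClosure
        ((D.subgroupOf H : Subgroup ↥H) : Set ↥H)).map H.subtype := fun d hd =>
      ⟨⟨d, hDH hd⟩, Subgroup.subset_normalClosure
        (show (⟨d, hDH hd⟩ : ↥H) ∈ D.subgroupOf H from hd), rfl⟩
    have hYN := hHmin _ hDN hlt
    have hHN := le_normalizer_map_subtype_of_normal
      (Subgroup.normalClosure ((D.subgroupOf H : Subgroup ↥H) : Set ↥H))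
      Subgroup.normalClosure_normal
    exact hYH (hYN.trans (pCoreOf_le_pCoreOf_of_normal hle hHN))

/-- Standing hypotheses: G a finite group, S a Sylow p-subgroup, Q a nontrivial large p-subgroup of G contained in S, M a subgroup containing S with the basic property (M ∈ 𝔐_G(S)); Y_M the largest p-reduced normal subgroup of M and M† = M·C_G(Y_M). Suppose Y_M is char-p-tall and asymmetric in G and H ∈ ℌ_G(O_p(M)). Then every Sylow p-subgroup of H ∩ M† is a Sylow p-subgroup of H; O_p(H) normalizes O_p(M) and Y_M; O^p(H) = [O^p(H), Y_M] and H = O^p(H)·O_p(M); O^p(H)·Y_M is the normal closure of Y_M in H; and H is the normal closure of O_p(M) in H. Here O^p(H) is the subgroup generated by the elements of H of order prime to p. -/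
theorem result {G : Type*} [Group G] [Finite G] {p : ℕ} [Fact p.Prime] (S : Sylow p G) (Q : Subgroup G) (hQp : IsPGroup p ↥Q) (hQ1 : Q ≠ ⊥) (hQS : Q ≤ (S : Subgroup G)) (hQ : Cfsg.IsLarge Q) (M : Subgroup G) (hSM : (S : Subgroup G) ≤ M) (hM : Cfsg.IsInFrakM p M) (htall : Cfsg.IsCharPTall p (Cfsg.largestPReducedOf p M)) (hasym : ¬ Cfsg.IsSymmetricIn (Cfsg.largestPReducedOf p M)) (H : Subgroup G) (hH : Cfsg.IsInFrakH p M H) (R : Subgroup G) (hR : R = (Cfsg.pResidual p ↥H).map H.subtype) : (∀ T : Sylow p ↥(H ⊓ (M ⊔ Subgroup.centralizer (((Cfsg.largestPReducedOf p M) : Subgroup G) : Set G))), ∃ P : Sylow p ↥H, ((P : Subgroup ↥H).map H.subtype) = (T : Subgroup ↥(H ⊓ (M ⊔ Subgroup.centralizer (((Cfsg.largestPReducedOf p M) : Subgroup G) : Set G)))).map (H ⊓ (M ⊔ Subgroup.centralizer (((Cfsg.largestPReducedOf p M) : Subgroup G) : Set G))).subtype) ∧ Cfsg.pCoreOf p H ≤ Subgroup.normalizer (((Cfsg.pCoreOf p M) : Subgroup G) : Set G)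 ⊓ Subgroup.normalizer (((Cfsg.largestPReducedOf p M) : Subgroup G) : Set G) ∧ ⁅R, (Cfsg.largestPReducedOf p M)⁆ = R ∧ R ⊔ (Cfsg.pCoreOf p M) = H ∧ R ⊔ (Cfsg.largestPReducedOf p M) = (Subgroup.normalClosure ((((Cfsg.largestPReducedOf p M)).subgroupOf H : Subgroup ↥H) : Set ↥H)).map H.subtype ∧ (Subgroup.normalClosure ((((Cfsg.pCoreOf p M)).subgroupOf H : Subgroup ↥H) : Set ↥H)).map H.subtype = H := by
  classical
  have hchar := Cfsg.Agent.S2848.charP_of_mem_charPSubgroups hM.1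
  have hY := isPRedIn_largestPReducedOf (p := p) hchar
  have hD1 : Cfsg.pCoreOf p M ≠ ⊥ := Cfsg.Agent.S2850.pCoreOf_ne_bot' hM.1.1
  have hDp : IsPGroup p (Cfsg.pCoreOf p M) := pCoreOf_isPGroup p M
  obtain ⟨hnd, hwc⟩ := Cfsg.Agent.S2850.main S Q hQp hQ1 hQ M hSM hM hasym
  have hYD : Cfsg.largestPReducedOf p M ≤ Cfsg.pCoreOf p M := largestPReducedOf_le_pCoreOf hchar
  have hdY : M ⊔ Subgroup.centralizer ((Cfsg.largestPReducedOf p M : Subgroup G) : Set G) ≤
      Subgroup.normalizer ((Cfsg.largestPReducedOf p M : Subgroup G) : Set G) :=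
    sup_le hY.2.1 (Subgroup.centralizer_le_normalizer _)
  have hDY : Cfsg.pCoreOf p M ≤
      Subgroup.normalizer ((Cfsg.largestPReducedOf p M : Subgroup G) : Set G) :=
    (pCoreOf_le p M).trans hY.2.1
  obtain ⟨hHchar, hDH, hYH, hHmin⟩ := hH
  have hRR : R = pResOf p H := by rw [hR, map_pResidual_subtype]
  obtain ⟨hc, hd, he, hf⟩ := structH hDp hYD hDY hDH hYH hHmin
  rw [← hRR] at hc hd he
  refine ⟨?_, ?_, hc, hd, he, hf⟩
  · intro T
    obtain ⟨T₀, hT₀⟩ :=
      (Cfsg.Agent.S2850.result S Q hQp hQ1 hQS hQ M hSM hM hasym).2.2.1 H hDH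
    have hs0 : IsSylowIn p ((T₀ : Subgroup ↥H).map H.subtype) H := isSylowIn_map_subtype H T₀
    have hs0le : (T₀ : Subgroup ↥H).map H.subtype ≤ H ⊓ (M ⊔ Subgroup.centralizer
        ((Cfsg.largestPReducedOf p M : Subgroup G) : Set G)) := by
      rintro _ ⟨x, hx, rfl⟩
      exact Subgroup.mem_subgroupOf.mp (hT₀ hx)
    have hs0' : IsSylowIn p ((T₀ : Subgroup ↥H).map H.subtype) (H ⊓ (M ⊔ Subgroup.centralizer
        ((Cfsg.largestPReducedOf p M : Subgroup G) : Set G))) :=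
      ⟨hs0le, hs0.2.1, fun R' hR' hle hR'K => hs0.2.2 R' hR' hle (hR'K.trans inf_le_left)⟩
    have hsT := isSylowIn_map_subtype (H ⊓ (M ⊔ Subgroup.centralizer
        ((Cfsg.largestPReducedOf p M : Subgroup G) : Set G))) T
    obtain ⟨c, hc', e⟩ := hs0'.exists_conj_eq hsT
    have h3 := hs0.map_conj c
    rw [map_conj_eq_of_mem_normalizer H (Subgroup.le_normalizer hc'.1), ← e] at h3
    exact h3.exists_sylow
  · have hU : IsPGroup p (Cfsg.pCoreOf p M ⊔ Cfsg.pCoreOf p H : Subgroup G) :=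
      IsPGroup.to_sup_of_normal_right' hDp (pCoreOf_isPGroup p H)
        (hDH.trans (le_normalizer_pCoreOf p H))
    have h1 := wcs_le_normalizer_of_le hwc hU le_sup_left
    have h2 : Cfsg.pCoreOf p H ≤
        Subgroup.normalizer ((Cfsg.pCoreOf p M : Subgroup G) : Set G) := le_sup_right.trans h1
    exact le_inf h2 (h2.trans (hnd.trans hdY))

end Cfsg.Agent.S2853
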