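import Cfsg.Statements.S2851
import Cfsg.Agent.S2853
import Cfsg.Agent.S2849
import Cfsg.Agent.Lib.Helper11.Bender
import Cfsg.Agent.Lib.Helper18.YL3

set_option autoImplicit false
open Cfsg

namespace Cfsg.Agent.S2851

open Cfsg.Agent.Lib.Helper18

/-- In a finite group with `O_p = 1`, a `p`-subgroup normalized by `F*` is trivial. -/
theorem pgroup_normalized_eq_bot {X : Type*} [Group X] [Finite X] {p : ℕ} [Fact p.Prime]
    (hO : Cfsg.pCore p X = ⊥) (P : Subgroup X) (hP : IsPGroup p P)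
    (hF : Cfsg.generalizedFittingSubgroup X ≤ Subgroup.normalizer (P : Set X)) : P = ⊥ := by
  have hFn : (Cfsg.generalizedFittingSubgroup X).Normal :=
    Cfsg.Agent.Lib.Helper11.genFitting_normal
  have hcore : ∀ K : Subgroup X, K.Normal → Cfsg.pCoreOf p K = ⊥ := by
    intro K hK
    have h1 : Cfsg.pCoreOf p K ≤ Cfsg.pCoreOf p (⊤ : Subgroup X) :=
      pCoreOf_le_pCoreOf_of_normal le_top (le_normalizer_of_normal hK ⊤)
    rw [pCoreOf_top, hO] at h1
    exact le_bot_iff.mp h1
  have h1 : ⁅P, Cfsg.generalizedFittingSubgroup X⁆ ≤ P ⊓ Cfsg.generalizedFittingSubgroup X :=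
    le_inf (commutator_le_of_le_normalizer' hF)
      (commutator_le_of_le_normalizer (le_normalizer_of_normal hFn P))
  have h2 : P ⊓ Cfsg.generalizedFittingSubgroup X ≤
      Cfsg.pCoreOf p (Cfsg.generalizedFittingSubgroup X) :=
    le_pCoreOf inf_le_right ((le_inf hF Subgroup.le_normalizer).trans (normalizer_inf_le _ _))
      (hP.to_le inf_le_left)
  have h3 : ⁅P, Cfsg.generalizedFittingSubgroup X⁆ = ⊥ :=
    le_bot_iff.mp (h1.trans (h2.trans (hcore _ hFn).le))
  have h4 : P ≤ Subgroup.centralizer (Cfsg.generalizedFittingSubgroup X : Set X) :=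
    Subgroup.commutator_eq_bot_iff_le_centralizer.mp h3
  have h5 : P ≤ Cfsg.generalizedFittingSubgroup X :=
    h4.trans Cfsg.Agent.Lib.Helper11.centralizer_genFitting_le
  have hZn : (Cfsg.generalizedFittingSubgroup X ⊓
      Subgroup.centralizer (Cfsg.generalizedFittingSubgroup X : Set X)).Normal :=
    Subgroup.normal_inf_normal _ _
  have h6 : P ≤ Cfsg.pCoreOf p (Cfsg.generalizedFittingSubgroup X ⊓
      Subgroup.centralizer (Cfsg.generalizedFittingSubgroup X : Set X)) :=
    le_pCoreOf (le_inf h5 h4) (inf_le_left.trans hF) hP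
  exact le_bot_iff.mp (h6.trans (hcore _ hZn).le)

/-- Lifting: a subgroup of `L` which is a `p`-group modulo `C(Y)` and is normalized by the
preimage of `F*(L/C_L(Y))` centralizes the `p`-reduced normal subgroup `Y`. -/
theorem claimB {G : Type*} [Group G] [Finite G] {p : ℕ} [Fact p.Prime] {Y L : Subgroup G}
    (hYL : IsPRedIn p Y L)
    [hn : ((Subgroup.centralizer (Y : Set G)).subgroupOf L).Normal] (P : Subgroup G)
    (hPL : P ≤ L)
    (hFP : ((Cfsg.generalizedFittingSubgroup
        (↥L ⧸ (Subgroup.centralizer (Y : Set G)).subgroupOf L)).comap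
        (QuotientGroup.mk' ((Subgroup.centralizer (Y : Set G)).subgroupOf L))).map L.subtype ≤
      Subgroup.normalizer (P : Set G))
    (hPp : ∀ x ∈ P, ∃ k : ℕ, x ^ (p ^ k) ∈ Subgroup.centralizer (Y : Set G)) :
    P ≤ Subgroup.centralizer (Y : Set G) := by
  have hπ : Function.Surjective
      (QuotientGroup.mk' ((Subgroup.centralizer (Y : Set G)).subgroupOf L)) :=
    QuotientGroup.mk'_surjective _
  have hker : ∀ x : ↥L, QuotientGroup.mk' ((Subgroup.centralizer (Y : Set G)).subgroupOf L) x = 1 ↔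
      (x : G) ∈ Subgroup.centralizer (Y : Set G) := fun x => by
    rw [QuotientGroup.mk'_apply, QuotientGroup.eq_one_iff]
    exact Subgroup.mem_subgroupOf
  have hO : Cfsg.pCore p (↥L ⧸ (Subgroup.centralizer (Y : Set G)).subgroupOf L) = ⊥ := by
    rw [eq_bot_iff]
    intro x hx
    obtain ⟨x', rfl⟩ := hπ x
    rw [Subgroup.mem_bot, hker]
    have hcn : ((Cfsg.pCore p (↥L ⧸ (Subgroup.centralizer (Y : Set G)).subgroupOf L)).comap
        (QuotientGroup.mk' ((Subgroup.centralizer (Y : Set G)).subgroupOf L))).Normal :=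
      Subgroup.Normal.comap (pCore_normal p _) _
    have hD₀ := hYL.2.2.2.2
      (((Cfsg.pCore p (↥L ⧸ (Subgroup.centralizer (Y : Set G)).subgroupOf L)).comap
        (QuotientGroup.mk' ((Subgroup.centralizer (Y : Set G)).subgroupOf L))).map L.subtype)
      (Subgroup.map_subtype_le _)
      (Cfsg.Agent.S2853.le_normalizer_map_subtype_of_normal _ hcn) ?_
    · exact hD₀ ⟨x', hx, rfl⟩
    · rintro _ ⟨d, hd, rfl⟩
      obtain ⟨k, hk⟩ := (pCore_isPGroup p (↥L ⧸ (Subgroup.centralizer (Y : Set G)).subgroupOf L))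
        ⟨QuotientGroup.mk' ((Subgroup.centralizer (Y : Set G)).subgroupOf L) d, hd⟩
      refine ⟨k, ?_⟩
      have h2 : QuotientGroup.mk' ((Subgroup.centralizer (Y : Set G)).subgroupOf L)
          (d ^ (p ^ k)) = 1 := by
        rw [map_pow]
        exact congrArg Subtype.val hk
      exact (hker _).mp h2
  have hPbp : IsPGroup p (((P.subgroupOf L).map
      (QuotientGroup.mk' ((Subgroup.centralizer (Y : Set G)).subgroupOf L)) : Subgroup _)) := by
    rintro ⟨_, ⟨x, hx, rfl⟩⟩
    obtain ⟨k, hk⟩ := hPp x.1 (Subgroup.mem_subgroupOf.mp hx)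
    refine ⟨k, Subtype.ext ?_⟩
    show (QuotientGroup.mk' ((Subgroup.centralizer (Y : Set G)).subgroupOf L) x) ^ (p ^ k) = 1
    rw [← map_pow, hker]
    exact hk
  have hFPb : Cfsg.generalizedFittingSubgroup
      (↥L ⧸ (Subgroup.centralizer (Y : Set G)).subgroupOf L) ≤
      Subgroup.normalizer ((((P.subgroupOf L).map
      (QuotientGroup.mk' ((Subgroup.centralizer (Y : Set G)).subgroupOf L)) : Subgroup _)) :
        Set _) := by
    intro f hf
    obtain ⟨f', rfl⟩ := hπ f
    have h1 : (f' : G) ∈ Subgroup.normalizer (P : Set G) := hFP ⟨f', hf, rfl⟩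
    have h2 : f' ∈ Subgroup.normalizer ((P.subgroupOf L : Subgroup ↥L) : Set ↥L) := by
      rw [Subgroup.mem_normalizer_iff] at h1 ⊢
      intro x
      rw [Subgroup.mem_subgroupOf, Subgroup.mem_subgroupOf]
      exact h1 x.1
    exact Subgroup.le_normalizer_map _ ⟨f', h2, rfl⟩
  have hbot := pgroup_normalized_eq_bot hO _ hPbp hFPb
  intro x hx
  have h1 : QuotientGroup.mk' ((Subgroup.centralizer (Y : Set G)).subgroupOf L) ⟨x, hPL hx⟩ ∈
      (P.subgroupOf L).map
        (QuotientGroup.mk' ((Subgroup.centralizer (Y : Set G)).subgroupOf L)) :=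
    ⟨⟨x, hPL hx⟩, Subgroup.mem_subgroupOf.mpr hx, rfl⟩
  rw [hbot, Subgroup.mem_bot, hker] at h1
  exact h1

/-- The abstract form of the statement. -/
theorem core {G : Type*} [Group G] [Finite G] {p : ℕ} [Fact p.Prime] {D Y L : Subgroup G}
    (hDp : IsPGroup p D) (hwc : Cfsg.IsWeaklyClosedSubgroup p D)
    (hnd : Subgroup.normalizer (D : Set G) ≤ L) (hYD : Y ≤ D)
    (hDC : D ≤ Subgroup.centralizer (Y : Set G))
    (hYL : IsPRedIn p Y L) (hCL : Subgroup.centralizer (Y : Set G) ≤ L)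
    [hn : ((Subgroup.centralizer (Y : Set G)).subgroupOf L).Normal]
    (H : Subgroup G)
    (hFH : ((Cfsg.generalizedFittingSubgroup
        (↥L ⧸ (Subgroup.centralizer (Y : Set G)).subgroupOf L)).comap
        (QuotientGroup.mk' ((Subgroup.centralizer (Y : Set G)).subgroupOf L))).map L.subtype ≤ H)
    (hH : Cfsg.Agent.Lib.Helper18.CharP p H) : Y ≤ Cfsg.largestPReducedOf p H := by
  obtain ⟨F, hF⟩ : ∃ F : Subgroup G, F = ((Cfsg.generalizedFittingSubgroup
        (↥L ⧸ (Subgroup.centralizer (Y : Set G)).subgroupOf L)).comap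
        (QuotientGroup.mk' ((Subgroup.centralizer (Y : Set G)).subgroupOf L))).map L.subtype :=
    ⟨_, rfl⟩
  have hFL : F ≤ L := hF ▸ Subgroup.map_subtype_le _
  have hCF : Subgroup.centralizer (Y : Set G) ≤ F := by
    intro x hx
    rw [hF]
    refine ⟨⟨x, hCL hx⟩, Subgroup.mem_comap.mpr ?_, rfl⟩
    have h1 : QuotientGroup.mk' ((Subgroup.centralizer (Y : Set G)).subgroupOf L) ⟨x, hCL hx⟩ = 1 := by
      rw [QuotientGroup.mk'_apply, QuotientGroup.eq_one_iff]
      exact Subgroup.mem_subgroupOf.mpr hx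
    rw [h1]
    exact Subgroup.one_mem _
  rw [← hF] at hFH
  have hclaim : ∀ P : Subgroup G, P ≤ L → F ≤ Subgroup.normalizer (P : Set G) →
      (∀ x ∈ P, ∃ k : ℕ, x ^ (p ^ k) ∈ Subgroup.centralizer (Y : Set G)) →
      P ≤ Subgroup.centralizer (Y : Set G) := by
    intro P hPL hFP hPp
    exact claimB hYL P hPL (hF ▸ hFP) hPp
  have hDH : D ≤ H := (hDC.trans hCF).trans hFH
  have hYH : Y ≤ H := hYD.trans hDH
  -- `O_p(H)` centralizes `Y`
  have hOL : Cfsg.pCoreOf p H ≤ L := by
    have hU : IsPGroup p (D ⊔ Cfsg.pCoreOf p H : Subgroup G) :=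
      IsPGroup.to_sup_of_normal_right' hDp (pCoreOf_isPGroup p H)
        (hDH.trans (le_normalizer_pCoreOf p H))
    exact le_sup_right.trans ((wcs_le_normalizer_of_le hwc hU le_sup_left).trans hnd)
  have hOC : Cfsg.pCoreOf p H ≤ Subgroup.centralizer (Y : Set G) := by
    apply hclaim _ hOL (hFH.trans (le_normalizer_pCoreOf p H))
    intro x hx
    obtain ⟨k, hk⟩ := (pCoreOf_isPGroup p H) ⟨x, hx⟩
    refine ⟨k, ?_⟩
    have h1 : x ^ (p ^ k) = 1 := congrArg Subtype.val hk
    rw [h1]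
    exact Subgroup.one_mem _
  have hYO : Y ≤ Cfsg.pCoreOf p H ⊓ Subgroup.centralizer ((Cfsg.pCoreOf p H : Subgroup G) : Set G) := by
    have h1 : Y ≤ Subgroup.centralizer ((Cfsg.pCoreOf p H : Subgroup G) : Set G) :=
      Subgroup.le_centralizer_iff.mp hOC
    exact le_inf ((le_inf hYH h1).trans hH) h1
  -- the normal closure of `Y` in `H`
  obtain ⟨V, hV⟩ : ∃ V : Subgroup G, V = ⨆ h : ↥H, Y.map (MulAut.conj (h : G)).toMonoidHom :=
    ⟨_, rfl⟩
  have hHZ : H ≤ Subgroup.normalizer ((Cfsg.pCoreOf p H ⊓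
      Subgroup.centralizer ((Cfsg.pCoreOf p H : Subgroup G) : Set G) : Subgroup G) : Set G) :=
    (le_inf (le_normalizer_pCoreOf p H) ((le_normalizer_pCoreOf p H).trans
      (normalizer_le_normalizer_centralizer _))).trans (normalizer_inf_le _ _)
  have hconjZ : ∀ h : ↥H, Y.map (MulAut.conj (h : G)).toMonoidHom ≤ Cfsg.pCoreOf p H ⊓
      Subgroup.centralizer ((Cfsg.pCoreOf p H : Subgroup G) : Set G) := by
    intro h
    have h1 := Subgroup.map_mono (f := (MulAut.conj (h : G)).toMonoidHom) hYO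
    rwa [map_conj_eq_of_mem_normalizer _ (hHZ h.2)] at h1
  have hYexp : ∀ a ∈ Y, a ^ p = 1 := hYL.2.2.2.1
  obtain ⟨hVc, hVe⟩ := Cfsg.Agent.S2849.elemAb_iSup (p := p)
    (fun h : ↥H => Y.map (MulAut.conj (h : G)).toMonoidHom)
    (fun i j a ha b hb =>
      (Subgroup.mem_centralizer_iff.mp (hconjZ j hb).2 a (hconjZ i ha).1))
    (fun i a ha => by
      obtain ⟨y, hy, rfl⟩ := ha
      rw [← map_pow, hYexp y hy, map_one])
  rw [← hV] at hVc hVe
  have hYV : Y ≤ V := by
    rw [hV]
    have h3 := le_iSup (fun h : ↥H => Y.map (MulAut.conj (h : G)).toMonoidHom) ⟨1, H.one_mem⟩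
    rwa [map_conj_one] at h3
  have hVH : V ≤ H := by
    rw [hV]
    apply iSup_le
    intro h
    have h1 := Subgroup.map_mono (f := (MulAut.conj (h : G)).toMonoidHom) hYH
    rwa [map_conj_eq_of_mem_normalizer H (Subgroup.le_normalizer h.2)] at h1
  have hHV : H ≤ Subgroup.normalizer (V : Set G) := by
    apply le_normalizer_of_forall_map_conj_le
    intro h hh
    rw [hV, Subgroup.map_iSup]
    apply iSup_le
    intro h'
    rw [← map_conj_mul]
    exact le_iSup (fun h : ↥H => Y.map (MulAut.conj (h : G)).toMonoidHom)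
      ⟨h * h', H.mul_mem hh h'.2⟩
  have hCVY : Subgroup.centralizer (V : Set G) ≤ Subgroup.centralizer (Y : Set G) :=
    Subgroup.centralizer_le (show (Y : Set G) ⊆ (V : Set G) from hYV)
  have hred : IsPRedIn p V H := by
    refine ⟨hVH, hHV, hVc, hVe, ?_⟩
    intro X hXH hHX hXp
    -- a Sylow subgroup of `X` inside `L`
    obtain ⟨TH, hTH, hDTH⟩ := exists_isSylowIn_ge hDp hDH
    have hTHL : TH ≤ L := (wcs_le_normalizer_of_le hwc hTH.2.1 hDTH).trans hnd
    obtain ⟨P₀, hP₀, -⟩ := exists_isSylowIn_ge (p := p) (R₀ := (⊥ : Subgroup G)) (K := X)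
      (IsPGroup.of_bot) bot_le
    obtain ⟨c, hc, hle⟩ := hTH.exists_conj_le hP₀.2.1 (hP₀.1.trans hXH)
    have hP := hP₀.map_conj c⁻¹
    rw [map_conj_eq_of_mem_normalizer X (hHX (H.inv_mem hc))] at hP
    have hPL : P₀.map (MulAut.conj c⁻¹).toMonoidHom ≤ L :=
      ((map_conj_le_iff _ _ c⁻¹).mpr (by rw [inv_inv]; exact hle)).trans hTHL
    have hres : pResOf p X ≤ Subgroup.centralizer (V : Set G) := by
      unfold pResOf
      apply (Subgroup.closure_le _).mpr
      rintro g ⟨hg, hcop⟩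
      obtain ⟨k, hk⟩ := hXp g hg
      have h1 : g ^ orderOf g ∈ Subgroup.centralizer (V : Set G) := by
        rw [pow_orderOf_eq_one]
        exact Subgroup.one_mem _
      exact mem_of_pow_mem_of_pow_mem (Nat.Coprime.pow_right k hcop) h1 hk
    have hXL : X ⊓ L ≤ Subgroup.centralizer (Y : Set G) := by
      apply hclaim _ inf_le_right
      · exact (le_inf (hFH.trans hHX) (hFL.trans Subgroup.le_normalizer)).trans
          (normalizer_inf_le _ _)
      · intro x hx
        obtain ⟨k, hk⟩ := hXp x hx.1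
        exact ⟨k, hCVY hk⟩
    have hXY : X ≤ Subgroup.centralizer (Y : Set G) := by
      have h1 := hP.pResOf_sup
      calc X = pResOf p X ⊔ P₀.map (MulAut.conj c⁻¹).toMonoidHom := h1.symm
        _ ≤ Subgroup.centralizer (Y : Set G) :=
          sup_le (hres.trans hCVY) ((le_inf hP.1 hPL).trans hXL)
    apply Subgroup.le_centralizer_iff.mp
    rw [hV]
    apply iSup_le
    intro h
    have h2 : Y ≤ Subgroup.centralizer (X : Set G) := Subgroup.le_centralizer_iff.mp hXY
    have h3 := Subgroup.map_mono (f := (MulAut.conj (h : G)).toMonoidHom) h2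
    rw [← centralizer_map_conj, map_conj_eq_of_mem_normalizer X (hHX h.2)] at h3
    exact h3
  exact hYV.trans (le_largestPReducedOf hred)

/-- Standing hypotheses: G a finite group, S a Sylow p-subgroup, Q a nontrivial large p-subgroup of G contained in S, M a subgroup containing S with the basic property (M ∈ 𝔐_G(S)); Y_M the largest p-reduced normal subgroup of M and M† = M·C_G(Y_M). Let F be the preimage in M† of the generalized Fitting subgroup of M†/C_{M†}(Y_M). If Y_M is asymmetric in G and H is a subgroup of characteristic p containing F, then Y_M ≤ Y_H. -/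
theorem result {G : Type*} [Group G] [Finite G] {p : ℕ} [Fact p.Prime] (S : Sylow p G) (Q : Subgroup G) (hQp : IsPGroup p ↥Q) (hQ1 : Q ≠ ⊥) (hQS : Q ≤ (S : Subgroup G)) (hQ : Cfsg.IsLarge Q) (M : Subgroup G) (hSM : (S : Subgroup G) ≤ M) (hM : Cfsg.IsInFrakM p M) (hasym : ¬ Cfsg.IsSymmetricIn (Cfsg.largestPReducedOf p M)) [hn : ((Subgroup.centralizer (((Cfsg.largestPReducedOf p M) : Subgroup G) : Set G)).subgroupOf (M ⊔ Subgroup.centralizer (((Cfsg.largestPReducedOf p M) : Subgroup G) : Set G))).Normal] (F : Subgroup G) (hF : F = ((Cfsg.generalizedFittingSubgroup (↥(M ⊔ Subgroup.centralizer (((Cfsg.largestPReducedOf p M) : Subgroup G) : Set G)) ⧸ (Subgroup.centralizer (((Cfsg.largestPReducedOf p M) : Subgroup G) : Set G)).subgroupOf (M ⊔ Subgroup.centralizer (((Cfsg.largestPReducedOf p M) : Subgroup G) : Set G)))).comap (QuotientGroup.mk' ((Subgroup.centralizer (((Cfsg.largestPReducedOf p M) : Subgroup G) : Set G)).subgroupOf (M ⊔ Subgroup.centralizer (((Cfsg.largestPReducedOf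 p M) : Subgroup G) : Set G))))).map ((M ⊔ Subgroup.centralizer (((Cfsg.largestPReducedOf p M) : Subgroup G) : Set G))).subtype) (H : Subgroup G) (hFH : F ≤ H) (hH : Subgroup.centralizer (Cfsg.pCore p ↥H : Set ↥H) ≤ Cfsg.pCore p ↥H) : (Cfsg.largestPReducedOf p M) ≤ Cfsg.largestPReducedOf p H := by
  classical
  have hchar := Cfsg.Agent.S2848.charP_of_mem_charPSubgroups hM.1
  have hD1 : Cfsg.pCoreOf p M ≠ ⊥ := Cfsg.Agent.S2850.pCoreOf_ne_bot' hM.1.1
  have hDp : IsPGroup p (Cfsg.pCoreOf p M) := pCoreOf_isPGroup p M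
  obtain ⟨hnd, hwc⟩ := Cfsg.Agent.S2850.main S Q hQp hQ1 hQ M hSM hM hasym
  have hYD : Cfsg.largestPReducedOf p M ≤ Cfsg.pCoreOf p M := largestPReducedOf_le_pCoreOf hchar
  have hDC := pCoreOf_le_centralizer_largestPReducedOf (p := p) hchar
  have hYL : IsPRedIn p (Cfsg.largestPReducedOf p M)
      (M ⊔ Subgroup.centralizer ((Cfsg.largestPReducedOf p M : Subgroup G) : Set G)) := by
    have h1 := isPRedIn_largestPReducedOf' (p := p)
      (M ⊔ Subgroup.centralizer ((Cfsg.largestPReducedOf p M : Subgroup G) : Set G))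
    rwa [← hM.2.2.2.1] at h1
  exact core hDp hwc hnd hYD hDC hYL le_sup_right H (hF ▸ hFH) ((charP_iff p H).mp hH)

end Cfsg.Agent.S2851
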