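import Cfsg.Statements.S2852
import Cfsg.Agent.S2850
import Cfsg.Agent.Lib.Helper18.WCChar
import Cfsg.Agent.Lib.Helper18.FStarP

set_option autoImplicit false
open Cfsg

namespace Cfsg.Agent.S2852

open Cfsg.Agent.Lib.Helper18

/-- `O_p(M)` is a Sylow `p`-subgroup of `C_G(Y_M)`. -/
theorem isSylowIn_pCoreOf {G : Type*} [Group G] [Finite G] {p : ℕ} [Fact p.Prime]
    (S : Sylow p G) (M : Subgroup G) (hSM : (S : Subgroup G) ≤ M) (hM : Cfsg.IsInFrakM p M) :
    IsSylowIn p (Cfsg.pCoreOf p M)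
      (Subgroup.centralizer ((Cfsg.largestPReducedOf p M : Subgroup G) : Set G)) := by
  have hchar := Cfsg.Agent.S2848.charP_of_mem_charPSubgroups hM.1
  have hY := isPRedIn_largestPReducedOf (p := p) hchar
  have hcore := Cfsg.Agent.S2848.pCoreOf_eq S hSM hM
  have hSN : (S : Subgroup G) ≤ Subgroup.normalizer (Subgroup.centralizer
      ((Cfsg.largestPReducedOf p M : Subgroup G) : Set G) : Set G) :=
    hSM.trans (hY.2.1.trans (normalizer_le_normalizer_centralizer _))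
  have hsyl := isSylowIn_inf_of_le_normalizer S hSN
  rwa [← hcore] at hsyl

/-- Standing hypotheses: G a finite group, S a Sylow p-subgroup, Q a nontrivial large p-subgroup of G contained in S, M a subgroup containing S with the basic property (M ∈ 𝔐_G(S)); Y_M the largest p-reduced normal subgroup of M. If Y_M is char-p-tall and asymmetric in G, then some subgroup H of G lies in ℌ_G(O_p(M)): H has characteristic p, O_p(M) ≤ H, Y_M ≰ O_p(H), and Y_M ≤ O_p(P) for every proper subgroup P of H containing O_p(M). -/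
theorem result {G : Type*} [Group G] [Finite G] {p : ℕ} [Fact p.Prime] (S : Sylow p G) (Q : Subgroup G) (hQp : IsPGroup p ↥Q) (hQ1 : Q ≠ ⊥) (hQS : Q ≤ (S : Subgroup G)) (hQ : Cfsg.IsLarge Q) (M : Subgroup G) (hSM : (S : Subgroup G) ≤ M) (hM : Cfsg.IsInFrakM p M) (htall : Cfsg.IsCharPTall p (Cfsg.largestPReducedOf p M)) (hasym : ¬ Cfsg.IsSymmetricIn (Cfsg.largestPReducedOf p M)) : ∃ H : Subgroup G, Cfsg.IsInFrakH p M H := by
  classical
  have hchar := Cfsg.Agent.S2848.charP_of_mem_charPSubgroups hM.1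
  have hY := isPRedIn_largestPReducedOf (p := p) hchar
  have hD1 : Cfsg.pCoreOf p M ≠ ⊥ := Cfsg.Agent.S2850.pCoreOf_ne_bot' hM.1.1
  have hDp : IsPGroup p (Cfsg.pCoreOf p M) := pCoreOf_isPGroup p M
  obtain ⟨hnd, hwc⟩ := Cfsg.Agent.S2850.main S Q hQp hQ1 hQ M hSM hM hasym
  have hCD : Subgroup.centralizer ((Cfsg.pCoreOf p M : Subgroup G) : Set G) ≤ Cfsg.pCoreOf p M :=
    hM.1.2
  obtain ⟨T, L, hTL, hLchar, hYL⟩ := htall
  have hsylD := isSylowIn_pCoreOf S M hSM hM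
  have hsylT := isSylowIn_map_subtype
    (Subgroup.centralizer ((Cfsg.largestPReducedOf p M : Subgroup G) : Set G)) T
  obtain ⟨c, hc, hconj⟩ := hsylT.exists_conj_eq hsylD
  obtain ⟨L', hL'⟩ : ∃ L' : Subgroup G, L' = L.map (MulAut.conj c).toMonoidHom := ⟨_, rfl⟩
  have hDL' : Cfsg.pCoreOf p M ≤ L' := by
    rw [hconj, hL']
    exact Subgroup.map_mono hTL
  have hL'char : Cfsg.Agent.Lib.Helper18.CharP p L' := by
    rw [hL']
    exact charP_map_conj ((charP_iff p L).mp hLchar) c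
  have hcY : c ∈ Subgroup.normalizer ((Cfsg.largestPReducedOf p M : Subgroup G) : Set G) :=
    Subgroup.centralizer_le_normalizer _ hc
  have hYL' : ¬ Cfsg.largestPReducedOf p M ≤ Cfsg.pCoreOf p L' := by
    intro hle
    apply hYL
    rw [hL', pCoreOf_map_conj] at hle
    have h1 : (Cfsg.largestPReducedOf p M).map (MulAut.conj c⁻¹).toMonoidHom ≤
        Cfsg.pCoreOf p L :=
      (map_conj_le_iff _ _ c⁻¹).mpr (by rw [inv_inv]; exact hle)
    rw [map_conj_eq_of_mem_normalizer _ (Subgroup.inv_mem _ hcY)] at h1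
    exact h1
  obtain ⟨𝒮, h𝒮⟩ : ∃ 𝒮 : Set (Subgroup G), 𝒮 = {H | Cfsg.Agent.Lib.Helper18.CharP p H ∧
      Cfsg.pCoreOf p M ≤ H ∧ ¬ Cfsg.largestPReducedOf p M ≤ Cfsg.pCoreOf p H} := ⟨_, rfl⟩
  have hL'mem : L' ∈ 𝒮 := by
    rw [h𝒮]
    exact ⟨hL'char, hDL', hYL'⟩
  obtain ⟨H, -, hHmin⟩ := (Set.toFinite 𝒮).exists_le_minimal hL'mem
  have hHmem := hHmin.1
  rw [h𝒮] at hHmem
  obtain ⟨hHchar, hDH, hYH⟩ := hHmem
  refine ⟨H, (charP_iff p H).mpr hHchar, hDH, hYH, ?_⟩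
  intro P hDP hPH
  by_contra hYP
  have hPchar : Cfsg.Agent.Lib.Helper18.CharP p P := charP_of_wcs hHchar hwc hCD hDP hPH.le
  have hPmem : P ∈ 𝒮 := by
    rw [h𝒮]
    exact ⟨hPchar, hDP, hYP⟩
  exact absurd (hHmin.2 hPmem hPH.le) (not_le_of_gt hPH)

end Cfsg.Agent.S2852
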