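import Cfsg.Statements.S2854
import Cfsg.Agent.S2853
import Cfsg.Agent.Lib.Helper18.Large2

set_option autoImplicit false
open Cfsg

namespace Cfsg.Agent.S2854

open Cfsg.Agent.Lib.Helper18

/-- The image of a normal closure inside `H` lies in the join of the `H`-conjugates. -/
theorem map_normalClosure_le_iSup {G : Type*} [Group G] (H D : Subgroup G) :
    (Subgroup.normalClosure ((D.subgroupOf H : Subgroup ↥H) : Set ↥H)).map H.subtype ≤
      ⨆ h : ↥H, D.map (MulAut.conj (h : G)).toMonoidHom := by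
  rw [Subgroup.map_le_iff_le_comap]
  apply (Subgroup.closure_le _).mpr
  intro x hx
  rw [Group.mem_conjugatesOfSet_iff] at hx
  obtain ⟨y, hy, hc⟩ := hx
  rw [isConj_iff] at hc
  obtain ⟨c, rfl⟩ := hc
  apply Subgroup.mem_iSup_of_mem c
  exact ⟨(y : G), hy, rfl⟩

theorem pClosedIn_of_map_subtype {G : Type*} [Group G] {p : ℕ} (K : Subgroup G)
    (N' : Subgroup ↥K) (h : PClosedIn p (N'.map K.subtype)) : PClosedIn p N' := by
  obtain ⟨R, hRN, hR, hn, hel⟩ := h
  refine ⟨R.subgroupOf K, ?_, hR.comap_subtype, ?_, ?_⟩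
  · intro x hx
    obtain ⟨y, hy, e⟩ := hRN (Subgroup.mem_subgroupOf.mp hx)
    have hyx : y = x := Subtype.ext e
    exact hyx ▸ hy
  · intro n hn'
    have h1 := hn ⟨n, hn', rfl⟩
    rw [Subgroup.mem_normalizer_iff] at h1 ⊢
    intro x
    rw [Subgroup.mem_subgroupOf, Subgroup.mem_subgroupOf]
    exact h1 x.1
  · rintro x hx ⟨k, hk⟩
    apply Subgroup.mem_subgroupOf.mpr
    apply hel x.1 ⟨x, hx, rfl⟩
    refine ⟨k, ?_⟩
    have h2 := congrArg (fun z : ↥K => (z : G)) hk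
    simpa using h2

theorem commutator_sup_le' {G : Type*} [Group G] {V N A B : Subgroup G}
    (hA : A ≤ Subgroup.normalizer (N : Set G)) (hB : B ≤ Subgroup.normalizer (N : Set G))
    (h1 : ⁅V, A⁆ ≤ N) (h2 : ⁅V, B⁆ ≤ N) : ⁅V, A ⊔ B⁆ ≤ N := by
  have h3 := commutator_iSup_le (V := V) (N := N) (X := fun b : Bool => bif b then A else B)
    (fun b => by cases b <;> simpa) (fun b => by cases b <;> simpa)
  have e : A ⊔ B = ⨆ b : Bool, bif b then A else B := by
    rw [iSup_bool_eq]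
    simp
  rw [e]
  exact h3

open scoped commutatorElement in
/-- The key step for `p`-irreducibility of `K = H Q'`. -/
theorem irr_core {G : Type*} [Group G] [Finite G] {p : ℕ} [Fact p.Prime]
    {D Y H K Q' : Subgroup G}
    (hDp : IsPGroup p D) (hYD : Y ≤ D) (hDY : D ≤ Subgroup.normalizer (Y : Set G))
    (hDH : D ≤ H) (hYH : ¬ Y ≤ Cfsg.pCoreOf p H)
    (hHmin : ∀ P : Subgroup G, D ≤ P → P < H → Y ≤ Cfsg.pCoreOf p P)
    (hK : K = H ⊔ Q') (hQ'p : IsPGroup p Q')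
    (hHQ : H ≤ Subgroup.normalizer (Q' : Set G)) (hQH : Q' ≤ Subgroup.normalizer (H : Set G))
    (N : Subgroup G) (hNK : N ≤ K) (hKN : K ≤ Subgroup.normalizer (N : Set G))
    (hRN : ¬ pResOf p H ≤ N) : Cfsg.IsPClosed p ↥N := by
  obtain ⟨hc, hd, -, -⟩ := Cfsg.Agent.S2853.structH hDp hYD hDY hDH hYH hHmin
  obtain ⟨R, hR'⟩ : ∃ R : Subgroup G, R = pResOf p H := ⟨_, rfl⟩
  rw [← hR'] at hc hd hRN
  have hRH : R ≤ H := hR' ▸ pResOf_le p H
  have hHR : H ≤ Subgroup.normalizer (R : Set G) := hR' ▸ le_normalizer_pResOf p H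
  have hHK : H ≤ K := hK ▸ le_sup_left
  have hQK : Q' ≤ K := hK ▸ le_sup_right
  have hDK : D ≤ K := hDH.trans hHK
  have hKH : K ≤ Subgroup.normalizer (H : Set G) := hK ▸ sup_le Subgroup.le_normalizer hQH
  have hKQ : K ≤ Subgroup.normalizer (Q' : Set G) := hK ▸ sup_le hHQ Subgroup.le_normalizer
  -- (i)
  have hi : ¬ H ≤ N ⊔ D := by
    intro hle
    apply hRN
    have h1 : pResOf p (D ⊔ N) = pResOf p N := pResOf_sup_eq hDp (hDK.trans hKN)
    calc R = pResOf p H := hR'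
      _ ≤ pResOf p (D ⊔ N) := pResOf_mono p (by rw [sup_comm]; exact hle)
      _ = pResOf p N := h1
      _ ≤ N := pResOf_le p N
  -- (ii)
  have hii : Y ≤ Cfsg.pCoreOf p (N ⊔ D) := by
    by_contra hno
    obtain ⟨𝒮, h𝒮⟩ : ∃ 𝒮 : Set (Subgroup G),
        𝒮 = {X | D ≤ X ∧ X ≤ N ⊔ D ∧ ¬ Y ≤ Cfsg.pCoreOf p X} := ⟨_, rfl⟩
    have hLmem : N ⊔ D ∈ 𝒮 := by
      rw [h𝒮]
      exact ⟨le_sup_right, le_rfl, hno⟩
    obtain ⟨H', -, hH'min⟩ := (Set.toFinite 𝒮).exists_le_minimal hLmem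
    have hH'mem := hH'min.1
    rw [h𝒮] at hH'mem
    obtain ⟨hDH', hH'L, hYH'⟩ := hH'mem
    have hmin' : ∀ P : Subgroup G, D ≤ P → P < H' → Y ≤ Cfsg.pCoreOf p P := by
      intro P hDP hPH'
      by_contra hYP
      have hPmem : P ∈ 𝒮 := by
        rw [h𝒮]
        exact ⟨hDP, hPH'.le.trans hH'L, hYP⟩
      exact absurd (hH'min.2 hPmem hPH'.le) (not_le_of_gt hPH')
    obtain ⟨-, -, -, hf'⟩ := Cfsg.Agent.S2853.structH hDp hYD hDY hDH' hYH' hmin'
    have hH'K : H' ≤ K := hH'L.trans (sup_le hNK hDK)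
    have hH'H : H' ≤ H := by
      have h1 := map_normalClosure_le_iSup H' D
      rw [hf'] at h1
      refine h1.trans (iSup_le ?_)
      intro h
      have h2 : D.map (MulAut.conj (h : G)).toMonoidHom ≤ H.map (MulAut.conj (h : G)).toMonoidHom :=
        Subgroup.map_mono hDH
      rw [map_conj_eq_of_mem_normalizer H (hKH (hH'K h.2))] at h2
      exact h2
    have hne : H' ≠ H := by
      intro e
      apply hi
      rw [← e]
      exact hH'L
    exact hYH' (hHmin H' hDH' (lt_of_le_of_ne hH'H hne))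
  -- (iii)
  have hKO : K ≤ Subgroup.normalizer ((Cfsg.pCoreOf p N : Subgroup G) : Set G) :=
    hKN.trans (normalizer_le_normalizer_pCoreOf p N)
  have hYK : Y ≤ K := hYD.trans hDK
  have hiii : ⁅N, Y⁆ ≤ Cfsg.pCoreOf p N := by
    have h1 : ⁅N, Y⁆ ≤ Cfsg.pCoreOf p (N ⊔ D) :=
      (Subgroup.commutator_mono le_rfl hii).trans
        (commutator_le_of_le_normalizer (le_sup_left.trans (le_normalizer_pCoreOf p (N ⊔ D))))
    have h2 : ⁅N, Y⁆ ≤ N := commutator_le_of_le_normalizer' (hYK.trans hKN)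
    have h3 : Cfsg.pCoreOf p (N ⊔ D) ⊓ N ≤ Cfsg.pCoreOf p N := by
      apply le_pCoreOf inf_le_right _ ((pCoreOf_isPGroup p _).to_le inf_le_left)
      exact (le_inf (le_sup_left.trans (le_normalizer_pCoreOf p (N ⊔ D)))
        Subgroup.le_normalizer).trans (normalizer_inf_le _ _)
    exact (le_inf h1 h2).trans h3
  -- (iv), (v)
  have hv : ⁅N, R⁆ ≤ Cfsg.pCoreOf p N := by
    have h1 : ⁅N, ⨆ k : ↥K, Y.map (MulAut.conj (k : G)).toMonoidHom⁆ ≤ Cfsg.pCoreOf p N := by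
      apply commutator_iSup_le
      · intro k
        have h2 : Y.map (MulAut.conj (k : G)).toMonoidHom ≤
            K.map (MulAut.conj (k : G)).toMonoidHom := Subgroup.map_mono hYK
        rw [map_conj_eq_of_mem_normalizer K (Subgroup.le_normalizer k.2)] at h2
        exact h2.trans hKO
      · intro k
        have h2 := Subgroup.map_mono (f := (MulAut.conj (k : G)).toMonoidHom) hiii
        rw [Subgroup.map_commutator, map_conj_eq_of_mem_normalizer N (hKN k.2),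
          map_conj_eq_of_mem_normalizer _ (hKO k.2)] at h2
        exact h2
    refine (Subgroup.commutator_mono le_rfl ?_).trans h1
    rw [← hc, Subgroup.commutator_le]
    intro r hr y hy
    have e : ⁅r, y⁆ = (r * y * r⁻¹) * y⁻¹ := by rw [commutatorElement_def]
    rw [e]
    apply Subgroup.mul_mem
    · exact Subgroup.mem_iSup_of_mem (⟨r, hHK (hRH hr)⟩ : ↥K) ⟨y, hy, rfl⟩
    · apply Subgroup.inv_mem
      exact Subgroup.mem_iSup_of_mem (⟨1, K.one_mem⟩ : ↥K) ⟨y, hy, by simp⟩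
  -- (vi)
  have hvi : ⁅N, Q'⁆ ≤ Cfsg.pCoreOf p N := by
    have h1 : ⁅N, Q'⁆ ≤ N := commutator_le_of_le_normalizer' (hQK.trans hKN)
    have h2 : ⁅N, Q'⁆ ≤ Q' := commutator_le_of_le_normalizer (hNK.trans hKQ)
    have h3 : N ⊓ Q' ≤ Cfsg.pCoreOf p N := by
      apply le_pCoreOf inf_le_left _ (hQ'p.to_le inf_le_right)
      exact (le_inf Subgroup.le_normalizer (hNK.trans hKQ)).trans (normalizer_inf_le _ _)
    exact (le_inf h1 h2).trans h3
  -- (vii)
  have hvii : ⁅N, R ⊔ Q'⁆ ≤ Cfsg.pCoreOf p N :=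
    commutator_sup_le' ((hRH.trans hHK).trans hKO) (hQK.trans hKO) hv hvi
  -- (viii)
  have hKeq : K = D ⊔ (R ⊔ Q') := by
    rw [hK, ← hd, sup_comm R D, sup_assoc]
  have hDX : D ≤ Subgroup.normalizer ((R ⊔ Q' : Subgroup G) : Set G) :=
    (le_inf (hDH.trans hHR) (hDH.trans hHQ)).trans (normalizer_inf_le_normalizer_sup _ _)
  have hviii : pResOf p N ≤ R ⊔ Q' := by
    calc pResOf p N ≤ pResOf p K := pResOf_mono p hNK
      _ = pResOf p (D ⊔ (R ⊔ Q')) := by rw [← hKeq]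
      _ = pResOf p (R ⊔ Q') := pResOf_sup_eq hDp hDX
      _ ≤ R ⊔ Q' := pResOf_le p _
  -- (ix)
  obtain ⟨T, hT, -⟩ := exists_isSylowIn_ge (p := p) (R₀ := (⊥ : Subgroup G)) (K := N)
    (IsPGroup.of_bot) bot_le
  have hOT : Cfsg.pCoreOf p N ≤ T :=
    hT.le_of_normal (pCoreOf_isPGroup p N) (pCoreOf_le p N) (le_normalizer_pCoreOf p N)
  have hXT : (R ⊔ Q') ⊓ N ≤ Subgroup.normalizer (T : Set G) := by
    apply Cfsg.Agent.S2850.le_normalizer_of_commutator_le
    exact ((Subgroup.commutator_mono hT.1 inf_le_left).trans hvii).trans hOT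
  have hNT : N ≤ Subgroup.normalizer (T : Set G) := by
    have h1 := hT.pResOf_sup
    calc N = pResOf p N ⊔ T := h1.symm
      _ ≤ Subgroup.normalizer (T : Set G) :=
        sup_le ((le_inf hviii (pResOf_le p N)).trans hXT) Subgroup.le_normalizer
  exact (isPClosed_subgroup_iff hT).mpr hNT

/-- Standing hypotheses: G a finite group, S a Sylow p-subgroup, Q a nontrivial large p-subgroup of G contained in S, M a subgroup containing S with the basic property (M ∈ 𝔐_G(S)); Y_M the largest p-reduced normal subgroup of M and M† = M·C_G(Y_M). Suppose Y_M is asymmetric in G, H ∈ ℌ_G(O_p(M)), and H ≤ N_G(gQg⁻¹) for some g ∈ G. Then gQg⁻¹ ≤ O_p(H·gQg⁻¹) ≤ N_G(O_p(M)) ≤ N_G(Y_M) = M†; H is normal in H·gQg⁻¹ with O^p(H) = O^p(H·gQg⁻¹); and H·gQg⁻¹ is p-irreducible. -/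
theorem result {G : Type*} [Group G] [Finite G] {p : ℕ} [Fact p.Prime] (S : Sylow p G) (Q : Subgroup G) (hQp : IsPGroup p ↥Q) (hQ1 : Q ≠ ⊥) (hQS : Q ≤ (S : Subgroup G)) (hQ : Cfsg.IsLarge Q) (M : Subgroup G) (hSM : (S : Subgroup G) ≤ M) (hM : Cfsg.IsInFrakM p M) (hasym : ¬ Cfsg.IsSymmetricIn (Cfsg.largestPReducedOf p M)) (H : Subgroup G) (hH : Cfsg.IsInFrakH p M H) (g : G) (hHQ : H ≤ Subgroup.normalizer ((((Q : Subgroup G).map (MulAut.conj (g : G)).toMonoidHom) : Subgroup G) : Set G)) : ((Q : Subgroup G).map (MulAut.conj (g : G)).toMonoidHom) ≤ Cfsg.pCoreOf p (H ⊔ ((Q : Subgroup G).map (MulAut.conj (g : G)).toMonoidHom)) ∧ Cfsg.pCoreOf p (H ⊔ ((Q : Subgroup G).map (MulAut.conj (g : G)).toMonoidHom)) ≤ Subgroup.normalizer (((Cfsg.pCoreOf p M) : Subgroup G) : Set G) ∧ Subgroup.normalizer (((Cfsg.pCoreOf p M) : Subgroup G) : Set G) ≤ Subgroup.normalizer (((Cfsg.largestPReducedOf p M) : Subgroup G) : Set G) ∧ Subgroup.normalizer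 (((Cfsg.largestPReducedOf p M) : Subgroup G) : Set G) = (M ⊔ Subgroup.centralizer (((Cfsg.largestPReducedOf p M) : Subgroup G) : Set G)) ∧ (H.subgroupOf (H ⊔ ((Q : Subgroup G).map (MulAut.conj (g : G)).toMonoidHom))).Normal ∧ (Cfsg.pResidual p ↥H).map H.subtype = (Cfsg.pResidual p ↥(H ⊔ ((Q : Subgroup G).map (MulAut.conj (g : G)).toMonoidHom))).map (H ⊔ ((Q : Subgroup G).map (MulAut.conj (g : G)).toMonoidHom)).subtype ∧ Cfsg.IsPIrreducible p ↥(H ⊔ ((Q : Subgroup G).map (MulAut.conj (g : G)).toMonoidHom)) := by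
  classical
  have hchar := Cfsg.Agent.S2848.charP_of_mem_charPSubgroups hM.1
  have hY := isPRedIn_largestPReducedOf (p := p) hchar
  have hD1 : Cfsg.pCoreOf p M ≠ ⊥ := Cfsg.Agent.S2850.pCoreOf_ne_bot' hM.1.1
  have hDp : IsPGroup p (Cfsg.pCoreOf p M) := pCoreOf_isPGroup p M
  obtain ⟨hnd, hwc⟩ := Cfsg.Agent.S2850.main S Q hQp hQ1 hQ M hSM hM hasym
  have hYD : Cfsg.largestPReducedOf p M ≤ Cfsg.pCoreOf p M := largestPReducedOf_le_pCoreOf hchar
  have hdY : M ⊔ Subgroup.centralizer ((Cfsg.largestPReducedOf p M : Subgroup G) : Set G) ≤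
      Subgroup.normalizer ((Cfsg.largestPReducedOf p M : Subgroup G) : Set G) :=
    sup_le hY.2.1 (Subgroup.centralizer_le_normalizer _)
  have hDY : Cfsg.pCoreOf p M ≤
      Subgroup.normalizer ((Cfsg.largestPReducedOf p M : Subgroup G) : Set G) :=
    (pCoreOf_le p M).trans hY.2.1
  obtain ⟨hHchar, hDH, hYH, hHmin⟩ := hH
  obtain ⟨-, -, -, hf⟩ := Cfsg.Agent.S2853.structH hDp hYD hDY hDH hYH hHmin
  obtain ⟨Q', hQ'⟩ : ∃ Q' : Subgroup G, Q' = Q.map (MulAut.conj g).toMonoidHom := ⟨_, rfl⟩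
  rw [← hQ'] at hHQ ⊢
  have hQ'p : IsPGroup p Q' := hQ' ▸ hQp.map _
  obtain ⟨K, hK⟩ : ∃ K : Subgroup G, K = H ⊔ Q' := ⟨_, rfl⟩
  rw [← hK]
  have hHK : H ≤ K := hK ▸ le_sup_left
  have hQK : Q' ≤ K := hK ▸ le_sup_right
  have hKQ : K ≤ Subgroup.normalizer (Q' : Set G) := hK ▸ sup_le hHQ Subgroup.le_normalizer
  have h1 : Q' ≤ Cfsg.pCoreOf p K := le_pCoreOf hQK hKQ hQ'p
  have h2 : Cfsg.pCoreOf p K ≤ Subgroup.normalizer ((Cfsg.pCoreOf p M : Subgroup G) : Set G) := by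
    have hU : IsPGroup p (Cfsg.pCoreOf p M ⊔ Cfsg.pCoreOf p K : Subgroup G) :=
      IsPGroup.to_sup_of_normal_right' hDp (pCoreOf_isPGroup p K)
        ((hDH.trans hHK).trans (le_normalizer_pCoreOf p K))
    exact le_sup_right.trans (wcs_le_normalizer_of_le hwc hU le_sup_left)
  have hY1 : Cfsg.largestPReducedOf p M ≠ ⊥ := by
    intro e
    apply hYH
    rw [e]
    exact bot_le
  have h4 : Subgroup.normalizer ((Cfsg.largestPReducedOf p M : Subgroup G) : Set G) =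
      M ⊔ Subgroup.centralizer ((Cfsg.largestPReducedOf p M : Subgroup G) : Set G) :=
    le_antisymm (Cfsg.Agent.S2850.normalizer_le_dagger S Q hQp hQ1 hQ M hSM hM _ hY1
      (hDp.to_le hYD) hY.2.1) hdY
  -- `Q'` normalizes `H`
  have hQD : Q' ≤ Subgroup.normalizer ((Cfsg.pCoreOf p M : Subgroup G) : Set G) := h1.trans h2
  have hHsup : H = ⨆ h : ↥H, (Cfsg.pCoreOf p M).map (MulAut.conj (h : G)).toMonoidHom := by
    apply le_antisymm
    · have h3 := map_normalClosure_le_iSup H (Cfsg.pCoreOf p M)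
      rwa [hf] at h3
    · apply iSup_le
      intro h
      have h3 : (Cfsg.pCoreOf p M).map (MulAut.conj (h : G)).toMonoidHom ≤
          H.map (MulAut.conj (h : G)).toMonoidHom := Subgroup.map_mono hDH
      rwa [map_conj_eq_of_mem_normalizer H (Subgroup.le_normalizer h.2)] at h3
  have hQH : Q' ≤ Subgroup.normalizer (H : Set G) := by
    apply le_normalizer_of_forall_map_conj_le
    intro q hq
    have hstep : (⨆ h : ↥H, (Cfsg.pCoreOf p M).map (MulAut.conj (h : G)).toMonoidHom).map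
        (MulAut.conj q).toMonoidHom ≤
        ⨆ h : ↥H, (Cfsg.pCoreOf p M).map (MulAut.conj (h : G)).toMonoidHom := by
      rw [Subgroup.map_iSup]
      apply iSup_le
      intro h
      rw [← map_conj_mul]
      have hqh : q * (h : G) ∈ H ⊔ Q' :=
        Subgroup.mul_mem _ ((le_sup_right : Q' ≤ H ⊔ Q') hq) ((le_sup_left : H ≤ H ⊔ Q') h.2)
      obtain ⟨h', hh', q', hq', e⟩ := mem_sup_of_le_normalizer hHQ hqh
      rw [e, map_conj_mul, map_conj_eq_of_mem_normalizer _ (hQD hq')]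
      exact le_iSup (fun h : ↥H => (Cfsg.pCoreOf p M).map (MulAut.conj (h : G)).toMonoidHom)
        ⟨h', hh'⟩
    rw [← hHsup] at hstep
    exact hstep
  have hKH : K ≤ Subgroup.normalizer (H : Set G) := hK ▸ sup_le Subgroup.le_normalizer hQH
  have h6 : pResOf p H = pResOf p K := by
    have h7 : pResOf p (Q' ⊔ H) = pResOf p H := pResOf_sup_eq hQ'p hQH
    rw [hK, sup_comm, h7]
  refine ⟨h1, h2, hnd.trans hdY, h4, Subgroup.normal_subgroupOf_of_le_normalizer hKH, ?_, ?_, ?_⟩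
  · rw [map_pResidual_subtype, map_pResidual_subtype]
    exact h6
  · intro hcl
    obtain ⟨R₀, hR₀K, hR₀p, hKR₀, hel⟩ := (isPClosed_subgroup_iff_pClosedIn K).mp hcl
    have hDR₀ : Cfsg.pCoreOf p M ≤ R₀ := by
      intro d hd
      apply hel d (hHK (hDH hd))
      obtain ⟨k, hk⟩ := hDp ⟨d, hd⟩
      exact ⟨k, congrArg Subtype.val hk⟩
    apply hYH
    have h8 : R₀ ⊓ H ≤ Cfsg.pCoreOf p H := by
      apply le_pCoreOf inf_le_right _ (hR₀p.to_le inf_le_left)
      exact (le_inf (hHK.trans hKR₀) Subgroup.le_normalizer).trans (normalizer_inf_le _ _)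
    exact (le_inf (hYD.trans hDR₀) ((hYD.trans hDH))).trans h8
  · intro N' hN' hncl
    by_contra hres
    apply hncl
    have hNK : N'.map K.subtype ≤ K := Subgroup.map_subtype_le _
    have hKN := Cfsg.Agent.S2853.le_normalizer_map_subtype_of_normal N' hN'
    have hRN : ¬ pResOf p H ≤ N'.map K.subtype := by
      intro hle
      apply hres
      rw [h6, ← map_pResidual_subtype] at hle
      exact (Subgroup.map_le_map_iff_of_injective K.subtype_injective).mp hle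
    have h9 := irr_core hDp hYD hDY hDH hYH hHmin hK hQ'p hHQ hQH (N'.map K.subtype) hNK hKN hRN
    exact (isPClosed_subgroup_iff_pClosedIn N').mpr
      (pClosedIn_of_map_subtype K N' ((isPClosed_subgroup_iff_pClosedIn _).mp h9))

end Cfsg.Agent.S2854
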