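import Cfsg.Statements.S2860
import Cfsg.Agent.Lib.Helper18.QSLarge

set_option autoImplicit false
open Cfsg

namespace Cfsg.Agent.S2860

open Cfsg.Agent.Lib.Helper18

/-- Let Q be a nontrivial large p-subgroup of the finite group H, U a nontrivial elementary abelian p-subgroup of H, and Q ≤ E ≤ N_H(U) with Q not normal in E. Suppose O_p(E/C_E(U)) = 1 and O^p(E)·C_E(U)/C_E(U) is quasisimple. Let E° be the weak closure of Q in E (generated by the conjugates of Q inside E) and E_∘ = O^p(E°). Then O^p(E)·C_E(U) = E_∘·C_E(U); E_∘ is perfect and equals O^p(E_∘); E_∘/C_{E_∘}(U) and E_∘/O_p(E_∘) are quasisimple; and E_∘ = [E_∘, Y] for every p-subgroup Y of E not centralizing U. -/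
theorem result {G : Type*} [Group G] [Finite G] {p : ℕ} [Fact p.Prime] (Q : Subgroup G) (hQp : IsPGroup p ↥Q) (hQ1 : Q ≠ ⊥) (hQ : Cfsg.IsLarge Q) (U : Subgroup G) (hU : Cfsg.IsElementaryAbelian p U) (hU1 : U ≠ ⊥) (E : Subgroup G) (hQE : Q ≤ E) (hEU : E ≤ Subgroup.normalizer ((U : Subgroup G) : Set G)) (hQn : ¬ E ≤ Subgroup.normalizer ((Q : Subgroup G) : Set G)) [hn : ((Subgroup.centralizer ((U : Subgroup G) : Set G)).subgroupOf E).Normal] (hred : Cfsg.pCore p (↥E ⧸ (Subgroup.centralizer ((U : Subgroup G) : Set G)).subgroupOf E) = ⊥) (hqs : Cfsg.IsQuasisimple ↥(((Cfsg.pResidual p ↥E) ⊔ (Subgroup.centralizer ((U : Subgroup G) : Set G)).subgroupOf E).map (QuotientGroup.mk' ((Subgroup.centralizer ((U : Subgroup G) : Set G)).subgroupOf E)))) (Er : Subgroup G) (hEr : Er = ((Cfsg.pResidual p ↥(Cfsg.weakClosure Q E)).map ((Cfsg.weakClosure Q E)).subtype)) [hn2 : ((Subgroup.centralizer ((U : Subgroup G) : Set G)).subgroupOf Er).Normal] : ((Cfsg.pResidual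 p ↥E).map (E).subtype) ⊔ (E ⊓ Subgroup.centralizer ((U : Subgroup G) : Set G)) = Er ⊔ (E ⊓ Subgroup.centralizer ((U : Subgroup G) : Set G)) ∧ ⁅Er, Er⁆ = Er ∧ ((Cfsg.pResidual p ↥Er).map (Er).subtype) = Er ∧ Cfsg.IsQuasisimple (↥Er ⧸ (Subgroup.centralizer ((U : Subgroup G) : Set G)).subgroupOf Er) ∧ Cfsg.IsQuasisimple (↥Er ⧸ Cfsg.pCore p ↥Er) ∧ ∀ Y : Subgroup G, Y ≤ E → IsPGroup p ↥Y → ¬ Y ≤ Subgroup.centralizer ((U : Subgroup G) : Set G) → ⁅Er, Y⁆ = Er := by
  have hU' : IsPGroup p ↥U := by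
    intro u
    refine ⟨1, ?_⟩
    apply Subtype.ext
    rw [pow_one]
    exact hU.2 u.1 u.2
  have hECU : E ≤ Subgroup.normalizer (Subgroup.centralizer (U : Set G) : Set G) :=
    hEU.trans (normalizer_le_normalizer_centralizer U)
  have hCN : ∀ g : G, Q.map (MulAut.conj g).toMonoidHom ≤ E →
      Subgroup.centralizer (U : Set G) ≤
        Subgroup.normalizer ((Q.map (MulAut.conj g).toMonoidHom : Subgroup G) : Set G) :=
    fun g hg => isLarge_centralizer_le_normalizer (isPGroup_map_conj hQp g)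
      (isLarge_map_conj hQ g) hU' hU1 (hg.trans hEU)
  have hQC : ¬ Q ≤ Subgroup.centralizer (U : Set G) := by
    intro h
    apply hQn
    have hUQ : U ≤ Subgroup.centralizer (Q : Set G) := Subgroup.le_centralizer_iff.mp h
    exact hEU.trans (hQ.2 U hUQ hU1)
  have hqs' : Cfsg.IsQuasisimple ↥(Cfsg.pResidual p
      (↥E ⧸ (Subgroup.centralizer (U : Set G)).subgroupOf E)) := by
    have e : ((Cfsg.pResidual p ↥E) ⊔ (Subgroup.centralizer (U : Set G)).subgroupOf E).map
        (QuotientGroup.mk' ((Subgroup.centralizer (U : Set G)).subgroupOf E)) =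
        Cfsg.pResidual p (↥E ⧸ (Subgroup.centralizer (U : Set G)).subgroupOf E) := by
      rw [Subgroup.map_sup, QuotientGroup.map_mk'_self, sup_bot_eq, map_pResidual_mk]
    rw [← e]; exact hqs
  have hL : Er = pResOf p (Cfsg.weakClosure Q E) := hEr.trans (map_pResidual_subtype p _)
  obtain ⟨c1, c2, c3, c4, c5, c6⟩ := large_qs_main Q E (Subgroup.centralizer (U : Set G)) hQp hQE
    hECU hCN hQC hred hqs' Er hL
  refine ⟨?_, c2, ?_, c4, c5, c6⟩
  · rw [map_pResidual_subtype]; exact c1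
  · rw [map_pResidual_subtype]; exact c3

end Cfsg.Agent.S2860
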