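import Cfsg.Statements.S2864
import Cfsg.Agent.Lib.Helper18.MinSupp
import Cfsg.Agent.Lib.Helper18.Burnside
import Cfsg.Agent.Lib.Helper18.Large2
import Cfsg.Agent.Lib.Helper18.WeakClosed
import Cfsg.Agent.Lib.Helper18.Frattini
import Cfsg.Agent.S2845

set_option autoImplicit false
open Cfsg

namespace Cfsg.Agent.S2864

open Cfsg.Agent.Lib.Helper18

open scoped commutatorElement in
/-- the abstract core: `Y` lies in a normal `p`-subgroup of `L`. -/
theorem core {G : Type*} [Group G] [Finite G] {p : ℕ} [Fact p.Prime]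
    {Md Y L A : Subgroup G} (hAp : IsPGroup p ↥A) (hAL : A ≤ L)
    (hLA : L ≤ Subgroup.normalizer ((A : Subgroup G) : Set G))
    (hCM : L ⊓ Subgroup.centralizer ((A : Subgroup G) : Set G) ≤ Md)
    (hY : Y ≤ Cfsg.pCoreOf p Md) (hYL : Y ≤ L) (hc : ⁅A, Y⁆ ≤ ⁅A, A⁆) :
    Y ≤ Cfsg.pCoreOf p L := by
  obtain ⟨C₀, hC₀⟩ : ∃ C₀ : Subgroup G, C₀ = L ⊓ Subgroup.centralizer (A : Set G) := ⟨_, rfl⟩
  rw [← hC₀] at hCM
  have hC₀L : C₀ ≤ L := hC₀ ▸ inf_le_left
  have hC₀A : C₀ ≤ Subgroup.centralizer (A : Set G) := hC₀ ▸ inf_le_right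
  have hLnAA : L ≤ Subgroup.normalizer ((⁅A, A⁆ : Subgroup G) : Set G) :=
    hLA.trans (normalizer_le_normalizer_commutator_self A)
  have hLnC₀ : L ≤ Subgroup.normalizer (C₀ : Set G) := by
    rw [hC₀]
    exact (le_inf Subgroup.le_normalizer
      (hLA.trans (normalizer_le_normalizer_centralizer A))).trans (normalizer_inf_le _ _)
  obtain ⟨R₀, hR₀⟩ : ∃ R₀ : Subgroup G, R₀ = Cfsg.pCoreOf p C₀ := ⟨_, rfl⟩
  have hR₀p : IsPGroup p R₀ := hR₀ ▸ pCoreOf_isPGroup p C₀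
  have hR₀C₀ : R₀ ≤ C₀ := hR₀ ▸ pCoreOf_le p C₀
  have hLnR₀ : L ≤ Subgroup.normalizer (R₀ : Set G) := by
    rw [hR₀]; exact hLnC₀.trans (normalizer_le_normalizer_pCoreOf p C₀)
  have hYp : IsPGroup p Y := (pCoreOf_isPGroup p Md).to_le hY
  obtain ⟨𝒵, h𝒵⟩ : ∃ 𝒵 : Set (Subgroup G), 𝒵 = {Z | Z ≤ L ∧ IsPGroup p Z ∧
      ⁅A, Z⁆ ≤ ⁅A, A⁆ ∧ ⁅C₀, Z⁆ ≤ R₀} := ⟨_, rfl⟩
  have h𝒵iff : ∀ Z, Z ∈ 𝒵 ↔ (Z ≤ L ∧ IsPGroup p Z ∧ ⁅A, Z⁆ ≤ ⁅A, A⁆ ∧ ⁅C₀, Z⁆ ≤ R₀) := by
    intro Z; rw [h𝒵]; exact Iff.rfl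
  have hY𝒵 : Y ∈ 𝒵 := by
    refine (h𝒵iff Y).mpr ⟨hYL, hYp, hc, ?_⟩
    have h1 : ⁅C₀, Y⁆ ≤ C₀ := commutator_le_of_le_normalizer' (hYL.trans hLnC₀)
    have h2 : ⁅C₀, Y⁆ ≤ Cfsg.pCoreOf p Md :=
      (Subgroup.commutator_mono le_rfl hY).trans
        (commutator_le_of_le_normalizer (hCM.trans (le_normalizer_pCoreOf p Md)))
    rw [hR₀]
    exact (le_inf h1 h2).trans (le_pCoreOf inf_le_left
      ((le_inf Subgroup.le_normalizer (hCM.trans (le_normalizer_pCoreOf p Md))).trans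
        (normalizer_inf_le _ _))
      ((pCoreOf_isPGroup p Md).to_le inf_le_right))
  have hR₀𝒵 : R₀ ∈ 𝒵 := by
    refine (h𝒵iff R₀).mpr ⟨hR₀C₀.trans hC₀L, hR₀p, ?_, ?_⟩
    · have : ⁅A, R₀⁆ = ⊥ := by
        rw [Subgroup.commutator_comm, Subgroup.commutator_eq_bot_iff_le_centralizer]
        exact hR₀C₀.trans hC₀A
      rw [this]; exact bot_le
    · exact commutator_le_of_le_normalizer (hC₀L.trans hLnR₀)
  obtain ⟨X, hX⟩ : ∃ X : Subgroup G, X = sSup 𝒵 := ⟨_, rfl⟩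
  have hXL : X ≤ L := by
    rw [hX]; exact sSup_le (fun Z hZ => ((h𝒵iff Z).mp hZ).1)
  have hconj : ∀ Z ∈ 𝒵, ∀ l ∈ L, Z.map (MulAut.conj l).toMonoidHom ∈ 𝒵 := by
    intro Z hZ l hl
    obtain ⟨hZL, hZp, hZA, hZC⟩ := (h𝒵iff Z).mp hZ
    refine (h𝒵iff _).mpr ⟨?_, hZp.map _, ?_, ?_⟩
    · have := Subgroup.map_mono (f := (MulAut.conj l).toMonoidHom) hZL
      rwa [map_conj_eq_of_mem_normalizer L (Subgroup.le_normalizer hl)] at this
    · have := Subgroup.map_mono (f := (MulAut.conj l).toMonoidHom) hZA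
      rwa [Subgroup.map_commutator, map_conj_eq_of_mem_normalizer A (hLA hl),
        map_conj_eq_of_mem_normalizer _ (hLnAA hl)] at this
    · have := Subgroup.map_mono (f := (MulAut.conj l).toMonoidHom) hZC
      rwa [Subgroup.map_commutator, map_conj_eq_of_mem_normalizer C₀ (hLnC₀ hl),
        map_conj_eq_of_mem_normalizer R₀ (hLnR₀ hl)] at this
  have hLnX : L ≤ Subgroup.normalizer (X : Set G) := by
    apply le_normalizer_of_forall_map_conj_le
    intro l hl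
    rw [hX, sSup_eq_iSup', Subgroup.map_iSup]
    apply iSup_le
    intro Z
    exact le_iSup (fun Z : 𝒵 => (Z : Subgroup G)) ⟨_, hconj Z.1 Z.2 l hl⟩
  have hXA : ⁅A, X⁆ ≤ ⁅A, A⁆ := by
    rw [hX, sSup_eq_iSup']
    apply commutator_iSup_le
    · intro Z; exact ((h𝒵iff Z.1).mp Z.2).1.trans hLnAA
    · intro Z; exact ((h𝒵iff Z.1).mp Z.2).2.2.1
  have hXC : ⁅C₀, X⁆ ≤ R₀ := by
    rw [hX, sSup_eq_iSup']
    apply commutator_iSup_le
    · intro Z; exact ((h𝒵iff Z.1).mp Z.2).1.trans hLnR₀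
    · intro Z; exact ((h𝒵iff Z.1).mp Z.2).2.2.2
  have hR₀X : R₀ ≤ X := by rw [hX]; exact le_sSup hR₀𝒵
  have hYX : Y ≤ X := by rw [hX]; exact le_sSup hY𝒵
  -- `p'`-elements of `X` centralize `A`
  have hpr : ∀ x ∈ X, (orderOf x).Coprime p → x ∈ C₀ := by
    intro x hx hcop
    rw [hC₀]
    refine ⟨hXL hx, ?_⟩
    apply centralizes_of_commutator_le hAp (hLA (hXL hx)) hcop
    exact (Subgroup.commutator_mono le_rfl ((Subgroup.zpowers_le).mpr hx)).trans hXA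
  obtain ⟨P, hP, -⟩ := exists_isSylowIn_ge (p := p) (R₀ := ⊥) (K := X) IsPGroup.of_bot bot_le
  have hR₀P : R₀ ≤ P := hP.le_of_normal hR₀p hR₀X (hXL.trans hLnR₀)
  have hXnP : X ≤ Subgroup.normalizer (P : Set G) := by
    have h1 := hP.pResOf_sup
    have h2 : pResOf p X ≤ Subgroup.normalizer (P : Set G) := by
      unfold pResOf
      rw [Subgroup.closure_le]
      rintro x ⟨hx, hcop⟩
      have hxC := hpr x hx hcop
      have hsub : P.map (MulAut.conj x).toMonoidHom ≤ P := by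
        rintro _ ⟨g, hg, rfl⟩
        have h3 : ⁅x, g⁆ ∈ R₀ := hXC (Subgroup.commutator_mem_commutator hxC (hP.1 hg))
        have e : (MulAut.conj x).toMonoidHom g = ⁅x, g⁆ * g := by
          simp [commutatorElement_def]
        rw [e]
        exact P.mul_mem (hR₀P h3) hg
      have h4 : Subgroup.zpowers x ≤ Subgroup.normalizer (P : Set G) := by
        apply le_normalizer_of_forall_map_conj_le
        intro s hs
        obtain ⟨k, rfl⟩ := Subgroup.mem_zpowers_iff.mp hs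
        have hfin : IsOfFinOrder x := isOfFinOrder_of_finite x
        obtain ⟨n, hn⟩ : ∃ n : ℕ, x ^ k = x ^ n := by
          obtain ⟨n, hn⟩ := (hfin.mem_powers_iff_mem_zpowers).mpr ⟨k, rfl⟩
          exact ⟨n, hn.symm⟩
        rw [hn]
        have hpow : ∀ n : ℕ, P.map (MulAut.conj (x ^ n)).toMonoidHom ≤ P := by
          intro n
          induction n with
          | zero => rw [pow_zero, map_conj_one]
          | succ n ih =>
            rw [pow_succ, map_conj_mul]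
            exact (Subgroup.map_mono hsub).trans ih
        exact hpow n
      exact h4 (Subgroup.mem_zpowers x)
    rw [← h1]
    exact sup_le h2 Subgroup.le_normalizer
  have hXP : X ≤ P := by
    rw [hX]
    apply sSup_le
    intro Z hZ
    obtain ⟨hZL, hZp, -, -⟩ := (h𝒵iff Z).mp hZ
    have hZX : Z ≤ X := by rw [hX]; exact le_sSup hZ
    obtain ⟨c, hc, hle⟩ := hP.exists_conj_le hZp hZX
    rwa [map_conj_eq_of_mem_normalizer P (hXnP hc)] at hle
  exact hYX.trans (le_pCoreOf hXL hLnX (hP.2.1.to_le hXP))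


/-- Standing hypotheses: G a finite group, S a Sylow p-subgroup, Q a nontrivial large p-subgroup of G contained in S, M a subgroup containing S with the basic property (M ∈ 𝔐_G(S)); Y_M the largest p-reduced normal subgroup of M and M† = M·C_G(Y_M). Let I be a nontrivial normal p-subgroup of M and Y ≤ O_p(M†); let L be a subgroup of G containing Y and A a normal p-subgroup of L with I ≤ A ≤ M. If [Y, A] ≤ [I, A], then Y ≤ O_p(L). -/
theorem result {G : Type*} [Group G] [Finite G] {p : ℕ} [Fact p.Prime] (S : Sylow p G) (Q : Subgroup G) (hQp : IsPGroup p ↥Q) (hQ1 : Q ≠ ⊥) (hQS : Q ≤ (S : Subgroup G)) (hQ : Cfsg.IsLarge Q) (M : Subgroup G) (hSM : (S : Subgroup G) ≤ M) (hM : Cfsg.IsInFrakM p M) (I : Subgroup G) (hI1 : I ≠ ⊥) (hIp : IsPGroup p ↥I) (hIM : I ≤ M ∧ M ≤ Subgroup.normalizer ((I : Subgroup G) : Set G)) (Y : Subgroup G) (hY : Y ≤ (Cfsg.pCoreOf p (M ⊔ Subgroup.centralizer (((Cfsg.largestPReducedOf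 p M) : Subgroup G) : Set G)))) (L : Subgroup G) (hYL : Y ≤ L) (A : Subgroup G) (hAp : IsPGroup p ↥A) (hAL : A ≤ L ∧ L ≤ Subgroup.normalizer ((A : Subgroup G) : Set G)) (hIA : I ≤ A) (hAM : A ≤ M) (hc : ⁅Y, A⁆ ≤ ⁅I, A⁆) : Y ≤ (Cfsg.pCoreOf p L) := by
  obtain ⟨Md, hMd⟩ : ∃ Md : Subgroup G, Md = M ⊔ Subgroup.centralizer
      ((Cfsg.largestPReducedOf p M : Subgroup G) : Set G) := ⟨_, rfl⟩
  rw [← hMd] at hY
  have hNI : Subgroup.normalizer (I : Set G) ≤ Md := by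
    have hSN : (S : Subgroup G) ≤ Subgroup.normalizer (I : Set G) := hSM.trans hIM.2
    have hI1' : Cfsg.pCoreOf p (Subgroup.normalizer (I : Set G)) ≠ ⊥ := by
      have hle : I ≤ Cfsg.pCoreOf p (Subgroup.normalizer (I : Set G)) :=
        le_pCoreOf Subgroup.le_normalizer le_rfl hIp
      intro hbot; exact hI1 (le_bot_iff.mp (hbot ▸ hle))
    have hmem : Subgroup.normalizer (I : Set G) ∈ Cfsg.charPSubgroups p G := by
      apply mem_charPSubgroups_iff.mpr ⟨hI1', ?_⟩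
      apply (Cfsg.Agent.S2845.result Q hQp hQ1 hQ).2.1 _ ⟨S, hSN⟩
      intro hbot; apply hI1'; unfold Cfsg.pCoreOf; rw [hbot, Subgroup.map_bot]
    obtain ⟨b, hb1, hb2⟩ :=
      Set.Finite.exists_le_maximal (Set.toFinite (Cfsg.charPSubgroups p G)) hmem
    have hbmax : b ∈ Cfsg.maxCharPSubgroups p G :=
      ⟨hb2.1, fun L' hL' hbL' => le_antisymm (hb2.2 hL' hbL') hbL'⟩
    have := hM.2.2.1 b hbmax (hIM.2.trans hb1)
    rw [hMd, ← this]; exact hb1
  apply core hAp hAL.1 hAL.2 ?_ hY hYL ?_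
  · refine inf_le_right.trans ?_
    refine (Subgroup.centralizer_le (SetLike.coe_subset_coe.mpr hIA)).trans ?_
    exact (Subgroup.centralizer_le_normalizer _).trans hNI
  · rw [Subgroup.commutator_comm]
    exact hc.trans (Subgroup.commutator_mono hIA le_rfl)

end Cfsg.Agent.S2864
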