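import Cfsg.Statements.S2872
import Cfsg.Agent.Lib.Helper18.TransferL
import Cfsg.Agent.Lib.Helper18.PIndex

set_option autoImplicit false
open Cfsg

namespace Cfsg.Agent.S2872

open Cfsg.Agent.Lib.Helper18

/-- Let S be a Sylow 2-subgroup of the finite group G. Then G has a proper normal subgroup of 2-power index (O²(G) ≠ G), or Ω₁(Z(S)) is contained in the Frattini subgroup of S, or N_G(S) acts nontrivially on Ω₁(Z(S)) by conjugation. -/
theorem result {G : Type*} [Group G] [Finite G] (S : Sylow 2 G) : Cfsg.pResidual 2 G ≠ ⊤ ∨ Cfsg.omegaOne 2 ((S : Subgroup G) ⊓ Subgroup.centralizer ((S : Subgroup G) : Set G)) ≤ (frattini ↥(S : Subgroup G)).map (S : Subgroup G).subtype ∨ ∃ g ∈ Subgroup.normalizer ((S : Subgroup G) : Set G), ∃ z ∈ Cfsg.omegaOne 2 ((S : Subgroup G) ⊓ Subgroup.centralizer ((S : Subgroup G) : Set G)), g * z * g⁻¹ ≠ z := by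
  have hp2 : Fact (Nat.Prime 2) := ⟨Nat.prime_two⟩
  by_cases h1 : Cfsg.pResidual 2 G = ⊤
  swap
  · left; exact h1
  by_cases h2 : Cfsg.omegaOne 2 ((S : Subgroup G) ⊓ Subgroup.centralizer ((S : Subgroup G) : Set G)) ≤
      (frattini ↥(S : Subgroup G)).map (S : Subgroup G).subtype
  · right; left; exact h2
  right; right
  by_contra h3
  push Not at h3
  have h2' := h2
  unfold Cfsg.omegaOne at h2'
  rw [Subgroup.closure_le] at h2'
  obtain ⟨z, hzX, hzΦ⟩ := Set.not_subset.mp h2'
  obtain ⟨hzSC, hzsq⟩ := hzX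
  obtain ⟨hzS, hzC⟩ := Subgroup.mem_inf.mp hzSC
  have hzZ : z ∈ Cfsg.omegaOne 2 ((S : Subgroup G) ⊓ Subgroup.centralizer ((S : Subgroup G) : Set G)) :=
    Subgroup.subset_closure ⟨hzSC, hzsq⟩
  have hz2 : z * z = 1 := by rw [← pow_two]; exact hzsq
  have hz' : (⟨z, hzS⟩ : (S : Subgroup G)) ∉ frattini ↥(S : Subgroup G) :=
    fun h => hzΦ ⟨_, h, rfl⟩
  obtain ⟨M, hM, hzM⟩ : ∃ M : Subgroup (S : Subgroup G), IsCoatom M ∧
      (⟨z, hzS⟩ : (S : Subgroup G)) ∉ M := by
    by_contra hcon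
    push Not at hcon
    apply hz'
    unfold frattini Order.radical
    simp only [Subgroup.mem_iInf]
    intro M hM
    exact hcon M hM
  have hidx : M.index = 2 := index_eq_prime_of_isCoatom S.isPGroup' hM
  classical
  let ϕ : (S : Subgroup G) →* ℤˣ :=
    { toFun := fun s => if s ∈ M then 1 else -1
      map_one' := by simp [M.one_mem]
      map_mul' := by
        intro a b
        by_cases ha : a ∈ M <;> by_cases hb : b ∈ M
        · simp [ha, hb, M.mul_mem ha hb]
        · have : a * b ∉ M := fun h => hb (((Subgroup.mul_mem_iff_of_index_two hidx).mp h).mp ha)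
          simp [ha, hb, this]
        · have : a * b ∉ M := fun h => ha (((Subgroup.mul_mem_iff_of_index_two hidx).mp h).mpr hb)
          simp [ha, hb, this]
        · have : a * b ∈ M := (Subgroup.mul_mem_iff_of_index_two hidx).mpr
            ⟨fun h => absurd h ha, fun h => absurd h hb⟩
          simp [ha, hb, this] }
  have hϕz : ϕ ⟨z, hzS⟩ = -1 := by
    show (if (⟨z, hzS⟩ : (S : Subgroup G)) ∈ M then (1 : ℤˣ) else -1) = -1
    rw [if_neg hzM]
  have hτ : MonoidHom.transfer ϕ z = -1 :=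
    transfer_central_involution (S : Subgroup G) S.isPGroup' S.not_dvd_index ϕ z hzS hz2
      (fun s hs => Subgroup.mem_centralizer_iff.mp hzC s hs) (fun n hn => h3 n hn z hzZ) hϕz
  have hker : Cfsg.pResidual 2 G ≤ (MonoidHom.transfer ϕ).ker := by
    unfold Cfsg.pResidual
    rw [Subgroup.closure_le]
    intro g hg
    rw [SetLike.mem_coe, MonoidHom.mem_ker]
    have hg' : Nat.Coprime (orderOf g) 2 := hg
    have d1 : orderOf (MonoidHom.transfer ϕ g) ∣ orderOf g := orderOf_map_dvd _ g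
    have d2 : orderOf (MonoidHom.transfer ϕ g) ∣ 2 :=
      orderOf_dvd_of_pow_eq_one (by rw [pow_two]; exact Int.units_mul_self _)
    have d3 : orderOf (MonoidHom.transfer ϕ g) = 1 :=
      Nat.Coprime.eq_one_of_dvd (Nat.Coprime.coprime_dvd_left d1 hg') d2
    exact orderOf_eq_one_iff.mp d3
  have hzker : z ∈ (MonoidHom.transfer ϕ).ker := hker (h1 ▸ Subgroup.mem_top z)
  rw [MonoidHom.mem_ker, hτ] at hzker
  exact absurd hzker (by decide)

end Cfsg.Agent.S2872
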