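import Cfsg.Statements.S2879
import Mathlib
import Cfsg.Agent.S0017
import Cfsg.Agent.S1896
import Cfsg.Agent.Lib.Helper11.Q8Norm
import Cfsg.Agent.Lib.Helper11.Basic
import Cfsg.Agent.Lib.Helper11.FStarLocal
import Cfsg.Agent.Lib.Helper1.Cores

set_option autoImplicit false
open Cfsg

namespace Cfsg.Agent.S2879

/-- Let G be a finite solvable group with O(G) = 1 whose Sylow 2-subgroup T is dihedral of order at least 8 or semidihedral, with G ≠ T and Z(T) normal in G. Then G has a normal subgroup isomorphic to SL₂(3). -/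
theorem result {G : Type*} [Group G] [Finite G] (hsol : IsSolvable G) (hO : Cfsg.oddCore G = ⊥) (T : Sylow 2 G) (hT : (∃ n : ℕ, 4 ≤ n ∧ Nonempty (↥(T : Subgroup G) ≃* DihedralGroup n)) ∨ Cfsg.IsQuasiDihedral ↥(T : Subgroup G)) (hne : (T : Subgroup G) ≠ ⊤) (hZ : ((T : Subgroup G) ⊓ Subgroup.centralizer ((T : Subgroup G) : Set G)).Normal) : ∃ U : Subgroup G, U.Normal ∧ Nonempty (↥U ≃* Matrix.SpecialLinearGroup (Fin 2) (ZMod 3)) := by
  classical
  haveI : Group.IsSolvable G := hsol
  have hF2 : Fact (Nat.Prime 2) := ⟨Nat.prime_two⟩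
  set Q : Subgroup G := Cfsg.pCore 2 G with hQdef
  haveI hQn : Q.Normal := Cfsg.Agent.Lib.Helper11.pCore_normal' 2
  have hQp : IsPGroup 2 ↥Q := Cfsg.Agent.Lib.Helper11.pCore_isPGroup 2
  have hCQ : Subgroup.centralizer (Q : Set G) ≤ Q := Cfsg.Agent.S0017.result 2 hO
  have hQT : Q ≤ (T : Subgroup G) := Cfsg.Agent.Lib.Helper1.pCore_le_sylow T
  have hG2 : ¬ IsPGroup 2 G := fun h => hne (T.is_maximal' (h.to_subgroup ⊤) le_top).symm
  obtain ⟨a, ha, hT8⟩ : ∃ a : ↥(T : Subgroup G),
      2 * orderOf a = Nat.card ↥(T : Subgroup G) ∧ 8 ≤ Nat.card ↥(T : Subgroup G) := by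
    rcases hT with ⟨n, hn, ⟨f⟩⟩ | ⟨n, hn, hcard, x, y, hx, hy, hxy⟩
    · refine ⟨f.symm (DihedralGroup.r 1), ?_, ?_⟩
      · rw [MulEquiv.orderOf_eq, DihedralGroup.orderOf_r_one, Nat.card_congr f.toEquiv,
          DihedralGroup.nat_card]
      · rw [Nat.card_congr f.toEquiv, DihedralGroup.nat_card]; omega
    · refine ⟨x, ?_, ?_⟩
      · rw [hx, hcard, pow_succ]; ring
      · rw [hcard]
        calc 8 = 2 ^ 3 := by norm_num
          _ ≤ 2 ^ (n + 1) := Nat.pow_le_pow_right (by norm_num) (by omega)
  have hA0idx : (Subgroup.zpowers a).index = 2 := by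
    have h1 := Subgroup.card_mul_index (Subgroup.zpowers a)
    rw [Nat.card_zpowers, ← ha] at h1
    have hpos : 0 < orderOf a := orderOf_pos a
    have h2 : orderOf a * (Subgroup.zpowers a).index = orderOf a * 2 := by rw [h1]; ring
    exact Nat.eq_of_mul_eq_mul_left hpos h2
  haveI hA0n : (Subgroup.zpowers a).Normal := Subgroup.normal_of_index_eq_two hA0idx
  set ιT : ↥Q →* ↥(T : Subgroup G) := Subgroup.inclusion hQT with hιT
  have hιTinj : Function.Injective ιT := Subgroup.inclusion_injective hQT
  set N : Subgroup ↥Q := (Subgroup.zpowers a).comap ιT with hN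
  haveI hNn : N.Normal := by rw [hN]; infer_instance
  have hNcyc : IsCyclic ↥N := by
    have h1 : N.map ιT ≤ Subgroup.zpowers a := Subgroup.map_comap_le _ _
    haveI : IsCyclic ↥(N.map ιT) := Subgroup.isCyclic_of_le h1
    exact isCyclic_of_surjective (N.equivMapOfInjective ιT hιTinj).symm
      (N.equivMapOfInjective ιT hιTinj).symm.surjective
  have hNidx : N.index ∣ 2 := by
    have h := Subgroup.relIndex_dvd_index_of_normal (Subgroup.zpowers a) ιT.range
    rw [hA0idx] at h
    rw [hN, Subgroup.index_comap]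
    exact h
  have hQNcyc : IsCyclic (↥Q ⧸ N) := by
    have h1 : Nat.card (↥Q ⧸ N) ∣ 2 := by rw [← Subgroup.index_eq_card]; exact hNidx
    rcases (Nat.dvd_prime Nat.prime_two).mp h1 with h | h
    · haveI : Subsingleton (↥Q ⧸ N) := (Nat.card_eq_one_iff_unique.mp h).1
      exact isCyclic_of_subsingleton
    · exact isCyclic_of_prime_card h
  have hmeta : Cfsg.IsMetacyclic ↥Q := ⟨N, hNn, hNcyc, hQNcyc⟩
  have hAut : ¬ IsPGroup 2 (MulAut ↥Q) := by
    intro hA
    apply hG2
    intro x
    obtain ⟨k, hk⟩ := hA (MulAut.conjNormal (H := Q) x)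
    rw [← map_pow] at hk
    have hxC : x ^ 2 ^ k ∈ Subgroup.centralizer (Q : Set G) := by
      rw [Subgroup.mem_centralizer_iff]
      intro c hc
      have h := congrArg (fun ψ : MulAut ↥Q => ((ψ ⟨c, hc⟩ : ↥Q) : G)) hk
      simp only [MulAut.conjNormal_apply, MulAut.one_apply] at h
      calc c * x ^ 2 ^ k = (x ^ 2 ^ k * c * (x ^ 2 ^ k)⁻¹) * x ^ 2 ^ k := by rw [h]
        _ = x ^ 2 ^ k * c := by group
    obtain ⟨m, hm⟩ := hQp ⟨x ^ 2 ^ k, hCQ hxC⟩
    refine ⟨k + m, ?_⟩
    have h := congrArg Subtype.val hm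
    simp only [Subgroup.coe_pow, Subgroup.coe_one] at h
    rw [pow_add, pow_mul]; exact h
  rcases Cfsg.Agent.S1896.result hQp hmeta hAut with ⟨⟨e⟩⟩ | ⟨n, ⟨e⟩⟩
  · exact Cfsg.Agent.Lib.Helper11.q8n_exists_normal_sl23 Q e hCQ hG2
  · exfalso
    have hexp : ∀ x : ↥Q, x ^ 2 ^ n = 1 := by
      intro x
      apply e.injective
      rw [map_pow, map_one]
      have hc : Nat.card (Multiplicative (ZMod (2 ^ n))) = 2 ^ n := by
        rw [Nat.card_congr Multiplicative.toAdd, Nat.card_zmod]
      have hcomp : ∀ y : Multiplicative (ZMod (2 ^ n)), y ^ 2 ^ n = 1 := by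
        intro y
        have h := pow_card_eq_one' (G := Multiplicative (ZMod (2 ^ n))) (x := y)
        rwa [hc] at h
      exact Prod.ext (hcomp _) (hcomp _)
    have hQcard : Nat.card ↥Q = 2 ^ n * 2 ^ n := by
      rw [Nat.card_congr e.toEquiv, Nat.card_prod, Nat.card_congr Multiplicative.toAdd,
        Nat.card_zmod]
    have hNle : Nat.card ↥N ≤ 2 ^ n := by
      obtain ⟨c, hc⟩ := IsCyclic.exists_generator (α := ↥N)
      rw [← orderOf_eq_card_of_forall_mem_zpowers hc]
      apply Nat.le_of_dvd (by positivity)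
      apply orderOf_dvd_of_pow_eq_one
      apply Subtype.ext
      rw [Subgroup.coe_pow, Subgroup.coe_one]
      exact hexp c
    have hn1 : n ≤ 1 := by
      have h1 := Subgroup.card_mul_index N
      rw [hQcard] at h1
      have h2 : N.index ≤ 2 := Nat.le_of_dvd (by norm_num) hNidx
      have h3 : 2 ^ n * 2 ^ n ≤ 2 ^ n * 2 := by
        rw [← h1]; exact Nat.mul_le_mul hNle h2
      have h4 : 2 ^ n ≤ 2 ^ 1 := by
        have hpos : 0 < 2 ^ n := by positivity
        simpa using Nat.le_of_mul_le_mul_left h3 hpos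
      exact (Nat.pow_le_pow_iff_right (by norm_num)).mp h4
    interval_cases n
    · have hQ1 : Nat.card ↥Q = 1 := by rw [hQcard]; norm_num
      have hQbot : Q = ⊥ := Subgroup.eq_bot_of_card_eq Q hQ1
      apply hG2
      intro x
      have hx : x ∈ Subgroup.centralizer (Q : Set G) := by
        rw [Subgroup.mem_centralizer_iff]
        intro c hc
        have hc' : c ∈ Q := hc
        rw [hQbot] at hc'
        have hc1 : c = 1 := Subgroup.mem_bot.mp hc'
        rw [hc1, one_mul, mul_one]
      obtain ⟨m, hm⟩ := hQp ⟨x, hCQ hx⟩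
      exact ⟨m, by simpa using congrArg Subtype.val hm⟩
    · have hQ4 : Nat.card ↥Q = 4 := by rw [hQcard]; norm_num
      have hexp2 : ∀ x : ↥Q, x ^ 2 = 1 := by
        intro x
        have h := hexp x
        simpa using h
      set Z : Subgroup G :=
        (T : Subgroup G) ⊓ Subgroup.centralizer ((T : Subgroup G) : Set G) with hZdef
      have hZQ : Z ≤ Q := by
        intro z hz
        apply hCQ
        exact Subgroup.centralizer_le
          (show (Q : Set G) ⊆ ((T : Subgroup G) : Set G) from hQT) hz.2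
      have hZbot : Z ≠ ⊥ := by
        intro h
        have hc : (Subgroup.center ↥(T : Subgroup G)).map (T : Subgroup G).subtype = Z :=
          Cfsg.Agent.Lib.Helper11.map_center_subtype (T : Subgroup G)
        rw [h] at hc
        have hc' :=
          (Subgroup.map_eq_bot_iff_of_injective _ (Subgroup.subtype_injective _)).mp hc
        haveI : Nontrivial ↥(T : Subgroup G) :=
          Finite.one_lt_card_iff_nontrivial.mp (by omega)
        exact (IsPGroup.bot_lt_center T.isPGroup').ne' hc'
      have hZneQ : Z ≠ Q := by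
        intro h
        have h1 : Q ≤ Subgroup.centralizer ((T : Subgroup G) : Set G) := by
          rw [← h]; exact inf_le_right
        have h2 : (T : Subgroup G) ≤ Subgroup.centralizer (Q : Set G) :=
          Subgroup.le_centralizer_iff.mp h1
        have h3 : Nat.card ↥(T : Subgroup G) ≤ Nat.card ↥Q :=
          Subgroup.card_le_of_le (h2.trans hCQ)
        omega
      have hZ2 : Nat.card ↥Z = 2 := by
        have hd : Nat.card ↥Z ∣ 2 ^ 2 := by
          have h := Subgroup.card_dvd_of_le hZQ
          rw [hQ4] at h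
          simpa using h
        obtain ⟨k, hk, hZk⟩ := (Nat.dvd_prime_pow Nat.prime_two).mp hd
        interval_cases k
        · exact absurd (Subgroup.eq_bot_of_card_eq Z (by simpa using hZk)) hZbot
        · simpa using hZk
        · exfalso
          apply hZneQ
          exact Subgroup.eq_of_le_of_card_ge hZQ (by rw [hQ4, hZk]; norm_num)
      obtain ⟨z, hz1, hzuniq⟩ := (Nat.card_eq_two_iff' (1 : ↥Z)).mp hZ2
      have hzc : ∀ x : G, x * (z : G) * x⁻¹ = z := by
        intro x
        have hmem : x * (z : G) * x⁻¹ ∈ Z := hZ.conj_mem z z.2 x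
        have hne1 : (⟨x * (z : G) * x⁻¹, hmem⟩ : ↥Z) ≠ 1 := by
          intro h
          apply hz1
          have h' : x * (z : G) * x⁻¹ = 1 := congrArg Subtype.val h
          exact Subtype.ext (conj_eq_one_iff.mp h')
        exact congrArg Subtype.val (hzuniq _ hne1)
      set zq : ↥Q := ⟨(z : G), hZQ z.2⟩ with hzq
      set S : Subgroup ↥Q := Z.subgroupOf Q with hS
      have hScard : Nat.card ↥S = 2 := by
        rw [hS, Nat.card_congr (Subgroup.subgroupOfEquivOfLe hZQ).toEquiv]; exact hZ2
      have hSidx : S.index = 2 := by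
        have h := Subgroup.card_mul_index S
        rw [hScard, hQ4] at h
        omega
      have hSmem : ∀ c : ↥Q, c ∈ S → c = 1 ∨ c = zq := by
        intro c hc
        have hcZ : (c : G) ∈ Z := Subgroup.mem_subgroupOf.mp hc
        by_cases h1 : (⟨(c : G), hcZ⟩ : ↥Z) = 1
        · left
          have h2 : (c : G) = 1 := congrArg Subtype.val h1
          exact Subtype.ext h2
        · right
          have h2 : (c : G) = (z : G) := congrArg Subtype.val (hzuniq _ h1)
          exact Subtype.ext h2
      have hzqS : zq ∈ S := Subgroup.mem_subgroupOf.mpr z.2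
      apply hG2
      intro x
      set ρ : MulAut ↥Q := MulAut.conjNormal (H := Q) x with hρ
      have hρz : ρ zq = zq := by
        apply Subtype.ext
        rw [hρ, MulAut.conjNormal_apply]
        exact hzc x
      have hρS : ∀ c : ↥Q, ρ c ∈ S → c ∈ S := by
        intro c hc
        rcases hSmem _ hc with h | h
        · have h1 : c = 1 := (map_eq_one_iff ρ ρ.injective).mp h
          rw [h1]; exact S.one_mem
        · have h1 : c = zq := ρ.injective (h.trans hρz.symm)
          rw [h1]; exact hzqS
      have hρ2 : ∀ c : ↥Q, ρ (ρ c) = c := by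
        intro c
        by_cases hcS : c ∈ S
        · rcases hSmem c hcS with h | h
          · rw [h, map_one, map_one]
          · rw [h, hρz, hρz]
        · have h1 : c⁻¹ * ρ c ∈ S := by
            rw [Subgroup.mul_mem_iff_of_index_two hSidx]
            constructor
            · intro h; exact absurd ((Subgroup.inv_mem_iff S).mp h) hcS
            · intro h; exact absurd (hρS c h) hcS
          rcases hSmem _ h1 with h | h
          · have hc : ρ c = c := by
              have h2 := congrArg (fun t => c * t) h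
              simpa using h2
            rw [hc, hc]
          · have hc : ρ c = c * zq := by
              have h2 := congrArg (fun t => c * t) h
              simpa using h2
            rw [hc, map_mul, hc, hρz, mul_assoc, ← pow_two, hexp2, mul_one]
      have hx2 : x ^ 2 ∈ Subgroup.centralizer (Q : Set G) := by
        rw [Subgroup.mem_centralizer_iff]
        intro c hc
        have h := congrArg Subtype.val (hρ2 ⟨c, hc⟩)
        rw [hρ, MulAut.conjNormal_apply, MulAut.conjNormal_apply] at h
        simp only [Subgroup.coe_mk] at h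
        rw [pow_two]
        calc c * (x * x) = (x * (x * c * x⁻¹) * x⁻¹) * (x * x) := by rw [h]
          _ = x * x * c := by group
      obtain ⟨m, hm⟩ := hQp ⟨x ^ 2, hCQ hx2⟩
      refine ⟨1 + m, ?_⟩
      have h := congrArg Subtype.val hm
      simp only [Subgroup.coe_pow, Subgroup.coe_one] at h
      rw [pow_add, pow_mul, pow_one]; exact h

end Cfsg.Agent.S2879
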