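import Cfsg.Statements.S2881
import Cfsg.Agent.Lib.Helper18.ExtraCount
import Cfsg.Agent.Lib.Helper18.Zsig

set_option autoImplicit false
open Cfsg

namespace Cfsg.Agent.S2881

theorem orderTwoZMod5 : orderOf (((2 : ℕ) : ZMod 5)) = 4 := by
  have e1 : ¬ ((2 : ℕ) : ZMod 5) ^ 2 ^ 1 = 1 := by decide
  have e2 : ((2 : ℕ) : ZMod 5) ^ 2 ^ (1 + 1) = 1 := by decide
  exact orderOf_eq_prime_pow (p := 2) (n := 1) e1 e2

/-- Let E be an extraspecial 2-group of order 2^(2m+1) of plus type (containing an elementary abelian subgroup of order 2^(m+1)), and let ω be an automorphism of E of order 5 whose fixed points are exactly the centre of E. Then m is divisible by 4. -/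
theorem result {E : Type*} [Group E] [Finite E] (m : ℕ) (hm : 1 ≤ m) (hE : Cfsg.IsExtraspecial 2 E) (hcard : Nat.card E = 2 ^ (2 * m + 1)) (hplus : ∃ A : Subgroup E, Cfsg.IsElementaryAbelian 2 A ∧ Nat.card A = 2 ^ (m + 1)) (ω : E ≃* E) (hω : orderOf ω = 5) (hfix : ∀ x : E, ω x = x ↔ x ∈ Subgroup.center E) : 4 ∣ m := by
  classical
  obtain ⟨A, hA, hAc⟩ := hplus
  have hN := Cfsg.Agent.Lib.Helper18.es2_card_order_four hE m hcard A hA hAc
  let _ : Fintype E := Fintype.ofFinite E
  have hω5 : ω ^ 5 = 1 := hω ▸ pow_orderOf_eq_one ω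
  have hpres : ∀ x : E, orderOf x = 4 ↔ orderOf (ω x) = 4 := fun x => by
    rw [MulEquiv.orderOf_eq]
  -- the induced self-map of the set of elements of order 4
  obtain ⟨f, hf⟩ : ∃ f : Function.End {x : E // orderOf x = 4},
      ∀ x, ((f x : {x : E // orderOf x = 4}) : E) = ω (x : E) :=
    ⟨fun x => ⟨ω (x : E), (hpres x).mp x.2⟩, fun x => rfl⟩
  have hpow : ∀ (k : ℕ) (x : {x : E // orderOf x = 4}),
      (((f ^ k) x : {x : E // orderOf x = 4}) : E) = (ω ^ k) (x : E) := by
    intro k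
    induction k with
    | zero => intro x; rfl
    | succ k ih =>
      intro x
      rw [pow_succ', pow_succ']
      show ((f ((f ^ k) x) : {x : E // orderOf x = 4}) : E) = ω ((ω ^ k) (x : E))
      rw [hf, ih]
  have hf5 : f ^ 5 ^ 1 = 1 := by
    rw [pow_one]
    funext x
    apply Subtype.ext
    rw [hpow, hω5]
    rfl
  have h5 : Fact (Nat.Prime 5) := ⟨by norm_num⟩
  have hmod := Equiv.Perm.card_fixedPoints_modEq (p := 5) (n := 1) hf5
  have hempty : IsEmpty (Function.fixedPoints f) := by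
    constructor
    rintro ⟨x, hx⟩
    have h1 : ω (x : E) = (x : E) := by
      rw [← hf]
      exact congrArg Subtype.val hx
    have h2 : (x : E) ∈ Subgroup.center E := (hfix _).mp h1
    have h3 := Cfsg.Agent.Lib.Helper19.es_center_pow hE h2
    have h4 : orderOf (x : E) ∣ 2 := orderOf_dvd_of_pow_eq_one h3
    rw [x.2] at h4
    omega
  have hdvd : 5 ∣ Nat.card {x : E // orderOf x = 4} := by
    rw [Nat.card_eq_fintype_card]
    have h0 : ∀ (inst : Fintype (Function.fixedPoints f)), @Fintype.card _ inst = 0 :=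
      fun inst => (@Fintype.card_eq_zero_iff _ inst).mpr hempty
    have h00 : Fintype.card {x : E // orderOf x = 4} ≡ 0 [MOD 5] := by
      unfold Nat.ModEq at hmod ⊢
      rw [hmod]
      exact congrArg (fun n => n % 5) (h0 _)
    exact (Nat.modEq_zero_iff_dvd).mp h00
  rw [hN] at hdvd
  have hfac : 2 ^ (2 * m) - 2 ^ m = 2 ^ m * (2 ^ m - 1) := by
    rw [Nat.mul_sub, mul_one, two_mul, pow_add]
  rw [hfac] at hdvd
  have hcop : Nat.Coprime 5 (2 ^ m) := Nat.Coprime.pow_right m (by norm_num)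
  have h6 : 5 ∣ 2 ^ m - 1 := hcop.dvd_of_dvd_mul_left hdvd
  have h7 : ((2 : ℕ) : ZMod 5) ^ m = 1 :=
    (Cfsg.Agent.Lib.Helper18.dvd_pow_sub_one_iff (by norm_num)).mp h6
  have h8 : orderOf (((2 : ℕ) : ZMod 5)) = 4 := by
    exact orderTwoZMod5
  rw [← h8]
  exact orderOf_dvd_of_pow_eq_one h7

end Cfsg.Agent.S2881
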