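import Cfsg.Statements.S2896
import Cfsg.Agent.Lib.Helper18.FStarP
import Cfsg.Agent.Lib.Helper18.OddCore
import Cfsg.Agent.Lib.Helper18.YL

set_option autoImplicit false
open Cfsg

namespace Cfsg.Agent.S2896

open Cfsg.Agent.Lib.Helper18

theorem partOne {G : Type*} [Group G] [Finite G] {p : ℕ} [Fact p.Prime] {X : Subgroup G}
    (hX : IsPGroup p X) {z : G} (hz : z ∈ X) (hzc : ∀ x ∈ X, x * z = z * x)
    (hC : Cfsg.Agent.Lib.Helper18.CharP p (Subgroup.centralizer ({z} : Set G))) :
    Cfsg.Agent.Lib.Helper18.CharP p (Subgroup.normalizer (X : Set G)) := by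
  have h := (charP_inf_of_central (M := ⊤) hX le_top hz hzc (by rw [top_inf_eq]; exact hC)).2
  rw [top_inf_eq] at h
  exact h

theorem charP_centralizer_conj {G : Type*} [Group G] {p : ℕ} {z' g : G}
    (hC : Cfsg.Agent.Lib.Helper18.CharP p (Subgroup.centralizer ({g⁻¹ * z' * g} : Set G))) :
    Cfsg.Agent.Lib.Helper18.CharP p (Subgroup.centralizer ({z'} : Set G)) := by
  have h := charP_map_conj hC g
  rw [← centralizer_singleton_map_conj] at h
  have e : g * (g⁻¹ * z' * g) * g⁻¹ = z' := by group
  rw [e] at h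
  exact h

theorem normalizer_zpowers_le {G : Type*} [Group G] (z : G) :
    Subgroup.normalizer (Subgroup.zpowers z : Set G) ≤
      Subgroup.normalizer (Subgroup.centralizer ({z} : Set G) : Set G) := by
  have e : Subgroup.centralizer ((Subgroup.zpowers z : Subgroup G) : Set G)
      = Subgroup.centralizer ({z} : Set G) := by
    apply le_antisymm
    · exact Subgroup.centralizer_le (by
        intro y hy
        rw [Set.mem_singleton_iff] at hy
        rw [hy]; exact Subgroup.mem_zpowers z)
    · intro c hc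
      rw [Subgroup.mem_centralizer_iff]
      intro y hy
      obtain ⟨k, rfl⟩ := Subgroup.mem_zpowers_iff.mp hy
      have h1 : z * c = c * z := mem_centralizer_singleton_iff.mp hc
      exact (Commute.zpow_left (show Commute z c from h1) k).eq
  rw [← e]
  exact normalizer_le_normalizer_centralizer _

/-- Let p be a prime dividing the order of the finite group G, S a Sylow p-subgroup of G and X a subgroup of S. (i) If some nontrivial element z of the centre of X has F*(C_G(z)) = O_p(C_G(z)), then F*(N_G(X)) = O_p(N_G(X)). (ii) G has parabolic characteristic p if and only if F*(C_G(z)) = O_p(C_G(z)) for every nontrivial z ∈ Ω₁(Z(S)). (iii) If F*(C_G(z)) = O_p(C_G(z)) for every element z of S of order p, then G has local characteristic p. -/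
theorem result {G : Type*} [Group G] [Finite G] {p : ℕ} [Fact p.Prime] (hdiv : p ∣ Nat.card G) (S : Sylow p G) (X : Subgroup G) (hX : X ≤ (S : Subgroup G)) : (∀ z : G, z ≠ 1 → z ∈ X → (∀ x ∈ X, x * z = z * x) → Cfsg.generalizedFittingSubgroup ↥(Subgroup.centralizer ({z} : Set G)) = Cfsg.pCore p ↥(Subgroup.centralizer ({z} : Set G)) → Cfsg.generalizedFittingSubgroup ↥(Subgroup.normalizer (X : Set G)) = Cfsg.pCore p ↥(Subgroup.normalizer (X : Set G))) ∧ (Cfsg.IsOfParabolicCharacteristic p G ↔ ∀ z : G, z ≠ 1 → z ∈ Cfsg.omegaOne p ((S : Subgroup G) ⊓ Subgroup.centralizer ((S : Subgroup G) : Set G)) → Cfsg.generalizedFittingSubgroup ↥(Subgroup.centralizer ({z} : Set G)) = Cfsg.pCore p ↥(Subgroup.centralizer ({z} : Set G))) ∧ ((∀ z : G, z ∈ (S : Subgroup G) → orderOf z = p → Cfsg.generalizedFittingSubgroup ↥(Subgroup.centralizer ({z} : Set G)) = Cfsg.pCore p ↥(Subgroup.centralizer ({z} : Set G))) → Cfsg.IsOfLocalCharacteristic p G) := by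
  refine ⟨?_, ⟨?_, ?_⟩, ?_⟩
  · intro z _ hzX hzc hF
    rw [genFitting_eq_pCore_iff_charP] at hF ⊢
    exact partOne (S.isPGroup'.to_le hX) hzX hzc hF
  · intro hpar z hz1 hz
    rw [genFitting_eq_pCore_iff_charP]
    have hzZ := omegaOne_le p _ hz
    obtain ⟨hzS, hzC⟩ := Subgroup.mem_inf.mp hzZ
    have hR : IsPGroup p (Subgroup.zpowers z) :=
      S.isPGroup'.to_le ((Subgroup.zpowers_le).mpr hzS)
    have hR1 : Subgroup.zpowers z ≠ ⊥ := by
      intro e
      exact hz1 (Subgroup.zpowers_eq_bot.mp e)
    have hSC : (S : Subgroup G) ≤ Subgroup.centralizer ({z} : Set G) := by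
      intro s hs
      rw [mem_centralizer_singleton_iff]
      exact (Subgroup.mem_centralizer_iff.mp hzC s hs).symm
    have hpara : Cfsg.IsParabolic p (Subgroup.normalizer (Subgroup.zpowers z : Set G)) :=
      ⟨S, hSC.trans (centralizer_singleton_le_normalizer_zpowers z)⟩
    have h := (charP_iff p _).mp (hpar _ hR hR1 hpara)
    exact charP_of_normalized h (centralizer_singleton_le_normalizer_zpowers z)
      ((pCoreOf_le p _).trans (normalizer_zpowers_le z))
  · intro h R hR hR1 hpara
    obtain ⟨T, hT⟩ := hpara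
    rw [Cfsg.Agent.Lib.Helper18.charP_iff]
    have hRT : R ≤ (T : Subgroup G) := by
      have hsup : IsPGroup p (R ⊔ (T : Subgroup G) : Subgroup G) :=
        IsPGroup.to_sup_of_normal_left' hR T.isPGroup' hT
      have := T.is_maximal' hsup le_sup_right
      rw [← this]; exact le_sup_left
    obtain ⟨z', hz'R, hz'o, hz'c⟩ := exists_central_mem_of_normal T.isPGroup' hRT hT hR1
    obtain ⟨g, hg⟩ := MulAction.exists_smul_eq G S T
    have hTg : (T : Subgroup G) = (S : Subgroup G).map (MulAut.conj g).toMonoidHom := by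
      rw [← hg, coe_smul_sylow]
    have hzS : g⁻¹ * z' * g ∈ (S : Subgroup G) := by
      have := hRT hz'R
      rw [hTg, mem_map_conj_iff] at this
      exact this
    have hzC : g⁻¹ * z' * g ∈ Subgroup.centralizer ((S : Subgroup G) : Set G) := by
      rw [Subgroup.mem_centralizer_iff]
      intro s hs
      have hsT : g * s * g⁻¹ ∈ (T : Subgroup G) := by
        rw [hTg]; exact conj_mem_map_conj _ g hs
      have h1 := hz'c _ hsT
      have e1 : s * (g⁻¹ * z' * g) = g⁻¹ * (g * s * g⁻¹ * z') * g := by group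
      rw [e1, h1]; group
    have hzo : orderOf (g⁻¹ * z' * g) = p := by
      have := orderOf_conj' g⁻¹ z'
      rw [inv_inv] at this
      rw [this]; exact hz'o
    have hz1 : g⁻¹ * z' * g ≠ 1 := by
      intro e
      rw [e, orderOf_one] at hzo
      exact (Fact.out : p.Prime).one_lt.ne hzo
    have hzΩ : g⁻¹ * z' * g ∈ Cfsg.omegaOne p ((S : Subgroup G) ⊓
        Subgroup.centralizer ((S : Subgroup G) : Set G)) := by
      apply Subgroup.subset_closure
      refine ⟨Subgroup.mem_inf.mpr ⟨hzS, hzC⟩, ?_⟩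
      rw [← hzo]; exact pow_orderOf_eq_one _
    have hF := h _ hz1 hzΩ
    rw [genFitting_eq_pCore_iff_charP] at hF
    exact partOne hR hz'R (fun x hx => hz'c x (hRT hx)) (charP_centralizer_conj hF)
  · intro h
    refine ⟨hdiv, ?_⟩
    intro T hT hT1
    rw [Cfsg.Agent.Lib.Helper18.charP_iff]
    obtain ⟨P, hP⟩ := hT.exists_le_sylow
    obtain ⟨z', hz'T, hz'o, hz'c⟩ := exists_central_orderOf_eq hT hT1
    obtain ⟨g, hg⟩ := MulAction.exists_smul_eq G S P
    have hPg : (P : Subgroup G) = (S : Subgroup G).map (MulAut.conj g).toMonoidHom := by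
      rw [← hg, coe_smul_sylow]
    have hzS : g⁻¹ * z' * g ∈ (S : Subgroup G) := by
      have := hP hz'T
      rw [hPg, mem_map_conj_iff] at this
      exact this
    have hzo : orderOf (g⁻¹ * z' * g) = p := by
      have := orderOf_conj' g⁻¹ z'
      rw [inv_inv] at this
      rw [this]; exact hz'o
    have hF := h _ hzS hzo
    rw [genFitting_eq_pCore_iff_charP] at hF
    exact partOne hT hz'T hz'c (charP_centralizer_conj hF)

end Cfsg.Agent.S2896
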