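import Cfsg.Statements.S2897
import Cfsg.Agent.S2896
import Cfsg.Agent.Lib.Helper18.CharPSub

set_option autoImplicit false
open Cfsg

namespace Cfsg.Agent.S2897

open Cfsg.Agent.Lib.Helper18

/-- Let p be a prime dividing the order of the finite group G, suppose G has parabolic characteristic p, let S be a Sylow p-subgroup of G and G₁ a normal subgroup of G. If Ω₁(Z(S ∩ G₁)) is nontrivial and contained in Ω₁(Z(S)), then G₁ has parabolic characteristic p. -/
theorem result {G : Type*} [Group G] [Finite G] {p : ℕ} [Fact p.Prime] (hdiv : p ∣ Nat.card G) (hG : Cfsg.IsOfParabolicCharacteristic p G) (S : Sylow p G) (G₁ : Subgroup G) [G₁.Normal] (hne : Cfsg.omegaOne p (((S : Subgroup G) ⊓ G₁) ⊓ Subgroup.centralizer (((S : Subgroup G) ⊓ G₁ : Subgroup G) : Set G)) ≠ ⊥) (hle : Cfsg.omegaOne p (((S : Subgroup G) ⊓ G₁) ⊓ Subgroup.centralizer (((S : Subgroup G) ⊓ G₁ : Subgroup G) : Set G)) ≤ Cfsg.omegaOne p ((S : Subgroup G) ⊓ Subgroup.centralizer ((S : Subgroup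 G) : Set G))) : Cfsg.IsOfParabolicCharacteristic p ↥G₁ := by
  intro R hR hR1 hpara
  obtain ⟨T₁, hT₁⟩ := hpara
  rw [Cfsg.Agent.Lib.Helper18.charP_iff, ← charP_map_subtype_iff, normalizer_map_subtype]
  have hR' : IsPGroup p (R.map G₁.subtype) := hR.map _
  have hR'1 : R.map G₁.subtype ≠ ⊥ := by
    intro e
    apply hR1
    exact (Subgroup.map_eq_bot_iff_of_injective R G₁.subtype_injective).mp e
  have hR'G : R.map G₁.subtype ≤ G₁ := Subgroup.map_subtype_le R
  have hT' : IsSylowIn p ((T₁ : Subgroup ↥G₁).map G₁.subtype) G₁ := isSylowIn_map_subtype G₁ T₁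
  have hTN : (T₁ : Subgroup ↥G₁).map G₁.subtype ≤
      Subgroup.normalizer ((R.map G₁.subtype : Subgroup G) : Set G) := by
    have := Subgroup.map_mono (f := G₁.subtype) hT₁
    rw [normalizer_map_subtype] at this
    exact this.trans inf_le_right
  have hRT : R.map G₁.subtype ≤ (T₁ : Subgroup ↥G₁).map G₁.subtype := by
    have hsup : IsPGroup p
        (R.map G₁.subtype ⊔ (T₁ : Subgroup ↥G₁).map G₁.subtype : Subgroup G) :=
      IsPGroup.to_sup_of_normal_left' hR' hT'.2.1 hTN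
    have := hT'.2.2 _ hsup le_sup_right (sup_le hR'G hT'.1)
    rw [← this]; exact le_sup_left
  obtain ⟨z', hz'R, hz'o, hz'c⟩ := exists_central_mem_of_normal hT'.2.1 hRT hTN hR'1
  have hS₁ : IsSylowIn p ((S : Subgroup G) ⊓ G₁) G₁ :=
    isSylowIn_inf_of_le_normalizer S
      (by rw [Subgroup.normalizer_eq_top_iff.mpr inferInstance]; exact le_top)
  obtain ⟨c, hc, hTc⟩ := hS₁.exists_conj_eq hT'
  have hzS : c⁻¹ * z' * c ∈ (S : Subgroup G) ⊓ G₁ := by
    have := hRT hz'R
    rw [hTc, mem_map_conj_iff] at this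
    exact this
  have hzC : c⁻¹ * z' * c ∈
      Subgroup.centralizer (((S : Subgroup G) ⊓ G₁ : Subgroup G) : Set G) := by
    rw [Subgroup.mem_centralizer_iff]
    intro s hs
    have hsT : c * s * c⁻¹ ∈ (T₁ : Subgroup ↥G₁).map G₁.subtype := by
      rw [hTc]; exact conj_mem_map_conj _ c hs
    have h1 := hz'c _ hsT
    have e1 : s * (c⁻¹ * z' * c) = c⁻¹ * (c * s * c⁻¹ * z') * c := by group
    rw [e1, h1]; group
  have hzo : orderOf (c⁻¹ * z' * c) = p := by
    have := orderOf_conj' c⁻¹ z'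
    rw [inv_inv] at this
    rw [this]; exact hz'o
  have hz1 : c⁻¹ * z' * c ≠ 1 := by
    intro e
    rw [e, orderOf_one] at hzo
    exact (Fact.out : p.Prime).one_lt.ne hzo
  have hzΩ : c⁻¹ * z' * c ∈ Cfsg.omegaOne p (((S : Subgroup G) ⊓ G₁) ⊓
      Subgroup.centralizer (((S : Subgroup G) ⊓ G₁ : Subgroup G) : Set G)) := by
    apply Subgroup.subset_closure
    refine ⟨Subgroup.mem_inf.mpr ⟨hzS, hzC⟩, ?_⟩
    rw [← hzo]; exact pow_orderOf_eq_one _
  have hF := ((Cfsg.Agent.S2896.result hdiv S ⊥ bot_le).2.1.mp hG) _ hz1 (hle hzΩ)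
  rw [genFitting_eq_pCore_iff_charP] at hF
  have hC : Cfsg.Agent.Lib.Helper18.CharP p (Subgroup.centralizer ({z'} : Set G)) :=
    Cfsg.Agent.S2896.charP_centralizer_conj hF
  have hC₁ : Cfsg.Agent.Lib.Helper18.CharP p (G₁ ⊓ Subgroup.centralizer ({z'} : Set G)) := by
    refine charP_of_normalized hC inf_le_right ?_
    refine (pCoreOf_le p _).trans ?_
    refine le_trans ?_ (normalizer_inf_le _ _)
    rw [Subgroup.normalizer_eq_top_iff.mpr inferInstance]
    exact le_inf le_top Subgroup.le_normalizer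
  exact (charP_inf_of_central hR' hR'G hz'R (fun x hx => hz'c x (hRT hx)) hC₁).2

end Cfsg.Agent.S2897
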