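import Cfsg.Statements.S2905
import Cfsg.Agent.Lib.Helper18.PMin

set_option autoImplicit false
open Cfsg

namespace Cfsg.Agent.S2905

open Cfsg.Agent.Lib.Helper18

variable {P : Type*} [Group P] [Finite P] {p : ℕ} [Fact p.Prime]

theorem coreLe (S : Sylow p P) (M : Subgroup P) (hM : IsCoatom M)
    (hSM : (S : Subgroup P) ≤ M)
    (hle : ∀ K : Subgroup P, (S : Subgroup P) ≤ K → K ≠ ⊤ → K ≤ M)
    (N : Subgroup P) (hN : N.IsSubnormal) (hNM : N ≤ M) : N ≤ M.normalCore := by
  obtain ⟨T, hT⟩ : ∃ T : Set (Subgroup P),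
      T = {U | ∃ s ∈ (S : Subgroup P), U = N.map (MulAut.conj s).toMonoidHom} := ⟨_, rfl⟩
  have hTsn : ∀ U ∈ T, U.IsSubnormal := by
    intro U hU
    rw [hT] at hU
    obtain ⟨s, hs, rfl⟩ := hU
    exact hN.map (MulAut.conj s).surjective
  have hKsn := Cfsg.Agent.Lib.Helper5.isSubnormal_sSup T hTsn
  have hKM : sSup T ≤ M := by
    apply sSup_le
    intro U hU
    rw [hT] at hU
    obtain ⟨s, hs, rfl⟩ := hU
    rintro _ ⟨n, hn, rfl⟩
    simp only [MulEquiv.coe_toMonoidHom, MulAut.conj_apply]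
    exact M.mul_mem (M.mul_mem (hSM hs) (hNM hn)) (M.inv_mem (hSM hs))
  have hNK : N ≤ sSup T := by
    apply le_sSup
    rw [hT]
    exact ⟨1, (S : Subgroup P).one_mem, (map_conj_one N).symm⟩
  have hSK : (S : Subgroup P) ≤ Subgroup.normalizer ((sSup T : Subgroup P) : Set P) := by
    apply le_normalizer_of_forall_map_conj_le
    intro s hs
    rw [Subgroup.map_le_iff_le_comap]
    apply sSup_le
    intro U hU
    rw [← Subgroup.map_le_iff_le_comap]
    apply le_sSup
    rw [hT] at hU ⊢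
    obtain ⟨t, ht, rfl⟩ := hU
    exact ⟨s * t, (S : Subgroup P).mul_mem hs ht, (map_conj_mul N s t).symm⟩
  obtain ⟨K, hK⟩ : ∃ K : Subgroup P, K = sSup T := ⟨_, rfl⟩
  rw [← hK] at hKsn hKM hNK hSK
  have hDn : (Subgroup.normalClosure (K : Set P)).Normal := Subgroup.normalClosure_normal
  by_cases hD : Subgroup.normalClosure (K : Set P) ≤ M
  · exact hNK.trans (Subgroup.le_normalClosure.trans (Subgroup.normal_le_normalCore.mpr hD))
  · exfalso
    have hDS : Subgroup.normalClosure (K : Set P) ⊔ (S : Subgroup P) = ⊤ := by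
      by_contra h
      exact hD (le_sup_left.trans (hle _ le_sup_right h))
    obtain ⟨D, hDdef⟩ : ∃ D : Subgroup P, D = Subgroup.normalClosure (K : Set P) := ⟨_, rfl⟩
    rw [← hDdef] at hDn hD hDS
    have hKD : K ≤ D := hDdef ▸ Subgroup.le_normalClosure
    have hKDsn : (K.subgroupOf D).IsSubnormal := hKsn.subgroupOf
    have hne : K.subgroupOf D ≠ ⊤ := by
      intro h
      rw [Subgroup.subgroupOf_eq_top] at h
      exact hD (h.trans hKM)
    obtain ⟨D₁, hD₁n, hKD₁, hD₁lt⟩ := hKDsn.exists_normal_and_le_and_lt_top_of_ne hne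
    have hconj : ∀ g : P, K.map (MulAut.conj g).toMonoidHom ≤ D₁.map D.subtype := by
      intro g
      have hg : g⁻¹ ∈ (S : Subgroup P) ⊔ D := by rw [sup_comm, hDS]; exact Subgroup.mem_top _
      obtain ⟨s, hs, d, hd, e⟩ := mem_sup_of_le_normalizer (le_normalizer_of_normal hDn _) hg
      have hg' : g = d⁻¹ * s⁻¹ := by rw [← inv_inv g, e]; group
      rw [hg', map_conj_mul, map_conj_eq_of_mem_normalizer K (hSK (inv_mem hs))]
      rintro _ ⟨k, hk, rfl⟩
      refine ⟨(⟨d⁻¹, D.inv_mem hd⟩ : D) * ⟨k, hKD hk⟩ * (⟨d⁻¹, D.inv_mem hd⟩ : D)⁻¹, ?_, ?_⟩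
      · exact hD₁n.conj_mem _ (hKD₁ (Subgroup.mem_subgroupOf.mpr hk)) _
      · simp
    have hDle : D ≤ D₁.map D.subtype := by
      have h0 : Subgroup.normalClosure (K : Set P) ≤ D₁.map D.subtype := by
        apply (Subgroup.closure_le _).mpr
        intro x hx
        rw [Group.mem_conjugatesOfSet_iff] at hx
        obtain ⟨b, hb, hc⟩ := hx
        rw [isConj_iff] at hc
        obtain ⟨c, rfl⟩ := hc
        exact hconj c (conj_mem_map_conj K c hb)
      exact hDdef.le.trans h0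
    apply hD₁lt.ne
    rw [eq_top_iff]
    intro x _
    obtain ⟨y, hy, e⟩ := hDle x.2
    have : y = x := Subtype.ext e
    rw [← this]; exact hy

theorem partA (S : Sylow p P) (M : Subgroup P) (hM : IsCoatom M)
    (hSM : (S : Subgroup P) ≤ M)
    (hle : ∀ K : Subgroup P, (S : Subgroup P) ≤ K → K ≠ ⊤ → K ≤ M)
    (N : Subgroup P) (hN : N.IsSubnormal) (hNM : N ≤ M) :
    N ⊓ (S : Subgroup P) ≤ Cfsg.pCore p P := by
  have hNF := coreLe S M hM hSM hle N hN hNM
  have hFn : M.normalCore.Normal := Subgroup.normalCore_normal M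
  have hSF : (S : Subgroup P) ≤ Subgroup.normalizer (M.normalCore : Set P) :=
    le_normalizer_of_normal hFn _
  have hS := isSylowIn_inf_of_le_normalizer S hSF
  have hTK : (S : Subgroup P) ≤
      Subgroup.normalizer (((S : Subgroup P) ⊓ M.normalCore : Subgroup P) : Set P) :=
    (le_inf Subgroup.le_normalizer hSF).trans (normalizer_inf_le _ _)
  have hnorm : Subgroup.normalizer (((S : Subgroup P) ⊓ M.normalCore : Subgroup P) : Set P)
      = ⊤ := by
    by_contra hK
    have hKM := hle _ hTK hK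
    obtain ⟨S₁, hSe⟩ := hS.exists_sylow
    have hfr := Sylow.normalizer_sup_eq_top S₁
    rw [hSe] at hfr
    exact hM.1 (top_le_iff.mp (hfr ▸ sup_le hKM (Subgroup.normalCore_le M)))
  have hn : ((S : Subgroup P) ⊓ M.normalCore).Normal := Subgroup.normalizer_eq_top_iff.mp hnorm
  exact (le_inf inf_le_right (inf_le_left.trans hNF)).trans (le_pCore hn hS.2.1)

omit [Finite P] [Fact p.Prime] in
theorem partC (S : Sylow p P) (M : Subgroup P)
    (hle : ∀ K : Subgroup P, (S : Subgroup P) ≤ K → K ≠ ⊤ → K ≤ M)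
    (N : Subgroup P) (hN : N.Normal) : Cfsg.pResidual p P ≤ N ∨ N ≤ M.normalCore := by
  by_cases h : N ⊔ (S : Subgroup P) = ⊤
  · left; exact pResidual_le_of_sup_eq_top hN S.isPGroup' h
  · right
    have h1 : N ⊔ (S : Subgroup P) ≤ M := hle _ le_sup_right h
    exact Subgroup.normal_le_normalCore.mpr (le_sup_left.trans h1)

theorem partB (S : Sylow p P) (M : Subgroup P) (hM : IsCoatom M)
    (hSM : (S : Subgroup P) ≤ M)
    (hle : ∀ K : Subgroup P, (S : Subgroup P) ≤ K → K ≠ ⊤ → K ≤ M)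
    (hb : ∀ T : Sylow p ↥(Cfsg.pResidual p P), (T : Subgroup ↥(Cfsg.pResidual p P)).Normal) :
    (Nat.card P).primeFactors.card ≤ 2 := by
  have hRn : (Cfsg.pResidual p P).Normal := inferInstance
  have hT₀ : IsSylowIn p ((S : Subgroup P) ⊓ Cfsg.pResidual p P) (Cfsg.pResidual p P) :=
    isSylowIn_inf_of_le_normalizer S (le_normalizer_of_normal hRn _)
  obtain ⟨T, hT⟩ := hT₀.exists_sylow
  have hTn : ((S : Subgroup P) ⊓ Cfsg.pResidual p P).Normal := by
    apply IsSylowIn.normal_of_normal hRn hT₀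
    rw [← hT]
    have h1 := Subgroup.le_normalizer_map (H := (T : Subgroup ↥(Cfsg.pResidual p P)))
      (Cfsg.pResidual p P).subtype
    rw [Subgroup.normalizer_eq_top_iff.mpr (hb T)] at h1
    refine le_trans ?_ h1
    intro x hx
    exact ⟨⟨x, hx⟩, Subgroup.mem_top _, rfl⟩
  by_contra hcard
  have key : ∀ t : ℕ, t.Prime →
      ∃ Q : Subgroup P, IsSylowIn t Q (Cfsg.pResidual p P) ∧ Q ≤ M := by
    intro t ht
    have htf : Fact t.Prime := ⟨ht⟩
    obtain ⟨Q, hQ, hSN⟩ := exists_isSylowIn_sup_normalized (t := t) hRn hTn hT₀ S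
    refine ⟨Q, hQ, ?_⟩
    have hH : (Q ⊔ ((S : Subgroup P) ⊓ Cfsg.pResidual p P)) ⊔ (S : Subgroup P) ≤ M := by
      apply hle _ le_sup_right
      intro htop
      apply hcard
      exact primeFactors_card_le_two S.isPGroup' hQ.2.1 hT₀.2.1 hTn hSN htop
    exact le_sup_left.trans (le_sup_left.trans hH)
  have hRM : Cfsg.pResidual p P ≤ M := le_of_forall_isSylowIn_le key
  have h2 := pResidual_sup_sylow S
  exact hM.1 (top_le_iff.mp (h2 ▸ sup_le hRM hSM))

/-- Let P be a finite p-minimal group (a Sylow p-subgroup S is not normal and lies in a unique maximal subgroup M of P) and let F be the normal core of M. Then: every subnormal subgroup N of P contained in M satisfies N ∩ S ≤ O_p(P); if O^p(P) has a normal Sylow p-subgroup then the order of P has at most two prime divisors; every normal subgroup N of P either contains O^p(P) or is contained in F; and O^p(P)F ⧸ F is a minimal normal subgroup of P ⧸ F. -/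
theorem result {P : Type*} [Group P] [Finite P] {p : ℕ} [Fact p.Prime] (hP : Cfsg.IsPMinimal p P) (S : Sylow p P) (M : Subgroup P) (hM : IsCoatom M) (hSM : (S : Subgroup P) ≤ M) [hF : M.normalCore.Normal] : (∀ N : Subgroup P, N.IsSubnormal → N ≤ M → N ⊓ (S : Subgroup P) ≤ Cfsg.pCore p P) ∧ ((∀ T : Sylow p ↥(Cfsg.pResidual p P), (T : Subgroup ↥(Cfsg.pResidual p P)).Normal) → (Nat.card P).primeFactors.card ≤ 2) ∧ (∀ N : Subgroup P, N.Normal → Cfsg.pResidual p P ≤ N ∨ N ≤ M.normalCore) ∧ (∀ N : Subgroup P, N.Normal → M.normalCore ≤ N → N ≤ Cfsg.pResidual p P ⊔ M.normalCore → N = M.normalCore ∨ N = Cfsg.pResidual p P ⊔ M.normalCore) ∧ M.normalCore < Cfsg.pResidual p P ⊔ M.normalCore := by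
  obtain ⟨hSn, M', ⟨hM', hSM'⟩, huniq⟩ := hP S
  have hMeq : M = M' := huniq M ⟨hM, hSM⟩
  have hle : ∀ K : Subgroup P, (S : Subgroup P) ≤ K → K ≠ ⊤ → K ≤ M := by
    intro K hSK hK
    obtain ⟨M₁, hM₁, hKM₁⟩ := (eq_top_or_exists_le_coatom K).resolve_left hK
    have h1 := huniq M₁ ⟨hM₁, hSK.trans hKM₁⟩
    rw [hMeq, ← h1]; exact hKM₁
  have hC := partC S M hle
  have hE : M.normalCore < Cfsg.pResidual p P ⊔ M.normalCore := by
    apply lt_of_le_of_ne le_sup_right
    intro h
    have h1 : Cfsg.pResidual p P ≤ M := (le_sup_left.trans h.symm.le).trans (Subgroup.normalCore_le M)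
    have h2 := pResidual_sup_sylow S
    exact hM.1 (top_le_iff.mp (h2 ▸ sup_le h1 hSM))
  refine ⟨partA S M hM hSM hle, partB S M hM hSM hle, hC, ?_, hE⟩
  intro N hN hFN hNle
  rcases hC N hN with h | h
  · right; exact le_antisymm hNle (sup_le h hFN)
  · left; exact le_antisymm h hFN

end Cfsg.Agent.S2905
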