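import Cfsg.Statements.S2906
import Cfsg.Agent.Lib.Helper11.Components
import Cfsg.Agent.Lib.Helper19.SubnormalSylow
import Cfsg.Agent.Lib.Helper18.PMin
import Cfsg.Agent.Lib.Helper18.FStarComm
import Cfsg.Agent.S2905
import Cfsg.Agent.S2815

set_option autoImplicit false
open Cfsg

namespace Cfsg.Agent.S2906

open Cfsg.Agent.Lib.Helper18 in
/-- Frattini: a normal `p'`-subgroup inside the unique maximal subgroup over `S` is nilpotent. -/
theorem core_nilpotent {P : Type*} [Group P] [Finite P] {p : ℕ} [Fact p.Prime]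
    (S : Sylow p P) (M : Subgroup P) (hM : IsCoatom M)
    (hle : ∀ H : Subgroup P, (S : Subgroup P) ≤ H → H ≠ ⊤ → H ≤ M)
    (D : Subgroup P) (hD : D.Normal) (hDM : D ≤ M) (hDS : (S : Subgroup P) ⊓ D = ⊥) :
    Group.IsNilpotent ↥D := by
  have hSyl : IsSylowIn p (⊥ : Subgroup P) D := by
    have h := isSylowIn_inf_of_le_normalizer S (le_normalizer_of_normal hD (S : Subgroup P))
    rwa [hDS] at h
  apply ((Group.isNilpotent_of_finite_tfae (G := ↥D)).out 0 3).mpr
  intro t ht Qt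
  obtain ⟨Q, hQ, hSQ⟩ := exists_isSylowIn_sup_normalized (t := t) hD
    (Subgroup.normal_bot) hSyl S
  rw [sup_bot_eq] at hSQ
  obtain ⟨Q₁, hQ₁⟩ := hQ.exists_sylow
  have hfr := Sylow.normalizer_sup_eq_top Q₁
  rw [hQ₁] at hfr
  have hnorm : Subgroup.normalizer (Q : Set P) = ⊤ := by
    by_contra hne
    have h1 := hle _ hSQ hne
    exact hM.1 (top_le_iff.mp (hfr ▸ sup_le h1 hDM))
  have hQn : Q.Normal := Subgroup.normalizer_eq_top_iff.mp hnorm
  have hQ₁n : (Q₁ : Subgroup ↥D).Normal := by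
    have h2 : (Q₁ : Subgroup ↥D) = Q.subgroupOf D := by
      rw [← hQ₁]
      exact (Subgroup.comap_map_eq_self_of_injective (Subgroup.subtype_injective _) _).symm
    rw [h2]
    exact hQn.subgroupOf D
  obtain ⟨g, hg⟩ := MulAction.exists_smul_eq ↥D Q₁ Qt
  rw [← hg, Sylow.smul_eq_of_normal]
  exact hQ₁n

open Cfsg.Agent.Lib.Helper18 in
theorem res_le {P : Type*} [Group P] [Finite P] {p : ℕ} [Fact p.Prime]
    (hOp : Cfsg.pCore p P = ⊥) (S : Sylow p P) (M : Subgroup P) (hM : IsCoatom M)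
    (hSM : (S : Subgroup P) ≤ M)
    (hle : ∀ H : Subgroup P, (S : Subgroup P) ≤ H → H ≠ ⊤ → H ≤ M)
    (K : Subgroup P) (hK : Cfsg.IsComponent K) (N : Subgroup P) (hN : N.Normal) (hKN : K ≤ N) :
    Cfsg.pResidual p P ≤ N := by
  rcases Cfsg.Agent.S2905.partC S M hle N hN with h | h
  · exact h
  · exfalso
    have hDn : M.normalCore.Normal := Subgroup.normalCore_normal M
    have hDM := Subgroup.normalCore_le M
    have hDS : (S : Subgroup P) ⊓ M.normalCore = ⊥ := by
      have h1 := Cfsg.Agent.S2905.partA S M hM hSM hle M.normalCore hDn.isSubnormal hDM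
      rw [hOp] at h1
      rw [inf_comm]
      exact le_bot_iff.mp h1
    have hnil := core_nilpotent S M hM hle _ hDn hDM hDS
    have hKD : K ≤ M.normalCore := hKN.trans h
    have hsolD : Group.IsSolvable ↥M.normalCore := IsNilpotent.to_isSolvable
    have hsolK : Group.IsSolvable ↥K :=
      Group.isSolvable_of_isSolvable_injective (Subgroup.inclusion_injective hKD)
    exact Cfsg.Agent.Lib.Helper11.qs_not_solvable hK.2 hsolK

open Cfsg.Agent.Lib.Helper18 Cfsg.Agent.Lib.Helper11 in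
open scoped commutatorElement in
theorem lemY {P : Type*} [Group P] [Finite P] {p : ℕ} [Fact p.Prime]
    (S : Sylow p P) (M : Subgroup P)
    (hle : ∀ H : Subgroup P, (S : Subgroup P) ≤ H → H ≠ ⊤ → H ≤ M)
    (K : Subgroup P) (hK : Cfsg.IsComponent K) (hKR : K ≤ Cfsg.pResidual p P)
    (K₀ : Subgroup P) (hK₀ : K₀ ≤ K) (hne : K₀ ≠ K)
    (hS₀ : (S : Subgroup P) ⊓ Subgroup.normalizer (K : Set P) ≤
      Subgroup.normalizer (K₀ : Set P)) :
    K₀ ≤ M := by
  obtain ⟨E₀, hE₀⟩ : ∃ E₀ : Subgroup P,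
      E₀ = ⨆ s : ↥(S : Subgroup P), K₀.map (MulAut.conj (s : P)).toMonoidHom := ⟨_, rfl⟩
  have hK₀E₀ : K₀ ≤ E₀ := by
    have h1 := le_iSup (fun s : ↥(S : Subgroup P) => K₀.map (MulAut.conj (s : P)).toMonoidHom) 1
    rw [← hE₀] at h1
    have h2 : K₀.map (MulAut.conj (((1 : ↥(S : Subgroup P)) : P))).toMonoidHom = K₀ :=
      map_conj_one K₀
    rw [← h2]
    exact h1
  by_cases hH : E₀ ⊔ (S : Subgroup P) = ⊤
  · exfalso
    have hE₀n : E₀.Normal := by
      rw [← Subgroup.normalizer_eq_top_iff, eq_top_iff, ← hH]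
      apply sup_le Subgroup.le_normalizer
      apply le_normalizer_of_forall_map_conj_le
      intro s hs
      rw [hE₀, Subgroup.map_iSup]
      apply iSup_le
      intro s'
      rw [← map_conj_mul]
      exact le_iSup (fun s : ↥(S : Subgroup P) => K₀.map (MulAut.conj (s : P)).toMonoidHom)
        (⟨s, hs⟩ * s')
    have hRE₀ : Cfsg.pResidual p P ≤ E₀ := pResidual_le_of_sup_eq_top hE₀n S.isPGroup' hH
    have hKE₀ : K ≤ E₀ := hKR.trans hRE₀
    have hE₀le : E₀ ≤ K₀ ⊔ Subgroup.centralizer (K : Set P) := by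
      rw [hE₀]
      apply iSup_le
      intro s
      by_cases hs : (s : P) ∈ Subgroup.normalizer (K : Set P)
      · have h1 : (s : P) ∈ Subgroup.normalizer (K₀ : Set P) := hS₀ ⟨s.2, hs⟩
        rw [map_conj_eq_of_mem_normalizer K₀ h1]
        exact le_sup_left
      · have hne' : K.map (MulAut.conj (s : P)).toMonoidHom ≠ K := fun h =>
          hs (mem_normalizer_of_map_conj_eq _ h)
        have hc : ⁅K.map (MulAut.conj (s : P)).toMonoidHom, K⁆ = ⊥ :=
          components_comm (component_map_equiv hK (MulAut.conj (s : P))) hK hne'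
        have h1 : K.map (MulAut.conj (s : P)).toMonoidHom ≤ Subgroup.centralizer (K : Set P) :=
          Subgroup.commutator_eq_bot_iff_le_centralizer.mp hc
        exact (Subgroup.map_mono hK₀).trans (h1.trans le_sup_right)
    have hKK₀ : K ≤ K₀ := by
      have hperf : ⁅K, K⁆ = K := component_perfect hK
      rw [← hperf, Subgroup.commutator_le]
      intro k hk k' hk'
      have hnorm : K₀ ≤ Subgroup.normalizer (Subgroup.centralizer (K : Set P) : Set P) :=
        hK₀.trans (Subgroup.le_normalizer.trans (normalizer_le_normalizer_centralizer K))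
      obtain ⟨a, ha, c, hc, rfl⟩ := mem_sup_of_le_normalizer hnorm (hE₀le (hKE₀ hk))
      obtain ⟨a', ha', c', hc', rfl⟩ := mem_sup_of_le_normalizer hnorm (hE₀le (hKE₀ hk'))
      have h1 : c * (a' * c') = (a' * c') * c :=
        ((Subgroup.mem_centralizer_iff.mp hc) _ hk').symm
      have h3 : c' * a⁻¹ = a⁻¹ * c' :=
        ((Subgroup.mem_centralizer_iff.mp hc') a⁻¹ (K.inv_mem (hK₀ ha))).symm
      have e : ⁅a * c, a' * c'⁆ = a * a' * a⁻¹ * a'⁻¹ := by
        rw [commutatorElement_def]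
        calc a * c * (a' * c') * (a * c)⁻¹ * (a' * c')⁻¹
            = a * (c * (a' * c')) * c⁻¹ * a⁻¹ * c'⁻¹ * a'⁻¹ := by group
          _ = a * ((a' * c') * c) * c⁻¹ * a⁻¹ * c'⁻¹ * a'⁻¹ := by rw [h1]
          _ = a * a' * (c' * a⁻¹) * c'⁻¹ * a'⁻¹ := by group
          _ = a * a' * (a⁻¹ * c') * c'⁻¹ * a'⁻¹ := by rw [h3]
          _ = a * a' * a⁻¹ * a'⁻¹ := by group
      rw [e]
      exact K₀.mul_mem (K₀.mul_mem (K₀.mul_mem ha ha') (K₀.inv_mem ha)) (K₀.inv_mem ha')
    exact hne (le_antisymm hK₀ hKK₀)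
  · exact hK₀E₀.trans (le_sup_left.trans (hle _ le_sup_right hH))

open Cfsg.Agent.Lib.Helper18 in
theorem isPMinimal_of_sylow {H : Type*} [Group H] [Finite H] {p : ℕ} [Fact p.Prime]
    (T₀ : Sylow p H) (h1 : ¬ (T₀ : Subgroup H).Normal)
    (h2 : ∃! M : Subgroup H, IsCoatom M ∧ (T₀ : Subgroup H) ≤ M) : Cfsg.IsPMinimal p H := by
  intro T
  obtain ⟨g, hg⟩ := MulAction.exists_smul_eq H T₀ T
  constructor
  · intro hn
    apply h1
    have h3 : g⁻¹ • T = T := Sylow.smul_eq_of_normal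
    rw [← hg, inv_smul_smul] at h3
    rw [h3, hg]
    exact hn
  · obtain ⟨M, ⟨hM, hTM⟩, hu⟩ := h2
    have hco : ∀ (x : H) (M₁ : Subgroup H), IsCoatom M₁ →
        IsCoatom (M₁.map (MulAut.conj x).toMonoidHom) := by
      intro x M₁ hM₁
      exact (OrderIso.isCoatom_iff (MulEquiv.mapSubgroup (MulAut.conj x)) M₁).mpr hM₁
    refine ⟨M.map (MulAut.conj g).toMonoidHom, ⟨hco g M hM, ?_⟩, ?_⟩
    · rw [← hg, coe_smul_sylow]
      exact Subgroup.map_mono hTM
    · rintro M' ⟨hM', hTM'⟩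
      have h3 : M'.map (MulAut.conj g⁻¹).toMonoidHom = M := by
        apply hu
        refine ⟨hco g⁻¹ M' hM', ?_⟩
        rw [← hg, coe_smul_sylow] at hTM'
        exact (map_conj_le_iff _ _ g).mp hTM'
      rw [← h3, ← map_conj_mul, mul_inv_cancel, map_conj_one]

open Cfsg.Agent.Lib.Helper18 Cfsg.Agent.Lib.Helper11 in
open scoped commutatorElement in
theorem pmin_sub {P : Type*} [Group P] [Finite P] {p : ℕ} [hp : Fact p.Prime]
    (S : Sylow p P) (M : Subgroup P) (hSM : (S : Subgroup P) ≤ M)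
    (K : Subgroup P) (hK : Cfsg.IsComponent K) (hKM : ¬ K ≤ M)
    (hY : ∀ K₀ : Subgroup P, K₀ ≤ K → K₀ ≠ K →
      (S : Subgroup P) ⊓ Subgroup.normalizer (K : Set P) ≤ Subgroup.normalizer (K₀ : Set P) →
      K₀ ≤ M) :
    Cfsg.IsPMinimal p ↥(K ⊔ ((S : Subgroup P) ⊓ Subgroup.normalizer (K : Set P))) := by
  obtain ⟨S₀, hS₀⟩ : ∃ S₀ : Subgroup P,
      S₀ = (S : Subgroup P) ⊓ Subgroup.normalizer (K : Set P) := ⟨_, rfl⟩
  rw [← hS₀] at hY ⊢
  obtain ⟨X, hX⟩ : ∃ X : Subgroup P, X = K ⊔ S₀ := ⟨_, rfl⟩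
  rw [← hX]
  have hS₀N : S₀ ≤ Subgroup.normalizer (K : Set P) := hS₀ ▸ inf_le_right
  have hS₀S : S₀ ≤ (S : Subgroup P) := hS₀ ▸ inf_le_left
  have hKX : K ≤ X := hX ▸ le_sup_left
  have hS₀X : S₀ ≤ X := hX ▸ le_sup_right
  have hS₀p : IsPGroup p ↥S₀ := S.isPGroup'.to_le hS₀S
  have hKnotp : ¬ K ≤ S₀ := by
    intro h
    have hKp : IsPGroup p ↥K := hS₀p.to_le h
    have hnil : Group.IsNilpotent ↥K := hKp.isNilpotent
    have hsol : Group.IsSolvable ↥K := IsNilpotent.to_isSolvable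
    exact qs_not_solvable hK.2 hsol
  -- the Sylow subgroup of X
  have hcard : Nat.card ↥(S₀.subgroupOf X) = p ^ (Nat.card ↥X).factorization p := by
    have e0 : Nat.card ↥(S₀.subgroupOf X) = Nat.card ↥S₀ :=
      Nat.card_congr (Subgroup.subgroupOfEquivOfLe hS₀X).toEquiv
    rw [e0]
    obtain ⟨b, hb⟩ := IsPGroup.iff_card.mp hS₀p
    have h1 := Cfsg.Agent.Lib.Helper19.card_sup_mul_card_inf_of_normalizes hS₀N
    rw [← hX] at h1
    have h2 : K ⊓ S₀ = (S : Subgroup P) ⊓ K := by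
      rw [hS₀]
      apply le_antisymm
      · exact le_inf (inf_le_right.trans inf_le_left) inf_le_left
      · exact le_inf inf_le_right (le_inf inf_le_left (inf_le_right.trans Subgroup.le_normalizer))
    have h3 := Cfsg.Agent.Lib.Helper19.card_sylow_inf_subnormal S hK.1
    rw [h2, h3, hb] at h1
    have h4 := congrArg (fun n : ℕ => n.factorization p) h1
    beta_reduce at h4
    rw [Nat.factorization_mul Nat.card_pos.ne' (pow_pos hp.out.pos _).ne',
      Nat.factorization_mul Nat.card_pos.ne' (pow_pos hp.out.pos _).ne'] at h4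
    simp only [Finsupp.add_apply, Nat.Prime.factorization_pow hp.out,
      Finsupp.single_eq_same] at h4
    rw [hb]
    congr 1
    omega
  obtain ⟨T₀, hT₀⟩ : ∃ T₀ : Sylow p ↥X, (T₀ : Subgroup ↥X) = S₀.subgroupOf X :=
    ⟨Sylow.ofCard _ hcard, Sylow.coe_ofCard _ _⟩
  have hA : ∀ Y' : Subgroup ↥X, (T₀ : Subgroup ↥X) ≤ Y' → Y' ≠ ⊤ →
      Y' ≤ (M ⊓ X).subgroupOf X := by
    intro Y' hTY hYtop
    obtain ⟨Y, hYdef⟩ : ∃ Y : Subgroup P, Y = Y'.map X.subtype := ⟨_, rfl⟩
    have hS₀Y : S₀ ≤ Y := by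
      intro s hs
      rw [hYdef]
      exact ⟨⟨s, hS₀X hs⟩, hTY (hT₀ ▸ Subgroup.mem_subgroupOf.mpr hs), rfl⟩
    have hne : Y ⊓ K ≠ K := by
      intro h
      apply hYtop
      have hKY : K ≤ Y := h ▸ inf_le_left
      have hXY : X ≤ Y := hX ▸ sup_le hKY hS₀Y
      rw [eq_top_iff]
      intro x _
      have hx : (x : P) ∈ Y'.map X.subtype := hYdef ▸ hXY x.2
      obtain ⟨y, hy, e⟩ := hx
      have : y = x := Subtype.ext e
      rw [← this]
      exact hy
    have hnorm : S₀ ≤ Subgroup.normalizer ((Y ⊓ K : Subgroup P) : Set P) :=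
      (le_inf (hS₀Y.trans Subgroup.le_normalizer) hS₀N).trans (normalizer_inf_le _ _)
    have hYKM : Y ⊓ K ≤ M := hY (Y ⊓ K) inf_le_right hne hnorm
    intro y hy
    rw [Subgroup.mem_subgroupOf]
    refine Subgroup.mem_inf.mpr ⟨?_, y.2⟩
    have hyY : (y : P) ∈ Y := hYdef ▸ ⟨y, hy, rfl⟩
    have hyX : (y : P) ∈ S₀ ⊔ K := by
      rw [sup_comm, ← hX]
      exact y.2
    obtain ⟨s, hs, k, hk, e⟩ := mem_sup_of_le_normalizer hS₀N hyX
    have hkY : k ∈ Y := by
      have e' : k = s⁻¹ * (y : P) := by rw [e]; group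
      rw [e']
      exact Y.mul_mem (Y.inv_mem (hS₀Y hs)) hyY
    rw [e]
    exact M.mul_mem (hSM (hS₀S hs)) (hYKM ⟨hkY, hk⟩)
  have hMXne : (M ⊓ X).subgroupOf X ≠ ⊤ := by
    intro h
    apply hKM
    intro k hk
    have h1 : (⟨k, hKX hk⟩ : ↥X) ∈ (M ⊓ X).subgroupOf X := h ▸ Subgroup.mem_top _
    exact (Subgroup.mem_subgroupOf.mp h1).1
  have hTMX : (T₀ : Subgroup ↥X) ≤ (M ⊓ X).subgroupOf X := by
    rw [hT₀]
    intro x hx
    rw [Subgroup.mem_subgroupOf] at hx ⊢
    exact ⟨hSM (hS₀S hx), x.2⟩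
  apply isPMinimal_of_sylow T₀
  · intro hn
    have hKS₀ : K ≤ Subgroup.normalizer (S₀ : Set P) := by
      apply le_normalizer_of_forall_map_conj_le
      intro k hk
      rintro _ ⟨s, hs, rfl⟩
      have h1 : (⟨s, hS₀X hs⟩ : ↥X) ∈ (T₀ : Subgroup ↥X) :=
        hT₀ ▸ Subgroup.mem_subgroupOf.mpr hs
      have h2 := hn.conj_mem _ h1 ⟨k, hKX hk⟩
      rw [hT₀, Subgroup.mem_subgroupOf] at h2
      simpa using h2
    have h1 : ⁅K, S₀⁆ ≤ K ⊓ S₀ :=
      le_inf (commutator_le_of_le_normalizer' hS₀N) (commutator_le_of_le_normalizer hKS₀)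
    have h2 : K ⊓ S₀ ≤ Subgroup.centralizer (K : Set P) := by
      apply qs_normal_le_centralizer hK.2 inf_le_left
      · exact (le_inf Subgroup.le_normalizer hKS₀).trans (normalizer_inf_le _ _)
      · intro h
        exact hKnotp (h ▸ inf_le_right)
    have h3 : ⁅⁅S₀, K⁆, K⁆ = ⊥ := by
      rw [Subgroup.commutator_comm S₀ K]
      exact Subgroup.commutator_eq_bot_iff_le_centralizer.mpr (h1.trans h2)
    have h4 : ⁅K, S₀⁆ = ⊥ := perfect_comm_of_triple (component_perfect hK) h3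
    have h5 : S₀ ≤ Subgroup.centralizer (K : Set P) := by
      rw [Subgroup.commutator_comm] at h4
      exact Subgroup.commutator_eq_bot_iff_le_centralizer.mp h4
    obtain ⟨x, hxK, hxM⟩ := SetLike.not_le_iff_exists.mp hKM
    have hzK : Subgroup.zpowers x ≤ K := by
      rw [Subgroup.zpowers_le]
      exact hxK
    have hznorm : S₀ ≤ Subgroup.normalizer ((Subgroup.zpowers x : Subgroup P) : Set P) := by
      have h6 : Subgroup.centralizer (K : Set P) ≤
          Subgroup.centralizer ((Subgroup.zpowers x : Subgroup P) : Set P) :=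
        Subgroup.centralizer_le (show ((Subgroup.zpowers x : Subgroup P) : Set P) ⊆ (K : Set P)
          from hzK)
      exact h5.trans (h6.trans (Subgroup.centralizer_le_normalizer _))
    by_cases hz : Subgroup.zpowers x = K
    · -- K cyclic, hence trivial
      have hcomm : ⁅K, K⁆ = ⊥ := by
        rw [Subgroup.commutator_eq_bot_iff_le_centralizer]
        intro a ha
        rw [Subgroup.mem_centralizer_iff]
        intro b hb
        rw [← hz] at ha
        have hb' : b ∈ Subgroup.zpowers x := by rw [hz]; exact hb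
        obtain ⟨i, rfl⟩ := Subgroup.mem_zpowers_iff.mp ha
        obtain ⟨j, rfl⟩ := Subgroup.mem_zpowers_iff.mp hb'
        exact ((Commute.refl x).zpow_zpow j i).eq
      rw [component_perfect hK] at hcomm
      apply hxM
      have : x ∈ (⊥ : Subgroup P) := hcomm ▸ hxK
      rw [Subgroup.mem_bot] at this
      rw [this]
      exact M.one_mem
    · exact hxM (hY _ hzK hz hznorm (Subgroup.mem_zpowers x))
  · refine ⟨(M ⊓ X).subgroupOf X, ⟨⟨hMXne, ?_⟩, hTMX⟩, ?_⟩
    · intro Y' hlt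
      by_contra hne
      exact absurd (hA Y' (hTMX.trans hlt.le) hne) (not_le_of_gt hlt)
    · rintro M' ⟨hM', hTM'⟩
      have h1 := hA M' hTM' hM'.1
      exact ((hM'.le_iff_eq hMXne).mp h1).symm


/-- Let P be a finite p-minimal group with O_p(P) = 1, S a Sylow p-subgroup of P and K a component of P. Then O^p(P) = F*(P) = E(P) is generated by the S-conjugates of K, and the subgroup K·N_S(K) is again p-minimal. -/
theorem result {P : Type*} [Group P] [Finite P] {p : ℕ} [Fact p.Prime] (hP : Cfsg.IsPMinimal p P) (hOp : Cfsg.pCore p P = ⊥) (S : Sylow p P) (K : Subgroup P) (hK : Cfsg.IsComponent K) : Cfsg.pResidual p P = Cfsg.generalizedFittingSubgroup P ∧ Cfsg.generalizedFittingSubgroup P = Cfsg.layer P ∧ Cfsg.layer P = ⨆ s : ↥(S : Subgroup P), K.map (MulAut.conj (s : P)).toMonoidHom ∧ Cfsg.IsPMinimal p ↥(K ⊔ ((S : Subgroup P) ⊓ Subgroup.normalizer (K : Set P))) := by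
  classical
  obtain ⟨hSn, M, ⟨hM, hSM⟩, hMu⟩ := hP S
  have hle : ∀ H : Subgroup P, (S : Subgroup P) ≤ H → H ≠ ⊤ → H ≤ M := by
    intro H hSH hH
    rcases eq_top_or_exists_le_coatom H with h | ⟨M', hM', hHM'⟩
    · exact absurd h hH
    · have h1 := hMu M' ⟨hM', hSH.trans hHM'⟩
      rw [← h1]
      exact hHM'
  have hEn : (Cfsg.layer P).Normal := Cfsg.Agent.Lib.Helper11.layer_normal
  have hKE : K ≤ Cfsg.layer P := Cfsg.Agent.Lib.Helper11.component_le_layer hK
  have hRE : Cfsg.pResidual p P ≤ Cfsg.layer P :=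
    res_le hOp S M hM hSM hle K hK (Cfsg.layer P) hEn hKE
  have hER : Cfsg.layer P ≤ Cfsg.pResidual p P :=
    Cfsg.Agent.S2815.perfect_le_pResidual Cfsg.Agent.Lib.Helper11.layer_perfect
  have hRE' : Cfsg.pResidual p P = Cfsg.layer P := le_antisymm hRE hER
  have hFR : Cfsg.fittingSubgroup P ≤ Cfsg.pResidual p P := by
    have hcop := Cfsg.Agent.Lib.Helper18.card_fitting_coprime hOp
    intro x hx
    apply Subgroup.subset_closure
    show Nat.Coprime (orderOf x) p
    have h1 : orderOf x ∣ Nat.card ↥(Cfsg.fittingSubgroup P) := by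
      have h2 := orderOf_dvd_natCard (⟨x, hx⟩ : ↥(Cfsg.fittingSubgroup P))
      rwa [Subgroup.orderOf_mk] at h2
    exact Nat.Coprime.coprime_dvd_left h1 hcop
  have hFE : Cfsg.generalizedFittingSubgroup P = Cfsg.layer P := by
    apply le_antisymm
    · exact sup_le le_rfl (hFR.trans hRE)
    · exact le_sup_left
  have hES : Cfsg.layer P ⊔ (S : Subgroup P) = ⊤ :=
    hRE' ▸ Cfsg.Agent.Lib.Helper18.pResidual_sup_sylow S
  obtain ⟨L, hLdef⟩ : ∃ L : Subgroup P,
      L = ⨆ s : ↥(S : Subgroup P), K.map (MulAut.conj (s : P)).toMonoidHom := ⟨_, rfl⟩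
  have hKL : K ≤ L := by
    have h1 := le_iSup (fun s : ↥(S : Subgroup P) => K.map (MulAut.conj (s : P)).toMonoidHom) 1
    rw [← hLdef] at h1
    have h2 : K.map (MulAut.conj (((1 : ↥(S : Subgroup P)) : P))).toMonoidHom = K :=
      Cfsg.Agent.Lib.Helper18.map_conj_one K
    rw [← h2]
    exact h1
  have hLE : L ≤ Cfsg.layer P := by
    rw [hLdef]
    apply iSup_le
    intro s
    exact Cfsg.Agent.Lib.Helper11.component_le_layer
      (Cfsg.Agent.Lib.Helper11.component_map_equiv hK (MulAut.conj (s : P)))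
  have hLn : L.Normal := by
    rw [← Subgroup.normalizer_eq_top_iff, eq_top_iff, ← hES]
    apply sup_le
    · rw [hLdef, iSup]
      apply Cfsg.Agent.Lib.Helper18.le_normalizer_sSup
      rintro _ ⟨s, rfl⟩
      exact Cfsg.Agent.Lib.Helper11.layer_le_normalizer_component
        (Cfsg.Agent.Lib.Helper11.component_map_equiv hK (MulAut.conj (s : P)))
    · apply Cfsg.Agent.Lib.Helper18.le_normalizer_of_forall_map_conj_le
      intro s hs
      rw [hLdef, Subgroup.map_iSup]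
      apply iSup_le
      intro s'
      rw [← Cfsg.Agent.Lib.Helper18.map_conj_mul]
      exact le_iSup (fun s : ↥(S : Subgroup P) => K.map (MulAut.conj (s : P)).toMonoidHom)
        (⟨s, hs⟩ * s')
  have hRL : Cfsg.pResidual p P ≤ L := res_le hOp S M hM hSM hle K hK L hLn hKL
  have hLeq : Cfsg.layer P = L := le_antisymm (hRE' ▸ hRL) hLE
  have hKM : ¬ K ≤ M := by
    intro hKM
    have hLM : L ≤ M := by
      rw [hLdef]
      apply iSup_le
      intro s
      rintro _ ⟨k, hk, rfl⟩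
      simp only [MulEquiv.coe_toMonoidHom, MulAut.conj_apply]
      exact M.mul_mem (M.mul_mem (hSM s.2) (hKM hk)) (M.inv_mem (hSM s.2))
    exact hM.1 (top_le_iff.mp (hES ▸ sup_le (hLeq ▸ hLM) hSM))
  refine ⟨hRE'.trans hFE.symm, hFE, hLeq.trans hLdef, ?_⟩
  exact pmin_sub S M hSM K hK hKM (fun K₀ h1 h2 h3 =>
    lemY S M hle K hK (hKE.trans hER) K₀ h1 h2 h3)

end Cfsg.Agent.S2906
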