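import Cfsg.Statements.S2911
import Cfsg.Agent.S2872

set_option autoImplicit false
open Cfsg

namespace Cfsg.Agent.S2911

open Cfsg.Agent.Lib.Helper18
open DihedralGroup

/-- The concrete group `Z₂ × D₈`. -/
abbrev P16 := Multiplicative (ZMod 2) × DihedralGroup 4

/-- The central involution of the dihedral factor. -/
def c₀ : P16 := (1, r 2)

/-- The involution generating the cyclic factor. -/
def u₀ : P16 := (Multiplicative.ofAdd 1, 1)

theorem center_P16 : ∀ x : P16, (∀ y : P16, y * x = x * y) →
    x = 1 ∨ x = c₀ ∨ x = u₀ ∨ x = u₀ * c₀ := by decide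

theorem c₀_central : ∀ y : P16, y * c₀ = c₀ * y := by decide

theorem u₀_central : ∀ y : P16, y * u₀ = u₀ * y := by decide

theorem c₀_sq : ((1, r 1) : P16) ^ 2 = c₀ := by decide

theorem c₀_mul_self : c₀ * c₀ = 1 := by decide

theorem u₀_mul_self : u₀ * u₀ = 1 := by decide

theorem c₀_ne_one : c₀ ≠ 1 := by decide

theorem u₀_fst : u₀.1 ≠ 1 := by decide

theorem u₀c₀_fst : (u₀ * c₀).1 ≠ 1 := by decide

theorem sq_fst : ∀ t : Multiplicative (ZMod 2), t ^ 2 = 1 := by decide

/-- `p`-th powers lie in the Frattini subgroup of a finite `p`-group. -/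
theorem pow_mem_frattini {P : Type*} [Group P] [Finite P] {p : ℕ} [Fact p.Prime]
    (hP : IsPGroup p P) (x : P) : x ^ p ∈ frattini P := by
  unfold frattini Order.radical
  simp only [Subgroup.mem_iInf]
  intro M hM
  have hMn := normal_of_isCoatom hP hM
  have := index_eq_prime_of_isCoatom hP hM
  rw [← this]; exact Subgroup.pow_index_mem M x

theorem exists_index_two_of_pResidual_ne_top {G : Type*} [Group G] [Finite G]
    (h : Cfsg.pResidual 2 G ≠ ⊤) : ∃ H : Subgroup G, H.index = 2 := by
  have hp2 : Fact (Nat.Prime 2) := ⟨Nat.prime_two⟩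
  have hQ : IsPGroup 2 (G ⧸ Cfsg.pResidual 2 G) := isPGroup_quotient_of_pResidual_le _ le_rfl
  have hnt : Nontrivial (G ⧸ Cfsg.pResidual 2 G) := by
    by_contra hnt
    rw [not_nontrivial_iff_subsingleton] at hnt
    exact h (QuotientGroup.subgroup_eq_top_of_subsingleton _ hnt)
  obtain ⟨M, hM, -⟩ := (eq_top_or_exists_le_coatom
    (⊥ : Subgroup (G ⧸ Cfsg.pResidual 2 G))).resolve_left bot_ne_top
  refine ⟨M.comap (QuotientGroup.mk' _), ?_⟩
  rw [Subgroup.index_comap_of_surjective M (QuotientGroup.mk'_surjective _)]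
  exact index_eq_prime_of_isCoatom hQ hM

theorem exists_pow_mem_sylow_of_mem_normalizer {G : Type*} [Group G] [Finite G] {p : ℕ}
    [Fact p.Prime] (S : Sylow p G) {g : G}
    (hg : g ∈ Subgroup.normalizer ((S : Subgroup G) : Set G)) :
    ∃ m : ℕ, ¬ p ∣ m ∧ g ^ m ∈ (S : Subgroup G) := by
  set K := Subgroup.normalizer ((S : Subgroup G) : Set G) with hK
  have hn : ((S : Subgroup G).subgroupOf K).Normal :=
    Subgroup.normal_subgroupOf_of_le_normalizer le_rfl
  refine ⟨((S : Subgroup G).subgroupOf K).index, ?_, ?_⟩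
  · intro hdvd
    have h1 : ((S : Subgroup G).subgroupOf K).index = (S : Subgroup G).relIndex K := rfl
    rw [h1] at hdvd
    exact S.not_dvd_index (hdvd.trans (Subgroup.relIndex_dvd_index_of_le Subgroup.le_normalizer))
  · have := Subgroup.pow_index_mem ((S : Subgroup G).subgroupOf K) (⟨g, hg⟩ : K)
    rw [Subgroup.mem_subgroupOf] at this
    simpa using this

/-- A finite group whose Sylow 2-subgroups are isomorphic to the direct product of a group of order 2 and a dihedral group of order 8 has a subgroup of index two. -/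
theorem result {G : Type*} [Group G] [Finite G] (S : Sylow 2 G) (hS : Nonempty (↥(S : Subgroup G) ≃* Multiplicative (ZMod 2) × DihedralGroup 4)) : ∃ H : Subgroup G, H.index = 2 := by
  have hp2 : Fact (Nat.Prime 2) := ⟨Nat.prime_two⟩
  obtain ⟨e⟩ := hS
  let π : ↥(S : Subgroup G) →* Multiplicative (ZMod 2) :=
    (MonoidHom.fst _ _).comp e.toMonoidHom
  have hΦ : frattini ↥(S : Subgroup G) ≤ π.ker := by
    apply frattini_le_of_elementary (p := 2)
    · intro a b
      rw [MonoidHom.mem_ker, map_mul, map_mul, map_mul, map_inv, map_inv,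
        mul_comm (π a) (π b), mul_inv_cancel_right, mul_inv_cancel]
    · intro a
      rw [MonoidHom.mem_ker, map_pow]; exact sq_fst _
  set c : ↥(S : Subgroup G) := e.symm c₀ with hcdef
  set u : ↥(S : Subgroup G) := e.symm u₀ with hudef
  have hcΦ : c ∈ frattini ↥(S : Subgroup G) := by
    have : c = (e.symm ((1, r 1) : P16)) ^ 2 := by rw [← map_pow, c₀_sq]
    rw [this]; exact pow_mem_frattini S.isPGroup' _
  have huΦ : u ∉ frattini ↥(S : Subgroup G) := by
    intro h
    have h1 := hΦ h
    rw [MonoidHom.mem_ker] at h1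
    have e1 : π u = u₀.1 := by
      show (e (e.symm u₀)).1 = u₀.1
      rw [e.apply_symm_apply]
    rw [e1] at h1; exact u₀_fst h1
  have hucΦ : u * c ∉ frattini ↥(S : Subgroup G) := by
    intro h
    have h1 := hΦ h
    rw [MonoidHom.mem_ker] at h1
    have e1 : π (u * c) = (u₀ * c₀).1 := by
      show (e (e.symm u₀ * e.symm c₀)).1 = (u₀ * c₀).1
      rw [map_mul, e.apply_symm_apply, e.apply_symm_apply]
    rw [e1] at h1; exact u₀c₀_fst h1
  have hccen : ∀ s : ↥(S : Subgroup G), s * c = c * s := by
    intro s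
    apply e.injective
    rw [map_mul, map_mul, e.apply_symm_apply]; exact c₀_central _
  have hucen : ∀ s : ↥(S : Subgroup G), s * u = u * s := by
    intro s
    apply e.injective
    rw [map_mul, map_mul, e.apply_symm_apply]; exact u₀_central _
  have hcen4 : ∀ z : ↥(S : Subgroup G), (∀ s, s * z = z * s) →
      z = 1 ∨ z = c ∨ z = u ∨ z = u * c := by
    intro z hz
    have h := center_P16 (e z) (fun y => by
      have := congrArg e (hz (e.symm y))
      rwa [map_mul, map_mul, e.apply_symm_apply] at this)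
    rcases h with h | h | h | h
    · left; apply e.injective; rw [h, map_one]
    · right; left; apply e.injective; rw [h, e.apply_symm_apply]
    · right; right; left; apply e.injective; rw [h, e.apply_symm_apply]
    · right; right; right; apply e.injective
      rw [h, map_mul, e.apply_symm_apply, e.apply_symm_apply]
  have hc1' : c ≠ 1 := by
    intro h
    apply c₀_ne_one
    have := congrArg e h
    rwa [e.apply_symm_apply, map_one] at this
  have hcc' : c * c = 1 := by
    apply e.injective
    rw [map_mul, e.apply_symm_apply, map_one]; exact c₀_mul_self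
  have huu' : u * u = 1 := by
    apply e.injective
    rw [map_mul, e.apply_symm_apply, map_one]; exact u₀_mul_self
  have hcG : (c : G) ∈ (S : Subgroup G) ⊓ Subgroup.centralizer ((S : Subgroup G) : Set G) := by
    refine Subgroup.mem_inf.mpr ⟨c.2, ?_⟩
    rw [Subgroup.mem_centralizer_iff]
    intro s hs
    exact congrArg Subtype.val (hccen ⟨s, hs⟩)
  have huG : (u : G) ∈ (S : Subgroup G) ⊓ Subgroup.centralizer ((S : Subgroup G) : Set G) := by
    refine Subgroup.mem_inf.mpr ⟨u.2, ?_⟩
    rw [Subgroup.mem_centralizer_iff]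
    intro s hs
    exact congrArg Subtype.val (hucen ⟨s, hs⟩)
  rcases Cfsg.Agent.S2872.result S with h1 | h2 | h3
  · exact exists_index_two_of_pResidual_ne_top h1
  · exfalso
    have hmem : (u : G) ∈ Cfsg.omegaOne 2 ((S : Subgroup G) ⊓
        Subgroup.centralizer ((S : Subgroup G) : Set G)) := by
      apply Subgroup.subset_closure
      refine ⟨huG, ?_⟩
      rw [pow_two]
      exact congrArg Subtype.val huu'
    obtain ⟨x, hx, hxu⟩ := h2 hmem
    have : x = u := Subtype.ext hxu
    exact huΦ (this ▸ hx)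
  · exfalso
    obtain ⟨g, hg, z, hz, hne⟩ := h3
    apply hne
    have hzZ : z ∈ (S : Subgroup G) ⊓ Subgroup.centralizer ((S : Subgroup G) : Set G) := by
      have hle : Cfsg.omegaOne 2 ((S : Subgroup G) ⊓
          Subgroup.centralizer ((S : Subgroup G) : Set G)) ≤
          (S : Subgroup G) ⊓ Subgroup.centralizer ((S : Subgroup G) : Set G) := by
        unfold Cfsg.omegaOne
        rw [Subgroup.closure_le]
        intro x hx
        exact hx.1
      exact hle hz
    set Φ' := (frattini ↥(S : Subgroup G)).map (S : Subgroup G).subtype with hΦ'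
    have hgΦ : g ∈ Subgroup.normalizer (Φ' : Set G) :=
      normalizer_le_normalizer_map_frattini (S : Subgroup G) hg
    have hgZ : g ∈ Subgroup.normalizer (((S : Subgroup G) ⊓
        Subgroup.centralizer ((S : Subgroup G) : Set G) : Subgroup G) : Set G) :=
      (normalizer_inf_le (S : Subgroup G) (Subgroup.centralizer ((S : Subgroup G) : Set G)))
        ⟨hg, normalizer_le_normalizer_centralizer (S : Subgroup G) hg⟩
    have hcΦ' : (c : G) ∈ Φ' := ⟨c, hcΦ, rfl⟩
    have huΦ' : (u : G) ∉ Φ' := by
      rintro ⟨x, hx, hxu⟩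
      exact huΦ ((Subtype.ext hxu : x = u) ▸ hx)
    have hucΦ' : (u : G) * c ∉ Φ' := by
      rintro ⟨x, hx, hxu⟩
      exact hucΦ ((Subtype.ext hxu : x = u * c) ▸ hx)
    have hc1 : (c : G) ≠ 1 := fun h => hc1' (Subtype.ext h)
    have hcc : (c : G) * c = 1 := congrArg Subtype.val hcc'
    have h4 : ∀ x ∈ (S : Subgroup G) ⊓ Subgroup.centralizer ((S : Subgroup G) : Set G),
        x = 1 ∨ x = c ∨ x = u ∨ x = (u : G) * c := by
      intro x hx
      obtain ⟨hxS, hxC⟩ := Subgroup.mem_inf.mp hx
      rcases hcen4 ⟨x, hxS⟩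
        (fun s => Subtype.ext (Subgroup.mem_centralizer_iff.mp hxC s s.2)) with h | h | h | h
      · left; exact congrArg Subtype.val h
      · right; left; exact congrArg Subtype.val h
      · right; right; left; exact congrArg Subtype.val h
      · right; right; right; exact congrArg Subtype.val h
    have hγc : g * c * g⁻¹ = c := by
      have m1 := (Subgroup.mem_normalizer_iff.mp hgZ _).mp hcG
      have m2 : g * c * g⁻¹ ∈ Φ' := (Subgroup.mem_normalizer_iff.mp hgΦ _).mp hcΦ'
      rcases h4 _ m1 with h | h | h | h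
      · exfalso; apply hc1
        have e1 : (c : G) = g⁻¹ * (g * c * g⁻¹) * g := by group
        rw [e1, h]; group
      · exact h
      · exfalso; exact huΦ' (h ▸ m2)
      · exfalso; exact hucΦ' (h ▸ m2)
    have hγu : g * u * g⁻¹ = u ∨ g * u * g⁻¹ = (u : G) * c := by
      have m1 := (Subgroup.mem_normalizer_iff.mp hgZ _).mp huG
      have m2 : g * u * g⁻¹ ∉ Φ' := fun h => huΦ' ((Subgroup.mem_normalizer_iff.mp hgΦ _).mpr h)
      rcases h4 _ m1 with h | h | h | h
      · exfalso; apply m2; rw [h]; exact Subgroup.one_mem _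
      · exfalso; apply m2; rw [h]; exact hcΦ'
      · left; exact h
      · right; exact h
    rcases hγu with hu1 | hu2
    · rcases h4 z hzZ with h | h | h | h
      · rw [h]; group
      · rw [h]; exact hγc
      · rw [h]; exact hu1
      · rw [h]
        calc g * ((u : G) * c) * g⁻¹ = (g * u * g⁻¹) * (g * c * g⁻¹) := by group
          _ = (u : G) * c := by rw [hu1, hγc]
    · exfalso
      have hγuc : g * ((u : G) * c) * g⁻¹ = u := by
        calc g * ((u : G) * c) * g⁻¹ = (g * u * g⁻¹) * (g * c * g⁻¹) := by group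
          _ = (u : G) * c * c := by rw [hu2, hγc]
          _ = u := by rw [mul_assoc, hcc, mul_one]
      have hpow : ∀ n : ℕ, (g ^ (2 * n) * u * (g ^ (2 * n))⁻¹ = u) ∧
          (g ^ (2 * n + 1) * u * (g ^ (2 * n + 1))⁻¹ = (u : G) * c) := by
        intro n
        induction n with
        | zero => exact ⟨by simp, by simpa using hu2⟩
        | succ k ih =>
          have e1 : g ^ (2 * (k + 1)) * u * (g ^ (2 * (k + 1)))⁻¹ =
              g * (g ^ (2 * k + 1) * u * (g ^ (2 * k + 1))⁻¹) * g⁻¹ := by
            have : 2 * (k + 1) = (2 * k + 1) + 1 := by ring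
            rw [this, pow_succ' g (2 * k + 1)]; group
          have e2 : g ^ (2 * (k + 1) + 1) * u * (g ^ (2 * (k + 1) + 1))⁻¹ =
              g * (g ^ (2 * (k + 1)) * u * (g ^ (2 * (k + 1)))⁻¹) * g⁻¹ := by
            rw [pow_succ' g (2 * (k + 1))]; group
          have e3 : g ^ (2 * (k + 1)) * u * (g ^ (2 * (k + 1)))⁻¹ = u := by
            rw [e1, ih.2, hγuc]
          exact ⟨e3, by rw [e2, e3, hu2]⟩
      obtain ⟨m, hm2, hmS⟩ := exists_pow_mem_sylow_of_mem_normalizer S hg
      obtain ⟨k, hk⟩ : ∃ k, m = 2 * k + 1 := Nat.odd_iff.mpr (by omega)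
      have h5 := (hpow k).2
      rw [← hk] at h5
      have h6 : g ^ m * u * (g ^ m)⁻¹ = u := by
        have h7 : g ^ m * (u : G) = u * g ^ m := congrArg Subtype.val (hucen ⟨g ^ m, hmS⟩)
        rw [h7]; group
      rw [h6] at h5
      apply hc1
      have h8 : (u : G) * c = u * 1 := by rw [mul_one]; exact h5.symm
      exact mul_left_cancel h8

end Cfsg.Agent.S2911
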