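import Cfsg.Statements.S2968
import Cfsg.Agent.Lib.Helper18.SylowRel
import Cfsg.Agent.Lib.Helper18.PGroupL
import Cfsg.Agent.Lib.Helper18.StrEmb

set_option autoImplicit false
open Cfsg

namespace Cfsg.Agent.S2968

open Cfsg.Agent.Lib.Helper18

theorem isolated_central {G : Type*} [Group G] [Finite G] {p : ℕ} [Fact p.Prime] {x : G}
    {S : Subgroup G} (hS : IsPGroup p S) (hx : x ∈ S) (hiso : IsIsolated x) :
    ∀ s ∈ S, s * x = x * s := by
  by_contra hcon
  push Not at hcon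
  obtain ⟨s, hs, hsx⟩ := hcon
  have hlt : S ⊓ Subgroup.centralizer ({x} : Set G) < S := by
    refine lt_of_le_of_ne inf_le_left ?_
    intro e
    have h1 : s ∈ S ⊓ Subgroup.centralizer ({x} : Set G) := by rw [e]; exact hs
    exact hsx (mem_centralizer_singleton_iff.mp (Subgroup.mem_inf.mp h1).2).symm
  obtain ⟨u, huS, huN, huQ⟩ := exists_mem_normalizer_not_mem hS hlt
  have hxQ : x ∈ S ⊓ Subgroup.centralizer ({x} : Set G) :=
    Subgroup.mem_inf.mpr ⟨hx, mem_centralizer_singleton_iff.mpr rfl⟩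
  have h1 : u * x * u⁻¹ ∈ S ⊓ Subgroup.centralizer ({x} : Set G) :=
    (Subgroup.mem_normalizer_iff.mp huN x).mp hxQ
  have h2 : Commute x (u * x * u⁻¹) := mem_centralizer_singleton_iff.mp (Subgroup.mem_inf.mp h1).2
  have h3 := hiso u h2
  apply huQ
  refine Subgroup.mem_inf.mpr ⟨huS, mem_centralizer_singleton_iff.mpr ?_⟩
  calc x * u = (u * x * u⁻¹) * u := by rw [h3]
    _ = u * x := by group

theorem conj_zpow_eq {G : Type*} [Group G] [Finite G] {p : ℕ} [Fact p.Prime] {x : G}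
    (hx : ∃ k : ℕ, orderOf x = p ^ k) (hiso : IsIsolated x) {P : Subgroup G}
    (hP : IsPGroup p P) (hxP : x ∈ P) (i : ℤ) (g : G) (h : g * x ^ i * g⁻¹ ∈ P) :
    g * x ^ i * g⁻¹ = x ^ i := by
  obtain ⟨k, hk⟩ := hx
  have hxpow : x ^ (p ^ k) = 1 := by rw [← hk]; exact pow_orderOf_eq_one x
  have hwi : g * x ^ i * g⁻¹ = (g * x * g⁻¹) ^ i := (conj_zpow).symm
  have hxC : x ∈ Subgroup.centralizer ({g * x ^ i * g⁻¹} : Set G) :=
    mem_centralizer_singleton_iff.mpr (isolated_central hP hxP hiso _ h)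
  have hwC : g * x * g⁻¹ ∈ Subgroup.centralizer ({g * x ^ i * g⁻¹} : Set G) := by
    apply mem_centralizer_singleton_iff.mpr
    rw [hwi]
    exact (Commute.zpow_self (g * x * g⁻¹) i).symm.eq.symm
  have hxp : IsPGroup p (Subgroup.zpowers x) := isPGroup_zpowers ⟨k, hxpow⟩
  have hwp : IsPGroup p (Subgroup.zpowers (g * x * g⁻¹)) :=
    isPGroup_zpowers ⟨k, by rw [conj_pow, hxpow]; group⟩
  obtain ⟨R, hR, hxR⟩ := exists_isSylowIn_ge hxp ((Subgroup.zpowers_le).mpr hxC)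
  obtain ⟨c, hc, hwR⟩ := hR.exists_conj_le hwp ((Subgroup.zpowers_le).mpr hwC)
  have h1 : c⁻¹ * (g * x * g⁻¹) * c ∈ R := by
    have h2 := hwR (Subgroup.mem_zpowers (g * x * g⁻¹))
    rwa [mem_map_conj_iff] at h2
  have h3 : (c⁻¹ * g) * x * (c⁻¹ * g)⁻¹ = c⁻¹ * (g * x * g⁻¹) * c := by group
  have h4 : Commute x ((c⁻¹ * g) * x * (c⁻¹ * g)⁻¹) := by
    rw [h3]
    exact (isolated_central hR.2.1 (hxR (Subgroup.mem_zpowers x)) hiso _ h1).symm
  have h5 := hiso (c⁻¹ * g) h4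
  have h6 : (g * x ^ i * g⁻¹) * c = c * (g * x ^ i * g⁻¹) := mem_centralizer_singleton_iff.mp hc
  calc g * x ^ i * g⁻¹ = c⁻¹ * (c * (g * x ^ i * g⁻¹)) := by group
    _ = c⁻¹ * ((g * x ^ i * g⁻¹) * c) := by rw [h6]
    _ = (c⁻¹ * g) * x ^ i * (c⁻¹ * g)⁻¹ := by group
    _ = ((c⁻¹ * g) * x * (c⁻¹ * g)⁻¹) ^ i := (conj_zpow).symm
    _ = x ^ i := by rw [h5]


/-- Let G be a finite group, p a prime, P a Sylow p-subgroup of G and x ∈ P an element of p-power order which is isolated in G (the only conjugate of x commuting with x is x itself). Then x lies in the centre of P, and the subgroup generated by x is both strongly closed and weakly closed in P with respect to G. -/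
theorem result {G : Type*} [Group G] [Finite G] {p : ℕ} [Fact p.Prime] (P : Sylow p G) (x : G) (hxP : x ∈ (P : Subgroup G)) (hx : ∃ k : ℕ, orderOf x = p ^ k) (hiso : Cfsg.IsIsolated x) : x ∈ (P : Subgroup G) ⊓ Subgroup.centralizer ((P : Subgroup G) : Set G) ∧ Cfsg.IsStronglyClosed (Subgroup.zpowers x) (P : Subgroup G) ∧ Cfsg.IsWeaklyClosed (Subgroup.zpowers x) (P : Subgroup G) := by
  have hPp : IsPGroup p (P : Subgroup G) := P.isPGroup'
  refine ⟨Subgroup.mem_inf.mpr ⟨hxP, ?_⟩, ⟨(Subgroup.zpowers_le).mpr hxP, ?_⟩,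
    ⟨(Subgroup.zpowers_le).mpr hxP, ?_⟩⟩
  · rw [Subgroup.mem_centralizer_iff]
    exact isolated_central hPp hxP hiso
  · intro y hy g hg
    obtain ⟨i, rfl⟩ := Subgroup.mem_zpowers_iff.mp hy
    rw [conj_zpow_eq hx hiso hPp hxP i g hg]
    exact Subgroup.zpow_mem_zpowers x i
  · intro g hg
    have h1 : g * x ^ (1 : ℤ) * g⁻¹ ∈ (P : Subgroup G) := by
      rw [zpow_one]
      exact hg (conj_mem_map_conj _ g (Subgroup.mem_zpowers x))
    have h2 := conj_zpow_eq hx hiso hPp hxP 1 g h1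
    rw [zpow_one] at h2
    rw [MonoidHom.map_zpowers]
    have h3 : (MulAut.conj g).toMonoidHom x = x := by simpa using h2
    rw [h3]

end Cfsg.Agent.S2968
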