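import Cfsg.Statements.S2969
import Cfsg.Agent.Lib.Helper19.SylowRel

set_option autoImplicit false
open Cfsg

namespace Cfsg.Agent.S2969

open Cfsg.Agent.Lib.Helper19

/-- An isolated element of a `p`-subgroup `R` is centralized by `N(R)`. -/
theorem isolated_normalizer_le {G : Type*} [Group G] [Finite G] {p : ℕ} [Fact p.Prime] (x : G)
    (hiso : Cfsg.IsIsolated x) (R : Subgroup G) (hR : IsPGroup p ↥R) (hxR : x ∈ R) :
    Subgroup.normalizer (R : Set G) ≤ Subgroup.centralizer ({x} : Set G) := by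
  have key : ∀ g : G, g * x * g⁻¹ ∈ Subgroup.centralizer ({x} : Set G) →
      g ∈ Subgroup.centralizer ({x} : Set G) := by
    intro g hg
    rw [Subgroup.mem_centralizer_singleton_iff] at hg ⊢
    have h1 := hiso g hg.symm
    calc g * x = g * x * g⁻¹ * g := by group
      _ = x * g := by rw [h1]
  have hxC : x ∈ Subgroup.centralizer ({x} : Set G) :=
    Subgroup.mem_centralizer_singleton_iff.mpr rfl
  have hRC : R ≤ R ⊓ Subgroup.centralizer ({x} : Set G) := by
    apply pgroup_le_of_normalizer_inf_le inf_le_left hR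
    intro n hn
    obtain ⟨hnN, hnR⟩ := Subgroup.mem_inf.mp hn
    refine Subgroup.mem_inf.mpr ⟨hnR, ?_⟩
    have hxT : x ∈ R ⊓ Subgroup.centralizer ({x} : Set G) := ⟨hxR, hxC⟩
    have := (Subgroup.mem_normalizer_iff.mp hnN x).mp hxT
    exact key n (Subgroup.mem_inf.mp this).2
  intro g hg
  have h1 : g * x * g⁻¹ ∈ R := (Subgroup.mem_normalizer_iff.mp hg x).mp hxR
  exact key g (Subgroup.mem_inf.mp (hRC h1)).2

/-- Let G be a finite group, p a prime and x ∈ G an element of p-power order which is isolated in G. If R is a p-subgroup of G containing x, then N_G(R) ≤ C_G(x); in particular x lies in the centre of R. Moreover, if x lies in a normal subgroup N of a subgroup H of G, then H = N·C_H(x). -/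
theorem result {G : Type*} [Group G] [Finite G] {p : ℕ} [Fact p.Prime] (x : G) (hx : ∃ k : ℕ, orderOf x = p ^ k) (hiso : Cfsg.IsIsolated x) : (∀ R : Subgroup G, IsPGroup p ↥R → x ∈ R → Subgroup.normalizer (R : Set G) ≤ Subgroup.centralizer ({x} : Set G)) ∧ (∀ H N : Subgroup G, N ≤ H → H ≤ Subgroup.normalizer (N : Set G) → x ∈ N → N ⊔ (H ⊓ Subgroup.centralizer ({x} : Set G)) = H) := by
  classical
  refine ⟨fun R hR hxR => isolated_normalizer_le x hiso R hR hxR, ?_⟩
  intro H N hNH hHN hxN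
  apply le_antisymm (sup_le hNH inf_le_left)
  intro h hh
  obtain ⟨k, hk⟩ := hx
  have hZp : IsPGroup p (Subgroup.zpowers x) := IsPGroup.of_card (n := k) (by
    rw [Nat.card_zpowers, hk])
  have hZN : Subgroup.zpowers x ≤ N := (Subgroup.zpowers_le).mpr hxN
  have hQN : (Subgroup.zpowers x).map (MulAut.conj h).toMonoidHom ≤ N := by
    rintro _ ⟨a, ha, rfl⟩
    exact (Subgroup.mem_normalizer_iff.mp (hHN hh) a).mp (hZN ha)
  obtain ⟨m, hmN, R', hR'p, -, hZR', hmR'⟩ :=
    exists_conj_pgroup_le N hZN hQN hZp (hZp.map _)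
  have hxR' : x ∈ R' := hZR' (Subgroup.mem_zpowers x)
  have h1 : m * (h * x * h⁻¹) * m⁻¹ ∈ R' := hmR' _ ⟨x, Subgroup.mem_zpowers x, rfl⟩
  have hR'C : R' ≤ Subgroup.centralizer ({x} : Set G) :=
    Subgroup.le_normalizer.trans (isolated_normalizer_le x hiso R' hR'p hxR')
  have h2 := Subgroup.mem_centralizer_singleton_iff.mp (hR'C h1)
  have e : m * (h * x * h⁻¹) * m⁻¹ = (m * h) * x * (m * h)⁻¹ := by group
  rw [e] at h2
  have h3 := hiso (m * h) h2.symm
  have hmhC : m * h ∈ Subgroup.centralizer ({x} : Set G) := by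
    rw [Subgroup.mem_centralizer_singleton_iff]
    calc m * h * x = (m * h) * x * (m * h)⁻¹ * (m * h) := by group
      _ = x * (m * h) := by rw [h3]
  have hmhH : m * h ∈ H := mul_mem (hNH hmN) hh
  have : h = m⁻¹ * (m * h) := by group
  rw [this]
  exact mul_mem (Subgroup.mem_sup_left (inv_mem hmN)) (Subgroup.mem_sup_right ⟨hmhH, hmhC⟩)

end Cfsg.Agent.S2969
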