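import Cfsg.Statements.S2970
import Cfsg.Agent.Lib.Helper19.CyclicSylow
import Cfsg.Agent.S2969

set_option autoImplicit false
open Cfsg

namespace Cfsg.Agent.S2970

open Cfsg.Agent.Lib.Helper19

/-- Let G be a finite group, p a prime and x ∈ G an element of p-power order which is isolated in G. Then the image of x in any quotient G ⧸ N is isolated in G ⧸ N; and if x ≠ 1 and the Sylow p-subgroups of G are cyclic, then G has a normal p-complement. -/
theorem result {G : Type*} [Group G] [Finite G] {p : ℕ} [Fact p.Prime] (x : G) (hx : ∃ k : ℕ, orderOf x = p ^ k) (hiso : Cfsg.IsIsolated x) : (∀ (N : Subgroup G) [N.Normal], Cfsg.IsIsolated (QuotientGroup.mk x : G ⧸ N)) ∧ (x ≠ 1 → (∀ P : Sylow p G, IsCyclic ↥(P : Subgroup G)) → Cfsg.HasNormalPComplement p G) := by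
  classical
  obtain ⟨k, hk⟩ := hx
  have hZp : IsPGroup p (Subgroup.zpowers x) := IsPGroup.of_card (n := k) (by
    rw [Nat.card_zpowers, hk])
  constructor
  · intro N _ gbar hcomm
    obtain ⟨g, rfl⟩ := QuotientGroup.mk_surjective gbar
    have hcomm' : (QuotientGroup.mk' N) x * ((QuotientGroup.mk' N) g * (QuotientGroup.mk' N) x *
        ((QuotientGroup.mk' N) g)⁻¹) = ((QuotientGroup.mk' N) g * (QuotientGroup.mk' N) x *
        ((QuotientGroup.mk' N) g)⁻¹) * (QuotientGroup.mk' N) x := hcomm
    show (QuotientGroup.mk' N) g * (QuotientGroup.mk' N) x * ((QuotientGroup.mk' N) g)⁻¹ =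
      (QuotientGroup.mk' N) x
    obtain ⟨K, hK⟩ : ∃ K, K = (Subgroup.centralizer
      ({(QuotientGroup.mk' N) x} : Set (G ⧸ N))).comap (QuotientGroup.mk' N) := ⟨_, rfl⟩
    have memK : ∀ a : G, a ∈ K ↔ (QuotientGroup.mk' N) a * (QuotientGroup.mk' N) x =
        (QuotientGroup.mk' N) x * (QuotientGroup.mk' N) a := by
      intro a
      rw [hK, Subgroup.mem_comap, Subgroup.mem_centralizer_singleton_iff]
    have hxK : x ∈ K := (memK x).mpr rfl
    have hZK : Subgroup.zpowers x ≤ K := (Subgroup.zpowers_le).mpr hxK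
    have hgK : g * x * g⁻¹ ∈ K := by
      rw [memK, map_mul, map_mul, map_inv]
      exact hcomm'.symm
    have hQK : (Subgroup.zpowers x).map (MulAut.conj g).toMonoidHom ≤ K := by
      rw [MonoidHom.map_zpowers, Subgroup.zpowers_le]
      exact hgK
    obtain ⟨m, hmK, R', hR'p, -, hZR', hmR'⟩ :=
      exists_conj_pgroup_le K hZK hQK hZp (hZp.map _)
    have hxR' : x ∈ R' := hZR' (Subgroup.mem_zpowers x)
    have h1 : m * (g * x * g⁻¹) * m⁻¹ ∈ R' := hmR' _ ⟨x, Subgroup.mem_zpowers x, rfl⟩
    have hR'C : R' ≤ Subgroup.centralizer ({x} : Set G) :=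
      Subgroup.le_normalizer.trans (Cfsg.Agent.S2969.isolated_normalizer_le x hiso R' hR'p hxR')
    have h2 := Subgroup.mem_centralizer_singleton_iff.mp (hR'C h1)
    have e : m * (g * x * g⁻¹) * m⁻¹ = (m * g) * x * (m * g)⁻¹ := by group
    rw [e] at h2
    have h3 := hiso (m * g) h2.symm
    have h4 := congrArg (QuotientGroup.mk' N) h3
    simp only [map_mul, map_inv] at h4
    have hm := (memK m).mp hmK
    calc (QuotientGroup.mk' N) g * (QuotientGroup.mk' N) x * ((QuotientGroup.mk' N) g)⁻¹
        = ((QuotientGroup.mk' N) m)⁻¹ * ((QuotientGroup.mk' N) m * (QuotientGroup.mk' N) g *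
            (QuotientGroup.mk' N) x * ((QuotientGroup.mk' N) m * (QuotientGroup.mk' N) g)⁻¹) *
            (QuotientGroup.mk' N) m := by group
      _ = ((QuotientGroup.mk' N) m)⁻¹ * ((QuotientGroup.mk' N) x * (QuotientGroup.mk' N) m) := by
          rw [h4, mul_assoc]
      _ = ((QuotientGroup.mk' N) m)⁻¹ * ((QuotientGroup.mk' N) m * (QuotientGroup.mk' N) x) := by
          rw [hm]
      _ = (QuotientGroup.mk' N) x := by group
  · intro hx1 hcyc
    obtain ⟨P, hP⟩ := hZp.exists_le_sylow
    have hxP : x ∈ (P : Subgroup G) := hP (Subgroup.mem_zpowers x)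
    have hNC := Cfsg.Agent.S2969.isolated_normalizer_le x hiso P P.isPGroup' hxP
    obtain ⟨c', hc'⟩ := (hcyc P).exists_generator
    have hPc : (P : Subgroup G) = Subgroup.zpowers (c' : G) := by
      apply le_antisymm
      · intro a ha
        obtain ⟨t, ht⟩ := Subgroup.mem_zpowers_iff.mp (hc' ⟨a, ha⟩)
        refine Subgroup.mem_zpowers_iff.mpr ⟨t, ?_⟩
        have := congrArg Subtype.val ht
        simpa using this
      · exact (Subgroup.zpowers_le).mpr c'.2
    have hPN : Subgroup.normalizer ((P : Subgroup G) : Set G) ≤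
        Subgroup.centralizer ((P : Subgroup G) : Set G) := by
      intro n₀ hn
      have hnx : n₀ * x = x * n₀ := Subgroup.mem_centralizer_singleton_iff.mp (hNC hn)
      have hc := commute_generator_of_commute_of_cyclic_sylow P hPc hxP hx1 hn hnx
      rw [Subgroup.mem_centralizer_iff]
      intro a ha
      have ha' : a ∈ Subgroup.zpowers (c' : G) := hPc ▸ ha
      obtain ⟨t, rfl⟩ := Subgroup.mem_zpowers_iff.mp ha'
      have hcm : Commute n₀ (c' : G) := hc
      exact (hcm.zpow_right t).eq.symm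
    exact ⟨P, (MonoidHom.transferSylow P hPN).ker, inferInstance,
      MonoidHom.ker_transferSylow_isComplement' P hPN⟩

end Cfsg.Agent.S2970
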