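import Cfsg.Statements.S2971
import Cfsg.Agent.Lib.Helper2.CyclicMax
import Cfsg.Agent.Lib.Helper18.Trace2
import Cfsg.Agent.Lib.Helper1.Cores
import Cfsg.Agent.Lib.Helper19.ElemAbFixed
import Cfsg.Agent.Lib.Helper18.Subnormal

set_option autoImplicit false
open Cfsg

namespace Cfsg.Agent.S2971

open Subgroup Cfsg.Agent.Lib.Helper19
open scoped commutatorElement

/-- elements of order dividing `p` in a cyclic group of order `p ^ k` -/
theorem mem_zpowers_pow_of_pow_eq_one {G : Type*} [Group G] {p : ℕ} [hp : Fact p.Prime]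
    {c y : G} {k : ℕ} (hk : 1 ≤ k) (hc : orderOf c = p ^ k) (hy : y ∈ zpowers c)
    (hyp : y ^ p = 1) : y ∈ zpowers (c ^ (p ^ (k - 1))) := by
  obtain ⟨m, rfl⟩ := mem_zpowers_iff.mp hy
  have h1 : c ^ (m * (p : ℤ)) = 1 := by
    rw [zpow_mul, zpow_natCast]
    exact hyp
  have h2 : ((p ^ k : ℕ) : ℤ) ∣ m * (p : ℤ) := by
    rw [← hc]
    exact orderOf_dvd_iff_zpow_eq_one.mpr h1
  have h3 : ((p ^ (k - 1) : ℕ) : ℤ) ∣ m := by
    have h4 : ((p ^ k : ℕ) : ℤ) = ((p ^ (k - 1) : ℕ) : ℤ) * (p : ℤ) := by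
      have h5 : p ^ k = p ^ (k - 1) * p := by
        rw [← pow_succ]
        congr 1
        omega
      rw [h5]
      push_cast
      ring
    rw [h4] at h2
    exact Int.dvd_of_mul_dvd_mul_right (by exact_mod_cast hp.out.ne_zero) h2
  obtain ⟨m', rfl⟩ := h3
  rw [zpow_mul, zpow_natCast]
  exact zpow_mem (mem_zpowers _) m'

/-- Let G be a finite group and p an odd prime such that G has p-rank at most 1 (no elementary abelian subgroup of order p²). If x ∈ G is an isolated element of order p, then x is central modulo the largest normal subgroup of G of order prime to p. -/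
theorem result {G : Type*} [Group G] [Finite G] {p : ℕ} [Fact p.Prime] (hp : p ≠ 2) (hrk : Cfsg.PRankLE p 1 G) (x : G) (hx : orderOf x = p) (hiso : Cfsg.IsIsolated x) : Cfsg.InZStar p x := by
  have hpp : p.Prime := Fact.out
  intro g
  have hxp : x ^ p = 1 := by
    rw [← hx]
    exact pow_orderOf_eq_one x
  have hx1 : x ≠ 1 := by
    intro h
    rw [h, orderOf_one] at hx
    exact hpp.one_lt.ne hx
  -- a Sylow p-subgroup containing x
  have hxpg : IsPGroup p (zpowers x) := by
    apply IsPGroup.of_card (n := 1)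
    rw [Nat.card_zpowers, hx, pow_one]
  obtain ⟨P, hPx⟩ := hxpg.exists_le_sylow
  have hxP : x ∈ (P : Subgroup G) := hPx (mem_zpowers x)
  -- P is cyclic
  have hcyc : IsCyclic (P : Subgroup G) := by
    by_contra hnc
    obtain ⟨A, -, hAe, hAc⟩ :=
      Cfsg.Agent.Lib.Helper2.exists_normal_elementary_abelian_sq hp P.isPGroup' hnc
    have hcomm : IsMulCommutative (A.map (P : Subgroup G).subtype) := by
      refine ⟨⟨?_⟩⟩
      rintro ⟨_, a, ha, rfl⟩ ⟨_, b, hb, rfl⟩
      apply Subtype.ext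
      have h1 := hAe.1.is_comm.comm (⟨a, ha⟩ : A) ⟨b, hb⟩
      exact congrArg (fun t : A => ((t : (P : Subgroup G)) : G)) h1
    have hexp : ∀ y ∈ A.map (P : Subgroup G).subtype, y ^ p = 1 := by
      rintro _ ⟨a, ha, rfl⟩
      have h1 := hAe.2 a ha
      exact congrArg (fun t : (P : Subgroup G) => (t : G)) h1
    have h2 := hrk _ hcomm hexp
    rw [Subgroup.card_map_of_injective (P : Subgroup G).subtype_injective, hAc, pow_one] at h2
    have h3 : p < p ^ 2 := by
      have := hpp.one_lt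
      nlinarith
    omega
  obtain ⟨c0, hc0⟩ := hcyc.exists_generator
  obtain ⟨c, hcd⟩ : ∃ c : G, c = (c0 : G) := ⟨_, rfl⟩
  have hcP : c ∈ (P : Subgroup G) := hcd ▸ c0.2
  have hPc : ∀ y ∈ (P : Subgroup G), y ∈ zpowers c := by
    intro y hy
    obtain ⟨m, hm⟩ := mem_zpowers_iff.mp (hc0 ⟨y, hy⟩)
    have h1 : c ^ m = y := by
      rw [hcd]
      exact congrArg (fun t : (P : Subgroup G) => (t : G)) hm
    exact mem_zpowers_iff.mpr ⟨m, h1⟩
  have hPcomm : ∀ a ∈ (P : Subgroup G), ∀ b ∈ (P : Subgroup G), a * b = b * a := by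
    intro a ha b hb
    obtain ⟨i, rfl⟩ := mem_zpowers_iff.mp (hPc a ha)
    obtain ⟨j, rfl⟩ := mem_zpowers_iff.mp (hPc b hb)
    rw [← zpow_add, ← zpow_add, add_comm]
  -- order of c
  have hPeq : (P : Subgroup G) = zpowers c :=
    le_antisymm hPc (zpowers_le.mpr hcP)
  obtain ⟨k, hk⟩ := IsPGroup.iff_card.mp P.isPGroup'
  have hck : orderOf c = p ^ k := by
    rw [← Nat.card_zpowers, ← hPeq]
    exact hk
  have hk1 : 1 ≤ k := by
    by_contra h0
    have h00 : k = 0 := by omega
    rw [h00, pow_zero] at hk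
    have hb := Subgroup.eq_bot_of_card_eq _ hk
    rw [hb, mem_bot] at hxP
    exact hx1 hxP
  obtain ⟨w, hw⟩ : ∃ w, w = c ^ (p ^ (k - 1)) := ⟨_, rfl⟩
  -- N(P) centralizes x
  have hxcent : x ∈ (P : Subgroup G) ⊓ centralizer (normalizer ((P : Subgroup G) : Set G) : Set G) := by
    refine Subgroup.mem_inf.mpr ⟨hxP, ?_⟩
    rw [mem_centralizer_iff]
    intro nn hn
    have h1 : nn * x * nn⁻¹ ∈ (P : Subgroup G) := (mem_normalizer_iff.mp hn x).mp hxP
    have h2 := hiso nn (hPcomm _ hxP _ h1)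
    calc nn * x = (nn * x * nn⁻¹) * nn := by group
      _ = x * nn := by rw [h2]
  -- hence x ∉ [P, N(P)]
  obtain ⟨C, hC⟩ : ∃ C : Subgroup G,
      C = ⁅(P : Subgroup G), normalizer ((P : Subgroup G) : Set G)⁆ := ⟨_, rfl⟩
  have hxnot : x ∉ C := by
    intro hxc
    rw [hC] at hxc
    have h1 := Cfsg.Agent.Lib.Helper18.pow_relIndex_eq_one_of_mem_commutator
      (V := (P : Subgroup G)) (S := (P : Subgroup G))
      (L := normalizer ((P : Subgroup G) : Set G)) hPcomm le_normalizer le_rfl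
      (by
        intro a ha
        rw [mem_centralizer_iff]
        intro b hb
        exact hPcomm b hb a ha) hxcent hxc
    have h2 : orderOf x ∣ (P : Subgroup G).relIndex (normalizer ((P : Subgroup G) : Set G)) :=
      orderOf_dvd_of_pow_eq_one h1
    rw [hx] at h2
    exact P.not_dvd_index (h2.trans (relIndex_dvd_index_of_le le_normalizer))
  -- [P, N(P)] is trivial
  have hcomm_bot : C = ⊥ := by
    by_contra hne
    have hle : C ≤ (P : Subgroup G) := by
      rw [hC, Subgroup.commutator_le]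
      intro a ha b hb
      have h1 : b * a⁻¹ * b⁻¹ ∈ (P : Subgroup G) :=
        (mem_normalizer_iff.mp hb a⁻¹).mp (inv_mem ha)
      have h2 : ⁅a, b⁆ = a * (b * a⁻¹ * b⁻¹) := by
        rw [commutatorElement_def]
        simp only [mul_assoc]
      rw [h2]
      exact mul_mem ha h1
    have hpg : IsPGroup p C := P.isPGroup'.to_le hle
    obtain ⟨j, hj⟩ := IsPGroup.iff_card.mp hpg
    have hj0 : j ≠ 0 := by
      rintro rfl
      rw [pow_zero] at hj
      exact hne (Subgroup.eq_bot_of_card_eq _ hj)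
    have hdvd : p ∣ Nat.card C := by
      rw [hj]
      exact dvd_pow_self p hj0
    obtain ⟨h, hh⟩ := exists_prime_orderOf_dvd_card' p hdvd
    have hhP : (h : G) ∈ (P : Subgroup G) := hle h.2
    have hho : orderOf (h : G) = p := by
      rw [Subgroup.orderOf_coe]
      exact hh
    have hhp : (h : G) ^ p = 1 := by
      rw [← hho]
      exact pow_orderOf_eq_one _
    have hh1 : (h : G) ≠ 1 := by
      intro h0
      rw [h0, orderOf_one] at hho
      exact hpp.one_lt.ne hho
    have hhw : (h : G) ∈ zpowers w := hw ▸ mem_zpowers_pow_of_pow_eq_one hk1 hck (hPc _ hhP) hhp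
    have hxw : x ∈ zpowers w := hw ▸ mem_zpowers_pow_of_pow_eq_one hk1 hck (hPc _ hxP) hxp
    have hwo : orderOf w = p := by
      rw [hw, orderOf_pow_of_dvd (pow_ne_zero _ hpp.ne_zero)
        (by rw [hck]; exact pow_dvd_pow p (by omega)), hck]
      have h5 : p ^ k = p ^ (k - 1) * p := by
        rw [← pow_succ]
        congr 1
        omega
      rw [h5, Nat.mul_div_cancel_left _ (pow_pos hpp.pos _)]
    have hwh : w ∈ zpowers (h : G) := mem_zpowers_of_mem_zpowers_prime hwo hhw hh1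
    exact hxnot ((zpowers_le.mpr h.2) ((zpowers_le.mpr hwh) hxw))
  have hNC : normalizer ((P : Subgroup G) : Set G) ≤ centralizer ((P : Subgroup G) : Set G) := by
    rw [← Subgroup.commutator_eq_bot_iff_le_centralizer, Subgroup.commutator_comm, ← hC]
    exact hcomm_bot
  -- Burnside
  obtain ⟨K, hKd⟩ : ∃ K : Subgroup G, K = (MonoidHom.transferSylow P hNC).ker := ⟨_, rfl⟩
  have hKn : K.Normal := by
    rw [hKd]
    infer_instance
  have hKc : K.IsComplement' (P : Subgroup G) := by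
    rw [hKd]
    exact MonoidHom.ker_transferSylow_isComplement' P hNC
  have hKcop : (Nat.card K).Coprime p := by
    have h1 := hKc.index_eq_card
    rw [← h1]
    exact ((Nat.Prime.coprime_iff_not_dvd hpp).mpr P.not_dvd_index).symm
  have hKle := Cfsg.Agent.Lib.Helper1.le_pPrimeCore p hKn hKcop
  apply hKle
  -- decompose g
  have hg : g ∈ (P : Subgroup G) ⊔ K := by
    rw [sup_comm, hKc.sup_eq_top]
    exact mem_top g
  obtain ⟨u, hu, k', hk', rfl⟩ := Cfsg.Agent.Lib.Helper18.mem_sup_of_le_normalizer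
    (by rw [normalizer_eq_top]; exact le_top) hg
  have hux : u * x = x * u := hPcomm u hu x hxP
  have h1 : u * k' * x * (u * k')⁻¹ * x⁻¹ = u * (k' * (x * k'⁻¹ * x⁻¹)) * u⁻¹ := by
    calc u * k' * x * (u * k')⁻¹ * x⁻¹ = u * (k' * x * k'⁻¹) * (x * u)⁻¹ := by group
      _ = u * (k' * x * k'⁻¹) * (u * x)⁻¹ := by rw [hux]
      _ = u * (k' * (x * k'⁻¹ * x⁻¹)) * u⁻¹ := by group
  rw [h1]
  exact hKn.conj_mem _ (mul_mem hk' (hKn.conj_mem _ (inv_mem hk') x)) u

end Cfsg.Agent.S2971
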