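import Cfsg.Statements.S2972
import Cfsg.Agent.Lib.Helper6.PSolv3
import Cfsg.Agent.Lib.Helper19.SylowRel
import Cfsg.Agent.Lib.Helper19.SubnormalSylow
import Cfsg.Agent.Lib.Helper19.PPrimeCore
import Cfsg.Agent.Lib.Helper18.Subnormal

set_option autoImplicit false
open Cfsg

namespace Cfsg.Agent.S2972

open Subgroup Cfsg.Agent.Lib.Helper19 Cfsg.Agent.Lib.Helper6

/-- an isolated element commutes with every `p`-subgroup containing it -/
theorem commute_of_mem_pgroup {G : Type*} [Group G] [Finite G] {p : ℕ} [Fact p.Prime] {x : G}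
    (hiso : Cfsg.IsIsolated x) {P : Subgroup G} (hP : IsPGroup p P) (hxP : x ∈ P) :
    ∀ y ∈ P, y * x = x * y := by
  obtain ⟨T, hT⟩ : ∃ T : Subgroup G, T = P ⊓ centralizer {x} := ⟨_, rfl⟩
  have hxT : x ∈ T := by
    rw [hT]; exact ⟨hxP, mem_centralizer_singleton_iff.mpr rfl⟩
  have h1 : P ≤ T := by
    apply pgroup_le_of_normalizer_inf_le (by rw [hT]; exact inf_le_left) hP
    rintro g ⟨hgN, hgP⟩
    have h2 : g * x * g⁻¹ ∈ T := (mem_normalizer_iff.mp hgN x).mp hxT
    rw [hT] at h2 ⊢
    have h3 := mem_centralizer_singleton_iff.mp h2.2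
    have h4 := hiso g h3.symm
    refine ⟨hgP, mem_centralizer_singleton_iff.mpr ?_⟩
    calc g * x = g * x * g⁻¹ * g := by group
      _ = x * g := by rw [h4]
  intro y hy
  have := h1 hy
  rw [hT] at this
  exact mem_centralizer_singleton_iff.mp this.2

/-- the `p'`-core of a normal subgroup is trivial when that of the group is -/
theorem pPrimeCore_normal_eq_bot {G : Type*} [Group G] [Finite G] {p : ℕ} [Fact p.Prime]
    (hO : Cfsg.pPrimeCore p G = ⊥) (R : Subgroup G) [R.Normal] :
    Cfsg.pPrimeCore p ↥R = ⊥ := by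
  have h1 : ((Cfsg.pPrimeCore p ↥R).map R.subtype).Normal := pPrimeCore_map_subtype_normal R
  have h2 : (Nat.card ((Cfsg.pPrimeCore p ↥R).map R.subtype)).Coprime p := by
    rw [Subgroup.card_map_of_injective R.subtype_injective]
    exact (pPrimeCore_normal_and_card_coprime (G := ↥R) p).2
  have h3 := le_pPrimeCore_of_normal_of_coprime p h1 h2
  rw [hO, le_bot_iff] at h3
  exact (Subgroup.map_eq_bot_iff_of_injective _ R.subtype_injective).mp h3

/-- if `x` is central modulo the `p'`-core of a subgroup `H` containing a normal subgroup `N`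
of `G`, and `G` has trivial `p'`-core, then `x` centralizes `N` -/
theorem commute_of_inZStar {G : Type*} [Group G] [Finite G] {p : ℕ} [Fact p.Prime]
    (hO : Cfsg.pPrimeCore p G = ⊥) {x : G} (N H : Subgroup G) [hNn : N.Normal]
    (hNH : N ≤ H) (hxH : x ∈ H) (hz : Cfsg.InZStar p (⟨x, hxH⟩ : ↥H)) :
    ∀ n ∈ N, n * x = x * n := by
  intro n hn
  obtain ⟨C, hC⟩ : ∃ C : Subgroup G, C = (Cfsg.pPrimeCore p ↥H).map H.subtype := ⟨_, rfl⟩
  have hCc : (Nat.card C).Coprime p := by
    rw [hC, Subgroup.card_map_of_injective H.subtype_injective]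
    exact (pPrimeCore_normal_and_card_coprime (G := ↥H) p).2
  have hCn : ∀ h ∈ H, ∀ c ∈ C, h * c * h⁻¹ ∈ C := by
    intro h hh c hc
    rw [hC] at hc ⊢
    obtain ⟨c', hc', rfl⟩ := hc
    have hnorm := (pPrimeCore_normal_and_card_coprime (G := ↥H) p).1
    exact ⟨⟨h, hh⟩ * c' * ⟨h, hh⟩⁻¹, hnorm.conj_mem c' hc' ⟨h, hh⟩, rfl⟩
  have hDn : ((C ⊓ N).subgroupOf N).Normal := by
    constructor
    intro d hd g
    rw [mem_subgroupOf] at hd ⊢
    refine ⟨?_, ?_⟩
    · exact hCn _ (hNH g.2) _ hd.1
    · exact N.mul_mem (N.mul_mem g.2 d.2) (N.inv_mem g.2)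
  have hDc : (Nat.card ((C ⊓ N).subgroupOf N)).Coprime p := by
    have h1 : Nat.card ((C ⊓ N).subgroupOf N) = Nat.card (C ⊓ N : Subgroup G) :=
      Nat.card_congr (subgroupOfEquivOfLe (inf_le_right : C ⊓ N ≤ N)).toEquiv
    rw [h1]
    exact Nat.Coprime.coprime_dvd_left (Subgroup.card_dvd_of_le inf_le_left) hCc
  have hD := le_pPrimeCore_of_normal_of_coprime p hDn hDc
  rw [pPrimeCore_normal_eq_bot hO N, le_bot_iff] at hD
  have h1 : n * x * n⁻¹ * x⁻¹ ∈ C := by
    have := hz ⟨n, hNH hn⟩
    rw [hC]
    exact ⟨_, this, rfl⟩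
  have h2 : n * x * n⁻¹ * x⁻¹ ∈ N := by
    have : x * n⁻¹ * x⁻¹ ∈ N := hNn.conj_mem _ (N.inv_mem hn) x
    have h3 : n * x * n⁻¹ * x⁻¹ = n * (x * n⁻¹ * x⁻¹) := by group
    rw [h3]; exact N.mul_mem hn this
  have h3 : (⟨n * x * n⁻¹ * x⁻¹, h2⟩ : ↥N) ∈ (C ⊓ N).subgroupOf N := by
    rw [mem_subgroupOf]; exact ⟨h1, h2⟩
  rw [hD, mem_bot] at h3
  have h4 : n * x * n⁻¹ * x⁻¹ = 1 := congrArg Subtype.val h3
  calc n * x = (n * x * n⁻¹ * x⁻¹) * x * n := by group
    _ = x * n := by rw [h4, one_mul]

/-- Let G be a finite group, p a prime and x ∈ G an isolated element of order p (the only conjugate of x commuting with x is x) which is not central modulo the largest normal subgroup of order prime to p, while x is central modulo the largest normal subgroup of order prime to p in every proper subgroup containing x, and the image of x is so in every quotient of G by a nontrivial normal subgroup (a minimal counterexample to the Z*_p statement). Then the derived subgroup G' is a non-abelian simple group and G = G'⟨x⟩.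 -/
theorem result {G : Type*} [Group G] [Finite G] {p : ℕ} [Fact p.Prime] (x : G) (hx : orderOf x = p) (hiso : Cfsg.IsIsolated x) (hnz : ¬ Cfsg.InZStar p x) (hmin : ∀ (H : Subgroup G) (hxH : x ∈ H), H ≠ ⊤ → Cfsg.InZStar p (⟨x, hxH⟩ : ↥H)) (hquot : ∀ (N : Subgroup G) [N.Normal], N ≠ ⊥ → Cfsg.InZStar p (QuotientGroup.mk x : G ⧸ N)) : IsSimpleGroup ↥(commutator G) ∧ ¬ IsMulCommutative ↥(commutator G) ∧ commutator G ⊔ Subgroup.zpowers x = ⊤ := by
  have hpp : p.Prime := Fact.out
  have hx1 : x ≠ 1 := by
    intro h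
    rw [h, orderOf_one] at hx
    exact hpp.one_lt.ne hx
  have hxpg : IsPGroup p (zpowers x) := by
    apply IsPGroup.of_card (n := 1)
    rw [Nat.card_zpowers, hx, pow_one]
  -- the p'-core is trivial
  have hO : Cfsg.pPrimeCore p G = ⊥ := by
    by_contra hne
    have := (pPrimeCore_normal_and_card_coprime (G := G) p).1
    have h1 := hquot (Cfsg.pPrimeCore p G) hne
    apply hnz
    intro g
    have h2 := h1 (QuotientGroup.mk g)
    rw [pPrimeCore_quotient_pPrimeCore_eq_bot, mem_bot] at h2
    exact (QuotientGroup.eq_one_iff _).mp h2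
  -- x is not central
  have hxnc : ¬ ∀ g : G, g * x * g⁻¹ = x := by
    intro h
    apply hnz
    intro g
    rw [h g, mul_inv_cancel]
    exact one_mem _
  -- x lies in no proper normal subgroup
  have hnorm : ∀ H : Subgroup G, H.Normal → x ∈ H → H = ⊤ := by
    intro H hHn hxH
    by_contra hne
    have h1 := commute_of_inZStar hO H H le_rfl hxH (hmin H hxH hne)
    apply hxnc
    intro g
    apply hiso g
    have h2 := h1 (g * x * g⁻¹) (hHn.conj_mem x hxH g)
    exact h2.symm
  have htop : (⊤ : Subgroup G) ≠ ⊥ := by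
    intro h
    apply hx1
    have : x ∈ (⊤ : Subgroup G) := mem_top x
    rw [h, mem_bot] at this
    exact this
  obtain ⟨N, -, hNn, hN1, hNmin⟩ := exists_minimal_normal_le (⊤ : Subgroup G) inferInstance htop
  have := hNn
  -- G = N ⟨x⟩
  have hsup : N ⊔ zpowers x = ⊤ := by
    by_contra hne
    have hxH : x ∈ N ⊔ zpowers x := le_sup_right (a := N) (mem_zpowers x)
    have h1 := commute_of_inZStar hO N (N ⊔ zpowers x) le_sup_left hxH (hmin _ hxH hne)
    have h2 : x ∈ centralizer (N : Set G) := by
      rw [mem_centralizer_iff]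
      intro n hn
      exact h1 n hn
    have h3 := hnorm _ inferInstance h2
    have hNZ : N ≤ center G := by
      intro n hn
      rw [mem_center_iff]
      intro g
      have : g ∈ centralizer (N : Set G) := by rw [h3]; exact mem_top g
      exact (mem_centralizer_iff.mp this n hn).symm
    -- N is a p-group
    have hNp : ∃ k, Nat.card N = p ^ k := by
      refine ⟨_, Nat.eq_prime_pow_of_unique_prime_dvd Nat.card_pos.ne' ?_⟩
      intro q hq hqd
      by_contra hqp
      have : Fact q.Prime := ⟨hq⟩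
      obtain ⟨y, hy⟩ := exists_prime_orderOf_dvd_card' q hqd
      have hyZ : zpowers (y : G) ≤ center G := by
        rw [zpowers_le]; exact hNZ y.2
      have hyn : (zpowers (y : G)).Normal := normal_of_le_center hyZ
      have hyc : (Nat.card (zpowers (y : G))).Coprime p := by
        rw [Nat.card_zpowers, Subgroup.orderOf_coe, hy]
        exact (Nat.coprime_primes hq hpp).mpr hqp
      have := le_pPrimeCore_of_normal_of_coprime p hyn hyc
      rw [hO, le_bot_iff, zpowers_eq_bot] at this
      rw [← Subgroup.orderOf_coe, this, orderOf_one] at hy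
      exact hq.one_lt.ne hy
    obtain ⟨k, hk⟩ := hNp
    obtain ⟨O, hOdef⟩ : ∃ O : Subgroup (G ⧸ N), O = Cfsg.pPrimeCore p (G ⧸ N) := ⟨_, rfl⟩
    have hOn : O.Normal := by
      rw [hOdef]; exact (pPrimeCore_normal_and_card_coprime (G := G ⧸ N) p).1
    have hOc : (Nat.card O).Coprime p := by
      rw [hOdef]; exact (pPrimeCore_normal_and_card_coprime (G := G ⧸ N) p).2
    obtain ⟨R, hR⟩ : ∃ R : Subgroup G, R = O.comap (QuotientGroup.mk' N) := ⟨_, rfl⟩
    have hRn : R.Normal := by rw [hR]; infer_instance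
    have hNR : N ≤ R := by
      intro n hn
      rw [hR, mem_comap]
      have : QuotientGroup.mk' N n = 1 := (QuotientGroup.eq_one_iff n).mpr hn
      rw [this]; exact one_mem _
    have hidx : N.relIndex R = Nat.card O := by
      have h4 : (⊥ : Subgroup (G ⧸ N)).comap (QuotientGroup.mk' N) = N := by
        rw [MonoidHom.comap_bot, QuotientGroup.ker_mk']
      have h5 := Subgroup.relIndex_comap (H := (⊥ : Subgroup (G ⧸ N))) (QuotientGroup.mk' N) R
      rw [h4] at h5
      rw [h5, hR, Subgroup.map_comap_eq_self_of_surjective (QuotientGroup.mk'_surjective N),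
        relIndex_bot_left]
    have hcop : (Nat.card (N.subgroupOf R)).Coprime (N.subgroupOf R).index := by
      have h6 : Nat.card (N.subgroupOf R) = Nat.card N :=
        Nat.card_congr (subgroupOfEquivOfLe hNR).toEquiv
      rw [h6, hk]
      change (p ^ k).Coprime (N.relIndex R)
      rw [hidx]
      exact Nat.Coprime.pow_left k (Nat.Coprime.symm hOc)
    obtain ⟨K, hK⟩ := Subgroup.exists_right_complement'_of_coprime hcop
    have hKn : K.Normal := by
      constructor
      intro y hy r
      obtain ⟨⟨⟨n, hn⟩, ⟨k', hk'⟩⟩, hnk⟩ := hK.2 r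
      have hr : r = n * k' := hnk.symm
      have hnc : ∀ z : ↥R, n * z = z * n := by
        intro z
        apply Subtype.ext
        have := mem_center_iff.mp (hNZ (mem_subgroupOf.mp hn)) (z : G)
        exact this.symm
      have e1 : r * y * r⁻¹ = k' * y * k'⁻¹ := by
        rw [hr]
        calc n * k' * y * (n * k')⁻¹ = n * (k' * y * k'⁻¹) * n⁻¹ := by group
          _ = (k' * y * k'⁻¹) * n * n⁻¹ := by rw [hnc]
          _ = k' * y * k'⁻¹ := by rw [mul_inv_cancel_right]
      rw [e1]
      exact K.mul_mem (K.mul_mem hk' hy) (K.inv_mem hk')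
    have hKi : (N.subgroupOf R).index = Nat.card K := hK.symm.index_eq_card
    have hKc : (Nat.card K).Coprime p := by
      rw [← hKi]
      change (N.relIndex R).Coprime p
      rw [hidx]; exact hOc
    have hKbot : K = ⊥ := by
      have := le_pPrimeCore_of_normal_of_coprime p hKn hKc
      rwa [pPrimeCore_normal_eq_bot hO R, le_bot_iff] at this
    have hRN : R ≤ N := by
      have h10 : (N.subgroupOf R).index = 1 := by
        rw [hKi, hKbot, card_bot]
      rw [index_eq_one, subgroupOf_eq_top] at h10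
      exact h10
    apply hxnc
    intro g
    apply hiso g
    have h11 := hquot N hN1 (QuotientGroup.mk g)
    obtain ⟨c, hc⟩ : ∃ c : G, c = g * x * g⁻¹ * x⁻¹ := ⟨_, rfl⟩
    have h12 : c ∈ R := by
      rw [hR, mem_comap, hOdef, hc]
      exact h11
    have h13 := mem_center_iff.mp (hNZ (hRN h12))
    have hgc : g * x * g⁻¹ = c * x := by rw [hc]; group
    show x * (g * x * g⁻¹) = g * x * g⁻¹ * x
    rw [hgc, ← mul_assoc, h13 x]
  -- the derived subgroup is N
  have hcomm_le : commutator G ≤ N :=
    Subgroup.Normal.commutator_le_of_self_sup_commutative_eq_top hsup inferInstance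
  have hcommN : commutator G = N := by
    rcases hNmin (commutator G) inferInstance hcomm_le with h | h
    · exfalso
      have hab := (commutator_eq_bot_iff G).mp h
      apply hxnc
      intro g
      rw [mul_assoc, hab.is_comm.comm x g⁻¹, ← mul_assoc, mul_inv_cancel, one_mul]
    · exact h
  obtain ⟨P, hPx⟩ := hxpg.exists_le_sylow
  have hxP : x ∈ (P : Subgroup G) := hPx (mem_zpowers x)
  have hPc := commute_of_mem_pgroup hiso P.isPGroup' hxP
  -- N is simple
  have hsimple : IsSimpleGroup ↥N := by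
    have : Nontrivial ↥N := (Subgroup.nontrivial_iff_ne_bot N).mpr hN1
    refine ⟨fun M' hM'n => ?_⟩
    by_cases hM'top : M' = ⊤
    · exact Or.inr hM'top
    left
    obtain ⟨M, hM⟩ : ∃ M : Subgroup G, M = M'.map N.subtype := ⟨_, rfl⟩
    have hMN : M ≤ N := by rw [hM]; exact map_subtype_le M'
    have hMsub : M.subgroupOf N = M' := by
      rw [hM]
      exact Subgroup.comap_map_eq_self_of_injective N.subtype_injective M'
    have hMne : M ≠ N := by
      intro h
      apply hM'top
      rw [← hMsub, h]; exact subgroupOf_self N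
    have hMnorm : ∀ n ∈ N, ∀ m ∈ M, n * m * n⁻¹ ∈ M := by
      intro n hn m hm
      rw [hM] at hm ⊢
      obtain ⟨m', hm', rfl⟩ := hm
      exact ⟨⟨n, hn⟩ * m' * ⟨n, hn⟩⁻¹, hM'n.conj_mem m' hm' ⟨n, hn⟩, rfl⟩
    have hcore : M.normalCore = ⊥ := by
      rcases hNmin M.normalCore inferInstance (M.normalCore_le.trans hMN) with h | h
      · exact h
      · exfalso; apply hMne; exact le_antisymm hMN (h ▸ M.normalCore_le)
    have hPM : (P : Subgroup G) ⊓ M = ⊥ := by
      rw [eq_bot_iff, ← hcore]
      rintro y ⟨hyP, hyM⟩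
      show ∀ b : G, b * y * b⁻¹ ∈ M
      intro b
      have hb' : b⁻¹ ∈ zpowers x ⊔ N := by rw [sup_comm, hsup]; exact mem_top _
      have hle : zpowers x ≤ normalizer (N : Set G) := by
        rw [normalizer_eq_top]; exact le_top
      obtain ⟨a, ha, d, hd, hbinv⟩ := Cfsg.Agent.Lib.Helper18.mem_sup_of_le_normalizer hle hb'
      have hb : b = d⁻¹ * a⁻¹ := by rw [← mul_inv_rev, ← hbinv, inv_inv]
      obtain ⟨i, rfl⟩ := mem_zpowers_iff.mp ha
      have hyx : Commute y x := hPc y hyP
      have hya : y * x ^ i = x ^ i * y := (hyx.zpow_right i)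
      have e1 : (x ^ i)⁻¹ * y * x ^ i = y := by
        rw [mul_assoc, hya, ← mul_assoc, inv_mul_cancel, one_mul]
      have e2 : b * y * b⁻¹ = d⁻¹ * ((x ^ i)⁻¹ * y * x ^ i) * d⁻¹⁻¹ := by rw [hb]; group
      rw [e2, e1]
      exact hMnorm d⁻¹ (N.inv_mem hd) y hyM
    have hMsn : M.IsSubnormal := by
      refine Subgroup.IsSubnormal.step M N hMN hNn.isSubnormal ?_
      rw [hMsub]; exact hM'n
    have hcard := card_sylow_inf_subnormal P hMsn
    rw [hPM, card_bot] at hcard
    have hf : (Nat.card M).factorization p = 0 := by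
      by_contra hne
      have : 1 < p ^ (Nat.card M).factorization p := Nat.one_lt_pow hne hpp.one_lt
      omega
    have hMc : (Nat.card M).Coprime p := by
      rw [Nat.coprime_comm, hpp.coprime_iff_not_dvd]
      intro hd
      have := hpp.factorization_pos_of_dvd Nat.card_pos.ne' hd
      omega
    have hM'c : (Nat.card M').Coprime p := by
      rw [hM, Subgroup.card_map_of_injective N.subtype_injective] at hMc; exact hMc
    have := le_pPrimeCore_of_normal_of_coprime p hM'n hM'c
    rwa [pPrimeCore_normal_eq_bot hO N, le_bot_iff] at this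
  -- N is not abelian
  have hnab : ¬ IsMulCommutative ↥N := by
    intro hab
    let : CommGroup ↥N := { (inferInstance : Group ↥N) with mul_comm := hab.is_comm.comm }
    have hq : (Nat.card ↥N).Prime := @IsSimpleGroup.prime_card ↥N this hsimple
    by_cases hqp : Nat.card ↥N = p
    · have h1 : Nat.card (zpowers x ⊔ N : Subgroup G) ∣ Nat.card (zpowers x) * Nat.card N :=
        card_sup_dvd_mul_of_normal_right (zpowers x) N
      rw [sup_comm, hsup, card_top, Nat.card_zpowers, hx, hqp, ← pow_two] at h1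
      obtain ⟨j, -, hj⟩ := (Nat.dvd_prime_pow hpp).mp h1
      have hG : IsPGroup p (⊤ : Subgroup G) := by
        apply IsPGroup.of_card (n := j)
        rw [card_top]; exact hj
      have h2 := commute_of_mem_pgroup hiso hG (mem_top x)
      apply hxnc
      intro g
      rw [h2 g (mem_top g), mul_inv_cancel_right]
    · have hNc : (Nat.card N).Coprime p := (Nat.coprime_primes hq hpp).mpr hqp
      have := le_pPrimeCore_of_normal_of_coprime p hNn hNc
      rw [hO, le_bot_iff] at this
      exact hN1 this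
  rw [hcommN]
  exact ⟨hsimple, hnab, hsup⟩

end Cfsg.Agent.S2972
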