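import Cfsg.Statements.S2975
import Cfsg.Agent.S2972
import Cfsg.Agent.Lib.Helper1.CoprimeSylow
import Cfsg.Agent.Lib.Helper19.SylowAux

set_option autoImplicit false
open Cfsg

namespace Cfsg.Agent.S2975

open Subgroup Cfsg.Agent.Lib.Helper19 Cfsg.Agent.Lib.Helper6

theorem mem_normalizer_of_centralizes {G : Type*} [Group G] {D : Subgroup G} {x : G}
    (h : ∀ d ∈ D, d * x = x * d) : x ∈ normalizer (D : Set G) := by
  rw [mem_normalizer_iff]
  intro d
  constructor
  · intro hd
    have : x * d * x⁻¹ = d := by rw [← h d hd, mul_inv_cancel_right]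
    rw [this]; exact hd
  · intro hd
    have e := h _ hd
    have : x * d * x⁻¹ = d := by
      have e2 : x * d = x * (x * d * x⁻¹) := by
        rw [← e]; group
      exact (mul_left_cancel e2).symm
    rw [← this]; exact hd

theorem le_normalizer_of_conj_mem {G : Type*} [Group G] {H V : Subgroup G}
    (h : ∀ a ∈ H, ∀ v ∈ V, a * v * a⁻¹ ∈ V) : H ≤ normalizer (V : Set G) := by
  intro a ha
  rw [mem_normalizer_iff]
  intro v
  constructor
  · exact h a ha v
  · intro hv
    have := h a⁻¹ (inv_mem ha) _ hv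
    have e : a⁻¹ * (a * v * a⁻¹) * a⁻¹⁻¹ = v := by group
    rwa [e] at this

/-- The centralizer of an isolated element is transitive on the Sylow subgroups it normalizes. -/
theorem centralizer_transitive {G : Type*} [Group G] [Finite G] {p : ℕ} [Fact p.Prime] {x : G}
    (hx : orderOf x = p) (hiso : Cfsg.IsIsolated x) (q : ℕ) [Fact q.Prime] (S₁ S₂ : Sylow q G)
    (h1 : x ∈ normalizer ((S₁ : Subgroup G) : Set G))
    (h2 : x ∈ normalizer ((S₂ : Subgroup G) : Set G)) :
    ∃ c ∈ centralizer ({x} : Set G),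
      (S₁ : Subgroup G).map (MulAut.conj c).toMonoidHom = (S₂ : Subgroup G) := by
  obtain ⟨g, hg⟩ := MulAction.exists_smul_eq G S₁ S₂
  have hmem : ∀ a : G, a ∈ (S₂ : Subgroup G) ↔ g⁻¹ * a * g ∈ (S₁ : Subgroup G) := by
    intro a
    have e := mem_smul_sylow_iff S₁ g a
    rw [hg] at e
    exact e
  obtain ⟨H, hH⟩ : ∃ H : Subgroup G, H = normalizer ((S₁ : Subgroup G) : Set G) := ⟨_, rfl⟩
  have hxH : x ∈ H := by rw [hH]; exact h1
  have hyH : g⁻¹ * x * g ∈ H := by
    rw [hH, mem_normalizer_iff]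
    intro s
    have e1 := hmem (g * s * g⁻¹)
    have e2 := hmem (x * (g * s * g⁻¹) * x⁻¹)
    have e3 := mem_normalizer_iff.mp h2 (g * s * g⁻¹)
    have e4 : g⁻¹ * (g * s * g⁻¹) * g = s := by group
    have e5 : g⁻¹ * (x * (g * s * g⁻¹) * x⁻¹) * g = g⁻¹ * x * g * s * (g⁻¹ * x * g)⁻¹ := by group
    rw [e4] at e1; rw [e5] at e2
    rw [← e1, ← e2]; exact e3
  have hxpg : IsPGroup p (zpowers x) := by
    apply IsPGroup.of_card (n := 1)
    rw [Nat.card_zpowers, hx, pow_one]
  have hypg : IsPGroup p (zpowers (g⁻¹ * x * g)) := by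
    apply IsPGroup.of_card (n := 1)
    have : orderOf (g⁻¹ * x * g) = orderOf x := by
      have := (MulAut.conj g⁻¹).orderOf_eq x
      rwa [MulAut.conj_apply, inv_inv] at this
    rw [Nat.card_zpowers, this, hx, pow_one]
  obtain ⟨k, hkH, R, hR, -, hxR, hkR⟩ := exists_conj_pgroup_le H (zpowers_le.mpr hxH)
    (zpowers_le.mpr hyH) hxpg hypg
  have hc1 := Cfsg.Agent.S2972.commute_of_mem_pgroup hiso hR (hxR (mem_zpowers x)) _
    (hkR _ (mem_zpowers _))
  have e6 : k * (g⁻¹ * x * g) * k⁻¹ = (k * g⁻¹) * x * (k * g⁻¹)⁻¹ := by group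
  have hkx : (k * g⁻¹) * x * (k * g⁻¹)⁻¹ = x := by
    apply hiso
    rw [← e6]
    exact hc1.symm
  refine ⟨g * k⁻¹, ?_, ?_⟩
  · rw [mem_centralizer_singleton_iff]
    calc g * k⁻¹ * x = g * k⁻¹ * ((k * g⁻¹) * x * (k * g⁻¹)⁻¹) := by rw [hkx]
      _ = x * (g * k⁻¹) := by group
  · have hkn : ∀ s : G, s ∈ (S₁ : Subgroup G) ↔ k * s * k⁻¹ ∈ (S₁ : Subgroup G) := by
      intro s
      exact mem_normalizer_iff.mp (hH ▸ hkH) s
    ext a
    rw [hmem a]
    constructor
    · rintro ⟨s, hs, rfl⟩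
      have e7 : g⁻¹ * ((MulAut.conj (g * k⁻¹)).toMonoidHom s) * g = k⁻¹ * s * k := by
        show g⁻¹ * (g * k⁻¹ * s * (g * k⁻¹)⁻¹) * g = k⁻¹ * s * k
        group
      rw [e7, hkn]
      have e8 : k * (k⁻¹ * s * k) * k⁻¹ = s := by group
      rw [e8]; exact hs
    · intro ha
      refine ⟨k * (g⁻¹ * a * g) * k⁻¹, (hkn _).mp ha, ?_⟩
      show g * k⁻¹ * (k * (g⁻¹ * a * g) * k⁻¹) * (g * k⁻¹)⁻¹ = a
      group

/-- In a minimal counterexample, a nontrivial maximal `x`-invariant `q`-subgroup (`q ≠ p`)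
is a Sylow subgroup. -/
theorem max_invariant_sylow {G : Type*} [Group G] [Finite G] {p : ℕ} [Fact p.Prime] {x : G}
    (hx : orderOf x = p) (hiso : Cfsg.IsIsolated x)
    (hO : Cfsg.pPrimeCore p G = ⊥)
    (hmin : ∀ (H : Subgroup G) (hxH : x ∈ H), H ≠ ⊤ → Cfsg.InZStar p (⟨x, hxH⟩ : ↥H))
    (q : ℕ) [Fact q.Prime] (hqp : q ≠ p) (Q : Subgroup G) (hQ : IsPGroup q Q)
    (hxQ : x ∈ normalizer (Q : Set G))
    (hmax : ∀ R : Subgroup G, IsPGroup q R → x ∈ normalizer (R : Set G) → Q ≤ R → R = Q)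
    (hQ1 : Q ≠ ⊥) : ∃ S : Sylow q G, (S : Subgroup G) = Q := by
  have hpp : p.Prime := Fact.out
  have hqq : q.Prime := Fact.out
  obtain ⟨H, hH⟩ : ∃ H : Subgroup G, H = normalizer (Q : Set G) := ⟨_, rfl⟩
  have hxH : x ∈ H := by rw [hH]; exact hxQ
  have hQH : Q ≤ H := by rw [hH]; exact le_normalizer
  have hQn : H ≤ normalizer (Q : Set G) := by rw [hH]
  have hQc : (Nat.card Q).Coprime p := by
    obtain ⟨n, hn⟩ := hQ.exists_card_eq
    rw [hn]
    exact Nat.Coprime.pow_left n ((Nat.coprime_primes hqq hpp).mpr hqp)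
  have hHne : H ≠ ⊤ := by
    intro h
    have hQn' : Q.Normal := by
      rw [← normalizer_eq_top_iff, ← hH]; exact h
    have := le_pPrimeCore_of_normal_of_coprime p hQn' hQc
    rw [hO, le_bot_iff] at this
    exact hQ1 this
  have hz := hmin H hxH hHne
  obtain ⟨V, hV⟩ : ∃ V : Subgroup G, V = (Cfsg.pPrimeCore p ↥H).map H.subtype := ⟨_, rfl⟩
  have hVH : V ≤ H := by rw [hV]; exact map_subtype_le _
  have hVc : (Nat.card V).Coprime p := by
    rw [hV, Subgroup.card_map_of_injective H.subtype_injective]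
    exact (pPrimeCore_normal_and_card_coprime (G := ↥H) p).2
  have hVn : H ≤ normalizer (V : Set G) := by
    apply le_normalizer_of_conj_mem
    intro h hh v hv
    have hnorm := (pPrimeCore_normal_and_card_coprime (G := ↥H) p).1
    rw [hV] at hv ⊢
    obtain ⟨v', hv', rfl⟩ := hv
    exact ⟨⟨h, hh⟩ * v' * ⟨h, hh⟩⁻¹, hnorm.conj_mem v' hv' ⟨h, hh⟩, rfl⟩
  have hcomV : ∀ h ∈ H, h * x * h⁻¹ * x⁻¹ ∈ V := by
    intro h hh
    rw [hV]
    exact ⟨_, hz ⟨h, hh⟩, rfl⟩
  obtain ⟨C, hC⟩ : ∃ C : Subgroup G, C = H ⊓ centralizer {x} := ⟨_, rfl⟩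
  have hCH : C ≤ H := by rw [hC]; exact inf_le_left
  have hxpg : IsPGroup p (zpowers x) := by
    apply IsPGroup.of_card (n := 1)
    rw [Nat.card_zpowers, hx, pow_one]
  have hxV : zpowers x ≤ normalizer (V : Set G) := by rw [zpowers_le]; exact hVn hxH
  -- Step 1: H = V C
  have hfact : ∀ h ∈ H, ∃ v ∈ V, ∃ c ∈ C, h = v * c := by
    intro h hh
    obtain ⟨K, hK⟩ : ∃ K : Subgroup G, K = V ⊔ zpowers x := ⟨_, rfl⟩
    have hxK : zpowers x ≤ K := by rw [hK]; exact le_sup_right
    have hidx : ¬ p ∣ (zpowers x).relIndex K := by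
      have e1 := card_sup_mul_card_inf_of_normalizes hxV
      have e2 := card_mul_relIndex_of_le hxK
      rw [← hK, ← e2] at e1
      have e3 : (zpowers x).relIndex K * Nat.card (V ⊓ zpowers x : Subgroup G) = Nat.card V := by
        have hpos : 0 < Nat.card (zpowers x) := Nat.card_pos
        apply Nat.eq_of_mul_eq_mul_left hpos
        rw [← mul_assoc, e1, mul_comm]
      intro hdvd
      have : p ∣ Nat.card V := by rw [← e3]; exact Dvd.dvd.mul_right hdvd _
      exact (Nat.Prime.coprime_iff_not_dvd hpp).mp hVc.symm this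
    have hyK : zpowers (h * x * h⁻¹) ≤ K := by
      rw [zpowers_le, hK]
      have : h * x * h⁻¹ = (h * x * h⁻¹ * x⁻¹) * x := by group
      rw [this]
      exact mul_mem (le_sup_left (b := zpowers x) (hcomV h hh))
        (le_sup_right (a := V) (mem_zpowers x))
    have hypg : IsPGroup p (zpowers (h * x * h⁻¹)) := by
      apply IsPGroup.of_card (n := 1)
      have : orderOf (h * x * h⁻¹) = orderOf x := (MulAut.conj h).orderOf_eq x
      rw [Nat.card_zpowers, this, hx, pow_one]
    obtain ⟨k, hkK, hk⟩ := exists_conj_le_of_not_dvd_relIndex hxK hxpg hidx hyK hypg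
    have h1 := hk _ (mem_zpowers _)
    have h2 : (k * h) * x * (k * h)⁻¹ = x := by
      apply hiso
      obtain ⟨i, hi⟩ := mem_zpowers_iff.mp h1
      have : k * h * x * (k * h)⁻¹ = x ^ i := by rw [hi]; group
      rw [this]
      exact (Commute.refl x).zpow_right i
    have hkH : k ∈ H := by
      have : K ≤ H := by rw [hK]; exact sup_le hVH (by rw [zpowers_le]; exact hxH)
      exact this hkK
    have hc : k * h ∈ C := by
      rw [hC]
      refine ⟨mul_mem hkH hh, mem_centralizer_singleton_iff.mpr ?_⟩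
      calc k * h * x = (k * h * x * (k * h)⁻¹) * (k * h) := by group
        _ = x * (k * h) := by rw [h2]
    rw [hK] at hkK
    have hkK' : k⁻¹ ∈ zpowers x ⊔ V := by rw [sup_comm]; exact inv_mem hkK
    obtain ⟨a, ha, v, hv, hkav⟩ := Cfsg.Agent.Lib.Helper18.mem_sup_of_le_normalizer hxV hkK'
    refine ⟨a * v * a⁻¹, ?_, a * (k * h), ?_, ?_⟩
    · exact (mem_normalizer_iff.mp (hxV ha) v).mp hv
    · have haC : a ∈ C := by
        rw [hC, Subgroup.mem_inf]; refine ⟨(zpowers_le.mpr hxH) ha, ?_⟩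
        rw [mem_centralizer_singleton_iff]
        obtain ⟨i, rfl⟩ := mem_zpowers_iff.mp ha
        exact ((Commute.refl x).zpow_left i).eq
      exact mul_mem haC hc
    · calc h = k⁻¹ * (k * h) := by group
        _ = a * v * (k * h) := by rw [hkav]
        _ = a * v * a⁻¹ * (a * (k * h)) := by group
  -- Step 2: W = V Q
  obtain ⟨W, hW⟩ : ∃ W : Subgroup G, W = V ⊔ Q := ⟨_, rfl⟩
  have hWn : H ≤ normalizer (W : Set G) := by
    rw [hW]
    exact (le_inf hVn hQn).trans (Subgroup.normalizer_inf_normalizer_le_normalizer_sup V Q)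
  have hWH : W ≤ H := by rw [hW]; exact sup_le hVH hQH
  have hQW : Q ≤ W := by rw [hW]; exact le_sup_right
  have hWc : (Nat.card W).Coprime p := by
    have e1 := card_sup_mul_card_inf_of_normalizes (U := V) (V := Q) (hQH.trans hVn)
    rw [← hW] at e1
    have : Nat.card W ∣ Nat.card V * Nat.card Q := Dvd.intro _ e1
    exact Nat.Coprime.coprime_dvd_left this (Nat.Coprime.mul_left hVc hQc)
  have hxW : zpowers x ≤ normalizer (W : Set G) := by rw [zpowers_le]; exact hWn hxH
  have hcopW : (Nat.card (zpowers x)).Coprime (Nat.card W) := by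
    rw [Nat.card_zpowers, hx]; exact hWc.symm
  obtain ⟨T, hT⟩ := Cfsg.Agent.Lib.Helper1.exists_invariant_sylow (zpowers x) W hxW hcopW
    (Or.inl inferInstance) q
  have hQT : Q ≤ (T : Subgroup ↥W).map W.subtype := by
    have hn : (Q.subgroupOf W).Normal :=
      Subgroup.normal_subgroupOf_of_le_normalizer (hWH.trans hQn)
    have hle : Q.subgroupOf W ≤ T :=
      @IsPGroup.le_sylow_of_normal _ _ _ (Q.subgroupOf W) hn (hQ.comap_subtype (K := W)) T
    intro a ha
    exact ⟨⟨a, hQW ha⟩, hle (mem_subgroupOf.mpr ha), rfl⟩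
  have hTQ : (T : Subgroup ↥W).map W.subtype = Q :=
    hmax _ (T.isPGroup'.map _) (hT (mem_zpowers x)) hQT
  have hcardQ : Nat.card Q = q ^ (Nat.card W).factorization q := by
    rw [← hTQ, Subgroup.card_map_of_injective W.subtype_injective]
    exact T.card_eq_multiplicity
  -- Step 3: a Sylow q-subgroup of C lies in Q
  obtain ⟨D0⟩ : Nonempty (Sylow q ↥C) := inferInstance
  obtain ⟨D, hD⟩ : ∃ D : Subgroup G, D = (D0 : Subgroup ↥C).map C.subtype := ⟨_, rfl⟩
  have hDC : D ≤ C := by rw [hD]; exact map_subtype_le _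
  have hDq : IsPGroup q D := by rw [hD]; exact D0.isPGroup'.map _
  have hDcard : Nat.card D = q ^ (Nat.card C).factorization q := by
    rw [hD, Subgroup.card_map_of_injective C.subtype_injective]; exact D0.card_eq_multiplicity
  have hDx : x ∈ normalizer (D : Set G) := by
    apply mem_normalizer_of_centralizes
    intro d hd
    have h1 := hDC hd
    rw [hC] at h1
    exact mem_centralizer_singleton_iff.mp h1.2
  have hDQ : D ≤ Q := by
    have h1 : IsPGroup q (D ⊔ Q : Subgroup G) :=
      hDq.to_sup_of_normal_right' hQ ((hDC.trans hCH).trans hQn)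
    have h2 : x ∈ normalizer ((D ⊔ Q : Subgroup G) : Set G) :=
      Subgroup.normalizer_inf_normalizer_le_normalizer_sup D Q ⟨hDx, hxQ⟩
    have h3 := hmax _ h1 h2 le_sup_right
    rw [← h3]; exact le_sup_left
  -- Step 4: counting
  have hCW : C ⊔ W = H := by
    apply le_antisymm (sup_le hCH hWH)
    intro h hh
    obtain ⟨v, hv, c, hc, rfl⟩ := hfact h hh
    have hvW : v ∈ W := by rw [hW]; exact le_sup_left (b := Q) hv
    exact mul_mem (le_sup_right (a := C) hvW) (le_sup_left (b := W) hc)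
  have e1 := card_sup_mul_card_inf_of_normalizes (U := W) (V := C) (hCH.trans hWn)
  rw [sup_comm, hCW] at e1
  have hDWC : D ≤ W ⊓ C := le_inf (hDQ.trans hQW) hDC
  have f1 : (Nat.card H).factorization q + (Nat.card (W ⊓ C : Subgroup G)).factorization q
      = (Nat.card W).factorization q + (Nat.card C).factorization q := by
    have := congrArg (fun n => n.factorization q) e1
    rw [Nat.factorization_mul Nat.card_pos.ne' Nat.card_pos.ne',
      Nat.factorization_mul Nat.card_pos.ne' Nat.card_pos.ne'] at this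
    simpa using this
  have f2 : (Nat.card C).factorization q ≤ (Nat.card (W ⊓ C : Subgroup G)).factorization q := by
    have hd : q ^ (Nat.card C).factorization q ∣ Nat.card (W ⊓ C : Subgroup G) := by
      rw [← hDcard]; exact Subgroup.card_dvd_of_le hDWC
    exact (hqq.pow_dvd_iff_le_factorization Nat.card_pos.ne').mp hd
  have f3 : (Nat.card W).factorization q ≤ (Nat.card H).factorization q := by
    have hd : q ^ (Nat.card W).factorization q ∣ Nat.card H := by
      rw [← hcardQ]; exact Subgroup.card_dvd_of_le hQH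
    exact (hqq.pow_dvd_iff_le_factorization Nat.card_pos.ne').mp hd
  have f4 : (Nat.card W).factorization q = (Nat.card H).factorization q := by omega
  rw [f4] at hcardQ
  -- Step 5: Q is a Sylow subgroup of G
  obtain ⟨S, hS⟩ := hQ.exists_le_sylow
  refine ⟨S, ?_⟩
  apply le_antisymm _ hS
  apply pgroup_le_of_normalizer_inf_le hS S.isPGroup'
  intro r hr
  obtain ⟨R, hR⟩ : ∃ R : Subgroup G, R = normalizer (Q : Set G) ⊓ S := ⟨_, rfl⟩
  have hQR : Q ≤ R := by rw [hR]; exact le_inf le_normalizer hS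
  have hRq : IsPGroup q R := by rw [hR]; exact S.isPGroup'.to_le inf_le_right
  have hRH : R ≤ H := by rw [hR, hH]; exact inf_le_left
  obtain ⟨j, hj⟩ := hRq.exists_card_eq
  have hjle : j ≤ (Nat.card H).factorization q := by
    apply (hqq.pow_dvd_iff_le_factorization Nat.card_pos.ne').mp
    rw [← hj]; exact Subgroup.card_dvd_of_le hRH
  have hcard : Nat.card R ≤ Nat.card Q := by
    rw [hj, hcardQ]; exact Nat.pow_le_pow_right hqq.pos hjle
  have : Q = R := Subgroup.eq_of_le_of_card_ge hQR hcard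
  rw [this, hR]; exact hr

/-- Let G be a finite group, p a prime and x ∈ G an isolated element of order p (the only conjugate of x commuting with x is x) which is not central modulo the largest normal subgroup of order prime to p, while x is central modulo the largest normal subgroup of order prime to p in every proper subgroup containing x, and the image of x is so in every quotient of G by a nontrivial normal subgroup (a minimal counterexample to the Z*_p statement). Then for every prime q, every q-subgroup of G that is normalized by x and maximal among the q-subgroups normalized by x is either trivial or a Sylow q-subgroup of G; and C_G(x) permutes the x-invariant Sylow q-subgroups of G transitively by conjugation. -/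
theorem result {G : Type*} [Group G] [Finite G] {p : ℕ} [Fact p.Prime] (x : G) (hx : orderOf x = p) (hiso : Cfsg.IsIsolated x) (hnz : ¬ Cfsg.InZStar p x) (hmin : ∀ (H : Subgroup G) (hxH : x ∈ H), H ≠ ⊤ → Cfsg.InZStar p (⟨x, hxH⟩ : ↥H)) (hquot : ∀ (N : Subgroup G) [N.Normal], N ≠ ⊥ → Cfsg.InZStar p (QuotientGroup.mk x : G ⧸ N)) (q : ℕ) [Fact q.Prime] : (∀ Q : Subgroup G, IsPGroup q ↥Q → x ∈ Subgroup.normalizer (Q : Set G) → (∀ R : Subgroup G, IsPGroup q ↥R → x ∈ Subgroup.normalizer (R : Set G) → Q ≤ R → R = Q) → Q = ⊥ ∨ ∃ S : Sylow q G, (S : Subgroup G) = Q) ∧ (∀ S₁ S₂ : Sylow q G, x ∈ Subgroup.normalizer ((S₁ : Subgroup G) : Set G) → x ∈ Subgroup.normalizer ((S₂ : Subgroup G) : Set G) → ∃ c ∈ Subgroup.centralizer ({x} : Set G), (S₁ : Subgroup G).map (MulAut.conj c).toMonoidHom = (S₂ : Subgroup G)) := by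
  have hpp : p.Prime := Fact.out
  have hxpg : IsPGroup p (zpowers x) := by
    apply IsPGroup.of_card (n := 1)
    rw [Nat.card_zpowers, hx, pow_one]
  have hO : Cfsg.pPrimeCore p G = ⊥ := by
    by_contra hne
    have := (pPrimeCore_normal_and_card_coprime (G := G) p).1
    have h1 := hquot (Cfsg.pPrimeCore p G) hne
    apply hnz
    intro g
    have h2 := h1 (QuotientGroup.mk g)
    rw [pPrimeCore_quotient_pPrimeCore_eq_bot, mem_bot] at h2
    exact (QuotientGroup.eq_one_iff _).mp h2
  refine ⟨?_, fun S₁ S₂ h1 h2 => centralizer_transitive hx hiso q S₁ S₂ h1 h2⟩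
  intro Q hQ hxQ hmax
  by_cases hQ1 : Q = ⊥
  · exact Or.inl hQ1
  right
  by_cases hqp : q = p
  · subst hqp
    have hxQ' : x ∈ Q := by
      have h1 : IsPGroup q (zpowers x ⊔ Q : Subgroup G) :=
        hxpg.to_sup_of_normal_right' hQ (zpowers_le.mpr hxQ)
      have h2 : x ∈ normalizer ((zpowers x ⊔ Q : Subgroup G) : Set G) :=
        le_normalizer (le_sup_left (b := Q) (mem_zpowers x))
      have h3 := hmax _ h1 h2 le_sup_right
      rw [← h3]; exact le_sup_left (b := Q) (mem_zpowers x)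
    obtain ⟨S, hS⟩ := hQ.exists_le_sylow
    have := hmax S S.isPGroup' (le_normalizer (hS hxQ')) hS
    exact ⟨S, this⟩
  · exact max_invariant_sylow hx hiso hO hmin q hqp Q hQ hxQ hmax hQ1

end Cfsg.Agent.S2975
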