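import Cfsg.Statements.S3839
import Cfsg.Agent.Lib.Helper14.AlperinP
import Cfsg.Agent.Lib.Helper14.SylowAux
import Cfsg.Agent.Lib.Helper1.ThompsonNPC

set_option autoImplicit false
open Cfsg

namespace Cfsg.Agent.S3839

open Cfsg.Agent.Lib.Helper14 Cfsg.Agent.Lib.Helper1
open scoped Pointwise

/-- `p'`-elements of `N(T)` centralise `T`. -/
def PC {G : Type*} [Group G] (p : ℕ) (T : Subgroup G) : Prop :=
  ∀ y ∈ Subgroup.normalizer (T : Set G), (orderOf y).Coprime p →
    y ∈ Subgroup.centralizer (T : Set G)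

theorem PC.of_map_conj {G : Type*} [Group G] {p : ℕ} {T : Subgroup G} (h : G)
    (hPC : PC p (T.map (MulAut.conj h).toMonoidHom)) : PC p T := by
  intro y hy hcop
  have h1 : h * y * h⁻¹ ∈
      Subgroup.normalizer ((T.map (MulAut.conj h).toMonoidHom : Subgroup G) : Set G) := by
    rw [mem_normalizer_map_conj_iff]
    convert hy using 1
    group
  have h2 : orderOf (h * y * h⁻¹) = orderOf y := (MulAut.conj h).orderOf_eq y
  have h3 := hPC _ h1 (by rw [h2]; exact hcop)
  rw [mem_centralizer_map_conj_iff] at h3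
  convert h3 using 1
  group

theorem PC.exists_pow_mem {G : Type*} [Group G] [Finite G] {p : ℕ} [Fact p.Prime]
    {T : Subgroup G} (hPC : PC p T) (n : G) (hn : n ∈ Subgroup.normalizer (T : Set G)) :
    ∃ k : ℕ, n ^ p ^ k ∈ Subgroup.centralizer (T : Set G) := by
  have hp : p.Prime := Fact.out
  have hpos : orderOf n ≠ 0 := (orderOf_pos n).ne'
  obtain ⟨k, m, hm, hkm⟩ := Nat.exists_eq_pow_mul_and_not_dvd hpos p hp.ne_one
  refine ⟨k, hPC _ (pow_mem hn _) ?_⟩
  have h1 : orderOf (n ^ p ^ k) ∣ m := by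
    apply orderOf_dvd_of_pow_eq_one
    rw [← pow_mul, ← hkm]
    exact pow_orderOf_eq_one n
  exact Nat.Coprime.coprime_dvd_left h1 ((Nat.Prime.coprime_iff_not_dvd hp).mpr hm).symm

theorem mem_centralizer_of_conj_eq {G : Type*} [Group G] {p : ℕ} {T : Subgroup G} (y n : G)
    (hy : y ∈ Subgroup.normalizer (T : Set G))
    (h : ∀ t ∈ T, y * t * y⁻¹ = n * t * n⁻¹) (k : ℕ)
    (hn : n ^ p ^ k ∈ Subgroup.centralizer (T : Set G)) (hcop : (orderOf y).Coprime p) :
    y ∈ Subgroup.centralizer (T : Set G) := by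
  have hyT : ∀ t ∈ T, y * t * y⁻¹ ∈ T := fun t ht => (Subgroup.mem_normalizer_iff.mp hy t).mp ht
  have hpow : ∀ j : ℕ, ∀ t ∈ T, y ^ j * t * (y ^ j)⁻¹ = n ^ j * t * (n ^ j)⁻¹ := by
    intro j
    induction j with
    | zero => intro t _; simp
    | succ j ih =>
      intro t ht
      have h1 := ih (y * t * y⁻¹) (hyT t ht)
      calc y ^ (j + 1) * t * (y ^ (j + 1))⁻¹ = y ^ j * (y * t * y⁻¹) * (y ^ j)⁻¹ := by
            rw [pow_succ]; group
        _ = n ^ j * (y * t * y⁻¹) * (n ^ j)⁻¹ := h1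
        _ = n ^ j * (n * t * n⁻¹) * (n ^ j)⁻¹ := by rw [h t ht]
        _ = n ^ (j + 1) * t * (n ^ (j + 1))⁻¹ := by rw [pow_succ]; group
  have hyk : y ^ p ^ k ∈ Subgroup.centralizer (T : Set G) := by
    rw [Subgroup.mem_centralizer_iff]
    intro t ht
    have h1 := hpow (p ^ k) t ht
    have h2 : n ^ p ^ k * t * (n ^ p ^ k)⁻¹ = t := by
      have h3 := (Subgroup.mem_centralizer_iff.mp hn) t ht
      rw [← h3]
      group
    rw [h2] at h1
    calc t * y ^ p ^ k = (y ^ p ^ k * t * (y ^ p ^ k)⁻¹) * y ^ p ^ k := by rw [h1]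
      _ = y ^ p ^ k * t := by group
  exact mem_of_pow_mem_of_coprime hyk (Nat.Coprime.pow_right k hcop)

theorem sylow_le_normalizer_of_stronglyClosed {G : Type*} [Group G] [Finite G] {S D : Subgroup G}
    (hD : Cfsg.IsStronglyClosed D S) : S ≤ Subgroup.normalizer (D : Set G) := by
  intro s hs
  apply mem_normalizer_of_conj_mem
  intro d hd
  exact hD.2 d hd s (mul_mem (mul_mem hs (hD.1 hd)) (inv_mem hs))

theorem conj_mem_centralizer_of_mem_normalizer {G : Type*} [Group G] {T : Subgroup G} {n c : G}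
    (hn : n ∈ Subgroup.normalizer (T : Set G)) (hc : c ∈ Subgroup.centralizer (T : Set G)) :
    n * c * n⁻¹ ∈ Subgroup.centralizer (T : Set G) := by
  rw [Subgroup.mem_centralizer_iff]
  intro t ht
  have h1 : n⁻¹ * t * n ∈ T := (Subgroup.mem_normalizer_iff''.mp hn t).mp ht
  have h2 := (Subgroup.mem_centralizer_iff.mp hc) _ h1
  calc t * (n * c * n⁻¹) = n * ((n⁻¹ * t * n) * c) * n⁻¹ := by group
    _ = n * (c * (n⁻¹ * t * n)) * n⁻¹ := by rw [h2]
    _ = n * c * n⁻¹ * t := by group

theorem mem_normalizer_sup {G : Type*} [Group G] {A B : Subgroup G} {n : G}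
    (hA : n ∈ Subgroup.normalizer (A : Set G)) (hB : n ∈ Subgroup.normalizer (B : Set G)) :
    n ∈ Subgroup.normalizer ((A ⊔ B : Subgroup G) : Set G) := by
  rw [mem_normalizer_iff_map_conj_eq] at hA hB ⊢
  rw [Subgroup.map_sup, hA, hB]

/-- Frattini argument for a strongly closed subgroup. -/
theorem frattini_strongly_closed {G : Type*} [Group G] [Finite G] {p : ℕ} [Fact p.Prime]
    (S : Sylow p G) (D : Subgroup G) (hD : Cfsg.IsStronglyClosed D (S : Subgroup G))
    (N C : Subgroup G) (hCN : C ≤ N) (hnorm : ∀ n ∈ N, ∀ c ∈ C, n * c * n⁻¹ ∈ C)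
    (hidx : ¬ p ∣ ((S : Subgroup G) ⊓ N).relIndex N) :
    ∀ n ∈ N, ∃ c ∈ C, c * n ∈ Subgroup.normalizer ((D ⊓ C : Subgroup G) : Set G) := by
  have hSp : IsPGroup p (S : Subgroup G) := S.isPGroup'
  have hSN : IsPGroup p ((S : Subgroup G) ⊓ N : Subgroup G) := hSp.to_le inf_le_left
  have hSC : IsPGroup p ((S : Subgroup G) ⊓ C : Subgroup G) := hSp.to_le inf_le_left
  have hidxC : ¬ p ∣ ((S : Subgroup G) ⊓ C).relIndex C := by
    obtain ⟨R, hR1, hR2, hR3, hR4⟩ :=
      exists_relSylow_ge hSC (inf_le_right : (S : Subgroup G) ⊓ C ≤ C)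
    obtain ⟨m, hmN, hm⟩ := exists_conj_mem_of_relIndex hSN hidx hR3 (hR2.trans hCN)
    have h1 : R.map (MulAut.conj m).toMonoidHom ≤ (S : Subgroup G) ⊓ C := by
      rintro _ ⟨r, hr, rfl⟩
      exact Subgroup.mem_inf.mpr ⟨(Subgroup.mem_inf.mp (hm r hr)).1, hnorm m hmN r (hR2 hr)⟩
    have h2 : Nat.card R ≤ Nat.card ((S : Subgroup G) ⊓ C : Subgroup G) := by
      have := Subgroup.card_le_of_le h1
      rwa [card_map_conj] at this
    have h3 : (S : Subgroup G) ⊓ C = R := Subgroup.eq_of_le_of_card_ge hR1 h2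
    rw [h3]
    exact hR4
  intro n hn
  have hXp : IsPGroup p (((S : Subgroup G) ⊓ C).map (MulAut.conj n).toMonoidHom) := hSC.map _
  have hXC : ((S : Subgroup G) ⊓ C).map (MulAut.conj n).toMonoidHom ≤ C := by
    rintro _ ⟨r, hr, rfl⟩
    exact hnorm n hn r (Subgroup.mem_inf.mp hr).2
  obtain ⟨c, hcC, hc⟩ := exists_conj_mem_of_relIndex hSC hidxC hXp hXC
  refine ⟨c, hcC, ?_⟩
  apply mem_normalizer_of_conj_mem
  intro e he
  have heD := (Subgroup.mem_inf.mp he).1
  have heC := (Subgroup.mem_inf.mp he).2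
  have h1 : c * (n * e * n⁻¹) * c⁻¹ ∈ (S : Subgroup G) ⊓ C :=
    hc _ ⟨e, Subgroup.mem_inf.mpr ⟨hD.1 heD, heC⟩, rfl⟩
  have e1 : c * n * e * (c * n)⁻¹ = c * (n * e * n⁻¹) * c⁻¹ := by group
  rw [e1]
  refine Subgroup.mem_inf.mpr ⟨?_, (Subgroup.mem_inf.mp h1).2⟩
  have h2 := hD.2 e heD (c * n) (by rw [e1]; exact (Subgroup.mem_inf.mp h1).1)
  rwa [e1] at h2

/-- Step (I): subgroups of the strongly closed subgroup. -/
theorem step_closed {G : Type*} [Group G] [Finite G] {p : ℕ} [Fact p.Prime] (S : Sylow p G)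
    (D : Subgroup G) (hD : Cfsg.IsStronglyClosed D (S : Subgroup G))
    (hyp : ∀ U : Subgroup G, U ≤ D → D ⊓ Subgroup.centralizer (U : Set G) ≤ U →
      FrobS p (Subgroup.normalizer (U : Set G))) :
    ∀ (k : ℕ) (U : Subgroup G), U ≤ D → Nat.card D - Nat.card U = k → PC p U := by
  intro k
  induction k using Nat.strong_induction_on with
  | _ k ih =>
    intro U hUD hk
    have hSp : IsPGroup p (S : Subgroup G) := S.isPGroup'
    obtain ⟨h, hTS, hfn⟩ := exists_fullyNormalized_conj S (hUD.trans hD.1)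
    apply PC.of_map_conj h
    obtain ⟨T, hT⟩ : ∃ T : Subgroup G, T = U.map (MulAut.conj h).toMonoidHom := ⟨_, rfl⟩
    have hcard : Nat.card T = Nat.card U := by rw [hT, card_map_conj]
    have hTD : T ≤ D := by
      rw [hT]
      rintro _ ⟨u, hu, rfl⟩
      exact hD.2 u (hUD hu) h (hTS ⟨u, hu, rfl⟩)
    rw [← hT] at hTS hfn ⊢
    have hTp : IsPGroup p T := hSp.to_le hTS
    intro y hy hcop
    by_cases hc : D ⊓ Subgroup.centralizer (T : Set G) ≤ T
    · exact hyp T hTD hc T Subgroup.le_normalizer hTp y hy hy hcop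
    · obtain ⟨c, hcC, hcn⟩ := frattini_strongly_closed S D hD (Subgroup.normalizer (T : Set G))
        (Subgroup.centralizer (T : Set G)) (Subgroup.centralizer_le_normalizer _)
        (fun n hn c hc => conj_mem_centralizer_of_mem_normalizer hn hc) hfn y hy
      have hnT : c * y ∈ Subgroup.normalizer (T : Set G) :=
        mul_mem (Subgroup.centralizer_le_normalizer _ hcC) hy
      obtain ⟨T', hT'⟩ : ∃ T' : Subgroup G, T' = T ⊔ (D ⊓ Subgroup.centralizer (T : Set G)) :=
        ⟨_, rfl⟩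
      have hT'D : T' ≤ D := by rw [hT']; exact sup_le hTD inf_le_left
      have hlt : T < T' := by
        rw [hT']
        refine lt_of_le_of_ne le_sup_left ?_
        intro heq
        apply hc
        exact le_sup_right.trans heq.ge
      have hnT' : c * y ∈ Subgroup.normalizer (T' : Set G) := by
        rw [hT']
        exact mem_normalizer_sup hnT hcn
      have hc1 : Nat.card T < Nat.card T' := card_lt_of_lt hlt
      have hc2 : Nat.card T' ≤ Nat.card D := Subgroup.card_le_of_le hT'D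
      have hPC' : PC p T' := ih (Nat.card D - Nat.card T') (by omega) T' hT'D rfl
      obtain ⟨j, hj⟩ := hPC'.exists_pow_mem (c * y) hnT'
      have hjT : (c * y) ^ p ^ j ∈ Subgroup.centralizer (T : Set G) :=
        Subgroup.centralizer_le (SetLike.coe_subset_coe.mpr hlt.le) hj
      apply mem_centralizer_of_conj_eq y (c * y) hy ?_ j hjT hcop
      intro t ht
      have h1 : y * t * y⁻¹ ∈ T := (Subgroup.mem_normalizer_iff.mp hy t).mp ht
      have h2 := (Subgroup.mem_centralizer_iff.mp hcC) _ h1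
      calc y * t * y⁻¹ = (y * t * y⁻¹) * c * c⁻¹ := by group
        _ = c * (y * t * y⁻¹) * c⁻¹ := by rw [h2]
        _ = (c * y) * t * (c * y)⁻¹ := by group

/-- The subgroup of `N(T)` acting trivially on `T/U`. -/
def stabSub {G : Type*} [Group G] (T U : Subgroup G)
    (hU : Subgroup.normalizer (T : Set G) ≤ Subgroup.normalizer (U : Set G)) : Subgroup G where
  carrier := {l | l ∈ Subgroup.normalizer (T : Set G) ∧ ∀ t ∈ T, l * t * l⁻¹ * t⁻¹ ∈ U}
  one_mem' := ⟨one_mem _, fun t _ => by simp⟩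
  mul_mem' := by
    rintro a b ⟨haN, ha⟩ ⟨hbN, hb⟩
    refine ⟨mul_mem haN hbN, fun t ht => ?_⟩
    have h1 : a * (b * t * b⁻¹ * t⁻¹) * a⁻¹ ∈ U :=
      (Subgroup.mem_normalizer_iff.mp (hU haN) _).mp (hb t ht)
    have e : a * b * t * (a * b)⁻¹ * t⁻¹ =
        (a * (b * t * b⁻¹ * t⁻¹) * a⁻¹) * (a * t * a⁻¹ * t⁻¹) := by group
    rw [e]
    exact mul_mem h1 (ha t ht)
  inv_mem' := by
    rintro a ⟨haN, ha⟩
    refine ⟨inv_mem haN, fun t ht => ?_⟩
    have ht' : a⁻¹ * t * a ∈ T := (Subgroup.mem_normalizer_iff''.mp haN t).mp ht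
    have h1 := ha _ ht'
    have e : a⁻¹ * t * (a⁻¹)⁻¹ * t⁻¹ = (a * (a⁻¹ * t * a) * a⁻¹ * (a⁻¹ * t * a)⁻¹)⁻¹ := by group
    rw [e]
    exact inv_mem h1

/-- Step (II): all `p`-subgroups. -/
theorem step_all {G : Type*} [Group G] [Finite G] {p : ℕ} [Fact p.Prime] (S : Sylow p G)
    (D : Subgroup G) (hD : Cfsg.IsStronglyClosed D (S : Subgroup G))
    (hI : ∀ U : Subgroup G, U ≤ D → PC p U)
    (hypD : FrobS p (Subgroup.normalizer (D : Set G))) :
    ∀ (k : ℕ) (T : Subgroup G), IsPGroup p T →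
      Nat.card (S : Subgroup G) - Nat.card T = k → PC p T := by
  intro k
  induction k using Nat.strong_induction_on with
  | _ k ih =>
    intro T₀ hT₀p hk
    have hSp : IsPGroup p (S : Subgroup G) := S.isPGroup'
    obtain ⟨h₀, hh₀⟩ := exists_map_conj_le_sylow S hT₀p
    obtain ⟨h₁, hTS, hfn⟩ := exists_fullyNormalized_conj S hh₀
    apply PC.of_map_conj h₀
    apply PC.of_map_conj h₁
    obtain ⟨T, hT⟩ : ∃ T : Subgroup G, T =
        (T₀.map (MulAut.conj h₀).toMonoidHom).map (MulAut.conj h₁).toMonoidHom := ⟨_, rfl⟩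
    have hcard : Nat.card T = Nat.card T₀ := by rw [hT, card_map_conj, card_map_conj]
    rw [← hT] at hTS hfn ⊢
    have hTp : IsPGroup p T := hSp.to_le hTS
    have hSND : (S : Subgroup G) ≤ Subgroup.normalizer (D : Set G) :=
      sylow_le_normalizer_of_stronglyClosed hD
    intro y hy hcop
    have hMU : Subgroup.normalizer (T : Set G) ≤
        Subgroup.normalizer ((T ⊓ D : Subgroup G) : Set G) := by
      intro m hm
      apply mem_normalizer_of_conj_mem
      intro u hu
      have h1 : m * u * m⁻¹ ∈ T :=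
        (Subgroup.mem_normalizer_iff.mp hm u).mp (Subgroup.mem_inf.mp hu).1
      exact Subgroup.mem_inf.mpr ⟨h1, hD.2 u (Subgroup.mem_inf.mp hu).2 m (hTS h1)⟩
    have hyCU : y ∈ Subgroup.centralizer ((T ⊓ D : Subgroup G) : Set G) :=
      hI _ inf_le_right y (hMU hy) hcop
    by_cases hD₁ : D ⊓ Subgroup.normalizer (T : Set G) ≤ T
    · have hDT : D ≤ T := by
        by_contra hcon
        have hsupS : T ⊔ D ≤ (S : Subgroup G) := sup_le hTS hD.1
        have hne : T ≠ T ⊔ D := fun h => hcon (h ▸ le_sup_right)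
        obtain ⟨x, hx, hxT⟩ := Cfsg.Agent.Lib.Helper14.exists_mem_normalizer_not_mem
          (S := T ⊔ D) (P := T) (hSp.to_le hsupS) le_sup_left hne
        have hx1 := (Subgroup.mem_inf.mp hx).1
        have hx2 := (Subgroup.mem_inf.mp hx).2
        have hTND : T ≤ Subgroup.normalizer (D : Set G) := hTS.trans hSND
        have hcoe := Subgroup.coe_mul_of_left_le_normalizer_right T D hTND
        have hx1' : x ∈ (T : Set G) * (D : Set G) := by
          rw [← hcoe]
          exact hx1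
        obtain ⟨t, ht, d, hd, rfl⟩ := Set.mem_mul.mp hx1'
        have hdN : d ∈ Subgroup.normalizer (T : Set G) := by
          have e : d = t⁻¹ * (t * d) := by group
          rw [e]
          exact mul_mem (inv_mem (Subgroup.le_normalizer ht)) hx2
        exact hxT (mul_mem ht (hD₁ (Subgroup.mem_inf.mpr ⟨hd, hdN⟩)))
      have hinf : T ⊓ D = D := inf_of_le_right hDT
      have hyD : y ∈ Subgroup.normalizer (D : Set G) := by
        have := hMU hy
        rwa [hinf] at this
      exact hypD T (hTS.trans hSND) hTp y hyD hy hcop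
    · obtain ⟨L, hL⟩ : ∃ L : Subgroup G, L = stabSub T (T ⊓ D) hMU := ⟨_, rfl⟩
      have hLmem : ∀ l : G, l ∈ L ↔ l ∈ Subgroup.normalizer (T : Set G) ∧
          ∀ t ∈ T, l * t * l⁻¹ * t⁻¹ ∈ T ⊓ D := by
        intro l
        rw [hL]
        rfl
      have hLN : L ≤ Subgroup.normalizer (T : Set G) := fun l hl => ((hLmem l).mp hl).1
      have hLnorm : ∀ n ∈ Subgroup.normalizer (T : Set G), ∀ c ∈ L, n * c * n⁻¹ ∈ L := by
        intro n hn c hc
        rw [hLmem] at hc ⊢
        refine ⟨mul_mem (mul_mem hn hc.1) (inv_mem hn), fun t ht => ?_⟩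
        have ht' : n⁻¹ * t * n ∈ T := (Subgroup.mem_normalizer_iff''.mp hn t).mp ht
        have h1 := hc.2 _ ht'
        have h2 : n * (c * (n⁻¹ * t * n) * c⁻¹ * (n⁻¹ * t * n)⁻¹) * n⁻¹ ∈ T ⊓ D :=
          (Subgroup.mem_normalizer_iff.mp (hMU hn) _).mp h1
        have e : n * c * n⁻¹ * t * (n * c * n⁻¹)⁻¹ * t⁻¹ =
            n * (c * (n⁻¹ * t * n) * c⁻¹ * (n⁻¹ * t * n)⁻¹) * n⁻¹ := by group
        rw [e]
        exact h2
      have hDL : D ⊓ L = D ⊓ Subgroup.normalizer (T : Set G) := by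
        apply le_antisymm
        · exact inf_le_inf_left D hLN
        · intro d hd
          have hdD := (Subgroup.mem_inf.mp hd).1
          have hdN := (Subgroup.mem_inf.mp hd).2
          refine Subgroup.mem_inf.mpr ⟨hdD, (hLmem d).mpr ⟨hdN, fun t ht => ?_⟩⟩
          refine Subgroup.mem_inf.mpr ⟨?_, ?_⟩
          · exact mul_mem ((Subgroup.mem_normalizer_iff.mp hdN t).mp ht) (inv_mem ht)
          · have h1 : t * d⁻¹ * t⁻¹ ∈ D :=
              (Subgroup.mem_normalizer_iff.mp (hSND (hTS ht)) d⁻¹).mp (inv_mem hdD)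
            have e : d * t * d⁻¹ * t⁻¹ = d * (t * d⁻¹ * t⁻¹) := by group
            rw [e]
            exact mul_mem hdD h1
      obtain ⟨l, hlL, hln⟩ := frattini_strongly_closed S D hD (Subgroup.normalizer (T : Set G)) L
        hLN hLnorm hfn y hy
      rw [hDL] at hln
      have hnT : l * y ∈ Subgroup.normalizer (T : Set G) := mul_mem (hLN hlL) hy
      obtain ⟨T', hT'⟩ : ∃ T' : Subgroup G, T' = T ⊔ (D ⊓ Subgroup.normalizer (T : Set G)) :=
        ⟨_, rfl⟩
      have hT'S : T' ≤ (S : Subgroup G) := by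
        rw [hT']
        exact sup_le hTS (inf_le_left.trans hD.1)
      have hlt : T < T' := by
        rw [hT']
        refine lt_of_le_of_ne le_sup_left ?_
        intro heq
        apply hD₁
        exact le_sup_right.trans heq.ge
      have hnT' : l * y ∈ Subgroup.normalizer (T' : Set G) := by
        rw [hT']
        exact mem_normalizer_sup hnT hln
      have hc1 : Nat.card T < Nat.card T' := card_lt_of_lt hlt
      have hc2 : Nat.card T' ≤ Nat.card (S : Subgroup G) := Subgroup.card_le_of_le hT'S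
      have hPC' : PC p T' :=
        ih (Nat.card (S : Subgroup G) - Nat.card T') (by omega) T' (hSp.to_le hT'S) rfl
      obtain ⟨j, hj⟩ := hPC'.exists_pow_mem (l * y) hnT'
      have hjT : (l * y) ^ p ^ j ∈ Subgroup.centralizer (T : Set G) :=
        Subgroup.centralizer_le (SetLike.coe_subset_coe.mpr hlt.le) hj
      have hyi : ∀ i : ℕ, y ^ i * ((l * y) ^ i)⁻¹ ∈ L := by
        intro i
        induction i with
        | zero => simp
        | succ i ihi =>
          have h1 : (l * y) ^ i * l⁻¹ * ((l * y) ^ i)⁻¹ ∈ L :=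
            hLnorm _ (pow_mem hnT i) _ (inv_mem hlL)
          have e : y ^ (i + 1) * ((l * y) ^ (i + 1))⁻¹ =
              (y ^ i * ((l * y) ^ i)⁻¹) * ((l * y) ^ i * l⁻¹ * ((l * y) ^ i)⁻¹) := by
            rw [pow_succ, pow_succ]
            group
          rw [e]
          exact mul_mem ihi h1
      have hcentL : ∀ g : G, g ∈ Subgroup.centralizer (T : Set G) → g ∈ L := by
        intro g hg
        rw [hLmem]
        refine ⟨Subgroup.centralizer_le_normalizer _ hg, fun t ht => ?_⟩
        have h1 := (Subgroup.mem_centralizer_iff.mp hg) t ht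
        have e : g * t * g⁻¹ * t⁻¹ = 1 := by
          rw [← h1]
          group
        rw [e]
        exact one_mem _
      have hyjL : y ^ p ^ j ∈ L := by
        have h1 := hyi (p ^ j)
        have h2 := hcentL _ hjT
        have e : y ^ p ^ j = (y ^ p ^ j * ((l * y) ^ p ^ j)⁻¹) * (l * y) ^ p ^ j := by group
        rw [e]
        exact mul_mem h1 h2
      have hyL : y ∈ L := mem_of_pow_mem_of_coprime hyjL (Nat.Coprime.pow_right j hcop)
      have hyL' := ((hLmem y).mp hyL).2
      rw [Subgroup.mem_centralizer_iff]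
      intro t ht
      have hu := hyL' t ht
      have hyu : (y * t * y⁻¹ * t⁻¹) * y = y * (y * t * y⁻¹ * t⁻¹) :=
        (Subgroup.mem_centralizer_iff.mp hyCU) _ hu
      have hpow : ∀ i : ℕ, y ^ i * t * (y ^ i)⁻¹ = (y * t * y⁻¹ * t⁻¹) ^ i * t := by
        intro i
        induction i with
        | zero => simp
        | succ i ihi =>
          have hcomm : y * (y * t * y⁻¹ * t⁻¹) ^ i = (y * t * y⁻¹ * t⁻¹) ^ i * y := by
            have hc : Commute y (y * t * y⁻¹ * t⁻¹) := hyu.symm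
            exact (hc.pow_right i).eq
          calc y ^ (i + 1) * t * (y ^ (i + 1))⁻¹ = y * (y ^ i * t * (y ^ i)⁻¹) * y⁻¹ := by
                rw [pow_succ']; group
            _ = y * ((y * t * y⁻¹ * t⁻¹) ^ i * t) * y⁻¹ := by rw [ihi]
            _ = (y * (y * t * y⁻¹ * t⁻¹) ^ i) * t * y⁻¹ := by group
            _ = ((y * t * y⁻¹ * t⁻¹) ^ i * y) * t * y⁻¹ := by rw [hcomm]
            _ = (y * t * y⁻¹ * t⁻¹) ^ i * (y * t * y⁻¹ * t⁻¹) * t := by group
            _ = (y * t * y⁻¹ * t⁻¹) ^ (i + 1) * t := by rw [pow_succ]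
      have h1 := hpow (orderOf y)
      rw [pow_orderOf_eq_one] at h1
      have h2 : (y * t * y⁻¹ * t⁻¹) ^ orderOf y = 1 := by
        have h3 : (y * t * y⁻¹ * t⁻¹) ^ orderOf y * t = t := by
          rw [← h1]
          simp
        have h4 := congrArg (· * t⁻¹) h3
        simpa using h4
      have h3 : y * t * y⁻¹ * t⁻¹ = 1 :=
        eq_one_of_pgroup_of_coprime hTp (Subgroup.mem_inf.mp hu).1
          (Nat.Coprime.coprime_dvd_left (orderOf_dvd_of_pow_eq_one h2) hcop)
      have h4 : y * t = t * y := by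
        calc y * t = (y * t * y⁻¹ * t⁻¹) * (t * y) := by group
          _ = t * y := by rw [h3, one_mul]
      exact h4.symm

/-- A Frobenius normal p-complement criterion relative to a strongly closed subgroup. Let G be a finite group, S a Sylow p-subgroup and D a subgroup of S strongly closed in S with respect to G. Then G has a normal p-complement if and only if N_G(U) has a normal p-complement for every subgroup U of D with C_D(U) ≤ U. -/
theorem result {G : Type*} [Group G] [Finite G] {p : ℕ} [Fact p.Prime] (S : Sylow p G) (D : Subgroup G) (hD : Cfsg.IsStronglyClosed D (S : Subgroup G)) : Cfsg.HasNormalPComplement p G ↔ ∀ U : Subgroup G, U ≤ D → D ⊓ Subgroup.centralizer (U : Set G) ≤ U → Cfsg.HasNormalPComplement p ↥(Subgroup.normalizer (U : Set G)) := by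
  constructor
  · intro h U _ _
    exact HasNormalPComplement.subgroup h _
  · intro h
    rw [hasNormalPComplement_iff_frobCond]
    have hyp' : ∀ U : Subgroup G, U ≤ D → D ⊓ Subgroup.centralizer (U : Set G) ≤ U →
        FrobS p (Subgroup.normalizer (U : Set G)) :=
      fun U hU hc => (hasNormalPComplement_subgroup_iff _).mp (h U hU hc)
    have hI : ∀ U : Subgroup G, U ≤ D → PC p U := fun U hU => step_closed S D hD hyp' _ U hU rfl
    have hypD := hyp' D le_rfl inf_le_left
    intro Q hQ g hg hcop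
    exact step_all S D hD hI hypD _ Q hQ rfl g hg hcop

end Cfsg.Agent.S3839
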