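import Cfsg.Statements.S3082
import Mathlib
import Cfsg.Agent.S3839
import Cfsg.Agent.S2005
import Cfsg.Agent.S0659
import Cfsg.Agent.S0117
import Cfsg.Agent.Lib.Helper2.ZJeFunctor
import Cfsg.Agent.Lib.Helper6.ZJFam
import Cfsg.Agent.Lib.Helper14.ConjFamily
import Cfsg.Agent.Lib.Helper14.FamilyCtl
import Cfsg.Agent.Lib.Helper1.Cores
import Cfsg.Agent.Lib.Helper1.ThompsonAux

set_option autoImplicit false
open Cfsg

namespace Cfsg.Agent.S3082

open Cfsg.Agent.Lib.Helper14

universe u

/-- The functor `Q ↦ Z(J(Q))`, abelian version. -/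
def zjAFun : ∀ (Q : Type u) [Group Q], Subgroup Q :=
  fun Q _ => Cfsg.thompsonSubgroupA Q ⊓ Subgroup.centralizer (Cfsg.thompsonSubgroupA Q : Set Q)

theorem inducedFunctor_zjAFun {X : Type u} [Group X] (T : Subgroup X) :
    Cfsg.inducedFunctor zjAFun T = Cfsg.centerThompsonAOf T := by
  unfold Cfsg.inducedFunctor zjAFun Cfsg.centerThompsonAOf Cfsg.thompsonSubgroupAOf
  rw [Cfsg.Agent.Lib.Helper2.map_subtype_inf_centralizer]

theorem thompsonSubgroupA_map_le (Q R : Type u) [Group Q] [Group R] (φ : Q ≃* R) :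
    (Cfsg.thompsonSubgroupA Q).map φ.toMonoidHom ≤ Cfsg.thompsonSubgroupA R := by
  unfold Cfsg.thompsonSubgroupA
  rw [Subgroup.map_le_iff_le_comap]
  apply sSup_le
  intro A hA
  rw [← Subgroup.map_le_iff_le_comap]
  apply le_sSup
  obtain ⟨hA1, hA3⟩ := hA
  refine ⟨inferInstance, ?_⟩
  intro B hB
  have hB' : IsMulCommutative (B.map φ.symm.toMonoidHom) := by
    have := hB
    infer_instance
  have h1 := hA3 _ hB'
  rw [Subgroup.card_map_of_injective φ.symm.injective] at h1
  rw [Subgroup.card_map_of_injective φ.injective]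
  exact h1

theorem zjAFun_map_le (Q R : Type u) [Group Q] [Group R] (φ : Q ≃* R) :
    (zjAFun Q).map φ.toMonoidHom ≤ zjAFun R := by
  rintro _ ⟨x, hx, rfl⟩
  obtain ⟨hx1, hx2⟩ := Subgroup.mem_inf.mp hx
  refine Subgroup.mem_inf.mpr ⟨thompsonSubgroupA_map_le Q R φ (Subgroup.mem_map_of_mem _ hx1), ?_⟩
  rw [Subgroup.mem_centralizer_iff]
  intro y hy
  have hy' : φ.symm y ∈ Cfsg.thompsonSubgroupA Q :=
    thompsonSubgroupA_map_le R Q φ.symm (Subgroup.mem_map_of_mem _ hy)
  have h1 := (Subgroup.mem_centralizer_iff.mp hx2) _ hy'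
  have h2 := congrArg φ h1
  rw [map_mul, map_mul, MulEquiv.apply_symm_apply] at h2
  exact h2

theorem isCharPFunctor_zjAFun (p : ℕ) [Fact p.Prime] : Cfsg.IsCharPFunctor.{u} p zjAFun := by
  have hp : p.Prime := Fact.out
  constructor
  · intro Q _ _ hQ hnt
    obtain ⟨x, hxne⟩ := exists_ne (1 : Q)
    obtain ⟨A, hA⟩ := Cfsg.Agent.Lib.Helper6.famX_nonempty 0 (⊤ : Subgroup Q)
    have hA' : A ∈ Cfsg.maxAbelianSubgroups Q :=
      (Cfsg.Agent.Lib.Helper6.mem_maxAbelianSubgroups_iff Q A).mpr hA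
    have hcard := hA'.2 (Subgroup.zpowers x) inferInstance
    have hAne : A ≠ ⊥ := by
      intro h
      rw [h, Subgroup.card_bot, Nat.card_zpowers] at hcard
      have h1 : orderOf x = 1 := by
        have := orderOf_pos x
        omega
      exact hxne (orderOf_eq_one_iff.mp h1)
    have hJne : Cfsg.thompsonSubgroupA Q ≠ ⊥ := by
      intro h
      apply hAne
      have : A ≤ Cfsg.thompsonSubgroupA Q := le_sSup hA'
      exact le_bot_iff.mp (h ▸ this)
    have hJnt : Nontrivial ↥(Cfsg.thompsonSubgroupA Q) := by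
      obtain ⟨v, hv⟩ := (Subgroup.ne_bot_iff_exists_ne_one).mp hJne
      exact ⟨⟨v, 1, hv⟩⟩
    have hJp : IsPGroup p ↥(Cfsg.thompsonSubgroupA Q) := hQ.to_subgroup _
    have hcnt := hJp.center_nontrivial
    obtain ⟨z, hz1⟩ := exists_ne (1 : ↥(Subgroup.center ↥(Cfsg.thompsonSubgroupA Q)))
    intro hbot
    have hmem : ((z : ↥(Cfsg.thompsonSubgroupA Q)) : Q) ∈ zjAFun Q := by
      unfold zjAFun
      refine Subgroup.mem_inf.mpr ⟨(z : ↥(Cfsg.thompsonSubgroupA Q)).2, ?_⟩
      rw [Subgroup.mem_centralizer_iff]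
      intro y hy
      have h1 := (Subgroup.mem_center_iff.mp z.2) ⟨y, hy⟩
      exact congrArg Subtype.val h1
    rw [hbot, Subgroup.mem_bot] at hmem
    apply hz1
    apply Subtype.ext
    apply Subtype.ext
    exact hmem
  · intro Q R _ _ _ hQ φ
    apply le_antisymm (zjAFun_map_le Q R φ)
    intro y hy
    have h1 := zjAFun_map_le R Q φ.symm (Subgroup.mem_map_of_mem _ hy)
    refine ⟨φ.symm y, h1, ?_⟩
    simp

theorem normalizer_le_normalizer_omegaOne {G : Type*} [Group G] [Finite G] (p : ℕ)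
    (H : Subgroup G) :
    Subgroup.normalizer (H : Set G) ≤
      Subgroup.normalizer ((Cfsg.omegaOne p H : Subgroup G) : Set G) := by
  intro g hg
  apply Cfsg.Agent.Lib.Helper1.mem_normalizer_of_conj_mem
  intro x hx
  have key : (Cfsg.omegaOne p H).map (MulAut.conj g).toMonoidHom ≤ Cfsg.omegaOne p H := by
    unfold Cfsg.omegaOne
    rw [MonoidHom.map_closure, Subgroup.closure_le]
    rintro _ ⟨y, ⟨hyH, hyp⟩, rfl⟩
    apply Subgroup.subset_closure
    refine ⟨(Subgroup.mem_normalizer_iff.mp hg y).mp hyH, ?_⟩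
    show (g * y * g⁻¹) ^ p = 1
    rw [conj_pow, hyp]
    group
  exact key (Subgroup.mem_map_of_mem _ hx)

/-- Restriction of a normalizer having a normal `p`-complement to a subgroup. -/
theorem pnilp_normalizer_sub {p : ℕ} [Fact p.Prime] {W : ∀ (Q : Type u) [Group Q], Subgroup Q}
    (hW : Cfsg.IsCharPFunctor.{u} p W) {G : Type u} [Group G] [Finite G] (L E : Subgroup G)
    (hEL : E ≤ L) (hE : IsPGroup p E)
    (h : PNilp p ↥(Subgroup.normalizer ((Cfsg.inducedFunctor W E : Subgroup G) : Set G))) :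
    PNilp p ↥(Subgroup.normalizer
      ((Cfsg.inducedFunctor W (E.subgroupOf L) : Subgroup ↥L) : Set ↥L)) := by
  have hmap : (Cfsg.inducedFunctor W (E.subgroupOf L)).map L.subtype =
      Cfsg.inducedFunctor W E := by
    have hE' : IsPGroup p ↥(E.subgroupOf L) := hE.comap_subtype
    have h1 := inducedFunctor_map hW L.subtype L.subtype_injective (E.subgroupOf L) hE'
    rw [Subgroup.map_subgroupOf_eq_of_le hEL] at h1
    exact h1.symm
  have hmem : ∀ x : ↥(Subgroup.normalizer
      ((Cfsg.inducedFunctor W (E.subgroupOf L) : Subgroup ↥L) : Set ↥L)),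
      (L.subtype.comp (Subgroup.subtype _)) x ∈
        Subgroup.normalizer ((Cfsg.inducedFunctor W E : Subgroup G) : Set G) := by
    intro x
    rw [← hmap]
    exact Subgroup.le_normalizer_map L.subtype (Subgroup.mem_map_of_mem _ x.2)
  apply h.of_injective ((L.subtype.comp (Subgroup.subtype _)).codRestrict _ hmem)
  intro x y hxy
  have h2 : ((x : ↥L) : G) = ((y : ↥L) : G) := by simpa using congrArg Subtype.val hxy
  exact Subtype.ext (Subtype.ext h2)

theorem pnilp_of_ih {p : ℕ} [Fact p.Prime] {W : ∀ (Q : Type u) [Group Q], Subgroup Q}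
    (hW : Cfsg.IsCharPFunctor.{u} p W) {n : ℕ}
    (ih : ∀ (X : Type u) [Group X] [Finite X], Nat.card X ≤ n → ∀ (P : Sylow p X)
      (D : Subgroup X), Cfsg.IsStronglyClosed D (P : Subgroup X) →
      PNilp p ↥(Subgroup.normalizer ((Cfsg.inducedFunctor W D : Subgroup X) : Set X)) →
      PNilp p X)
    {G : Type u} [Group G] [Finite G] (L R E : Subgroup G) (hcard : Nat.card ↥L ≤ n)
    (hRL : R ≤ L) (hR : IsPGroup p R) (hidx : ¬ p ∣ R.relIndex L) (hER : E ≤ R)
    (hcl : ∀ x ∈ E, ∀ l ∈ L, l * x * l⁻¹ ∈ R → l * x * l⁻¹ ∈ E)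
    (h : PNilp p ↥(Subgroup.normalizer ((Cfsg.inducedFunctor W E : Subgroup G) : Set G))) :
    PNilp p ↥L := by
  have hR' : IsPGroup p ↥(R.subgroupOf L) := hR.comap_subtype
  have hR'coe : ∀ x : ↥L, x ∈ ((hR'.toSylow hidx : Sylow p ↥L) : Subgroup ↥L) ↔ (x : G) ∈ R := by
    intro x
    exact (IsPGroup.mem_toSylow hR' hidx).trans Subgroup.mem_subgroupOf
  refine ih ↥L hcard (hR'.toSylow hidx) (E.subgroupOf L) ⟨?_, ?_⟩
    (pnilp_normalizer_sub hW L E (hER.trans hRL) (hR.to_le hER) h)
  · intro x hx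
    exact (hR'coe x).mpr (hER (Subgroup.mem_subgroupOf.mp hx))
  · intro x hx g hg
    rw [Subgroup.mem_subgroupOf] at hx ⊢
    have h1 := (hR'coe _).mp hg
    exact hcl x hx g g.2 (by simpa using h1)

theorem sc_main {p : ℕ} [hp : Fact p.Prime] (W : ∀ (Q : Type u) [Group Q], Subgroup Q)
    (hW : Cfsg.IsCharPFunctor.{u} p W)
    (hS : ∀ (X : Type u) [Group X] [Finite X] (P : Sylow p X),
      PNilp p ↥(Subgroup.normalizer
        ((Cfsg.inducedFunctor W (P : Subgroup X) : Subgroup X) : Set X)) → PNilp p X) :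
    ∀ (n : ℕ) (G : Type u) [Group G] [Finite G], Nat.card G ≤ n → ∀ (P : Sylow p G)
      (D : Subgroup G), Cfsg.IsStronglyClosed D (P : Subgroup G) →
      PNilp p ↥(Subgroup.normalizer ((Cfsg.inducedFunctor W D : Subgroup G) : Set G)) →
      PNilp p G := by
  intro n
  induction n with
  | zero =>
    intro G _ _ hn
    exfalso
    have := Nat.card_pos (α := G)
    omega
  | succ n ih =>
    intro G _ _ hn P D hD hN
    by_contra hG
    have hDP : D ≤ (P : Subgroup G) := hD.1
    have hDp : IsPGroup p D := P.isPGroup'.to_le hDP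
    -- a bad subgroup of `D`
    have hex : ∃ U : Subgroup G, U ≤ D ∧ U ≠ ⊥ ∧
        ¬ PNilp p ↥(Subgroup.normalizer (U : Set G)) := by
      by_contra hcon
      push Not at hcon
      apply hG
      by_cases hDbot : D = ⊥
      · have h1 : Cfsg.inducedFunctor W D = ⊥ := by
          rw [eq_bot_iff]; exact (inducedFunctor_le D).trans (le_of_eq hDbot)
        have h2 : Subgroup.normalizer ((Cfsg.inducedFunctor W D : Subgroup G) : Set G) = ⊤ := by
          rw [h1]; exact Subgroup.normalizer_eq_top_iff.mpr inferInstance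
        exact Cfsg.Agent.S2005.pnilp_of_normalizer_eq_top h2 hN
      · rw [pnilp_iff, Cfsg.Agent.S3839.result P D hD]
        intro U hU hcent
        rw [← pnilp_iff]
        apply hcon U hU
        rintro rfl
        apply hDbot
        rw [eq_bot_iff]
        refine le_trans ?_ hcent
        refine le_inf le_rfl ?_
        intro x _
        rw [Subgroup.mem_centralizer_iff]
        intro y hy
        rw [Subgroup.coe_bot, Set.mem_singleton_iff] at hy
        rw [hy]; simp
    obtain ⟨U₁, hU₁⟩ := hex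
    obtain ⟨U₀, ⟨hU₀D, hU₀ne, hU₀N⟩, hmax₀⟩ := Set.exists_max_image
      {U : Subgroup G | U ≤ D ∧ U ≠ ⊥ ∧ ¬ PNilp p ↥(Subgroup.normalizer (U : Set G))}
      (fun U => Nat.card ↥(D ⊓ Subgroup.normalizer (U : Set G))) (Set.toFinite _) ⟨U₁, hU₁⟩
    -- a fully normalized conjugate
    obtain ⟨h, hle, hidx⟩ := exists_fullyNormalized_conj P (hU₀D.trans hDP)
    obtain ⟨g, hg, hgN⟩ := exists_conj_normalizer_le P hidx (A := U₀) (h := h) rfl
    obtain ⟨U, hUdef⟩ : ∃ U, U = U₀.map (MulAut.conj h).toMonoidHom := ⟨_, rfl⟩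
    rw [← hUdef] at hle hidx hg hgN
    have hUD : U ≤ D := by
      intro x hx
      have hxP : x ∈ (P : Subgroup G) := hle hx
      rw [hUdef, mem_map_conj_iff] at hx
      have h1 := hD.2 _ (hU₀D hx) h (by
        have e : h * (h⁻¹ * x * h) * h⁻¹ = x := by group
        rw [e]; exact hxP)
      have e : h * (h⁻¹ * x * h) * h⁻¹ = x := by group
      rwa [e] at h1
    have hUne : U ≠ ⊥ := hUdef ▸ map_conj_ne_bot hU₀ne h
    have hUN : ¬ PNilp p ↥(Subgroup.normalizer (U : Set G)) := by
      intro hcon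
      apply hU₀N
      have e : Subgroup.normalizer (U : Set G) =
          (Subgroup.normalizer (U₀ : Set G)).map (MulAut.conj h).toMonoidHom := by
        rw [hUdef]; exact normalizer_map_conj U₀ h
      rw [e] at hcon
      apply hcon.of_injective
        ((MulAut.conj h).toMonoidHom.subgroupMap (Subgroup.normalizer (U₀ : Set G)))
      intro x y hxy
      have h1 := congrArg Subtype.val hxy
      exact Subtype.ext ((MulAut.conj h).injective h1)
    have hmax : ∀ V : Subgroup G, V ≤ D → V ≠ ⊥ →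
        ¬ PNilp p ↥(Subgroup.normalizer (V : Set G)) →
        Nat.card ↥(D ⊓ Subgroup.normalizer (V : Set G)) ≤
          Nat.card ↥(D ⊓ Subgroup.normalizer (U : Set G)) := by
      intro V hV1 hV2 hV3
      refine (hmax₀ V ⟨hV1, hV2, hV3⟩).trans ?_
      have h1 : (D ⊓ Subgroup.normalizer (U₀ : Set G)).map (MulAut.conj g).toMonoidHom ≤
          D ⊓ Subgroup.normalizer (U : Set G) := by
        rintro _ ⟨x, hx, rfl⟩
        have hx' : (MulAut.conj g).toMonoidHom x ∈
            (P : Subgroup G) ⊓ Subgroup.normalizer (U : Set G) :=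
          hgN (Subgroup.mem_map_of_mem _ (Subgroup.mem_inf.mpr ⟨hDP hx.1, hx.2⟩))
        exact Subgroup.mem_inf.mpr ⟨hD.2 x hx.1 g hx'.1, hx'.2⟩
      calc Nat.card ↥(D ⊓ Subgroup.normalizer (U₀ : Set G))
          = Nat.card ↥((D ⊓ Subgroup.normalizer (U₀ : Set G)).map
              (MulAut.conj g).toMonoidHom) := (card_map_conj _ g).symm
        _ ≤ _ := Subgroup.card_le_of_le h1
    clear hmax₀ hU₀D hU₀ne hU₀N hg hgN
    obtain ⟨L, hLdef⟩ : ∃ L, L = Subgroup.normalizer (U : Set G) := ⟨_, rfl⟩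
    rw [← hLdef] at hUN hidx hmax
    have hUL : U ≤ L := hLdef ▸ Subgroup.le_normalizer
    have hLtop : L = ⊤ := by
      by_contra hL
      have hcard : Nat.card ↥L ≤ n := by
        have := Cfsg.Agent.S2005.card_subgroup_lt L hL
        omega
      have key : PNilp p ↥(Subgroup.normalizer
          ((Cfsg.inducedFunctor W (D ⊓ L) : Subgroup G) : Set G)) → False := by
        intro hh
        apply hUN
        refine pnilp_of_ih hW ih L ((P : Subgroup G) ⊓ L) (D ⊓ L) hcard inf_le_right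
          (P.isPGroup'.to_le inf_le_left) hidx (inf_le_inf_right L hDP) ?_ hh
        intro x hx l hl hlx
        exact Subgroup.mem_inf.mpr ⟨hD.2 x hx.1 l hlx.1, hlx.2⟩
      by_cases hDL : D ≤ L
      · apply key
        rw [inf_eq_left.mpr hDL]
        exact hN
      · by_cases hV : PNilp p ↥(Subgroup.normalizer
            ((Cfsg.inducedFunctor W (D ⊓ L) : Subgroup G) : Set G))
        · exact key hV
        · have hDLp : IsPGroup p ↥(D ⊓ L) := hDp.to_le inf_le_left
          have hDLne : D ⊓ L ≠ ⊥ := by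
            intro hbot
            apply hUne
            rw [eq_bot_iff, ← hbot]
            exact le_inf hUD hUL
          have h1 := hmax _ ((inducedFunctor_le (D ⊓ L)).trans inf_le_left)
            (inducedFunctor_ne_bot hW (D ⊓ L) hDLp hDLne) hV
          have h2 := card_lt_card_normalizer hDp (inf_le_left : D ⊓ L ≤ D)
            (by intro e; exact hDL (e ▸ inf_le_right))
          have h3 : Nat.card ↥(D ⊓ Subgroup.normalizer ((D ⊓ L : Subgroup G) : Set G)) ≤
              Nat.card ↥(D ⊓ Subgroup.normalizer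
                ((Cfsg.inducedFunctor W (D ⊓ L) : Subgroup G) : Set G)) :=
            Subgroup.card_le_of_le (inf_le_inf_left D
              (Cfsg.Agent.S2005.le_normalizer_inducedFunctor hW (D ⊓ L) hDLp))
          omega
    have hUn : U.Normal := by
      rw [← Subgroup.normalizer_eq_top_iff, ← hLdef]; exact hLtop
    have hUp : IsPGroup p U := hDp.to_le hUD
    obtain ⟨T, hTdef⟩ : ∃ T, T = D ⊓ Cfsg.pCore p G := ⟨_, rfl⟩
    have hTD : T ≤ D := hTdef ▸ inf_le_left
    have hcoreP : Cfsg.pCore p G ≤ (P : Subgroup G) := Cfsg.Agent.Lib.Helper1.pCore_le_sylow P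
    have hcoren : (Cfsg.pCore p G).Normal := Cfsg.Agent.Lib.Helper1.pCore_normal p
    have hTn : T.Normal := by
      constructor
      intro x hx g
      rw [hTdef] at hx ⊢
      have h1 : g * x * g⁻¹ ∈ Cfsg.pCore p G := hcoren.conj_mem x hx.2 g
      exact Subgroup.mem_inf.mpr ⟨hD.2 x hx.1 g (hcoreP h1), h1⟩
    have hTne : T ≠ ⊥ := by
      intro hbot
      apply hUne
      rw [eq_bot_iff, ← hbot, hTdef]
      exact le_inf hUD (Cfsg.Agent.Lib.Helper1.le_pCore p hUn hUp)
    by_cases hDT : D ≤ Cfsg.pCore p G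
    · have hDn : D.Normal := by
        have e : T = D := by rw [hTdef]; exact inf_eq_left.mpr hDT
        rw [← e]; exact hTn
      apply hG
      apply Cfsg.Agent.S2005.pnilp_of_normalizer_eq_top _ hN
      rw [eq_top_iff]
      refine le_trans ?_ (Cfsg.Agent.S2005.le_normalizer_inducedFunctor hW D hDp)
      rw [Subgroup.normalizer_eq_top_iff.mpr hDn]
    have hTP : T ≤ (P : Subgroup G) := hTD.trans hDP
    have hπ : Function.Surjective (QuotientGroup.mk' T) := QuotientGroup.mk'_surjective T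
    obtain ⟨Db, hDbdef⟩ : ∃ Db, Db = D.map (QuotientGroup.mk' T) := ⟨_, rfl⟩
    have hmemπ : ∀ (A : Subgroup G), T ≤ A → ∀ x : G,
        QuotientGroup.mk' T x ∈ A.map (QuotientGroup.mk' T) → x ∈ A := by
      intro A hTA x hx
      obtain ⟨a, ha, hax⟩ := hx
      have h1 : a⁻¹ * x ∈ T := QuotientGroup.eq.mp hax
      have e : x = a * (a⁻¹ * x) := by group
      rw [e]; exact A.mul_mem ha (hTA h1)
    have hDbP : Cfsg.IsStronglyClosed Db
        ((P.mapSurjective hπ : Sylow p (G ⧸ T)) : Subgroup (G ⧸ T)) := by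
      rw [Sylow.coe_mapSurjective]
      refine ⟨hDbdef ▸ Subgroup.map_mono hDP, ?_⟩
      intro x hx g hgx
      rw [hDbdef] at hx ⊢
      obtain ⟨a, ha, rfl⟩ := hx
      obtain ⟨b, rfl⟩ := hπ g
      have h1 : QuotientGroup.mk' T (b * a * b⁻¹) ∈
          (P : Subgroup G).map (QuotientGroup.mk' T) := by
        simpa using hgx
      have h2 := hmemπ _ hTP _ h1
      have h3 := hD.2 a ha b h2
      have h4 : QuotientGroup.mk' T (b * a * b⁻¹) ∈ D.map (QuotientGroup.mk' T) :=
        Subgroup.mem_map_of_mem _ h3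
      simpa using h4
    have hDbp : IsPGroup p ↥Db := hDbdef ▸ hDp.map _
    have hDbne : Db ≠ ⊥ := by
      intro hbot
      apply hDT
      intro d hd
      have h1 : QuotientGroup.mk' T d ∈ Db := hDbdef ▸ Subgroup.mem_map_of_mem _ hd
      rw [hbot, Subgroup.mem_bot] at h1
      have h2 : d ∈ T := (QuotientGroup.eq_one_iff d).mp h1
      rw [hTdef] at h2
      exact h2.2
    obtain ⟨Wb, hWbdef⟩ : ∃ Wb, Wb = Cfsg.inducedFunctor W Db := ⟨_, rfl⟩
    have hWbne : Wb ≠ ⊥ := hWbdef ▸ inducedFunctor_ne_bot hW Db hDbp hDbne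
    have hWbDb : Wb ≤ Db := hWbdef ▸ inducedFunctor_le Db
    obtain ⟨V, hVdef⟩ : ∃ V, V = Wb.comap (QuotientGroup.mk' T) := ⟨_, rfl⟩
    have hVD : V ≤ D := by
      intro x hx
      rw [hVdef, Subgroup.mem_comap] at hx
      exact hmemπ D hTD x (hDbdef ▸ hWbDb hx)
    have hVT : ¬ V ≤ T := by
      intro hle
      apply hWbne
      rw [eq_bot_iff]
      intro y hy
      obtain ⟨x, rfl⟩ := hπ y
      have hxV : x ∈ V := by rw [hVdef]; exact hy
      rw [Subgroup.mem_bot]
      exact (QuotientGroup.eq_one_iff x).mpr (hle hxV)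
    have hNV : Subgroup.normalizer (V : Set G) =
        (Subgroup.normalizer (Wb : Set (G ⧸ T))).comap (QuotientGroup.mk' T) := by
      rw [hVdef]; exact (Subgroup.comap_normalizer_eq_of_surjective Wb hπ).symm
    have hNVtop : Subgroup.normalizer (V : Set G) ≠ ⊤ := by
      intro htop
      apply hVT
      have hVn : V.Normal := Subgroup.normalizer_eq_top_iff.mp htop
      rw [hTdef]
      exact le_inf hVD (Cfsg.Agent.Lib.Helper1.le_pCore p hVn (hDp.to_le hVD))
    have hPNV : (P : Subgroup G) ≤ Subgroup.normalizer (V : Set G) := by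
      intro g hg
      rw [hNV, Subgroup.mem_comap]
      have h1 : g ∈ Subgroup.normalizer (D : Set G) :=
        Cfsg.Agent.S3839.sylow_le_normalizer_of_stronglyClosed hD hg
      have h2 : QuotientGroup.mk' T g ∈ Subgroup.normalizer (Db : Set (G ⧸ T)) := by
        rw [hDbdef]; exact Subgroup.le_normalizer_map _ (Subgroup.mem_map_of_mem _ h1)
      rw [hWbdef]
      exact Cfsg.Agent.S2005.le_normalizer_inducedFunctor hW Db hDbp h2
    have hNVp : PNilp p ↥(Subgroup.normalizer (V : Set G)) := by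
      have hcard : Nat.card ↥(Subgroup.normalizer (V : Set G)) ≤ n := by
        have := Cfsg.Agent.S2005.card_subgroup_lt _ hNVtop
        omega
      refine pnilp_of_ih hW ih _ (P : Subgroup G) D hcard hPNV P.isPGroup' ?_ hDP ?_ hN
      · intro hdvd
        exact P.not_dvd_index (dvd_trans hdvd (Subgroup.relIndex_dvd_index_of_le hPNV))
      · intro x hx l _ hlx
        exact hD.2 x hx l hlx
    have hNWb : PNilp p ↥(Subgroup.normalizer (Wb : Set (G ⧸ T))) := by
      have hmem : ∀ x : ↥(Subgroup.normalizer (V : Set G)),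
          ((QuotientGroup.mk' T).comp (Subgroup.subtype _)) x ∈
            Subgroup.normalizer (Wb : Set (G ⧸ T)) := by
        intro x
        have h1 : (x : G) ∈ (Subgroup.normalizer (Wb : Set (G ⧸ T))).comap
            (QuotientGroup.mk' T) := by
          rw [← hNV]; exact x.2
        exact h1
      apply hNVp.of_surjective
        (((QuotientGroup.mk' T).comp (Subgroup.subtype _)).codRestrict _ hmem)
      rintro ⟨y, hy⟩
      obtain ⟨x, rfl⟩ := hπ y
      refine ⟨⟨x, ?_⟩, rfl⟩
      rw [hNV, Subgroup.mem_comap]; exact hy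
    have hGb : PNilp p (G ⧸ T) := by
      have hcard : Nat.card (G ⧸ T) ≤ n := by
        have := Cfsg.Agent.S2005.card_quotient_lt T hTne
        omega
      exact ih (G ⧸ T) hcard (P.mapSurjective hπ) Db hDbP (hWbdef ▸ hNWb)
    -- the final step
    obtain ⟨Mb, hMbn, hMbcop, k, hk⟩ := hGb
    obtain ⟨K, hKdef⟩ : ∃ K, K = Mb.comap (QuotientGroup.mk' T) := ⟨_, rfl⟩
    have hKn : K.Normal := hKdef ▸ hMbn.comap _
    have hKidx : K.index = p ^ k := by
      rw [hKdef, Subgroup.index_comap_of_surjective Mb hπ]; exact hk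
    have hKp : ∀ x ∈ K, (∃ m : ℕ, x ^ p ^ m = 1) → x ∈ T := by
      rintro x hx ⟨m, hm⟩
      rw [hKdef, Subgroup.mem_comap] at hx
      apply (QuotientGroup.eq_one_iff x).mp
      have h1 : orderOf (QuotientGroup.mk' T x) ∣ p ^ m := by
        apply orderOf_dvd_of_pow_eq_one
        rw [← map_pow, hm, map_one]
      have h2 : orderOf (QuotientGroup.mk' T x) ∣ Nat.card Mb :=
        Subgroup.orderOf_dvd_natCard Mb hx
      have hc : (Nat.card Mb).Coprime (p ^ m) := Nat.Coprime.pow_right m hMbcop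
      have h3 : orderOf (QuotientGroup.mk' T x) = 1 :=
        Nat.eq_one_of_dvd_coprimes hc h2 h1
      exact orderOf_eq_one_iff.mp h3
    obtain ⟨N', hN'def⟩ : ∃ N', N' = D ⊔ K := ⟨_, rfl⟩
    have hDN' : D ≤ N' := hN'def ▸ le_sup_left
    have hKN' : K ≤ N' := hN'def ▸ le_sup_right
    have hDsubp : IsPGroup p ↥(D.subgroupOf N') := hDp.comap_subtype
    obtain ⟨Q, hQ⟩ := hDsubp.exists_le_sylow
    have hQeq : (Q : Subgroup ↥N') = D.subgroupOf N' := by
      apply le_antisymm _ hQ
      intro q hq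
      rw [Subgroup.mem_subgroupOf]
      have hqN : (q : G) ∈ D ⊔ K := hN'def ▸ q.2
      obtain ⟨d, hd, k', hk', hdk⟩ := Subgroup.mem_sup_of_normal_right.mp hqN
      have hk'T : k' ∈ T := by
        apply hKp k' hk'
        have hdQ : (⟨d, hDN' hd⟩ : ↥N') ∈ Q := hQ (Subgroup.mem_subgroupOf.mpr hd)
        have hk'Q : (⟨k', hKN' hk'⟩ : ↥N') ∈ Q := by
          have e : (⟨k', hKN' hk'⟩ : ↥N') = (⟨d, hDN' hd⟩ : ↥N')⁻¹ * q := by
            apply Subtype.ext
            simp [← hdk]
          rw [e]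
          exact mul_mem (inv_mem hdQ) hq
        obtain ⟨m, hm⟩ := Q.isPGroup' ⟨⟨k', hKN' hk'⟩, hk'Q⟩
        refine ⟨m, ?_⟩
        have h1 := congrArg (fun z : ↥(Q : Subgroup ↥N') => ((z : ↥N') : G)) hm
        simpa using h1
      rw [← hdk]
      exact D.mul_mem hd (hTD hk'T)
    have hN'p : PNilp p ↥N' := by
      apply hS ↥N' Q
      rw [hQeq]
      exact pnilp_normalizer_sub hW N' D hDN' hDp hN
    have hKp' : PNilp p ↥K :=
      hN'p.of_injective (Subgroup.inclusion hKN') (Subgroup.inclusion_injective hKN')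
    obtain ⟨O, hOn, hOcop, ⟨j, hj⟩, hOmem⟩ := hKp'.exists_compl
    apply hG
    refine ⟨O.map K.subtype, ?_, ?_, j + k, ?_⟩
    · constructor
      rintro _ ⟨o, ho, rfl⟩ g
      have hgK : g * (o : G) * g⁻¹ ∈ K := hKn.conj_mem _ o.2 g
      refine ⟨⟨g * (o : G) * g⁻¹, hgK⟩, ?_, rfl⟩
      apply hOmem
      have h1 : orderOf (⟨g * (o : G) * g⁻¹, hgK⟩ : ↥K) = orderOf o := by
        rw [← Subgroup.orderOf_coe, ← Subgroup.orderOf_coe]
        exact (MulAut.conj g).orderOf_eq (o : G)
      rw [h1]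
      exact Nat.Coprime.coprime_dvd_left (Subgroup.orderOf_dvd_natCard O ho) hOcop
    · rw [Subgroup.card_map_of_injective K.subtype_injective]
      exact hOcop
    · rw [Subgroup.index_map_subtype, hj, hKidx, pow_add]

/-- The Glauberman–Thompson normal p-complement criterion for strongly closed subgroups, p odd. Let G be a finite group, P a Sylow p-subgroup and D a subgroup of P strongly closed in P with respect to G. If N_G(Z(J(D))) has a normal p-complement (J(D) generated by the abelian subgroups of D of largest order), or N_G(Ω₁(Z(J_e(D)))) has one (J_e(D) generated by the elementary abelian subgroups of largest order), then G has a normal p-complement. -/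
theorem result {G : Type*} [Group G] [Finite G] {p : ℕ} [Fact p.Prime] (hp : p ≠ 2) (P : Sylow p G) (D : Subgroup G) (hD : Cfsg.IsStronglyClosed D (P : Subgroup G)) (h : Cfsg.HasNormalPComplement p ↥(Subgroup.normalizer ((Cfsg.centerThompsonAOf D) : Set G)) ∨ Cfsg.HasNormalPComplement p ↥(Subgroup.normalizer ((Cfsg.omegaOne p (Cfsg.centerThompsonOf p D)) : Set G))) : Cfsg.HasNormalPComplement p G := by
  rw [← pnilp_iff]
  rcases h with h | h
  · rw [← inducedFunctor_zjAFun, ← pnilp_iff] at h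
    refine sc_main zjAFun (isCharPFunctor_zjAFun p) ?_ (Nat.card G) G le_rfl P D hD h
    intro X _ _ Q hQ
    rw [pnilp_iff, inducedFunctor_zjAFun] at hQ
    rw [pnilp_iff]
    exact Cfsg.Agent.S0659.result hp Q hQ
  · have h' : PNilp p ↥(Subgroup.normalizer ((Cfsg.centerThompsonOf p D : Subgroup G) : Set G)) :=
      (pnilp_iff.mpr h).of_injective
        (Subgroup.inclusion (normalizer_le_normalizer_omegaOne p _))
        (Subgroup.inclusion_injective _)
    rw [← Cfsg.Agent.Lib.Helper2.inducedFunctor_zjFun'] at h'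
    refine sc_main (Cfsg.Agent.Lib.Helper2.zjFun p) (Cfsg.Agent.Lib.Helper2.isCharPFunctor_zjFun p)
      ?_ (Nat.card G) G le_rfl P D hD h'
    intro X _ _ Q hQ
    rw [Cfsg.Agent.Lib.Helper2.inducedFunctor_zjFun', pnilp_iff] at hQ
    rw [pnilp_iff]
    exact (Cfsg.Agent.S0117.result hp Q).mpr hQ

end Cfsg.Agent.S3082
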