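import Cfsg.Statements.S3073
import Mathlib
import Cfsg.Agent.S3082
import Cfsg.Agent.S0659
import Cfsg.Agent.Lib.Helper1.AGFam
import Cfsg.Agent.Lib.Helper1.ThompsonNPC

set_option autoImplicit false
universe u
open Cfsg

namespace Cfsg.Agent.S3073

open Cfsg.Agent.S3082 Cfsg.Agent.Lib.Helper1 Cfsg.Agent.Lib.Helper1.AG


instance secNormal {Q : Type u} [Group Q] (Z : Subgroup Q) :
    (Z.subgroupOf (Subgroup.centralizer (Z : Set Q))).Normal := by
  constructor
  intro n hn g
  rw [Subgroup.mem_subgroupOf] at hn ⊢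
  have h := (Subgroup.mem_centralizer_iff.mp g.2) n hn
  have e : ((g * n * g⁻¹ : ↥(Subgroup.centralizer (Z : Set Q))) : Q) = n := by
    push_cast
    rw [← h, mul_inv_cancel_right]
  rw [e]; exact hn

/-- The section `C_Q(Z) / Z`. -/
abbrev Sec {Q : Type u} [Group Q] (Z : Subgroup Q) : Type u :=
  ↥(Subgroup.centralizer (Z : Set Q)) ⧸ Z.subgroupOf (Subgroup.centralizer (Z : Set Q))

/-- The preimage in `C_Q(Z)` of a subgroup of the section, viewed in `Q`. -/
def liftSec {Q : Type u} [Group Q] (Z : Subgroup Q) (B : Subgroup (Sec Z)) : Subgroup Q :=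
  (B.comap (QuotientGroup.mk' (Z.subgroupOf (Subgroup.centralizer (Z : Set Q))))).map
    (Subgroup.centralizer (Z : Set Q)).subtype

theorem mem_liftSec {Q : Type u} [Group Q] (Z : Subgroup Q) (B : Subgroup (Sec Z)) (x : Q) :
    x ∈ liftSec Z B ↔ ∃ h : x ∈ Subgroup.centralizer (Z : Set Q),
      (QuotientGroup.mk (⟨x, h⟩ : ↥(Subgroup.centralizer (Z : Set Q))) : Sec Z) ∈ B := by
  unfold liftSec
  constructor
  · rintro ⟨c, hc, rfl⟩
    exact ⟨c.2, hc⟩
  · rintro ⟨h, hx⟩
    exact ⟨⟨x, h⟩, hx, rfl⟩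

theorem liftSec_le {Q : Type u} [Group Q] (Z : Subgroup Q) (B : Subgroup (Sec Z)) :
    liftSec Z B ≤ Subgroup.centralizer (Z : Set Q) := by
  intro x hx
  obtain ⟨h, -⟩ := (mem_liftSec Z B x).mp hx
  exact h

theorem le_liftSec {Q : Type u} [Group Q] (Z : Subgroup Q)
    (hZ : Z ≤ Subgroup.centralizer (Z : Set Q)) (B : Subgroup (Sec Z)) :
    Z ≤ liftSec Z B := by
  intro x hx
  rw [mem_liftSec]
  refine ⟨hZ hx, ?_⟩
  have : (QuotientGroup.mk (⟨x, hZ hx⟩ : ↥(Subgroup.centralizer (Z : Set Q))) : Sec Z) = 1 := by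
    rw [QuotientGroup.eq_one_iff]
    exact hx
  rw [this]; exact B.one_mem

/-- The functor: iterate `Z(J(-))` through the sections `C(Z)/Z`. -/
def Kf : ℕ → ∀ (Q : Type u) [Group Q], Subgroup Q
  | 0, _, _ => ⊥
  | (n + 1), Q, _ => liftSec (zjAFun Q) (Kf n (Sec (zjAFun Q)))

theorem Kf_succ (n : ℕ) (Q : Type u) [Group Q] :
    Kf (n + 1) Q = liftSec (zjAFun Q) (Kf n (Sec (zjAFun Q))) := rfl

/-- The map of centralizers induced by a homomorphism. -/
def cenMap {Q G : Type u} [Group Q] [Group G] (ι : Q →* G) (Z : Subgroup Q) (Z' : Subgroup G)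
    (h : Z' = Z.map ι) :
    ↥(Subgroup.centralizer (Z : Set Q)) →* ↥(Subgroup.centralizer (Z' : Set G)) :=
  (ι.comp (Subgroup.centralizer (Z : Set Q)).subtype).codRestrict _ (by
    intro c
    rw [Subgroup.mem_centralizer_iff]
    intro z' hz'
    rw [h] at hz'
    obtain ⟨z, hz, rfl⟩ := hz'
    have h1 := (Subgroup.mem_centralizer_iff.mp c.2) z hz
    show ι z * ι (c : Q) = ι (c : Q) * ι z
    rw [← map_mul, ← map_mul, h1])

theorem cenMap_coe {Q G : Type u} [Group Q] [Group G] (ι : Q →* G) (Z : Subgroup Q)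
    (Z' : Subgroup G) (h : Z' = Z.map ι) (c : ↥(Subgroup.centralizer (Z : Set Q))) :
    ((cenMap ι Z Z' h c : ↥(Subgroup.centralizer (Z' : Set G))) : G) = ι (c : Q) := rfl

/-- The map of sections induced by a homomorphism. -/
def secMap {Q G : Type u} [Group Q] [Group G] (ι : Q →* G) (Z : Subgroup Q) (Z' : Subgroup G)
    (h : Z' = Z.map ι) : Sec Z →* Sec Z' :=
  QuotientGroup.map _ _ (cenMap ι Z Z' h) (by
    intro c hc
    rw [Subgroup.mem_comap, Subgroup.mem_subgroupOf, cenMap_coe, h]
    exact Subgroup.mem_map_of_mem _ (Subgroup.mem_subgroupOf.mp hc))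

theorem secMap_mk {Q G : Type u} [Group Q] [Group G] (ι : Q →* G) (Z : Subgroup Q)
    (Z' : Subgroup G) (h : Z' = Z.map ι) (c : ↥(Subgroup.centralizer (Z : Set Q))) :
    secMap ι Z Z' h (QuotientGroup.mk c) = QuotientGroup.mk (cenMap ι Z Z' h c) := rfl

theorem secMap_injective {Q G : Type u} [Group Q] [Group G] (ι : Q →* G)
    (hι : Function.Injective ι) (Z : Subgroup Q)
    (Z' : Subgroup G) (h : Z' = Z.map ι) : Function.Injective (secMap ι Z Z' h) := by
  rw [injective_iff_map_eq_one]
  intro a ha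
  obtain ⟨c, rfl⟩ := QuotientGroup.mk_surjective a
  rw [secMap_mk, QuotientGroup.eq_one_iff, Subgroup.mem_subgroupOf, cenMap_coe, h] at ha
  obtain ⟨z, hz, hzc⟩ := ha
  rw [QuotientGroup.eq_one_iff, Subgroup.mem_subgroupOf, ← hι hzc]
  exact hz

theorem secMap_surjective {Q G : Type u} [Group Q] [Group G] (ι : Q →* G)
    (hι : Function.Bijective ι) (Z : Subgroup Q)
    (Z' : Subgroup G) (h : Z' = Z.map ι) : Function.Surjective (secMap ι Z Z' h) := by
  intro a
  obtain ⟨c', rfl⟩ := QuotientGroup.mk_surjective a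
  obtain ⟨c, hc⟩ := hι.2 (c' : G)
  have hcC : c ∈ Subgroup.centralizer (Z : Set Q) := by
    rw [Subgroup.mem_centralizer_iff]
    intro z hz
    apply hι.1
    rw [map_mul, map_mul, hc]
    exact (Subgroup.mem_centralizer_iff.mp c'.2) (ι z) (h ▸ Subgroup.mem_map_of_mem _ hz)
  refine ⟨QuotientGroup.mk ⟨c, hcC⟩, ?_⟩
  rw [secMap_mk]
  congr 1
  exact Subtype.ext hc

theorem liftSec_map {Q G : Type u} [Group Q] [Group G] (ι : Q →* G) (Z : Subgroup Q)
    (hZ : Z ≤ Subgroup.centralizer (Z : Set Q))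
    (Z' : Subgroup G) (h : Z' = Z.map ι) (B : Subgroup (Sec Z)) :
    (liftSec Z B).map ι = liftSec Z' (B.map (secMap ι Z Z' h)) := by
  ext x
  constructor
  · rintro ⟨c, hc, rfl⟩
    obtain ⟨hcC, hcB⟩ := (mem_liftSec Z B c).mp hc
    rw [mem_liftSec]
    refine ⟨(cenMap ι Z Z' h ⟨c, hcC⟩).2, ?_⟩
    exact ⟨_, hcB, rfl⟩
  · intro hx
    obtain ⟨hxC, hxB⟩ := (mem_liftSec Z' _ x).mp hx
    obtain ⟨b, hb, hbx⟩ := hxB
    obtain ⟨c, rfl⟩ := QuotientGroup.mk_surjective b
    rw [secMap_mk] at hbx
    have h1 := QuotientGroup.eq.mp hbx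
    rw [Subgroup.mem_subgroupOf] at h1
    have h2 : (ι (c : Q))⁻¹ * x ∈ Z' := h1
    rw [h] at h2
    obtain ⟨z, hz, hzx⟩ := h2
    have hcz : (c : Q) * z ∈ liftSec Z B := by
      rw [mem_liftSec]
      refine ⟨Subgroup.mul_mem _ c.2 (hZ hz), ?_⟩
      have : (QuotientGroup.mk (⟨(c : Q) * z, Subgroup.mul_mem _ c.2 (hZ hz)⟩ :
          ↥(Subgroup.centralizer (Z : Set Q))) : Sec Z) = QuotientGroup.mk c := by
        rw [QuotientGroup.eq]
        rw [Subgroup.mem_subgroupOf]
        show ((c : Q) * z)⁻¹ * (c : Q) ∈ Z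
        have : ((c : Q) * z)⁻¹ * (c : Q) = z⁻¹ := by group
        rw [this]; exact Z.inv_mem hz
      rw [this]; exact hb
    refine ⟨(c : Q) * z, hcz, ?_⟩
    rw [map_mul, hzx]
    group

theorem zjAFun_map {Q R : Type u} [Group Q] [Group R] (φ : Q ≃* R) :
    zjAFun R = (zjAFun Q).map φ.toMonoidHom := by
  apply le_antisymm
  · intro y hy
    have h1 := zjAFun_map_le R Q φ.symm (Subgroup.mem_map_of_mem _ hy)
    exact ⟨φ.symm y, h1, by simp⟩
  · exact zjAFun_map_le Q R φ

theorem zjAFun_le_centralizer (Q : Type u) [Group Q] :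
    zjAFun Q ≤ Subgroup.centralizer (zjAFun Q : Set Q) := by
  intro x hx
  rw [Subgroup.mem_centralizer_iff]
  intro y hy
  have hxC := (Subgroup.mem_inf.mp hx).2
  have hyJ := (Subgroup.mem_inf.mp hy).1
  exact (Subgroup.mem_centralizer_iff.mp hxC) y hyJ

theorem Kf_map : ∀ (n : ℕ) {Q R : Type u} [Group Q] [Group R] (φ : Q ≃* R),
    (Kf n Q).map φ.toMonoidHom = Kf n R := by
  intro n
  induction n with
  | zero =>
    intro Q R _ _ φ
    show (⊥ : Subgroup Q).map φ.toMonoidHom = ⊥
    exact Subgroup.map_bot _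
  | succ n ih =>
    intro Q R _ _ φ
    rw [Kf_succ, Kf_succ]
    rw [liftSec_map φ.toMonoidHom (zjAFun Q) (zjAFun_le_centralizer Q) (zjAFun R) (zjAFun_map φ)]
    congr 1
    have hbij : Function.Bijective (secMap φ.toMonoidHom (zjAFun Q) (zjAFun R) (zjAFun_map φ)) :=
      ⟨secMap_injective _ φ.injective _ _ _, secMap_surjective _ φ.bijective _ _ _⟩
    exact ih (MulEquiv.ofBijective _ hbij)

/-- `Kf` of a subgroup, viewed in the ambient group. -/
def KfOf (n : ℕ) {G : Type u} [Group G] (X : Subgroup G) : Subgroup G :=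
  (Kf n ↥X).map X.subtype

theorem KfOf_le (n : ℕ) {G : Type u} [Group G] (X : Subgroup G) : KfOf n X ≤ X :=
  Subgroup.map_subtype_le _

theorem KfOf_map (n : ℕ) {A A' : Type u} [Group A] [Group A'] (f : A →* A')
    (hf : Function.Injective f) (X : Subgroup A) :
    (KfOf n X).map f = KfOf n (X.map f) := by
  unfold KfOf
  rw [← Kf_map n (X.equivMapOfInjective f hf), Subgroup.map_map, Subgroup.map_map]
  congr 1

theorem Kf_char (n : ℕ) (Q : Type u) [Group Q] : (Kf n Q).Characteristic := by
  rw [Subgroup.characteristic_iff_map_eq]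
  intro φ
  exact Kf_map n φ

theorem Kf_selfCentralizing (p : ℕ) [Fact p.Prime] : ∀ (n : ℕ) (Q : Type u) [Group Q] [Finite Q],
    IsPGroup p Q → Nat.card Q ≤ n → Subgroup.centralizer (Kf n Q : Set Q) ≤ Kf n Q := by
  intro n
  induction n with
  | zero =>
    intro Q _ _ _ hcard
    have := Nat.card_pos (α := Q)
    omega
  | succ n ih =>
    intro Q _ _ hQ hcard x hx
    rw [Kf_succ] at hx ⊢
    by_cases hnt : Nontrivial Q
    · have hZne : zjAFun Q ≠ ⊥ := (isCharPFunctor_zjAFun p).1 Q hQ hnt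
      have hZle := zjAFun_le_centralizer Q
      have hcardSec : Nat.card (Sec (zjAFun Q)) ≤ n := by
        have h1 : Nat.card ↥(Subgroup.centralizer (zjAFun Q : Set Q)) =
            Nat.card (Sec (zjAFun Q)) *
              Nat.card ↥((zjAFun Q).subgroupOf (Subgroup.centralizer (zjAFun Q : Set Q))) :=
          Subgroup.card_eq_card_quotient_mul_card_subgroup _
        have h2 : Nat.card ↥((zjAFun Q).subgroupOf (Subgroup.centralizer (zjAFun Q : Set Q))) =
            Nat.card ↥(zjAFun Q) := Nat.card_congr (Subgroup.subgroupOfEquivOfLe hZle).toEquiv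
        have h3 : Nat.card ↥(Subgroup.centralizer (zjAFun Q : Set Q)) ≤ Nat.card Q :=
          Subgroup.card_le_card_group _
        have h4 : 2 ≤ Nat.card ↥(zjAFun Q) := by
          have hpos : 0 < Nat.card ↥(zjAFun Q) := Nat.card_pos
          have hne : Nat.card ↥(zjAFun Q) ≠ 1 := fun h => hZne (Subgroup.eq_bot_of_card_eq _ h)
          omega
        have h5 : Nat.card (Sec (zjAFun Q)) * 2 ≤ Nat.card (Sec (zjAFun Q)) * Nat.card ↥(zjAFun Q) :=
          Nat.mul_le_mul_left _ h4
        rw [h2] at h1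
        omega
      have hSecP : IsPGroup p (Sec (zjAFun Q)) := (hQ.to_subgroup _).to_quotient _
      have hxC : x ∈ Subgroup.centralizer (zjAFun Q : Set Q) := by
        rw [Subgroup.mem_centralizer_iff]
        intro z hz
        exact (Subgroup.mem_centralizer_iff.mp hx) z (le_liftSec _ hZle _ hz)
      rw [mem_liftSec]
      refine ⟨hxC, ?_⟩
      apply ih (Sec (zjAFun Q)) hSecP hcardSec
      rw [Subgroup.mem_centralizer_iff]
      intro b hb
      obtain ⟨c, rfl⟩ := QuotientGroup.mk_surjective b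
      have hc : (c : Q) ∈ liftSec (zjAFun Q) (Kf n (Sec (zjAFun Q))) :=
        (mem_liftSec _ _ _).mpr ⟨c.2, hb⟩
      have h1 := (Subgroup.mem_centralizer_iff.mp hx) c hc
      rw [← QuotientGroup.mk_mul, ← QuotientGroup.mk_mul]
      congr 1
      exact Subtype.ext h1
    · rw [not_nontrivial_iff_subsingleton] at hnt
      rw [Subsingleton.elim x 1]
      exact one_mem _

theorem card_sec_le (p : ℕ) [Fact p.Prime] (Q : Type u) [Group Q] [Finite Q] (hQ : IsPGroup p Q)
    (hnt : Nontrivial Q) {n : ℕ} (hcard : Nat.card Q ≤ n + 1) :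
    Nat.card (Sec (zjAFun Q)) ≤ n := by
  have hZne : zjAFun Q ≠ ⊥ := (isCharPFunctor_zjAFun p).1 Q hQ hnt
  have hZle := zjAFun_le_centralizer Q
  have h1 : Nat.card ↥(Subgroup.centralizer (zjAFun Q : Set Q)) =
      Nat.card (Sec (zjAFun Q)) *
        Nat.card ↥((zjAFun Q).subgroupOf (Subgroup.centralizer (zjAFun Q : Set Q))) :=
    Subgroup.card_eq_card_quotient_mul_card_subgroup _
  have h2 : Nat.card ↥((zjAFun Q).subgroupOf (Subgroup.centralizer (zjAFun Q : Set Q))) =
      Nat.card ↥(zjAFun Q) := Nat.card_congr (Subgroup.subgroupOfEquivOfLe hZle).toEquiv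
  have h3 : Nat.card ↥(Subgroup.centralizer (zjAFun Q : Set Q)) ≤ Nat.card Q :=
    Subgroup.card_le_card_group _
  have h4 : 2 ≤ Nat.card ↥(zjAFun Q) := by
    have hpos : 0 < Nat.card ↥(zjAFun Q) := Nat.card_pos
    have hne : Nat.card ↥(zjAFun Q) ≠ 1 := fun h => hZne (Subgroup.eq_bot_of_card_eq _ h)
    omega
  have h5 : Nat.card (Sec (zjAFun Q)) * 2 ≤ Nat.card (Sec (zjAFun Q)) * Nat.card ↥(zjAFun Q) :=
    Nat.mul_le_mul_left _ h4
  rw [h2] at h1
  omega

theorem comm_eq_one {G : Type u} [Group G] {p : ℕ} [Fact p.Prime] {g q : G}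
    (hcomm : g * (g * q * g⁻¹ * q⁻¹) = (g * q * g⁻¹ * q⁻¹) * g) (L : Subgroup G)
    (hL : IsPGroup p L) (hz : g * q * g⁻¹ * q⁻¹ ∈ L) (hg : (orderOf g).Coprime p) :
    g * q = q * g := by
  have key : ∀ k : ℕ, g ^ k * q = (g * q * g⁻¹ * q⁻¹) ^ k * q * g ^ k := by
    intro k
    induction k with
    | zero => simp
    | succ k ih =>
      have hc : g * (g * q * g⁻¹ * q⁻¹) ^ k = (g * q * g⁻¹ * q⁻¹) ^ k * g :=
        (Commute.pow_right (show Commute g (g * q * g⁻¹ * q⁻¹) from hcomm) k).eq
      calc g ^ (k + 1) * q = g * (g ^ k * q) := by rw [pow_succ']; group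
        _ = g * ((g * q * g⁻¹ * q⁻¹) ^ k * q * g ^ k) := by rw [ih]
        _ = (g * (g * q * g⁻¹ * q⁻¹) ^ k) * q * g ^ k := by group
        _ = ((g * q * g⁻¹ * q⁻¹) ^ k * g) * q * g ^ k := by rw [hc]
        _ = (g * q * g⁻¹ * q⁻¹) ^ k * ((g * q * g⁻¹ * q⁻¹) * q * g) * g ^ k := by group
        _ = (g * q * g⁻¹ * q⁻¹) ^ (k + 1) * q * g ^ (k + 1) := by
          rw [pow_succ, pow_succ]; group
  have h1 := key (orderOf g)
  rw [pow_orderOf_eq_one, one_mul, mul_one] at h1
  have h2 : (g * q * g⁻¹ * q⁻¹) ^ orderOf g = 1 := by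
    have : (g * q * g⁻¹ * q⁻¹) ^ orderOf g * q = 1 * q := by rw [one_mul]; exact h1.symm
    exact mul_right_cancel this
  have h3 : orderOf (g * q * g⁻¹ * q⁻¹) ∣ orderOf g := orderOf_dvd_of_pow_eq_one h2
  have h4 := eq_one_of_pgroup_of_coprime hL hz (Nat.Coprime.coprime_dvd_left h3 hg)
  have h5 : g * q = (g * q * g⁻¹ * q⁻¹) * (q * g) := by group
  rw [h5, h4, one_mul]

theorem exists_coprime_lift {A B : Type u} [Group A] [Group B] [Finite A] {p : ℕ} [Fact p.Prime]
    (f : A →* B) (hf : Function.Surjective f) (b : B) (hb : (orderOf b).Coprime p) :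
    ∃ a : A, f a = b ∧ (orderOf a).Coprime p := by
  have hpp : p.Prime := Fact.out
  obtain ⟨g, rfl⟩ := hf b
  obtain ⟨e, m', hm', hkm⟩ := Nat.exists_eq_pow_mul_and_not_dvd (orderOf_pos g).ne' p hpp.ne_one
  have h1 : orderOf (g ^ p ^ e) ∣ m' := by
    apply orderOf_dvd_of_pow_eq_one
    rw [← pow_mul, ← hkm]
    exact pow_orderOf_eq_one _
  have h2 : (orderOf (g ^ p ^ e)).Coprime p :=
    Nat.Coprime.coprime_dvd_left h1 ((Nat.Prime.coprime_iff_not_dvd hpp).mpr hm').symm
  obtain ⟨j, hj⟩ := exists_pow_eq_self_of_coprime (x := f g) (n := p ^ e)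
    (Nat.Coprime.pow_left e hb.symm)
  refine ⟨(g ^ p ^ e) ^ j, ?_, ?_⟩
  · rw [map_pow, map_pow]; exact hj
  · exact Nat.Coprime.coprime_dvd_left (orderOf_pow_dvd j) h2

theorem pow_mul_mem {G : Type u} [Group G] (C : Subgroup G) {k g : G} (hk : k ∈ C)
    (hg : g ∈ Subgroup.normalizer (C : Set G)) :
    ∀ j : ℕ, ∃ c ∈ C, (k * g) ^ j = c * g ^ j := by
  intro j
  induction j with
  | zero => exact ⟨1, C.one_mem, by simp⟩
  | succ j ih =>
    obtain ⟨c, hc, hcj⟩ := ih
    have h1 : g ^ j * k * (g ^ j)⁻¹ ∈ C :=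
      (Subgroup.mem_normalizer_iff.mp (Subgroup.pow_mem _ hg j) k).mp hk
    refine ⟨c * (g ^ j * k * (g ^ j)⁻¹), C.mul_mem hc h1, ?_⟩
    rw [pow_succ, hcj, pow_succ]
    group

theorem main (p : ℕ) [Fact p.Prime] (hp : p ≠ 2) : ∀ (n : ℕ) (G : Type u) [Group G] [Finite G]
    (P : Subgroup G), IsPGroup p P → ¬ p ∣ P.index → Nat.card P ≤ n →
    (∀ g ∈ Subgroup.normalizer (KfOf n P : Set G), (orderOf g).Coprime p →
      g ∈ Subgroup.centralizer (KfOf n P : Set G)) → FrobCond p G := by
  intro n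
  induction n with
  | zero =>
    intro G _ _ P _ _ hcard
    have := Nat.card_pos (α := ↥P)
    omega
  | succ n ih =>
    intro G _ _ P hPp hPidx hcard hyp
    have hpp : p.Prime := Fact.out
    by_cases hnt : Nontrivial ↥P
    swap
    · rw [not_nontrivial_iff_subsingleton] at hnt
      have hPbot : P = ⊥ := Subgroup.eq_bot_of_subsingleton P
      have hG : ¬ p ∣ Nat.card G := by
        rw [hPbot, Subgroup.index_bot] at hPidx; exact hPidx
      intro Q hQ g _ _
      have hQbot : Q = ⊥ := by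
        obtain ⟨k, hk⟩ := IsPGroup.iff_card.mp hQ
        have hdvd : Nat.card Q ∣ Nat.card G := Subgroup.card_subgroup_dvd_card Q
        rw [hk] at hdvd
        cases k with
        | zero => exact Subgroup.eq_bot_of_card_eq Q (by simpa using hk)
        | succ k => exact absurd (dvd_trans (dvd_pow_self p (Nat.succ_ne_zero k)) hdvd) hG
      rw [hQbot, Subgroup.mem_centralizer_iff]
      intro h hh
      rw [Subgroup.mem_bot.mp hh, one_mul, mul_one]
    · have hZPne : zjAFun ↥P ≠ ⊥ := (isCharPFunctor_zjAFun p).1 ↥P hPp hnt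
      have hZPle := zjAFun_le_centralizer ↥P
      obtain ⟨Z, hZdef⟩ : ∃ Z : Subgroup G, Z = (zjAFun ↥P).map P.subtype := ⟨_, rfl⟩
      have hZcT : Z = Cfsg.centerThompsonAOf P := by
        rw [hZdef]; exact inducedFunctor_zjAFun P
      have hZP : Z ≤ P := hZdef ▸ Subgroup.map_subtype_le _
      have hZp : IsPGroup p Z := hPp.to_le hZP
      have hZle : Z ≤ Subgroup.centralizer (Z : Set G) := by
        rw [hZdef]
        rintro _ ⟨x, hx, rfl⟩
        rw [Subgroup.mem_centralizer_iff]
        rintro _ ⟨y, hy, rfl⟩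
        have := (Subgroup.mem_centralizer_iff.mp (hZPle hx)) y hy
        exact congrArg Subtype.val this
      have hPM : P ≤ Subgroup.normalizer (Z : Set G) := by
        intro x hx
        apply mem_normalizer_of_conj_mem
        rw [hZdef]
        rintro _ ⟨z, hz, rfl⟩
        have h1 : zjAFun ↥P = (zjAFun ↥P).map (MulAut.conj (⟨x, hx⟩ : ↥P)).toMonoidHom :=
          zjAFun_map (MulAut.conj (⟨x, hx⟩ : ↥P))
        have h2 : (MulAut.conj (⟨x, hx⟩ : ↥P)) z ∈ zjAFun ↥P := by
          rw [h1]; exact Subgroup.mem_map_of_mem _ hz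
        exact ⟨_, h2, by simp [MulAut.conj_apply]⟩
      obtain ⟨ιb, hιb⟩ : ∃ ιb : Sec (zjAFun ↥P) →* Sec Z,
          ιb = secMap P.subtype (zjAFun ↥P) Z hZdef := ⟨_, rfl⟩
      have hιinj : Function.Injective ιb :=
        hιb ▸ secMap_injective _ P.subtype_injective _ _ _
      have hK : KfOf (n + 1) P = liftSec Z (KfOf n ιb.range) := by
        unfold KfOf
        rw [Kf_succ, liftSec_map P.subtype (zjAFun ↥P) hZPle Z hZdef]
        congr 1
        rw [← Kf_map n (MonoidHom.ofInjective hιinj), Subgroup.map_map]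
        subst hιb
        congr 1
      have hrange : ιb.range = ((P ⊓ Subgroup.centralizer (Z : Set G)).subgroupOf
          (Subgroup.centralizer (Z : Set G))).map
            (QuotientGroup.mk' (Z.subgroupOf (Subgroup.centralizer (Z : Set G)))) := by
        ext y
        constructor
        · rintro ⟨a, rfl⟩
          obtain ⟨c, rfl⟩ := QuotientGroup.mk_surjective a
          rw [hιb, secMap_mk]
          refine ⟨cenMap P.subtype (zjAFun ↥P) Z hZdef c, ?_, rfl⟩
          rw [SetLike.mem_coe, Subgroup.mem_subgroupOf]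
          exact Subgroup.mem_inf.mpr ⟨(c : ↥P).2, (cenMap P.subtype (zjAFun ↥P) Z hZdef c).2⟩
        · rintro ⟨y', hy', rfl⟩
          rw [SetLike.mem_coe, Subgroup.mem_subgroupOf] at hy'
          obtain ⟨hyP, hyC⟩ := Subgroup.mem_inf.mp hy'
          have hc : (⟨(y' : G), hyP⟩ : ↥P) ∈ Subgroup.centralizer (zjAFun ↥P : Set ↥P) := by
            rw [Subgroup.mem_centralizer_iff]
            intro z hz
            apply Subtype.ext
            exact (Subgroup.mem_centralizer_iff.mp hyC) (z : G)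
              (hZdef ▸ Subgroup.mem_map_of_mem P.subtype hz)
          refine ⟨QuotientGroup.mk ⟨⟨(y' : G), hyP⟩, hc⟩, ?_⟩
          rw [hιb, secMap_mk]
          rfl
      have hPbp : IsPGroup p ↥ιb.range := by
        have h1 : IsPGroup p (Sec (zjAFun ↥P)) := (hPp.to_subgroup _).to_quotient _
        exact h1.of_surjective ιb.rangeRestrict ιb.rangeRestrict_surjective
      have hPbcard : Nat.card ↥ιb.range ≤ n := by
        have h0 : Nat.card ↥ιb.range = Nat.card (Sec (zjAFun ↥P)) :=
          (Nat.card_congr (MonoidHom.ofInjective hιinj).toEquiv).symm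
        rw [h0]
        exact card_sec_le p ↥P hPp hnt hcard
      have hrelM : ¬ p ∣ P.relIndex (Subgroup.normalizer (Z : Set G)) :=
        fun h => hPidx (h.trans (Subgroup.relIndex_dvd_index_of_le hPM))
      have hCM : Subgroup.centralizer (Z : Set G) ≤ Subgroup.normalizer (Z : Set G) :=
        Subgroup.centralizer_le_normalizer _
      have hPbidx : ¬ p ∣ ιb.range.index := by
        rw [hrange, Subgroup.index_map_eq _ (QuotientGroup.mk'_surjective _) (by
          rw [QuotientGroup.ker_mk']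
          intro y hy
          rw [Subgroup.mem_subgroupOf] at hy ⊢
          exact Subgroup.mem_inf.mpr ⟨hZP hy, y.2⟩)]
        exact inf_relIndex_normal hPp hrelM hCM (centralizer_normal_in_normalizer Z)
      have hFrobSec : FrobCond p (Sec Z) := by
        apply ih (Sec Z) ιb.range hPbp hPbidx hPbcard
        intro gb hgbN hgbcop
        obtain ⟨h, hh, hhcop⟩ := exists_coprime_lift
          (QuotientGroup.mk' (Z.subgroupOf (Subgroup.centralizer (Z : Set G))))
          (QuotientGroup.mk'_surjective _) gb hgbcop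
        have hhN : (h : G) ∈ Subgroup.normalizer (KfOf (n + 1) P : Set G) := by
          apply mem_normalizer_of_conj_mem
          intro x hx
          rw [hK, mem_liftSec] at hx ⊢
          obtain ⟨hxC, hxB⟩ := hx
          refine ⟨Subgroup.mul_mem _ (Subgroup.mul_mem _ h.2 hxC) (Subgroup.inv_mem _ h.2), ?_⟩
          have e : (QuotientGroup.mk (⟨(h : G) * x * (h : G)⁻¹,
              Subgroup.mul_mem _ (Subgroup.mul_mem _ h.2 hxC) (Subgroup.inv_mem _ h.2)⟩ :
                ↥(Subgroup.centralizer (Z : Set G))) : Sec Z) =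
              gb * QuotientGroup.mk ⟨x, hxC⟩ * gb⁻¹ := by
            rw [← hh]; rfl
          rw [e]
          exact (Subgroup.mem_normalizer_iff.mp hgbN _).mp hxB
        have hhcop' : (orderOf (h : G)).Coprime p := by rwa [Subgroup.orderOf_coe]
        have hhC := hyp (h : G) hhN hhcop'
        rw [Subgroup.mem_centralizer_iff]
        intro b hb
        obtain ⟨c, rfl⟩ := QuotientGroup.mk_surjective b
        have hc : (c : G) ∈ KfOf (n + 1) P := by
          rw [hK, mem_liftSec]; exact ⟨c.2, hb⟩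
        have h1 := (Subgroup.mem_centralizer_iff.mp hhC) (c : G) hc
        rw [← hh]
        show (QuotientGroup.mk c : Sec Z) * QuotientGroup.mk h =
          QuotientGroup.mk h * QuotientGroup.mk c
        rw [← QuotientGroup.mk_mul, ← QuotientGroup.mk_mul]
        congr 1
        exact Subtype.ext h1
      have hFC : FrobS p (Subgroup.centralizer (Z : Set G)) := by
        intro Q hQC hQp g hgC hgN hgcop
        rw [Subgroup.mem_centralizer_iff]
        intro q hq
        have hgb : (QuotientGroup.mk (⟨g, hgC⟩ : ↥(Subgroup.centralizer (Z : Set G))) : Sec Z) ∈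
            Subgroup.centralizer (((Q.subgroupOf (Subgroup.centralizer (Z : Set G))).map
              (QuotientGroup.mk' (Z.subgroupOf (Subgroup.centralizer (Z : Set G)))) :
                Subgroup (Sec Z)) : Set (Sec Z)) := by
          apply hFrobSec _ ((hQp.comap_subtype).map _)
          · apply mem_normalizer_of_conj_mem
            rintro _ ⟨y, hy, rfl⟩
            refine ⟨⟨g, hgC⟩ * y * ⟨g, hgC⟩⁻¹, ?_, rfl⟩
            have hy' : (y : G) ∈ Q := hy
            show g * (y : G) * g⁻¹ ∈ Q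
            exact (Subgroup.mem_normalizer_iff.mp hgN _).mp hy'
          · have h1 : orderOf (QuotientGroup.mk' (Z.subgroupOf (Subgroup.centralizer (Z : Set G)))
                (⟨g, hgC⟩ : ↥(Subgroup.centralizer (Z : Set G)))) ∣
                orderOf (⟨g, hgC⟩ : ↥(Subgroup.centralizer (Z : Set G))) :=
              orderOf_map_dvd _ _
            have h2 : orderOf (⟨g, hgC⟩ : ↥(Subgroup.centralizer (Z : Set G))) = orderOf g :=
              (Subgroup.orderOf_coe _).symm
            rw [h2] at h1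
            exact Nat.Coprime.coprime_dvd_left h1 hgcop
        have h3 := (Subgroup.mem_centralizer_iff.mp hgb) (QuotientGroup.mk ⟨q, hQC hq⟩)
          ⟨⟨q, hQC hq⟩, Subgroup.mem_subgroupOf.mpr hq, rfl⟩
        have h4 : (QuotientGroup.mk ((⟨q, hQC hq⟩ * ⟨g, hgC⟩ :
            ↥(Subgroup.centralizer (Z : Set G)))) : Sec Z) =
            QuotientGroup.mk (⟨g, hgC⟩ * ⟨q, hQC hq⟩) := h3
        rw [QuotientGroup.eq, Subgroup.mem_subgroupOf] at h4
        have hw : (q * g)⁻¹ * (g * q) ∈ Z := h4
        have hcen := (Subgroup.mem_centralizer_iff.mp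
          (Subgroup.mul_mem _ (hQC hq) hgC)) _ hw
        have hz : g * q * g⁻¹ * q⁻¹ ∈ Z := by
          have e1 : g * q * g⁻¹ * q⁻¹ = ((q * g) * ((q * g)⁻¹ * (g * q))) * (q * g)⁻¹ := by group
          rw [e1, ← hcen, mul_inv_cancel_right]
          exact hw
        have hgz : g * (g * q * g⁻¹ * q⁻¹) = (g * q * g⁻¹ * q⁻¹) * g :=
          ((Subgroup.mem_centralizer_iff.mp hgC) _ hz).symm
        exact (comm_eq_one hgz Z hZp hz hgcop).symm
      have hNC : ∀ x ∈ Subgroup.normalizer (Z : Set G),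
          x ∈ Subgroup.normalizer ((P ⊓ Subgroup.centralizer (Z : Set G) : Subgroup G) : Set G) →
          (orderOf x).Coprime p → x ∈ Subgroup.centralizer (Z : Set G) := by
        intro x hxM hxN hxcop
        have hxK : x ∈ Subgroup.normalizer (KfOf (n + 1) P : Set G) := by
          have hZx : Z = Z.map (MulAut.conj x).toMonoidHom := by
            ext y
            constructor
            · intro hy
              refine ⟨x⁻¹ * y * x, ?_, by simp [MulAut.conj_apply]; group⟩
              have := (Subgroup.mem_normalizer_iff.mp (Subgroup.inv_mem _ hxM) y).mp hy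
              simpa using this
            · rintro ⟨z, hz, rfl⟩
              exact (Subgroup.mem_normalizer_iff.mp hxM z).mp hz
          obtain ⟨ψ, hψ⟩ : ∃ ψ : Sec Z →* Sec Z,
              ψ = secMap (MulAut.conj x).toMonoidHom Z Z hZx := ⟨_, rfl⟩
          have hψinj : Function.Injective ψ :=
            hψ ▸ secMap_injective _ (MulAut.conj x).injective _ _ _
          have hrg : ιb.range.map ψ = ιb.range := by
            apply Subgroup.eq_of_le_of_card_ge
            · rw [hrange]
              rintro _ ⟨_, ⟨y, hy, rfl⟩, rfl⟩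
              refine ⟨cenMap (MulAut.conj x).toMonoidHom Z Z hZx y, ?_, by rw [hψ]; rfl⟩
              have hy' : (y : G) ∈ P ⊓ Subgroup.centralizer (Z : Set G) := hy
              show x * (y : G) * x⁻¹ ∈ P ⊓ Subgroup.centralizer (Z : Set G)
              exact (Subgroup.mem_normalizer_iff.mp hxN _).mp hy'
            · rw [Subgroup.card_map_of_injective hψinj]
          have hB : (KfOf n ιb.range).map ψ = KfOf n ιb.range := by
            rw [KfOf_map n ψ hψinj, hrg]
          have hmap : (KfOf (n + 1) P).map (MulAut.conj x).toMonoidHom = KfOf (n + 1) P := by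
            rw [hK, liftSec_map _ Z hZle Z hZx, ← hψ, hB]
          apply mem_normalizer_of_conj_mem
          intro y hy
          have := Subgroup.mem_map_of_mem (MulAut.conj x).toMonoidHom hy
          rw [hmap] at this
          simpa [MulAut.conj_apply] using this
        have hxCK := hyp x hxK hxcop
        rw [Subgroup.mem_centralizer_iff]
        intro z hz
        exact (Subgroup.mem_centralizer_iff.mp hxCK) z (hK ▸ le_liftSec Z hZle _ hz)
      have hMC : ∀ g ∈ Subgroup.normalizer (Z : Set G), (orderOf g).Coprime p →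
          g ∈ Subgroup.centralizer (Z : Set G) := by
        intro g hgM hgcop
        obtain ⟨k, hkC, hkg⟩ := exists_mul_mem_normalizer_inf_rel hPp hrelM hCM
          (centralizer_normal_in_normalizer Z) hgM
        have hnM : k * g ∈ Subgroup.normalizer (Z : Set G) :=
          Subgroup.mul_mem _ (hCM hkC) hgM
        obtain ⟨e, m', hm', hkm⟩ :=
          Nat.exists_eq_pow_mul_and_not_dvd (orderOf_pos (k * g)).ne' p hpp.ne_one
        have hn1 : (k * g) ^ p ^ e ∈ Subgroup.centralizer (Z : Set G) := by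
          apply hNC _ (Subgroup.pow_mem _ hnM _) (Subgroup.pow_mem _ hkg _)
          have h1 : orderOf ((k * g) ^ p ^ e) ∣ m' := by
            apply orderOf_dvd_of_pow_eq_one
            rw [← pow_mul, ← hkm]
            exact pow_orderOf_eq_one _
          exact Nat.Coprime.coprime_dvd_left h1 ((Nat.Prime.coprime_iff_not_dvd hpp).mpr hm').symm
        obtain ⟨c, hc, hcj⟩ := pow_mul_mem (Subgroup.centralizer (Z : Set G)) hkC
          (centralizer_normal_in_normalizer Z hgM) (p ^ e)
        have hg1 : g ^ p ^ e ∈ Subgroup.centralizer (Z : Set G) := by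
          have : g ^ p ^ e = c⁻¹ * (k * g) ^ p ^ e := by rw [hcj]; group
          rw [this]
          exact Subgroup.mul_mem _ (Subgroup.inv_mem _ hc) hn1
        exact mem_of_pow_mem_of_coprime hg1 (Nat.Coprime.pow_right e hgcop)
      have hFM : FrobS p (Subgroup.normalizer (Z : Set G)) := by
        intro Q hQM hQp g hgM hgN hgcop
        have hgC := hMC g hgM hgcop
        rw [Subgroup.mem_centralizer_iff]
        intro q hq
        have hz1 : g * q * g⁻¹ * q⁻¹ ∈ Subgroup.centralizer (Z : Set G) := by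
          have h1 : q * g⁻¹ * q⁻¹ ∈ Subgroup.centralizer (Z : Set G) :=
            (Subgroup.mem_normalizer_iff.mp (centralizer_normal_in_normalizer Z (hQM hq)) _).mp
              (Subgroup.inv_mem _ hgC)
          have : g * q * g⁻¹ * q⁻¹ = g * (q * g⁻¹ * q⁻¹) := by group
          rw [this]
          exact Subgroup.mul_mem _ hgC h1
        have hz2 : g * q * g⁻¹ * q⁻¹ ∈ Q :=
          Q.mul_mem ((Subgroup.mem_normalizer_iff.mp hgN q).mp hq) (Q.inv_mem hq)
        have hgQ1 : g ∈ Subgroup.centralizer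
            ((Q ⊓ Subgroup.centralizer (Z : Set G) : Subgroup G) : Set G) := by
          apply hFC (Q ⊓ Subgroup.centralizer (Z : Set G)) inf_le_right (hQp.to_le inf_le_left)
            g hgC _ hgcop
          apply mem_normalizer_of_conj_mem
          intro y hy
          obtain ⟨hyQ, hyC⟩ := Subgroup.mem_inf.mp hy
          exact Subgroup.mem_inf.mpr ⟨(Subgroup.mem_normalizer_iff.mp hgN y).mp hyQ,
            Subgroup.mul_mem _ (Subgroup.mul_mem _ hgC hyC) (Subgroup.inv_mem _ hgC)⟩
        have hgz : g * (g * q * g⁻¹ * q⁻¹) = (g * q * g⁻¹ * q⁻¹) * g :=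
          ((Subgroup.mem_centralizer_iff.mp hgQ1) _ (Subgroup.mem_inf.mpr ⟨hz2, hz1⟩)).symm
        exact (comm_eq_one hgz Q hQp hz2 hgcop).symm
      have hNPC_M : Cfsg.HasNormalPComplement p
          ↥(Subgroup.normalizer (Cfsg.centerThompsonAOf P : Set G)) := by
        rw [hasNormalPComplement_subgroup_iff, ← hZcT]
        exact hFM
      obtain ⟨Ps, hPs⟩ := exists_sylow_eq hPp hPidx
      have hfin : Cfsg.HasNormalPComplement p G := by
        apply Cfsg.Agent.S0659.result hp Ps
        rw [hPs]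
        exact hNPC_M
      exact hasNormalPComplement_iff_frobCond.mp hfin

/-- For an odd prime p, every finite p-group S has a characteristic subgroup K with C_S(K) ≤ K such that, whenever S is (isomorphic to) a Sylow p-subgroup of a finite group G, G has a normal p-complement if and only if N_G(K)/C_G(K) is a p-group, i.e. every element of N_G(K) of order prime to p centralizes K (K transported into G along the isomorphism). -/
theorem result (p : ℕ) [Fact p.Prime] (hp : p ≠ 2)
    (S : Type u) [Group S] [Finite S] (hS : IsPGroup p S) :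
    ∃ K : Subgroup S, K.Characteristic ∧ Subgroup.centralizer (K : Set S) ≤ K ∧
      ∀ (G : Type u) [Group G] [Finite G] (P : Sylow p G) (e : ↥(P : Subgroup G) ≃* S),
        Cfsg.HasNormalPComplement p G ↔
          ∀ g ∈ Subgroup.normalizer (((K.comap (e : ↥(P : Subgroup G) →* S)).map (P : Subgroup G).subtype : Subgroup G) : Set G),
            (orderOf g).Coprime p →
              g ∈ Subgroup.centralizer (((K.comap (e : ↥(P : Subgroup G) →* S)).map (P : Subgroup G).subtype : Subgroup G) : Set G) := by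
  refine ⟨Kf (Nat.card S) S, Kf_char _ S, Kf_selfCentralizing p _ S hS le_rfl, ?_⟩
  intro G _ _ P e
  have hK : ((Kf (Nat.card S) S).comap (e : ↥(P : Subgroup G) →* S)).map
      (P : Subgroup G).subtype = KfOf (Nat.card S) (P : Subgroup G) := by
    unfold KfOf
    congr 1
    rw [← Kf_map (Nat.card S) e]
    exact Subgroup.comap_map_eq_self_of_injective e.injective _
  rw [hK]
  constructor
  · intro hN
    have hF := hasNormalPComplement_iff_frobCond.mp hN
    intro g hg hcop
    exact hF _ (P.isPGroup'.to_le (KfOf_le _ _)) g hg hcop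
  · intro h
    apply hasNormalPComplement_iff_frobCond.mpr
    have hcard : Nat.card ↥(P : Subgroup G) ≤ Nat.card S := (Nat.card_congr e.toEquiv).le
    exact main p hp (Nat.card S) G (P : Subgroup G) P.isPGroup' P.not_dvd_index hcard h

end Cfsg.Agent.S3073
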