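import Cfsg.Statements.S3078
import Mathlib
import Cfsg.Agent.Lib.Helper11.GlaubRepl
import Cfsg.Agent.S0649
import Cfsg.Agent.S0650

set_option autoImplicit false
open Cfsg

namespace Cfsg.Agent.S3078

/-- A replacement Theorem for abelian subgroups of p-groups, p odd. Let G be a finite p-group with p odd, A an abelian subgroup of G, and B a subgroup of nilpotency class at most 2 with [B, B] ≤ A, such that A normalizes B but B does not normalize A. Then there is an abelian subgroup A* of G of the same order as A with A ∩ B strictly contained in A* ∩ B, A* contained in N_G(A) and in the normal closure of A, the exponent of A* dividing the exponent of A, and with the subgroup generated by the elements of order dividing p in A of order at most that of the corresponding subgroup of A* (the rank of A is at most the rank of A*). -/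
theorem result {G : Type*} [Group G] [Finite G] {p : ℕ} [Fact p.Prime] (hp : p ≠ 2) (hG : IsPGroup p G) (A B : Subgroup G) (hA : IsMulCommutative A) (hB2 : ⁅⁅B, B⁆, B⁆ = ⊥) (hBA : ⁅B, B⁆ ≤ A) (hAB : A ≤ Subgroup.normalizer (B : Set G)) (hBnA : ¬ B ≤ Subgroup.normalizer (A : Set G)) : ∃ Astar : Subgroup G, IsMulCommutative Astar ∧ Nat.card Astar = Nat.card A ∧ A ⊓ B < Astar ⊓ B ∧ Astar ≤ Subgroup.normalizer (A : Set G) ∧ Astar ≤ Subgroup.normalClosure (A : Set G) ∧ Monoid.exponent Astar ∣ Monoid.exponent A ∧ Nat.card (Cfsg.omegaOne p A) ≤ Nat.card (Cfsg.omegaOne p Astar) := by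
  classical
  have hAc : ∀ x ∈ A, ∀ y ∈ A, x * y = y * x := fun x hx y hy =>
    congrArg Subtype.val (hA.is_comm.comm (⟨x, hx⟩ : A) ⟨y, hy⟩)
  have hAS : A ≤ A ⊔ B := le_sup_left
  have hBS : B ≤ A ⊔ B := le_sup_right
  have hSB : A ⊔ B ≤ Subgroup.normalizer (B : Set G) := sup_le hAB Subgroup.le_normalizer
  generalize A ⊔ B = S at hAS hBS hSB
  have hBn : (B.subgroupOf S).Normal := Subgroup.normal_subgroupOf_of_le_normalizer hSB
  have hSp : IsPGroup p ↥S := hG.to_subgroup S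
  have hA' : IsMulCommutative (A.subgroupOf S) :=
    ⟨⟨fun x y => Subtype.ext (Subtype.ext (hAc _ (Subgroup.mem_subgroupOf.mp x.2) _
      (Subgroup.mem_subgroupOf.mp y.2)))⟩⟩
  have hBA' : ⁅B.subgroupOf S, B.subgroupOf S⁆ ≤ A.subgroupOf S := by
    rw [Subgroup.commutator_le]
    intro x hx y hy
    rw [Subgroup.mem_subgroupOf]
    exact hBA (Subgroup.commutator_mem_commutator (Subgroup.mem_subgroupOf.mp hx)
      (Subgroup.mem_subgroupOf.mp hy))
  have hnot' : ¬ B.subgroupOf S ≤ Subgroup.normalizer ((A.subgroupOf S : Subgroup S) : Set S) := by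
    intro h
    apply hBnA
    rw [← Subgroup.subgroupOf_normalizer_eq hAS] at h
    intro b hb
    exact Subgroup.mem_subgroupOf.mp
      (h (show (⟨b, hBS hb⟩ : S) ∈ B.subgroupOf S from Subgroup.mem_subgroupOf.mpr hb))
  obtain ⟨b', hb'B, hb'N, hb'A⟩ := Cfsg.Agent.S0649.result hSp (B.subgroupOf S)
    (fun h => absurd h hp) (A.subgroupOf S) hA' hBA' hnot'
  have h650 := Cfsg.Agent.S0650.result hSp (B.subgroupOf S) (fun h => absurd h hp)
    (A.subgroupOf S) hA' hBA' hnot' b' hb'B hb'N hb'A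
  obtain ⟨hc1, hc2, hc3, hc4, hc5, hc6, hc7, hc8, hc9, hc10⟩ := h650
  have hsupL : (A.subgroupOf S) ⊓ (A.subgroupOf S).map (MulAut.conj (b'⁻¹)).toMonoidHom ≤
      ((A.subgroupOf S) ⊓ (A.subgroupOf S).map (MulAut.conj (b'⁻¹)).toMonoidHom) ⊔
      Subgroup.closure {g : S | ∃ a ∈ A.subgroupOf S, g = a * b'⁻¹ * a⁻¹ * b'} := le_sup_left
  have hsupR : Subgroup.closure {g : S | ∃ a ∈ A.subgroupOf S, g = a * b'⁻¹ * a⁻¹ * b'} ≤
      ((A.subgroupOf S) ⊓ (A.subgroupOf S).map (MulAut.conj (b'⁻¹)).toMonoidHom) ⊔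
      Subgroup.closure {g : S | ∃ a ∈ A.subgroupOf S, g = a * b'⁻¹ * a⁻¹ * b'} := le_sup_right
  have hsup_le : ∀ K : Subgroup S,
      (A.subgroupOf S) ⊓ (A.subgroupOf S).map (MulAut.conj (b'⁻¹)).toMonoidHom ≤ K →
      Subgroup.closure {g : S | ∃ a ∈ A.subgroupOf S, g = a * b'⁻¹ * a⁻¹ * b'} ≤ K →
      ((A.subgroupOf S) ⊓ (A.subgroupOf S).map (MulAut.conj (b'⁻¹)).toMonoidHom) ⊔
      Subgroup.closure {g : S | ∃ a ∈ A.subgroupOf S, g = a * b'⁻¹ * a⁻¹ * b'} ≤ K :=
    fun K h1 h2 => sup_le h1 h2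
  generalize ((A.subgroupOf S) ⊓ (A.subgroupOf S).map (MulAut.conj (b'⁻¹)).toMonoidHom) ⊔
      Subgroup.closure {g : S | ∃ a ∈ A.subgroupOf S, g = a * b'⁻¹ * a⁻¹ * b'} = Ast' at *
  have hAstc : ∀ x ∈ Ast'.map S.subtype, ∀ y ∈ Ast'.map S.subtype, x * y = y * x := by
    rintro _ ⟨x, hx, rfl⟩ _ ⟨y, hy, rfl⟩
    have := hc2.is_comm.comm (⟨x, hx⟩ : Ast') ⟨y, hy⟩
    exact congrArg (fun z : Ast' => ((z : S) : G)) this
  have hN : Subgroup.normalizer ((A.subgroupOf S : Subgroup S) : Set S) =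
      (Subgroup.normalizer (A : Set G)).subgroupOf S :=
    (Subgroup.subgroupOf_normalizer_eq hAS).symm
  refine ⟨Ast'.map S.subtype, ⟨⟨fun x y => Subtype.ext (hAstc _ x.2 _ y.2)⟩⟩, ?_, ?_, ?_, ?_, ?_, ?_⟩
  · rw [Subgroup.card_map_of_injective S.subtype_injective, hc1]
    exact Nat.card_congr (Subgroup.subgroupOfEquivOfLe hAS).toEquiv
  · have e1 : (A.subgroupOf S ⊓ B.subgroupOf S).map S.subtype = A ⊓ B := by
      rw [Subgroup.map_inf _ _ _ S.subtype_injective, Subgroup.map_subgroupOf_eq_of_le hAS,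
        Subgroup.map_subgroupOf_eq_of_le hBS]
    have e2 : (Ast' ⊓ B.subgroupOf S).map S.subtype = Ast'.map S.subtype ⊓ B := by
      rw [Subgroup.map_inf _ _ _ S.subtype_injective, Subgroup.map_subgroupOf_eq_of_le hBS]
    rw [← e1, ← e2]
    exact (Subgroup.map_lt_map_iff_of_injective S.subtype_injective).mpr hc4
  · rw [hN] at hc7
    rintro _ ⟨x, hx, rfl⟩
    exact Subgroup.mem_subgroupOf.mp (hc7 hx)
  · have h1 := hsup_le ((Subgroup.normalClosure (A : Set G)).subgroupOf S) ?_ ?_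
    · rintro _ ⟨x, hx, rfl⟩
      exact Subgroup.mem_subgroupOf.mp (h1 hx)
    · intro x hx
      exact Subgroup.mem_subgroupOf.mpr (Subgroup.le_normalClosure (Subgroup.mem_subgroupOf.mp hx.1))
    · rw [Subgroup.closure_le]
      rintro _ ⟨a, ha, rfl⟩
      have haA : (a : G) ∈ A := Subgroup.mem_subgroupOf.mp ha
      rw [SetLike.mem_coe, Subgroup.mem_subgroupOf]
      have e : ((a * b'⁻¹ * a⁻¹ * b' : S) : G) =
          (a : G) * ((b' : G)⁻¹ * (a : G)⁻¹ * (b' : G)⁻¹⁻¹) := by simp [mul_assoc]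
      rw [e]
      exact Subgroup.mul_mem _ (Subgroup.le_normalClosure haA)
        (Subgroup.normalClosure_normal.conj_mem _
          (Subgroup.le_normalClosure (A.inv_mem haA)) _)
  · have h1 := hc10 hp
    rw [Monoid.exponent_eq_of_mulEquiv (Subgroup.subgroupOfEquivOfLe hAS),
      Monoid.exponent_eq_of_mulEquiv (Subgroup.equivMapOfInjective Ast' S.subtype
        S.subtype_injective)] at h1
    exact h1
  · apply Cfsg.Agent.Lib.Helper11.omega_card_le_of_repl hp A (Ast'.map S.subtype) hAc hAstc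
      (b' : G)
    · intro a ha
      have h1 : (⟨a, hAS ha⟩ : S) ∈ Subgroup.normalizer ((A.subgroupOf S : Subgroup S) : Set S) :=
        Subgroup.le_normalizer (Subgroup.mem_subgroupOf.mpr ha)
      have h2 := (Subgroup.mem_normalizer_iff.mp hb'N _).mp h1
      rw [hN] at h2
      exact Subgroup.mem_subgroupOf.mp h2
    · intro a ha
      have h1 : (⟨a, hAS ha⟩ : S) ∈ Subgroup.normalizer ((A.subgroupOf S : Subgroup S) : Set S) :=
        Subgroup.le_normalizer (Subgroup.mem_subgroupOf.mpr ha)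
      have h2 : b'⁻¹ * (⟨a, hAS ha⟩ : S) * b' ∈
          Subgroup.normalizer ((A.subgroupOf S : Subgroup S) : Set S) := by
        apply (Subgroup.mem_normalizer_iff.mp hb'N _).mpr
        have e : b' * (b'⁻¹ * (⟨a, hAS ha⟩ : S) * b') * b'⁻¹ = ⟨a, hAS ha⟩ := by group
        rw [e]; exact h1
      rw [hN] at h2
      exact Subgroup.mem_subgroupOf.mp h2
    · intro d hd hd'
      refine ⟨⟨d, hAS hd⟩, hsupL ⟨Subgroup.mem_subgroupOf.mpr hd, ?_⟩, rfl⟩
      refine ⟨b' * ⟨d, hAS hd⟩ * b'⁻¹, Subgroup.mem_subgroupOf.mpr hd', ?_⟩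
      simp only [MulEquiv.coe_toMonoidHom, MulAut.conj_apply]
      group
    · intro a ha
      exact ⟨(⟨a, hAS ha⟩ : S) * b'⁻¹ * (⟨a, hAS ha⟩ : S)⁻¹ * b',
        hsupR (Subgroup.subset_closure ⟨⟨a, hAS ha⟩, Subgroup.mem_subgroupOf.mpr ha, rfl⟩), rfl⟩

end Cfsg.Agent.S3078
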