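import Cfsg.Statements.S3081
import Cfsg.Agent.Lib.Helper19.SCQdC

set_option autoImplicit false
open Cfsg

namespace Cfsg.Agent.S3081

/-- Let p be an odd prime, G a finite group in which Qd(p) (the natural semidirect product of an elementary abelian group of order p² by SL₂(p)) is not involved, P a Sylow p-subgroup and D a subgroup of P strongly closed in P with respect to G. Then N_G(Z(J(D))) controls strong G-fusion in P (for every subset A of P and every g ∈ G with gAg⁻¹ ⊆ P, some element of that normalizer acts on A exactly as g does; J(D) is generated by the abelian subgroups of D of largest order), and so does N_G(Ω₁(Z(J_e(D)))) (J_e(D) generated by the elementary abelian subgroups of largest order). -/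
theorem result {G : Type*} [Group G] [Finite G] {p : ℕ} [Fact p.Prime] (hp : p ≠ 2) (P : Sylow p G) (D : Subgroup G) (hD : Cfsg.IsStronglyClosed D (P : Subgroup G)) (hqd : ¬ Cfsg.Involves ↥(Cfsg.qd p) G) : (∀ A : Set G, A ⊆ (P : Subgroup G) → Cfsg.ControlsStrongFusionOf (Subgroup.normalizer ((Cfsg.centerThompsonAOf D) : Set G)) (P : Subgroup G) A) ∧ (∀ A : Set G, A ⊆ (P : Subgroup G) → Cfsg.ControlsStrongFusionOf (Subgroup.normalizer ((Cfsg.omegaOne p (Cfsg.centerThompsonOf p D)) : Set G)) (P : Subgroup G) A) := by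
  have key : ∀ e : ℕ, (e = 0 ∨ e = p) → ∀ A : Set G, A ⊆ (P : Subgroup G) →
      Cfsg.ControlsStrongFusionOf (Subgroup.normalizer
        ((sInf (Cfsg.Agent.Lib.Helper6.famX e D) : Subgroup G) : Set G)) (P : Subgroup G) A := by
    intro e he A hA
    refine ⟨hA, fun g hg => ?_⟩
    exact Cfsg.Agent.Lib.Helper19.SCQd.main p hp e he _ G rfl hqd P D hD A hA g
      (fun a ha => hg ⟨a, ha, rfl⟩)
  constructor
  · rw [← Cfsg.Agent.Lib.Helper6.sInf_famX_zero]
    exact key 0 (Or.inl rfl)
  · have h1 : Cfsg.omegaOne p (Cfsg.centerThompsonOf p D) =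
        sInf (Cfsg.Agent.Lib.Helper6.famX p D) := by
      rw [← Cfsg.Agent.Lib.Helper2.inducedFunctor_zjFun']
      unfold Cfsg.inducedFunctor
      rw [Cfsg.Agent.S3079.omegaOne_map_subtype, ← Cfsg.Agent.Lib.Helper6.map_sInf_famX_top,
        ← Cfsg.Agent.Lib.Helper6.omegaCenterThompson_eq_sInf]
      rfl
    rw [h1]
    exact key p (Or.inr rfl)

end Cfsg.Agent.S3081
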