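import Cfsg.Statements.S3184
import Cfsg.Agent.Lib.Helper10.ZS7
import Cfsg.Agent.Lib.Helper5.IsoInv

set_option autoImplicit false
open Cfsg

namespace Cfsg.Agent.S3184

/-- Let G be a finite group in which the intersection of any two distinct Sylow 2-subgroups is contained in the centre of some Sylow 2-subgroup, and let S be a Sylow 2-subgroup. If C is a nontrivial cyclic characteristic subgroup of S, then the involution of C is central modulo the largest normal subgroup of odd order of G: each of its conjugates has the same image in G/O(G). -/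
theorem result {G : Type*} [Group G] [Finite G]
    (hCI : ∀ S T : Sylow 2 G, S ≠ T → ∃ U : Sylow 2 G,
      (S : Subgroup G) ⊓ (T : Subgroup G) ≤ (Subgroup.center ↥(U : Subgroup G)).map (U : Subgroup G).subtype)
    (S : Sylow 2 G) (C : Subgroup ↥(S : Subgroup G)) (hC : C ≠ ⊥) (hCc : IsCyclic ↥C) (hCh : C.Characteristic)
    (c : ↥(S : Subgroup G)) (hc : c ∈ C) (hc2 : orderOf c = 2) :
    ∀ g : G, (QuotientGroup.mk (s := Cfsg.oddCore G) (g * (c : G) * g⁻¹)) =
      QuotientGroup.mk (s := Cfsg.oddCore G) (c : G) := by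
  have hiso := Cfsg.Agent.Lib.Helper5.iso_isolated_of_sylow_inter hCI S C hCc hCh c hc hc2
  intro g
  rw [QuotientGroup.eq]
  have h1 := Cfsg.Agent.Lib.Helper10.ZS.zstar (c : G) hiso g
  have h4 := (Cfsg.oddCore G).inv_mem h1
  have hcc : (c : G)⁻¹ = (c : G) := by
    have h5 : (c : G) ^ 2 = 1 := by
      have h6 : c ^ 2 = 1 := by
        have h8 := pow_orderOf_eq_one c
        rw [hc2] at h8
        exact h8
      have h7 := congrArg Subtype.val h6
      simpa using h7
    rw [pow_two] at h5
    exact inv_eq_of_mul_eq_one_left h5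
  have e : (g * (c : G) * g⁻¹)⁻¹ * (c : G) = g * (c : G)⁻¹ * g⁻¹ * (c : G) := by group
  have e2 : ((c : G) * g * (c : G)⁻¹ * g⁻¹)⁻¹ = g * (c : G) * g⁻¹ * (c : G)⁻¹ := by group
  rw [e, hcc]
  rw [e2, hcc] at h4
  exact h4

end Cfsg.Agent.S3184
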