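import Cfsg.Statements.S3196
import Cfsg.Agent.Lib.Helper19.PGroupFixed
import Cfsg.Agent.Lib.Helper17.PCore

set_option autoImplicit false
open Cfsg

namespace Cfsg.Agent.S3196

section

variable {G : Type*} [Group G]

theorem comm4 {x y t : G} (h1 : Commute t x) (h2 : Commute t y) :
    Commute t (x * y * x⁻¹ * y⁻¹) :=
  ((h1.mul_right h2).mul_right h1.inv_right).mul_right h2.inv_right

theorem comm_of_mem_zp {u x t : G} (hx : x ∈ Subgroup.zpowers u) (hut : Commute u t) :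
    Commute x t := by
  obtain ⟨m, rfl⟩ := Subgroup.mem_zpowers_iff.mp hx
  exact hut.zpow_left m

theorem mem_sup_comm {X Y : Subgroup G} (h : ∀ x ∈ X, ∀ y ∈ Y, x * y = y * x) {g : G}
    (hg : g ∈ X ⊔ Y) : ∃ a ∈ X, ∃ b ∈ Y, a * b = g := by
  have hle : X ≤ Subgroup.normalizer (Y : Set G) := by
    apply Cfsg.Agent.Lib.Helper19.le_normalizer_of_conj_mem
    intro x hx y hy
    rw [h x hx y hy, mul_inv_cancel_right]
    exact hy
  have hg' : g ∈ ((X ⊔ Y : Subgroup G) : Set G) := hg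
  rw [Subgroup.coe_mul_of_left_le_normalizer_right X Y hle] at hg'
  exact Set.mem_mul.mp hg'

theorem transv {g z c b : G} (hgz : g * z * g⁻¹ = c * z) (hcg : Commute c g) (hcz : Commute c z)
    (hgb : Commute g b) (hcb : Commute c b) (n : ℕ) (m : ℤ) :
    g ^ n * (b * z ^ m) * (g ^ n)⁻¹ = c ^ ((n : ℤ) * m) * (b * z ^ m) := by
  have h1 : g * (b * z ^ m) * g⁻¹ = c ^ m * (b * z ^ m) := by
    have h2 : g * z ^ m * g⁻¹ = c ^ m * z ^ m := by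
      rw [← conj_zpow, hgz, hcz.mul_zpow]
    calc g * (b * z ^ m) * g⁻¹ = (g * b) * z ^ m * g⁻¹ := by group
      _ = (b * g) * z ^ m * g⁻¹ := by rw [hgb.eq]
      _ = b * (g * z ^ m * g⁻¹) := by group
      _ = b * (c ^ m * z ^ m) := by rw [h2]
      _ = (b * c ^ m) * z ^ m := by group
      _ = (c ^ m * b) * z ^ m := by rw [(hcb.zpow_left m).eq]
      _ = c ^ m * (b * z ^ m) := by group
  induction n with
  | zero => simp
  | succ n ih =>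
    have h3 : g ^ (n + 1) * (b * z ^ m) * (g ^ (n + 1))⁻¹ =
        g * (g ^ n * (b * z ^ m) * (g ^ n)⁻¹) * g⁻¹ := by
      rw [pow_succ']; group
    rw [h3, ih]
    have h4 : g * (c ^ ((n : ℤ) * m) * (b * z ^ m)) * g⁻¹ =
        c ^ ((n : ℤ) * m) * (g * (b * z ^ m) * g⁻¹) := by
      calc g * (c ^ ((n : ℤ) * m) * (b * z ^ m)) * g⁻¹
          = (g * c ^ ((n : ℤ) * m)) * (b * z ^ m) * g⁻¹ := by group
        _ = (c ^ ((n : ℤ) * m) * g) * (b * z ^ m) * g⁻¹ := by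
            rw [(hcg.zpow_left ((n : ℤ) * m)).eq]
        _ = c ^ ((n : ℤ) * m) * (g * (b * z ^ m) * g⁻¹) := by group
    rw [h4, h1, ← mul_assoc, ← zpow_add]
    congr 2
    push_cast; ring

variable [Finite G] {p : ℕ} {K : Set (Subgroup G)}

omit [Finite G] in
theorem card_zp (hp : p.Prime) {g : G} (hg : g ^ p = 1) (hg1 : g ≠ 1) :
    Nat.card (Subgroup.zpowers g) = p := by
  have hpf : Fact p.Prime := ⟨hp⟩
  rw [Nat.card_zpowers]; exact orderOf_eq_prime hg hg1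

omit [Finite G] in
theorem pow_p_of_mem {X : Subgroup G} (hX : Nat.card X = p) {g : G} (hg : g ∈ X) :
    g ^ p = 1 := by
  have h1 : (⟨g, hg⟩ : X) ^ Nat.card X = 1 := pow_card_eq_one'
  rw [hX] at h1
  exact congrArg Subtype.val h1

theorem zp_eq (hp : p.Prime) {X : Subgroup G} (hX : Nat.card X = p) {g : G} (hg : g ∈ X)
    (hg1 : g ≠ 1) : Subgroup.zpowers g = X := by
  apply Subgroup.eq_of_le_of_card_ge (Subgroup.zpowers_le.mpr hg)
  rw [hX, card_zp hp (pow_p_of_mem hX hg) hg1]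

omit [Finite G] in
theorem ne_bot_of_card (hp : p.Prime) {X : Subgroup G} (hX : Nat.card X = p) :
    ∃ g ∈ X, g ≠ 1 := by
  by_contra hcon
  push Not at hcon
  have h1 : X = ⊥ := eq_bot_iff.mpr (fun g hg => Subgroup.mem_bot.mpr (hcon g hg))
  rw [h1, Subgroup.card_bot] at hX
  exact hp.one_lt.ne hX

theorem comm_of_card (hp : p.Prime) {X : Subgroup G} (hX : Nat.card X = p) {x y : G}
    (hx : x ∈ X) (hy : y ∈ X) : Commute x y := by
  obtain ⟨g, hg, hg1⟩ := ne_bot_of_card hp hX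
  have h1 := zp_eq hp hX hg hg1
  rw [← h1] at hx hy
  obtain ⟨i, rfl⟩ := Subgroup.mem_zpowers_iff.mp hx
  obtain ⟨j, rfl⟩ := Subgroup.mem_zpowers_iff.mp hy
  exact (Commute.refl g).zpow_zpow i j

def Hyp (p : ℕ) (K : Set (Subgroup G)) : Prop :=
  p.Prime ∧ (∀ X ∈ K, Nat.card ↥X = p) ∧
  (∀ X ∈ K, ∀ Y ∈ K, X ≠ Y → (∀ x ∈ X, ∀ y ∈ Y, x * y = y * x) →
      ∀ Z : Subgroup G, Z ≤ X ⊔ Y → Nat.card ↥Z = p → Z ∈ K) ∧
  (∀ X ∈ K, ∀ Y ∈ K, X ≠ Y → (∀ x ∈ X, ∀ y ∈ Y, x * y = y * x) →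
      ∀ W ∈ K, (X ⊔ Y) ⊓ Subgroup.centralizer (W : Set G) ≠ ⊥)

def Sing (p : ℕ) (K : Set (Subgroup G)) (A : Subgroup G) : Prop :=
  (∀ a ∈ A, ∀ b ∈ A, a * b = b * a) ∧ (∀ a ∈ A, a ^ p = 1) ∧
    ∀ Z : Subgroup G, Z ≤ A → Nat.card ↥Z = p → Z ∈ K

omit [Finite G] in
theorem zp_mem (h : Hyp p K) {A : Subgroup G} (hA : Sing p K A) {g : G} (hg : g ∈ A)
    (hg1 : g ≠ 1) : Subgroup.zpowers g ∈ K :=
  hA.2.2 _ (Subgroup.zpowers_le.mpr hg) (card_zp h.1 (hA.2.1 g hg) hg1)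

theorem sing_sup (h : Hyp p K) {X Y : Subgroup G} (hX : X ∈ K) (hY : Y ∈ K) (hne : X ≠ Y)
    (hc : ∀ x ∈ X, ∀ y ∈ Y, x * y = y * x) : Sing p K (X ⊔ Y) := by
  obtain ⟨hp, hK, ha, hb⟩ := h
  refine ⟨?_, ?_, fun Z hZ hZc => ha X hX Y hY hne hc Z hZ hZc⟩
  · intro a ha' b hb'
    obtain ⟨x, hx, y, hy, rfl⟩ := mem_sup_comm hc ha'
    obtain ⟨x', hx', y', hy', rfl⟩ := mem_sup_comm hc hb'
    have c1 : Commute x x' := comm_of_card hp (hK X hX) hx hx'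
    have c2 : Commute y y' := comm_of_card hp (hK Y hY) hy hy'
    have c3 : Commute x y' := hc x hx y' hy'
    have c4 : Commute y x' := (show Commute x' y from hc x' hx' y hy).symm
    exact ((c1.mul_right c3).mul_left (c4.mul_right c2)).eq
  · intro a ha'
    obtain ⟨x, hx, y, hy, rfl⟩ := mem_sup_comm hc ha'
    have c : Commute x y := hc x hx y hy
    rw [c.mul_pow, pow_p_of_mem (hK X hX) hx, pow_p_of_mem (hK Y hY) hy, one_mul]

theorem le_of_centralizes (h : Hyp p K) {A : Subgroup G} (hA : Sing p K A)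
    (hmax : ∀ B, Sing p K B → Nat.card B ≤ Nat.card A) {W : Subgroup G} (hW : W ∈ K)
    (hc : ∀ a ∈ A, ∀ w ∈ W, a * w = w * a) : W ≤ A := by
  have hp := h.1
  have hWc := h.2.1 W hW
  have hS : Sing p K (A ⊔ W) := by
    refine ⟨?_, ?_, ?_⟩
    · intro a ha' b hb'
      obtain ⟨x, hx, y, hy, rfl⟩ := mem_sup_comm hc ha'
      obtain ⟨x', hx', y', hy', rfl⟩ := mem_sup_comm hc hb'
      have c1 : Commute x x' := hA.1 x hx x' hx'
      have c2 : Commute y y' := comm_of_card hp hWc hy hy'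
      have c3 : Commute x y' := hc x hx y' hy'
      have c4 : Commute y x' := (show Commute x' y from hc x' hx' y hy).symm
      exact ((c1.mul_right c3).mul_left (c4.mul_right c2)).eq
    · intro a ha'
      obtain ⟨x, hx, y, hy, rfl⟩ := mem_sup_comm hc ha'
      have c : Commute x y := hc x hx y hy
      rw [c.mul_pow, hA.2.1 x hx, pow_p_of_mem hWc hy, one_mul]
    · intro Z hZ hZc
      obtain ⟨g, hg, hg1⟩ := ne_bot_of_card hp hZc
      have hZg := zp_eq hp hZc hg hg1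
      obtain ⟨a, ha', w, hw, hawg⟩ := mem_sup_comm hc (hZ hg)
      by_cases hw1 : w = 1
      · apply hA.2.2 Z _ hZc
        rw [← hZg, Subgroup.zpowers_le, ← hawg, hw1, mul_one]; exact ha'
      by_cases ha1 : a = 1
      · have hZW : Z = W := by
          rw [← hZg, ← hawg, ha1, one_mul]; exact zp_eq hp hWc hw hw1
        rw [hZW]; exact hW
      have hXK : Subgroup.zpowers a ∈ K := zp_mem h hA ha' ha1
      by_cases hXW : Subgroup.zpowers a = W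
      · apply hA.2.2 Z _ hZc
        rw [← hZg, Subgroup.zpowers_le, ← hawg]
        have hwA : w ∈ A := by
          have hw2 : w ∈ Subgroup.zpowers a := hXW ▸ hw
          exact (Subgroup.zpowers_le.mpr ha') hw2
        exact mul_mem ha' hwA
      · apply h.2.2.1 _ hXK W hW hXW _ Z _ hZc
        · intro x hx y hy
          exact hc x ((Subgroup.zpowers_le.mpr ha') hx) y hy
        · rw [← hZg, Subgroup.zpowers_le, ← hawg]
          exact mul_mem (Subgroup.mem_sup_left (Subgroup.mem_zpowers a))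
            (Subgroup.mem_sup_right hw)
  have h1 := hmax _ hS
  have h2 : A = A ⊔ W := Subgroup.eq_of_le_of_card_ge le_sup_left h1
  rw [h2]; exact le_sup_right

theorem decomp (h : Hyp p K) {A : Subgroup G} (hA : Sing p K A) {W : Subgroup G} (hW : W ∈ K)
    {a₁ : G} (ha₁ : a₁ ∈ A) (hn : ∃ w ∈ W, a₁ * w ≠ w * a₁) (a : G) (ha : a ∈ A) :
    ∃ b ∈ A, (∀ w ∈ W, b * w = w * b) ∧ ∃ m : ℤ, a = b * a₁ ^ m := by
  have hp := h.1
  by_cases hmem : a ∈ Subgroup.zpowers a₁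
  · obtain ⟨m, hm⟩ := Subgroup.mem_zpowers_iff.mp hmem
    exact ⟨1, A.one_mem, fun w _ => by rw [one_mul, mul_one], m, by rw [one_mul, hm]⟩
  have ha₁1 : a₁ ≠ 1 := by
    rintro rfl
    obtain ⟨w, _, hw⟩ := hn
    exact hw (by rw [one_mul, mul_one])
  have ha1 : a ≠ 1 := by
    rintro rfl
    exact hmem (Subgroup.one_mem _)
  have hXK := zp_mem h hA ha₁ ha₁1
  have hYK := zp_mem h hA ha ha1
  have hXY : Subgroup.zpowers a₁ ≠ Subgroup.zpowers a := by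
    intro heq
    exact hmem (heq ▸ Subgroup.mem_zpowers a)
  have hXA : Subgroup.zpowers a₁ ≤ A := Subgroup.zpowers_le.mpr ha₁
  have hYA : Subgroup.zpowers a ≤ A := Subgroup.zpowers_le.mpr ha
  have hcomm : ∀ x ∈ Subgroup.zpowers a₁, ∀ y ∈ Subgroup.zpowers a, x * y = y * x :=
    fun x hx y hy => hA.1 x (hXA hx) y (hYA hy)
  have hne := h.2.2.2 _ hXK _ hYK hXY hcomm W hW
  obtain ⟨e, he, he1⟩ : ∃ e ∈ (Subgroup.zpowers a₁ ⊔ Subgroup.zpowers a) ⊓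
      Subgroup.centralizer (W : Set G), e ≠ 1 := by
    by_contra hcon
    push Not at hcon
    exact hne (eq_bot_iff.mpr (fun e he => Subgroup.mem_bot.mpr (hcon e he)))
  obtain ⟨he_sup, he_c⟩ := Subgroup.mem_inf.mp he
  have heW : ∀ w ∈ W, Commute e w :=
    fun w hw => ((Subgroup.mem_centralizer_iff.mp he_c) w hw).symm
  obtain ⟨x, hx, y, hy, hxy⟩ := mem_sup_comm hcomm he_sup
  have hy1 : y ≠ 1 := by
    rintro rfl
    rw [mul_one] at hxy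
    rw [hxy] at hx
    have h1 := zp_eq hp (card_zp hp (hA.2.1 a₁ ha₁) ha₁1) hx he1
    obtain ⟨w, hw, hw'⟩ := hn
    have h2 : a₁ ∈ Subgroup.zpowers e := h1 ▸ Subgroup.mem_zpowers a₁
    exact hw' (comm_of_mem_zp h2 (heW w hw)).eq
  have h3 := zp_eq hp (card_zp hp (hA.2.1 a ha) ha1) hy hy1
  have h4 : a ∈ Subgroup.zpowers y := h3 ▸ Subgroup.mem_zpowers a
  obtain ⟨k, hk⟩ := Subgroup.mem_zpowers_iff.mp h4
  have hy' : y = x⁻¹ * e := by rw [← hxy]; group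
  have heA : e ∈ A := (sup_le hXA hYA) he_sup
  have hxe : Commute x⁻¹ e := by
    have h5 : Commute x e := hA.1 x (hXA hx) e heA
    exact h5.inv_left
  refine ⟨e ^ k, A.zpow_mem heA k, fun w hw => ((heW w hw).zpow_left k).eq, ?_⟩
  obtain ⟨m, hm⟩ := Subgroup.mem_zpowers_iff.mp
    (Subgroup.zpow_mem _ (Subgroup.inv_mem _ hx) k)
  refine ⟨m, ?_⟩
  rw [hm, ← hk, hy', hxe.mul_zpow, (hxe.zpow_zpow k k).eq]


theorem pair (h : Hyp p K) (hKc : ∀ X ∈ K, ∀ g : G, X.map (MulAut.conj g).toMonoidHom ∈ K)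
    {A : Subgroup G} (hA : Sing p K A)
    (hmax : ∀ B, Sing p K B → Nat.card B ≤ Nat.card A) {W₁ W₂ : Subgroup G} (hW₁ : W₁ ∈ K)
    (hW₂ : W₂ ∈ K) {z₁ z₂ : G} (hz₁ : z₁ ∈ A) (hz₂ : z₂ ∈ A)
    (h11 : ∀ w ∈ W₁, z₁ * w = w * z₁) (h22 : ∀ w ∈ W₂, z₂ * w = w * z₂)
    (h12 : ∃ w ∈ W₂, z₁ * w ≠ w * z₁) (h21 : ∃ w ∈ W₁, z₂ * w ≠ w * z₂) :
    ∃ c ∈ A, c ≠ 1 ∧ (∀ w ∈ W₁, c * w = w * c) ∧ (∀ w ∈ W₂, c * w = w * c) ∧
      (∀ w ∈ W₂, ∀ a ∈ A, w * a * w⁻¹ * a⁻¹ ∈ Subgroup.zpowers c) ∧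
      ∃ w ∈ W₂, ∃ a ∈ A, c = w * a * w⁻¹ * a⁻¹ := by
  have hp := h.1
  have hK := h.2.1
  have hW₁c := hK W₁ hW₁
  have hW₂c := hK W₂ hW₂
  have hz₁1 : z₁ ≠ 1 := by
    rintro rfl
    obtain ⟨w, _, hw⟩ := h12
    exact hw (by rw [one_mul, mul_one])
  have hz₂1 : z₂ ≠ 1 := by
    rintro rfl
    obtain ⟨w, _, hw⟩ := h21
    exact hw (by rw [one_mul, mul_one])
  have hz₁p := hA.2.1 z₁ hz₁
  have hz₂p := hA.2.1 z₂ hz₂
  have hZ₁K := zp_mem h hA hz₁ hz₁1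
  have hZ₂K := zp_mem h hA hz₂ hz₂1
  have hZ₁A : Subgroup.zpowers z₁ ≤ A := Subgroup.zpowers_le.mpr hz₁
  have hZ₂A : Subgroup.zpowers z₂ ≤ A := Subgroup.zpowers_le.mpr hz₂
  have hZ₁W₁ : Subgroup.zpowers z₁ ≠ W₁ := by
    intro heq
    obtain ⟨w, hw, hw'⟩ := h21
    exact hw' (hA.1 z₂ hz₂ w (hZ₁A (heq ▸ hw)))
  have hZ₂W₂ : Subgroup.zpowers z₂ ≠ W₂ := by
    intro heq
    obtain ⟨w, hw, hw'⟩ := h12
    exact hw' (hA.1 z₁ hz₁ w (hZ₂A (heq ▸ hw)))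
  have hc₁ : ∀ x ∈ Subgroup.zpowers z₁, ∀ y ∈ W₁, x * y = y * x := by
    intro x hx y hy
    exact (comm_of_mem_zp hx (show Commute z₁ y from h11 y hy)).eq
  have hc₂ : ∀ x ∈ Subgroup.zpowers z₂, ∀ y ∈ W₂, x * y = y * x := by
    intro x hx y hy
    exact (comm_of_mem_zp hx (show Commute z₂ y from h22 y hy)).eq
  have hne₁ := h.2.2.2 _ hZ₁K W₁ hW₁ hZ₁W₁ hc₁ W₂ hW₂
  obtain ⟨u, hu, hu1⟩ : ∃ u ∈ (Subgroup.zpowers z₁ ⊔ W₁) ⊓
      Subgroup.centralizer (W₂ : Set G), u ≠ 1 := by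
    by_contra hcon
    push Not at hcon
    exact hne₁ (eq_bot_iff.mpr (fun e he => Subgroup.mem_bot.mpr (hcon e he)))
  obtain ⟨hu_sup, hu_c⟩ := Subgroup.mem_inf.mp hu
  have huW₂ : ∀ w ∈ W₂, Commute u w :=
    fun w hw => ((Subgroup.mem_centralizer_iff.mp hu_c) w hw).symm
  obtain ⟨a₁, ha₁, b₁, hb₁, hab₁⟩ := mem_sup_comm hc₁ hu_sup
  have ha₁A : a₁ ∈ A := hZ₁A ha₁
  have hb₁1 : b₁ ≠ 1 := by
    rintro rfl
    rw [mul_one] at hab₁
    rw [hab₁] at ha₁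
    have h1 := zp_eq hp (card_zp hp hz₁p hz₁1) ha₁ hu1
    have h2 : z₁ ∈ Subgroup.zpowers u := h1 ▸ Subgroup.mem_zpowers z₁
    obtain ⟨w, hw, hw'⟩ := h12
    exact hw' (comm_of_mem_zp h2 (huW₂ w hw)).eq
  have hW₁gen := zp_eq hp hW₁c hb₁ hb₁1
  have huz₁ : Commute u z₁ := by
    rw [← hab₁]
    exact (show Commute a₁ z₁ from hA.1 a₁ ha₁A z₁ hz₁).mul_left
      (show Commute z₁ b₁ from h11 b₁ hb₁).symm
  have huz₂ : ¬ Commute u z₂ := by
    intro hcom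
    have hb : Commute b₁ z₂ := by
      have h0 : b₁ = a₁⁻¹ * u := by rw [← hab₁]; group
      rw [h0]
      exact ((show Commute a₁ z₂ from hA.1 a₁ ha₁A z₂ hz₂).inv_left).mul_left hcom
    obtain ⟨w, hw, hw'⟩ := h21
    have hw2 : w ∈ Subgroup.zpowers b₁ := hW₁gen ▸ hw
    exact hw' (comm_of_mem_zp hw2 hb).symm.eq
  have hup : u ^ p = 1 := by
    rw [← hab₁, (show Commute a₁ b₁ from hc₁ a₁ ha₁ b₁ hb₁).mul_pow,
      pow_p_of_mem (hK _ hZ₁K) ha₁, pow_p_of_mem hW₁c hb₁, one_mul]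
  have hzu1 : z₁ * u ≠ 1 := by
    intro heq
    have h0 : u = z₁⁻¹ := eq_inv_of_mul_eq_one_right heq
    apply huz₂
    rw [h0]
    exact (show Commute z₁ z₂ from hA.1 z₁ hz₁ z₂ hz₂).inv_left
  have hzup : (z₁ * u) ^ p = 1 := by
    rw [huz₁.symm.mul_pow, hz₁p, hup, one_mul]
  have hU'K : Subgroup.zpowers (z₁ * u) ∈ K := by
    apply h.2.2.1 _ hZ₁K W₁ hW₁ hZ₁W₁ hc₁ _ _ (card_zp hp hzup hzu1)
    rw [Subgroup.zpowers_le]
    exact mul_mem (Subgroup.mem_sup_left (Subgroup.mem_zpowers z₁)) hu_sup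
  have hne₂ := h.2.2.2 _ hZ₂K W₂ hW₂ hZ₂W₂ hc₂ _ hU'K
  obtain ⟨v, hv, hv1⟩ : ∃ v ∈ (Subgroup.zpowers z₂ ⊔ W₂) ⊓
      Subgroup.centralizer ((Subgroup.zpowers (z₁ * u) : Subgroup G) : Set G), v ≠ 1 := by
    by_contra hcon
    push Not at hcon
    exact hne₂ (eq_bot_iff.mpr (fun e he => Subgroup.mem_bot.mpr (hcon e he)))
  obtain ⟨hv_sup, hv_c⟩ := Subgroup.mem_inf.mp hv
  have hvzu : (z₁ * u) * v = v * (z₁ * u) :=
    (Subgroup.mem_centralizer_iff.mp hv_c) _ (Subgroup.mem_zpowers _)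
  obtain ⟨a₂, ha₂, b₂, hb₂, hab₂⟩ := mem_sup_comm hc₂ hv_sup
  have ha₂A : a₂ ∈ A := hZ₂A ha₂
  have k1 : Commute z₁ a₂ := hA.1 z₁ hz₁ a₂ ha₂A
  have k2 : Commute a₂ b₂ := hc₂ a₂ ha₂ b₂ hb₂
  have k3 : Commute u b₂ := huW₂ b₂ hb₂
  have k4 : Commute z₁ u := huz₁.symm
  have e1 : u * a₂ * z₁ * b₂ = a₂ * u * b₂ * z₁ := by
    have l : z₁ * u * (a₂ * b₂) = u * a₂ * z₁ * b₂ := by
      calc z₁ * u * (a₂ * b₂) = (z₁ * u) * a₂ * b₂ := by group
        _ = (u * z₁) * a₂ * b₂ := by rw [k4.eq]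
        _ = u * (z₁ * a₂) * b₂ := by group
        _ = u * (a₂ * z₁) * b₂ := by rw [k1.eq]
        _ = u * a₂ * z₁ * b₂ := by group
    have r : a₂ * b₂ * (z₁ * u) = a₂ * u * b₂ * z₁ := by
      calc a₂ * b₂ * (z₁ * u) = a₂ * b₂ * (u * z₁) := by rw [k4.eq]
        _ = a₂ * (b₂ * u) * z₁ := by group
        _ = a₂ * (u * b₂) * z₁ := by rw [k3.eq]
        _ = a₂ * u * b₂ * z₁ := by group
    rw [← hab₂] at hvzu
    exact l.symm.trans (hvzu.trans r)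
  obtain ⟨c, hcdef⟩ : ∃ c, c = b₂ * z₁ * b₂⁻¹ * z₁⁻¹ := ⟨_, rfl⟩
  have hc2 : c = u⁻¹ * a₂⁻¹ * u * a₂ := by
    rw [hcdef]
    calc b₂ * z₁ * b₂⁻¹ * z₁⁻¹ = (a₂ * u)⁻¹ * (a₂ * u * b₂ * z₁) * (z₁ * b₂)⁻¹ := by group
      _ = (a₂ * u)⁻¹ * (u * a₂ * z₁ * b₂) * (z₁ * b₂)⁻¹ := by rw [e1]
      _ = u⁻¹ * a₂⁻¹ * u * a₂ := by group
  have hcomm2 : ∀ t : G, Commute t u → Commute t a₂ → Commute t c := by
    intro t h1 h2
    rw [hc2]
    exact ((h1.inv_right.mul_right h2.inv_right).mul_right h1).mul_right h2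
  have hcomm1 : ∀ t : G, Commute t b₂ → Commute t z₁ → Commute t c := by
    intro t h1 h2
    rw [hcdef]
    exact comm4 h1 h2
  have hcz₁ : Commute c z₁ := (hcomm2 z₁ k4 k1).symm
  have hcW₂ : ∀ w ∈ W₂, Commute c w := by
    intro w hw
    exact (hcomm2 w (huW₂ w hw).symm (show Commute a₂ w from hc₂ a₂ ha₂ w hw).symm).symm
  have hcu : Commute c u := (hcomm1 u k3 k4.symm).symm
  have hcA : ∀ a ∈ A, Commute c a := by
    intro a ha
    obtain ⟨b, hbA, hbW, m, rfl⟩ := decomp h hA hW₂ hz₁ h12 a ha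
    have hcb : Commute c b :=
      (hcomm1 b (show Commute b b₂ from hbW b₂ hb₂) (show Commute b z₁ from hA.1 b hbA z₁ hz₁)).symm
    exact hcb.mul_right (hcz₁.zpow_right m)
  have hcW₁ : ∀ w ∈ W₁, Commute c w := by
    intro w hw
    have hb : Commute c b₁ := by
      have h0 : b₁ = a₁⁻¹ * u := by rw [← hab₁]; group
      rw [h0]
      exact (hcA a₁ ha₁A).inv_right.mul_right hcu
    have hw2 : w ∈ Subgroup.zpowers b₁ := hW₁gen ▸ hw
    exact (comm_of_mem_zp hw2 hb.symm).symm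
  have hc1 : c ≠ 1 := by
    intro hc1
    by_cases hb₂1 : b₂ = 1
    · rw [hb₂1, mul_one] at hab₂
      have ha₂1 : a₂ ≠ 1 := by rw [hab₂]; exact hv1
      have h1 := zp_eq hp (card_zp hp hz₂p hz₂1) ha₂ ha₂1
      have h2 : z₂ ∈ Subgroup.zpowers a₂ := h1 ▸ Subgroup.mem_zpowers z₂
      have h3 : Commute u a₂ := by
        have h4 : u⁻¹ * a₂⁻¹ * u * a₂ = 1 := by rw [← hc2, hc1]
        have h5 : u * a₂ = a₂ * u := by
          calc u * a₂ = a₂ * u * (u⁻¹ * a₂⁻¹ * u * a₂) := by group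
            _ = a₂ * u := by rw [h4, mul_one]
        exact h5
      exact huz₂ (comm_of_mem_zp h2 h3.symm).symm
    · have h1 := zp_eq hp hW₂c hb₂ hb₂1
      have h3 : Commute b₂ z₁ := by
        have h4 : b₂ * z₁ * b₂⁻¹ * z₁⁻¹ = 1 := by rw [← hcdef, hc1]
        have h5 : b₂ * z₁ = z₁ * b₂ := by
          calc b₂ * z₁ = (b₂ * z₁ * b₂⁻¹ * z₁⁻¹) * (z₁ * b₂) := by group
            _ = z₁ * b₂ := by rw [h4, one_mul]
        exact h5
      obtain ⟨w, hw, hw'⟩ := h12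
      have hw2 : w ∈ Subgroup.zpowers b₂ := h1 ▸ hw
      exact hw' (comm_of_mem_zp hw2 h3).symm.eq
  have hb₂1 : b₂ ≠ 1 := by
    rintro rfl
    apply hc1
    rw [hcdef]; group
  have hW₂gen := zp_eq hp hW₂c hb₂ hb₂1
  obtain ⟨z₁', hz₁'⟩ : ∃ z₁', z₁' = b₂ * z₁ * b₂⁻¹ := ⟨_, rfl⟩
  have hcz' : z₁' = c * z₁ := by rw [hz₁', hcdef]; group
  have hcz'' : c = z₁' * z₁⁻¹ := by rw [hcz']; group
  have hz'z : Commute z₁' z₁ := by rw [hcz']; exact hcz₁.mul_left (Commute.refl z₁)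
  have hz'p : z₁' ^ p = 1 := by
    rw [hz₁', conj_pow, hz₁p]; group
  have hcp : c ^ p = 1 := by
    rw [hcz'', hz'z.inv_right.mul_pow, hz'p, inv_pow, hz₁p]; simp
  have hZ'K : (Subgroup.zpowers z₁).map (MulAut.conj b₂).toMonoidHom ∈ K := hKc _ hZ₁K b₂
  have hZ'eq : (Subgroup.zpowers z₁).map (MulAut.conj b₂).toMonoidHom =
      Subgroup.zpowers z₁' := by
    rw [MonoidHom.map_zpowers, hz₁']
    rfl
  rw [hZ'eq] at hZ'K
  have hZZ' : Subgroup.zpowers z₁ ≠ Subgroup.zpowers z₁' := by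
    intro heq
    have h1 : z₁' ∈ Subgroup.zpowers z₁ := heq ▸ Subgroup.mem_zpowers z₁'
    have h2 : c ∈ Subgroup.zpowers z₁ := by
      rw [hcz'']
      exact mul_mem h1 (inv_mem (Subgroup.mem_zpowers z₁))
    have h3 := zp_eq hp (card_zp hp hz₁p hz₁1) h2 hc1
    have h4 : z₁ ∈ Subgroup.zpowers c := h3 ▸ Subgroup.mem_zpowers z₁
    obtain ⟨w, hw, hw'⟩ := h12
    exact hw' (comm_of_mem_zp h4 (hcW₂ w hw)).eq
  have hcK : Subgroup.zpowers c ∈ K := by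
    apply h.2.2.1 _ hZ₁K _ hZ'K hZZ' _ _ _ (card_zp hp hcp hc1)
    · intro x hx y hy
      obtain ⟨i, rfl⟩ := Subgroup.mem_zpowers_iff.mp hx
      obtain ⟨j, rfl⟩ := Subgroup.mem_zpowers_iff.mp hy
      exact (hz'z.symm.zpow_zpow i j).eq
    · rw [Subgroup.zpowers_le, hcz'']
      exact mul_mem (Subgroup.mem_sup_right (Subgroup.mem_zpowers z₁'))
        (Subgroup.mem_sup_left (inv_mem (Subgroup.mem_zpowers z₁)))
  have hcAmem : c ∈ A := by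
    have h1 : Subgroup.zpowers c ≤ A := by
      apply le_of_centralizes h hA hmax hcK
      intro a ha w hw
      exact (comm_of_mem_zp hw (hcA a ha)).symm.eq
    exact h1 (Subgroup.mem_zpowers c)
  refine ⟨c, hcAmem, hc1, fun w hw => (hcW₁ w hw).eq, fun w hw => (hcW₂ w hw).eq, ?_,
    ⟨b₂, hb₂, z₁, hz₁, hcdef⟩⟩
  intro w hw a ha
  have hw2 : w ∈ Subgroup.zpowers b₂ := hW₂gen ▸ hw
  obtain ⟨n, hn⟩ := (mem_powers_iff_mem_zpowers).mpr hw2
  have hn' : b₂ ^ n = w := hn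
  obtain ⟨b, hbA, hbW, m, rfl⟩ := decomp h hA hW₂ hz₁ h12 a ha
  have hgz : b₂ * z₁ * b₂⁻¹ = c * z₁ := by rw [← hz₁', hcz']
  have hT := transv hgz (hcW₂ b₂ hb₂) hcz₁ (show Commute b b₂ from hbW b₂ hb₂).symm
    (hcA b hbA) n m
  rw [← hn']
  have hfin : b₂ ^ n * (b * z₁ ^ m) * (b₂ ^ n)⁻¹ * (b * z₁ ^ m)⁻¹ = c ^ ((n : ℤ) * m) := by
    rw [hT]; group
  rw [hfin]
  exact Subgroup.zpow_mem_zpowers c _

theorem exists_V (h : Hyp p K)
    (hKc : ∀ X ∈ K, ∀ g : G, X.map (MulAut.conj g).toMonoidHom ∈ K)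
    (hex : ∃ X ∈ K, ∃ Y ∈ K, X ≠ Y ∧ ∀ x ∈ X, ∀ y ∈ Y, x * y = y * x) :
    ∃ V ∈ K, ∀ W ∈ K, ∀ v ∈ V, ∀ w ∈ W, v * w = w * v := by
  have hp := h.1
  have hK := h.2.1
  obtain ⟨X, hX, Y, hY, hXY, hcXY⟩ := hex
  have hS0 := sing_sup h hX hY hXY hcXY
  obtain ⟨A, hA, hmax⟩ := Set.exists_max_image {A : Subgroup G | Sing p K A}
    (fun A => Nat.card A) (Set.toFinite _) ⟨_, hS0⟩
  have hA : Sing p K A := hA
  have hmax' : ∀ B, Sing p K B → Nat.card B ≤ Nat.card A := fun B hB => hmax B hB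
  have hAcard : p < Nat.card A := by
    have h1 : Nat.card (X ⊔ Y : Subgroup G) ≤ Nat.card A := hmax' _ hS0
    have h2 : p < Nat.card (X ⊔ Y : Subgroup G) := by
      by_contra hcon
      push Not at hcon
      have h3 : X = X ⊔ Y :=
        Subgroup.eq_of_le_of_card_ge le_sup_left (by rw [hK X hX]; exact hcon)
      have h4 : Y ≤ X := by rw [h3]; exact le_sup_right
      have h5 : Y = X := Subgroup.eq_of_le_of_card_ge h4 (by rw [hK X hX, hK Y hY])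
      exact hXY h5.symm
    omega
  have hout : ∀ a₀ ∈ A, ∃ a ∈ A, a ∉ Subgroup.zpowers a₀ := by
    intro a₀ ha₀
    by_contra hcon
    push Not at hcon
    have h1 : A ≤ Subgroup.zpowers a₀ := hcon
    have h2 := Subgroup.card_le_of_le h1
    rw [Nat.card_zpowers] at h2
    have h3 : orderOf a₀ ≤ p :=
      Nat.le_of_dvd hp.pos (orderOf_dvd_of_pow_eq_one (hA.2.1 a₀ ha₀))
    omega
  have hV : ∀ g ∈ A, g ≠ 1 → (∀ W ∈ K, ∀ w ∈ W, g * w = w * g) →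
      ∃ V ∈ K, ∀ W ∈ K, ∀ v ∈ V, ∀ w ∈ W, v * w = w * v := by
    intro g hg hg1 hgc
    refine ⟨Subgroup.zpowers g, zp_mem h hA hg hg1, ?_⟩
    intro W hW v hv w hw
    exact (comm_of_mem_zp hv (show Commute g w from hgc W hW w hw)).eq
  by_cases hα : ∀ W ∈ K, ∀ a ∈ A, ∀ w ∈ W, a * w = w * a
  · obtain ⟨a, ha, hane⟩ := hout 1 A.one_mem
    have ha1 : a ≠ 1 := fun h1 => hane (by rw [h1]; exact Subgroup.one_mem _)
    exact hV a ha ha1 (fun W hW w hw => hα W hW a ha w hw)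
  push Not at hα
  obtain ⟨W₂, hW₂, a₀, ha₀, w₀, hw₀, hne₀⟩ := hα
  have h12₀ : ∃ w ∈ W₂, a₀ * w ≠ w * a₀ := ⟨w₀, hw₀, hne₀⟩
  have hstep : ∀ W ∈ K,
      (∃ z₂ ∈ A, (∀ w ∈ W₂, z₂ * w = w * z₂) ∧ ∃ w ∈ W, z₂ * w ≠ w * z₂) →
      ∃ c ∈ A, c ≠ 1 ∧ (∀ w ∈ W, c * w = w * c) ∧ (∀ w ∈ W₂, c * w = w * c) ∧
      (∀ w ∈ W₂, ∀ a ∈ A, w * a * w⁻¹ * a⁻¹ ∈ Subgroup.zpowers c) ∧
      ∃ w ∈ W₂, ∃ a ∈ A, c = w * a * w⁻¹ * a⁻¹ := by
    intro W hW ⟨z₂, hz₂, h22, h21⟩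
    obtain ⟨b, hbA, hbW, m, hm⟩ := decomp h hA hW hz₂ h21 a₀ ha₀
    have hb12 : ∃ w ∈ W₂, b * w ≠ w * b := by
      refine ⟨w₀, hw₀, fun hcom => hne₀ ?_⟩
      rw [hm]
      exact ((show Commute b w₀ from hcom).mul_left
        ((show Commute z₂ w₀ from h22 w₀ hw₀).zpow_left m)).eq
    exact pair h hKc hA hmax' hW hW₂ hbA hz₂ hbW h22 hb12 h21
  by_cases hβ : ∀ W ∈ K, ∀ z ∈ A, (∀ w ∈ W₂, z * w = w * z) → ∀ w ∈ W, z * w = w * z
  · obtain ⟨a, ha, hane⟩ := hout a₀ ha₀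
    obtain ⟨b, hbA, hbW, m, hm⟩ := decomp h hA hW₂ ha₀ h12₀ a ha
    have hb1 : b ≠ 1 := by
      rintro rfl
      rw [one_mul] at hm
      exact hane (hm ▸ Subgroup.zpow_mem_zpowers a₀ m)
    exact hV b hbA hb1 (fun W hW w hw => hβ W hW b hbA hbW w hw)
  push Not at hβ
  obtain ⟨W₁, hW₁, z₂, hz₂, h22, w₁, hw₁, hne₁⟩ := hβ
  obtain ⟨c, hcA, hc1, -, hcW₂, -, w', hw', a', ha', hcw⟩ :=
    hstep W₁ hW₁ ⟨z₂, hz₂, h22, w₁, hw₁, hne₁⟩
  apply hV c hcA hc1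
  intro W hW w hw
  by_cases hW' : ∀ z ∈ A, (∀ w ∈ W₂, z * w = w * z) → ∀ w ∈ W, z * w = w * z
  · exact hW' c hcA hcW₂ w hw
  push Not at hW'
  obtain ⟨z, hz, hz22, w'', hw'', hne''⟩ := hW'
  obtain ⟨c', -, -, hc'W, -, hc'act, -⟩ := hstep W hW ⟨z, hz, hz22, w'', hw'', hne''⟩
  have h1 : c ∈ Subgroup.zpowers c' := by rw [hcw]; exact hc'act w' hw' a' ha'
  exact (comm_of_mem_zp h1 (show Commute c' w from hc'W w hw)).eq

omit [Finite G] in
theorem nc_facts (V : Subgroup G) (hVp : ∀ v ∈ V, v ^ p = 1)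
    (hconj : ∀ g : G, ∀ v ∈ V, ∀ v' ∈ V, Commute (g * v * g⁻¹) v') :
    (∀ x ∈ Subgroup.normalClosure (V : Set G), ∀ y ∈ Subgroup.normalClosure (V : Set G),
      Commute x y) ∧ ∀ x ∈ Subgroup.normalClosure (V : Set G), x ^ p = 1 := by
  have hgen : ∀ s ∈ Group.conjugatesOfSet (V : Set G), ∃ g : G, ∃ v ∈ V, s = g * v * g⁻¹ := by
    intro s hs
    obtain ⟨v, hv, hconj'⟩ := Group.mem_conjugatesOfSet_iff.mp hs
    obtain ⟨g, hg⟩ := isConj_iff.mp hconj'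
    exact ⟨g, v, hv, hg.symm⟩
  have hSS : ∀ s ∈ Group.conjugatesOfSet (V : Set G), ∀ s' ∈ Group.conjugatesOfSet (V : Set G),
      Commute s s' := by
    intro s hs s' hs'
    obtain ⟨g, v, hv, rfl⟩ := hgen s hs
    obtain ⟨g', v', hv', rfl⟩ := hgen s' hs'
    have h1 := hconj (g'⁻¹ * g) v hv v' hv'
    have h2 : g * v * g⁻¹ = g' * ((g'⁻¹ * g) * v * (g'⁻¹ * g)⁻¹) * g'⁻¹ := by group
    rw [h2]
    exact (Commute.conj_iff g').mpr h1
  have h1 : ∀ s ∈ Group.conjugatesOfSet (V : Set G),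
      ∀ x ∈ Subgroup.normalClosure (V : Set G), Commute x s := by
    intro s hs x hx
    have hle : Subgroup.normalClosure (V : Set G) ≤ Subgroup.centralizer ({s} : Set G) := by
      apply (Subgroup.closure_le _).mpr
      intro s' hs'
      exact Subgroup.mem_centralizer_singleton_iff.mpr (hSS s' hs' s hs).eq
    exact Subgroup.mem_centralizer_singleton_iff.mp (hle hx)
  have h2 : ∀ x ∈ Subgroup.normalClosure (V : Set G),
      ∀ y ∈ Subgroup.normalClosure (V : Set G), Commute x y := by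
    intro x hx y hy
    have hle : Subgroup.normalClosure (V : Set G) ≤ Subgroup.centralizer ({x} : Set G) := by
      apply (Subgroup.closure_le _).mpr
      intro s hs
      exact Subgroup.mem_centralizer_singleton_iff.mpr (h1 s hs x hx).symm.eq
    exact (show Commute y x from Subgroup.mem_centralizer_singleton_iff.mp (hle hy)).symm
  refine ⟨h2, ?_⟩
  intro x hx
  have hx' : x ∈ Subgroup.closure (Group.conjugatesOfSet (V : Set G)) := hx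
  induction hx' using Subgroup.closure_induction with
  | mem s hs =>
    obtain ⟨g, v, hv, rfl⟩ := hgen s hs
    rw [conj_pow, hVp v hv]; group
  | one => exact one_pow p
  | mul a b ha hb iha ihb =>
    rw [(h2 a ha b hb).mul_pow, iha ha, ihb hb, one_mul]
  | inv a ha iha => rw [inv_pow, iha ha, inv_one]

end

/-- Let p be a prime and K a set of subgroups of order p of a finite group G, closed under conjugation, such that at least two distinct members of K commute elementwise, and whenever two distinct members X, Y of K commute: every subgroup of order p of the group XY they generate belongs to K, and every member W of K has centralizer meeting XY nontrivially. Then some member V of K commutes elementwise with every member of K and lies in O_p(G); in particular G is not simple. -/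
theorem result {G : Type*} [Group G] [Finite G]
    {p : ℕ} (hp : p.Prime) (K : Set (Subgroup G)) (hK : ∀ X ∈ K, Nat.card ↥X = p)
    (hKc : ∀ X ∈ K, ∀ g : G, X.map (MulAut.conj g).toMonoidHom ∈ K)
    (hex : ∃ X ∈ K, ∃ Y ∈ K, X ≠ Y ∧ ∀ x ∈ X, ∀ y ∈ Y, x * y = y * x)
    (ha : ∀ X ∈ K, ∀ Y ∈ K, X ≠ Y → (∀ x ∈ X, ∀ y ∈ Y, x * y = y * x) →
      ∀ Z : Subgroup G, Z ≤ X ⊔ Y → Nat.card ↥Z = p → Z ∈ K)
    (hb : ∀ X ∈ K, ∀ Y ∈ K, X ≠ Y → (∀ x ∈ X, ∀ y ∈ Y, x * y = y * x) →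
      ∀ W ∈ K, (X ⊔ Y) ⊓ Subgroup.centralizer (W : Set G) ≠ ⊥) :
    (∃ V ∈ K, (∀ W ∈ K, ∀ v ∈ V, ∀ w ∈ W, v * w = w * v) ∧ V ≤ Cfsg.pCore p G) ∧ ¬ IsSimpleGroup G := by
  have h : Hyp p K := ⟨hp, hK, ha, hb⟩
  obtain ⟨V, hVK, hVc⟩ := exists_V h hKc hex
  have hVp : ∀ v ∈ V, v ^ p = 1 := fun v hv => pow_p_of_mem (hK V hVK) hv
  have hconj : ∀ g : G, ∀ v ∈ V, ∀ v' ∈ V, Commute (g * v * g⁻¹) v' := by
    intro g v hv v' hv'
    have hmem : g * v * g⁻¹ ∈ V.map (MulAut.conj g).toMonoidHom := ⟨v, hv, rfl⟩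
    exact (show Commute v' (g * v * g⁻¹) from hVc _ (hKc V hVK g) v' hv' _ hmem).symm
  obtain ⟨hNc, hNp⟩ := nc_facts V hVp hconj
  have hNn : (Subgroup.normalClosure (V : Set G)).Normal := Subgroup.normalClosure_normal
  have hVN : V ≤ Subgroup.normalClosure (V : Set G) := Subgroup.le_normalClosure
  have hNpg : IsPGroup p (Subgroup.normalClosure (V : Set G)) := by
    intro x
    exact ⟨1, Subtype.ext (by rw [pow_one]; exact hNp x x.2)⟩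
  refine ⟨⟨V, hVK, hVc, hVN.trans (Cfsg.Agent.Lib.Helper17.le_pCore hNn hNpg)⟩, ?_⟩
  intro hs
  rcases hNn.eq_bot_or_eq_top with hbot | htop
  · obtain ⟨g, hg, hg1⟩ := ne_bot_of_card hp (hK V hVK)
    have hgN := hVN hg
    rw [hbot] at hgN
    exact hg1 (Subgroup.mem_bot.mp hgN)
  · have hcomm : ∀ x y : G, Commute x y :=
      fun x y => hNc x (htop ▸ Subgroup.mem_top x) y (htop ▸ Subgroup.mem_top y)
    have hVn : V.Normal :=
      ⟨fun n hn g => by rw [(hcomm g n).eq, mul_inv_cancel_right]; exact hn⟩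
    rcases hVn.eq_bot_or_eq_top with hb' | ht'
    · obtain ⟨g, hg, hg1⟩ := ne_bot_of_card hp (hK V hVK)
      rw [hb'] at hg
      exact hg1 (Subgroup.mem_bot.mp hg)
    · have hG : Nat.card G = p := by rw [← hK V hVK, ht', Subgroup.card_top]
      obtain ⟨X, hX, Y, hY, hXY, -⟩ := hex
      have h1 : X = ⊤ := Subgroup.eq_top_of_card_eq X (by rw [hK X hX, hG])
      have h2 : Y = ⊤ := Subgroup.eq_top_of_card_eq Y (by rw [hK Y hY, hG])
      exact hXY (h1.trans h2.symm)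

end Cfsg.Agent.S3196
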