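import Cfsg.Statements.S3210
import Cfsg.Agent.S3209
import Cfsg.Agent.S3196
import Cfsg.Agent.Lib.Helper15.GL2Centralizer

set_option autoImplicit false
open Cfsg

namespace Cfsg.Agent.S3210

open Cfsg.Agent.S3209

/-- The central element `-1` of `SL₂(F)`. -/
def negOne (F : Type*) [Field F] : Matrix.SpecialLinearGroup (Fin 2) F :=
  ⟨!![-1, 0; 0, -1], by simp [Matrix.det_fin_two]⟩

theorem negOne_comm {F : Type*} [Field F] (M : Matrix.SpecialLinearGroup (Fin 2) F) :
    M * negOne F = negOne F * M := by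
  apply Subtype.ext
  rw [Matrix.SpecialLinearGroup.coe_mul, Matrix.SpecialLinearGroup.coe_mul]
  have hN : ((negOne F : Matrix.SpecialLinearGroup (Fin 2) F) : Matrix (Fin 2) (Fin 2) F) =
      !![-1, 0; 0, -1] := rfl
  rw [hN]
  ext i j
  fin_cases i <;> fin_cases j <;> simp [Matrix.mul_apply, Fin.sum_univ_two]

theorem wEl_sq {F : Type*} [Field F] : wEl F * wEl F = negOne F := by
  apply Subtype.ext
  rw [Matrix.SpecialLinearGroup.coe_mul]
  have hW : ((wEl F : Matrix.SpecialLinearGroup (Fin 2) F) : Matrix (Fin 2) (Fin 2) F) =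
      !![0, -1; 1, 0] := rfl
  have hN : ((negOne F : Matrix.SpecialLinearGroup (Fin 2) F) : Matrix (Fin 2) (Fin 2) F) =
      !![-1, 0; 0, -1] := rfl
  rw [hW, hN, Matrix.mul_fin_two]
  simp

theorem sl2_form {F : Type*} [Field F] (A : Matrix.SpecialLinearGroup (Fin 2) F)
    (hA : A * A = negOne F) :
    ∃ a b c : F, (A : Matrix (Fin 2) (Fin 2) F) = !![a, b; c, -a] ∧ a * a + b * c = -1 := by
  have hdet := A.det_coe
  rw [Matrix.det_fin_two] at hdet
  have hA' : (A : Matrix (Fin 2) (Fin 2) F) * (A : Matrix (Fin 2) (Fin 2) F) =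
      !![-1, 0; 0, -1] := by
    rw [← Matrix.SpecialLinearGroup.coe_mul, hA]
    rfl
  have h00 := congrFun (congrFun hA' 0) 0
  have h11 := congrFun (congrFun hA' 1) 1
  simp only [Matrix.mul_apply, Fin.sum_univ_two] at h00 h11
  obtain ⟨a, ha⟩ : ∃ a, a = (A : Matrix (Fin 2) (Fin 2) F) 0 0 := ⟨_, rfl⟩
  obtain ⟨b, hb⟩ : ∃ b, b = (A : Matrix (Fin 2) (Fin 2) F) 0 1 := ⟨_, rfl⟩
  obtain ⟨c, hc⟩ : ∃ c, c = (A : Matrix (Fin 2) (Fin 2) F) 1 0 := ⟨_, rfl⟩
  obtain ⟨d, hd⟩ : ∃ d, d = (A : Matrix (Fin 2) (Fin 2) F) 1 1 := ⟨_, rfl⟩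
  rw [← ha, ← hb, ← hc, ← hd] at hdet
  rw [← ha, ← hb, ← hc] at h00
  rw [← hb, ← hc, ← hd] at h11
  have h00' : a * a + b * c = -1 := by simpa using h00
  have h11' : c * b + d * d = -1 := by simpa using h11
  have hs : a + d = 0 := by
    have : (a + d) * (a + d) = 0 := by linear_combination h00' + 2 * hdet + h11'
    exact mul_self_eq_zero.mp this
  have hd' : d = -a := by linear_combination hs
  refine ⟨a, b, c, ?_, h00'⟩
  ext i j
  fin_cases i <;> fin_cases j
  · exact ha.symm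
  · exact hb.symm
  · exact hc.symm
  · exact hd.symm.trans hd'

theorem sl2_comm {F : Type*} [Field F] (h2 : (2 : F) ≠ 0)
    (A B : Matrix.SpecialLinearGroup (Fin 2) F)
    (hA : A * A = negOne F) (hB : B * B = negOne F) (hAB : A * B = B * A) :
    B = A ∨ B = A * A * A := by
  obtain ⟨a, b, c, hAm, ha⟩ := sl2_form A hA
  obtain ⟨a', b', c', hBm, hb⟩ := sl2_form B hB
  have hm : (A : Matrix (Fin 2) (Fin 2) F) * (B : Matrix (Fin 2) (Fin 2) F) =
      (B : Matrix (Fin 2) (Fin 2) F) * (A : Matrix (Fin 2) (Fin 2) F) := by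
    rw [← Matrix.SpecialLinearGroup.coe_mul, ← Matrix.SpecialLinearGroup.coe_mul, hAB]
  rw [hAm, hBm, Matrix.mul_fin_two, Matrix.mul_fin_two] at hm
  have e00 : a * a' + b * c' = a' * a + b' * c := by
    have := congrFun (congrFun hm 0) 0
    simpa using this
  have e01 : a * b' + b * (-a') = a' * b + b' * (-a) := by
    have := congrFun (congrFun hm 0) 1
    simpa using this
  have e10 : c * a' + (-a) * c' = c' * a + (-a') * c := by
    have := congrFun (congrFun hm 1) 0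
    simpa using this
  have k1 : b * c' - b' * c = 0 := by linear_combination e00
  have k2 : a * b' - a' * b = 0 := by
    have h : 2 * (a * b' - a' * b) = 0 := by linear_combination e01
    exact (mul_eq_zero.mp h).resolve_left h2
  have k3 : c * a' - a * c' = 0 := by
    have h : 2 * (c * a' - a * c') = 0 := by linear_combination e10
    exact (mul_eq_zero.mp h).resolve_left h2
  obtain ⟨t, ht⟩ : ∃ t, t = a * a' + b * c' := ⟨_, rfl⟩
  have ta : a' = -t * a := by linear_combination a' * ha - b * k3 + a * ht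
  have tb : b' = -t * b := by linear_combination b' * ha - a * k2 + b * k1 + b * ht
  have tc : c' = -t * c := by linear_combination c' * ha + a * k3 + c * ht
  have hb' : (-t * a) * (-t * a) + (-t * b) * (-t * c) = -1 := by
    rw [← ta, ← tb, ← tc]
    exact hb
  have tt : (t - 1) * (t + 1) = 0 := by linear_combination (-1 : F) * hb' + t * t * ha
  rcases mul_eq_zero.mp tt with h | h
  · right
    have t1 : t = 1 := by linear_combination h
    apply Subtype.ext
    rw [Matrix.SpecialLinearGroup.coe_mul, hA, hBm, hAm]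
    have hN : ((negOne F : Matrix.SpecialLinearGroup (Fin 2) F) : Matrix (Fin 2) (Fin 2) F) =
        !![-1, 0; 0, -1] := rfl
    rw [hN, Matrix.mul_fin_two, ta, tb, tc, t1]
    ext i j
    fin_cases i <;> fin_cases j <;> simp
  · left
    have t1 : t = -1 := by linear_combination h
    apply Subtype.ext
    rw [hBm, hAm, ta, tb, tc, t1]
    ext i j
    fin_cases i <;> fin_cases j <;> simp

theorem exists_nc {F : Type*} [Field F] [Fintype F] (hodd : Fintype.card F % 2 = 1)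
    (h2 : (2 : F) ≠ 0) :
    ∃ S : Matrix.SpecialLinearGroup (Fin 2) F, S * S = negOne F ∧ S * wEl F ≠ wEl F * S ∧
      ∀ g : Matrix.SpecialLinearGroup (Fin 2) F, g * wEl F = wEl F * g → g * S = S * g →
        g * g = 1 := by
  obtain ⟨a, b, hab⟩ := exists_sq_add_sq hodd (-1 : F)
  obtain ⟨S, hS⟩ : ∃ S : Matrix.SpecialLinearGroup (Fin 2) F,
      (S : Matrix (Fin 2) (Fin 2) F) = !![a, b; b, -a] :=
    ⟨⟨!![a, b; b, -a], by rw [Matrix.det_fin_two_of]; linear_combination -hab⟩, rfl⟩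
  have hW : ((wEl F : Matrix.SpecialLinearGroup (Fin 2) F) : Matrix (Fin 2) (Fin 2) F) =
      !![0, -1; 1, 0] := rfl
  have hN : ((negOne F : Matrix.SpecialLinearGroup (Fin 2) F) : Matrix (Fin 2) (Fin 2) F) =
      !![-1, 0; 0, -1] := rfl
  refine ⟨S, ?_, ?_, ?_⟩
  · apply Subtype.ext
    rw [Matrix.SpecialLinearGroup.coe_mul, hS, hN, Matrix.mul_fin_two]
    ext i j
    fin_cases i <;> fin_cases j
    · show a * a + b * b = -1
      linear_combination hab
    · show a * b + b * -a = 0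
      ring
    · show b * a + -a * b = 0
      ring
    · show b * b + -a * -a = -1
      linear_combination hab
  · intro h
    have hm : (S : Matrix (Fin 2) (Fin 2) F) * (wEl F : Matrix (Fin 2) (Fin 2) F) =
        (wEl F : Matrix (Fin 2) (Fin 2) F) * (S : Matrix (Fin 2) (Fin 2) F) := by
      rw [← Matrix.SpecialLinearGroup.coe_mul, ← Matrix.SpecialLinearGroup.coe_mul, h]
    rw [hS, hW, Matrix.mul_fin_two, Matrix.mul_fin_two] at hm
    have e00 : a * 0 + b * 1 = 0 * a + -1 * b := congrFun (congrFun hm 0) 0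
    have e01 : a * -1 + b * 0 = 0 * b + -1 * -a := congrFun (congrFun hm 0) 1
    have hb0 : b = 0 := by
      have h : 2 * b = 0 := by linear_combination e00
      exact (mul_eq_zero.mp h).resolve_left h2
    have ha0 : a = 0 := by
      have h : 2 * a = 0 := by linear_combination -e01
      exact (mul_eq_zero.mp h).resolve_left h2
    rw [ha0, hb0] at hab
    have : (1 : F) = 0 := by linear_combination hab
    exact one_ne_zero this
  · intro g hgw hgS
    have hdet := g.det_coe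
    rw [Matrix.det_fin_two] at hdet
    obtain ⟨x, hx⟩ : ∃ x, x = (g : Matrix (Fin 2) (Fin 2) F) 0 0 := ⟨_, rfl⟩
    obtain ⟨y, hy⟩ : ∃ y, y = (g : Matrix (Fin 2) (Fin 2) F) 0 1 := ⟨_, rfl⟩
    obtain ⟨z, hz⟩ : ∃ z, z = (g : Matrix (Fin 2) (Fin 2) F) 1 0 := ⟨_, rfl⟩
    obtain ⟨w, hw⟩ : ∃ w, w = (g : Matrix (Fin 2) (Fin 2) F) 1 1 := ⟨_, rfl⟩
    have hgm : (g : Matrix (Fin 2) (Fin 2) F) = !![x, y; z, w] := by
      rw [hx, hy, hz, hw]
      exact Matrix.eta_fin_two _
    rw [← hx, ← hy, ← hz, ← hw] at hdet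
    have hm1 : (g : Matrix (Fin 2) (Fin 2) F) * (wEl F : Matrix (Fin 2) (Fin 2) F) =
        (wEl F : Matrix (Fin 2) (Fin 2) F) * (g : Matrix (Fin 2) (Fin 2) F) := by
      rw [← Matrix.SpecialLinearGroup.coe_mul, ← Matrix.SpecialLinearGroup.coe_mul, hgw]
    have hm2 : (g : Matrix (Fin 2) (Fin 2) F) * (S : Matrix (Fin 2) (Fin 2) F) =
        (S : Matrix (Fin 2) (Fin 2) F) * (g : Matrix (Fin 2) (Fin 2) F) := by
      rw [← Matrix.SpecialLinearGroup.coe_mul, ← Matrix.SpecialLinearGroup.coe_mul, hgS]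
    rw [hgm, hW, Matrix.mul_fin_two, Matrix.mul_fin_two] at hm1
    rw [hgm, hS, Matrix.mul_fin_two, Matrix.mul_fin_two] at hm2
    have f00 : x * 0 + y * 1 = 0 * x + -1 * z := congrFun (congrFun hm1 0) 0
    have f01 : x * -1 + y * 0 = 0 * y + -1 * w := congrFun (congrFun hm1 0) 1
    have g00 : x * a + y * b = a * x + b * z := congrFun (congrFun hm2 0) 0
    have g01 : x * b + y * -a = a * y + b * w := congrFun (congrFun hm2 0) 1
    have hz' : z = -y := by linear_combination f00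
    have hw' : w = x := by linear_combination f01
    have hyb : y * b = 0 := by
      have h : 2 * (y * b) = 0 := by linear_combination g00 + b * hz'
      exact (mul_eq_zero.mp h).resolve_left h2
    have hya : y * a = 0 := by
      have h : 2 * (y * a) = 0 := by linear_combination -g01 - b * hw'
      exact (mul_eq_zero.mp h).resolve_left h2
    have hy0 : y = 0 := by linear_combination y * hab - a * hya - b * hyb
    have hz0 : z = 0 := by rw [hz', hy0, neg_zero]
    have hxx : x * x = 1 := by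
      rw [hw', hy0, hz0] at hdet
      linear_combination hdet
    apply Subtype.ext
    rw [Matrix.SpecialLinearGroup.coe_mul, hgm, hw', hy0, hz0, Matrix.mul_fin_two,
      Matrix.SpecialLinearGroup.coe_one]
    ext i j
    fin_cases i <;> fin_cases j
    · show x * x + 0 * 0 = 1
      linear_combination hxx
    · show x * 0 + 0 * x = 0
      ring
    · show 0 * x + x * 0 = 0
      ring
    · show 0 * 0 + x * x = 1
      linear_combination hxx

theorem nc_mat {F : Type*} [Field F] [Fintype F] (hodd : Fintype.card F % 2 = 1)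
    (h2 : (2 : F) ≠ 0) (A : Matrix.SpecialLinearGroup (Fin 2) F) (hA : A * A = negOne F) :
    ∃ S' : Matrix.SpecialLinearGroup (Fin 2) F, S' * S' = negOne F ∧ S' * A ≠ A * S' ∧
      S' * (A * A * A) ≠ (A * A * A) * S' := by
  have hAc : ((A * A : Matrix.SpecialLinearGroup (Fin 2) F) : Matrix (Fin 2) (Fin 2) F) =
      !![-1, 0; 0, -1] := by
    rw [hA]
    rfl
  obtain ⟨P, hP⟩ := sl2_sq_neg_conj hodd h2 A hAc
  obtain ⟨S, hSS, hSw, -⟩ := exists_nc (F := F) hodd h2
  have hAP : A = P * wEl F * P⁻¹ := by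
    rw [hP]
    group
  have hne : P * S * P⁻¹ * A ≠ A * (P * S * P⁻¹) := by
    intro h
    apply hSw
    rw [hAP] at h
    calc S * wEl F = P⁻¹ * (P * S * P⁻¹ * (P * wEl F * P⁻¹)) * P := by group
      _ = P⁻¹ * (P * wEl F * P⁻¹ * (P * S * P⁻¹)) * P := by rw [h]
      _ = wEl F * S := by group
  refine ⟨P * S * P⁻¹, ?_, hne, ?_⟩
  · calc P * S * P⁻¹ * (P * S * P⁻¹) = P * (S * S) * P⁻¹ := by group
      _ = P * negOne F * P⁻¹ := by rw [hSS]
      _ = negOne F * P * P⁻¹ := by rw [negOne_comm P]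
      _ = negOne F := by group
  · intro h
    apply hne
    rw [hA] at h
    have h1 : negOne F * (P * S * P⁻¹ * A) = negOne F * (A * (P * S * P⁻¹)) := by
      calc negOne F * (P * S * P⁻¹ * A) = (P * S * P⁻¹) * negOne F * A := by
            rw [negOne_comm (P * S * P⁻¹)]; group
        _ = P * S * P⁻¹ * (negOne F * A) := by group
        _ = negOne F * A * (P * S * P⁻¹) := h
        _ = negOne F * (A * (P * S * P⁻¹)) := by group
    exact mul_left_cancel h1

theorem side2 {G : Type*} [Group G] {F : Type*} [Field F] [Fintype F] (hF : Odd (Fintype.card F))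
    (L : Subgroup G) (e : ↥L ≃* Matrix.SpecialLinearGroup (Fin 2) F) (j : G) (hjL : j ∈ L)
    (hj1 : j ≠ 1) (hjj : j * j = 1) :
    (∀ s s' : G, (s ∈ L ∧ s * s = j) → (s' ∈ L ∧ s' * s' = j) → s * s' ≠ s' * s ∨
      ∃ s'' : G, (s'' ∈ L ∧ s'' * s'' = j) ∧ s'' * s ≠ s * s'' ∧ s'' * s' ≠ s' * s'') ∧
    (∀ g ∈ L, (∀ s ∈ L, s * s = j → g * s = s * g) → g * g = 1) := by
  have hodd : Fintype.card F % 2 = 1 := Nat.odd_iff.mp hF
  have h2 : (2 : F) ≠ 0 := by
    apply Ring.two_ne_zero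
    intro hch
    have := FiniteField.even_card_of_char_two hch
    omega
  have hJ : e ⟨j, hjL⟩ * e ⟨j, hjL⟩ = 1 := by
    rw [← map_mul]
    have : (⟨j, hjL⟩ : L) * ⟨j, hjL⟩ = 1 := Subtype.ext hjj
    rw [this, map_one]
  have hJ1 : e ⟨j, hjL⟩ ≠ 1 := by
    intro h
    have := e.injective (h.trans (map_one e).symm)
    exact hj1 (congrArg Subtype.val this)
  have hJm : e ⟨j, hjL⟩ = negOne F := Subtype.ext (sl2_sq_one h2 _ hJ hJ1)
  have hsq : ∀ (s : G) (hs : s ∈ L), s * s = j → e ⟨s, hs⟩ * e ⟨s, hs⟩ = negOne F := by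
    intro s hs hss
    rw [← map_mul, ← hJm]
    congr 1
    exact Subtype.ext hss
  have hback : ∀ M : Matrix.SpecialLinearGroup (Fin 2) F, M * M = negOne F →
      ((e.symm M : L) : G) * ((e.symm M : L) : G) = j := by
    intro M hM
    have h1 : e.symm M * e.symm M = ⟨j, hjL⟩ := by
      apply e.injective
      rw [map_mul, e.apply_symm_apply, hM, hJm]
    exact congrArg Subtype.val h1
  constructor
  · rintro s s' ⟨hs, hss⟩ ⟨hs', hss'⟩
    by_cases hcomm : s * s' = s' * s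
    · right
      have hA := hsq s hs hss
      have hB := hsq s' hs' hss'
      have hAB : e ⟨s, hs⟩ * e ⟨s', hs'⟩ = e ⟨s', hs'⟩ * e ⟨s, hs⟩ := by
        rw [← map_mul, ← map_mul]
        congr 1
        exact Subtype.ext hcomm
      obtain ⟨S', hS', hn1, hn2⟩ := nc_mat hodd h2 _ hA
      refine ⟨((e.symm S' : L) : G), ⟨(e.symm S').2, hback S' hS'⟩, ?_, ?_⟩
      · intro h
        apply hn1
        have h1 : e.symm S' * ⟨s, hs⟩ = ⟨s, hs⟩ * e.symm S' := Subtype.ext h
        have h3 := congrArg e h1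
        rwa [map_mul, map_mul, e.apply_symm_apply] at h3
      · intro h
        have h1 : e.symm S' * ⟨s', hs'⟩ = ⟨s', hs'⟩ * e.symm S' := Subtype.ext h
        have h3 := congrArg e h1
        rw [map_mul, map_mul, e.apply_symm_apply] at h3
        rcases sl2_comm h2 _ _ hA hB hAB with h4 | h4
        · rw [h4] at h3
          exact hn1 h3
        · rw [h4] at h3
          exact hn2 h3
    · left
      exact hcomm
  · intro g hg hall
    obtain ⟨S, hSS, -, hS3⟩ := exists_nc (F := F) hodd h2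
    have c1 : e ⟨g, hg⟩ * wEl F = wEl F * e ⟨g, hg⟩ := by
      have h1 := hall _ (e.symm (wEl F)).2 (hback _ wEl_sq)
      have h3 : (⟨g, hg⟩ : L) * e.symm (wEl F) = e.symm (wEl F) * ⟨g, hg⟩ := Subtype.ext h1
      have h4 := congrArg e h3
      rwa [map_mul, map_mul, e.apply_symm_apply] at h4
    have c2 : e ⟨g, hg⟩ * S = S * e ⟨g, hg⟩ := by
      have h1 := hall _ (e.symm S).2 (hback _ hSS)
      have h3 : (⟨g, hg⟩ : L) * e.symm S = e.symm S * ⟨g, hg⟩ := Subtype.ext h1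
      have h4 := congrArg e h3
      rwa [map_mul, map_mul, e.apply_symm_apply] at h4
    have h5 := hS3 _ c1 c2
    have h6 : (⟨g, hg⟩ : L) * ⟨g, hg⟩ = 1 := by
      apply e.injective
      rw [map_mul, h5, map_one]
    exact congrArg Subtype.val h6

theorem uniform {G : Type*} [Group G] (T A B : G → Prop) (c : G → G)
    (hAB : ∀ x y, A x → B y → x * y = y * x)
    (hc : ∀ x, T x → A (c x) ∨ B (c x))
    (hcc : ∀ x y, c x * c y = c y * c x → x * y = y * x)
    (hT : ∀ s s', T s → T s' → s * s' ≠ s' * s ∨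
      ∃ s'', T s'' ∧ s'' * s ≠ s * s'' ∧ s'' * s' ≠ s' * s'')
    (s₀ : G) (hs₀ : T s₀) : (∀ s, T s → A (c s)) ∨ (∀ s, T s → B (c s)) := by
  have stepA : ∀ u v, T u → T v → u * v ≠ v * u → A (c u) → A (c v) := by
    intro u v hu hv hne hAu
    rcases hc v hv with h | h
    · exact h
    · exact absurd (hcc u v (hAB _ _ hAu h)) hne
  have stepB : ∀ u v, T u → T v → u * v ≠ v * u → B (c u) → B (c v) := by
    intro u v hu hv hne hBu
    rcases hc v hv with h | h
    · exact absurd (hcc u v (hAB _ _ h hBu).symm) hne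
    · exact h
  rcases hc s₀ hs₀ with h0 | h0
  · left
    intro s hs
    rcases hT s₀ s hs₀ hs with h | ⟨s'', hs'', h1, h2⟩
    · exact stepA s₀ s hs₀ hs h h0
    · have h3 : A (c s'') := stepA s₀ s'' hs₀ hs'' (fun h => h1 h.symm) h0
      exact stepA s'' s hs'' hs h2 h3
  · right
    intro s hs
    rcases hT s₀ s hs₀ hs with h | ⟨s'', hs'', h1, h2⟩
    · exact stepB s₀ s hs₀ hs h h0
    · have h3 : B (c s'') := stepB s₀ s'' hs₀ hs'' (fun h => h1 h.symm) h0
      exact stepB s'' s hs'' hs h2 h3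

theorem map_conj_eq {G : Type*} [Group G] [Finite G] (n : G) (X Y : Subgroup G)
    (h : ∀ g ∈ X, n * g * n⁻¹ ∈ Y) (hcard : Nat.card Y ≤ Nat.card X) :
    X.map (MulAut.conj n).toMonoidHom = Y := by
  apply Subgroup.eq_of_le_of_card_ge
  · rintro _ ⟨g, hg, rfl⟩
    exact h g hg
  · rw [Subgroup.card_map_of_injective (MulAut.conj n).injective]
    exact hcard

theorem card_le_of_conj {G : Type*} [Group G] [Finite G] (n : G) (X Y : Subgroup G)
    (h : ∀ g ∈ X, n * g * n⁻¹ ∈ Y) : Nat.card X ≤ Nat.card Y := by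
  have h1 : X.map (MulAut.conj n).toMonoidHom ≤ Y := by
    rintro _ ⟨g, hg, rfl⟩
    exact h g hg
  have h2 := Subgroup.card_le_of_le h1
  rwa [Subgroup.card_map_of_injective (MulAut.conj n).injective] at h2

theorem q_mono (a b : ℕ) (ha : 1 ≤ a) (hab : a < b) : a * (a ^ 2 - 1) < b * (b ^ 2 - 1) := by
  have h1 : a ^ 2 - 1 ≤ b ^ 2 - 1 := Nat.sub_le_sub_right (Nat.pow_le_pow_left hab.le 2) 1
  have h2 : 0 < b ^ 2 - 1 := by
    have : 2 ≤ b := by omega
    have : 4 ≤ b ^ 2 := by nlinarith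
    omega
  calc a * (a ^ 2 - 1) ≤ a * (b ^ 2 - 1) := Nat.mul_le_mul_left a h1
    _ < b * (b ^ 2 - 1) := Nat.mul_lt_mul_of_pos_right hab h2

/-- Let G be a finite group with subgroups L₁ ≅ SL₂(q₁) and L₂ ≅ SL₂(q₂), q₁ and q₂ odd prime powers, which commute elementwise and meet in ⟨j⟩ for an involution j, and suppose L₁L₂ has index 2 in C_G(j). Then every element n of C_G(j) outside L₁L₂ either normalizes both L₁ and L₂, or conjugates L₁ onto L₂; in the second case q₁ = q₂ and there is an element n′ of C_G(j) outside L₁L₂ conjugating L₁ onto L₂ with n′² ∈ ⟨j⟩. -/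
theorem result {G : Type*} [Group G] [Finite G]
    {F₁ : Type*} [Field F₁] [Fintype F₁] {F₂ : Type*} [Field F₂] [Fintype F₂]
    (hF₁ : Odd (Fintype.card F₁)) (hF₂ : Odd (Fintype.card F₂)) (L₁ L₂ : Subgroup G)
    (e₁ : ↥L₁ ≃* Matrix.SpecialLinearGroup (Fin 2) F₁) (e₂ : ↥L₂ ≃* Matrix.SpecialLinearGroup (Fin 2) F₂)
    (hc : ∀ x ∈ L₁, ∀ y ∈ L₂, x * y = y * x) (j : G) (hj : orderOf j = 2) (hm : L₁ ⊓ L₂ = Subgroup.zpowers j)
    (hle : L₁ ⊔ L₂ ≤ Subgroup.centralizer ({j} : Set G)) (hi : (L₁ ⊔ L₂).relIndex (Subgroup.centralizer ({j} : Set G)) = 2) (n : G) (hn : n ∈ Subgroup.centralizer ({j} : Set G)) (hn' : n ∉ L₁ ⊔ L₂) :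
    (L₁.map (MulAut.conj n).toMonoidHom = L₁ ∧ L₂.map (MulAut.conj n).toMonoidHom = L₂) ∨
      (L₁.map (MulAut.conj n).toMonoidHom = L₂ ∧ Fintype.card F₁ = Fintype.card F₂ ∧
        ∃ n' ∈ Subgroup.centralizer ({j} : Set G), n' ∉ L₁ ⊔ L₂ ∧ L₁.map (MulAut.conj n').toMonoidHom = L₂ ∧ n' ^ 2 ∈ Subgroup.zpowers j) := by
  have hjm : j ∈ L₁ ⊓ L₂ := hm ▸ Subgroup.mem_zpowers j
  have hj1 : j ≠ 1 := by
    intro h
    rw [h, orderOf_one] at hj
    omega
  have hjj : j * j = 1 := by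
    have := pow_orderOf_eq_one j
    rw [hj, sq] at this
    exact this
  have hmem : ∀ g, g ∈ L₁ → g ∈ L₂ → g = 1 ∨ g = j := by
    intro g h1 h2
    have h3 : g ∈ Subgroup.zpowers j := hm ▸ (⟨h1, h2⟩ : g ∈ L₁ ⊓ L₂)
    obtain ⟨k, rfl⟩ := Subgroup.mem_zpowers_iff.mp h3
    have h4 : j ^ k = j ^ (k % (orderOf j : ℤ)) := (zpow_mod_orderOf j k).symm
    rw [hj] at h4
    rcases Int.emod_two_eq_zero_or_one k with h | h
    · left
      rw [h4]
      have : k % ((2 : ℕ) : ℤ) = 0 := h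
      rw [this, zpow_zero]
    · right
      rw [h4]
      have : k % ((2 : ℕ) : ℤ) = 1 := h
      rw [this, zpow_one]
  obtain ⟨inv1, a₁, ha₁L, ha₁a, -⟩ := Cfsg.Agent.S3209.side hF₁ L₁ e₁ j hjm.1 hj1 hjj
  obtain ⟨inv2, a₂, ha₂L, ha₂a, -⟩ := Cfsg.Agent.S3209.side hF₂ L₂ e₂ j hjm.2 hj1 hjj
  obtain ⟨nc1, cen1⟩ := side2 hF₁ L₁ e₁ j hjm.1 hj1 hjj
  obtain ⟨nc2, cen2⟩ := side2 hF₂ L₂ e₂ j hjm.2 hj1 hjj
  have hsup : ∀ y ∈ L₁ ⊔ L₂, ∃ a' ∈ L₁, ∃ b' ∈ L₂, a' * b' = y :=
    fun y hy => Cfsg.Agent.S3196.mem_sup_comm hc hy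
  obtain ⟨K, hK⟩ : ∃ K, K = L₁ ⊔ L₂ := ⟨_, rfl⟩
  obtain ⟨C, hC⟩ : ∃ C, C = Subgroup.centralizer ({j} : Set G) := ⟨_, rfl⟩
  rw [← hK] at hle hi hn' ⊢
  rw [← hC] at hle hi hn ⊢
  rw [← hK] at hsup
  have hL₁K : L₁ ≤ K := hK ▸ le_sup_left
  have hL₂K : L₂ ≤ K := hK ▸ le_sup_right
  have hnj : n * j = j * n := by
    have h1 : n ∈ Subgroup.centralizer ({j} : Set G) := hC ▸ hn
    exact (Subgroup.mem_centralizer_iff.mp h1 j (Set.mem_singleton j)).symm
  have hKn : (K.subgroupOf C).Normal := Subgroup.normal_of_index_eq_two hi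
  have hcK : ∀ x ∈ K, n * x * n⁻¹ ∈ K := by
    intro x hx
    have h1 : (⟨x, hle hx⟩ : C) ∈ K.subgroupOf C := Subgroup.mem_subgroupOf.mpr hx
    have h2 := hKn.conj_mem _ h1 ⟨n, hn⟩
    exact Subgroup.mem_subgroupOf.mp h2
  have hcK' : ∀ x ∈ K, n⁻¹ * x * n ∈ K := by
    intro x hx
    have h1 : (⟨x, hle hx⟩ : C) ∈ K.subgroupOf C := Subgroup.mem_subgroupOf.mpr hx
    have h2 := hKn.conj_mem _ h1 (⟨n, hn⟩ : C)⁻¹
    have h3 := Subgroup.mem_subgroupOf.mp h2
    simpa using h3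
  have hnn : n * n ∈ K := by
    have h1 := Subgroup.mul_self_mem_of_index_two hi (⟨n, hn⟩ : C)
    exact Subgroup.mem_subgroupOf.mp h1
  have disj : ∀ s, s ∈ L₁ → s ∈ L₂ → s * s ≠ j := by
    intro s h1 h2 h3
    rcases hmem s h1 h2 with h | h
    · rw [h, one_mul] at h3
      exact hj1 h3.symm
    · rw [h, hjj] at h3
      exact hj1 h3.symm
  have split : ∀ s ∈ K, s * s = j → (s ∈ L₁ ∧ s * s = j) ∨ (s ∈ L₂ ∧ s * s = j) := by
    intro s hs hss
    obtain ⟨a, ha, b, hb, rfl⟩ := hsup s hs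
    have hcomm := hc a ha b hb
    have h3 : a * a * (b * b) = j := by
      rw [← hss]
      calc a * a * (b * b) = a * (a * b) * b := by group
        _ = a * (b * a) * b := by rw [hcomm]
        _ = a * b * (a * b) := by group
    have h4 : a * a ∈ L₂ := by
      have : a * a = j * (b * b)⁻¹ := by rw [← h3]; group
      rw [this]
      exact mul_mem hjm.2 (inv_mem (mul_mem hb hb))
    rcases hmem (a * a) (mul_mem ha ha) h4 with h5 | h5
    · right
      refine ⟨?_, hss⟩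
      rcases inv1 a ha h5 with h7 | h7
      · rw [h7, one_mul]; exact hb
      · rw [h7]; exact mul_mem hjm.2 hb
    · left
      refine ⟨?_, hss⟩
      have h6 : b * b = 1 := by
        rw [h5] at h3
        exact mul_left_cancel (h3.trans (mul_one j).symm)
      rcases inv2 b hb h6 with h7 | h7
      · rw [h7, mul_one]; exact ha
      · rw [h7]; exact mul_mem ha hjm.1
  have cT : ∀ s, ((s ∈ L₁ ∧ s * s = j) ∨ (s ∈ L₂ ∧ s * s = j)) →
      ((n * s * n⁻¹ ∈ L₁ ∧ n * s * n⁻¹ * (n * s * n⁻¹) = j) ∨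
        (n * s * n⁻¹ ∈ L₂ ∧ n * s * n⁻¹ * (n * s * n⁻¹) = j)) := by
    intro s hs
    have hsK : s ∈ K := by
      rcases hs with h | h
      · exact hL₁K h.1
      · exact hL₂K h.1
    have hss : s * s = j := by
      rcases hs with h | h
      · exact h.2
      · exact h.2
    apply split _ (hcK s hsK)
    calc n * s * n⁻¹ * (n * s * n⁻¹) = n * (s * s) * n⁻¹ := by group
      _ = n * j * n⁻¹ := by rw [hss]
      _ = j * n * n⁻¹ := by rw [hnj]
      _ = j := by group
  have cT' : ∀ s, ((s ∈ L₁ ∧ s * s = j) ∨ (s ∈ L₂ ∧ s * s = j)) →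
      ((n⁻¹ * s * n ∈ L₁ ∧ n⁻¹ * s * n * (n⁻¹ * s * n) = j) ∨
        (n⁻¹ * s * n ∈ L₂ ∧ n⁻¹ * s * n * (n⁻¹ * s * n) = j)) := by
    intro s hs
    have hsK : s ∈ K := by
      rcases hs with h | h
      · exact hL₁K h.1
      · exact hL₂K h.1
    have hss : s * s = j := by
      rcases hs with h | h
      · exact h.2
      · exact h.2
    apply split _ (hcK' s hsK)
    calc n⁻¹ * s * n * (n⁻¹ * s * n) = n⁻¹ * (s * s) * n := by group
      _ = n⁻¹ * j * n := by rw [hss]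
      _ = n⁻¹ * (n * j) := by rw [hnj]; group
      _ = j := by group
  have pre : ∀ t, ((t ∈ L₁ ∧ t * t = j) ∨ (t ∈ L₂ ∧ t * t = j)) →
      ∃ t', ((t' ∈ L₁ ∧ t' * t' = j) ∨ (t' ∈ L₂ ∧ t' * t' = j)) ∧ n * t' * n⁻¹ = t :=
    fun t ht => ⟨n⁻¹ * t * n, cT' t ht, by group⟩
  have hcc : ∀ x y : G, n * x * n⁻¹ * (n * y * n⁻¹) = n * y * n⁻¹ * (n * x * n⁻¹) →
      x * y = y * x := by
    intro x y h
    have h1 : n * (x * y) * n⁻¹ = n * (y * x) * n⁻¹ := by
      calc n * (x * y) * n⁻¹ = n * x * n⁻¹ * (n * y * n⁻¹) := by group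
        _ = n * y * n⁻¹ * (n * x * n⁻¹) := h
        _ = n * (y * x) * n⁻¹ := by group
    exact mul_left_cancel (mul_right_cancel h1)
  have hcc' : ∀ x y : G, x * y = y * x →
      n * x * n⁻¹ * (n * y * n⁻¹) = n * y * n⁻¹ * (n * x * n⁻¹) := by
    intro x y h
    calc n * x * n⁻¹ * (n * y * n⁻¹) = n * (x * y) * n⁻¹ := by group
      _ = n * (y * x) * n⁻¹ := by rw [h]
      _ = n * y * n⁻¹ * (n * x * n⁻¹) := by group
  have char1 : ∀ g ∈ K, (∀ t, t ∈ L₂ → t * t = j → g * t = t * g) → g ∈ L₁ := by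
    intro g hg h
    obtain ⟨a, ha, b, hb, rfl⟩ := hsup g hg
    have hb' : ∀ s ∈ L₂, s * s = j → b * s = s * b := by
      intro s hs hss
      have h1 := h s hs hss
      have h2 := hc a ha s hs
      apply mul_left_cancel (a := a)
      calc a * (b * s) = a * b * s := by group
        _ = s * (a * b) := h1
        _ = s * a * b := by group
        _ = a * s * b := by rw [← h2]
        _ = a * (s * b) := by group
    have hbb : b * b = 1 := cen2 b hb hb'
    rcases inv2 b hb hbb with h | h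
    · rw [h, mul_one]; exact ha
    · rw [h]; exact mul_mem ha hjm.1
  have char2 : ∀ g ∈ K, (∀ t, t ∈ L₁ → t * t = j → g * t = t * g) → g ∈ L₂ := by
    intro g hg h
    obtain ⟨a, ha, b, hb, rfl⟩ := hsup g hg
    have ha' : ∀ s ∈ L₁, s * s = j → a * s = s * a := by
      intro s hs hss
      have h1 := h s hs hss
      have h2 := hc s hs b hb
      apply mul_right_cancel (b := b)
      calc a * s * b = a * (s * b) := by group
        _ = a * (b * s) := by rw [h2]
        _ = a * b * s := by group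
        _ = s * (a * b) := h1
        _ = s * a * b := by group
    have haa : a * a = 1 := cen1 a ha ha'
    rcases inv1 a ha haa with h | h
    · rw [h, one_mul]; exact hb
    · rw [h]; exact mul_mem hjm.2 hb
  have U1 := uniform (fun s => s ∈ L₁ ∧ s * s = j) (fun s => s ∈ L₁ ∧ s * s = j)
    (fun s => s ∈ L₂ ∧ s * s = j) (fun x => n * x * n⁻¹)
    (fun x y hx hy => hc x hx.1 y hy.1) (fun x hx => cT x (Or.inl hx)) hcc
    (fun s s' hs hs' => nc1 s s' hs hs') a₁ ⟨ha₁L, ha₁a⟩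
  have U2 := uniform (fun s => s ∈ L₂ ∧ s * s = j) (fun s => s ∈ L₁ ∧ s * s = j)
    (fun s => s ∈ L₂ ∧ s * s = j) (fun x => n * x * n⁻¹)
    (fun x y hx hy => hc x hx.1 y hy.1) (fun x hx => cT x (Or.inr hx)) hcc
    (fun s s' hs hs' => nc2 s s' hs hs') a₂ ⟨ha₂L, ha₂a⟩
  have e1 : ∀ t : G, n * (n⁻¹ * t * n) * n⁻¹ = t := by
    intro t
    group
  rcases U1 with u1 | u1 <;> rcases U2 with u2 | u2
  · -- both into `L₁`: impossible
    exfalso
    rcases cT' a₂ (Or.inr ⟨ha₂L, ha₂a⟩) with h | h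
    · have h1 := u1 _ h
      rw [e1] at h1
      exact disj a₂ h1.1 ha₂L ha₂a
    · have h1 := u2 _ h
      rw [e1] at h1
      exact disj a₂ h1.1 ha₂L ha₂a
  · -- both normalized
    left
    have m1 : ∀ g ∈ L₁, n * g * n⁻¹ ∈ L₁ := by
      intro g hg
      apply char1 _ (hcK g (hL₁K hg))
      intro t ht htt
      obtain ⟨t', ht', rfl⟩ := pre t (Or.inr ⟨ht, htt⟩)
      rcases ht' with h | h
      · exact absurd htt (disj _ (u1 t' h).1 ht)
      · exact hcc' g t' (hc g hg t' h.1)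
    have m2 : ∀ g ∈ L₂, n * g * n⁻¹ ∈ L₂ := by
      intro g hg
      apply char2 _ (hcK g (hL₂K hg))
      intro t ht htt
      obtain ⟨t', ht', rfl⟩ := pre t (Or.inl ⟨ht, htt⟩)
      rcases ht' with h | h
      · exact hcc' g t' (hc t' h.1 g hg).symm
      · exact absurd htt (disj _ ht (u2 t' h).1)
    exact ⟨map_conj_eq n L₁ L₁ m1 le_rfl, map_conj_eq n L₂ L₂ m2 le_rfl⟩
  · -- swapped
    right
    have m1 : ∀ g ∈ L₁, n * g * n⁻¹ ∈ L₂ := by
      intro g hg
      apply char2 _ (hcK g (hL₁K hg))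
      intro t ht htt
      obtain ⟨t', ht', rfl⟩ := pre t (Or.inl ⟨ht, htt⟩)
      rcases ht' with h | h
      · exact absurd htt (disj _ ht (u1 t' h).1)
      · exact hcc' g t' (hc g hg t' h.1)
    have m2 : ∀ g ∈ L₂, n * g * n⁻¹ ∈ L₁ := by
      intro g hg
      apply char1 _ (hcK g (hL₂K hg))
      intro t ht htt
      obtain ⟨t', ht', rfl⟩ := pre t (Or.inr ⟨ht, htt⟩)
      rcases ht' with h | h
      · exact hcc' g t' (hc t' h.1 g hg).symm
      · exact absurd htt (disj _ (u2 t' h).1 ht)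
    have c12 := card_le_of_conj n L₁ L₂ m1
    have c21 := card_le_of_conj n L₂ L₁ m2
    have hcard : Nat.card L₁ = Nat.card L₂ := le_antisymm c12 c21
    have hq : Fintype.card F₁ = Fintype.card F₂ := by
      have h1 : Nat.card L₁ = Fintype.card F₁ * (Fintype.card F₁ ^ 2 - 1) := by
        rw [Nat.card_congr e₁.toEquiv, Cfsg.Agent.Lib.Helper15.card_SL2]
      have h2 : Nat.card L₂ = Fintype.card F₂ * (Fintype.card F₂ ^ 2 - 1) := by
        rw [Nat.card_congr e₂.toEquiv, Cfsg.Agent.Lib.Helper15.card_SL2]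
      rw [h1, h2] at hcard
      have p1 : 1 ≤ Fintype.card F₁ := Fintype.card_pos
      have p2 : 1 ≤ Fintype.card F₂ := Fintype.card_pos
      rcases lt_trichotomy (Fintype.card F₁) (Fintype.card F₂) with h | h | h
      · have := q_mono _ _ p1 h
        omega
      · exact h
      · have := q_mono _ _ p2 h
        omega
    refine ⟨map_conj_eq n L₁ L₂ m1 hcard.ge, hq, ?_⟩
    obtain ⟨a, ha, b, hb, hab⟩ := hsup _ hnn
    have haK : a ∈ K := hL₁K ha
    have haC : a ∈ C := hle haK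
    refine ⟨n * a⁻¹, mul_mem hn (inv_mem haC), ?_, ?_, ?_⟩
    · intro h
      apply hn'
      have : n = n * a⁻¹ * a := by group
      rw [this]
      exact mul_mem h haK
    · apply map_conj_eq (n * a⁻¹) L₁ L₂ _ hcard.ge
      intro g hg
      have h1 : n * a⁻¹ * g * (n * a⁻¹)⁻¹ = n * (a⁻¹ * g * a) * n⁻¹ := by group
      rw [h1]
      exact m1 _ (mul_mem (mul_mem (inv_mem ha) hg) ha)
    · have hsq : (n * a⁻¹) ^ 2 = n * a⁻¹ * n⁻¹ * b := by
        have hba : a * b * a⁻¹ = b := by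
          rw [hc a ha b hb]
          group
        calc (n * a⁻¹) ^ 2 = n * a⁻¹ * n⁻¹ * (n * n) * a⁻¹ := by rw [sq]; group
          _ = n * a⁻¹ * n⁻¹ * (a * b) * a⁻¹ := by rw [hab]
          _ = n * a⁻¹ * n⁻¹ * (a * b * a⁻¹) := by group
          _ = n * a⁻¹ * n⁻¹ * b := by rw [hba]
      have hL2 : (n * a⁻¹) ^ 2 ∈ L₂ := by
        rw [hsq]
        exact mul_mem (m1 _ (inv_mem ha)) hb
      have hL1 : (n * a⁻¹) ^ 2 ∈ L₁ := by
        obtain ⟨y, hy⟩ : ∃ y, y = (n * a⁻¹) ^ 2 := ⟨_, rfl⟩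
        rw [← hy] at hL2 ⊢
        have hay : a⁻¹ * y * a = y := by
          have := hc a⁻¹ (inv_mem ha) y hL2
          rw [this]
          group
        have h2 : y = n * y * n⁻¹ := by
          have h3 : y = (n * a⁻¹) * y * (n * a⁻¹)⁻¹ := by
            rw [hy, sq]
            group
          calc y = (n * a⁻¹) * y * (n * a⁻¹)⁻¹ := h3
            _ = n * (a⁻¹ * y * a) * n⁻¹ := by group
            _ = n * y * n⁻¹ := by rw [hay]
        rw [h2]
        exact m2 y hL2
      rw [← hm]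
      exact ⟨hL1, hL2⟩
  · -- both into `L₂`: impossible
    exfalso
    rcases cT' a₁ (Or.inl ⟨ha₁L, ha₁a⟩) with h | h
    · have h1 := u1 _ h
      rw [e1] at h1
      exact disj a₁ ha₁L h1.1 ha₁a
    · have h1 := u2 _ h
      rw [e1] at h1
      exact disj a₁ ha₁L h1.1 ha₁a

end Cfsg.Agent.S3210
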