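import Cfsg.Statements.S3947
import Mathlib
import Cfsg.Agent.Lib.Helper24.SubnormalRel

set_option autoImplicit false
open Cfsg

namespace Cfsg.Agent.S3947

open scoped Pointwise
open Cfsg.Agent.Lib.Helper24

universe u

theorem top_of_subnormal {Γ : Type*} [Group Γ] {S : Subgroup Γ} (hS : S.IsSubnormal) :
    Subgroup.normalClosure (S : Set Γ) = ⊤ → S = ⊤ := by
  induction hS with
  | top => intro _; rfl
  | step L L' hLL' hL' hN ih =>
    intro h
    have h1 : L' = ⊤ := by
      apply ih
      apply top_le_iff.mp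
      rw [← h]
      exact Subgroup.normalClosure_mono (SetLike.coe_subset_coe.mpr hLL')
    subst h1
    rw [Subgroup.normal_subgroupOf_iff_le_normalizer hLL'] at hN
    haveI hn : L.Normal := Subgroup.normalizer_eq_top_iff.mp (top_le_iff.mp hN)
    rw [← h]
    exact (Subgroup.normalClosure_eq_self L).symm

def KK {G : Type*} [Group G] (T : Subgroup G) : Subgroup G :=
  sSup {H : Subgroup G | T ≤ H ∧ H ≠ ⊤ ∧
    Subgroup.normalClosure ((T.subgroupOf H : Subgroup ↥H) : Set ↥H) = ⊤}

def Umo {G : Type*} [Group G] (T : Subgroup G) : Prop :=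
  ∀ M K : Subgroup G, IsCoatom M → IsCoatom K → T ≤ M → T ≤ K → M = K

def IHyp (G : Type*) [Group G] (n : ℕ) : Prop :=
  ∀ T : Subgroup G, n < Nat.card T → T ≠ ⊤ → Subgroup.normalClosure (T : Set G) = ⊤ →
    KK T = ⊤ ∨ Umo T

theorem kk_le {G : Type*} [Group G] [Finite G] (T Mm : Subgroup G) (hT : T ≤ Mm)
    (h : ∀ L : Subgroup G, IsCoatom L → T ≤ L → L ≤ Mm ∨ (T.subgroupOf L).IsSubnormal) :
    KK T ≤ Mm := by
  apply sSup_le
  rintro H ⟨hTH, hH, hn⟩
  obtain ⟨L, hL, hHL⟩ := (eq_top_or_exists_le_coatom H).resolve_left hH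
  rcases h L hL (hTH.trans hHL) with h1 | h1
  · exact hHL.trans h1
  · have h2 := isSubnormal_subgroupOf_of_le hHL h1
    have h3 := top_of_subnormal h2 hn
    intro x hx
    have h4 : (⟨x, hx⟩ : H) ∈ T.subgroupOf H := by rw [h3]; trivial
    exact hT (Subgroup.mem_subgroupOf.mp h4)

theorem umo_of {G : Type*} [Group G] [Finite G] {n : ℕ} (ih : IHyp G n)
    (T Mm : Subgroup G) (hn : n < Nat.card T) (hTM : T ≤ Mm) (hM : Mm ≠ ⊤)
    (hnc : Subgroup.normalClosure (T : Set G) = ⊤)
    (h : ∀ L : Subgroup G, IsCoatom L → T ≤ L → L ≤ Mm ∨ (T.subgroupOf L).IsSubnormal) :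
    Umo T := by
  have hT : T ≠ ⊤ := fun h' => hM (top_le_iff.mp (h' ▸ hTM))
  rcases ih T hn hT hnc with h1 | h1
  · exfalso
    have h2 := kk_le T Mm hTM h
    rw [h1] at h2
    exact hM (top_le_iff.mp h2)
  · exact h1

structure Cfg {G : Type*} [Group G] (n : ℕ) (C Mm : Subgroup G) : Prop where
  co : IsCoatom Mm
  le : C ≤ Mm
  nc : Subgroup.normalClosure (C : Set G) = ⊤
  card : Nat.card C = n
  good : ∀ L : Subgroup G, IsCoatom L → C ≤ L → L ≠ Mm → (C.subgroupOf L).IsSubnormal
  norm : Subgroup.normalizer (C : Set G) ≤ Mm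

theorem conj_smul_inv_smul {G : Type*} [Group G] (x : G) (K : Subgroup G) :
    MulAut.conj x • MulAut.conj x⁻¹ • K = K := by
  rw [smul_smul, ← map_mul, mul_inv_cancel, map_one, one_smul]

theorem conj_inv_smul_smul {G : Type*} [Group G] (x : G) (K : Subgroup G) :
    MulAut.conj x⁻¹ • MulAut.conj x • K = K := by
  rw [smul_smul, ← map_mul, inv_mul_cancel, map_one, one_smul]

theorem conj_smul_le_iff {G : Type*} [Group G] (x : G) (S K : Subgroup G) :
    MulAut.conj x • S ≤ K ↔ S ≤ MulAut.conj x⁻¹ • K := by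
  constructor
  · intro h s hs
    rw [mem_conj_smul, inv_inv]
    exact h (conj_smul_mem S x hs)
  · intro h y hy
    rw [mem_conj_smul] at hy
    have h1 := h hy
    rw [mem_conj_smul, inv_inv] at h1
    have e : x * (x⁻¹ * y * x) * x⁻¹ = y := by group
    rwa [e] at h1

theorem isCoatom_conj {G : Type*} [Group G] (x : G) {M : Subgroup G} (hM : IsCoatom M) :
    IsCoatom (MulAut.conj x • M) := by
  refine ⟨conj_smul_ne_top x hM.1, fun K hK => ?_⟩
  have h1 : M < MulAut.conj x⁻¹ • K := by
    refine lt_of_le_of_ne ((conj_smul_le_iff x M K).mp hK.le) ?_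
    intro h2
    have h3 : MulAut.conj x⁻¹ • K ≤ M := le_of_eq h2.symm
    have h4 := (conj_smul_le_iff x⁻¹ K M).mp h3
    rw [inv_inv] at h4
    exact lt_irrefl _ (lt_of_lt_of_le hK h4)
  have h4 := hM.2 _ h1
  by_contra hne
  exact conj_smul_ne_top x⁻¹ hne h4

theorem mem_normalizer_conj {G : Type*} [Group G] (x y : G) (S : Subgroup G) :
    y ∈ Subgroup.normalizer ((MulAut.conj x • S : Subgroup G) : Set G) ↔
      x⁻¹ * y * x ∈ Subgroup.normalizer (S : Set G) := by
  rw [Subgroup.mem_normalizer_iff, Subgroup.mem_normalizer_iff]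
  constructor
  · intro h z
    have h1 := h (x * z * x⁻¹)
    rw [mem_conj_smul, mem_conj_smul] at h1
    have e1 : x⁻¹ * (x * z * x⁻¹) * x = z := by group
    have e2 : x⁻¹ * (y * (x * z * x⁻¹) * y⁻¹) * x = x⁻¹ * y * x * z * (x⁻¹ * y * x)⁻¹ := by group
    rw [e1, e2] at h1
    exact h1
  · intro h z
    rw [mem_conj_smul, mem_conj_smul]
    have h1 := h (x⁻¹ * z * x)
    have e2 : x⁻¹ * (y * z * y⁻¹) * x = x⁻¹ * y * x * (x⁻¹ * z * x) * (x⁻¹ * y * x)⁻¹ := by group
    rw [e2]
    exact h1

theorem conj_smul_eq_self {G : Type*} [Group G] {M : Subgroup G} {x : G} (hx : x ∈ M) :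
    MulAut.conj x • M = M := by
  ext y
  rw [mem_conj_smul]
  constructor
  · intro h
    have e : y = x * (x⁻¹ * y * x) * x⁻¹ := by group
    rw [e]
    exact M.mul_mem (M.mul_mem hx h) (M.inv_mem hx)
  · intro h
    exact M.mul_mem (M.mul_mem (M.inv_mem hx) h) hx

theorem Cfg.conj {G : Type*} [Group G] [Finite G] {n : ℕ} {C Mm : Subgroup G} (h : Cfg n C Mm)
    (x : G) : Cfg n (MulAut.conj x • C) (MulAut.conj x • Mm) := by
  refine ⟨isCoatom_conj x h.co, ?_, ?_, ?_, ?_, ?_⟩
  · intro y hy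
    rw [mem_conj_smul] at hy ⊢
    exact h.le hy
  · apply top_le_iff.mp
    rw [← h.nc]
    apply Subgroup.normalClosure_le_normal
    intro y hy
    have h1 : x * y * x⁻¹ ∈ Subgroup.normalClosure ((MulAut.conj x • C : Subgroup G) : Set G) :=
      Subgroup.subset_normalClosure (conj_smul_mem C x hy)
    have h2 := (Subgroup.normalClosure_normal
      (s := ((MulAut.conj x • C : Subgroup G) : Set G))).conj_mem _ h1 x⁻¹
    have e : x⁻¹ * (x * y * x⁻¹) * x⁻¹⁻¹ = y := by group
    rwa [e] at h2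
  · rw [← h.card]
    exact (Nat.card_congr (Subgroup.equivSMul (MulAut.conj x) C).toEquiv).symm
  · intro L hL hCL hne
    have h1 : C ≤ MulAut.conj x⁻¹ • L := (conj_smul_le_iff x C L).mp hCL
    have h2 : MulAut.conj x⁻¹ • L ≠ Mm := by
      intro h3
      apply hne
      rw [← h3, conj_smul_inv_smul]
    have h4 := isSubnormal_subgroupOf_conj x (h.good _ (isCoatom_conj x⁻¹ hL) h1 h2)
    rwa [conj_smul_inv_smul] at h4
  · intro y hy
    rw [mem_normalizer_conj] at hy
    rw [mem_conj_smul]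
    exact h.norm hy

theorem lt_sup_conj {G : Type*} [Group G] [Finite G] {S : Subgroup G} {x : G}
    (hx : x ∉ Subgroup.normalizer (S : Set G)) : S < S ⊔ MulAut.conj x • S := by
  apply lt_of_le_of_ne le_sup_left
  intro h
  apply hx
  apply mem_normalizer_of_conj_smul_le
  have h1 : MulAut.conj x • S ≤ S ⊔ MulAut.conj x • S := le_sup_right
  rwa [← h] at h1

theorem lt_sup_of_ne {G : Type*} [Group G] [Finite G] {C E : Subgroup G}
    (hc : Nat.card E = Nat.card C) (hne : E ≠ C) : C < C ⊔ E := by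
  apply lt_of_le_of_ne le_sup_left
  intro h
  have h1 : E ≤ C := le_sup_right.trans (le_of_eq h.symm)
  exact hne (Subgroup.eq_of_le_of_card_ge h1 (le_of_eq hc.symm))

theorem nc_of_le {G : Type*} [Group G] {C T : Subgroup G}
    (h : Subgroup.normalClosure (C : Set G) = ⊤) (hCT : C ≤ T) :
    Subgroup.normalClosure (T : Set G) = ⊤ := by
  apply top_le_iff.mp
  rw [← h]
  exact Subgroup.normalClosure_mono (SetLike.coe_subset_coe.mpr hCT)

theorem inf_le_normalizer {G : Type u} [Group G] [Finite G] {n : ℕ} (ih : IHyp G n)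
    {C Mm K : Subgroup G} (h : Cfg n C Mm) (hK : IsCoatom K) (hCK : C ≤ K) (hne : K ≠ Mm) :
    Mm ⊓ K ≤ Subgroup.normalizer (C : Set G) := by
  intro x hx
  by_contra hxN
  have hxM : x ∈ Mm := hx.1
  have hxK : x ∈ K := hx.2
  have hlt := lt_sup_conj hxN
  have hcx := h.conj x
  rw [conj_smul_eq_self hxM] at hcx
  have hTM : C ⊔ MulAut.conj x • C ≤ Mm := sup_le h.le hcx.le
  have hTK : C ⊔ MulAut.conj x • C ≤ K := by
    apply sup_le hCK
    intro y hy
    rw [mem_conj_smul] at hy
    have h2 : y = x * (x⁻¹ * y * x) * x⁻¹ := by group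
    rw [h2]
    exact K.mul_mem (K.mul_mem hxK (hCK hy)) (K.inv_mem hxK)
  have hcard : n < Nat.card (C ⊔ MulAut.conj x • C : Subgroup G) := by
    rw [← h.card]; exact card_lt_card_of_lt' hlt
  have hU : Umo (C ⊔ MulAut.conj x • C) := by
    refine umo_of ih _ Mm hcard hTM h.co.1 (nc_of_le h.nc le_sup_left) ?_
    intro L hL hTL
    by_cases hLM : L = Mm
    · left; exact hLM.le
    · right
      exact isSubnormal_subgroupOf_sup (le_sup_left.trans hTL) (le_sup_right.trans hTL)
        (h.good L hL (le_sup_left.trans hTL) hLM) (hcx.good L hL (le_sup_right.trans hTL) hLM)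
  exact hne (hU K Mm hK h.co hTK hTM)

theorem pair {G : Type u} [Group G] [Finite G] {n : ℕ} (ih : IHyp G n)
    {C Mc E Me L0 : Subgroup G} (hC : Cfg n C Mc) (hE : Cfg n E Me) (hne : E ≠ C)
    (hEM : E ≤ Mc) (hL0 : IsCoatom L0) (hCL : C ≤ L0) (hEL : E ≤ L0) (hL0M : L0 ≠ Mc) :
    Me ≠ Mc ∧ E ≤ Subgroup.normalizer (C : Set G) ∧ C ≤ Subgroup.normalizer (E : Set G) := by
  have key : C ≤ Me ∧ Me ≠ Mc := by
    by_contra hcon
    have hlt : C < C ⊔ E := lt_sup_of_ne (by rw [hC.card, hE.card]) hne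
    have hTM : C ⊔ E ≤ Mc := sup_le hC.le hEM
    have hcard : n < Nat.card (C ⊔ E : Subgroup G) := by
      rw [← hC.card]; exact card_lt_card_of_lt' hlt
    have hU : Umo (C ⊔ E) := by
      refine umo_of ih (C ⊔ E) Mc hcard hTM hC.co.1 (nc_of_le hC.nc le_sup_left) ?_
      intro L hL hTL
      by_cases hLM : L = Mc
      · left; exact hLM.le
      · right
        have hLe : L ≠ Me := by
          intro h2
          apply hcon
          refine ⟨?_, ?_⟩
          · rw [← h2]; exact le_sup_left.trans hTL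
          · rw [← h2]; exact hLM
        exact isSubnormal_subgroupOf_sup (le_sup_left.trans hTL) (le_sup_right.trans hTL)
          (hC.good L hL (le_sup_left.trans hTL) hLM) (hE.good L hL (le_sup_right.trans hTL) hLe)
    exact hL0M (hU L0 Mc hL0 hC.co (sup_le hCL hEL) hTM)
  obtain ⟨hCMe, hMe⟩ := key
  refine ⟨hMe, ?_, ?_⟩
  · exact fun y hy => inf_le_normalizer ih hC hE.co hCMe hMe ⟨hEM hy, hE.le hy⟩
  · exact fun y hy => inf_le_normalizer ih hE hC.co hEM (Ne.symm hMe) ⟨hCMe hy, hC.le hy⟩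

theorem triple {G : Type u} [Group G] [Finite G] {n : ℕ} (ih : IHyp G n)
    {C Mc E Me E' Me' L0 : Subgroup G} (hC : Cfg n C Mc) (hE : Cfg n E Me) (hE' : Cfg n E' Me')
    (hne : E ≠ E') (hEC : E ≠ C)
    (hEM : E ≤ Mc) (hE'M : E' ≤ Mc) (hMe : Me ≠ Mc) (hMe' : Me' ≠ Mc)
    (hL0 : IsCoatom L0) (hCL : C ≤ L0) (hEL : E ≤ L0) (hE'L : E' ≤ L0) (hL0M : L0 ≠ Mc) :
    E ≤ Subgroup.normalizer (E' : Set G) := by
  by_contra hcon
  have hlt : C < C ⊔ E ⊔ E' :=
    lt_of_lt_of_le (lt_sup_of_ne (by rw [hC.card, hE.card]) hEC) le_sup_left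
  have hTM : C ⊔ E ⊔ E' ≤ Mc := sup_le (sup_le hC.le hEM) hE'M
  have hcard : n < Nat.card (C ⊔ E ⊔ E' : Subgroup G) := by
    rw [← hC.card]; exact card_lt_card_of_lt' hlt
  have hU : Umo (C ⊔ E ⊔ E') := by
    refine umo_of ih _ Mc hcard hTM hC.co.1 (nc_of_le hC.nc (le_sup_left.trans le_sup_left)) ?_
    intro L hL hTL
    by_cases hLM : L = Mc
    · left; exact hLM.le
    · right
      have hCL' : C ≤ L := (le_sup_left.trans le_sup_left).trans hTL
      have hEL' : E ≤ L := (le_sup_right.trans le_sup_left).trans hTL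
      have hE'L' : E' ≤ L := le_sup_right.trans hTL
      have h1 : L ≠ Me := by
        intro h2
        apply hcon
        have hE'Me : E' ≤ Me := by rw [← h2]; exact hE'L'
        exact (pair ih hE hE' (Ne.symm hne) hE'Me hC.co hEM hE'M (Ne.symm hMe)).2.2
      have h3 : L ≠ Me' := by
        intro h2
        apply hcon
        have hEMe' : E ≤ Me' := by rw [← h2]; exact hEL'
        exact (pair ih hE' hE hne hEMe' hC.co hE'M hEM (Ne.symm hMe')).2.1
      exact isSubnormal_subgroupOf_sup (sup_le hCL' hEL') hE'L'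
        (isSubnormal_subgroupOf_sup hCL' hEL' (hC.good L hL hCL' hLM) (hE.good L hL hEL' h1))
        (hE'.good L hL hE'L' h3)
  exact hL0M (hU L0 Mc hL0 hC.co (sup_le (sup_le hCL hEL) hE'L) hTM)

theorem clique {G : Type u} [Group G] [Finite G] {n : ℕ} (ih : IHyp G n)
    {C Mc D Md E Me E' Me' : Subgroup G} (hC : Cfg n C Mc) (hD : Cfg n D Md)
    (hE : Cfg n E Me) (hE' : Cfg n E' Me') (hMM : Md ≠ Mc)
    (hDC : D ≤ Subgroup.normalizer (C : Set G)) (hCD : C ≤ Subgroup.normalizer (D : Set G))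
    (hEC : E ≤ Subgroup.normalizer (C : Set G)) (hED : E ≤ Subgroup.normalizer (D : Set G))
    (hE'C : E' ≤ Subgroup.normalizer (C : Set G)) (hE'D : E' ≤ Subgroup.normalizer (D : Set G)) :
    E ≤ Subgroup.normalizer (E' : Set G) := by
  have hCMd : C ≤ Md := hCD.trans hD.norm
  have hDMc : D ≤ Mc := hDC.trans hC.norm
  have cl1 : ∀ {F Mf : Subgroup G}, Cfg n F Mf → F ≤ Subgroup.normalizer (C : Set G) →
      F ≤ Subgroup.normalizer (D : Set G) → F ≠ C →
      Mf ≠ Mc ∧ C ≤ Subgroup.normalizer (F : Set G) := by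
    intro F Mf hF hFC hFD hne
    have h := pair ih hC hF hne (hFC.trans hC.norm) hD.co hCMd (hFD.trans hD.norm) hMM
    exact ⟨h.1, h.2.2⟩
  have cl2 : ∀ {F Mf : Subgroup G}, Cfg n F Mf → F ≤ Subgroup.normalizer (C : Set G) →
      F ≤ Subgroup.normalizer (D : Set G) → F ≠ D →
      Mf ≠ Md ∧ D ≤ Subgroup.normalizer (F : Set G) := by
    intro F Mf hF hFC hFD hne
    have h := pair ih hD hF hne (hFD.trans hD.norm) hC.co hDMc (hFC.trans hC.norm) (Ne.symm hMM)
    exact ⟨h.1, h.2.2⟩
  by_cases h1 : E = E'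
  · rw [h1]; exact Subgroup.le_normalizer
  by_cases h2 : E' = C
  · rw [h2]; exact hEC
  by_cases h3 : E' = D
  · rw [h3]; exact hED
  by_cases h4 : E = C
  · rw [h4]; exact (cl1 hE' hE'C hE'D h2).2
  by_cases h5 : E = D
  · rw [h5]; exact (cl2 hE' hE'C hE'D h3).2
  exact triple ih hC hE hE' h1 h4 (hEC.trans hC.norm) (hE'C.trans hC.norm)
    (cl1 hE hEC hED h4).1 (cl1 hE' hE'C hE'D h2).1 hD.co hCMd (hED.trans hD.norm)
    (hE'D.trans hD.norm) hMM

theorem isSubnormal_iSup {G : Type u} [Group G] [Finite G] {ι : Type*} [Finite ι]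
    (f : ι → Subgroup G) (L : Subgroup G) (hle : ∀ i, f i ≤ L)
    (hs : ∀ i, ((f i).subgroupOf L).IsSubnormal) :
    ((⨆ i, f i).subgroupOf L).IsSubnormal := by
  classical
  haveI := Fintype.ofFinite ι
  have key : ∀ s : Finset ι, (s.sup f ≤ L) ∧ ((s.sup f).subgroupOf L).IsSubnormal := by
    intro s
    induction s using Finset.induction_on with
    | empty =>
      refine ⟨by simp, ?_⟩
      rw [Finset.sup_empty, Subgroup.bot_subgroupOf]
      exact Subgroup.IsSubnormal.bot
    | insert a s ha ih =>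
      rw [Finset.sup_insert]
      exact ⟨sup_le (hle a) ih.1, isSubnormal_subgroupOf_sup (hle a) ih.1 (hs a) ih.2⟩
  have h := (key Finset.univ).2
  rwa [Finset.sup_univ_eq_iSup] at h

theorem conj_le_normalizer_conj {G : Type*} [Group G] (t : G) {S S' : Subgroup G}
    (h : S ≤ Subgroup.normalizer (S' : Set G)) :
    MulAut.conj t • S ≤ Subgroup.normalizer ((MulAut.conj t • S' : Subgroup G) : Set G) := by
  intro y hy
  rw [mem_normalizer_conj]
  rw [mem_conj_smul] at hy
  exact h hy

theorem normalizer_coatom {G : Type*} [Group G] {A M : Subgroup G} (hM : IsCoatom M)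
    (hAM : A ≤ M) (hnc : Subgroup.normalClosure (A : Set G) = ⊤) :
    Subgroup.normalizer (M : Set G) = M := by
  by_contra hcon
  have hlt : M < Subgroup.normalizer (M : Set G) :=
    lt_of_le_of_ne Subgroup.le_normalizer (Ne.symm hcon)
  have htop := hM.2 _ hlt
  have hn : M.Normal := Subgroup.normalizer_eq_top_iff.mp htop
  have h1 : Subgroup.normalClosure (A : Set G) ≤ M := Subgroup.normalClosure_le_normal hAM
  rw [hnc] at h1
  exact hM.1 (top_le_iff.mp h1)

theorem conj_smul_eq_of_mem_normalizer {G : Type*} [Group G] {A : Subgroup G} {x : G}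
    (hx : x ∈ Subgroup.normalizer (A : Set G)) : MulAut.conj x • A = A := by
  ext y
  rw [mem_conj_smul, (Subgroup.mem_normalizer_iff.mp hx) (x⁻¹ * y * x)]
  have e : x * (x⁻¹ * y * x) * x⁻¹ = y := by group
  rw [e]

theorem eq_of_coatom_le {G : Type*} [Group G] {K L : Subgroup G} (hK : IsCoatom K)
    (hL : IsCoatom L) (h : K ≤ L) : L = K := by
  by_contra hne
  exact hL.1 (hK.2 L (lt_of_le_of_ne h (Ne.symm hne)))

theorem exists_T {G : Type u} [Group G] [Finite G] {n : ℕ} (ih : IHyp G n)
    {C Mc K : Subgroup G} (hC : Cfg n C Mc) (hK : IsCoatom K) (hCK : C ≤ K) (hne : K ≠ Mc) :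
    ∃ T : Subgroup G, T ≤ K ∧ (∃ t ∈ T, t ∉ Subgroup.normalizer (C : Set G)) ∧
      (∀ t ∈ T, MulAut.conj t • C ≤ Subgroup.normalizer (C : Set G)) ∧
      (∀ L : Subgroup G, IsCoatom L → T ≤ L → L = K) := by
  have hKN : ¬ K ≤ Subgroup.normalizer (C : Set G) := by
    intro h
    exact hne (eq_of_coatom_le hK hC.co (h.trans hC.norm)).symm
  by_cases hα : ∀ k ∈ K, MulAut.conj k • C ≤ Subgroup.normalizer (C : Set G)
  · refine ⟨K, le_rfl, ?_, hα, fun L hL hKL => eq_of_coatom_le hK hL hKL⟩
    by_contra hcon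
    push_neg at hcon
    exact hKN hcon
  · push_neg at hα
    have key : ∀ m : ℕ, ∀ W : Subgroup G, Nat.card W = m → C ≤ W → W ≤ K →
        (∃ w ∈ W, ¬ MulAut.conj w • C ≤ Subgroup.normalizer (C : Set G)) →
        ∃ T : Subgroup G, T ≤ K ∧ (∃ t ∈ T, t ∉ Subgroup.normalizer (C : Set G)) ∧
        (∀ t ∈ T, MulAut.conj t • C ≤ Subgroup.normalizer (C : Set G)) ∧
        (∀ L : Subgroup G, IsCoatom L → T ≤ L → L = K) := by
      intro m
      induction m using Nat.strong_induction_on with
      | _ m ihm =>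
      rintro W hWm hCW hWK ⟨w0, hw0, hw0N⟩
      obtain ⟨T, hT⟩ : ∃ T : Subgroup G, T = ⨆ w : W, MulAut.conj (w : G) • C := ⟨_, rfl⟩
      have hgen : ∀ w : W, MulAut.conj (w : G) • C ≤ T := by
        intro w
        rw [hT]
        exact le_iSup (fun w : W => MulAut.conj (w : G) • C) w
      have hCT : C ≤ T := by
        have h1 := hgen 1
        rwa [OneMemClass.coe_one, map_one, one_smul] at h1
      have hTW : T ≤ W := by
        rw [hT]
        apply iSup_le
        intro w y hy
        rw [mem_conj_smul] at hy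
        have e : y = (w : G) * ((w : G)⁻¹ * y * (w : G)) * (w : G)⁻¹ := by group
        rw [e]
        exact W.mul_mem (W.mul_mem w.2 (hCW hy)) (W.inv_mem w.2)
      have hWT : ∀ w ∈ W, MulAut.conj w • T ≤ T := by
        intro w hw
        rw [conj_smul_le_iff, hT]
        apply iSup_le
        intro v
        rw [← hT, ← conj_smul_le_iff, smul_smul, ← map_mul]
        exact hgen ⟨w * v, W.mul_mem hw v.2⟩
      have hTN : ¬ T ≤ Subgroup.normalizer (C : Set G) := by
        intro h
        exact hw0N ((hgen ⟨w0, hw0⟩).trans h)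
      have hTMc : ¬ T ≤ Mc := fun h => hTN (fun y hy =>
        inf_le_normalizer ih hC hK hCK hne ⟨h hy, hWK (hTW hy)⟩)
      by_cases hall : ∀ t ∈ T, MulAut.conj t • C ≤ Subgroup.normalizer (C : Set G)
      · refine ⟨T, hTW.trans hWK, ?_, hall, ?_⟩
        · by_contra hcon
          push_neg at hcon
          exact hTN hcon
        · have hlt : C < T := lt_of_le_of_ne hCT (fun h => hTN (h ▸ Subgroup.le_normalizer))
          have hcard : n < Nat.card T := by rw [← hC.card]; exact card_lt_card_of_lt' hlt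
          have hU : Umo T := by
            refine umo_of ih T K hcard (hTW.trans hWK) hK.1 (nc_of_le hC.nc hCT) ?_
            intro L hL hTL
            by_cases hLK : L = K
            · left; exact hLK.le
            · right
              rw [hT]
              apply isSubnormal_iSup (fun w : W => MulAut.conj (w : G) • C) L
              · intro w; exact (hgen w).trans hTL
              · intro w
                apply (hC.conj (w : G)).good L hL ((hgen w).trans hTL)
                intro hLw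
                apply hTMc
                intro y hy
                have h1 : (w : G) * y * (w : G)⁻¹ ∈ T := hWT w w.2 (conj_smul_mem T w hy)
                have h2 := hTL h1
                rw [hLw, mem_conj_smul] at h2
                have e : (w : G)⁻¹ * ((w : G) * y * (w : G)⁻¹) * (w : G) = y := by group
                rwa [e] at h2
          intro L hL hTL
          exact hU L K hL hK hTL (hTW.trans hWK)
      · push_neg at hall
        obtain ⟨t, ht, htN⟩ := hall
        have hTneW : T ≠ W := by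
          intro hTW'
          have hsub : (C.subgroupOf W).IsSubnormal :=
            isSubnormal_subgroupOf_of_le hWK (hC.good K hK hCK hne)
          have hN : Subgroup.normalClosure ((C.subgroupOf W : Subgroup W) : Set W) = ⊤ := by
            apply top_le_iff.mp
            have h1 : T ≤ (Subgroup.normalClosure
                ((C.subgroupOf W : Subgroup W) : Set W)).map W.subtype := by
              rw [hT]
              apply iSup_le
              intro w y hy
              rw [mem_conj_smul] at hy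
              refine ⟨w * ⟨(w : G)⁻¹ * y * (w : G), hCW hy⟩ * w⁻¹, ?_, ?_⟩
              · apply Subgroup.normalClosure_normal.conj_mem
                apply Subgroup.subset_normalClosure
                exact Subgroup.mem_subgroupOf.mpr hy
              · show (w : G) * ((w : G)⁻¹ * y * (w : G)) * (w : G)⁻¹ = y
                group
            intro x _
            have h2 : (x : G) ∈ T := by rw [hTW']; exact x.2
            obtain ⟨x', hx', hxx⟩ := h1 h2
            have h3 : x' = x := Subtype.ext hxx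
            rwa [h3] at hx'
          have h4 := top_of_subnormal hsub hN
          have hWC : W ≤ C := by
            intro y hy
            have h5 : (⟨y, hy⟩ : W) ∈ C.subgroupOf W := by rw [h4]; trivial
            exact Subgroup.mem_subgroupOf.mp h5
          apply hw0N
          rw [conj_smul_eq_self (hWC hw0)]
          exact Subgroup.le_normalizer
        have hlt : Nat.card T < m := by
          rw [← hWm]
          exact card_lt_card_of_lt' (lt_of_le_of_ne hTW hTneW)
        exact ihm (Nat.card T) hlt T rfl hCT (hTW.trans hWK) ⟨t, ht, htN⟩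
    obtain ⟨k, hk, hkN⟩ := hα
    exact key _ K rfl hCK le_rfl ⟨k, hk, hkN⟩

theorem core {G : Type u} [Group G] [Finite G] {n : ℕ} (ih : IHyp G n)
    {A M K0 : Subgroup G} (hA : Cfg n A M) (hK0 : IsCoatom K0) (hAK0 : A ≤ K0) (hne0 : K0 ≠ M) :
    False := by
  obtain ⟨T0, hT0K, ⟨l0, hl0T, hl0N⟩, hT0n, -⟩ := exists_T ih hA hK0 hAK0 hne0
  have hl0K : l0 ∈ K0 := hT0K hl0T
  have hl0M : l0 ∉ M := fun h => hl0N (inf_le_normalizer ih hA hK0 hAK0 hne0 ⟨h, hl0K⟩)
  obtain ⟨B, hB⟩ : ∃ B : Subgroup G, B = MulAut.conj l0 • A := ⟨_, rfl⟩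
  obtain ⟨MB, hMB⟩ : ∃ MB : Subgroup G, MB = MulAut.conj l0 • M := ⟨_, rfl⟩
  have hBc : Cfg n B MB := by rw [hB, hMB]; exact hA.conj l0
  have hBA : B ≤ Subgroup.normalizer (A : Set G) := by rw [hB]; exact hT0n l0 hl0T
  have hAB : A ≤ Subgroup.normalizer (B : Set G) := by
    have h1 := hT0n l0⁻¹ (T0.inv_mem hl0T)
    intro a ha
    rw [hB, mem_normalizer_conj]
    apply h1
    rw [mem_conj_smul, inv_inv]
    have e : l0 * (l0⁻¹ * a * l0) * l0⁻¹ = a := by group
    rw [e]; exact ha
  have hMne : MB ≠ M := by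
    intro h
    apply hl0M
    rw [← normalizer_coatom hA.co hA.le hA.nc]
    apply mem_normalizer_of_conj_smul_le
    rw [← hMB]
    exact h.le
  have hAMB : A ≤ MB := hAB.trans hBc.norm
  have hBM : B ≤ M := hBA.trans hA.norm
  obtain ⟨TA, hTAle, ⟨sA, hsAT, hsAN⟩, hTAn, hTAu⟩ := exists_T ih hA hBc.co hAMB hMne
  obtain ⟨TB, hTBle, ⟨sB, hsBT, hsBN⟩, hTBn, hTBu⟩ :=
    exists_T ih hBc hA.co hBM (Ne.symm hMne)
  obtain ⟨ell, hell⟩ : ∃ ell : Set (Subgroup G), ell = {E : Subgroup G |
      (∃ g : G, E = MulAut.conj g • A) ∧ E ≤ Subgroup.normalizer (A : Set G) ∧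
        E ≤ Subgroup.normalizer (B : Set G)} := ⟨_, rfl⟩
  have hmk : ∀ g : G, MulAut.conj g • A ≤ Subgroup.normalizer (A : Set G) →
      MulAut.conj g • A ≤ Subgroup.normalizer (B : Set G) → MulAut.conj g • A ∈ ell := by
    intro g h1 h2
    rw [hell]
    exact ⟨⟨g, rfl⟩, h1, h2⟩
  have hdest : ∀ E ∈ ell, ∃ g : G, E = MulAut.conj g • A ∧
      E ≤ Subgroup.normalizer (A : Set G) ∧ E ≤ Subgroup.normalizer (B : Set G) := by
    intro E hE
    rw [hell] at hE
    obtain ⟨⟨g, hg⟩, h1, h2⟩ := hE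
    exact ⟨g, hg, h1, h2⟩
  have hAell : A ∈ ell := by
    have h1 := hmk 1
    rw [map_one, one_smul] at h1
    exact h1 Subgroup.le_normalizer hAB
  have hBell : B ∈ ell := by
    have h1 := hmk l0
    rw [← hB] at h1
    exact h1 hBA Subgroup.le_normalizer
  have hcl : ∀ E ∈ ell, ∀ E' ∈ ell, E ≤ Subgroup.normalizer (E' : Set G) := by
    intro E hE E' hE'
    obtain ⟨g, rfl, hEA, hEB⟩ := hdest E hE
    obtain ⟨g', rfl, hE'A, hE'B⟩ := hdest E' hE'
    exact clique ih hA hBc (hA.conj g) (hA.conj g') hMne hBA hAB hEA hEB hE'A hE'B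
  have hline : ∀ C1 ∈ ell, ∀ C2 ∈ ell, C1 ≠ C2 → ∀ g : G,
      MulAut.conj g • A ≤ Subgroup.normalizer (C1 : Set G) →
      MulAut.conj g • A ≤ Subgroup.normalizer (C2 : Set G) → MulAut.conj g • A ∈ ell := by
    intro C1 hC1 C2 hC2 hne g hg1 hg2
    have h12 := hcl C1 hC1 C2 hC2
    have h21 := hcl C2 hC2 C1 hC1
    have hA1 := hcl A hAell C1 hC1
    have hA2 := hcl A hAell C2 hC2
    have hB1 := hcl B hBell C1 hC1
    have hB2 := hcl B hBell C2 hC2
    obtain ⟨g1, rfl, h1A, h1B⟩ := hdest C1 hC1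
    obtain ⟨g2, rfl, h2A, h2B⟩ := hdest C2 hC2
    have hc1 := hA.conj g1
    have hc2 := hA.conj g2
    have hMM : MulAut.conj g2 • M ≠ MulAut.conj g1 • M := by
      by_cases hL : M = MulAut.conj g1 • M
      · exact (pair ih hc1 hc2 (Ne.symm hne) (h21.trans hc1.norm) hBc.co (h1B.trans hBc.norm)
          (h2B.trans hBc.norm) (by rw [← hL]; exact hMne)).1
      · exact (pair ih hc1 hc2 (Ne.symm hne) (h21.trans hc1.norm) hA.co (h1A.trans hA.norm)
          (h2A.trans hA.norm) hL).1
    apply hmk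
    · exact clique ih hc1 hc2 (hA.conj g) hA hMM h21 h12 hg1 hg2 hA1 hA2
    · exact clique ih hc1 hc2 (hA.conj g) hBc hMM h21 h12 hg1 hg2 hB1 hB2
  have hinv : ∀ (C T : Subgroup G), C ∈ ell → (∀ u ∈ T, MulAut.conj u • C ∈ ell) →
      (∃ s ∈ T, s ∉ Subgroup.normalizer (C : Set G)) →
      ∀ t ∈ T, ∀ E ∈ ell, MulAut.conj t • E ∈ ell := by
    rintro C T hCell hmem ⟨s, hsT, hsN⟩ t ht E hE
    have hnorm : ∀ u ∈ T, MulAut.conj t • E ≤
        Subgroup.normalizer ((MulAut.conj u • C : Subgroup G) : Set G) := by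
      intro u hu
      have h1 := hcl E hE _ (hmem (t⁻¹ * u) (T.mul_mem (T.inv_mem ht) hu))
      have h2 := conj_le_normalizer_conj t h1
      rwa [smul_smul, ← map_mul, mul_inv_cancel_left] at h2
    obtain ⟨g, rfl, -, -⟩ := hdest E hE
    have e : MulAut.conj t • MulAut.conj g • A = MulAut.conj (t * g) • A := by
      rw [smul_smul, ← map_mul]
    rw [e] at hnorm ⊢
    refine hline C hCell (MulAut.conj s • C) (hmem s hsT) ?_ (t * g) ?_ (hnorm s hsT)
    · intro h
      apply hsN
      apply mem_normalizer_of_conj_smul_le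
      exact h.symm.le
    · have h3 := hnorm 1 T.one_mem
      rwa [map_one, one_smul] at h3
  have hmemA : ∀ u ∈ TA, MulAut.conj u • A ∈ ell := by
    intro u hu
    apply hmk u (hTAn u hu)
    intro y hy
    apply inf_le_normalizer ih hBc hA.co hBM (Ne.symm hMne)
    refine ⟨?_, hA.norm (hTAn u hu hy)⟩
    rw [mem_conj_smul] at hy
    have e : y = u * (u⁻¹ * y * u) * u⁻¹ := by group
    rw [e]
    exact MB.mul_mem (MB.mul_mem (hTAle hu) (hAMB hy)) (MB.inv_mem (hTAle hu))
  have hmemB : ∀ u ∈ TB, MulAut.conj u • B ∈ ell := by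
    intro u hu
    have e0 : MulAut.conj u • B = MulAut.conj (u * l0) • A := by
      rw [hB, smul_smul, ← map_mul]
    have hn := hTBn u hu
    rw [e0] at hn ⊢
    refine hmk (u * l0) ?_ hn
    intro y hy
    apply inf_le_normalizer ih hA hBc.co hAMB hMne
    refine ⟨?_, hBc.norm (hn hy)⟩
    rw [← e0, mem_conj_smul] at hy
    have e : y = u * (u⁻¹ * y * u) * u⁻¹ := by group
    rw [e]
    exact M.mul_mem (M.mul_mem (hTBle hu) (hBM hy)) (M.inv_mem (hTBle hu))
  have hinvA := hinv A TA hAell hmemA ⟨sA, hsAT, hsAN⟩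
  have hinvB := hinv B TB hBell hmemB ⟨sB, hsBT, hsBN⟩
  have hQ : ∀ T : Subgroup G, (∀ t ∈ T, ∀ E ∈ ell, MulAut.conj t • E ∈ ell) →
      T ≤ Subgroup.normalizer ((sSup ell : Subgroup G) : Set G) := by
    intro T hT t ht
    apply mem_normalizer_of_conj_smul_le
    rw [conj_smul_le_iff]
    apply sSup_le
    intro E hE
    rw [← conj_smul_le_iff]
    exact le_sSup (hT t ht E hE)
  have hQM : sSup ell ≤ M := by
    apply sSup_le
    intro E hE
    obtain ⟨g, -, h1, -⟩ := hdest E hE
    exact h1.trans hA.norm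
  have hNtop : Subgroup.normalizer ((sSup ell : Subgroup G) : Set G) ≠ ⊤ := by
    intro h
    have hn : (sSup ell : Subgroup G).Normal := Subgroup.normalizer_eq_top_iff.mp h
    have h1 : Subgroup.normalClosure (A : Set G) ≤ sSup ell :=
      Subgroup.normalClosure_le_normal (le_sSup hAell)
    rw [hA.nc] at h1
    exact hA.co.1 (top_le_iff.mp (h1.trans hQM))
  obtain ⟨L, hL, hNL⟩ := (eq_top_or_exists_le_coatom _).resolve_left hNtop
  have e1 : L = MB := hTAu L hL ((hQ TA hinvA).trans hNL)
  have e2 : L = M := hTBu L hL ((hQ TB hinvB).trans hNL)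
  exact hMne (e1.symm.trans e2)

theorem main_aux {G : Type u} [Group G] [Finite G] : ∀ (m : ℕ) (A : Subgroup G),
    Nat.card G - Nat.card A = m → Subgroup.normalClosure (A : Set G) = ⊤ → A ≠ ⊤ →
    KK A = ⊤ ∨ Umo A := by
  intro m
  induction m using Nat.strong_induction_on with
  | _ m ihm =>
  intro A hm hA hAG
  by_contra hcon
  push_neg at hcon
  obtain ⟨hKK, hUmo⟩ := hcon
  have ih : IHyp G (Nat.card A) := by
    intro T hT hTtop hTnc
    have hle : Nat.card T ≤ Nat.card G := Subgroup.card_le_card_group T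
    exact ihm (Nat.card G - Nat.card T) (by omega) T rfl hTnc hTtop
  have hAKK : A ≤ KK A := by
    apply le_sSup
    refine ⟨le_rfl, hAG, ?_⟩
    rw [Subgroup.subgroupOf_self]
    exact Subgroup.normalClosure_eq_self ⊤
  obtain ⟨M, hM, hKM⟩ := (eq_top_or_exists_le_coatom (KK A)).resolve_left hKK
  have hAM : A ≤ M := hAKK.trans hKM
  have hgood : ∀ L : Subgroup G, IsCoatom L → A ≤ L → L ≠ M →
      (A.subgroupOf L).IsSubnormal := by
    intro L hL hAL hLM
    by_contra hns
    have hex : ∃ k : ℕ, ∃ S : Subgroup G, Nat.card S = k ∧ A ≤ S ∧ S ≤ L ∧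
        (S.subgroupOf L).IsSubnormal :=
      ⟨_, L, rfl, hAL, le_rfl, by rw [Subgroup.subgroupOf_self]; exact Subgroup.IsSubnormal.top⟩
    classical
    obtain ⟨S, hSk, hAS, hSL, hSsub⟩ := Nat.find_spec hex
    have hmin : ∀ S' : Subgroup G, A ≤ S' → S' ≤ L → (S'.subgroupOf L).IsSubnormal →
        Nat.card S ≤ Nat.card S' := by
      intro S' h1 h2 h3
      rw [hSk]
      exact Nat.find_min' hex ⟨S', rfl, h1, h2, h3⟩
    have hSA : S ≠ A := fun h => hns (h ▸ hSsub)
    have hNtop : Subgroup.normalClosure ((A.subgroupOf S : Subgroup S) : Set S) = ⊤ := by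
      obtain ⟨N, hN⟩ : ∃ N : Subgroup S, N =
        Subgroup.normalClosure ((A.subgroupOf S : Subgroup S) : Set S) := ⟨_, rfl⟩
      have hNn : N.Normal := by rw [hN]; exact Subgroup.normalClosure_normal
      rw [← hN]
      have h1 : N.map S.subtype ≤ S := by
        rintro _ ⟨x, -, rfl⟩; exact x.2
      have h2 : A ≤ N.map S.subtype := by
        intro a ha
        refine ⟨⟨a, hAS ha⟩, ?_, rfl⟩
        rw [hN]
        exact Subgroup.subset_normalClosure (Subgroup.mem_subgroupOf.mpr ha)
      have hSX : S ≤ Subgroup.normalizer ((N.map S.subtype : Subgroup G) : Set G) := by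
        intro s hs
        apply mem_normalizer_of_conj_smul_le
        intro y hy
        rw [mem_conj_smul] at hy
        obtain ⟨x', hx', hxx⟩ := hy
        refine ⟨⟨s, hs⟩ * x' * ⟨s, hs⟩⁻¹, hNn.conj_mem x' hx' ⟨s, hs⟩, ?_⟩
        have hxx' : (x' : G) = s⁻¹ * y * s := hxx
        show s * (x' : G) * s⁻¹ = y
        rw [hxx']
        group
      have h3 : ((N.map S.subtype).subgroupOf L).IsSubnormal := by
        have hle : (N.map S.subtype).subgroupOf L ≤ S.subgroupOf L := by
          intro y hy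
          exact Subgroup.mem_subgroupOf.mpr (h1 (Subgroup.mem_subgroupOf.mp hy))
        refine Subgroup.IsSubnormal.step _ (S.subgroupOf L) hle hSsub ?_
        rw [Subgroup.normal_subgroupOf_iff_le_normalizer hle]
        intro y hy
        rw [mem_normalizer_subgroupOf (h1.trans hSL)]
        exact hSX (Subgroup.mem_subgroupOf.mp hy)
      have h4 := hmin _ h2 (h1.trans hSL) h3
      have h5 : N.map S.subtype = S := Subgroup.eq_of_le_of_card_ge h1 h4
      apply top_le_iff.mp
      intro x _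
      have h6 : (x : G) ∈ N.map S.subtype := by rw [h5]; exact x.2
      obtain ⟨x', hx', hxx⟩ := h6
      have h7 : x' = x := Subtype.ext hxx
      rwa [h7] at hx'
    have hStop : S ≠ ⊤ := fun h => hL.1 (top_le_iff.mp (h ▸ hSL))
    have hSKK : S ≤ KK A := le_sSup ⟨hAS, hStop, hNtop⟩
    have hSM : S ≤ M := hSKK.trans hKM
    have hlt : Nat.card A < Nat.card S :=
      card_lt_card_of_lt' (lt_of_le_of_ne hAS (Ne.symm hSA))
    rcases ih S hlt hStop (nc_of_le hA hAS) with h | h
    · apply hKK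
      apply top_le_iff.mp
      rw [← h]
      apply sSup_le
      rintro H ⟨hSH, hH, hHn⟩
      apply le_sSup
      refine ⟨hAS.trans hSH, hH, ?_⟩
      apply top_le_iff.mp
      rw [← hHn]
      apply Subgroup.normalClosure_le_normal
      intro y hy
      have hyS : (y : G) ∈ S := Subgroup.mem_subgroupOf.mp hy
      have h1 : Subgroup.normalClosure ((A.subgroupOf S : Subgroup S) : Set S) ≤
          (Subgroup.normalClosure ((A.subgroupOf H : Subgroup H) : Set H)).comap
            (Subgroup.inclusion hSH) := by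
        haveI : ((Subgroup.normalClosure ((A.subgroupOf H : Subgroup H) : Set H)).comap
            (Subgroup.inclusion hSH)).Normal := Subgroup.normalClosure_normal.comap _
        apply Subgroup.normalClosure_le_normal
        intro a ha
        apply Subgroup.subset_normalClosure
        exact Subgroup.mem_subgroupOf.mpr (Subgroup.mem_subgroupOf.mp ha)
      rw [hNtop] at h1
      have h2 : (⟨(y : G), hyS⟩ : S) ∈ (Subgroup.normalClosure
          ((A.subgroupOf H : Subgroup H) : Set H)).comap (Subgroup.inclusion hSH) :=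
        h1 (Subgroup.mem_top _)
      exact h2
    · exact hLM (h L M hL hM hSL hSM)
  by_cases hsubM : (A.subgroupOf M).IsSubnormal
  · have hall : ∀ K : Subgroup G, A ≤ K → K ≠ ⊤ → (A.subgroupOf K).IsSubnormal := by
      intro K hAK hK
      obtain ⟨L, hL, hKL⟩ := (eq_top_or_exists_le_coatom K).resolve_left hK
      have hsubL : (A.subgroupOf L).IsSubnormal := by
        by_cases hLM : L = M
        · rw [hLM]; exact hsubM
        · exact hgood L hL (hAK.trans hKL) hLM
      exact isSubnormal_subgroupOf_of_le hKL hsubL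
    have hAns : ¬ A.IsSubnormal := fun h => hAG (top_of_subnormal h hA)
    exact hUmo (zipper_aux _ A rfl hall hAns)
  · have hnorm : Subgroup.normalizer (A : Set G) ≤ M := by
      intro x hx
      by_contra hxM
      have hxA : MulAut.conj x • A = A := conj_smul_eq_of_mem_normalizer hx
      have hx'A : MulAut.conj x⁻¹ • A = A :=
        conj_smul_eq_of_mem_normalizer (Subgroup.inv_mem _ hx)
      have hne : MulAut.conj x • M ≠ M := by
        intro h
        apply hxM
        rw [← normalizer_coatom hM hAM hA]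
        exact mem_normalizer_of_conj_smul_le h.le
      have hAxM : A ≤ MulAut.conj x • M := by
        intro a ha
        have h1 : a ∈ MulAut.conj x • A := by rw [hxA]; exact ha
        rw [mem_conj_smul] at h1 ⊢
        exact hAM h1
      have h1 := hgood _ (isCoatom_conj x hM) hAxM hne
      have h2 := isSubnormal_subgroupOf_conj x⁻¹ h1
      rw [conj_inv_smul_smul, hx'A] at h2
      exact hsubM h2
    have hcfg : Cfg (Nat.card A) A M := ⟨hM, hAM, hA, rfl, hgood, hnorm⟩
    have hK0 : ∃ K0 : Subgroup G, IsCoatom K0 ∧ A ≤ K0 ∧ K0 ≠ M := by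
      by_contra hno
      push_neg at hno
      apply hUmo
      intro M1 K1 hM1 hK1 hAM1 hAK1
      rw [hno M1 hM1 hAM1, hno K1 hK1 hAK1]
    obtain ⟨K0, hK0, hAK0, hK0M⟩ := hK0
    exact core ih hcfg hK0 hAK0 hK0M

/-- Let G be a finite group and A a proper subgroup of G whose normal closure is G. Let Y be the join of all proper subgroups H of G that contain A and are generated by their own conjugates of A (the normal closure of A in H is H). Then either Y = G, or A is contained in exactly one maximal subgroup of G. -/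
theorem result {G : Type*} [Group G] [Finite G] (A : Subgroup G) (hA : Subgroup.normalClosure (A : Set G) = ⊤) (hAG : A ≠ ⊤) :
    sSup {H : Subgroup G | A ≤ H ∧ H ≠ ⊤ ∧ Subgroup.normalClosure ((A.subgroupOf H : Subgroup ↥H) : Set ↥H) = ⊤} = ⊤ ∨
      ∃! M : Subgroup G, IsCoatom M ∧ A ≤ M := by
  rcases main_aux _ A rfl hA hAG with h | h
  · left; exact h
  · right
    obtain ⟨M, hM, hAM⟩ := (eq_top_or_exists_le_coatom A).resolve_left hAG
    exact ⟨M, ⟨hM, hAM⟩, fun K hK => h K M hK.1 hM hK.2 hAM⟩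

end Cfsg.Agent.S3947
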