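import Cfsg.Statements.S3264
import Mathlib
import Cfsg.Agent.S3947

set_option autoImplicit false
open Cfsg

namespace Cfsg.Agent.S3264

universe u

/-- edge relation of the odd-product graph, on the whole group -/
def E {G : Type*} [Group G] (t : G) (x y : G) : Prop :=
  IsConj t x ∧ IsConj t y ∧ Odd (orderOf (x * y))

/-- reachability -/
abbrev R {G : Type*} [Group G] (t : G) : G → G → Prop := Relation.ReflTransGen (E t)

theorem orderOf_conj' {G : Type*} [Group G] (g a : G) : orderOf (g * a * g⁻¹) = orderOf a := by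
  have := (MulAut.conj g).orderOf_eq a
  simpa [MulAut.conj_apply] using this

theorem E_symm {G : Type*} [Group G] (t : G) {x y : G} (hxy : E t x y) : E t y x := by
  obtain ⟨hx, hy, ho⟩ := hxy
  refine ⟨hy, hx, ?_⟩
  have h : y * x = x⁻¹ * (x * y) * x⁻¹⁻¹ := by group
  rw [h, orderOf_conj']
  exact ho

theorem R_symm {G : Type*} [Group G] (t : G) {x y : G} (h : R t x y) : R t y x := by
  induction h with
  | refl => exact Relation.ReflTransGen.refl
  | tail _ hbc ih => exact Relation.ReflTransGen.head (E_symm t hbc) ih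

theorem E_conj {G : Type*} [Group G] (t g : G) {x y : G} (h : E t x y) :
    E t (g * x * g⁻¹) (g * y * g⁻¹) := by
  obtain ⟨hx, hy, ho⟩ := h
  refine ⟨hx.trans (isConj_iff.mpr ⟨g, rfl⟩), hy.trans (isConj_iff.mpr ⟨g, rfl⟩), ?_⟩
  have h : g * x * g⁻¹ * (g * y * g⁻¹) = g * (x * y) * g⁻¹ := by group
  rw [h, orderOf_conj']
  exact ho

theorem R_conj {G : Type*} [Group G] (t g : G) {x y : G} (h : R t x y) :
    R t (g * x * g⁻¹) (g * y * g⁻¹) :=
  Relation.ReflTransGen.lift (fun z => g * z * g⁻¹) (fun _ _ hab => E_conj t g hab) x y h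

/-- the stabiliser of the component of `t` -/
def Mt {G : Type*} [Group G] (t : G) : Subgroup G where
  carrier := {g | R t t (g * t * g⁻¹)}
  one_mem' := by
    show R t t (1 * t * 1⁻¹)
    simp only [one_mul, inv_one, mul_one]
    exact Relation.ReflTransGen.refl
  mul_mem' := by
    intro g h hg hh
    have h1 : R t (g * t * g⁻¹) (g * (h * t * h⁻¹) * g⁻¹) := R_conj t g hh
    have h2 : g * (h * t * h⁻¹) * g⁻¹ = g * h * t * (g * h)⁻¹ := by group
    rw [h2] at h1
    exact Relation.ReflTransGen.trans hg h1
  inv_mem' := by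
    intro g hg
    have h1 : R t (g⁻¹ * t * g⁻¹⁻¹) (g⁻¹ * (g * t * g⁻¹) * g⁻¹⁻¹) := R_conj t g⁻¹ hg
    have h2 : g⁻¹ * (g * t * g⁻¹) * g⁻¹⁻¹ = t := by group
    rw [h2] at h1
    exact R_symm t h1

theorem mem_Mt {G : Type*} [Group G] (t g : G) : g ∈ Mt t ↔ R t t (g * t * g⁻¹) := Iff.rfl

theorem reach_mem {G : Type*} [Group G] (t : G) {x : G} (h : R t t x) : x ∈ Mt t := by
  rw [mem_Mt]
  have h1 : R t (x * t * x⁻¹) (x * x * x⁻¹) := R_conj t x h
  have h2 : x * x * x⁻¹ = x := by group
  rw [h2] at h1
  exact Relation.ReflTransGen.trans h (R_symm t h1)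

/-- the dihedral case -/
theorem dihedral {G : Type*} [Group G] (t x₀ : G) (ht : orderOf t = 2)
    (hx₀ : IsConj t x₀) (hgen : Subgroup.closure ({t, x₀} : Set G) = ⊤) :
    ∀ x, IsConj t x → Odd (orderOf (t * x)) := by
  have ht2 : t * t = 1 := by
    have := pow_orderOf_eq_one t
    rw [ht, sq] at this
    exact this
  have htinv : t⁻¹ = t := inv_eq_of_mul_eq_one_left ht2
  have hx2 : x₀ * x₀ = 1 := by
    obtain ⟨c, rfl⟩ := isConj_iff.mp hx₀
    have : c * t * c⁻¹ * (c * t * c⁻¹) = c * (t * t) * c⁻¹ := by group
    rw [this, ht2]; group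
  have hxinv : x₀⁻¹ = x₀ := inv_eq_of_mul_eq_one_left hx2
  obtain ⟨r, hr⟩ : ∃ r, r = t * x₀ := ⟨_, rfl⟩
  have h1 : t * r * t⁻¹ = r⁻¹ := by
    rw [hr, mul_inv_rev, hxinv, htinv, ← mul_assoc, ht2, one_mul]
  have h2 : ∀ k : ℤ, t * r ^ k * t = r ^ (-k) := by
    intro k
    have := conj_zpow (a := t) (b := r) (i := k)
    rw [h1, htinv] at this
    rw [← this, inv_zpow, zpow_neg]
  have hx₀r : x₀ = t * r ^ (1 : ℤ) := by
    rw [zpow_one, hr, ← mul_assoc, ht2, one_mul]
  -- normal form
  have hnf : ∀ g : G, ∃ k : ℤ, g = r ^ k ∨ g = t * r ^ k := by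
    intro g
    have hg : g ∈ Subgroup.closure ({t, x₀} : Set G) := by rw [hgen]; trivial
    induction hg using Subgroup.closure_induction with
    | mem y hy =>
      rcases hy with rfl | hy
      · exact ⟨0, Or.inr (by simp)⟩
      · rw [Set.mem_singleton_iff] at hy
        exact ⟨1, Or.inr (hy ▸ hx₀r)⟩
    | one => exact ⟨0, Or.inl (by simp)⟩
    | mul a b _ _ iha ihb =>
      obtain ⟨ka, ha | ha⟩ := iha <;> obtain ⟨kb, hb | hb⟩ := ihb
      · exact ⟨ka + kb, Or.inl (by rw [ha, hb, zpow_add])⟩
      · refine ⟨kb - ka, Or.inr ?_⟩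
        rw [ha, hb]
        have : r ^ ka * (t * r ^ kb) = t * (t * r ^ ka * t) * r ^ kb := by
          rw [mul_assoc t (r ^ ka) t, ← mul_assoc t t, ht2, one_mul, mul_assoc]
        rw [this, h2, mul_assoc, ← zpow_add]
        congr 2; ring
      · exact ⟨ka + kb, Or.inr (by rw [ha, hb, mul_assoc, zpow_add])⟩
      · refine ⟨kb - ka, Or.inl ?_⟩
        rw [ha, hb]
        have : t * r ^ ka * (t * r ^ kb) = (t * r ^ ka * t) * r ^ kb := by
          simp only [mul_assoc]
        rw [this, h2, ← zpow_add]
        congr 1; ring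
    | inv a _ iha =>
      obtain ⟨ka, ha | ha⟩ := iha
      · exact ⟨-ka, Or.inl (by rw [ha, zpow_neg])⟩
      · refine ⟨ka, Or.inr ?_⟩
        rw [ha, mul_inv_rev, htinv, ← zpow_neg]
        have : r ^ (-ka) * t = t * (t * r ^ (-ka) * t) := by
          rw [mul_assoc t (r ^ (-ka)) t, ← mul_assoc t t, ht2, one_mul]
        rw [this, h2, neg_neg]
  -- conjugates of t
  have hconj : ∀ g : G, ∃ m : ℤ, g * t * g⁻¹ = t * r ^ (2 * m) := by
    intro g
    obtain ⟨k, hg | hg⟩ := hnf g
    · refine ⟨-k, ?_⟩
      rw [hg]
      have : r ^ k * t * (r ^ k)⁻¹ = t * (t * r ^ k * t) * (r ^ k)⁻¹ := by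
        rw [mul_assoc t (r ^ k) t, ← mul_assoc t t, ht2, one_mul]
      rw [this, h2, ← zpow_neg, mul_assoc, ← zpow_add]
      congr 2; ring
    · refine ⟨k, ?_⟩
      rw [hg, mul_inv_rev, htinv, ← zpow_neg]
      have : t * r ^ k * t * (r ^ (-k) * t) = (t * r ^ k * t) * r ^ (-k) * t := by
        simp only [mul_assoc]
      rw [this, h2, ← zpow_add]
      have : r ^ (-k + -k) * t = t * (t * r ^ (-k + -k) * t) := by
        rw [mul_assoc t (r ^ (-k + -k)) t, ← mul_assoc t t, ht2, one_mul]
      rw [this, h2]
      congr 2; ring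
  -- the rotation has odd order
  have hodd : Odd (orderOf r) := by
    obtain ⟨c, hc⟩ := isConj_iff.mp hx₀
    obtain ⟨m, hm⟩ := hconj c
    rw [hc, hx₀r] at hm
    have h3 : r ^ (1 : ℤ) = r ^ (2 * m) := mul_left_cancel hm
    have h4 : r ^ (2 * m - 1) = 1 := by
      rw [zpow_sub, ← h3, mul_inv_cancel]
    have h5 : (orderOf r : ℤ) ∣ 2 * m - 1 := orderOf_dvd_iff_zpow_eq_one.mpr h4
    rw [← Nat.not_even_iff_odd]
    intro hev
    have h6 : (2 : ℤ) ∣ (orderOf r : ℤ) := by exact_mod_cast even_iff_two_dvd.mp hev
    have h7 := h6.trans h5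
    omega
  intro x hx
  obtain ⟨c, hc⟩ := isConj_iff.mp hx
  obtain ⟨m, hm⟩ := hconj c
  rw [hc] at hm
  rw [hm, ← mul_assoc, ht2, one_mul]
  refine Odd.of_dvd_nat hodd (orderOf_dvd_of_pow_eq_one ?_)
  rw [← zpow_natCast, ← zpow_mul, mul_comm, zpow_mul, zpow_natCast, pow_orderOf_eq_one, one_zpow]

theorem main : ∀ (n : ℕ) (G : Type u) [Group G] [Finite G], Nat.card G = n → ∀ t : G, orderOf t = 2 →
    Subgroup.normalClosure ({t} : Set G) = ⊤ → ∀ x, IsConj t x → R t t x := by
  intro n
  induction n using Nat.strong_induction_on with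
  | _ n ih =>
    intro G _ _ hn t ht hnc x hx
    by_cases hA : Subgroup.zpowers t = ⊤
    · obtain ⟨c, hc⟩ := isConj_iff.mp hx
      have hcm : c ∈ Subgroup.zpowers t := by rw [hA]; trivial
      obtain ⟨k, rfl⟩ := Subgroup.mem_zpowers_iff.mp hcm
      have hcomm : Commute (t ^ k) t := (Commute.refl t).zpow_left k
      rw [hcomm.eq, mul_inv_cancel_right] at hc
      subst hc
      exact Relation.ReflTransGen.refl
    · have hncA : Subgroup.normalClosure ((Subgroup.zpowers t : Subgroup G) : Set G) = ⊤ := by
        apply top_unique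
        rw [← hnc]
        apply Subgroup.normalClosure_mono
        intro y hy
        rw [Set.mem_singleton_iff] at hy
        subst hy
        exact Subgroup.mem_zpowers y
      rcases Cfsg.Agent.S3947.result (Subgroup.zpowers t) hncA hA with hY | hM
      · have hle : sSup {H : Subgroup G | Subgroup.zpowers t ≤ H ∧ H ≠ ⊤ ∧
            Subgroup.normalClosure (((Subgroup.zpowers t).subgroupOf H : Subgroup ↥H) : Set ↥H) = ⊤}
            ≤ Mt t := by
          apply sSup_le
          rintro H ⟨hAH, hHtop, hHnc⟩
          have htH : t ∈ H := hAH (Subgroup.mem_zpowers t)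
          have hcard : Nat.card H < n := by
            rw [← hn]
            exact lt_of_le_of_ne (Subgroup.card_le_card_group H)
              (fun h => hHtop ((Subgroup.card_eq_iff_eq_top H).mp h))
          have hnc' : Subgroup.normalClosure ({(⟨t, htH⟩ : H)} : Set H) = ⊤ := by
            apply top_unique
            rw [← hHnc]
            apply Subgroup.normalClosure_le_normal
            intro h hh
            have hh' : (h : G) ∈ Subgroup.zpowers t := hh
            obtain ⟨k, hk⟩ := Subgroup.mem_zpowers_iff.mp hh'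
            have : h = (⟨t, htH⟩ : H) ^ k := by
              apply Subtype.ext
              rw [Subgroup.coe_zpow]
              exact hk.symm
            rw [this]
            exact zpow_mem (Subgroup.subset_normalClosure (Set.mem_singleton _)) k
          have hIH := ih (Nat.card H) hcard H rfl ⟨t, htH⟩
            (by rw [Subgroup.orderOf_mk]; exact ht) hnc'
          intro h hh
          have hmem : (⟨h, hh⟩ : H) ∈ Subgroup.normalClosure ({(⟨t, htH⟩ : H)} : Set H) := by
            rw [hnc']; trivial
          have hsub : Subgroup.normalClosure ({(⟨t, htH⟩ : H)} : Set H) ≤ (Mt t).comap H.subtype := by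
            show Subgroup.closure (Group.conjugatesOfSet ({(⟨t, htH⟩ : H)} : Set H)) ≤ _
            rw [Subgroup.closure_le]
            intro y hy
            rw [Group.mem_conjugatesOfSet_iff] at hy
            obtain ⟨a, ha, hay⟩ := hy
            rw [Set.mem_singleton_iff] at ha
            subst ha
            have hRy := hIH y hay
            have hRG : R t t (y : G) := by
              have := Relation.ReflTransGen.lift (r := E (⟨t, htH⟩ : H)) (p := E t)
                (fun z : H => (z : G)) (fun a b hab => ?_) _ _ hRy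
              · exact this
              · obtain ⟨h1, h2, h3⟩ := hab
                refine ⟨?_, ?_, ?_⟩
                · obtain ⟨c, hc⟩ := isConj_iff.mp h1
                  exact isConj_iff.mpr ⟨c.1, by simpa using congrArg Subtype.val hc⟩
                · obtain ⟨c, hc⟩ := isConj_iff.mp h2
                  exact isConj_iff.mpr ⟨c.1, by simpa using congrArg Subtype.val hc⟩
                · have : orderOf ((a * b : H) : G) = orderOf (a * b) := Subgroup.orderOf_coe (a * b)
                  rw [Subgroup.coe_mul] at this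
                  rw [this]; exact h3
            exact reach_mem t hRG
          exact hsub hmem
        rw [hY] at hle
        have hc := isConj_iff.mp hx
        obtain ⟨c, rfl⟩ := hc
        have : c ∈ Mt t := hle trivial
        exact this
      · obtain ⟨M₀, ⟨hM₀, hAM₀⟩, huniq⟩ := hM
        have hex : ∃ x₀, IsConj t x₀ ∧ Subgroup.closure ({t, x₀} : Set G) = ⊤ := by
          by_contra hcon
          push Not at hcon
          have hall : ∀ y, IsConj t y → y ∈ M₀ := by
            intro y hy
            rcases eq_top_or_exists_le_coatom (Subgroup.closure ({t, y} : Set G)) with h | ⟨M', hM', hle⟩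
            · exact absurd h (hcon y hy)
            · have htM' : Subgroup.zpowers t ≤ M' := by
                rw [Subgroup.zpowers_le]
                exact hle (Subgroup.subset_closure (by simp))
              have := huniq M' ⟨hM', htM'⟩
              rw [← this]
              exact hle (Subgroup.subset_closure (by simp))
          have : Subgroup.normalClosure ({t} : Set G) ≤ M₀ := by
            show Subgroup.closure (Group.conjugatesOfSet ({t} : Set G)) ≤ _
            rw [Subgroup.closure_le]
            intro y hy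
            rw [Group.mem_conjugatesOfSet_iff] at hy
            obtain ⟨a, ha, hay⟩ := hy
            rw [Set.mem_singleton_iff] at ha
            subst ha
            exact hall y hay
          rw [hnc] at this
          exact hM₀.1 (top_unique this)
        obtain ⟨x₀, hx₀, hgen⟩ := hex
        have hodd := dihedral t x₀ ht hx₀ hgen x hx
        exact Relation.ReflTransGen.single ⟨IsConj.refl t, hx, hodd⟩

theorem reach_graph {G : Type*} [Group G] (t : G) :
    ∀ y, R t t y → ∃ hy : IsConj t y,
      (SimpleGraph.fromRel fun x y : {x : G // IsConj t x} => Odd (orderOf (x.1 * y.1))).Reachable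
        ⟨t, IsConj.refl t⟩ ⟨y, hy⟩ := by
  intro y hy
  induction hy with
  | refl => exact ⟨IsConj.refl t, SimpleGraph.Reachable.refl _⟩
  | @tail b c _ hbc ih =>
    obtain ⟨hb, hreach⟩ := ih
    obtain ⟨_, hc, hodd⟩ := hbc
    refine ⟨hc, ?_⟩
    by_cases hbceq : b = c
    · subst hbceq
      exact hreach
    · refine hreach.trans (SimpleGraph.Adj.reachable ?_)
      rw [SimpleGraph.fromRel_adj]
      refine ⟨fun h => hbceq (congrArg Subtype.val h), Or.inl hodd⟩

/-- Let G be a non-abelian finite simple group and X a conjugacy class of involutions of G. Form the graph on X in which two distinct involutions are joined when their product has odd order. Then this graph is connected. (By the Baer–Suzuki Theorem the graph has at least one edge; connectedness is the stronger statement.) -/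
theorem result {G : Type*} [Group G] [Finite G] [IsSimpleGroup G]
    (hG : ¬ IsMulCommutative G) (t : G) (ht : orderOf t = 2) :
    (SimpleGraph.fromRel fun x y : {x : G // IsConj t x} => Odd (orderOf (x.1 * y.1))).Connected := by
  have hnc : Subgroup.normalClosure ({t} : Set G) = ⊤ := by
    rcases (Subgroup.normalClosure_normal (s := ({t} : Set G))).eq_bot_or_eq_top with h | h
    · exfalso
      have ht1 : t ∈ Subgroup.normalClosure ({t} : Set G) :=
        Subgroup.subset_normalClosure (Set.mem_singleton t)
      rw [h, Subgroup.mem_bot] at ht1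
      rw [ht1, orderOf_one] at ht
      omega
    · exact h
  have hmain := main (Nat.card G) G rfl t ht hnc
  have : Nonempty {x : G // IsConj t x} := ⟨⟨t, IsConj.refl t⟩⟩
  rw [SimpleGraph.connected_iff]
  refine ⟨?_, inferInstance⟩
  have hbase : ∀ u : {x : G // IsConj t x},
      (SimpleGraph.fromRel fun x y : {x : G // IsConj t x} => Odd (orderOf (x.1 * y.1))).Reachable
        ⟨t, IsConj.refl t⟩ u := by
    rintro ⟨y, hy⟩
    obtain ⟨_, h⟩ := reach_graph t y (hmain y hy)
    exact h
  intro u v
  exact (hbase u).symm.trans (hbase v)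

end Cfsg.Agent.S3264
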