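-- Statement S3279 (row 3279).
import Cfsg.Statements.S3279
import Cfsg.Agent.S0208
import Cfsg.Agent.S0209
import Cfsg.Agent.Lib.Lead.ZCor

set_option autoImplicit false
open Cfsg

namespace Cfsg.Agent.S3279

open scoped Pointwise

/-- Two non-conjugate involutions have a third involution commuting with both. -/
theorem dih {G : Type*} [Group G] [Finite G] (u v : G) (hu : orderOf u = 2) (hv : orderOf v = 2)
    (hne : ¬ IsConj u v) :
    ∃ w : G, orderOf w = 2 ∧ Commute w u ∧ Commute w v ∧ w ≠ u ∧ w ≠ v := by
  rcases Nat.even_or_odd (orderOf (u * v)) with he | ho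
  · obtain ⟨h2, hcu, hcv⟩ := Cfsg.Agent.S0209.result u v hu hv he
    have hu1 : u ≠ 1 := by rintro rfl; rw [orderOf_one] at hu; omega
    have hv1 : v ≠ 1 := by rintro rfl; rw [orderOf_one] at hv; omega
    have huu : u * u = 1 := by rw [← pow_two, ← hu]; exact pow_orderOf_eq_one u
    have hvv : v * v = 1 := by rw [← pow_two, ← hv]; exact pow_orderOf_eq_one v
    have key : Commute u v → (u * v) ^ (orderOf (u * v) / 2) = u * v := by
      intro hc
      have h1 : (u * v) ^ 2 = 1 := by
        rw [pow_two]
        calc u * v * (u * v) = u * (v * u) * v := by group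
          _ = u * (u * v) * v := by rw [hc.eq]
          _ = (u * u) * (v * v) := by group
          _ = 1 := by rw [huu, hvv, one_mul]
      have h2' : orderOf (u * v) ∣ 2 := orderOf_dvd_of_pow_eq_one h1
      have h3 : orderOf (u * v) = 2 := by
        have hpos : 0 < orderOf (u * v) := orderOf_pos _
        have hle : orderOf (u * v) ≤ 2 := Nat.le_of_dvd (by norm_num) h2'
        obtain ⟨m, hm⟩ := he
        omega
      rw [h3]; norm_num
    refine ⟨_, h2, hcu, hcv, ?_, ?_⟩
    · intro hw
      have hc : Commute u v := by rw [hw] at hcv; exact hcv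
      rw [key hc] at hw
      exact hv1 (by simpa using hw)
    · intro hw
      have hc : Commute u v := by rw [hw] at hcu; exact hcu.symm
      rw [key hc] at hw
      exact hu1 (by simpa using hw)
  · obtain ⟨d, -, hd⟩ := Cfsg.Agent.S0208.result u v hu hv ho
    exact absurd (isConj_iff.mpr ⟨d, hd⟩) hne

/-- With at most three involutions in `C(x)`, three distinct ones exhaust them. -/
theorem four_absurd {G : Type*} [Group G] [Finite G] (x : G)
    (h3 : Nat.card {u : ↥(Subgroup.centralizer ({x} : Set G)) // orderOf u = 2} ≤ 3)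
    (p q r y : G) (hp : orderOf p = 2) (hq : orderOf q = 2) (hr : orderOf r = 2)
    (hy : orderOf y = 2) (cp : Commute p x) (cq : Commute q x) (cr : Commute r x)
    (cy : Commute y x) (hpq : p ≠ q) (hpr : p ≠ r) (hqr : q ≠ r) :
    y = p ∨ y = q ∨ y = r := by
  by_contra hcon
  push Not at hcon
  obtain ⟨n1, n2, n3⟩ := hcon
  have mem : ∀ t : G, Commute t x → t ∈ Subgroup.centralizer ({x} : Set G) := by
    intro t ht
    rw [Subgroup.mem_centralizer_iff]
    intro z hz
    rw [Set.mem_singleton_iff] at hz
    subst hz
    exact ht.eq.symm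
  let val : {u : ↥(Subgroup.centralizer ({x} : Set G)) // orderOf u = 2} → G :=
    fun u => ((u : ↥(Subgroup.centralizer ({x} : Set G))) : G)
  have hval : Function.Injective val := fun u v h => Subtype.ext (Subtype.ext h)
  have hsub : ({p, q, r, y} : Set G) ⊆ Set.range val := by
    intro t ht
    simp only [Set.mem_insert_iff, Set.mem_singleton_iff] at ht
    rcases ht with rfl | rfl | rfl | rfl
    · exact ⟨⟨⟨t, mem t cp⟩, by rw [← Subgroup.orderOf_coe]; exact hp⟩, rfl⟩
    · exact ⟨⟨⟨t, mem t cq⟩, by rw [← Subgroup.orderOf_coe]; exact hq⟩, rfl⟩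
    · exact ⟨⟨⟨t, mem t cr⟩, by rw [← Subgroup.orderOf_coe]; exact hr⟩, rfl⟩
    · exact ⟨⟨⟨t, mem t cy⟩, by rw [← Subgroup.orderOf_coe]; exact hy⟩, rfl⟩
  have hcard : ({p, q, r, y} : Set G).ncard = 4 := by
    rw [Set.ncard_insert_of_notMem (by simp [hpq, hpr, Ne.symm n1]),
      Set.ncard_insert_of_notMem (by simp [hqr, Ne.symm n2]), Set.ncard_pair (Ne.symm n3)]
  have h4 : 4 ≤ Nat.card {u : ↥(Subgroup.centralizer ({x} : Set G)) // orderOf u = 2} := by
    calc 4 = ({p, q, r, y} : Set G).ncard := hcard.symm
      _ ≤ (Set.range val).ncard := Set.ncard_le_ncard hsub (Set.toFinite _)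
      _ = Nat.card {u : ↥(Subgroup.centralizer ({x} : Set G)) // orderOf u = 2} := by
          rw [← Set.image_univ, Set.ncard_image_of_injective _ hval, Set.ncard_univ]
  omega

/-- Let G be a finite simple group and x an involution of G whose centralizer contains at most three involutions. Then C_G(x) contains a Sylow 2-subgroup of G, and all involutions of G are conjugate. -/
theorem result {G : Type*} [Group G] [Finite G] [IsSimpleGroup G] (x : G) (hx : orderOf x = 2)
    (h3 : Nat.card {u : ↥(Subgroup.centralizer ({x} : Set G)) // orderOf u = 2} ≤ 3) :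
    (∃ S : Sylow 2 G, (S : Subgroup G) ≤ Subgroup.centralizer ({x} : Set G)) ∧
      ∀ u v : G, orderOf u = 2 → orderOf v = 2 → IsConj u v := by
  have : Fact (Nat.Prime 2) := ⟨Nat.prime_two⟩
  have hx1 : x ≠ 1 := by rintro rfl; rw [orderOf_one] at hx; omega
  by_cases hab : ∀ p q : G, p * q = q * p
  · constructor
    · obtain ⟨S⟩ : Nonempty (Sylow 2 G) := inferInstance
      refine ⟨S, fun s _ => ?_⟩
      rw [Subgroup.mem_centralizer_iff]
      intro z _
      exact hab z s
    · intro u v hu hv
      have hu1 : u ≠ 1 := by rintro rfl; rw [orderOf_one] at hu; omega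
      have hv1 : v ≠ 1 := by rintro rfl; rw [orderOf_one] at hv; omega
      have hn : (Subgroup.zpowers u).Normal :=
        ⟨fun n hn g => by rw [hab g n, mul_inv_cancel_right]; exact hn⟩
      have htop : Subgroup.zpowers u = ⊤ := by
        rcases hn.eq_bot_or_eq_top with h | h
        · exfalso
          have hm : u ∈ Subgroup.zpowers u := Subgroup.mem_zpowers u
          rw [h, Subgroup.mem_bot] at hm
          exact hu1 hm
        · exact h
      have hv' : v ∈ Subgroup.zpowers u := by rw [htop]; exact Subgroup.mem_top v
      obtain ⟨k, hk⟩ := Subgroup.mem_zpowers_iff.mp hv'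
      have hk2 : u ^ (k % 2) = v := by
        rw [← hk]
        have := zpow_mod_orderOf u k
        rw [hu] at this
        exact_mod_cast this
      have : k % 2 = 0 ∨ k % 2 = 1 := by omega
      rcases this with h0 | h1
      · rw [h0, zpow_zero] at hk2; exact absurd hk2.symm hv1
      · rw [h1, zpow_one] at hk2; rw [hk2]
  · have hO : ∀ N : Subgroup G, N.Normal → Odd (Nat.card N) → N = ⊥ := by
      intro N hN hodd
      rcases hN.eq_bot_or_eq_top with h | h
      · exact h
      · exfalso
        rw [h, Subgroup.card_top] at hodd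
        have hd : 2 ∣ Nat.card G := hx ▸ orderOf_dvd_natCard x
        rcases hodd with ⟨m, hm⟩
        omega
    have hZ : Subgroup.center G = ⊥ := by
      rcases (inferInstance : (Subgroup.center G).Normal).eq_bot_or_eq_top with h | h
      · exact h
      · exfalso
        apply hab
        intro p q
        have hp : p ∈ Subgroup.center G := by rw [h]; exact Subgroup.mem_top p
        exact ((Subgroup.mem_center_iff.mp hp) q).symm
    have hniso : ¬ Cfsg.IsIsolatedInvolution x := by
      intro hiso
      have hc := Cfsg.Agent.Lib.Lead.ZCor.central_of_isolated hO x hiso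
      rw [hZ, Subgroup.mem_bot] at hc
      exact hx1 hc
    have hex : ∃ g : G, Commute x (g * x * g⁻¹) ∧ g * x * g⁻¹ ≠ x := by
      by_contra hcon
      push Not at hcon
      exact hniso ⟨hx, hcon⟩
    obtain ⟨g, hca, hax⟩ := hex
    have ord_conj : ∀ h y : G, orderOf (h * y * h⁻¹) = orderOf y :=
      fun h y => MulEquiv.orderOf_eq (MulAut.conj h) y
    obtain ⟨a, ha_def⟩ : ∃ a, a = g * x * g⁻¹ := ⟨_, rfl⟩
    rw [← ha_def] at hca hax
    have ha : orderOf a = 2 := by rw [ha_def, ord_conj, hx]
    have ha1 : a ≠ 1 := by rintro h; rw [h, orderOf_one] at ha; omega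
    have hxx : x * x = 1 := by rw [← pow_two, ← hx]; exact pow_orderOf_eq_one x
    have haa : a * a = 1 := by rw [← pow_two, ← ha]; exact pow_orderOf_eq_one a
    have hxa : x * a = a * x := hca.eq
    obtain ⟨b, hb_def⟩ : ∃ b, b = x * a := ⟨_, rfl⟩
    have hbb : b * b = 1 := by
      rw [hb_def]
      calc x * a * (x * a) = x * (a * x) * a := by group
        _ = x * (x * a) * a := by rw [hxa]
        _ = (x * x) * (a * a) := by group
        _ = 1 := by rw [hxx, haa, one_mul]
    have hb1 : b ≠ 1 := by
      intro h
      apply hax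
      rw [hb_def] at h
      have h1 : a = x⁻¹ := eq_inv_of_mul_eq_one_right h
      rw [h1]; exact inv_eq_of_mul_eq_one_left hxx
    have hb : orderOf b = 2 := orderOf_eq_prime (by rw [pow_two]; exact hbb) hb1
    have hbx : b ≠ x := by
      intro h; apply ha1
      rw [hb_def] at h
      exact mul_left_cancel (h.trans (mul_one x).symm)
    have hba : b ≠ a := by
      intro h; apply hx1
      rw [hb_def] at h
      exact mul_right_cancel (h.trans (one_mul a).symm)
    have hcb : Commute b x := by
      rw [hb_def]; exact (Commute.refl x).mul_left hca.symm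
    have hcba : Commute b a := by
      rw [hb_def]; exact hca.mul_left (Commute.refl a)
    have I3 : ∀ y : G, orderOf y = 2 → Commute y x → y = x ∨ y = a ∨ y = b :=
      fun y hy hc => four_absurd x h3 x a b y hx ha hb hy (Commute.refl x) hca.symm hcb hc
        (Ne.symm hax) (Ne.symm hbx) (Ne.symm hba)
    have I3' : ∀ h y : G, orderOf y = 2 → Commute y (h * x * h⁻¹) →
        y = h * x * h⁻¹ ∨ y = h * a * h⁻¹ ∨ y = h * b * h⁻¹ := by
      intro h y hy hc
      have hy' : orderOf (h⁻¹ * y * h) = 2 := by
        have := ord_conj h⁻¹ y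
        rw [inv_inv] at this
        rw [this, hy]
      have hc' : Commute (h⁻¹ * y * h) x := by
        have e := hc.eq
        show h⁻¹ * y * h * x = x * (h⁻¹ * y * h)
        calc h⁻¹ * y * h * x = h⁻¹ * (y * (h * x * h⁻¹)) * h := by group
          _ = h⁻¹ * (h * x * h⁻¹ * y) * h := by rw [e]
          _ = x * (h⁻¹ * y * h) := by group
      have back : ∀ c : G, h⁻¹ * y * h = c → y = h * c * h⁻¹ := by
        intro c hc; rw [← hc]; group
      rcases I3 _ hy' hc' with e | e | e
      · exact Or.inl (back _ e)
      · exact Or.inr (Or.inl (back _ e))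
      · exact Or.inr (Or.inr (back _ e))
    by_cases hxb : IsConj x b
    · obtain ⟨k, hk⟩ := isConj_iff.mp hxb
      have conjx : ∀ w : G, w = a ∨ w = b → ∃ c : G, w = c * x * c⁻¹ := by
        rintro w (rfl | rfl)
        · exact ⟨g, ha_def⟩
        · exact ⟨k, hk.symm⟩
      have allconj : ∀ y : G, orderOf y = 2 → IsConj x y := by
        intro y hy
        by_contra hne
        obtain ⟨w, hw, hwx, hwy, hwnx, hwny⟩ := dih x y hx hy hne
        have hw' : w = a ∨ w = b := by
          rcases I3 w hw hwx with e | e | e
          · exact absurd e hwnx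
          · exact Or.inl e
          · exact Or.inr e
        obtain ⟨c, hc⟩ := conjx w hw'
        have hyc : Commute y (c * x * c⁻¹) := by rw [← hc]; exact hwy.symm
        rcases I3' c y hy hyc with e' | e' | e'
        · exact hne (isConj_iff.mpr ⟨c, e'.symm⟩)
        · exact hne (isConj_iff.mpr ⟨c * g, by rw [e', ha_def]; group⟩)
        · exact hne (isConj_iff.mpr ⟨c * k, by rw [e', ← hk]; group⟩)
      constructor
      · obtain ⟨S, hS⟩ := (Cfsg.Agent.Lib.Lead.ZCor.isPGroup_zpowers_two hx).exists_le_sylow
        have hxS : x ∈ (S : Subgroup G) := hS (Subgroup.mem_zpowers x)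
        obtain ⟨z, hzS, hz2, hzc⟩ : ∃ z : G, z ∈ (S : Subgroup G) ∧ orderOf z = 2 ∧
            ∀ s ∈ (S : Subgroup G), Commute s z := by
          have hSne : Nontrivial (S : Subgroup G) :=
            ⟨⟨⟨x, hxS⟩, 1, by intro h; exact hx1 (congrArg Subtype.val h)⟩⟩
          have hP : IsPGroup 2 (S : Subgroup G) := S.isPGroup'
          have hcn : Nontrivial (Subgroup.center (S : Subgroup G)) := hP.center_nontrivial
          have hPc : IsPGroup 2 (Subgroup.center (S : Subgroup G)) := hP.to_subgroup _
          obtain ⟨n, hn⟩ := IsPGroup.iff_card.mp hPc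
          have hn1 : n ≠ 0 := by
            rintro rfl
            rw [pow_zero] at hn
            have := Finite.one_lt_card (α := Subgroup.center (S : Subgroup G))
            omega
          have hdvd : 2 ∣ Nat.card (Subgroup.center (S : Subgroup G)) := by
            rw [hn]; exact dvd_pow_self 2 hn1
          obtain ⟨z, hz⟩ := exists_prime_orderOf_dvd_card' 2 hdvd
          refine ⟨((z : (S : Subgroup G)) : G), (z : (S : Subgroup G)).2, ?_, ?_⟩
          · rw [Subgroup.orderOf_coe, Subgroup.orderOf_coe]; exact hz
          · intro s hs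
            have := Subgroup.mem_center_iff.mp z.2 ⟨s, hs⟩
            exact congrArg Subtype.val this
        have hzx : Commute z x := (hzc x hxS).symm
        obtain ⟨c, hc⟩ : ∃ c : G, z = c * x * c⁻¹ := by
          rcases I3 z hz2 hzx with e | e | e
          · exact ⟨1, by rw [e]; group⟩
          · exact conjx z (Or.inl e)
          · exact conjx z (Or.inr e)
        refine ⟨(MulAut.conj c⁻¹) • S, ?_⟩
        intro s hs
        have hs' : c * s * c⁻¹ ∈ (S : Subgroup G) := by
          have h0 : s ∈ (MulAut.conj c⁻¹) • (S : Subgroup G) := hs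
          rw [Subgroup.mem_pointwise_smul_iff_inv_smul_mem] at h0
          simpa [MulAut.smul_def] using h0
        have hcomm := hzc _ hs'
        rw [Subgroup.mem_centralizer_iff]
        intro t ht
        rw [Set.mem_singleton_iff] at ht
        subst ht
        have e := hcomm.eq
        rw [hc] at e
        have e' : c * (s * t) * c⁻¹ = c * (t * s) * c⁻¹ := by
          calc c * (s * t) * c⁻¹ = c * s * c⁻¹ * (c * t * c⁻¹) := by group
            _ = c * t * c⁻¹ * (c * s * c⁻¹) := e
            _ = c * (t * s) * c⁻¹ := by group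
        exact (mul_left_cancel (mul_right_cancel e')).symm
      · intro u v hu hv
        exact (allconj u hu).symm.trans (allconj v hv)
    · exfalso
      have e1 : x = g * a * g⁻¹ := by
        have hcx : Commute x (g * x * g⁻¹) := by rw [← ha_def]; exact hca
        rcases I3' g x hx hcx with e | e | e
        · exact absurd (ha_def.trans e.symm) hax
        · exact e
        · exact absurd (isConj_iff.mpr ⟨g⁻¹, by rw [e]; group⟩) hxb
      have e2 : b = g * b * g⁻¹ := by
        have hcb' : Commute b (g * x * g⁻¹) := by rw [← ha_def]; exact hcba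
        rcases I3' g b hb hcb' with e | e | e
        · exact absurd (e.trans ha_def.symm) hba
        · exact absurd (e.trans e1.symm) hbx
        · exact e
      have key : ∀ k : G, Commute b (k * b * k⁻¹) := by
        intro k
        have hv : orderOf (k * b * k⁻¹) = 2 := by rw [ord_conj, hb]
        have hne : ¬ IsConj x (k * b * k⁻¹) := by
          intro hc
          apply hxb
          exact hc.trans (isConj_iff.mpr ⟨k⁻¹, by group⟩)
        obtain ⟨w, hw, hwx, hwv, hwnx, hwnv⟩ := dih x (k * b * k⁻¹) hx hv hne
        rcases I3 w hw hwx with e | e | e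
        · exact absurd e hwnx
        · have hva : Commute (k * b * k⁻¹) (g * x * g⁻¹) := by
            rw [← ha_def, ← e]; exact hwv.symm
          rcases I3' g _ hv hva with e' | e' | e'
          · exact absurd (isConj_iff.mpr ⟨g, e'.symm⟩) hne
          · exact absurd (isConj_iff.mpr ⟨1, by rw [e', ← e1]; group⟩) hne
          · rw [e', ← e2]
        · rw [e] at hwv; exact hwv
      have hle : Subgroup.normalClosure ({b} : Set G) ≤ Subgroup.centralizer ({b} : Set G) := by
        unfold Subgroup.normalClosure
        rw [Subgroup.closure_le]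
        intro y hy
        rw [Group.mem_conjugatesOfSet_iff] at hy
        obtain ⟨b', hb', hconj⟩ := hy
        rw [Set.mem_singleton_iff] at hb'
        subst hb'
        obtain ⟨k, hk⟩ := isConj_iff.mp hconj
        rw [SetLike.mem_coe, Subgroup.mem_centralizer_iff]
        intro t ht
        rw [Set.mem_singleton_iff] at ht
        subst ht
        rw [← hk]
        exact (key k).eq
      have htop : Subgroup.normalClosure ({b} : Set G) = ⊤ := by
        rcases (Subgroup.normalClosure_normal (s := ({b} : Set G))).eq_bot_or_eq_top with h | h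
        · exfalso
          have hm : b ∈ Subgroup.normalClosure ({b} : Set G) :=
            Subgroup.subset_normalClosure (Set.mem_singleton b)
          rw [h, Subgroup.mem_bot] at hm
          exact hb1 hm
        · exact h
      have hbc : b ∈ Subgroup.center G := by
        rw [Subgroup.mem_center_iff]
        intro q
        have hq : q ∈ Subgroup.centralizer ({b} : Set G) :=
          hle (by rw [htop]; exact Subgroup.mem_top q)
        rw [Subgroup.mem_centralizer_iff] at hq
        exact (hq b (Set.mem_singleton b)).symm
      rw [hZ, Subgroup.mem_bot] at hbc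
      exact hb1 hbc

end Cfsg.Agent.S3279
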