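import Cfsg.Statements.S4480
-- import your own Cfsg.Agent.* helpers here
import Mathlib
import Cfsg.Agent.Lib.Helper25.KleinOrder3

set_option autoImplicit false
open Cfsg

namespace Cfsg.Agent.S4480

open Cfsg.Agent.Lib.Helper2 Cfsg.Agent.Lib.Helper25 Cfsg.Agent.Lib.Helper8 in
/-- Same setting as the Klein-four order formula: G of order 4·g₀ (g₀ odd) with no normal 2-complement, P a Sylow 2-subgroup, J an involution of P, M over 2, principal 2-block {1, χ₁, χ₂, χ₃} with χ_i(J) = ε_i = ±1. Suppose ε₁ε₂ε₃ = −1 and ε₃ = −1, and put q = x₃ = χ₃(1). Then there is a natural number m with 4·c(J) = m·c(P)·(q + 1), and the order of G equals (m³·c(P)/4)·(q³ − q)/2, that is 8·#G = m³·c(P)·(q³ − q). -/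
theorem result {G : Type*} [Group G] [Finite G] (M : Ideal Cfsg.AlgInt) (hM : Cfsg.IsPModular 2 M) (g₀ : ℕ) (hg₀ : Odd g₀) (hG : Nat.card G = 4 * g₀) (hnc : ¬ ∃ N : Subgroup G, N.Normal ∧ Nat.card N = g₀) (P : Sylow 2 G) (J : G) (hJ : J ∈ (P : Subgroup G)) (hJ2 : orderOf J = 2) (χ₁ χ₂ χ₃ : Cfsg.IrrCharacter G) (ε₁ ε₂ ε₃ : ℤ) (hB : Cfsg.principalBlock M G = {χ : Cfsg.IrrCharacter G | (χ : G → ℂ) = (fun _ => 1) ∨ χ = χ₁ ∨ χ = χ₂ ∨ χ = χ₃}) (hdist : (χ₁ : G → ℂ) ≠ (fun _ => 1) ∧ (χ₂ : G → ℂ) ≠ (fun _ => 1) ∧ (χ₃ : G → ℂ) ≠ (fun _ => 1) ∧ χ₁ ≠ χ₂ ∧ χ₁ ≠ χ₃ ∧ χ₂ ≠ χ₃) (hε : (ε₁ = 1 ∨ ε₁ = -1) ∧ (ε₂ = 1 ∨ ε₂ = -1) ∧ (ε₃ = 1 ∨ ε₃ = -1)) (hval : (χ₁ : G → ℂ) J = ε₁ ∧ (χ₂ : G → ℂ) J = ε₂ ∧ (χ₃ : G → ℂ) J = ε₃) (hprod : ε₁ * ε₂ * ε₃ = -1) (hε₃ : ε₃ = -1) : ∃ m : ℕ, 4 * Nat.card (Subgroup.centralizer ({J} : Set G)) = m * Nat.card (Subgroup.centralizer ((P : Subgroup G) : Set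 G)) * (Cfsg.charDegree (χ₃ : G → ℂ) + 1) ∧ 8 * Nat.card G = m ^ 3 * Nat.card (Subgroup.centralizer ((P : Subgroup G) : Set G)) * (Cfsg.charDegree (χ₃ : G → ℂ) ^ 3 - Cfsg.charDegree (χ₃ : G → ℂ)) := by
  classical
  have : Fintype G := Fintype.ofFinite G
  have : Fintype (IrrCharacter G) := Fintype.ofFinite _
  have : Fact (Nat.Prime 2) := ⟨Nat.prime_two⟩
  have hpr := isPrime_of_isPModular hM
  have hid := klein_block_identity hM g₀ hg₀ hG hnc P J hJ hJ2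
  rw [sum_four_block (principalBlock M G) χ₁ χ₂ χ₃ hB hdist] at hid
  have h1reg : ¬ 2 ∣ orderOf (1 : G) := by
    rw [orderOf_one]
    norm_num
  have hJsing : 2 ∣ orderOf J := by rw [hJ2]
  have horth := block_orth hM (principalBlock M G) (blockClosed_principal M) 1 J h1reg hJsing
  have horth' : ∑ χ : IrrCharacter G, (if χ ∈ principalBlock M G then
      (χ : G → ℂ) 1 * (starRingEnd ℂ) ((χ : G → ℂ) J) else 0) = 0 := by
    refine Eq.trans ?_ horth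
    apply Finset.sum_congr rfl
    intro χ _
    by_cases hχ : χ ∈ principalBlock M G
    · rw [if_pos hχ, if_pos hχ, one_mul]
    · rw [if_neg hχ, if_neg hχ, zero_mul]
  rw [sum_four_block (principalBlock M G) χ₁ χ₂ χ₃ hB hdist] at horth'
  obtain ⟨d₁, hd₁, hd₁pos, -, hcd₁⟩ := irr_degree χ₁
  obtain ⟨d₂, hd₂, hd₂pos, -, hcd₂⟩ := irr_degree χ₂
  obtain ⟨d₃, hd₃, hd₃pos, -, hcd₃⟩ := irr_degree χ₃
  obtain ⟨hv1, hv2, hv3⟩ := hval
  simp only [hv1, hv2, hv3, hd₁, hd₂, hd₃] at hid horth'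
  obtain ⟨hoQ, hWne, key, -⟩ := klein_algebra (Nat.card G) _ _ d₁ d₂ d₃ ε₁ ε₂ ε₃ Nat.card_pos
    Nat.card_pos Nat.card_pos hd₁pos hd₂pos hd₃pos hε hid horth'
  have hq1 : (1 : ℚ) ≤ d₁ := by exact_mod_cast hd₁pos
  have hq2 : (1 : ℚ) ≤ d₂ := by exact_mod_cast hd₂pos
  have hq3 : (1 : ℚ) ≤ d₃ := by exact_mod_cast hd₃pos
  have hε12 : ε₁ = 1 ∧ ε₂ = 1 := by
    rcases hε.1 with h1 | h1 <;> rcases hε.2.1 with h2 | h2
    · exact ⟨h1, h2⟩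
    · exfalso
      rw [h1, h2, hε₃] at hprod
      norm_num at hprod
    · exfalso
      rw [h1, h2, hε₃] at hprod
      norm_num at hprod
    · exfalso
      rw [h1, h2, hε₃] at hoQ
      push_cast at hoQ
      linarith
  obtain ⟨h1, h2⟩ := hε12
  subst h1
  subst h2
  subst hε₃
  have hdeg := klein_degrees hM g₀ hg₀ hG hnc P J hJ hJ2 χ₁ χ₂ χ₃ hB hdist
    (by rw [hv1]; norm_num) (by rw [hv2]; norm_num) (by rw [hv3]; norm_num)
  have hd12 : d₁ = d₂ := by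
    rw [hd₁, hd₂] at hdeg
    exact_mod_cast hdeg
  subst hd12
  have hd3 : d₃ = 2 * d₁ + 1 := by
    have h3 : (d₃ : ℚ) = 2 * d₁ + 1 := by
      push_cast at hoQ
      linarith
    exact_mod_cast h3
  subst hd3
  rw [hcd₃]
  have hPJ : Subgroup.centralizer ((P : Subgroup G) : Set G)
      ≤ Subgroup.centralizer ({J} : Set G) :=
    Subgroup.centralizer_le (Set.singleton_subset_iff.mpr hJ)
  obtain ⟨r, hr⟩ := Subgroup.card_dvd_of_le hPJ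
  obtain ⟨i, hi⟩ := Subgroup.card_subgroup_dvd_card (Subgroup.centralizer ({J} : Set G))
  have hrpos : 0 < r := by
    rcases Nat.eq_zero_or_pos r with h0 | h0
    · rw [h0, mul_zero] at hr
      exact absurd hr Nat.card_pos.ne'
    · exact h0
  apply klein_arith (Nat.card G) _ _ d₁ r i hd₁pos Nat.card_pos hrpos (by rw [hr, mul_comm])
    (by rw [hi, mul_comm])
  have hcP0 : ((Nat.card (Subgroup.centralizer ((P : Subgroup G) : Set G)) : ℕ) : ℚ) ≠ 0 := by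
    exact_mod_cast Nat.card_pos.ne'
  have hd0 : (d₁ : ℚ) ≠ 0 := by exact_mod_cast hd₁pos.ne'
  have h3Q : (Nat.card G : ℚ) * ((d₁ : ℚ) + 1) ^ 2
      * (Nat.card (Subgroup.centralizer ((P : Subgroup G) : Set G)) : ℚ) ^ 2
      = 4 * d₁ * (2 * d₁ + 1) * (Nat.card (Subgroup.centralizer ({J} : Set G)) : ℚ) ^ 3 := by
    push_cast at key
    have key2 : (Nat.card G : ℚ) * (((d₁ : ℚ) + 1) * ((d₁ : ℚ) + 1) * (2 * (d₁ : ℚ) + 1 + -1))
        * (Nat.card (Subgroup.centralizer ((P : Subgroup G) : Set G)) : ℚ) ^ 2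
        = (d₁ : ℚ) * d₁ * (2 * d₁ + 1)
          * (8 * (Nat.card (Subgroup.centralizer ({J} : Set G)) : ℚ) ^ 3) := by
      rw [key]
      field_simp
    have h2 : 2 * (d₁ : ℚ) * ((Nat.card G : ℚ) * ((d₁ : ℚ) + 1) ^ 2
        * (Nat.card (Subgroup.centralizer ((P : Subgroup G) : Set G)) : ℚ) ^ 2)
        = 2 * (d₁ : ℚ) * (4 * d₁ * (2 * d₁ + 1)
          * (Nat.card (Subgroup.centralizer ({J} : Set G)) : ℚ) ^ 3) := by
      linear_combination key2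
    exact mul_left_cancel₀ (mul_ne_zero two_ne_zero hd0) h2
  exact_mod_cast h3Q

end Cfsg.Agent.S4480
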