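import Cfsg.Statements.S3278
import Cfsg.Agent.S3279
import Cfsg.Agent.S0948
import Cfsg.Agent.S4479
import Cfsg.Agent.S4480
import Cfsg.Agent.S0942
import Cfsg.Agent.S0494
import Cfsg.Agent.Lib.Helper25.CharKernel
import Cfsg.Agent.Lib.Helper25.CharSum
import Cfsg.Agent.Lib.Helper25.Codegree

set_option autoImplicit false
open Cfsg

namespace Cfsg.Agent.S3278


theorem dio_small (j M : ℕ) (i : ℕ) (hi : i ≤ 2)
    (h : M * ((2*i+2*j+3) * (2*i+1) * (2*j+1)) = 16*(i*i + i*j + j*j) + 32*(i+j) + 21)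
    (hodd : Odd (M + 8)) : i = 0 ∧ j = 0 := by
  interval_cases i
  · -- i = 0
    have hj : j = 0 := by
      by_contra hj
      have hj1 : 1 ≤ j := Nat.one_le_iff_ne_zero.mpr hj
      rcases Nat.lt_or_ge M 5 with hM | hM
      · nlinarith [Nat.zero_le (j*j)]
      · nlinarith [Nat.zero_le (j*j), Nat.mul_le_mul hM (le_refl ((2*0+2*j+3) * (2*0+1) * (2*j+1)))]
    exact ⟨rfl, hj⟩
  · -- i = 1
    exfalso
    rcases Nat.lt_or_ge M 2 with hM | hM
    · interval_cases M <;> nlinarith [Nat.zero_le (j*j)]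
    · rcases Nat.lt_or_ge M 3 with hM3 | hM3
      · have : M = 2 := by omega
        subst this
        rcases hodd with ⟨k, hk⟩
        omega
      · have hj : j = 0 := by
          by_contra hj
          have hj1 : 1 ≤ j := Nat.one_le_iff_ne_zero.mpr hj
          nlinarith [Nat.zero_le (j*j), Nat.mul_le_mul hM3 (le_refl ((2*1+2*j+3) * (2*1+1) * (2*j+1)))]
        subst hj
        omega
  · -- i = 2
    exfalso
    rcases Nat.lt_or_ge M 2 with hM | hM
    · interval_cases M
      · nlinarith [Nat.zero_le (j*j)]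
      · have h2 : 4 * (j*j) + 16 * j = 114 := by nlinarith
        omega
    · have hj : j = 0 := by
        by_contra hj
        have hj1 : 1 ≤ j := Nat.one_le_iff_ne_zero.mpr hj
        nlinarith [Nat.zero_le (j*j), Nat.mul_le_mul hM (le_refl ((2*2+2*j+3) * (2*2+1) * (2*j+1)))]
      subst hj
      omega

theorem dio (i j N : ℕ) (hN : Odd N)
    (h : N * ((2*i+2*j+3) * (2*i+1) * (2*j+1)) = (4*i+3)*(4*j+3)*(4*i+4*j+5)) :
    i = 0 ∧ j = 0 := by
  have hN9 : 8 < N := by
    by_contra hcon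
    push Not at hcon
    have := Nat.mul_le_mul hcon (le_refl ((2*i+2*j+3) * (2*i+1) * (2*j+1)))
    nlinarith [Nat.zero_le (i*j), Nat.zero_le (i*i), Nat.zero_le (j*j), Nat.zero_le (i*i*j), Nat.zero_le (i*j*j)]
  obtain ⟨M, rfl⟩ : ∃ M, N = M + 8 := ⟨N - 8, by omega⟩
  have hM : M * ((2*i+2*j+3) * (2*i+1) * (2*j+1)) = 16*(i*i + i*j + j*j) + 32*(i+j) + 21 := by
    nlinarith
  rcases Nat.lt_or_ge i 3 with hi | hi
  · exact dio_small j M i (by omega) hM hN
  · rcases Nat.lt_or_ge j 3 with hj | hj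
    · have hM' : M * ((2*j+2*i+3) * (2*j+1) * (2*i+1)) = 16*(j*j + j*i + i*i) + 32*(j+i) + 21 := by
        rw [show (2*j+2*i+3) * (2*j+1) * (2*i+1) = (2*i+2*j+3) * (2*i+1) * (2*j+1) by ring, hM]
        ring
      have := dio_small i M j (by omega) hM' hN
      exact ⟨this.2, this.1⟩
    · exfalso
      have hM1 : 1 ≤ M := by
        rcases Nat.eq_zero_or_pos M with h0 | h0
        · subst h0; omega
        · exact h0
      obtain ⟨u, rfl⟩ : ∃ u, i = u + 3 := ⟨i - 3, by omega⟩
      obtain ⟨v, rfl⟩ : ∃ v, j = v + 3 := ⟨j - 3, by omega⟩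
      have := Nat.mul_le_mul hM1 (le_refl ((2*(u+3)+2*(v+3)+3) * (2*(u+3)+1) * (2*(v+3)+1)))
      nlinarith [Nat.zero_le (u*v), Nat.zero_le (u*u), Nat.zero_le (v*v), Nat.zero_le (u*u*v), Nat.zero_le (u*v*v)]


theorem mem_of_coprime_index {G : Type*} [Group G] [Finite G] (N : Subgroup G) [N.Normal] (g : G)
    (h : Nat.Coprime (orderOf g) N.index) : g ∈ N := by
  have h1 : orderOf (QuotientGroup.mk g : G ⧸ N) ∣ orderOf g := by
    apply orderOf_dvd_of_pow_eq_one
    rw [← QuotientGroup.mk_pow, pow_orderOf_eq_one]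
    rfl
  have h2 : orderOf (QuotientGroup.mk g : G ⧸ N) ∣ N.index := by
    rw [Subgroup.index_eq_card]
    exact orderOf_dvd_natCard _
  have h3 : orderOf (QuotientGroup.mk g : G ⧸ N) = 1 :=
    Nat.eq_one_of_dvd_coprimes h h1 h2
  rw [orderOf_eq_one_iff] at h3
  exact (QuotientGroup.eq_one_iff g).mp h3

theorem cent_struct {G : Type*} [Group G] [Finite G] (x : G) (hx : orderOf x = 2)
    (C : Subgroup G) (hxC : x ∈ C) (hcx : ∀ c ∈ C, c * x = x * c)
    (S₀ : Subgroup G) (hle : S₀ ≤ C) (hK : IsKleinFour ↥S₀)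
    (hodd : ¬ 2 ∣ S₀.relIndex C)
    (hn : (S₀.subgroupOf C).Normal) :
    (∀ c ∈ C, Nat.Coprime (orderOf c) (S₀.relIndex C) → c ∈ S₀) ∧
    ∃ H : Subgroup ↥C,
      Subgroup.IsComplement' (S₀.subgroupOf C) H ∧
      H.Normal ∧ Odd (Nat.card H) ∧
      (∀ c : ↥C, Odd (orderOf c) → c ∈ H) ∧
      (∀ c ∈ C, ∀ s ∈ S₀, c * s = s * c) := by
  classical
  set N := S₀.subgroupOf C with hN
  have hindex : N.index = S₀.relIndex C := rfl
  have hcardS : Nat.card ↥S₀ = 4 := hK.card_four
  have hcardN : Nat.card N = 4 := by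
    rw [← hcardS]
    exact Nat.card_congr (Subgroup.subgroupOfEquivOfLe hle).toEquiv
  have hoddI : Odd N.index := by
    rw [hindex]
    exact Nat.odd_iff.mpr (by omega)
  -- A1
  have hA1 : ∀ c ∈ C, Nat.Coprime (orderOf c) (S₀.relIndex C) → c ∈ S₀ := by
    intro c hc hcop
    have h1 : (⟨c, hc⟩ : ↥C) ∈ N := by
      apply mem_of_coprime_index N
      rw [hindex]
      have : orderOf (⟨c, hc⟩ : ↥C) = orderOf c := by
        rw [← Subgroup.orderOf_coe]
      rw [this]
      exact hcop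
    exact Subgroup.mem_subgroupOf.mp h1
  refine ⟨hA1, ?_⟩
  have hcop2 : Nat.Coprime 2 (S₀.relIndex C) := (Nat.Prime.coprime_iff_not_dvd Nat.prime_two).mpr hodd
  have hxS : x ∈ S₀ := hA1 x hxC (by rw [hx]; exact hcop2)
  have hx1 : x ≠ 1 := by
    intro h
    rw [h, orderOf_one] at hx
    omega
  -- S₀ facts
  have hsq : ∀ s ∈ S₀, s * s = 1 := by
    intro s hs
    have := IsKleinFour.mul_self (⟨s, hs⟩ : ↥S₀)
    exact congrArg Subtype.val this
  have hcomm : ∀ s ∈ S₀, ∀ t ∈ S₀, s * t = t * s := by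
    intro s hs t ht
    have := (IsKleinFour.isMulCommutative (G := ↥S₀)).is_comm.comm ⟨s, hs⟩ ⟨t, ht⟩
    exact congrArg Subtype.val this
  -- pick a
  obtain ⟨a, haS, ha1, hax⟩ : ∃ a ∈ S₀, a ≠ 1 ∧ a ≠ x := by
    by_contra hcon
    push Not at hcon
    have hsub : ∀ s : ↥S₀, s = 1 ∨ s = ⟨x, hxS⟩ := by
      intro s
      by_cases h1 : (s : G) = 1
      · left; exact Subtype.ext h1
      · right; exact Subtype.ext (hcon s.1 s.2 h1)
    have : Nat.card ↥S₀ ≤ 2 := by
      have hfin : Fintype ↥S₀ := Fintype.ofFinite _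
      rw [Nat.card_eq_fintype_card]
      calc Fintype.card ↥S₀ = (Finset.univ : Finset ↥S₀).card := rfl
        _ ≤ ({1, ⟨x, hxS⟩} : Finset ↥S₀).card := by
            apply Finset.card_le_card
            intro s _
            rcases hsub s with h | h <;> simp [h]
        _ ≤ 2 := Finset.card_le_two
    omega
  have hall : ∀ s ∈ S₀, s = 1 ∨ s = x ∨ s = a ∨ s = x * a := by
    intro s hs
    by_cases h1 : s = 1
    · exact Or.inl h1
    by_cases h2 : s = x
    · exact Or.inr (Or.inl h2)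
    by_cases h3 : s = a
    · exact Or.inr (Or.inr (Or.inl h3))
    right; right; right
    have := IsKleinFour.eq_mul_of_ne_all (G := ↥S₀) (x := ⟨x, hxS⟩) (y := ⟨a, haS⟩) (z := ⟨s, hs⟩)
      (by intro h; exact hx1 (congrArg Subtype.val h))
      (by intro h; exact ha1 (congrArg Subtype.val h))
      (by intro h; exact hax (congrArg Subtype.val h).symm)
      (by intro h; exact h1 (congrArg Subtype.val h))
      (by intro h; exact h2 (congrArg Subtype.val h))
      (by intro h; exact h3 (congrArg Subtype.val h))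
    exact congrArg Subtype.val this
  -- conjugation stays in S₀
  have hconj : ∀ c ∈ C, ∀ s ∈ S₀, c * s * c⁻¹ ∈ S₀ := by
    intro c hc s hs
    have h1 : (⟨s, hle hs⟩ : ↥C) ∈ N := Subgroup.mem_subgroupOf.mpr hs
    have h2 := hn.conj_mem _ h1 ⟨c, hc⟩
    exact Subgroup.mem_subgroupOf.mp h2
  -- squares centralize a
  have hsqa : ∀ c ∈ C, (c * c) * a = a * (c * c) := by
    intro c hc
    have hm := hconj c hc a haS
    rcases hall _ hm with h | h | h | h
    · exfalso
      apply ha1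
      have : a = c⁻¹ * (c * a * c⁻¹) * c := by group
      rw [this, h]; group
    · exfalso
      apply hax
      have : a = c⁻¹ * (c * a * c⁻¹) * c := by group
      rw [this, h]
      have := hcx c hc
      calc c⁻¹ * x * c = c⁻¹ * (x * c) := by group
        _ = c⁻¹ * (c * x) := by rw [this]
        _ = x := by group
    · have h' : c * a = a * c := by
        calc c * a = (c * a * c⁻¹) * c := by group
          _ = a * c := by rw [h]
      calc c * c * a = c * (c * a) := by group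
        _ = c * (a * c) := by rw [h']
        _ = (c * a) * c := by group
        _ = a * c * c := by rw [h']
        _ = a * (c * c) := by group
    · have h' : c * a = x * a * c := by
        calc c * a = (c * a * c⁻¹) * c := by group
          _ = x * a * c := by rw [h]
      have hxx := hsq x hxS
      have hcx' := hcx c hc
      calc c * c * a = c * (c * a) := by group
        _ = c * (x * a * c) := by rw [h']
        _ = (c * x) * a * c := by group
        _ = (x * c) * a * c := by rw [hcx']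
        _ = x * (c * a) * c := by group
        _ = x * (x * a * c) * c := by rw [h']
        _ = (x * x) * a * c * c := by group
        _ = a * (c * c) := by rw [hxx]; group
  have hsqS : ∀ c ∈ C, ∀ s ∈ S₀, (c * c) * s = s * (c * c) := by
    intro c hc s hs
    have hcc : c * c ∈ C := C.mul_mem hc hc
    rcases hall s hs with h | h | h | h
    · rw [h]; group
    · rw [h]; exact hcx _ hcc
    · rw [h]; exact hsqa c hc
    · rw [h]
      have h1 := hcx _ hcc
      have h2 := hsqa c hc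
      calc c * c * (x * a) = (c * c * x) * a := by group
        _ = (x * (c * c)) * a := by rw [h1]
        _ = x * (c * c * a) := by group
        _ = x * (a * (c * c)) := by rw [h2]
        _ = x * a * (c * c) := by group
  -- complement
  have hcopN : Nat.Coprime (Nat.card N) N.index := by
    rw [hcardN]
    have : Nat.Coprime 2 N.index := Nat.coprime_two_left.mpr hoddI
    exact Nat.Coprime.pow_left 2 this
  obtain ⟨H, hH⟩ := Subgroup.exists_right_complement'_of_coprime hcopN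
  have hHcard : Nat.card H = N.index := (hH.symm.index_eq_card).symm
  have hHodd : Odd (Nat.card H) := by rw [hHcard]; exact hoddI
  -- odd order elements centralize S₀
  have hoddc : ∀ c ∈ C, Odd (orderOf c) → ∀ s ∈ S₀, c * s = s * c := by
    intro c hc ho s hs
    obtain ⟨k, hk⟩ := ho
    have hpow : c = (c * c) ^ (k + 1) := by
      rw [← pow_two, ← pow_mul]
      have : 2 * (k + 1) = orderOf c + 1 := by omega
      rw [this, pow_succ, pow_orderOf_eq_one, one_mul]
    have hcom : Commute (c * c) s := hsqS c hc s hs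
    have := (hcom.pow_left (k + 1)).eq
    rw [← hpow] at this
    exact this
  have hHc : ∀ h ∈ H, ∀ s ∈ S₀, (h : G) * s = s * (h : G) := by
    intro h hh s hs
    apply hoddc _ h.2 _ s hs
    rw [Subgroup.orderOf_coe]
    have h1 : orderOf (⟨h, hh⟩ : ↥H) ∣ Nat.card H := orderOf_dvd_natCard _
    have h2 : orderOf (⟨h, hh⟩ : ↥H) = orderOf h := by
      rw [← Subgroup.orderOf_coe]
    rw [h2] at h1
    exact Odd.of_dvd_nat hHodd h1
  have hdecomp : ∀ c : ↥C, ∃ n ∈ N, ∃ h ∈ H, c = n * h := by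
    intro c
    obtain ⟨⟨⟨n, hn'⟩, ⟨h, hh⟩⟩, hnh⟩ := (hH : Function.Bijective _).2 c
    exact ⟨n, hn', h, hh, hnh.symm⟩
  have hCc : ∀ c ∈ C, ∀ s ∈ S₀, c * s = s * c := by
    intro c hc s hs
    obtain ⟨n, hn', h, hh, hch⟩ := hdecomp ⟨c, hc⟩
    have hnS : (n : G) ∈ S₀ := Subgroup.mem_subgroupOf.mp hn'
    have h1 := hcomm _ hnS s hs
    have h2 := hHc h hh s hs
    have hc' : c = (n : G) * (h : G) := congrArg Subtype.val hch
    rw [hc']
    calc (n : G) * (h : G) * s = (n : G) * ((h : G) * s) := by group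
      _ = (n : G) * (s * (h : G)) := by rw [h2]
      _ = ((n : G) * s) * (h : G) := by group
      _ = (s * (n : G)) * (h : G) := by rw [h1]
      _ = s * ((n : G) * (h : G)) := by group
  have hHnormal : H.Normal := by
    constructor
    intro h hh c
    obtain ⟨n, hn', h₁, hh₁, rfl⟩ := hdecomp c
    have hnS : (n : G) ∈ S₀ := Subgroup.mem_subgroupOf.mp hn'
    have hmem : h₁ * h * h₁⁻¹ ∈ H := H.mul_mem (H.mul_mem hh₁ hh) (H.inv_mem hh₁)
    have heq : n * h₁ * h * (n * h₁)⁻¹ = h₁ * h * h₁⁻¹ := by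
      apply Subtype.ext
      have h3 := hCc ((h₁ * h * h₁⁻¹ : ↥C) : G) (h₁ * h * h₁⁻¹ : ↥C).2 (n : G) hnS
      simp only [Subgroup.coe_mul, Subgroup.coe_inv, mul_inv_rev] at h3 ⊢
      calc (n : G) * (h₁ : G) * (h : G) * ((h₁ : G)⁻¹ * (n : G)⁻¹)
          = (n : G) * ((h₁ : G) * (h : G) * (h₁ : G)⁻¹) * (n : G)⁻¹ := by group
        _ = ((h₁ : G) * (h : G) * (h₁ : G)⁻¹) * (n : G) * (n : G)⁻¹ := by rw [← h3]
        _ = (h₁ : G) * (h : G) * (h₁ : G)⁻¹ := by group
    rw [heq]
    exact hmem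
  refine ⟨H, hH, hHnormal, hHodd, ?_, hCc⟩
  intro c ho
  have := hHnormal
  apply mem_of_coprime_index H
  have hidx : H.index = Nat.card N := hH.index_eq_card
  rw [hidx, hcardN]
  have : Nat.Coprime (orderOf c) 2 := Nat.coprime_two_right.mpr ho
  exact Nat.Coprime.pow_right 2 this


theorem core_trivial {G : Type*} [Group G] [Finite G] (x : G) (hx : orderOf x = 2)
    (C : Subgroup G) (hCeq : C = Subgroup.centralizer ({x} : Set G))
    (S₀ : Subgroup G) (hle : S₀ ≤ C) (hK : IsKleinFour ↥S₀)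
    (hodd : ¬ 2 ∣ S₀.relIndex C)
    (hn : (S₀.subgroupOf C).Normal)
    (hone : ∀ u v : G, orderOf u = 2 → orderOf v = 2 → IsConj u v)
    (ζ : Cfsg.IrrCharacter G) (h1 : (ζ : G → ℂ) 1 = 3)
    (h2 : ∀ z : G, orderOf z = 2 → (ζ : G → ℂ) z = -1)
    (h3 : ∀ v ∈ Cfsg.centralizerPPrimeCore 2 x, (ζ : G → ℂ) (x * v) = (ζ : G → ℂ) x)
    (h4 : ∀ g : G, (ζ : G → ℂ) g = (ζ : G → ℂ) 1 → g = 1) :
    Nat.card ↥C = 4 := by
  classical
  have hxC : x ∈ C := by
    rw [hCeq]
    exact Subgroup.mem_centralizer_iff.mpr (by intro y hy; rw [Set.mem_singleton_iff.mp hy])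
  have hcx : ∀ c ∈ C, c * x = x * c := by
    intro c hc
    rw [hCeq] at hc
    exact (Subgroup.mem_centralizer_iff.mp hc x rfl).symm
  have hCmem : ∀ y : G, y ∈ Subgroup.centralizer ({x} : Set G) → y ∈ C := by
    intro y hy; rw [hCeq]; exact hy
  obtain ⟨hA1, H, hH, hHn, hHodd, hHmem, hCc⟩ := cent_struct x hx C hxC hcx S₀ hle hK hodd hn
  set N := S₀.subgroupOf C with hN
  obtain ⟨k, ρ, hρ, hζ⟩ := ζ.2
  have hcardN : Nat.card N = 4 := by
    rw [← hK.card_four]
    exact Nat.card_congr (Subgroup.subgroupOfEquivOfLe hle).toEquiv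
  have hHcore : ∀ h ∈ H, (h : G) ∈ Cfsg.centralizerPPrimeCore 2 x := by
    intro h hh
    have hle' : H ≤ Cfsg.pPrimeCore 2 ↥C := by
      apply le_sSup
      exact ⟨hHn, Nat.coprime_two_right.mpr hHodd⟩
    subst hCeq
    exact Subgroup.mem_map.mpr ⟨h, hle' hh, rfl⟩
  have hxval : (ζ : G → ℂ) x = -1 := h2 x hx
  have hval : ∀ n ∈ N, n ≠ 1 → ∀ h ∈ H, (ζ : G → ℂ) ((n : G) * (h : G)) = -1 := by
    intro n hn' hn1 h hh
    have hnS : (n : G) ∈ S₀ := Subgroup.mem_subgroupOf.mp hn'
    have hn2 : orderOf (n : G) = 2 := by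
      have : Fact (Nat.Prime 2) := ⟨Nat.prime_two⟩
      apply orderOf_eq_prime
      · have := IsKleinFour.mul_self (⟨(n : G), hnS⟩ : ↥S₀)
        rw [pow_two]
        exact congrArg Subtype.val this
      · intro h0
        exact hn1 (Subtype.ext h0)
    obtain ⟨g, hg⟩ := isConj_iff.mp (hone x (n : G) hx hn2)
    have hcomm : (h : G) * (n : G) = (n : G) * (h : G) := hCc (h : G) h.2 (n : G) hnS
    have hxg : x = g⁻¹ * (n : G) * g := by rw [← hg]; group
    have hh'C : g⁻¹ * (h : G) * g ∈ C := by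
      have hgoal : g⁻¹ * (h : G) * g ∈ Subgroup.centralizer ({x} : Set G) := by
        rw [Subgroup.mem_centralizer_iff]
        intro y hy
        rw [Set.mem_singleton_iff.mp hy]
        calc x * (g⁻¹ * (h : G) * g) = g⁻¹ * (n : G) * g * (g⁻¹ * (h : G) * g) := by rw [← hxg]
          _ = g⁻¹ * ((n : G) * (h : G)) * g := by group
          _ = g⁻¹ * ((h : G) * (n : G)) * g := by rw [hcomm]
          _ = g⁻¹ * (h : G) * g * (g⁻¹ * (n : G) * g) := by group
          _ = g⁻¹ * (h : G) * g * x := by rw [← hxg]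
      exact hCmem _ hgoal
    have hord : Odd (orderOf (⟨g⁻¹ * (h : G) * g, hh'C⟩ : ↥C)) := by
      rw [← Subgroup.orderOf_coe]
      have e1 : orderOf (g⁻¹ * (h : G) * g) = orderOf (h : G) := by
        have := MulEquiv.orderOf_eq (MulAut.conj g⁻¹) (h : G)
        rw [MulAut.conj_apply, inv_inv] at this
        exact this
      change Odd (orderOf (g⁻¹ * (h : G) * g))
      rw [e1, Subgroup.orderOf_coe]
      have h1' : orderOf (⟨h, hh⟩ : ↥H) ∣ Nat.card H := orderOf_dvd_natCard _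
      have h2' : orderOf (⟨h, hh⟩ : ↥H) = orderOf h := by rw [← Subgroup.orderOf_coe]
      rw [h2'] at h1'
      exact Odd.of_dvd_nat hHodd h1'
    have hmemH := hHmem _ hord
    have hcore := hHcore _ hmemH
    have hv := h3 _ hcore
    have heq : (n : G) * (h : G) = g * (x * (g⁻¹ * (h : G) * g)) * g⁻¹ := by
      rw [← hg]; group
    rw [heq, ← hζ, Representation.char_conj, hζ]
    rw [hxval] at hv
    exact hv
  have hk3 : k = 3 := by
    have := h1
    rw [← hζ, Representation.char_one] at this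
    simp at this
    exact_mod_cast this
  subst hk3
  have hnorm : ∀ g : G, ‖(ζ : G → ℂ) g‖ ≤ 3 := by
    intro g
    rw [← hζ]
    have := Cfsg.Agent.Lib.Helper2.norm_char_le ρ g
    simp at this
    exact_mod_cast this
  have hfinC : Fintype ↥C := Fintype.ofFinite _
  have hfinN : Fintype ↥N := Fintype.ofFinite _
  have hfinH : Fintype ↥H := Fintype.ofFinite _
  obtain ⟨d, hd⟩ := Cfsg.Agent.Lib.Helper25.sum_subgroup_char (ζ : G → ℂ) ⟨_, ρ, hζ⟩ C
  let e : ↥N × ↥H ≃ ↥C := Equiv.ofBijective _ hH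
  have hsum1 : ∑ c : ↥C, (ζ : G → ℂ) c
      = ∑ h : ↥H, ∑ n : ↥N, (ζ : G → ℂ) (((n : ↥C) : G) * ((h : ↥C) : G)) := by
    rw [← Equiv.sum_comp e (fun c : ↥C => (ζ : G → ℂ) c), Fintype.sum_prod_type_right]
    rfl
  have hinner : ∀ h : ↥H, ∑ n : ↥N, (ζ : G → ℂ) (((n : ↥C) : G) * ((h : ↥C) : G))
      = (ζ : G → ℂ) ((h : ↥C) : G) - 3 := by
    intro h
    rw [← Finset.add_sum_erase Finset.univ _ (Finset.mem_univ (1 : ↥N))]
    have h1' : ∀ n ∈ (Finset.univ : Finset ↥N).erase 1,
        (ζ : G → ℂ) (((n : ↥C) : G) * ((h : ↥C) : G)) = -1 := by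
      intro n hn'
      exact hval n.1 n.2 (fun h0 => (Finset.ne_of_mem_erase hn') (Subtype.ext h0)) h.1 h.2
    rw [Finset.sum_congr rfl h1', Finset.sum_const, Finset.card_erase_of_mem (Finset.mem_univ _),
      Finset.card_univ]
    have hc4 : Fintype.card ↥N = 4 := by rw [← Nat.card_eq_fintype_card]; exact hcardN
    rw [hc4]
    simp
    ring
  have htot : ∑ h : ↥H, ((ζ : G → ℂ) ((h : ↥C) : G) - 3) = (Nat.card ↥C : ℂ) * d := by
    rw [← hd, hsum1]
    exact (Finset.sum_congr rfl (fun h _ => (hinner h))).symm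
  have hre : ∀ h : ↥H, ((ζ : G → ℂ) ((h : ↥C) : G) - 3).re ≤ 0 := by
    intro h
    have h5 := hnorm ((h : ↥C) : G)
    have h6 := Complex.re_le_norm ((ζ : G → ℂ) ((h : ↥C) : G))
    simp only [Complex.sub_re]
    norm_num
    linarith
  have hsumre : ∑ h : ↥H, ((ζ : G → ℂ) ((h : ↥C) : G) - 3).re = (Nat.card ↥C : ℝ) * d := by
    have := congrArg Complex.re htot
    rw [Complex.re_sum] at this
    rw [this]
    simp
  have hzero : ∀ h : ↥H, ((ζ : G → ℂ) ((h : ↥C) : G) - 3).re = 0 := by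
    have hnn : 0 ≤ ∑ h : ↥H, ((ζ : G → ℂ) ((h : ↥C) : G) - 3).re := by
      rw [hsumre]; positivity
    have hnp : ∑ h : ↥H, ((ζ : G → ℂ) ((h : ↥C) : G) - 3).re ≤ 0 :=
      Finset.sum_nonpos (fun h _ => hre h)
    have h0 : ∑ h : ↥H, ((ζ : G → ℂ) ((h : ↥C) : G) - 3).re = 0 := le_antisymm hnp hnn
    intro h
    exact (Finset.sum_eq_zero_iff_of_nonpos (fun h _ => hre h)).mp h0 h (Finset.mem_univ _)
  have hHbot : H = ⊥ := by
    rw [Subgroup.eq_bot_iff_forall]
    intro h hh
    have h7 := hzero ⟨h, hh⟩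
    have h5 := hnorm (h : G)
    have hre3 : ((ζ : G → ℂ) (h : G)).re = 3 := by
      simp only [Complex.sub_re] at h7
      norm_num at h7
      linarith
    have him : ((ζ : G → ℂ) (h : G)).im = 0 := by
      have h8 : ‖(ζ : G → ℂ) (h : G)‖ ^ 2 ≤ 9 := by nlinarith [norm_nonneg ((ζ : G → ℂ) (h : G))]
      rw [Complex.sq_norm, Complex.normSq_apply, hre3] at h8
      nlinarith
    have hz : (ζ : G → ℂ) (h : G) = 3 := Complex.ext (by simpa using hre3) (by simpa using him)
    have := h4 (h : G) (by rw [hz, h1])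
    exact Subtype.ext this
  have hcm := hH.card_mul_card
  rw [hcardN, hHbot, Subgroup.card_bot] at hcm
  omega

/-- Let G be a finite simple group with an involution x such that a Sylow 2-subgroup of C_G(x) is a Klein four-group which is normal in C_G(x). Then G is isomorphic to the alternating group of degree 5 (that is, to PSL(2, 5)). -/
theorem result {G : Type*} [Group G] [Finite G] [IsSimpleGroup G] (x : G) (hx : orderOf x = 2)
    (S₀ : Subgroup G) (hle : S₀ ≤ Subgroup.centralizer ({x} : Set G)) (hK : IsKleinFour ↥S₀)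
    (hodd : ¬ 2 ∣ S₀.relIndex (Subgroup.centralizer ({x} : Set G))) (hn : (S₀.subgroupOf (Subgroup.centralizer ({x} : Set G))).Normal) :
    Nonempty (G ≃* ↥(alternatingGroup (Fin 5))) := by

  classical
  have hxC : x ∈ Subgroup.centralizer ({x} : Set G) :=
    Subgroup.mem_centralizer_iff.mpr (by intro y hy; rw [Set.mem_singleton_iff.mp hy])
  have hcx : ∀ c ∈ Subgroup.centralizer ({x} : Set G), c * x = x * c := by
    intro c hc
    exact (Subgroup.mem_centralizer_iff.mp hc x rfl).symm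
  obtain ⟨hA1, H, hH, hHn, hHodd, hHmem, hCc⟩ :=
    cent_struct x hx (Subgroup.centralizer ({x} : Set G)) hxC hcx S₀ hle hK hodd hn
  have hcop2 : Nat.Coprime 2 (S₀.relIndex (Subgroup.centralizer ({x} : Set G))) :=
    (Nat.Prime.coprime_iff_not_dvd Nat.prime_two).mpr hodd
  have hxS : x ∈ S₀ := hA1 x hxC (by rw [hx]; exact hcop2)
  have hx1 : x ≠ 1 := by
    intro h
    rw [h, orderOf_one] at hx
    omega
  have hcardS : Nat.card ↥S₀ = 4 := hK.card_four
  -- at most three involutions in the centralizer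
  have h3 : Nat.card {u : ↥(Subgroup.centralizer ({x} : Set G)) // orderOf u = 2} ≤ 3 := by
    have hmem : ∀ u : {u : ↥(Subgroup.centralizer ({x} : Set G)) // orderOf u = 2},
        ((u : ↥(Subgroup.centralizer ({x} : Set G))) : G) ∈ S₀ := by
      intro u
      apply hA1 _ u.1.2
      rw [Subgroup.orderOf_coe, u.2]
      exact hcop2
    let f : Option {u : ↥(Subgroup.centralizer ({x} : Set G)) // orderOf u = 2} → ↥S₀ :=
      fun o => o.elim 1 (fun u => ⟨_, hmem u⟩)
    have hf : Function.Injective f := by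
      intro o₁ o₂ h
      rcases o₁ with _ | u <;> rcases o₂ with _ | v
      · rfl
      · exfalso
        have h' : (1 : G) = ((v : ↥(Subgroup.centralizer ({x} : Set G))) : G) :=
          congrArg (fun s : ↥S₀ => (s : G)) h
        have hv := v.2
        have : (v : ↥(Subgroup.centralizer ({x} : Set G))) = 1 := Subtype.ext h'.symm
        rw [this, orderOf_one] at hv
        omega
      · exfalso
        have h' : ((u : ↥(Subgroup.centralizer ({x} : Set G))) : G) = 1 :=
          congrArg (fun s : ↥S₀ => (s : G)) h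
        have hu := u.2
        have : (u : ↥(Subgroup.centralizer ({x} : Set G))) = 1 := Subtype.ext h'
        rw [this, orderOf_one] at hu
        omega
      · have h' : ((u : ↥(Subgroup.centralizer ({x} : Set G))) : G)
            = ((v : ↥(Subgroup.centralizer ({x} : Set G))) : G) :=
          congrArg (fun s : ↥S₀ => (s : G)) h
        exact congrArg some (Subtype.ext (Subtype.ext h'))
    have hle4 := Nat.card_le_card_of_injective f hf
    rw [Finite.card_option, hcardS] at hle4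
    omega
  obtain ⟨⟨S, hSle⟩, hone⟩ := Cfsg.Agent.S3279.result x hx h3
  -- the Sylow subgroup is S₀
  have hSS₀ : (S : Subgroup G) ≤ S₀ := by
    intro s hs
    apply hA1 s (hSle hs)
    obtain ⟨k, hk⟩ := (S.isPGroup' : IsPGroup 2 ↥(S : Subgroup G)) ⟨s, hs⟩
    have hk' : s ^ (2 ^ k) = 1 := congrArg Subtype.val hk
    obtain ⟨j, -, hj⟩ := (Nat.dvd_prime_pow Nat.prime_two).mp (orderOf_dvd_of_pow_eq_one hk')
    rw [hj]
    exact Nat.Coprime.pow_left j hcop2
  have hSeq : (S : Subgroup G) = S₀ := by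
    have hp : IsPGroup 2 ↥S₀ := IsPGroup.of_card (n := 2) (by rw [hcardS]; norm_num)
    exact (S.is_maximal' hp hSS₀).symm
  have hP : IsKleinFour ↥(S : Subgroup G) := by rw [hSeq]; exact hK
  have hxSyl : x ∈ (S : Subgroup G) := by rw [hSeq]; exact hxS
  obtain ⟨M, hM⟩ := Cfsg.Agent.Lib.Helper25.exists_isPModular 2 Nat.prime_two
  obtain ⟨ζ₂, ζ₃, ζ₄, ε, hε, hζ₂1, hζ₃1, h23, h24, h34, hB, hval, hd2, hd3, hd4, hrel⟩ :=
    Cfsg.Agent.S0948.result M hM S hP hone
  obtain ⟨hv2, hv3, hv4⟩ := hval x hx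
  obtain ⟨d₂, hd2v, hd2pos, -, hd2c⟩ := Cfsg.Agent.Lib.Helper25.irr_degree ζ₂
  obtain ⟨d₃, hd3v, hd3pos, -, hd3c⟩ := Cfsg.Agent.Lib.Helper25.irr_degree ζ₃
  obtain ⟨d₄, hd4v, hd4pos, -, hd4c⟩ := Cfsg.Agent.Lib.Helper25.irr_degree ζ₄
  rw [hd2c] at hd2
  rw [hd3c] at hd3
  rw [hd4c] at hd4
  have hrel1 := hrel 1 (by rw [orderOf_one]; exact odd_one)
  rw [hd2v, hd3v, hd4v] at hrel1
  have hrelZ : (1 : ℤ) + d₂ + ε * d₃ - d₄ = 0 := by exact_mod_cast hrel1
  -- centralizers agree
  have hCP : Subgroup.centralizer ((S : Subgroup G) : Set G) = Subgroup.centralizer ({x} : Set G) := by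
    rw [hSeq]
    apply le_antisymm
    · exact Subgroup.centralizer_le (Set.singleton_subset_iff.mpr hxS)
    · intro c hc
      exact Subgroup.mem_centralizer_iff.mpr (fun s hs => (hCc c hc s hs).symm)
  -- orders
  have : Fact (Nat.Prime 2) := ⟨Nat.prime_two⟩
  have hg₀ : Odd (S : Subgroup G).index := by
    have := Sylow.not_dvd_index S
    exact Nat.odd_iff.mpr (by omega)
  have hcardSyl : Nat.card ↥(S : Subgroup G) = 4 := by rw [hSeq]; exact hcardS
  have hG : Nat.card G = 4 * (S : Subgroup G).index := by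
    rw [← hcardSyl]; exact (Subgroup.card_mul_index (S : Subgroup G)).symm
  have hζ₄1 : (ζ₄ : G → ℂ) ≠ (fun _ => 1) := by
    intro h
    have := congrFun h x
    rw [hv4] at this
    norm_num at this
  have hdist : (ζ₂ : G → ℂ) ≠ (fun _ => 1) ∧ (ζ₃ : G → ℂ) ≠ (fun _ => 1) ∧
      (ζ₄ : G → ℂ) ≠ (fun _ => 1) ∧ ζ₂ ≠ ζ₃ ∧ ζ₂ ≠ ζ₄ ∧ ζ₃ ≠ ζ₄ := ⟨hζ₂1, hζ₃1, hζ₄1, h23, h24, h34⟩
  have hnc : ¬ ∃ N : Subgroup G, N.Normal ∧ Nat.card N = (S : Subgroup G).index := by
    rintro ⟨N, hNn, hNc⟩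
    rcases hNn.eq_bot_or_eq_top with h0 | h0
    · rw [h0, Subgroup.card_bot] at hNc
      have hStop : (S : Subgroup G) = ⊤ := Subgroup.index_eq_one.mp hNc.symm
      have hxcent : ∀ g : G, g * x = x * g := by
        intro g
        have hgS : g ∈ S₀ := by rw [← hSeq, hStop]; trivial
        have := (IsKleinFour.isMulCommutative (G := ↥S₀)).is_comm.comm ⟨g, hgS⟩ ⟨x, hxS⟩
        exact congrArg Subtype.val this
      have hZn : (Subgroup.zpowers x).Normal := by
        constructor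
        intro n hn' g
        obtain ⟨k, rfl⟩ := Subgroup.mem_zpowers_iff.mp hn'
        have hc : Commute g x := hxcent g
        have h5 : g * x ^ k * g⁻¹ = x ^ k := by
          rw [(hc.zpow_right k).eq]; group
        rw [h5]
        exact Subgroup.zpow_mem_zpowers x k
      rcases hZn.eq_bot_or_eq_top with h1 | h1
      · have : x ∈ (⊥ : Subgroup G) := by rw [← h1]; exact Subgroup.mem_zpowers x
        exact hx1 (Subgroup.mem_bot.mp this)
      · have hc2 : Nat.card (Subgroup.zpowers x) = 2 := by rw [Nat.card_zpowers, hx]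
        rw [h1, Subgroup.card_top, hG, ← hNc] at hc2
        omega
    · rw [h0, Subgroup.card_top, hG] at hNc
      have := hg₀.pos
      omega
  have hform := Cfsg.Agent.S4479.result M hM (S : Subgroup G).index hg₀ hG hnc S x hxSyl hx
    ζ₂ ζ₃ ζ₄ 1 ε (-1) hB hdist ⟨Or.inl rfl, hε, Or.inr rfl⟩
    ⟨by rw [hv2]; norm_num, hv3, by rw [hv4]; norm_num⟩
  rw [hCP, hd2c, hd3c, hd4c] at hform
  have hcN : Nat.card ↥(Subgroup.centralizer ({x} : Set G)) * (Subgroup.centralizer ({x} : Set G)).index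
      = Nat.card G := Subgroup.card_mul_index _
  have hcpos : 0 < Nat.card ↥(Subgroup.centralizer ({x} : Set G)) := Nat.card_pos
  have hNodd : Odd (Subgroup.centralizer ({x} : Set G)).index :=
    Odd.of_dvd_nat hg₀ (Subgroup.index_dvd_of_le hSle)
  rcases hε with hε1 | hε1
  · -- ε = 1 : impossible
    exfalso
    subst hε1
    obtain ⟨m, hm, -⟩ := Cfsg.Agent.S4480.result M hM (S : Subgroup G).index hg₀ hG hnc S x hxSyl hx
      ζ₂ ζ₃ ζ₄ 1 1 (-1) hB hdist ⟨Or.inl rfl, Or.inl rfl, Or.inr rfl⟩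
      ⟨by rw [hv2]; norm_num, hv3, by rw [hv4]; norm_num⟩ (by norm_num) rfl
    rw [hCP, hd4c] at hm
    have hm' : 4 = m * (d₄ + 1) := by
      apply Nat.eq_of_mul_eq_mul_left hcpos
      rw [mul_comm _ 4, hm]; ring
    have hd4' : d₄ = 3 := by
      have hdv : d₄ + 1 ∣ 4 := ⟨m, by rw [hm']; ring⟩
      have hle4 := Nat.le_of_dvd (by norm_num) hdv
      omega
    have hd2' : d₂ = 1 := by omega
    obtain ⟨K, hKn, hKmem, -⟩ := Cfsg.Agent.Lib.Helper25.exists_charKernel ζ₂
    have hxK : x ∈ K := by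
      rw [hKmem, hv2, hd2v, hd2']; norm_num
    rcases hKn.eq_bot_or_eq_top with hK0 | hK0
    · rw [hK0] at hxK
      exact hx1 (Subgroup.mem_bot.mp hxK)
    · apply hζ₂1
      funext y
      have hy : y ∈ K := by rw [hK0]; trivial
      rw [(hKmem y).mp hy, hd2v, hd2']; norm_num
  · -- ε = -1
    subst hε1
    obtain ⟨i, hi⟩ : ∃ i, d₃ = 4 * i + 3 := ⟨d₃ / 4, by omega⟩
    obtain ⟨j, hj⟩ : ∃ j, d₄ = 4 * j + 3 := ⟨d₄ / 4, by omega⟩
    have hd2e : d₂ = 4 * i + 4 * j + 5 := by omega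
    have hNat : (Subgroup.centralizer ({x} : Set G)).index * ((2*i+2*j+3) * (2*i+1) * (2*j+1))
        = (4*i+3)*(4*j+3)*(4*i+4*j+5) := by
      have hcq : (Nat.card ↥(Subgroup.centralizer ({x} : Set G)) : ℚ) ≠ 0 := by
        exact_mod_cast hcpos.ne'
      have hGq : (Nat.card G : ℚ) = (Nat.card ↥(Subgroup.centralizer ({x} : Set G)) : ℚ)
          * ((Subgroup.centralizer ({x} : Set G)).index : ℚ) := by exact_mod_cast hcN.symm
      rw [hGq, hd2e, hi, hj] at hform
      push_cast at hform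
      have key : (((Subgroup.centralizer ({x} : Set G)).index : ℚ) * ((2*i+2*j+3) * (2*i+1) * (2*j+1)))
          = ((4*i+3)*(4*j+3)*(4*i+4*j+5) : ℚ) := by
        field_simp at hform
        have hne1 : ((4:ℚ) * i + 3 + -1) = 2 * (2 * i + 1) := by ring
        have hne2 : ((4:ℚ) * j + 3 + -1) = 2 * (2 * j + 1) := by ring
        rw [hne1, hne2, eq_div_iff (by positivity)] at hform
        linear_combination hform / 8
      exact_mod_cast key
    obtain ⟨hi0, hj0⟩ := dio i j _ hNodd hNat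
    subst hi0 hj0
    have hN15 : (Subgroup.centralizer ({x} : Set G)).index = 15 := by omega
    have hc4 : Nat.card ↥(Subgroup.centralizer ({x} : Set G)) = 4 := by
      apply core_trivial x hx (Subgroup.centralizer ({x} : Set G)) rfl S₀ hle hK hodd hn hone ζ₄
      · rw [hd4v, hj]; norm_num
      · exact fun z hz => (hval z hz).2.2
      · intro v hv
        exact Cfsg.Agent.S0942.result 2 M hM x ⟨1, by rw [hx]; norm_num⟩ v hv ζ₄
          (by rw [hB]; right; right; right; rfl)
      · intro g hg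
        obtain ⟨K, hKn, hKmem, -⟩ := Cfsg.Agent.Lib.Helper25.exists_charKernel ζ₄
        rcases hKn.eq_bot_or_eq_top with hK0 | hK0
        · have : g ∈ K := (hKmem g).mpr hg
          rw [hK0] at this
          exact Subgroup.mem_bot.mp this
        · exfalso
          have hxK : x ∈ K := by rw [hK0]; trivial
          have := (hKmem x).mp hxK
          rw [hv4, hd4v, hj] at this
          norm_num at this
    apply Cfsg.Agent.S0494.result
    rw [← hcN, hc4, hN15]

end Cfsg.Agent.S3278
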