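import Cfsg.Statements.S3494

set_option autoImplicit false
open Cfsg

namespace Cfsg.Agent.S3494

open scoped Pointwise

section Manning

variable (G : Type*) [Group G] {Ω : Type*} [MulAction G Ω]

/-- Out-neighbours of `x` in the orbital graph of the pair `(α, ω)`. -/
def Gam (α ω x : Ω) : Set Ω := {y | ∃ g : G, g • α = x ∧ g • ω = y}

variable {G}

theorem Gam_smul {α ω x y : Ω} (a : G) (h : y ∈ Gam G α ω x) : a • y ∈ Gam G α ω (a • x) := by
  obtain ⟨g, h1, h2⟩ := h
  exact ⟨a * g, by rw [mul_smul, h1], by rw [mul_smul, h2]⟩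

theorem Gam_smul_iff {α ω x y : Ω} (a : G) : a • y ∈ Gam G α ω (a • x) ↔ y ∈ Gam G α ω x := by
  constructor
  · intro h
    have := Gam_smul a⁻¹ h
    rwa [inv_smul_smul, inv_smul_smul] at this
  · exact Gam_smul a

theorem not_mem_Gam_self {α ω : Ω} (hω : ω ≠ α) (x : Ω) : x ∉ Gam G α ω x := by
  rintro ⟨g, h1, h2⟩
  exact hω (smul_left_cancel g (h2.trans h1.symm))

theorem mem_Gam_base {α ω y : Ω} : y ∈ Gam G α ω α ↔ ∃ a ∈ MulAction.stabilizer G α, a • ω = y := by
  constructor
  · rintro ⟨g, h1, h2⟩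
    exact ⟨g, MulAction.mem_stabilizer_iff.mpr h1, h2⟩
  · rintro ⟨a, ha, h2⟩
    exact ⟨a, MulAction.mem_stabilizer_iff.mp ha, h2⟩

theorem card_Gam_eq [Fintype Ω] [DecidableEq Ω] [MulAction.IsPretransitive G Ω] (α ω x γ : Ω)
    [∀ a b : Ω, Decidable (b ∈ Gam G α ω a)] :
    (Finset.univ.filter (fun y => y ∈ Gam G α ω x)).card =
      (Finset.univ.filter (fun z => γ ∈ Gam G α ω z)).card := by
  have h1 : ∀ (a : G) (x : Ω), (Finset.univ.filter (fun y => y ∈ Gam G α ω (a • x))).card =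
      (Finset.univ.filter (fun y => y ∈ Gam G α ω x)).card := by
    intro a x
    symm
    apply Finset.card_bij (fun y _ => a • y)
    · intro y hy
      rw [Finset.mem_filter] at hy ⊢
      exact ⟨Finset.mem_univ _, Gam_smul a hy.2⟩
    · intro y _ y' _ h
      exact smul_left_cancel a h
    · intro y hy
      rw [Finset.mem_filter] at hy
      refine ⟨a⁻¹ • y, ?_, smul_inv_smul a y⟩
      rw [Finset.mem_filter]
      refine ⟨Finset.mem_univ _, ?_⟩
      have := Gam_smul a⁻¹ hy.2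
      rwa [inv_smul_smul] at this
  have h2 : ∀ (a : G) (y : Ω), (Finset.univ.filter (fun z => a • y ∈ Gam G α ω z)).card =
      (Finset.univ.filter (fun z => y ∈ Gam G α ω z)).card := by
    intro a y
    symm
    apply Finset.card_bij (fun z _ => a • z)
    · intro z hz
      rw [Finset.mem_filter] at hz ⊢
      exact ⟨Finset.mem_univ _, Gam_smul a hz.2⟩
    · intro z _ z' _ h
      exact smul_left_cancel a h
    · intro z hz
      rw [Finset.mem_filter] at hz
      refine ⟨a⁻¹ • z, ?_, smul_inv_smul a z⟩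
      rw [Finset.mem_filter]
      refine ⟨Finset.mem_univ _, ?_⟩
      have := Gam_smul a⁻¹ hz.2
      rwa [inv_smul_smul] at this
  have h3 := Finset.sum_card_bipartiteAbove_eq_sum_card_bipartiteBelow
    (s := (Finset.univ : Finset Ω)) (t := (Finset.univ : Finset Ω))
    (r := fun a b => b ∈ Gam G α ω a)
  have h4 : ∀ a : Ω, (Finset.univ.bipartiteAbove (fun a b => b ∈ Gam G α ω a) a).card =
      (Finset.univ.filter (fun y => y ∈ Gam G α ω x)).card := by
    intro a
    obtain ⟨g, rfl⟩ := MulAction.exists_smul_eq G x a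
    exact h1 g x
  have h5 : ∀ b : Ω, (Finset.univ.bipartiteBelow (fun a b => b ∈ Gam G α ω a) b).card =
      (Finset.univ.filter (fun z => γ ∈ Gam G α ω z)).card := by
    intro b
    obtain ⟨g, rfl⟩ := MulAction.exists_smul_eq G γ b
    exact h2 g γ
  rw [Finset.sum_congr rfl (fun a _ => h4 a), Finset.sum_congr rfl (fun b _ => h5 b),
    Finset.sum_const, Finset.sum_const, smul_eq_mul, smul_eq_mul] at h3
  have hpos : 0 < (Finset.univ : Finset Ω).card := Finset.card_pos.mpr ⟨x, Finset.mem_univ _⟩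
  exact Nat.eq_of_mul_eq_mul_left hpos h3

theorem Gams_inj [MulAction.IsPreprimitive G Ω] {α ω : Ω} (hω : ω ≠ α) (y y' : Ω)
    (h : ∀ z, y ∈ Gam G α ω z ↔ y' ∈ Gam G α ω z) : y = y' := by
  have hnt : Nontrivial Ω := ⟨⟨ω, α, hω⟩⟩
  have hco : IsCoatom (MulAction.stabilizer G y) :=
    (MulAction.isCoatom_stabilizer_iff_preprimitive (G := G) (a := y)).mpr inferInstance
  set S : Subgroup G := MulAction.stabilizer G ({z | y ∈ Gam G α ω z} : Set Ω) with hS
  have hle : MulAction.stabilizer G y ≤ S := by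
    intro g hg
    rw [MulAction.mem_stabilizer_iff] at hg
    rw [hS, MulAction.mem_stabilizer_iff]
    ext z
    rw [Set.mem_smul_set_iff_inv_smul_mem, Set.mem_ofPred_eq, Set.mem_ofPred_eq,
      ← Gam_smul_iff g, smul_inv_smul, hg]
  rcases hco.le_iff.mp hle with htop | heq
  · exfalso
    obtain ⟨g₁, hg₁⟩ := MulAction.exists_smul_eq G ω y
    have hz₀ : y ∈ Gam G α ω (g₁ • α) := ⟨g₁, rfl, hg₁⟩
    obtain ⟨g₂, hg₂⟩ := MulAction.exists_smul_eq G (g₁ • α) y
    have hg₂S : g₂ ∈ S := by rw [htop]; trivial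
    rw [hS, MulAction.mem_stabilizer_iff] at hg₂S
    have hmem : y ∈ g₂ • ({z | y ∈ Gam G α ω z} : Set Ω) := ⟨g₁ • α, hz₀, hg₂⟩
    rw [hg₂S] at hmem
    exact not_mem_Gam_self hω y hmem
  · obtain ⟨g, rfl⟩ := MulAction.exists_smul_eq G y y'
    have hgS : g ∈ S := by
      rw [hS, MulAction.mem_stabilizer_iff]
      ext z
      rw [Set.mem_smul_set_iff_inv_smul_mem, Set.mem_ofPred_eq, Set.mem_ofPred_eq,
        ← Gam_smul_iff g, smul_inv_smul]
      exact (h z).symm
    rw [heq] at hgS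
    exact (MulAction.mem_stabilizer_iff.mp hgS).symm

end Manning

/-- Manning's Theorem on extremely primitive groups. Let a finite group G act faithfully and primitively on a finite set Ω with non-trivial point stabilizers, and suppose every point stabilizer G_α acts primitively on each of its orbits. Then G_α acts faithfully on each of its orbits other than {α}: an element of G_α fixing every point of one such orbit is the identity. -/
theorem result {G : Type*} [Group G] [Finite G] {Ω : Type*} [Fintype Ω] [MulAction G Ω] [FaithfulSMul G Ω] (hprim : MulAction.IsPreprimitive G Ω) (hH : ∀ α : Ω, MulAction.stabilizer G α ≠ ⊥) (hep : ∀ (α : Ω) (ω : Ω), MulAction.IsPreprimitive (MulAction.stabilizer G α) (MulAction.orbit (MulAction.stabilizer G α) ω))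
    (α ω : Ω) (hω : ω ≠ α) (h : MulAction.stabilizer G α) (hfix : ∀ x ∈ MulAction.orbit (MulAction.stabilizer G α) ω, h • x = x) : h = 1 := by
  classical
  have hh0 : (h : G) • α = α := MulAction.mem_stabilizer_iff.mp h.2
  have hfix' : ∀ a : G, a • α = α → (h : G) • (a • ω) = a • ω := fun a ha =>
    hfix _ ⟨⟨a, MulAction.mem_stabilizer_iff.mpr ha⟩, rfl⟩
  suffices hh1 : (h : G) = 1 from Subtype.ext hh1
  clear hfix
  generalize (h : G) = h' at hh0 hfix' ⊢
  clear h
  set H := MulAction.stabilizer G α with hHdef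
  have hGtr : MulAction.IsPretransitive G Ω := hprim.toIsPretransitive
  have hnt : Nontrivial Ω := ⟨⟨ω, α, hω⟩⟩
  have hHmax : IsCoatom H :=
    (MulAction.isCoatom_stabilizer_iff_preprimitive (G := G) (a := α)).mpr hprim
  set K : Subgroup G := H ⊓ fixingSubgroup G (Gam G α ω α) with hK
  have hKmem : ∀ k : G, k ∈ K ↔ k • α = α ∧ ∀ y ∈ Gam G α ω α, k • y = y := by
    intro k
    rw [hK, Subgroup.mem_inf, hHdef, MulAction.mem_stabilizer_iff, mem_fixingSubgroup_iff]
  have hhK : h' ∈ K := by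
    rw [hKmem]
    refine ⟨hh0, ?_⟩
    intro y hy
    obtain ⟨a, ha, rfl⟩ := mem_Gam_base.mp hy
    exact hfix' a (MulAction.mem_stabilizer_iff.mp ha)
  suffices hKbot : K = ⊥ by
    rw [hKbot, Subgroup.mem_bot] at hhK
    exact hhK
  have hHK : ∀ a ∈ H, ∀ k ∈ K, a * k * a⁻¹ ∈ K := by
    intro a ha k hk
    rw [hKmem] at hk ⊢
    have haα : a • α = α := MulAction.mem_stabilizer_iff.mp ha
    have haα' : a⁻¹ • α = α := by rw [inv_smul_eq_iff, haα]
    refine ⟨by rw [mul_smul, mul_smul, haα', hk.1, haα], ?_⟩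
    intro y hy
    have h1 : a⁻¹ • y ∈ Gam G α ω α := by
      have := Gam_smul a⁻¹ hy
      rwa [haα'] at this
    rw [mul_smul, mul_smul, hk.2 _ h1, smul_inv_smul]
  have hHnorm : H ≤ Subgroup.normalizer (K : Set G) := by
    intro a ha
    rw [Subgroup.mem_normalizer_iff]
    intro k
    constructor
    · exact hHK a ha k
    · intro hc
      have := hHK a⁻¹ (H.inv_mem ha) _ hc
      rw [inv_inv] at this
      have e : a⁻¹ * (a * k * a⁻¹) * a = k := by group
      rwa [e] at this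
  have hcore : ∀ β ∈ Gam G α ω α, ∀ γ ∈ Gam G α ω β, ∀ k ∈ K, k • γ = γ := by
    intro β hβ γ hγ
    by_contra hcon
    push Not at hcon
    obtain ⟨k₀, hk₀, hk₀γ⟩ := hcon
    have hKnor : (K.subgroupOf H).Normal := Subgroup.normal_subgroupOf_of_le_normalizer hHnorm
    have hprimO := hep α γ
    have hk₀H : k₀ ∈ H := MulAction.mem_stabilizer_iff.mpr ((hKmem k₀).mp hk₀).1
    have hfixne : MulAction.fixedPoints (K.subgroupOf H) (MulAction.orbit H γ) ≠ Set.univ := by
      intro hfix'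
      have h1 : (⟨γ, MulAction.mem_orbit_self γ⟩ : MulAction.orbit H γ) ∈
          MulAction.fixedPoints (K.subgroupOf H) (MulAction.orbit H γ) := by rw [hfix']; trivial
      have h2 := h1 ⟨⟨k₀, hk₀H⟩, by rw [Subgroup.mem_subgroupOf]; exact hk₀⟩
      exact hk₀γ (congrArg Subtype.val h2)
    have htr := MulAction.IsQuasiPreprimitive.isPretransitive_of_normal
      (N := K.subgroupOf H) hfixne
    have h3 : ∀ a ∈ H, a • γ ∈ Gam G α ω β := by
      intro a ha
      obtain ⟨k', hk'⟩ := htr.exists_smul_eq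
        (⟨γ, MulAction.mem_orbit_self γ⟩ : MulAction.orbit H γ) ⟨a • γ, ⟨⟨a, ha⟩, rfl⟩⟩
      have h4 : ((k' : H) : G) • γ = a • γ := congrArg Subtype.val hk'
      have hk'K : ((k' : H) : G) ∈ K := Subgroup.mem_subgroupOf.mp k'.2
      have h5 := Gam_smul ((k' : H) : G) hγ
      rw [((hKmem _).mp hk'K).2 β hβ, h4] at h5
      exact h5
    have h6 : ∀ β' ∈ Gam G α ω α, γ ∈ Gam G α ω β' := by
      intro β' hβ'
      obtain ⟨a₁, ha₁, rfl⟩ := mem_Gam_base.mp hβ
      obtain ⟨a₂, ha₂, rfl⟩ := mem_Gam_base.mp hβ'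
      have ha : a₂ * a₁⁻¹ ∈ H := H.mul_mem ha₂ (H.inv_mem ha₁)
      have h7 := h3 (a₂ * a₁⁻¹)⁻¹ (H.inv_mem ha)
      have h8 := Gam_smul (a₂ * a₁⁻¹) h7
      rw [smul_inv_smul, mul_smul, inv_smul_smul] at h8
      exact h8
    have h9 : Finset.univ.filter (fun y => y ∈ Gam G α ω α) =
        Finset.univ.filter (fun z => γ ∈ Gam G α ω z) := by
      apply Finset.eq_of_subset_of_card_le
      · intro y hy
        rw [Finset.mem_filter] at hy ⊢
        exact ⟨Finset.mem_univ _, h6 y hy.2⟩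
      · exact le_of_eq (card_Gam_eq α ω α γ).symm
    have h10 : ∀ z, z ∈ Gam G α ω α ↔ γ ∈ Gam G α ω z := by
      intro z
      have := Finset.ext_iff.mp h9 z
      simpa using this
    have hk₀' := (hKmem k₀).mp hk₀
    apply hk₀γ
    symm
    refine Gams_inj (G := G) hω γ (k₀ • γ) ?_
    intro z
    rw [← h10 z]
    constructor
    · intro hz
      have h11 := Gam_smul k₀ ((h10 z).mp hz)
      rwa [hk₀'.2 z hz] at h11
    · intro hz
      have h11 := Gam_smul k₀⁻¹ hz
      rw [inv_smul_smul] at h11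
      have h12 := (h10 _).mpr h11
      have h13 := hk₀'.2 _ h12
      rw [smul_inv_smul] at h13
      exact h13.symm ▸ h12
  obtain ⟨g₀, hg₀⟩ := MulAction.exists_smul_eq G α ω
  have hωΓ : ω ∈ Gam G α ω α := ⟨1, one_smul _ _, one_smul _ _⟩
  have hconj : ∀ k ∈ K, g₀⁻¹ * k * g₀ ∈ K := by
    intro k hk
    have hk' := (hKmem k).mp hk
    rw [hKmem]
    refine ⟨?_, ?_⟩
    · rw [mul_smul, mul_smul, hg₀, hk'.2 ω hωΓ, ← hg₀, inv_smul_smul]
    · intro y hy
      have h1 : g₀ • y ∈ Gam G α ω ω := by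
        have := Gam_smul g₀ hy
        rwa [hg₀] at this
      rw [mul_smul, mul_smul, hcore ω hωΓ _ h1 k hk, inv_smul_smul]
  have hg₀N : g₀⁻¹ ∈ Subgroup.normalizer (K : Set G) := by
    rw [Subgroup.mem_normalizer_iff]
    intro k
    rw [inv_inv]
    constructor
    · exact hconj k
    · intro hc
      let c : K → K := fun k => ⟨g₀⁻¹ * k * g₀, hconj k k.2⟩
      have hcinj : Function.Injective c := by
        intro k₁ k₂ h12
        have h' : g₀⁻¹ * (k₁ : G) * g₀ = g₀⁻¹ * (k₂ : G) * g₀ := congrArg Subtype.val h12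
        exact Subtype.ext (mul_left_cancel (mul_right_cancel h'))
      obtain ⟨k', hk'⟩ := (Finite.injective_iff_surjective.mp hcinj) ⟨g₀⁻¹ * k * g₀, hc⟩
      have h' : g₀⁻¹ * (k' : G) * g₀ = g₀⁻¹ * k * g₀ := congrArg Subtype.val hk'
      have hkk : (k' : G) = k := mul_left_cancel (mul_right_cancel h')
      rw [← hkk]; exact k'.2
  have hg₀H : g₀⁻¹ ∉ H := by
    intro hc
    have := MulAction.mem_stabilizer_iff.mp (H.inv_mem hc)
    rw [inv_inv, hg₀] at this
    exact hω this
  have hNtop : Subgroup.normalizer (K : Set G) = ⊤ := by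
    rcases hHmax.le_iff.mp hHnorm with htop | heq
    · exact htop
    · exfalso; rw [heq] at hg₀N; exact hg₀H hg₀N
  rw [eq_bot_iff]
  intro k hk
  rw [Subgroup.mem_bot]
  apply FaithfulSMul.eq_of_smul_eq_smul (α := Ω)
  intro x
  obtain ⟨g, rfl⟩ := MulAction.exists_smul_eq G α x
  have hgN : g⁻¹ ∈ Subgroup.normalizer (K : Set G) := by rw [hNtop]; trivial
  have h1 := (Subgroup.mem_normalizer_iff.mp hgN k).mp hk
  rw [inv_inv] at h1
  have h2 := ((hKmem _).mp h1).1
  rw [mul_smul, mul_smul, inv_smul_eq_iff] at h2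
  rw [one_smul]; exact h2

end Cfsg.Agent.S3494
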