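import Cfsg.Statements.S3497
import Cfsg.Agent.S3494
import Cfsg.Agent.Lib.Helper24.Fitting

set_option autoImplicit false
open Cfsg

namespace Cfsg.Agent.S3497

open Cfsg.Agent.Lib.Helper24

theorem reg_of_normal_abelian {H X : Type*} [Group H] [MulAction H X]
    [hprim : MulAction.IsPreprimitive H X]
    (hfaith : ∀ h : H, (∀ x : X, h • x = x) → h = 1)
    (B : Subgroup H) [hBn : B.Normal] (hB : B ≠ ⊥) (hBc : ∀ a ∈ B, ∀ b ∈ B, a * b = b * a) :
    (∀ x y : X, ∃ b ∈ B, b • x = y) ∧
    (∀ x : X, ∀ c ∈ Subgroup.centralizer (B : Set H), c • x = x → c = 1) ∧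
    Subgroup.centralizer (B : Set H) ≤ B := by
  have hfix : MulAction.fixedPoints B X ≠ Set.univ := by
    intro hfix
    apply hB
    rw [eq_bot_iff]
    intro b hb
    rw [Subgroup.mem_bot]
    apply hfaith
    intro x
    have hx : x ∈ MulAction.fixedPoints B X := by rw [hfix]; trivial
    exact hx ⟨b, hb⟩
  have htr := MulAction.IsQuasiPreprimitive.isPretransitive_of_normal (N := B) hfix
  have h1 : ∀ x y : X, ∃ b ∈ B, b • x = y := by
    intro x y
    obtain ⟨b, hb⟩ := htr.exists_smul_eq x y
    exact ⟨b, b.2, hb⟩
  have h2 : ∀ x : X, ∀ c ∈ Subgroup.centralizer (B : Set H), c • x = x → c = 1 := by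
    intro x c hc hcx
    apply hfaith
    intro y
    obtain ⟨b, hb, rfl⟩ := h1 x y
    have h3 := (Subgroup.mem_centralizer_iff.mp hc) b hb
    rw [← mul_smul, ← h3, mul_smul, hcx]
  refine ⟨h1, h2, ?_⟩
  intro c hc
  obtain ⟨b0, hb0, hb01⟩ : ∃ b ∈ B, b ≠ 1 := by
    by_contra hcon
    push Not at hcon
    apply hB
    rw [eq_bot_iff]
    intro b hb
    rw [Subgroup.mem_bot]
    exact hcon b hb
  obtain ⟨x, -⟩ : ∃ x : X, b0 • x ≠ x := by
    by_contra hcon
    push Not at hcon
    exact hb01 (hfaith b0 hcon)
  obtain ⟨b, hb, hbx⟩ := h1 x (c • x)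
  have hbc : b ∈ Subgroup.centralizer (B : Set H) := by
    rw [Subgroup.mem_centralizer_iff]
    intro h hh
    exact hBc h hh b hb
  have h4 : (b⁻¹ * c) • x = x := by
    rw [mul_smul, ← hbx, inv_smul_smul]
  have h5 := h2 x _ (Subgroup.mul_mem _ (Subgroup.inv_mem _ hbc) hc) h4
  rw [inv_mul_eq_one] at h5
  rw [← h5]
  exact hb

theorem card_eq_of_normal_abelian {H X : Type*} [Group H] [MulAction H X]
    [hprim : MulAction.IsPreprimitive H X]
    (hfaith : ∀ h : H, (∀ x : X, h • x = x) → h = 1)
    (B : Subgroup H) [hBn : B.Normal] (hB : B ≠ ⊥) (hBc : ∀ a ∈ B, ∀ b ∈ B, a * b = b * a)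
    (x : X) : Nat.card B = Nat.card X := by
  obtain ⟨h1, h2, h3⟩ := reg_of_normal_abelian hfaith B hB hBc
  apply Nat.card_congr
  refine Equiv.ofBijective (fun b : B => (b : H) • x) ⟨?_, ?_⟩
  · intro b b' hbb
    have hcent : ∀ b : B, (b : H) ∈ Subgroup.centralizer (B : Set H) := fun b => by
      rw [Subgroup.mem_centralizer_iff]
      intro h hh
      exact hBc h hh b b.2
    have hbb' : (b : H) • x = (b' : H) • x := hbb
    have h4 : ((b' : H)⁻¹ * (b : H)) • x = x := by
      rw [mul_smul, hbb', inv_smul_smul]
    have h5 := h2 x _ (Subgroup.mul_mem _ (Subgroup.inv_mem _ (hcent b')) (hcent b)) h4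
    rw [inv_mul_eq_one] at h5
    exact Subtype.ext h5.symm
  · intro y
    obtain ⟨b, hb, hby⟩ := h1 x y
    exact ⟨⟨b, hb⟩, hby⟩

theorem prime_card_of_bot_coatom {H : Type*} [Group H] [Finite H]
    (h : IsCoatom (⊥ : Subgroup H)) : (Nat.card H).Prime := by
  have hne : (⊥ : Subgroup H) ≠ ⊤ := h.1
  have hnt : Nontrivial H := by
    by_contra hcon
    rw [not_nontrivial_iff_subsingleton] at hcon
    exact hne (Subsingleton.elim _ _)
  have h1 : 1 < Nat.card H := Finite.one_lt_card
  have hp : (Nat.card H).minFac.Prime := Nat.minFac_prime (by omega)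
  have _hp : Fact (Nat.card H).minFac.Prime := ⟨hp⟩
  obtain ⟨x, hx⟩ := exists_prime_orderOf_dvd_card' (G := H) (Nat.card H).minFac
    (Nat.minFac_dvd _)
  have hx1 : Subgroup.zpowers x ≠ ⊥ := by
    intro h0
    rw [Subgroup.zpowers_eq_bot] at h0
    rw [h0, orderOf_one] at hx
    exact hp.one_lt.ne hx
  have h2 : Subgroup.zpowers x = ⊤ := h.2 _ (bot_lt_iff_ne_bot.mpr hx1)
  have h3 : Nat.card H = orderOf x := by
    rw [← Nat.card_zpowers, h2, Subgroup.card_top]
  rw [h3, hx]
  exact hp

theorem exists_hom_GL' {V : Type*} [CommGroup V] [Finite V] {p e : ℕ} [hp : Fact p.Prime]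
    [Module (ZMod p) (Additive V)] (hcard : Nat.card V = p ^ e) :
    ∃ ψ : MulAut V →* GL (Fin e) (ZMod p), Function.Injective ψ := by
  classical
  have _f1 : Finite (Additive V) := ‹Finite V›
  have _f2 : Module.Finite (ZMod p) (Additive V) := Module.Finite.of_finite
  have hfin : Module.finrank (ZMod p) (Additive V) = e := by
    have h1 : Nat.card (Additive V) = Nat.card (ZMod p) ^ Module.finrank (ZMod p) (Additive V) :=
      Module.natCard_eq_pow_finrank
    have h2 : Nat.card (Additive V) = Nat.card V := rfl
    rw [Nat.card_zmod, h2, hcard] at h1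
    exact (Nat.pow_right_injective hp.out.two_le h1).symm
  let b : Module.Basis (Fin e) (ZMod p) (Additive V) :=
    Module.finBasisOfFinrankEq (ZMod p) (Additive V) hfin
  let lin : MulAut V →* Module.End (ZMod p) (Additive V) :=
    { toFun := fun α => AddMonoidHom.toZModLinearMap p (MulEquiv.toAdditive α).toAddMonoidHom
      map_one' := LinearMap.ext fun x => rfl
      map_mul' := fun α β => LinearMap.ext fun x => rfl }
  let g : MulAut V →* Matrix (Fin e) (Fin e) (ZMod p) :=
    ((LinearMap.toMatrixAlgEquiv b : Module.End (ZMod p) (Additive V) ≃ₐ[ZMod p]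
      Matrix (Fin e) (Fin e) (ZMod p)) : Module.End (ZMod p) (Additive V) →*
      Matrix (Fin e) (Fin e) (ZMod p)).comp lin
  refine ⟨g.toHomUnits, ?_⟩
  intro α β hαβ
  have h1 : g α = g β := by
    have h0 := congrArg (fun u : GL (Fin e) (ZMod p) => (u : Matrix (Fin e) (Fin e) (ZMod p))) hαβ
    simpa [MonoidHom.coe_toHomUnits] using h0
  have h2 : lin α = lin β := (LinearMap.toMatrixAlgEquiv b).injective h1
  ext x
  have h3 := congrArg (fun f : Module.End (ZMod p) (Additive V) => f (Additive.ofMul x)) h2
  exact h3

theorem exists_hom_GL {V : Type*} [Group V] [Finite V] {p e : ℕ} [hp : Fact p.Prime]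
    (hcomm : ∀ a b : V, a * b = b * a) (hexp : ∀ x : V, x ^ p = 1) (hcard : Nat.card V = p ^ e) :
    ∃ ψ : MulAut V →* GL (Fin e) (ZMod p), Function.Injective ψ := by
  let _ : CommGroup V := { ‹Group V› with mul_comm := hcomm }
  let _ : Module (ZMod p) (Additive V) := AddCommGroup.zmodModule (by
    intro x
    have e : x = Additive.ofMul (Additive.toMul x) := rfl
    rw [e, ← ofMul_pow, hexp]
    rfl)
  exact exists_hom_GL' (p := p) hcard

/-- Restrictions on the point stabilizer of an extremely primitive group. Let a finite group G act faithfully and primitively on a finite set Ω with point stabilizers H = G_α whose order is neither 1 nor a prime, each acting primitively on every one of its orbits. Then H has trivial center, the Fitting subgroup F(H) is an elementary abelian p-group for some prime p, and if F(H) ≠ 1 has order p ^ e then p ^ e divides the number of points minus one and H / F(H) embeds in GL_e(p) (there is a homomorphism from H to GL_e(p) with kernel exactly F(H)). -/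
theorem result {G : Type*} [Group G] [Finite G] {Ω : Type*} [Fintype Ω] [MulAction G Ω] [FaithfulSMul G Ω] (hprim : MulAction.IsPreprimitive G Ω) (hep : ∀ (α : Ω) (ω : Ω), MulAction.IsPreprimitive (MulAction.stabilizer G α) (MulAction.orbit (MulAction.stabilizer G α) ω)) (α : Ω)
    (hH1 : MulAction.stabilizer G α ≠ ⊥) (hHp : ¬ (Nat.card (MulAction.stabilizer G α)).Prime) :
    Subgroup.center (MulAction.stabilizer G α) = ⊥ ∧
    IsMulCommutative (Cfsg.fittingSubgroup (MulAction.stabilizer G α)) ∧
    ∃ p e : ℕ, p.Prime ∧ Nat.card (Cfsg.fittingSubgroup (MulAction.stabilizer G α)) = p ^ e ∧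
      (∀ x ∈ Cfsg.fittingSubgroup (MulAction.stabilizer G α), x ^ p = 1) ∧
      (Cfsg.fittingSubgroup (MulAction.stabilizer G α) ≠ ⊥ →
        p ^ e ∣ Fintype.card Ω - 1 ∧
        ∃ φ : MulAction.stabilizer G α →* GL (Fin e) (ZMod p), φ.ker = Cfsg.fittingSubgroup (MulAction.stabilizer G α)) := by
  classical
  have htrans : MulAction.IsPretransitive G Ω := hprim.toIsPretransitive
  have hHall : ∀ β : Ω, MulAction.stabilizer G β ≠ ⊥ := by
    intro β hβ
    obtain ⟨g, rfl⟩ := MulAction.exists_smul_eq G α β
    rw [MulAction.stabilizer_smul_eq_stabilizer_map_conj] at hβ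
    exact hH1 ((Subgroup.map_eq_bot_iff_of_injective _ (MulAut.conj g).injective).mp hβ)
  have hex : ∃ ω : Ω, ω ≠ α := by
    by_contra hcon
    push Not at hcon
    apply hH1
    rw [eq_bot_iff]
    intro g hg
    rw [Subgroup.mem_bot]
    apply FaithfulSMul.eq_of_smul_eq_smul (α := Ω)
    intro x
    rw [hcon x, one_smul]
    exact hg
  obtain ⟨ω, hω⟩ := hex
  have hfaith : ∀ ω : Ω, ω ≠ α → ∀ h : MulAction.stabilizer G α,
      (∀ x : MulAction.orbit (MulAction.stabilizer G α) ω, h • x = x) → h = 1 := by
    intro ω hω h hx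
    exact Cfsg.Agent.S3494.result hprim hHall hep α ω hω h
      (fun x hx' => congrArg Subtype.val (hx ⟨x, hx'⟩))
  have key : ∀ (B : Subgroup (MulAction.stabilizer G α)), B.Normal → B ≠ ⊥ →
      (∀ a ∈ B, ∀ b ∈ B, a * b = b * a) → ∀ ω : Ω, ω ≠ α →
      (∀ x : MulAction.orbit (MulAction.stabilizer G α) ω,
        ∀ c ∈ Subgroup.centralizer (B : Set (MulAction.stabilizer G α)), c • x = x → c = 1) ∧
      Subgroup.centralizer (B : Set (MulAction.stabilizer G α)) ≤ B ∧
      Nat.card B = Nat.card (MulAction.orbit (MulAction.stabilizer G α) ω) := by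
    intro B hBn hB hBc ω hω
    have _i := hep α ω
    have h1 := reg_of_normal_abelian (hfaith ω hω) B hB hBc
    exact ⟨h1.2.1, h1.2.2, card_eq_of_normal_abelian (hfaith ω hω) B hB hBc
      ⟨ω, MulAction.mem_orbit_self ω⟩⟩
  -- the centre is trivial
  have hZ : Subgroup.center (MulAction.stabilizer G α) = ⊥ := by
    by_contra hZ
    have hk := key (Subgroup.center (MulAction.stabilizer G α)) inferInstance hZ
      (fun a _ b hb => (Subgroup.mem_center_iff.mp hb a)) ω hω
    have hcent : ∀ c : MulAction.stabilizer G α,
        c ∈ Subgroup.centralizer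
          ((Subgroup.center (MulAction.stabilizer G α) : Subgroup (MulAction.stabilizer G α)) :
            Set (MulAction.stabilizer G α)) := by
      intro c
      rw [Subgroup.mem_centralizer_iff]
      intro z hz
      exact (Subgroup.mem_center_iff.mp hz c).symm
    have _i := hep α ω
    have hstab : MulAction.stabilizer (MulAction.stabilizer G α)
        (⟨ω, MulAction.mem_orbit_self ω⟩ : MulAction.orbit (MulAction.stabilizer G α) ω) = ⊥ := by
      rw [eq_bot_iff]
      intro c hc
      rw [Subgroup.mem_bot]
      exact hk.1 _ c (hcent c) hc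
    have hnt : Nontrivial (MulAction.orbit (MulAction.stabilizer G α) ω) := by
      by_contra hcon
      rw [not_nontrivial_iff_subsingleton] at hcon
      apply hH1
      rw [eq_bot_iff]
      intro g hg
      rw [Subgroup.mem_bot]
      have h1 := hfaith ω hω ⟨g, hg⟩ (fun x => Subsingleton.elim _ _)
      exact congrArg Subtype.val h1
    have hco : IsCoatom (MulAction.stabilizer (MulAction.stabilizer G α)
        (⟨ω, MulAction.mem_orbit_self ω⟩ : MulAction.orbit (MulAction.stabilizer G α) ω)) :=
      (MulAction.isCoatom_stabilizer_iff_preprimitive (G := MulAction.stabilizer G α)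
        (a := (⟨ω, MulAction.mem_orbit_self ω⟩ :
          MulAction.orbit (MulAction.stabilizer G α) ω))).mpr inferInstance
    rw [hstab] at hco
    exact hHp (prime_card_of_bot_coatom hco)
  have hFn : (Cfsg.fittingSubgroup (MulAction.stabilizer G α)).Normal := fitting_normal'
  have hFnil : Group.IsNilpotent (Cfsg.fittingSubgroup (MulAction.stabilizer G α)) :=
    fitting_nilpotent
  by_cases hF : Cfsg.fittingSubgroup (MulAction.stabilizer G α) = ⊥
  · refine ⟨hZ, ?_, 2, 0, Nat.prime_two, ?_, ?_, fun h => absurd hF h⟩
    · rw [hF]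
      exact ⟨⟨fun a b => Subsingleton.elim _ _⟩⟩
    · rw [hF]
      simp
    · intro x hx
      rw [hF, Subgroup.mem_bot] at hx
      rw [hx, one_pow]
  · -- notation
    have hFab : ∀ a ∈ Cfsg.fittingSubgroup (MulAction.stabilizer G α),
        ∀ b ∈ Cfsg.fittingSubgroup (MulAction.stabilizer G α), a * b = b * a := by
      have hBn : (Cfsg.fittingSubgroup (MulAction.stabilizer G α) ⊓
          Subgroup.centralizer ((Cfsg.fittingSubgroup (MulAction.stabilizer G α) :
            Subgroup (MulAction.stabilizer G α)) : Set (MulAction.stabilizer G α))).Normal :=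
        inferInstance
      have hBc : ∀ a ∈ (Cfsg.fittingSubgroup (MulAction.stabilizer G α) ⊓
          Subgroup.centralizer ((Cfsg.fittingSubgroup (MulAction.stabilizer G α) :
            Subgroup (MulAction.stabilizer G α)) : Set (MulAction.stabilizer G α))),
          ∀ b ∈ (Cfsg.fittingSubgroup (MulAction.stabilizer G α) ⊓
          Subgroup.centralizer ((Cfsg.fittingSubgroup (MulAction.stabilizer G α) :
            Subgroup (MulAction.stabilizer G α)) : Set (MulAction.stabilizer G α))),
          a * b = b * a := by
        intro a ha b hb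
        exact (Subgroup.mem_centralizer_iff.mp hb.2) a ha.1
      have hB : (Cfsg.fittingSubgroup (MulAction.stabilizer G α) ⊓
          Subgroup.centralizer ((Cfsg.fittingSubgroup (MulAction.stabilizer G α) :
            Subgroup (MulAction.stabilizer G α)) : Set (MulAction.stabilizer G α))) ≠ ⊥ := by
        have hnt : Nontrivial (Cfsg.fittingSubgroup (MulAction.stabilizer G α)) :=
          (Subgroup.nontrivial_iff_ne_bot _).mpr hF
        have hc := Group.IsNilpotent.center_ne_bot
          (G := Cfsg.fittingSubgroup (MulAction.stabilizer G α))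
        intro hbot
        apply hc
        rw [eq_bot_iff]
        intro z hz
        rw [Subgroup.mem_bot]
        have hzB : (z : MulAction.stabilizer G α) ∈
            (Cfsg.fittingSubgroup (MulAction.stabilizer G α) ⊓
            Subgroup.centralizer ((Cfsg.fittingSubgroup (MulAction.stabilizer G α) :
              Subgroup (MulAction.stabilizer G α)) : Set (MulAction.stabilizer G α))) := by
          refine Subgroup.mem_inf.mpr ⟨z.2, ?_⟩
          rw [Subgroup.mem_centralizer_iff]
          intro f hf
          have h1 := Subgroup.mem_center_iff.mp hz ⟨f, hf⟩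
          exact congrArg Subtype.val h1
        rw [hbot, Subgroup.mem_bot] at hzB
        exact Subtype.ext hzB
      have hk := key _ hBn hB hBc ω hω
      have hFle : Cfsg.fittingSubgroup (MulAction.stabilizer G α) ≤
          Subgroup.centralizer ((Cfsg.fittingSubgroup (MulAction.stabilizer G α) ⊓
          Subgroup.centralizer ((Cfsg.fittingSubgroup (MulAction.stabilizer G α) :
            Subgroup (MulAction.stabilizer G α)) : Set (MulAction.stabilizer G α)) :
            Subgroup (MulAction.stabilizer G α)) : Set (MulAction.stabilizer G α)) := by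
        intro f hf
        rw [Subgroup.mem_centralizer_iff]
        intro b hb
        exact ((Subgroup.mem_centralizer_iff.mp hb.2) f hf).symm
      intro a ha b hb
      have ha' := hk.2.1 (hFle ha)
      exact (Subgroup.mem_centralizer_iff.mp ha'.2) b hb |>.symm
    have hFcent : Subgroup.centralizer ((Cfsg.fittingSubgroup (MulAction.stabilizer G α) :
        Subgroup (MulAction.stabilizer G α)) : Set (MulAction.stabilizer G α)) =
        Cfsg.fittingSubgroup (MulAction.stabilizer G α) := by
      apply le_antisymm (key _ hFn hF hFab ω hω).2.1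
      intro f hf
      rw [Subgroup.mem_centralizer_iff]
      intro b hb
      exact hFab b hb f hf
    have hFcard1 : 1 < Nat.card (Cfsg.fittingSubgroup (MulAction.stabilizer G α)) := by
      have hnt : Nontrivial (Cfsg.fittingSubgroup (MulAction.stabilizer G α)) :=
        (Subgroup.nontrivial_iff_ne_bot _).mpr hF
      exact Finite.one_lt_card
    have hp : (Nat.card (Cfsg.fittingSubgroup (MulAction.stabilizer G α))).minFac.Prime :=
      Nat.minFac_prime (by omega)
    have _hp : Fact (Nat.card (Cfsg.fittingSubgroup (MulAction.stabilizer G α))).minFac.Prime :=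
      ⟨hp⟩
    generalize hpdef : (Nat.card (Cfsg.fittingSubgroup (MulAction.stabilizer G α))).minFac = p
      at hp _hp
    have hpdvd : p ∣ Nat.card (Cfsg.fittingSubgroup (MulAction.stabilizer G α)) := by
      rw [← hpdef]; exact Nat.minFac_dvd _
    -- exponent p
    have hexp : ∀ x ∈ Cfsg.fittingSubgroup (MulAction.stabilizer G α), x ^ p = 1 := by
      let E : Subgroup (MulAction.stabilizer G α) :=
        { carrier := {x | x ∈ Cfsg.fittingSubgroup (MulAction.stabilizer G α) ∧ x ^ p = 1}
          mul_mem' := by
            rintro a b ⟨ha, ha'⟩ ⟨hb, hb'⟩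
            refine ⟨Subgroup.mul_mem _ ha hb, ?_⟩
            have hc : Commute a b := hFab a ha b hb
            rw [hc.mul_pow, ha', hb', one_mul]
          one_mem' := ⟨Subgroup.one_mem _, one_pow _⟩
          inv_mem' := by
            rintro a ⟨ha, ha'⟩
            exact ⟨Subgroup.inv_mem _ ha, by rw [inv_pow, ha', inv_one]⟩ }
      have hEmem : ∀ x, x ∈ E ↔ x ∈ Cfsg.fittingSubgroup (MulAction.stabilizer G α) ∧ x ^ p = 1 :=
        fun x => Iff.rfl
      have hEn : E.Normal := by
        constructor
        intro n hn g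
        rw [hEmem] at hn ⊢
        refine ⟨hFn.conj_mem n hn.1 g, ?_⟩
        rw [conj_pow, hn.2, mul_one, mul_inv_cancel]
      have hEle : E ≤ Cfsg.fittingSubgroup (MulAction.stabilizer G α) := fun x hx => hx.1
      have hE : E ≠ ⊥ := by
        obtain ⟨x, hx⟩ := exists_prime_orderOf_dvd_card'
          (G := Cfsg.fittingSubgroup (MulAction.stabilizer G α)) p hpdvd
        intro hbot
        have hxE : (x : MulAction.stabilizer G α) ∈ E := by
          refine ⟨x.2, ?_⟩
          have h1 : x ^ p = 1 := by rw [← hx]; exact pow_orderOf_eq_one x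
          exact_mod_cast congrArg Subtype.val h1
        rw [hbot, Subgroup.mem_bot] at hxE
        have hx1 : x = 1 := Subtype.ext hxE
        rw [hx1, orderOf_one] at hx
        exact hp.one_lt.ne hx
      have hEc : ∀ a ∈ E, ∀ b ∈ E, a * b = b * a := fun a ha b hb => hFab a ha.1 b hb.1
      have h1 := (key E hEn hE hEc ω hω).2.2
      have h2 := (key _ hFn hF hFab ω hω).2.2
      have h3 : E = Cfsg.fittingSubgroup (MulAction.stabilizer G α) :=
        Subgroup.eq_of_le_of_card_ge hEle (by rw [h1, h2])
      intro x hx
      rw [← h3] at hx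
      exact hx.2
    have hPG : IsPGroup p (Cfsg.fittingSubgroup (MulAction.stabilizer G α)) := by
      intro x
      refine ⟨1, ?_⟩
      rw [pow_one]
      have h1 := hexp x x.2
      exact Subtype.ext (by exact_mod_cast h1)
    obtain ⟨e, he⟩ := hPG.exists_card_eq
    refine ⟨hZ, ⟨⟨fun a b => Subtype.ext (hFab a a.2 b b.2)⟩⟩, p, e, hp, he, hexp, fun _ => ⟨?_, ?_⟩⟩
    · -- divisibility
      have hfree : ∀ b : SubMulAction.ofStabilizer G α,
          MulAction.stabilizer (Cfsg.fittingSubgroup (MulAction.stabilizer G α)) b = ⊥ := by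
        intro b
        rw [eq_bot_iff]
        intro c hc
        rw [Subgroup.mem_bot]
        have hbα : (b : Ω) ≠ α := (SubMulAction.mem_ofStabilizer_iff (G := G) α).mp b.2
        have hk := (key _ hFn hF hFab (b : Ω) hbα).1
          ⟨(b : Ω), MulAction.mem_orbit_self _⟩ (c : MulAction.stabilizer G α)
          (by rw [hFcent]; exact c.2)
          (by
            have h1 : c • b = b := hc
            have h2 : (c : MulAction.stabilizer G α) • (b : Ω) = (b : Ω) := congrArg Subtype.val h1
            exact Subtype.ext h2)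
        exact Subtype.ext hk
      have e1 := MulAction.selfEquivOrbitsQuotientProd hfree
      have h1 := Nat.card_congr e1
      rw [Nat.card_prod, SubMulAction.nat_card_ofStabilizer_eq G α, he,
        Nat.card_eq_fintype_card] at h1
      rw [h1]
      exact dvd_mul_left _ _
    · -- the representation
      obtain ⟨ψ, hψ⟩ := exists_hom_GL (V := Cfsg.fittingSubgroup (MulAction.stabilizer G α))
        (p := p) (e := e) (fun a b => Subtype.ext (hFab a a.2 b b.2))
        (fun x => Subtype.ext (by exact_mod_cast hexp x x.2)) he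
      refine ⟨ψ.comp (MulAut.conjNormal :
        MulAction.stabilizer G α →* MulAut (Cfsg.fittingSubgroup (MulAction.stabilizer G α))), ?_⟩
      have hker : ∀ h : MulAction.stabilizer G α, ψ (MulAut.conjNormal h) = 1 ↔
          h ∈ Subgroup.centralizer ((Cfsg.fittingSubgroup (MulAction.stabilizer G α) :
            Subgroup (MulAction.stabilizer G α)) : Set (MulAction.stabilizer G α)) := by
        intro h
        rw [Subgroup.mem_centralizer_iff]
        constructor
        · intro h1
          have h2 : MulAut.conjNormal h =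
              (1 : MulAut (Cfsg.fittingSubgroup (MulAction.stabilizer G α))) := by
            apply hψ
            rw [h1, map_one]
          intro f hf
          have h3 := congrArg (fun σ : MulAut (Cfsg.fittingSubgroup (MulAction.stabilizer G α)) =>
            ((σ ⟨f, hf⟩ : Cfsg.fittingSubgroup (MulAction.stabilizer G α)) :
              MulAction.stabilizer G α)) h2
          simp only [MulAut.conjNormal_apply, MulAut.one_apply] at h3
          nth_rewrite 1 [← h3]
          group
        · intro h1
          have h2 : MulAut.conjNormal h =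
              (1 : MulAut (Cfsg.fittingSubgroup (MulAction.stabilizer G α))) := by
            ext f
            rw [MulAut.conjNormal_apply, MulAut.one_apply]
            have h3 := h1 f f.2
            rw [← h3]
            group
          rw [h2, map_one]
      ext h
      rw [MonoidHom.mem_ker, MonoidHom.comp_apply, hker h, hFcent]

end Cfsg.Agent.S3497
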