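import Cfsg.Statements.S3532
import Mathlib
import Cfsg.Agent.S2475
import Cfsg.Agent.Lib.Helper3.AffFrob

set_option autoImplicit false
open Cfsg

namespace Cfsg.Agent.S3532

/-- Let q ≥ 4 be a prime power and L = PSL(2,q). There is a finite solvable group with the same set of element orders as L × L (so L × L is not determined by its spectrum). -/
theorem result {F : Type*} [Field F] [Fintype F] (hF : 4 ≤ Fintype.card F) :
    ∃ (H : Type) (_ : Group H) (_ : Finite H), Group.IsSolvable H ∧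
      Set.range (orderOf : H → ℕ) = Set.range (orderOf : Matrix.ProjectiveSpecialLinearGroup (Fin 2) F × Matrix.ProjectiveSpecialLinearGroup (Fin 2) F → ℕ) := by
  classical
  obtain ⟨p, hchar⟩ := CharP.exists F
  have : Fact p.Prime := ⟨CharP.char_is_prime F p⟩
  have hp : p.Prime := Fact.out
  obtain ⟨f, -, hq⟩ := FiniteField.card F p
  set q := Fintype.card F with hqdef
  have hf0 : (f : ℕ) ≠ 0 := f.pos.ne'
  have h2f0 : 2 * (f : ℕ) ≠ 0 := by omega
  have hc1 : Nat.card (GaloisField p (f : ℕ))ˣ = q - 1 := by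
    rw [Nat.card_units, GaloisField.card p _ hf0, hq]
  have hc2 : Nat.card (GaloisField p (2 * (f : ℕ)))ˣ = q ^ 2 - 1 := by
    rw [Nat.card_units, GaloisField.card p _ h2f0, hq, ← pow_mul, mul_comm]
  have hm1 : (q - 1) / Nat.gcd 2 (q - 1) ∣ Nat.card (GaloisField p (f : ℕ))ˣ := by
    rw [hc1]
    exact Nat.div_dvd_of_dvd (Nat.gcd_dvd_right _ _)
  have hg : Nat.gcd 2 (q - 1) ∣ q + 1 := by
    have h1 : Nat.gcd 2 (q - 1) ∣ 2 := Nat.gcd_dvd_left _ _
    have h2 : Nat.gcd 2 (q - 1) ∣ q - 1 := Nat.gcd_dvd_right _ _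
    have h3 : q + 1 = (q - 1) + 2 := by omega
    rw [h3]
    exact Dvd.dvd.add h2 h1
  have hm2 : (q + 1) / Nat.gcd 2 (q - 1) ∣ Nat.card (GaloisField p (2 * (f : ℕ)))ˣ := by
    rw [hc2]
    have h1 : q ^ 2 - 1 = (q + 1) * (q - 1) := by
      have h4 : 1 ≤ q := by omega
      obtain ⟨r, hr⟩ : ∃ r, q = r + 1 := ⟨q - 1, by omega⟩
      rw [hr]
      simp only [Nat.add_sub_cancel]
      have : (r + 1) ^ 2 = (r + 1 + 1) * r + 1 := by ring
      omega
    rw [h1]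
    exact Dvd.dvd.mul_right (Nat.div_dvd_of_dvd hg) _
  refine ⟨Cfsg.Agent.Lib.Helper3.AffM (GaloisField p (f : ℕ))
      (powMonoidHom ((q - 1) / Nat.gcd 2 (q - 1)) :
        (GaloisField p (f : ℕ))ˣ →* (GaloisField p (f : ℕ))ˣ).ker ×
    Cfsg.Agent.Lib.Helper3.AffM (GaloisField p (2 * (f : ℕ)))
      (powMonoidHom ((q + 1) / Nat.gcd 2 (q - 1)) :
        (GaloisField p (2 * (f : ℕ)))ˣ →* (GaloisField p (2 * (f : ℕ)))ˣ).ker,
    inferInstance, inferInstance, inferInstance, ?_⟩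
  rw [Cfsg.Agent.Lib.Helper3.range_orderOf_prod, Cfsg.Agent.Lib.Helper3.range_orderOf_prod,
    Cfsg.Agent.Lib.Helper3.AffM.range_orderOf p _ hm1,
    Cfsg.Agent.Lib.Helper3.AffM.range_orderOf p _ hm2,
    Cfsg.Agent.S2475.result p hF]
  have hlp : ∀ a b : ℕ, a ∣ p → b ∣ p → Nat.lcm a b ∣ p := fun a b ha hb => Nat.lcm_dvd ha hb
  ext k
  constructor
  · rintro ⟨a, ha, b, hb, rfl⟩
    refine ⟨a, ?_, b, ?_, rfl⟩
    · rcases ha with ha | ha
      · exact Or.inl ha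
      · exact Or.inr (Or.inl ha)
    · rcases hb with hb | hb
      · exact Or.inl hb
      · exact Or.inr (Or.inr hb)
  · rintro ⟨a, ha, b, hb, rfl⟩
    rcases ha with ha | ha | ha
    · rcases hb with hb | hb | hb
      · exact ⟨Nat.lcm a b, Or.inl (Nat.lcm_dvd ha hb), 1, Or.inl (one_dvd _), by simp⟩
      · exact ⟨b, Or.inr hb, a, Or.inl ha, Nat.lcm_comm a b⟩
      · exact ⟨a, Or.inl ha, b, Or.inr hb, rfl⟩
    · rcases hb with hb | hb | hb
      · exact ⟨a, Or.inr ha, b, Or.inl hb, rfl⟩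
      · exact ⟨Nat.lcm a b, Or.inr (Nat.lcm_dvd ha hb), 1, Or.inl (one_dvd _), by simp⟩
      · exact ⟨a, Or.inr ha, b, Or.inr hb, rfl⟩
    · rcases hb with hb | hb | hb
      · exact ⟨b, Or.inl hb, a, Or.inr ha, Nat.lcm_comm a b⟩
      · exact ⟨b, Or.inr hb, a, Or.inr ha, Nat.lcm_comm a b⟩
      · exact ⟨1, Or.inl (one_dvd _), Nat.lcm a b, Or.inr (Nat.lcm_dvd ha hb), by simp⟩

end Cfsg.Agent.S3532
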