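import Cfsg.Statements.S3554

set_option autoImplicit false
open Cfsg

namespace Cfsg.Agent.S3554

/-- Let G act faithfully and transitively on a finite set and suppose G has a non-trivial cyclic normal subgroup. Then some element of G of prime order fixes no point. -/
theorem result {G Ω : Type*} [Group G] [Finite G] [MulAction G Ω] [FaithfulSMul G Ω] [Finite Ω]
    (htrans : MulAction.IsPretransitive G Ω) (C : Subgroup G) (hC : C.Normal) (hC1 : C ≠ ⊥) (hcyc : IsCyclic ↥C) :
    ∃ g : G, (orderOf g).Prime ∧ ∀ ω : Ω, g • ω ≠ ω := by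
  classical
  obtain ⟨γ, hγ⟩ := hcyc.exists_generator
  have hn : orderOf γ = Nat.card C := orderOf_eq_card_of_forall_mem_zpowers hγ
  have hcard : Nat.card C ≠ 1 := by
    intro h
    exact hC1 (Subgroup.card_eq_one.mp h)
  obtain ⟨p, hp, hpn⟩ := Nat.exists_prime_and_dvd hcard
  have hcpos : 0 < Nat.card C := Nat.card_pos
  have hc' : orderOf (γ ^ (Nat.card C / p)) = p := by
    rw [orderOf_pow' _ (by
      intro h0
      have := Nat.div_eq_zero_iff.mp h0
      rcases this with h | h
      · exact hp.ne_zero h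
      · exact absurd (Nat.le_of_dvd hcpos hpn) (not_le.mpr h)), hn, Nat.gcd_eq_right (Nat.div_dvd_of_dvd hpn)]
    exact Nat.div_div_self hpn hcpos.ne'
  set c : G := ((γ ^ (Nat.card C / p) : C) : G) with hcdef
  have hc : orderOf c = p := by
    rw [hcdef, Subgroup.orderOf_coe]; exact hc'
  refine ⟨c, by rw [hc]; exact hp, ?_⟩
  intro ω hω
  have hall : ∀ ω' : Ω, c • ω' = ω' := by
    intro ω'
    obtain ⟨g, rfl⟩ := MulAction.exists_smul_eq G ω ω'
    have hconj : g⁻¹ * (γ : G) * g ∈ C := by
      have := hC.conj_mem (γ : G) γ.2 g⁻¹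
      simpa using this
    obtain ⟨k, hk⟩ := Subgroup.mem_zpowers_iff.mp (hγ ⟨_, hconj⟩)
    have hk' : g⁻¹ * (γ : G) * g = (γ : G) ^ k := by
      have := congrArg (Subtype.val) hk
      simpa using this.symm
    have h2 : g⁻¹ * c * g = c ^ k := by
      have : g⁻¹ * c * g = (g⁻¹ * (γ : G) * g) ^ (Nat.card C / p) := by
        rw [hcdef]
        have h := conj_pow (a := g⁻¹) (b := (γ : G)) (i := Nat.card C / p)
        rw [inv_inv] at h
        rw [h]
        simp
      rw [this, hk', hcdef]
      simp only [Subgroup.coe_pow]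
      rw [← zpow_natCast, ← zpow_mul, ← zpow_natCast, ← zpow_mul, mul_comm]
    have h3 : ∀ j : ℤ, c ^ j • ω = ω := by
      intro j
      have : c ^ j ∈ MulAction.stabilizer G ω :=
        Subgroup.zpow_mem _ (MulAction.mem_stabilizer_iff.mpr hω) j
      exact MulAction.mem_stabilizer_iff.mp this
    have : c • g • ω = g • (g⁻¹ * c * g) • ω := by simp [mul_smul]
    rw [this, h2, h3]
  have h1 : c = 1 := FaithfulSMul.eq_of_smul_eq_smul (α := Ω) (by intro ω'; rw [hall, one_smul])
  rw [h1, orderOf_one] at hc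
  exact hp.ne_one hc.symm

end Cfsg.Agent.S3554
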