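import Cfsg.Statements.S3555
import Cfsg.Agent.Lib.Helper20.FixCount
import Cfsg.Agent.Lib.Lead.FrobeniusMore

set_option autoImplicit false
open Cfsg

namespace Cfsg.Agent.S3555

open scoped Pointwise

theorem comm_of_sq {G : Type*} [Group G] (x y : G) (hx : x ^ 2 = 1) (hy : y ^ 2 = 1)
    (hxy : (x * y) ^ 2 = 1) : x * y = y * x := by
  have h1 : x * y = (x * y)⁻¹ := eq_inv_of_mul_eq_one_left (by rwa [pow_two] at hxy)
  have h2 : x⁻¹ = x := inv_eq_of_mul_eq_one_left (by rwa [pow_two] at hx)
  have h3 : y⁻¹ = y := inv_eq_of_mul_eq_one_left (by rwa [pow_two] at hy)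
  rw [h1, mul_inv_rev, h2, h3]

/-- Let G act faithfully and transitively on a finite set and suppose every element of G fixing no point is an involution. Then either G is an elementary abelian 2-group, or G is a Frobenius group whose Frobenius kernel is an elementary abelian 2-group: G has a Frobenius complement H, and the elements lying in no conjugate of H, together with the identity, pairwise commute and square to the identity. -/
theorem result {G Ω : Type*} [Group G] [Finite G] [MulAction G Ω] [FaithfulSMul G Ω] [Finite Ω]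
    (htrans : MulAction.IsPretransitive G Ω) (hinv : ∀ g : G, (∀ ω : Ω, g • ω ≠ ω) → orderOf g = 2) :
    (IsMulCommutative G ∧ ∀ g : G, g ^ 2 = 1) ∨
    (∃ H : Subgroup G, Cfsg.IsFrobeniusComplement H ∧
      (∀ x ∈ Cfsg.frobeniusKernel H, x ^ 2 = 1) ∧
      ∀ x ∈ Cfsg.frobeniusKernel H, ∀ y ∈ Cfsg.frobeniusKernel H, x * y = y * x) := by
  classical
  cases nonempty_fintype G
  cases nonempty_fintype Ω
  have hinv' : ∀ g : G, (∀ ω : Ω, g • ω ≠ ω) → g * g = 1 := fun g hg => by
    have := hinv g hg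
    rw [← pow_two, ← this, pow_orderOf_eq_one]
  have hfix := Cfsg.Agent.Lib.Helper20.fix_le_one_of_derangements_sq (G := G) (Ω := Ω) hinv'
  have hab : (∀ g : G, g ^ 2 = 1) → IsMulCommutative G := fun h =>
    ⟨⟨fun a b => comm_of_sq a b (h a) (h b) (h (a * b))⟩⟩
  by_cases hΩ : IsEmpty Ω
  · left
    have h1 : ∀ g : G, g = 1 := fun g =>
      FaithfulSMul.eq_of_smul_eq_smul (α := Ω) (fun ω => (hΩ.false ω).elim)
    have hsq : ∀ g : G, g ^ 2 = 1 := fun g => by rw [h1 g, one_pow]
    exact ⟨hab hsq, hsq⟩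
  rw [not_isEmpty_iff] at hΩ
  obtain ⟨α⟩ := hΩ
  set H := MulAction.stabilizer G α with hHdef
  have hconj : ∀ (x k : G), x • (k • α) = k • α → x ∈ MulAut.conj k • H := by
    intro x k hx
    rw [Subgroup.mem_pointwise_smul_iff_inv_smul_mem, MulAut.smul_def, ← map_inv,
      MulAut.conj_apply, inv_inv, hHdef, MulAction.mem_stabilizer_iff, mul_smul, mul_smul, hx,
      inv_smul_smul]
  have hconj' : ∀ (x k : G), x ∈ MulAut.conj k • H → x • (k • α) = k • α := by
    intro x k hx
    rw [Subgroup.mem_pointwise_smul_iff_inv_smul_mem, MulAut.smul_def, ← map_inv,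
      MulAut.conj_apply, inv_inv, hHdef, MulAction.mem_stabilizer_iff, mul_smul, mul_smul,
      inv_smul_eq_iff] at hx
    exact hx
  by_cases hH1 : H = ⊥
  · left
    have hsq : ∀ g : G, g ^ 2 = 1 := by
      intro g
      by_cases hg : g = 1
      · rw [hg, one_pow]
      · have hder : ∀ ω : Ω, g • ω ≠ ω := by
          intro ω hω
          obtain ⟨k, rfl⟩ := MulAction.exists_smul_eq G α ω
          have h1 := hconj g k hω
          rw [hH1, Subgroup.smul_bot, Subgroup.mem_bot] at h1
          exact hg h1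
        rw [pow_two]; exact hinv' g hder
    exact ⟨hab hsq, hsq⟩
  by_cases hHtop : H = ⊤
  · left
    have h1 : ∀ g : G, g = 1 := by
      intro g
      apply FaithfulSMul.eq_of_smul_eq_smul (α := Ω)
      intro ω
      obtain ⟨k, rfl⟩ := MulAction.exists_smul_eq G α ω
      have hk : k ∈ H := by rw [hHtop]; trivial
      have hgk : g * k ∈ H := by rw [hHtop]; trivial
      rw [one_smul, ← mul_smul, MulAction.mem_stabilizer_iff.mp hgk,
        MulAction.mem_stabilizer_iff.mp hk]
    have hsq : ∀ g : G, g ^ 2 = 1 := fun g => by rw [h1 g, one_pow]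
    exact ⟨hab hsq, hsq⟩
  right
  have hFrob : Cfsg.IsFrobeniusComplement H := by
    refine ⟨hH1, hHtop, ?_⟩
    intro g hg
    rw [eq_bot_iff]
    intro x hx
    rw [Subgroup.mem_inf] at hx
    obtain ⟨hx1, hx2⟩ := hx
    rw [Subgroup.mem_bot]
    by_contra hx0
    have h2 := hconj' x g hx2
    have := hfix x hx0 α (g • α) hx1 h2
    exact hg (MulAction.mem_stabilizer_iff.mpr this.symm)
  have hker : ∀ x ∈ Cfsg.frobeniusKernel H, x ^ 2 = 1 := by
    intro x hx
    rcases hx with rfl | hx
    · exact one_pow 2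
    · have hder : ∀ ω : Ω, x • ω ≠ ω := by
        intro ω hω
        obtain ⟨k, rfl⟩ := MulAction.exists_smul_eq G α ω
        exact hx k (hconj x k hω)
      rw [pow_two]; exact hinv' x hder
  refine ⟨H, hFrob, hker, ?_⟩
  intro x hx y hy
  have hxK : x ∈ Cfsg.Agent.Lib.Lead.frobKer H hFrob := by
    rw [← SetLike.mem_coe, Cfsg.Agent.Lib.Lead.coe_frobKer]; exact hx
  have hyK : y ∈ Cfsg.Agent.Lib.Lead.frobKer H hFrob := by
    rw [← SetLike.mem_coe, Cfsg.Agent.Lib.Lead.coe_frobKer]; exact hy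
  have hxy := (Cfsg.Agent.Lib.Lead.frobKer H hFrob).mul_mem hxK hyK
  rw [← SetLike.mem_coe, Cfsg.Agent.Lib.Lead.coe_frobKer] at hxy
  exact comm_of_sq x y (hker x hx) (hker y hy) (hker _ hxy)

end Cfsg.Agent.S3555
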