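import Cfsg.Statements.S3634
import Cfsg.Agent.Lib.Helper21.ThreePrimes
import Cfsg.Agent.Lib.Helper21.CoprimeHall

set_option autoImplicit false
open Cfsg

namespace Cfsg.Agent.S3634

open Cfsg.Agent.Lib.Helper21

/-- Let G be a finite group with normal subgroups K ≤ M, and let p, q, r be distinct primes with p dividing the order of K, q dividing the order of M/K and r dividing the order of G/M. Then p, q, r are not pairwise non-adjacent in the prime graph of G: G has an element of order pq, pr or qr. -/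
theorem result {G : Type*} [Group G] [Finite G] (K M : Subgroup G) [K.Normal] [M.Normal] (hKM : K ≤ M)
    (p q r : ℕ) (hp : p.Prime) (hq : q.Prime) (hr : r.Prime) (hpq : p ≠ q) (hpr : p ≠ r) (hqr : q ≠ r)
    (hpK : p ∣ Nat.card ↥K) (hqM : q ∣ Nat.card ↥M / Nat.card ↥K) (hrG : r ∣ Nat.card G / Nat.card ↥M) :
    (∃ x : G, orderOf x = p * q) ∨ (∃ x : G, orderOf x = p * r) ∨ (∃ x : G, orderOf x = q * r) := by
  haveI : Fact p.Prime := ⟨hp⟩
  haveI : Fact q.Prime := ⟨hq⟩
  haveI : Fact r.Prime := ⟨hr⟩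
  obtain ⟨P₀⟩ : Nonempty (Sylow p K) := inferInstance
  obtain ⟨P, hPdef⟩ : ∃ P : Subgroup G, P = (P₀ : Subgroup K).map K.subtype := ⟨_, rfl⟩
  have hPsyl : IsSylOf p K P := hPdef ▸ isSylOf_map_subtype P₀
  have hPne : P ≠ ⊥ := hPsyl.ne_bot hpK
  have hfr : Subgroup.normalizer (P : Set G) ⊔ K = ⊤ := by
    rw [hPdef]; exact Sylow.normalizer_sup_eq_top P₀
  obtain ⟨N, hNdef⟩ : ∃ N : Subgroup G, N = Subgroup.normalizer (P : Set G) := ⟨_, rfl⟩
  rw [← hNdef] at hfr
  obtain ⟨L, hLdef⟩ : ∃ L : Subgroup G, L = N ⊓ M := ⟨_, rfl⟩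
  have hLN : L ≤ N := hLdef ▸ inf_le_left
  have hLM : L ≤ M := hLdef ▸ inf_le_right
  have hLK : L ⊔ K = M := by
    apply le_antisymm (sup_le hLM hKM)
    intro m hm
    have h1 : m ∈ N ⊔ K := by rw [hfr]; exact Subgroup.mem_top m
    obtain ⟨n, hn, k, hk, rfl⟩ := Subgroup.mem_sup_of_normal_right.mp h1
    have hnM : n ∈ M := by
      have := M.mul_mem hm (M.inv_mem (hKM hk))
      simpa using this
    exact Subgroup.mul_mem _ (Subgroup.mem_sup_left (hLdef ▸ ⟨hn, hnM⟩))
      (Subgroup.mem_sup_right hk)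
  have hqL : q ∣ Nat.card L := by
    have h1 : K.relIndex L = K.relIndex M := by rw [← Subgroup.relIndex_sup_right, hLK]
    have h2 : K.relIndex M = Nat.card M / Nat.card K := by
      have := card_mul_relIndex hKM
      rw [← this, Nat.mul_div_cancel_left _ Nat.card_pos]
    have h3 : K.relIndex L ∣ Nat.card L := Subgroup.relIndex_dvd_card K L
    rw [h1, h2] at h3
    exact hqM.trans h3
  obtain ⟨Q₀⟩ : Nonempty (Sylow q L) := inferInstance
  obtain ⟨Q, hQdef⟩ : ∃ Q : Subgroup G, Q = (Q₀ : Subgroup L).map L.subtype := ⟨_, rfl⟩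
  have hQsyl : IsSylOf q L Q := hQdef ▸ isSylOf_map_subtype Q₀
  have hQne : Q ≠ ⊥ := hQsyl.ne_bot hqL
  have hQN : Q ≤ N := hQsyl.1.trans hLN
  have hNL : N ≤ Subgroup.normalizer (L : Set G) := by
    rw [hLdef]
    exact le_normalizer_inf_of_le Subgroup.le_normalizer
      (by rw [Subgroup.normalizer_eq_top]; exact le_top)
  obtain ⟨W, hWdef⟩ : ∃ W : Subgroup G, W = Subgroup.normalizer (Q : Set G) ⊓ N := ⟨_, rfl⟩
  have hWM : W ⊔ M = ⊤ := by
    rw [eq_top_iff]
    intro g _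
    have h1 : g ∈ N ⊔ K := by rw [hfr]; exact Subgroup.mem_top g
    obtain ⟨n, hn, k, hk, rfl⟩ := Subgroup.mem_sup_of_normal_right.mp h1
    obtain ⟨l, hl, hlQ⟩ := hQsyl.exists_conj (hQsyl.map_conj (hNL hn))
    have h2 : l⁻¹ * n ∈ W := by
      rw [hWdef]
      refine Subgroup.mem_inf.mpr ⟨?_, N.mul_mem (N.inv_mem (hLN hl)) hn⟩
      rw [mem_normalizer_iff_map, map_conj_mul, hlQ, map_conj_map_conj_inv]
    have h3 : n * k = l * (l⁻¹ * n) * k := by group
    rw [h3]
    exact Subgroup.mul_mem _ (Subgroup.mul_mem _ (Subgroup.mem_sup_right (hLM hl))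
      (Subgroup.mem_sup_left h2)) (Subgroup.mem_sup_right (hKM hk))
  have hrW : r ∣ Nat.card W := by
    have h1 : M.relIndex W = M.index := by
      rw [← Subgroup.relIndex_sup_right, hWM, Subgroup.relIndex_top_right]
    have h2 : M.index = Nat.card G / Nat.card M := by
      have := Subgroup.card_mul_index M
      rw [← this, Nat.mul_div_cancel_left _ Nat.card_pos]
    have h3 : M.relIndex W ∣ Nat.card W := Subgroup.relIndex_dvd_card M W
    rw [h1, h2] at h3
    exact hrG.trans h3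
  obtain ⟨x, hx⟩ := exists_prime_orderOf_dvd_card' r hrW
  have hzo : orderOf (x : G) = r := by rw [Subgroup.orderOf_coe]; exact hx
  have hxW : (x : G) ∈ Subgroup.normalizer (Q : Set G) ⊓ N := hWdef ▸ x.2
  exact three_primes_config p q r hpq hpr hqr P Q hPsyl.2.1 hPne hQsyl.2.1 hQne (hNdef ▸ hQN)
    (x : G) hzo (hNdef ▸ hxW.2) hxW.1

end Cfsg.Agent.S3634
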