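import Cfsg.Statements.S3744
import Mathlib
import Cfsg.Agent.Lib.Helper21.PComp

set_option autoImplicit false
open Cfsg

namespace Cfsg.Agent.S3744

open Cfsg.Agent.Lib.Helper21

universe u

theorem pcomp_aux (p : ℕ) [Fact p.Prime] : ∀ (n : ℕ) (G : Type u) [Group G] [Finite G],
    (∃ H : Fin (n + 1) → Subgroup G, H 0 = ⊥ ∧ H (Fin.last n) = ⊤ ∧ Monotone H ∧
      (∀ i, (H i).Normal) ∧
      ∀ i : Fin n, (∃ m : ℕ, (H i.castSucc).relIndex (H i.succ) = p ^ m) ∨
        ((H i.castSucc).relIndex (H i.succ)).Coprime p) →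
    (∃ H : Subgroup G, IsPComp p H) ∧
    (∀ H₁ H₂ : Subgroup G, IsPComp p H₁ → IsPComp p H₂ →
      ∃ g : G, H₂ = H₁.map (MulAut.conj g).toMonoidHom) ∧
    (∀ U : Subgroup G, (Nat.card U).Coprime p →
      ∃ H : Subgroup G, IsPComp p H ∧ ∃ g : G, U.map (MulAut.conj g).toMonoidHom ≤ H) := by
  intro n
  induction n with
  | zero =>
    rintro G _ _ ⟨H, h0, hlast, -, -, -⟩
    have htop : (⊥ : Subgroup G) = ⊤ := by
      rw [← h0, ← hlast]; rfl
    haveI hsS : Subsingleton (Subgroup G) := subsingleton_of_bot_eq_top htop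
    haveI hsG : Subsingleton G := Subgroup.subsingleton_iff.mp hsS
    have hall : ∀ K : Subgroup G, IsPComp p K := by
      intro K
      refine ⟨?_, 0, ?_⟩
      · have h1 : Nat.card K = 1 := Nat.card_eq_one_iff_unique.mpr ⟨inferInstance, ⟨1⟩⟩
        rw [h1]; exact Nat.coprime_one_left p
      · rw [Subsingleton.elim K ⊤, Subgroup.index_top, pow_zero]
    refine ⟨⟨⊤, hall ⊤⟩, ?_, ?_⟩
    · intro H₁ H₂ _ _
      exact ⟨1, Subsingleton.elim _ _⟩
    · intro U _
      exact ⟨⊤, hall ⊤, 1, le_top⟩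
  | succ n ih =>
    rintro G _ _ ⟨H, h0, hlast, hmono, hnorm, hfac⟩
    haveI hMn : (H 1).Normal := hnorm 1
    have hM : (∃ m : ℕ, Nat.card (H 1) = p ^ m) ∨ (Nat.card (H 1)).Coprime p := by
      have h1 := hfac 0
      rw [Fin.castSucc_zero, Fin.succ_zero_eq_one, h0, Subgroup.relIndex_bot_left] at h1
      exact h1
    have hπ : Function.Surjective (QuotientGroup.mk' (H 1)) := QuotientGroup.mk'_surjective _
    have hle : ∀ i : Fin (n + 1), H 1 ≤ H i.succ := by
      intro i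
      apply hmono
      rw [← Fin.succ_zero_eq_one]
      exact Fin.succ_le_succ_iff.mpr (Fin.zero_le i)
    have hq := ih (G ⧸ H 1) ⟨fun i => (H i.succ).map (QuotientGroup.mk' (H 1)), ?_, ?_, ?_, ?_, ?_⟩
    · obtain ⟨⟨Kb, hKb⟩, hqC, hqD⟩ := hq
      obtain ⟨K, hK, -, -⟩ := exists_pComp_of_quotient (H 1) hM Kb hKb
      exact ⟨⟨K, hK⟩, pComp_conj_of_quotient (H 1) hM hqC, pComp_dom_of_quotient (H 1) hM hqD⟩
    · show (H (Fin.succ 0)).map (QuotientGroup.mk' (H 1)) = ⊥
      rw [Fin.succ_zero_eq_one]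
      exact QuotientGroup.map_mk'_self (H 1)
    · show (H (Fin.last n).succ).map (QuotientGroup.mk' (H 1)) = ⊤
      rw [Fin.succ_last, hlast]
      exact Subgroup.map_top_of_surjective _ hπ
    · intro i j hij
      exact Subgroup.map_mono (hmono (Fin.succ_le_succ_iff.mpr hij))
    · intro i
      exact (hnorm i.succ).map _ hπ
    · intro i
      have h1 := hfac i.succ
      have h2 : ((H i.castSucc.succ).map (QuotientGroup.mk' (H 1))).relIndex
          ((H i.succ.succ).map (QuotientGroup.mk' (H 1))) =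
          (H i.succ.castSucc).relIndex (H i.succ.succ) := by
        rw [← Subgroup.relIndex_comap, Subgroup.comap_map_eq_self, Fin.succ_castSucc]
        rw [QuotientGroup.ker_mk']
        exact hle i.castSucc
      show (∃ m : ℕ, ((H i.castSucc.succ).map (QuotientGroup.mk' (H 1))).relIndex
          ((H i.succ.succ).map (QuotientGroup.mk' (H 1))) = p ^ m) ∨
        (((H i.castSucc.succ).map (QuotientGroup.mk' (H 1))).relIndex
          ((H i.succ.succ).map (QuotientGroup.mk' (H 1)))).Coprime p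
      rw [h2]
      exact h1

/-- A finite p-soluble group has a p-complement, all its p-complements are conjugate, and every subgroup of order prime to p lies in one of them. Here a p-complement is a subgroup of order prime to p whose index is a power of p. -/
theorem result {G : Type*} [Group G] [Finite G] {p : ℕ} [Fact p.Prime] (hG : Cfsg.IsPSolvable p G) : (∃ H : Subgroup G, (Nat.card H).Coprime p ∧ ∃ n : ℕ, H.index = p ^ n) ∧ (∀ H₁ H₂ : Subgroup G, (Nat.card H₁).Coprime p → (∃ n : ℕ, H₁.index = p ^ n) → (Nat.card H₂).Coprime p → (∃ n : ℕ, H₂.index = p ^ n) → ∃ g : G, H₂ = H₁.map (MulAut.conj g).toMonoidHom) ∧ (∀ U : Subgroup G, (Nat.card U).Coprime p → ∃ H : Subgroup G, (Nat.card H).Coprime p ∧ (∃ n : ℕ, H.index = p ^ n) ∧ ∃ g : G, U.map (MulAut.conj g).toMonoidHom ≤ H) := by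
  obtain ⟨n, H, hH⟩ := hG
  obtain ⟨⟨K, hK⟩, hC, hD⟩ := pcomp_aux p n G ⟨H, hH⟩
  refine ⟨⟨K, hK.1, hK.2⟩, ?_, ?_⟩
  · intro H₁ H₂ h1 h1' h2 h2'
    exact hC H₁ H₂ ⟨h1, h1'⟩ ⟨h2, h2'⟩
  · intro U hU
    obtain ⟨H', hH', g, hg⟩ := hD U hU
    exact ⟨H', hH'.1, hH'.2, g, hg⟩

end Cfsg.Agent.S3744
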