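import Cfsg.Statements.S3761
import Cfsg.Agent.S3224
import Cfsg.Agent.S0519
import Cfsg.Agent.Lib.Lead.UniqueSubgroup
import Cfsg.Agent.Lib.Helper10.DihSyl
import Cfsg.Agent.Lib.Helper21.PGroup
import Cfsg.Agent.Lib.Helper5.CycSelf
import Cfsg.Agent.Lib.Helper5.CycSelf2

set_option autoImplicit false
open Cfsg

namespace Cfsg.Agent.S3761

open Cfsg.Agent.Lib.Helper5 Cfsg.Agent.Lib.Helper10

/-- Let G be a finite non-abelian p-group with a cyclic normal subgroup U of order p^n such that C_G(U) = U. Then either p = 2 and G is dihedral, generalized quaternion or semidihedral of order 2^(n+1); or, writing U₁ for the subgroup generated by the p-th powers of elements of U and M = C_G(U₁), the subgroup U has index p in M and the subgroup Ω₁(M) generated by the elements of M of order dividing p is elementary abelian of order p² and characteristic in G. -/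
theorem result {G : Type*} [Group G] [Finite G] {p : ℕ} [Fact p.Prime] (hG : IsPGroup p G) (hna : ¬ IsMulCommutative G) (U : Subgroup G) [U.Normal] (hU : IsCyclic U) (n : ℕ) (hUn : Nat.card U = p ^ n) (hC : Subgroup.centralizer (U : Set G) = U) : (p = 2 ∧ Nat.card G = 2 ^ (n + 1) ∧ ((∃ m : ℕ, Nonempty (G ≃* DihedralGroup m)) ∨ (∃ m : ℕ, Nonempty (G ≃* QuaternionGroup m)) ∨ Cfsg.IsQuasiDihedral G)) ∨ (U.relIndex (Subgroup.centralizer (Cfsg.powerClosure p 1 U : Set G)) = p ∧ Cfsg.IsElementaryAbelian p (Cfsg.omegaOne p (Subgroup.centralizer (Cfsg.powerClosure p 1 U : Set G))) ∧ Nat.card ↥(Cfsg.omegaOne p (Subgroup.centralizer (Cfsg.powerClosure p 1 U : Set G))) = p ^ 2 ∧ (Cfsg.omegaOne p (Subgroup.centralizer (Cfsg.powerClosure p 1 U : Set G))).Characteristic) := by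
  classical
  have hp : p.Prime := Fact.out
  obtain ⟨a, rfl⟩ : ∃ a : G, U = Subgroup.zpowers a := by
    obtain ⟨g, hg⟩ := hU.exists_generator
    refine ⟨(g : G), le_antisymm ?_ ?_⟩
    · intro x hx
      obtain ⟨i, hi⟩ := Subgroup.mem_zpowers_iff.mp (hg ⟨x, hx⟩)
      refine Subgroup.mem_zpowers_iff.mpr ⟨i, ?_⟩
      have := congrArg Subtype.val hi
      simpa using this
    · rw [Subgroup.zpowers_le]; exact g.2
  have hnormal : (Subgroup.zpowers a).Normal := inferInstance
  have hoa : orderOf a = p ^ n := by rw [← Nat.card_zpowers]; exact hUn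
  have hnorm : ∀ g : G, g * a * g⁻¹ ∈ Subgroup.zpowers a :=
    fun g => hnormal.conj_mem a (Subgroup.mem_zpowers a) g
  have hcent : ∀ g : G, g * a = a * g → g ∈ Subgroup.zpowers a := by
    intro g hg
    rw [← hC, Subgroup.mem_centralizer_iff]
    intro h hh
    obtain ⟨i, rfl⟩ := Subgroup.mem_zpowers_iff.mp hh
    exact ((Commute.zpow_left (show Commute a g from hg.symm) i)).eq
  have hexU : ∃ x : G, x ∉ Subgroup.zpowers a := by
    by_contra h
    push Not at h
    apply hna
    exact ⟨⟨fun x y => by
      obtain ⟨i, hi⟩ := Subgroup.mem_zpowers_iff.mp (h x)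
      obtain ⟨j, hj⟩ := Subgroup.mem_zpowers_iff.mp (h y)
      rw [← hi, ← hj, ← zpow_add, ← zpow_add, add_comm]⟩⟩
  have hn2 : 2 ≤ n := by
    by_contra hlt
    obtain ⟨x, hx⟩ := hexU
    apply hx
    apply hcent
    rcases Nat.lt_or_ge n 1 with h0 | h1
    · have hn0 : n = 0 := by omega
      subst hn0
      rw [pow_zero, orderOf_eq_one_iff] at hoa
      rw [hoa, mul_one, one_mul]
    · have hn1 : n = 1 := by omega
      subst hn1
      rw [pow_one] at hoa
      have hcard : Nat.card (Subgroup.zpowers a) = p := by rw [Nat.card_zpowers, hoa]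
      have hcen := Cfsg.Agent.Lib.Helper21.le_center_of_normal_of_card_eq_prime hG
        (Subgroup.zpowers a) hcard
      exact Subgroup.mem_center_iff.mp (hcen (Subgroup.mem_zpowers a)) x
  obtain ⟨M, hMdef⟩ : ∃ M : Subgroup G,
      M = Subgroup.centralizer (Cfsg.powerClosure p 1 (Subgroup.zpowers a) : Set G) := ⟨_, rfl⟩
  rw [← hMdef]
  have hM : ∀ g, g ∈ M ↔ g * a ^ p = a ^ p * g := by
    intro g
    rw [hMdef, Subgroup.mem_centralizer_iff]
    constructor
    · intro h
      apply (h (a ^ p) ?_).symm
      apply Subgroup.subset_closure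
      exact ⟨a, Subgroup.mem_zpowers a, by rw [pow_one]⟩
    · intro h y hy
      have hle : Cfsg.powerClosure p 1 (Subgroup.zpowers a) ≤
          Subgroup.centralizer ({g} : Set G) := by
        unfold Cfsg.powerClosure
        rw [Subgroup.closure_le]
        rintro y ⟨x, hx, rfl⟩
        rw [SetLike.mem_coe, Subgroup.mem_centralizer_iff]
        intro k hk
        rw [Set.mem_singleton_iff] at hk
        subst hk
        obtain ⟨i, rfl⟩ := Subgroup.mem_zpowers_iff.mp hx
        rw [pow_one]
        have e : (a ^ i) ^ p = (a ^ p) ^ i := by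
          rw [← zpow_natCast, ← zpow_mul, mul_comm, zpow_mul, zpow_natCast]
        rw [e]
        exact ((show Commute k (a ^ p) from h).zpow_right i).eq
      have h2 := Subgroup.mem_centralizer_iff.mp (hle hy) g rfl
      exact h2.symm
  obtain ⟨w, hw⟩ : ∃ w, w = a ^ (orderOf a / p) := ⟨_, rfl⟩
  obtain ⟨hwo, hwA, hzc, hzp, hwmem⟩ := cyc_omega hG a n hoa (by omega) hnorm w hw
  obtain ⟨hUM, hcommU, hrel, hgen, hcommM, hpow⟩ :=
    cyc_facts hG a n hoa (by omega) hnorm hcent M hM w hw
  by_cases hp2 : p = 2
  swap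
  · right
    have hodd : Odd p := hp.odd_of_ne_two hp2
    obtain ⟨x, hx⟩ := hexU
    obtain ⟨b, -, hbU, hbp⟩ := exists_pow_not_mem hG (Subgroup.zpowers a) x hx
    obtain ⟨r, hr⟩ := cyc_conj_power a hnorm b
    have hbM : b ∈ M := by
      rw [hM]
      have h1 : b ^ p * a * (b ^ p)⁻¹ = a ^ (r ^ p) :=
        cyc_conj_pow_iter (Subgroup.zpowers a) b r hr a (Subgroup.mem_zpowers a) p
      have h2 : b ^ p * a * (b ^ p)⁻¹ = a := by
        obtain ⟨i, hi⟩ := Subgroup.mem_zpowers_iff.mp hbp
        rw [← hi]
        have hc : Commute (a ^ i) a := (Commute.refl a).zpow_left i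
        rw [hc.eq, mul_inv_cancel_right]
      rw [h2] at h1
      have h3 : r ^ p ≡ 1 [MOD p ^ n] := by
        rw [← hoa]; exact pow_eq_pow_iff_modEq.mp (by rw [pow_one]; exact h1.symm)
      obtain ⟨hr1, -, hdiv⟩ := Cfsg.Agent.Lib.Lead.nt_odd p hodd n r (by omega) h3
      have h4 : b * a ^ p * b⁻¹ = a ^ p := by
        rw [hr (a ^ p) (Subgroup.pow_mem _ (Subgroup.mem_zpowers a) p), ← pow_mul]
        obtain ⟨r', rfl⟩ : ∃ r', r = r' + 1 := ⟨r - 1, by omega⟩
        rw [Nat.add_sub_cancel] at hdiv
        have h5 : a ^ (p * r') = 1 := by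
          apply orderOf_dvd_iff_pow_eq_one.mp
          rw [hoa]; exact hdiv
        rw [mul_add, mul_one, pow_add, h5, one_mul]
      calc b * a ^ p = b * a ^ p * b⁻¹ * b := by rw [inv_mul_cancel_right]
        _ = a ^ p * b := by rw [h4]
    have hmul : ∀ x y : G, x ∈ M → y ∈ M → x ^ p = 1 → y ^ p = 1 → (x * y) ^ p = 1 := by
      intro x y hx hy hxp hyp
      have hc := hcommM x hx y hy
      rw [mul_pow_prime_of_comm_central hp hp2 x y (hzc _ hc x).symm (hzc _ hc y).symm
        (hzp _ hc), hxp, hyp, one_mul]
    obtain ⟨s, hsU, hs⟩ := hpow b hbM hbU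
    obtain ⟨t, ht⟩ : ∃ t, t = b * s⁻¹ := ⟨_, rfl⟩
    have hsM : s⁻¹ ∈ M := M.inv_mem (hUM hsU)
    have htM : t ∈ M := by rw [ht]; exact M.mul_mem hbM hsM
    have htU : t ∉ Subgroup.zpowers a := by
      intro h
      apply hbU
      have h1 := Subgroup.mul_mem _ h hsU
      rwa [ht, inv_mul_cancel_right] at h1
    have htp : t ^ p = 1 := by
      have hc := hcommM b hbM s⁻¹ hsM
      rw [ht, mul_pow_prime_of_comm_central hp hp2 b s⁻¹ (hzc _ hc b).symm (hzc _ hc s⁻¹).symm
        (hzp _ hc), hs, inv_pow, mul_inv_cancel]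
    exact cyc_second_alt hG a n hoa (by omega) hnorm hcent M hM t htM htU htp hmul
  · subst hp2
    have h4 : 4 ∣ orderOf a := by
      rw [hoa]
      have h7 : (2 : ℕ) ^ 2 ∣ 2 ^ n := pow_dvd_pow 2 hn2
      simpa using h7
    obtain ⟨v, hv⟩ : ∃ v, v = a ^ (orderOf a / 4) := ⟨_, rfl⟩
    have hvo : orderOf v = 4 := by rw [hv]; exact orderOf_pow_orderOf_div (orderOf_pos a).ne' h4
    have hvA : v ∈ Subgroup.zpowers a := by
      rw [hv]; exact Subgroup.pow_mem _ (Subgroup.mem_zpowers a) _
    have hv4 : v ^ 4 = 1 := by rw [← hvo]; exact pow_orderOf_eq_one v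
    have hvv : v * v = w := by
      rw [hv, hw, ← pow_add]
      congr 1
      omega
    have hww : w * w = 1 := by
      rw [← pow_two]; exact hzp w (Subgroup.mem_zpowers w)
    have hw1 : w ≠ 1 := by
      intro h
      rw [h, orderOf_one] at hwo
      norm_num at hwo
    by_cases hA : ∀ g : G, g * v = v * g → g ∈ Subgroup.zpowers a
    · left
      have hvinv : v⁻¹ = v ^ 3 := by
        apply inv_eq_of_mul_eq_one_right
        rw [← pow_succ', hv4]
      have F1 : ∀ g : G, g * v * g⁻¹ = v ∨ g * v * g⁻¹ = v⁻¹ := by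
        intro g
        obtain ⟨r, hr⟩ := cyc_conj_power a hnorm g
        have h1 := hr v hvA
        have h2 : v ^ r = v ^ (r % 4) := by rw [← hvo]; exact (pow_mod_orderOf v r).symm
        rw [h2] at h1
        have ho : orderOf (g * v * g⁻¹) = 4 := by rw [orderOf_conj_eq, hvo]
        obtain ⟨m, hm⟩ : ∃ m, m = r % 4 := ⟨_, rfl⟩
        have h3 : m < 4 := by rw [hm]; exact Nat.mod_lt _ (by norm_num)
        rw [← hm] at h1
        interval_cases m
        · exfalso
          rw [h1, pow_zero, orderOf_one] at ho
          norm_num at ho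
        · left; rw [h1, pow_one]
        · exfalso
          have h5 : orderOf (g * v * g⁻¹) ∣ 2 := by
            apply orderOf_dvd_of_pow_eq_one
            rw [h1, ← pow_mul]; exact hv4
          rw [ho] at h5
          norm_num at h5
        · right; rw [h1, hvinv]
      have Finv : ∀ g : G, g ∉ Subgroup.zpowers a → g * v * g⁻¹ = v⁻¹ := by
        intro g hg
        exact (F1 g).resolve_left (fun h => hg (hA g (by
          calc g * v = g * v * g⁻¹ * g := by group
            _ = v * g := by rw [h])))
      have hidx : (Subgroup.zpowers a).index = 2 := by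
        obtain ⟨b₀, hb₀⟩ := hexU
        rw [Subgroup.index_eq_two_iff]
        refine ⟨b₀, fun g => ?_⟩
        by_cases hg : g ∈ Subgroup.zpowers a
        · right
          refine ⟨hg, fun h => hb₀ ?_⟩
          have h1 := Subgroup.mul_mem _ (Subgroup.inv_mem _ hg) h
          rwa [inv_mul_cancel_left] at h1
        · left
          refine ⟨?_, hg⟩
          apply hA
          have hgv := Finv g hg
          have hbv := Finv b₀ hb₀
          have h0 : g * b₀ * v * (g * b₀)⁻¹ = v := by
            calc g * b₀ * v * (g * b₀)⁻¹ = g * (b₀ * v * b₀⁻¹) * g⁻¹ := by group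
              _ = g * v⁻¹ * g⁻¹ := by rw [hbv]
              _ = (g * v * g⁻¹)⁻¹ := by group
              _ = v := by rw [hgv, inv_inv]
          calc g * b₀ * v = g * b₀ * v * (g * b₀)⁻¹ * (g * b₀) := by group
            _ = v * (g * b₀) := by rw [h0]
      have hcardG : Nat.card G = 2 ^ (n + 1) := by
        have h2 := Subgroup.card_mul_index (Subgroup.zpowers a)
        rw [hUn, hidx] at h2
        rw [← h2, pow_succ]
      refine ⟨rfl, hcardG, ?_⟩
      by_cases hinv : ∃ t : G, t ∉ Subgroup.zpowers a ∧ t * t = 1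
      · obtain ⟨t, htA, htt⟩ := hinv
        have ht1 : t ≠ 1 := fun h => htA (h ▸ Subgroup.one_mem _)
        have htinv : t⁻¹ = t := inv_eq_of_mul_eq_one_left htt
        have htv' : t * v * t⁻¹ = v⁻¹ := Finv t htA
        obtain ⟨ρ, hρ⟩ := cyc_conj_power a hnorm t
        have hρ4 : ρ ≡ 3 [MOD 4] := by
          have h1 := hρ v hvA
          rw [htv', hvinv] at h1
          rw [← hvo]; exact pow_eq_pow_iff_modEq.mp h1.symm
        have hCA : ∀ u ∈ Subgroup.zpowers a, t * u = u * t → u = 1 ∨ u = w := by
          intro u hu hc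
          have h1 := hρ u hu
          have h2 : t * u * t⁻¹ = u := by rw [hc, mul_inv_cancel_right]
          rw [h2] at h1
          have h3 : ρ ≡ 1 [MOD orderOf u] :=
            pow_eq_pow_iff_modEq.mp (by rw [pow_one]; exact h1.symm)
          obtain ⟨j, hj⟩ := (IsPGroup.iff_orderOf.mp hG) u
          have hj1 : j ≤ 1 := by
            by_contra hj2
            have h5 : ρ ≡ 1 [MOD 2 ^ 2] := h3.of_dvd (by
              rw [hj]; exact pow_dvd_pow 2 (by omega : 2 ≤ j))
            have h6 := hρ4
            unfold Nat.ModEq at h5 h6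
            omega
          have hu2 : u ^ 2 = 1 := by
            apply orderOf_dvd_iff_pow_eq_one.mp
            rw [hj]
            have h7 : (2 : ℕ) ^ j ∣ 2 ^ 1 := pow_dvd_pow 2 hj1
            simpa using h7
          exact (mem_zpowers_invol w hww u).mp (hwmem u hu hu2)
        have hiv : ∀ g : G, g * t = t * g → g = 1 ∨ g = w ∨ g = t ∨ g = w * t := by
          intro g hgt
          by_cases hgv : g * v = v * g
          · have hgA := hA g hgv
            rcases hCA g hgA hgt.symm with h | h
            · left; exact h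
            · right; left; exact h
          · have hgv' : g * v * g⁻¹ = v⁻¹ := (F1 g).resolve_left (fun h => hgv (by
              calc g * v = g * v * g⁻¹ * g := by group
                _ = v * g := by rw [h]))
            have h1 : (g * t) * v = v * (g * t) := by
              have h0 : g * t * v * (g * t)⁻¹ = v := by
                calc g * t * v * (g * t)⁻¹ = g * (t * v * t⁻¹) * g⁻¹ := by group
                  _ = g * v⁻¹ * g⁻¹ := by rw [htv']
                  _ = (g * v * g⁻¹)⁻¹ := by group
                  _ = v := by rw [hgv', inv_inv]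
              calc g * t * v = g * t * v * (g * t)⁻¹ * (g * t) := by group
                _ = v * (g * t) := by rw [h0]
            have h2 : (g * t) * t = t * (g * t) := by rw [← mul_assoc, hgt]
            have hgtA := hA (g * t) h1
            rcases hCA (g * t) hgtA h2.symm with h | h
            · right; right; left
              calc g = g * t * t⁻¹ := by group
                _ = t := by rw [h, one_mul, htinv]
            · right; right; right
              calc g = g * t * t⁻¹ := by group
                _ = w * t := by rw [h, htinv]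
        have htz : t * w = w * t := hzc w (Subgroup.mem_zpowers w) t
        obtain ⟨V, hV, hVmem⟩ := exists_four t w ht1 hw1 (fun h => htA (h ▸ hwA)) htt hww htz
        have hCV : Subgroup.centralizer ({t} : Set G) = V := by
          ext g
          rw [Subgroup.mem_centralizer_iff, hVmem]
          constructor
          · intro h
            have h1 : g * t = t * g := (h t rfl).symm
            rcases hiv g h1 with h | h | h | h
            · left; exact h
            · right; right; left; exact h
            · right; left; exact h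
            · right; right; right; rw [h, htz]
          · rintro (rfl | rfl | rfl | rfl) h hh
            all_goals (rw [Set.mem_singleton_iff] at hh; subst hh)
            · simp
            · rfl
            · exact htz
            · rw [← mul_assoc, htt, one_mul, mul_assoc, ← htz, ← mul_assoc, htt, one_mul]
        have hC4 : Nat.card ↥(Subgroup.centralizer ({t} : Set G)) = 4 := by
          rw [hCV]; exact hV.card_four
        have hto : orderOf t = 2 := orderOf_eq_prime (by rw [pow_two]; exact htt) ht1
        rcases Cfsg.Agent.S3224.result hG t hto hC4 with ⟨m, ⟨e⟩⟩ | hQD | h4c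
        · left; exact ⟨m, ⟨e⟩⟩
        · right; right; exact hQD
        · exfalso
          have h5 : 2 ^ 2 ≤ 2 ^ n := Nat.pow_le_pow_right (by norm_num) hn2
          rw [hcardG, pow_succ] at h4c
          omega
      · push Not at hinv
        have hUq : Cfsg.Agent.Lib.Lead.UniqP 2 G := by
          intro x y hx hy hx1
          have hxA : x ∈ Subgroup.zpowers a := by
            by_contra h
            exact hinv x h (by rw [← pow_two]; exact hx)
          have hyA : y ∈ Subgroup.zpowers a := by
            by_contra h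
            exact hinv y h (by rw [← pow_two]; exact hy)
          have hox : orderOf x = 2 := orderOf_eq_prime hx hx1
          exact Cfsg.Agent.S0519.mem_zpowers_of_order a 2 hyA hxA hox hy
        rcases Cfsg.Agent.Lib.Lead.uniqP_cyclic_or_quaternion 2 hG hUq with hcyc | ⟨-, k, ⟨e⟩⟩
        · exfalso
          exact hna (@IsCyclic.isMulCommutative G _ hcyc)
        · right; left; exact ⟨2 ^ k, ⟨e⟩⟩
    · right
      push Not at hA
      obtain ⟨g, hgv, hgU⟩ := hA
      obtain ⟨b, hbg, hbU, hbp⟩ := exists_pow_not_mem hG (Subgroup.zpowers a) g hgU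
      have hbv : b * v = v * b := by
        obtain ⟨i, hi⟩ := Subgroup.mem_zpowers_iff.mp hbg
        rw [← hi]
        exact ((show Commute g v from hgv).zpow_left i).eq
      obtain ⟨c, hc⟩ : ∃ c, c = b * a * b⁻¹ * a⁻¹ := ⟨_, rfl⟩
      have hcA : c ∈ Subgroup.zpowers a := by
        rw [hc]
        exact Subgroup.mul_mem _ (hnorm b) (Subgroup.inv_mem _ (Subgroup.mem_zpowers a))
      have hbc : b * c * b⁻¹ = c⁻¹ := by
        have hb2 : b ^ 2 * a = a * b ^ 2 := by
          obtain ⟨i, hi⟩ := Subgroup.mem_zpowers_iff.mp hbp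
          rw [← hi]; exact ((Commute.refl a).zpow_left i).eq
        rw [pow_two] at hb2
        rw [hc]
        calc b * (b * a * b⁻¹ * a⁻¹) * b⁻¹ = (b * b * a) * (b⁻¹ * a⁻¹ * b⁻¹) := by group
          _ = (a * (b * b)) * (b⁻¹ * a⁻¹ * b⁻¹) := by rw [hb2]
          _ = (b * a * b⁻¹ * a⁻¹)⁻¹ := by group
      have hc2 : c ^ 2 = 1 := by
        by_contra hne
        obtain ⟨j, hj⟩ := (IsPGroup.iff_orderOf.mp hG) c
        have hj2 : 2 ≤ j := by
          by_contra hlt
          apply hne
          apply orderOf_dvd_iff_pow_eq_one.mp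
          rw [hj]
          have h7 : (2 : ℕ) ^ j ∣ 2 ^ 1 := pow_dvd_pow 2 (by omega)
          simpa using h7
        have h4c : 4 ∣ orderOf c := by
          rw [hj]
          have h7 : (2 : ℕ) ^ 2 ∣ 2 ^ j := pow_dvd_pow 2 hj2
          simpa using h7
        have hc'o : orderOf (c ^ (orderOf c / 4)) = 4 :=
          orderOf_pow_orderOf_div (orderOf_pos c).ne' h4c
        have hvc : v ∈ Subgroup.zpowers c := by
          have h1 := Cfsg.Agent.S0519.mem_zpowers_of_order a 4 hvA
            (Subgroup.pow_mem _ hcA _) hc'o hv4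
          exact (Subgroup.zpowers_le.mpr (Subgroup.pow_mem _ (Subgroup.mem_zpowers c) _)) h1
        obtain ⟨i, hi⟩ := Subgroup.mem_zpowers_iff.mp hvc
        have h1 : b * v * b⁻¹ = v⁻¹ := by
          rw [← hi, ← conj_zpow, hbc, inv_zpow]
        have h2 : b * v * b⁻¹ = v := by rw [hbv, mul_inv_cancel_right]
        have h3 : v ^ 2 = 1 := by
          have h6 : v = v⁻¹ := h2.symm.trans h1
          calc v ^ 2 = v * v := pow_two v
            _ = v * v⁻¹ := by rw [← h6]
            _ = 1 := mul_inv_cancel v
        have h5 : orderOf v ∣ 2 := orderOf_dvd_of_pow_eq_one h3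
        rw [hvo] at h5
        norm_num at h5
      have hbM : b ∈ M := by
        rw [hM]
        have hcw : c ∈ Subgroup.zpowers w := hwmem c hcA hc2
        have e1 : b * a * b⁻¹ = c * a := by rw [hc]; group
        have hca : Commute c a := (hzc c hcw a).symm
        have h1 : b * a ^ 2 * b⁻¹ = a ^ 2 := by
          rw [← conj_pow, e1, hca.mul_pow, hc2, one_mul]
        calc b * a ^ 2 = b * a ^ 2 * b⁻¹ * b := by rw [inv_mul_cancel_right]
          _ = a ^ 2 * b := by rw [h1]
      have hn3 : 3 ≤ n := by
        by_contra hlt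
        have hn2' : n = 2 := by omega
        subst hn2'
        apply hbU
        apply hcent
        have hva : v = a := by rw [hv, hoa]; norm_num
        rw [← hva]; exact hbv
      have hMv : ∀ x ∈ M, x * v = v * x := by
        intro x hx
        have h1 : x * a ^ 2 = a ^ 2 * x := (hM x).mp hx
        have h8 : 8 ∣ orderOf a := by
          rw [hoa]
          have h7 : (2 : ℕ) ^ 3 ∣ 2 ^ n := pow_dvd_pow 2 hn3
          simpa using h7
        have e : v = (a ^ 2) ^ (orderOf a / 8) := by
          rw [hv, ← pow_mul]; congr 1; omega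
        rw [e]
        exact ((show Commute x (a ^ 2) from h1).pow_right _).eq
      obtain ⟨s, hsU, hs⟩ := hpow b hbM hbU
      obtain ⟨x₀, hx₀⟩ : ∃ x₀, x₀ = b * s⁻¹ := ⟨_, rfl⟩
      have hsM : s⁻¹ ∈ M := M.inv_mem (hUM hsU)
      have hx₀M : x₀ ∈ M := by rw [hx₀]; exact M.mul_mem hbM hsM
      have hx₀U : x₀ ∉ Subgroup.zpowers a := by
        intro h
        apply hbU
        have h1 := Subgroup.mul_mem _ h hsU
        rwa [hx₀, inv_mul_cancel_right] at h1
      have hx₀2 : x₀ ^ 2 = 1 ∨ x₀ ^ 2 = w := by
        have hc' := hcommM b hbM s⁻¹ hsM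
        have h1 := mul_pow_of_comm_central b s⁻¹ (hzc _ hc' b).symm (hzc _ hc' s⁻¹).symm 2
        rw [hs, inv_pow, mul_inv_cancel, one_mul] at h1
        have hsum : ∑ i ∈ Finset.range 2, i = 1 := by decide
        rw [hsum, pow_one] at h1
        rw [hx₀, h1]
        exact (mem_zpowers_invol w hww _).mp hc'
      obtain ⟨t, htM, htU, ht2⟩ : ∃ t, t ∈ M ∧ t ∉ Subgroup.zpowers a ∧ t ^ 2 = 1 := by
        rcases hx₀2 with h | h
        · exact ⟨x₀, hx₀M, hx₀U, h⟩
        · refine ⟨v * x₀, M.mul_mem (hUM hvA) hx₀M, ?_, ?_⟩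
          · intro hmem
            apply hx₀U
            have h1 := Subgroup.mul_mem _ (Subgroup.inv_mem _ hvA) hmem
            rwa [inv_mul_cancel_left] at h1
          · have hcv : Commute v x₀ := (hMv x₀ hx₀M).symm
            rw [hcv.mul_pow, h, pow_two, hvv, hww]
      have hmul : ∀ x y : G, x ∈ M → y ∈ M → x ^ 2 = 1 → y ^ 2 = 1 → (x * y) ^ 2 = 1 := by
        intro x y hx hy hx2 hy2
        have hcomm : x * y = y * x := by
          by_cases hxU : x ∈ Subgroup.zpowers a
          · exact (hzc x (hwmem x hxU hx2) y).symm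
          · obtain ⟨j, hj⟩ := hgen x hx hxU y hy
            obtain ⟨Q, hQ⟩ : ∃ Q, Q = x ^ j := ⟨_, rfl⟩
            rw [← hQ] at hj
            obtain ⟨u, hu⟩ : ∃ u, u = y * Q⁻¹ := ⟨_, rfl⟩
            rw [← hu] at hj
            have hy' : y = u * Q := by rw [hu, inv_mul_cancel_right]
            have hQx : Q * x = x * Q := by rw [hQ]; exact ((Commute.refl x).zpow_left j).eq
            have hQM : Q ∈ M := by rw [hQ]; exact M.zpow_mem hx j
            have hxx : x * x = 1 := by rw [← pow_two]; exact hx2
            have hyy : y * y = 1 := by rw [← pow_two]; exact hy2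
            have hQ2 : Q * Q = 1 := by
              rw [hQ, ← zpow_add, ← two_mul, zpow_mul, zpow_two, hxx, one_zpow]
            have hζ := hcommU Q hQM u hj
            obtain ⟨ζ, hζdef⟩ : ∃ ζ, ζ = Q * u * Q⁻¹ * u⁻¹ := ⟨_, rfl⟩
            rw [← hζdef] at hζ
            have hζc : ∀ g : G, g * ζ = ζ * g := hzc ζ hζ
            have h1 : ζ * (u * u) = 1 := by
              calc ζ * (u * u) = (ζ * u) * u := by group
                _ = (u * ζ) * u := by rw [hζc u]
                _ = u * (Q * u * Q⁻¹ * u⁻¹) * u * (Q * Q) := by rw [hQ2, mul_one, hζdef]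
                _ = (u * Q) * (u * Q) := by group
                _ = 1 := by rw [← hy', hyy]
            have hu4 : u ^ 4 = 1 := by
              have h2 : u * u = ζ⁻¹ := eq_inv_of_mul_eq_one_right h1
              have h3 : ζ ^ 2 = 1 := hzp ζ hζ
              calc u ^ 4 = (u ^ 2) ^ 2 := by rw [← pow_mul]
                _ = (u * u) ^ 2 := by rw [pow_two u]
                _ = 1 := by rw [h2, inv_pow, h3, inv_one]
            have huv : u ∈ Subgroup.zpowers v :=
              Cfsg.Agent.S0519.mem_zpowers_of_order a 4 hj hvA hvo hu4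
            obtain ⟨i, hi⟩ := Subgroup.mem_zpowers_iff.mp huv
            have hxu : x * u = u * x := by
              rw [← hi]; exact ((show Commute x v from hMv x hx).zpow_right i).eq
            rw [hy']
            calc x * (u * Q) = (x * u) * Q := by group
              _ = (u * x) * Q := by rw [hxu]
              _ = u * (x * Q) := by group
              _ = u * (Q * x) := by rw [hQx]
              _ = u * Q * x := by group
        have hc : Commute x y := hcomm
        rw [hc.mul_pow, hx2, hy2, one_mul]
      exact cyc_second_alt hG a n hoa (by omega) hnorm hcent M hM t htM htU ht2 hmul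

end Cfsg.Agent.S3761
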