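import Cfsg.Statements.S3762
import Cfsg.Agent.Lib.Helper21.Symp5
import Cfsg.Agent.S0519

set_option autoImplicit false
open Cfsg

namespace Cfsg.Agent.S3762

/-- Let G be a finite p-group of symplectic type: every characteristic abelian subgroup of G is cyclic. Then G = E ∗ R is a central product of subgroups E and R (they commute elementwise and generate G) where E is extraspecial or trivial, and R is cyclic, or p = 2 and R is dihedral, semidihedral or generalized quaternion of order at least 16. -/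
theorem result {G : Type*} [Group G] [Finite G] {p : ℕ} [Fact p.Prime] (hG : IsPGroup p G) (hsymp : ∀ A : Subgroup G, A.Characteristic → IsMulCommutative A → IsCyclic A) : ∃ E R : Subgroup G, (∀ e ∈ E, ∀ r ∈ R, e * r = r * e) ∧ E ⊔ R = ⊤ ∧ (E = ⊥ ∨ Cfsg.IsExtraspecial p ↥E) ∧ (IsCyclic R ∨ (p = 2 ∧ 16 ≤ Nat.card R ∧ ((∃ m : ℕ, Nonempty (↥R ≃* DihedralGroup m)) ∨ (∃ m : ℕ, Nonempty (↥R ≃* QuaternionGroup m)) ∨ Cfsg.IsQuasiDihedral ↥R))) := by
  classical
  by_cases hnt : Nontrivial G
  swap
  · rw [not_nontrivial_iff_subsingleton] at hnt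
    refine ⟨⊥, ⊤, fun e _ r _ => Subsingleton.elim _ _, bot_sup_eq ⊤, Or.inl rfl, Or.inl ?_⟩
    exact isCyclic_of_subsingleton
  obtain ⟨z0, hZ, E, hz0, hZmem, hE, hED, hcenE, hdec, hRn⟩ :=
    Cfsg.Agent.Lib.Helper21.symp_package hG hsymp
  obtain ⟨R, hR⟩ : ∃ R : Subgroup G, R = Subgroup.centralizer (E : Set G) := ⟨_, rfl⟩
  rw [← hR] at hdec hRn
  have hcomm : ∀ e ∈ E, ∀ r ∈ R, e * r = r * e := by
    intro e he r hr
    rw [hR] at hr
    exact Subgroup.mem_centralizer_iff.mp hr e he
  have hsup : E ⊔ R = ⊤ := by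
    rw [eq_top_iff]
    intro g _
    obtain ⟨e, he, r, hr, rfl⟩ := hdec g
    exact Subgroup.mul_mem _ ((le_sup_left : E ≤ E ⊔ R) he) ((le_sup_right : R ≤ E ⊔ R) hr)
  by_cases hRc : IsCyclic ↥R
  · exact ⟨E, R, hcomm, hsup, hE, Or.inl hRc⟩
  have hn : ∀ A : Subgroup ↥R, A.Normal → IsMulCommutative A → IsCyclic A := by
    intro A hAn hAc
    have hA' : IsCyclic ↥(A.map R.subtype) := by
      apply hRn (A.map R.subtype)
      · exact Subgroup.map_subtype_le A
      · intro r hr
        apply Cfsg.Agent.Lib.Helper21.r3_mem_normalizer_of_conj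
        · intro x hx
          obtain ⟨a, ha, rfl⟩ := Subgroup.mem_map.mp hx
          exact Subgroup.mem_map.mpr
            ⟨⟨r, hr⟩ * a * ⟨r, hr⟩⁻¹, hAn.conj_mem a ha ⟨r, hr⟩, by simp⟩
        · intro x hx
          obtain ⟨a, ha, rfl⟩ := Subgroup.mem_map.mp hx
          have := hAn.conj_mem a ha (⟨r, hr⟩⁻¹)
          exact Subgroup.mem_map.mpr ⟨⟨r, hr⟩⁻¹ * a * ⟨r, hr⟩, by simpa using this, by simp⟩
      · intro a ha b hb
        obtain ⟨a', ha', rfl⟩ := Subgroup.mem_map.mp ha
        obtain ⟨b', hb', rfl⟩ := Subgroup.mem_map.mp hb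
        have h1 := hAc.is_comm.comm (⟨a', ha'⟩ : A) ⟨b', hb'⟩
        have h2 : a' * b' = b' * a' := by
          have := congrArg Subtype.val h1
          simpa using this
        have h3 := congrArg Subtype.val h2
        simpa using h3
    exact (Subgroup.equivMapOfInjective A R.subtype
      (Subgroup.subtype_injective R)).isCyclic.mpr hA'
  have hRp : IsPGroup p ↥R := hG.to_subgroup R
  have hclass : p = 2 ∧ ((∃ n : ℕ, Nonempty (↥R ≃* QuaternionGroup n)) ∨
      (∃ n : ℕ, 8 ≤ n ∧ Nonempty (↥R ≃* DihedralGroup n)) ∨ Cfsg.IsQuasiDihedral ↥R) := by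
    by_cases hab : ∃ B : Subgroup ↥R, IsMulCommutative B ∧ ¬ IsCyclic B
    · exact Cfsg.Agent.S0519.result p hRp hn hab
    · push Not at hab
      have hU : Cfsg.Agent.Lib.Lead.UniqP p ↥R := by
        have hz0R : z0 ∈ R := by
          rw [hR, Subgroup.mem_centralizer_iff]
          intro h _
          exact Subgroup.mem_center_iff.mp (hZ (Subgroup.mem_zpowers z0)) h
        obtain ⟨zR, hzR⟩ : ∃ zR : R, zR = ⟨z0, hz0R⟩ := ⟨_, rfl⟩
        have hzRv : (zR : G) = z0 := by rw [hzR]
        have hzRo : orderOf zR = p := by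
          rw [← Subgroup.orderOf_coe, hzRv, hz0]
        have hzRc : ∀ r : R, r * zR = zR * r := by
          intro r
          apply Subtype.ext
          show (r : G) * (zR : G) = (zR : G) * (r : G)
          rw [hzRv]
          exact Subgroup.mem_center_iff.mp (hZ (Subgroup.mem_zpowers z0)) r.1
        have key : ∀ x : R, x ^ p = 1 → x ∈ Subgroup.zpowers zR := by
          intro x hxp
          obtain ⟨B, hB⟩ : ∃ B : Subgroup R,
              B = Subgroup.centralizer (Subgroup.centralizer ({x} : Set R) : Set R) ⊓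
                Subgroup.centralizer ({x} : Set R) := ⟨_, rfl⟩
          have hBmem : ∀ u : R, u ∈ B →
              u ∈ Subgroup.centralizer (Subgroup.centralizer ({x} : Set R) : Set R) ∧
                u ∈ Subgroup.centralizer ({x} : Set R) := by
            intro u hu
            rw [hB, Subgroup.mem_inf] at hu
            exact hu
          have hBc : IsMulCommutative ↥B := ⟨⟨fun a b => Subtype.ext
            (Subgroup.mem_centralizer_iff.mp (hBmem a.1 a.2).1 b.1 (hBmem b.1 b.2).2).symm⟩⟩
          have hBcyc : IsCyclic ↥B := hab B hBc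
          have hxB : x ∈ B := by
            rw [hB, Subgroup.mem_inf]
            refine ⟨?_, ?_⟩
            · rw [Subgroup.mem_centralizer_iff]
              intro h hh
              exact (Cfsg.Agent.Lib.Helper21.mem_centralizer_singleton.mp hh).symm
            · rw [Cfsg.Agent.Lib.Helper21.mem_centralizer_singleton]
          have hzB : zR ∈ B := by
            rw [hB, Subgroup.mem_inf]
            refine ⟨?_, ?_⟩
            · rw [Subgroup.mem_centralizer_iff]
              intro h _
              exact hzRc h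
            · rw [Cfsg.Agent.Lib.Helper21.mem_centralizer_singleton]
              exact hzRc x
          exact Cfsg.Agent.Lib.Helper21.symp_cyc_mem B hBcyc hzB hzRo hxB hxp
        intro x y hxp hyp hx1
        have hxz := key x hxp
        have hyz := key y hyp
        have hox : orderOf x = p := orderOf_eq_prime hxp hx1
        have hzx : zR ∈ Subgroup.zpowers x :=
          Cfsg.Agent.Lib.Helper21.symp_cyc_mem (Subgroup.zpowers zR) inferInstance hxz hox
            (Subgroup.mem_zpowers zR) (by rw [← hzRo]; exact pow_orderOf_eq_one zR)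
        exact ((Subgroup.zpowers_le).mpr hzx) hyz
      rcases Cfsg.Agent.Lib.Lead.uniqP_cyclic_or_quaternion p hRp hU with h | ⟨h2, n, hn'⟩
      · exact absurd h hRc
      · exact ⟨h2, Or.inl ⟨2 ^ n, hn'⟩⟩
  obtain ⟨hp2, hcases⟩ := hclass
  rcases hcases with ⟨n, ⟨f⟩⟩ | ⟨n, hn8, ⟨f⟩⟩ | hqd
  · by_cases h16 : 16 ≤ Nat.card R
    · exact ⟨E, R, hcomm, hsup, hE, Or.inr ⟨hp2, h16, Or.inr (Or.inl ⟨n, ⟨f⟩⟩)⟩⟩
    · have hn0 : n ≠ 0 := by
        rintro rfl
        haveI : Finite (QuaternionGroup 0) := Finite.of_equiv R f.toEquiv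
        have : Finite ℤ := Finite.of_injective
          (fun i : ℤ => (QuaternionGroup.a i : QuaternionGroup 0)) (fun i j h => by injection h)
        exact not_finite ℤ
      haveI : NeZero n := ⟨hn0⟩
      have hcard : Nat.card R = 4 * n := by
        rw [Nat.card_congr f.toEquiv, Nat.card_eq_fintype_card, QuaternionGroup.card]
      obtain ⟨k, hk⟩ := IsPGroup.iff_card.mp hRp
      have hn12 : n = 1 ∨ n = 2 := by
        have h1 : 4 * n < 16 := by rw [← hcard]; omega
        have h2 : 4 * n = 2 ^ k := by rw [← hcard, hk, hp2]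
        have hk4 : k < 4 := by
          by_contra hk4
          push Not at hk4
          have : 2 ^ 4 ≤ 2 ^ k := Nat.pow_le_pow_right (by norm_num) hk4
          omega
        interval_cases k <;> omega
      rcases hn12 with rfl | rfl
      · exact absurd (f.isCyclic.mpr QuaternionGroup.quaternionGroup_one_isCyclic) hRc
      · subst hp2
        subst hR
        have hES := Cfsg.Agent.Lib.Helper21.symp_q8_case hG z0 hz0 hZ hZmem E hED hcenE hdec f
        refine ⟨⊤, ⊥, ?_, sup_bot_eq ⊤, Or.inr hES, Or.inl ?_⟩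
        · intro e _ r hr
          rw [Subgroup.mem_bot] at hr
          rw [hr, mul_one, one_mul]
        · exact inferInstance
  · refine ⟨E, R, hcomm, hsup, hE, Or.inr ⟨hp2, ?_, Or.inl ⟨n, ⟨f⟩⟩⟩⟩
    rw [Nat.card_congr f.toEquiv, DihedralGroup.nat_card]
    omega
  · obtain ⟨m, hm3, hmc, -⟩ := id hqd
    refine ⟨E, R, hcomm, hsup, hE, Or.inr ⟨hp2, ?_, Or.inr (Or.inr hqd)⟩⟩
    rw [hmc]
    calc 16 = 2 ^ 4 := by norm_num
      _ ≤ 2 ^ (m + 1) := Nat.pow_le_pow_right (by norm_num) (by omega)

end Cfsg.Agent.S3762
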