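import Cfsg.Statements.S3807
import Cfsg.Agent.Lib.Helper21.PGroup
import Cfsg.Agent.Lib.Helper21.AbSub

set_option autoImplicit false
open Cfsg

namespace Cfsg.Agent.S3807


open Cfsg.Agent.Lib.Helper21
open scoped commutatorElement

section general

variable {S : Type*} [Group S]

theorem eq_top_of_coatom {A : Subgroup S} (hco : IsCoatom A) {x : S} (hx : x ∉ A)
    {T : Subgroup S} (hAT : A ≤ T) (hxT : x ∈ T) : T = ⊤ :=
  hco.2 T (lt_of_le_of_ne hAT (fun h => hx (h ▸ hxT)))

/-- if the images of `A` commute with each other and with the image of `x`, the image is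
commutative -/
theorem comm_of_coatom {A : Subgroup S} (hco : IsCoatom A) {x : S} (hx : x ∉ A)
    {Q : Type*} [Group Q] (f : S →* Q)
    (h1 : ∀ a ∈ A, ∀ b ∈ A, f a * f b = f b * f a) (h2 : ∀ a ∈ A, f a * f x = f x * f a) :
    ∀ g h : S, f g * f h = f h * f g := by
  have key : ∀ u : Q, (∀ a ∈ A, f a * u = u * f a) → f x * u = u * f x →
      ∀ g : S, f g * u = u * f g := by
    intro u hA hxu g
    have hT : (Subgroup.centralizer ({u} : Set Q)).comap f = ⊤ := by
      apply eq_top_of_coatom hco hx
      · intro a ha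
        show f a ∈ Subgroup.centralizer ({u} : Set Q)
        rw [Subgroup.mem_centralizer_iff]
        rintro _ rfl
        exact (hA a ha).symm
      · show f x ∈ Subgroup.centralizer ({u} : Set Q)
        rw [Subgroup.mem_centralizer_iff]
        rintro _ rfl
        exact hxu.symm
    have hg : g ∈ (Subgroup.centralizer ({u} : Set Q)).comap f := by
      rw [hT]
      exact Subgroup.mem_top g
    have hg' : f g ∈ Subgroup.centralizer ({u} : Set Q) := hg
    exact ((Subgroup.mem_centralizer_iff.mp hg') u rfl).symm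
  have s1 : ∀ a ∈ A, ∀ g : S, f g * f a = f a * f g := by
    intro a ha
    exact key (f a) (fun b hb => h1 b hb a ha) (h2 a ha).symm
  have s2 : ∀ g : S, f g * f x = f x * f g := key (f x) h2 rfl
  intro g h
  exact key (f h) (fun a ha => (s1 a ha h).symm) (s2 h).symm g

end general

section formula

variable {S : Type*} [Group S] [Finite S] {p : ℕ} [Fact p.Prime]

theorem center_le_of_index (hna : ¬ IsMulCommutative S) (A : Subgroup S)
    (hA : IsMulCommutative ↥A) (hAi : A.index = p) : Subgroup.center S ≤ A := by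
  have hp : p.Prime := Fact.out
  have hco : IsCoatom A := isCoatom_of_index_eq_prime hp hAi
  by_contra hle
  obtain ⟨z, hz, hzA⟩ := SetLike.not_le_iff_exists.mp hle
  apply hna
  refine ⟨⟨fun g h => ?_⟩⟩
  refine comm_of_coatom hco hzA (MonoidHom.id S) ?_ ?_ g h
  · intro a ha b hb
    exact congrArg Subtype.val (hA.is_comm.comm (⟨a, ha⟩ : A) ⟨b, hb⟩)
  · intro a _
    exact Subgroup.mem_center_iff.mp hz a

theorem center_index_formula (hS : IsPGroup p S) (hna : ¬ IsMulCommutative S) (A : Subgroup S)
    (hA : IsMulCommutative ↥A) (hAi : A.index = p) :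
    (Subgroup.center S).index = p * Nat.card (commutator S) := by
  classical
  have hp : p.Prime := Fact.out
  haveI hAn : A.Normal := normal_of_index_eq_prime hS hAi
  have hco : IsCoatom A := isCoatom_of_index_eq_prime hp hAi
  have hZA : Subgroup.center S ≤ A := center_le_of_index hna A hA hAi
  have hAcomm : ∀ a ∈ A, ∀ b ∈ A, a * b = b * a := fun a ha b hb =>
    congrArg Subtype.val (hA.is_comm.comm (⟨a, ha⟩ : A) ⟨b, hb⟩)
  obtain ⟨x, hx⟩ : ∃ x : S, x ∉ A := by
    by_contra hall
    push Not at hall
    exact hco.1 ((Subgroup.eq_top_iff' A).mpr hall)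
  have hmemA : ∀ a ∈ A, a * x * a⁻¹ * x⁻¹ ∈ A := by
    intro a ha
    have e : a * x * a⁻¹ * x⁻¹ = a * (x * a⁻¹ * x⁻¹) := by group
    rw [e]
    exact A.mul_mem ha (hAn.conj_mem _ (A.inv_mem ha) x)
  let φ : A →* A := MonoidHom.mk' (fun a => ⟨(a : S) * x * (a : S)⁻¹ * x⁻¹, hmemA a a.2⟩) (by
    intro a b
    apply Subtype.ext
    show ((a : S) * (b : S)) * x * ((a : S) * (b : S))⁻¹ * x⁻¹
      = ((a : S) * x * (a : S)⁻¹ * x⁻¹) * ((b : S) * x * (b : S)⁻¹ * x⁻¹)
    have hv : x * (a : S)⁻¹ * x⁻¹ ∈ A := hAn.conj_mem _ (A.inv_mem a.2) x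
    have hc := hAcomm _ (hmemA b b.2) _ hv
    calc ((a : S) * (b : S)) * x * ((a : S) * (b : S))⁻¹ * x⁻¹
        = (a : S) * (((b : S) * x * (b : S)⁻¹ * x⁻¹) * (x * (a : S)⁻¹ * x⁻¹)) := by group
      _ = (a : S) * ((x * (a : S)⁻¹ * x⁻¹) * ((b : S) * x * (b : S)⁻¹ * x⁻¹)) := by rw [hc]
      _ = ((a : S) * x * (a : S)⁻¹ * x⁻¹) * ((b : S) * x * (b : S)⁻¹ * x⁻¹) := by group)
  have hφ : ∀ a : A, ((φ a : A) : S) = (a : S) * x * (a : S)⁻¹ * x⁻¹ := fun a => rfl
  have hker : φ.ker = (Subgroup.center S).subgroupOf A := by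
    ext a
    rw [MonoidHom.mem_ker, Subgroup.mem_subgroupOf]
    constructor
    · intro h
      have h1 : (a : S) * x * (a : S)⁻¹ * x⁻¹ = 1 := by
        rw [← hφ, h]
        rfl
      have h2 : (a : S) * x = x * (a : S) := by
        have e : (a : S) * x = ((a : S) * x * (a : S)⁻¹ * x⁻¹) * x * (a : S) := by group
        rw [e, h1, one_mul]
      have hT : Subgroup.centralizer ({(a : S)} : Set S) = ⊤ := by
        apply eq_top_of_coatom hco hx
        · intro b hb
          rw [Subgroup.mem_centralizer_iff]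
          rintro _ rfl
          exact hAcomm _ a.2 _ hb
        · rw [Subgroup.mem_centralizer_iff]
          rintro _ rfl
          exact h2
      rw [Subgroup.mem_center_iff]
      intro g
      have hg : g ∈ Subgroup.centralizer ({(a : S)} : Set S) := by
        rw [hT]
        exact Subgroup.mem_top g
      exact ((Subgroup.mem_centralizer_iff.mp hg) _ rfl).symm
    · intro h
      apply Subtype.ext
      rw [hφ]
      have h1 := Subgroup.mem_center_iff.mp h x
      show (a : S) * x * (a : S)⁻¹ * x⁻¹ = 1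
      rw [← h1]
      group
  have hrange : φ.range.map A.subtype = commutator S := by
    apply le_antisymm
    · rintro _ ⟨_, ⟨a, rfl⟩, rfl⟩
      show (a : S) * x * (a : S)⁻¹ * x⁻¹ ∈ commutator S
      rw [commutator_def]
      exact Subgroup.commutator_mem_commutator (Subgroup.mem_top (a : S)) (Subgroup.mem_top x)
    · set D : Subgroup S := φ.range.map A.subtype with hD
      have hDA : D ≤ A := Subgroup.map_subtype_le _
      have hDmem : ∀ a ∈ A, a * x * a⁻¹ * x⁻¹ ∈ D := fun a ha =>
        ⟨φ ⟨a, ha⟩, ⟨⟨a, ha⟩, rfl⟩, rfl⟩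
      have hDform : ∀ d ∈ D, ∃ a ∈ A, d = a * x * a⁻¹ * x⁻¹ := by
        rintro _ ⟨_, ⟨a, rfl⟩, rfl⟩
        exact ⟨a, a.2, rfl⟩
      have hnorm : Subgroup.normalizer (D : Set S) = ⊤ := by
        apply eq_top_of_coatom hco hx
        · intro a ha
          rw [Subgroup.mem_normalizer_iff]
          intro h
          constructor
          · intro hh
            have e : a * h * a⁻¹ = h := by
              rw [hAcomm a ha h (hDA hh), mul_inv_cancel_right]
            rw [e]
            exact hh
          · intro hh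
            have hhA : h ∈ A := by
              have h1 := hAn.conj_mem _ (hDA hh) a⁻¹
              have e : a⁻¹ * (a * h * a⁻¹) * a⁻¹⁻¹ = h := by group
              rwa [e] at h1
            have e : a * h * a⁻¹ = h := by
              rw [hAcomm a ha h hhA, mul_inv_cancel_right]
            rwa [e] at hh
        · rw [mem_normalizer_iff_map]
          apply Subgroup.eq_of_le_of_card_ge
          · rintro _ ⟨d, hd, rfl⟩
            obtain ⟨a, ha, rfl⟩ := hDform d hd
            show x * (a * x * a⁻¹ * x⁻¹) * x⁻¹ ∈ D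
            have e : x * (a * x * a⁻¹ * x⁻¹) * x⁻¹
                = (x * a * x⁻¹) * x * (x * a * x⁻¹)⁻¹ * x⁻¹ := by group
            rw [e]
            exact hDmem _ (hAn.conj_mem a ha x)
          · rw [card_map_conj]
      haveI hDn : D.Normal := Subgroup.normalizer_eq_top_iff.mp hnorm
      rw [← Subgroup.Normal.quotient_commutative_iff_commutator_le]
      refine ⟨⟨fun u v => ?_⟩⟩
      obtain ⟨g, rfl⟩ := QuotientGroup.mk_surjective u
      obtain ⟨h, rfl⟩ := QuotientGroup.mk_surjective v
      refine comm_of_coatom hco hx (QuotientGroup.mk' D) ?_ ?_ g h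
      · intro a ha b hb
        rw [← map_mul, ← map_mul, hAcomm a ha b hb]
      · intro a ha
        have h1 : QuotientGroup.mk' D (a * x * a⁻¹ * x⁻¹) = 1 :=
          (QuotientGroup.eq_one_iff _).mpr (hDmem a ha)
        rw [map_mul, map_mul, map_mul, map_inv, map_inv] at h1
        have e : QuotientGroup.mk' D a * QuotientGroup.mk' D x
            = (QuotientGroup.mk' D a * QuotientGroup.mk' D x * (QuotientGroup.mk' D a)⁻¹ *
              (QuotientGroup.mk' D x)⁻¹) * QuotientGroup.mk' D x * QuotientGroup.mk' D a := by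
          group
        rw [e, h1, one_mul]
  have h1 : Nat.card φ.ker * φ.ker.index = Nat.card A := Subgroup.card_mul_index φ.ker
  rw [Subgroup.index_ker, hker] at h1
  have h2 : Nat.card ((Subgroup.center S).subgroupOf A) = Nat.card (Subgroup.center S) :=
    Nat.card_congr (Subgroup.subgroupOfEquivOfLe hZA).toEquiv
  have h3 : Nat.card φ.range = Nat.card (commutator S) := by
    rw [← hrange, Subgroup.card_map_of_injective A.subtype_injective]
  rw [h2, h3] at h1
  have h4 := Subgroup.card_mul_index A
  have h5 := Subgroup.card_mul_index (Subgroup.center S)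
  rw [hAi, ← h1] at h4
  have hpos : 0 < Nat.card (Subgroup.center S) := Nat.card_pos
  apply Nat.eq_of_mul_eq_mul_left hpos
  rw [h5, ← h4]
  ring

end formula

section count

theorem card_ne_one (X : Type*) [Group X] [Finite X] :
    Nat.card {x : X // x ≠ 1} = Nat.card X - 1 := by
  classical
  haveI : Fintype X := Fintype.ofFinite X
  rw [Nat.card_eq_fintype_card, Nat.card_eq_fintype_card, Fintype.card_subtype_compl,
    Fintype.card_subtype_eq]

theorem card_subgroups_order_p {Q : Type*} [Group Q] [Finite Q] {p : ℕ} [Fact p.Prime]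
    (hQ : Nat.card Q = p ^ 2) (hexp : ∀ a : Q, a ^ p = 1) :
    Nat.card {B : Subgroup Q // Nat.card B = p} = p + 1 := by
  classical
  have hp : p.Prime := Fact.out
  haveI : Fintype {B : Subgroup Q // Nat.card B = p} := Fintype.ofFinite _
  let e : {q : Q // q ≠ 1} ≃
      Σ B : {B : Subgroup Q // Nat.card B = p}, {q : Q // q ∈ B.1 ∧ q ≠ 1} :=
    { toFun := fun q => ⟨⟨Subgroup.zpowers q.1, by
          rw [Nat.card_zpowers]
          exact orderOf_eq_prime (hexp q.1) q.2⟩, ⟨q.1, Subgroup.mem_zpowers q.1, q.2⟩⟩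
      invFun := fun s => ⟨s.2.1, s.2.2.2⟩
      left_inv := fun q => rfl
      right_inv := by
        rintro ⟨⟨B, hB⟩, ⟨q, hqB, hq1⟩⟩
        have hz : Subgroup.zpowers q = B := by
          apply Subgroup.eq_of_le_of_card_ge
          · rw [Subgroup.zpowers_le]
            exact hqB
          · rw [hB, Nat.card_zpowers, orderOf_eq_prime (hexp q) hq1]
        subst hz
        rfl }
  have h1 : Nat.card {q : Q // q ≠ 1} = p ^ 2 - 1 := by rw [card_ne_one, hQ]
  have h2 : ∀ B : {B : Subgroup Q // Nat.card B = p},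
      Nat.card {q : Q // q ∈ B.1 ∧ q ≠ 1} = p - 1 := by
    intro B
    have e2 : {q : Q // q ∈ B.1 ∧ q ≠ 1} ≃ {b : B.1 // b ≠ 1} :=
      { toFun := fun q => ⟨⟨q.1, q.2.1⟩, fun h => q.2.2 (congrArg Subtype.val h)⟩
        invFun := fun b => ⟨b.1.1, b.1.2, fun h => b.2 (Subtype.ext h)⟩
        left_inv := fun q => rfl
        right_inv := fun b => rfl }
    rw [Nat.card_congr e2, card_ne_one, B.2]
  have h3 := Nat.card_congr e
  rw [Nat.card_sigma, h1] at h3
  simp only [h2] at h3
  rw [Finset.sum_const, Finset.card_univ, smul_eq_mul, ← Nat.card_eq_fintype_card] at h3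
  obtain ⟨k, hk⟩ : ∃ k, p = k + 1 := ⟨p - 1, by have := hp.pos; omega⟩
  have e1 : p ^ 2 - 1 = (k + 2) * k := by
    rw [hk]
    have h4 : (k + 1) ^ 2 = (k + 2) * k + 1 := by ring
    rw [h4]
    rfl
  have e2 : p - 1 = k := by omega
  rw [e1, e2] at h3
  have hk0 : 0 < k := by
    have := hp.one_lt
    omega
  have h5 := Nat.eq_of_mul_eq_mul_right hk0 h3
  rw [← h5, hk]

end count

/-- Let S be a non-abelian finite p-group with an abelian subgroup A of index p. Then [S : Z(S)] = p·#[S,S], and either [S,S] has order p, S/Z(S) is elementary abelian of order p², and S has exactly p + 1 abelian subgroups of index p; or [S,S] has order at least p² and A is the only abelian subgroup of index p in S. -/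
theorem result {S : Type*} [Group S] [Finite S] (p : ℕ) [Fact p.Prime] (hS : IsPGroup p S) (hna : ¬ IsMulCommutative S)
    (A : Subgroup S) (hA : IsMulCommutative ↥A) (hAi : A.index = p) :
    (Subgroup.center S).index = p * Nat.card (commutator S) ∧
      ((Nat.card (commutator S) = p ∧ Cfsg.IsElementaryAbelian p (⊤ : Subgroup (S ⧸ Subgroup.center S)) ∧
          Nat.card (S ⧸ Subgroup.center S) = p ^ 2 ∧
          Nat.card {B : Subgroup S // IsMulCommutative ↥B ∧ B.index = p} = p + 1) ∨
        (p ^ 2 ≤ Nat.card (commutator S) ∧ ∀ B : Subgroup S, IsMulCommutative ↥B → B.index = p → B = A)) := by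
  classical
  have hp : p.Prime := Fact.out
  have hformula := center_index_formula hS hna A hA hAi
  refine ⟨hformula, ?_⟩
  have hco : IsCoatom A := isCoatom_of_index_eq_prime hp hAi
  have hcomm1 : Nat.card (commutator S) ≠ 1 := by
    intro h
    have hbot : commutator S = ⊥ := Subgroup.card_eq_one.mp h
    apply hna
    refine ⟨⟨fun a b => ?_⟩⟩
    have h1 : ⁅a, b⁆ ∈ commutator S := by
      rw [commutator_def]
      exact Subgroup.commutator_mem_commutator (Subgroup.mem_top a) (Subgroup.mem_top b)
    rw [hbot, Subgroup.mem_bot, commutatorElement_def] at h1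
    have e : a * b = (a * b * a⁻¹ * b⁻¹) * b * a := by group
    rw [e, h1, one_mul]
  obtain ⟨k, hk⟩ := IsPGroup.iff_card.mp (hS.to_subgroup (commutator S))
  have hk0 : k ≠ 0 := by
    rintro rfl
    exact hcomm1 (by rw [hk, pow_zero])
  set Z : Subgroup S := Subgroup.center S with hZ
  by_cases hk1 : k = 1
  · left
    have hc : Nat.card (commutator S) = p := by rw [hk, hk1, pow_one]
    have hidx : Z.index = p ^ 2 := by rw [hformula, hc, sq]
    have hqcard : Nat.card (S ⧸ Z) = p ^ 2 := hidx
    have hqcomm : IsMulCommutative (S ⧸ Z) :=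
      IsPGroup.isMulCommutative_of_card_eq_prime_sq hqcard
    have hqexp : ∀ a : S ⧸ Z, a ^ p = 1 := by
      intro a
      have h1 : orderOf a ∣ p ^ 2 := hqcard ▸ orderOf_dvd_natCard a
      obtain ⟨j, hj, hoj⟩ := (Nat.dvd_prime_pow hp).mp h1
      have hj2 : j ≠ 2 := by
        rintro rfl
        apply hna
        haveI : IsCyclic (S ⧸ Z) := isCyclic_of_orderOf_eq_card a (by rw [hoj, hqcard])
        exact (QuotientGroup.mk' Z).isMulCommutative_of_isCyclic_of_ker_le_center
          (by rw [QuotientGroup.ker_mk'])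
      have hj1 : j ≤ 1 := by omega
      have h2 : orderOf a ∣ p := by
        rw [hoj]
        exact (pow_dvd_pow p hj1).trans (by rw [pow_one])
      exact orderOf_dvd_iff_pow_eq_one.mp h2
    refine ⟨hc, ⟨?_, fun a _ => hqexp a⟩, hqcard, ?_⟩
    · exact ⟨⟨fun a b => Subtype.ext (hqcomm.is_comm.comm (a : S ⧸ Z) b)⟩⟩
    · rw [← card_subgroups_order_p hqcard hqexp]
      have hπs : Function.Surjective (QuotientGroup.mk' Z) := QuotientGroup.mk'_surjective Z
      refine Nat.card_congr ?_
      refine
        { toFun := fun B => ⟨B.1.map (QuotientGroup.mk' Z), ?_⟩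
          invFun := fun B => ⟨B.1.comap (QuotientGroup.mk' Z), ?_, ?_⟩
          left_inv := ?_
          right_inv := ?_ }
      · have hZB : Z ≤ B.1 := center_le_of_index hna B.1 B.2.1 B.2.2
        have h1 : (B.1.map (QuotientGroup.mk' Z)).index = p := by
          rw [Subgroup.index_map_eq B.1 hπs (by rw [QuotientGroup.ker_mk']; exact hZB)]
          exact B.2.2
        have h2 := Subgroup.card_mul_index (B.1.map (QuotientGroup.mk' Z))
        rw [h1, hqcard, sq] at h2
        exact Nat.eq_of_mul_eq_mul_right hp.pos h2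
      · have hcyc : IsCyclic B.1 := isCyclic_of_prime_card (p := p) B.2
        apply ((QuotientGroup.mk' Z).subgroupComap B.1).isMulCommutative_of_isCyclic_of_ker_le_center
        intro c hc
        rw [MonoidHom.mem_ker] at hc
        have h1 : QuotientGroup.mk' Z (c : S) = 1 := congrArg Subtype.val hc
        have h2 : (c : S) ∈ Z := (QuotientGroup.eq_one_iff _).mp h1
        rw [Subgroup.mem_center_iff]
        intro g
        apply Subtype.ext
        exact Subgroup.mem_center_iff.mp h2 (g : S)
      · rw [Subgroup.index_comap_of_surjective _ hπs]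
        have h2 := Subgroup.card_mul_index B.1
        rw [B.2, hqcard, sq] at h2
        exact Nat.eq_of_mul_eq_mul_left hp.pos h2
      · intro B
        apply Subtype.ext
        have hZB : Z ≤ B.1 := center_le_of_index hna B.1 B.2.1 B.2.2
        exact Subgroup.comap_map_eq_self (by rw [QuotientGroup.ker_mk']; exact hZB)
      · intro B
        apply Subtype.ext
        exact Subgroup.map_comap_eq_self_of_surjective hπs B.1
  · right
    have hk2 : 2 ≤ k := by omega
    refine ⟨by rw [hk]; exact Nat.pow_le_pow_right hp.pos hk2, ?_⟩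
    intro B hB hBi
    by_contra hBA
    have hcoB : IsCoatom B := isCoatom_of_index_eq_prime hp hBi
    have hnle : ¬ B ≤ A := by
      intro hle
      rcases hle.eq_or_lt with h | h
      · exact hBA h
      · exact hco.1 (hcoB.2 A h)
    obtain ⟨b, hbB, hbA⟩ := SetLike.not_le_iff_exists.mp hnle
    have hcen : A ⊓ B ≤ Z := by
      intro g hg
      have hT : Subgroup.centralizer ({g} : Set S) = ⊤ := by
        apply eq_top_of_coatom hco hbA
        · intro a ha
          rw [Subgroup.mem_centralizer_iff]
          rintro _ rfl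
          exact congrArg Subtype.val (hA.is_comm.comm (⟨_, hg.1⟩ : A) ⟨a, ha⟩)
        · rw [Subgroup.mem_centralizer_iff]
          rintro _ rfl
          exact congrArg Subtype.val (hB.is_comm.comm (⟨_, hg.2⟩ : B) ⟨b, hbB⟩)
      rw [Subgroup.mem_center_iff]
      intro x
      have hx : x ∈ Subgroup.centralizer ({g} : Set S) := by
        rw [hT]
        exact Subgroup.mem_top x
      exact ((Subgroup.mem_centralizer_iff.mp hx) _ rfl).symm
    have h1 : (A ⊓ B).index ≤ p * p := by
      have := Subgroup.index_inf_le (H := A) (K := B)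
      rwa [hAi, hBi] at this
    have h2 : Z.index ∣ (A ⊓ B).index := Subgroup.index_dvd_of_le hcen
    have h3 : Z.index ≤ p * p :=
      (Nat.le_of_dvd (Nat.pos_of_ne_zero Subgroup.index_ne_zero_of_finite) h2).trans h1
    rw [hformula, hk] at h3
    have h4 : p ^ k ≤ p := Nat.le_of_mul_le_mul_left h3 hp.pos
    have h5 : p ^ 2 ≤ p ^ k := Nat.pow_le_pow_right hp.pos hk2
    have h6 : p ^ 2 ≤ p ^ 1 := by
      rw [pow_one]
      exact h5.trans h4
    have h7 : 2 ≤ 1 := (Nat.pow_le_pow_iff_right hp.one_lt).mp h6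
    omega

end Cfsg.Agent.S3807
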