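import Cfsg.Statements.S3808
import Cfsg.Agent.Lib.Helper21.PGroup

set_option autoImplicit false
open Cfsg

namespace Cfsg.Agent.S3808

open Cfsg.Agent.Lib.Helper21

/-- Let S be a finite p-group with an extraspecial subgroup Q of index p. Then either Z(S) = Z(Q), or S = Q·Z(S) and Z(S) has order p². -/
theorem result {S : Type*} [Group S] [Finite S] (p : ℕ) [Fact p.Prime] (hS : IsPGroup p S) (Q : Subgroup S) (hQ : Cfsg.IsExtraspecial p ↥Q) (hQi : Q.index = p) :
    Subgroup.center S = (Subgroup.center ↥Q).map Q.subtype ∨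
      (Q ⊔ Subgroup.center S = ⊤ ∧ Nat.card (Subgroup.center S) = p ^ 2) := by
  have hp : p.Prime := Fact.out
  have hQn : Q.Normal := normal_of_index_eq_prime hS hQi
  obtain ⟨⟨hQp, hfr, hcomm⟩, hcard⟩ := hQ
  have hZn : ((Subgroup.center ↥Q).map Q.subtype).Normal := inferInstance
  have hZcard : Nat.card ((Subgroup.center ↥Q).map Q.subtype) = p := by
    rw [← hcard]
    exact Nat.card_congr
      ((Subgroup.center ↥Q).equivMapOfInjective Q.subtype Q.subtype_injective).symm.toEquiv
  have hZle : (Subgroup.center ↥Q).map Q.subtype ≤ Subgroup.center S :=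
    le_center_of_normal_of_card_eq_prime hS _ hZcard
  have hinf : Q ⊓ Subgroup.center S ≤ (Subgroup.center ↥Q).map Q.subtype := by
    rintro x ⟨hxQ, hxZ⟩
    have hxZ' : x ∈ Subgroup.center S := hxZ
    refine ⟨⟨x, hxQ⟩, ?_, rfl⟩
    show (⟨x, hxQ⟩ : Q) ∈ Subgroup.center Q
    rw [Subgroup.mem_center_iff]
    intro g
    exact Subtype.ext (Subgroup.mem_center_iff.mp hxZ' g)
  by_cases hle : Subgroup.center S ≤ Q
  · left
    exact le_antisymm (fun x hx => hinf ⟨hle hx, hx⟩) hZle
  · right
    have hco := isCoatom_of_index_eq_prime hp hQi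
    have htop : Q ⊔ Subgroup.center S = ⊤ :=
      hco.2 _ (lt_of_le_of_ne le_sup_left (fun h => hle (h ▸ le_sup_right)))
    refine ⟨htop, ?_⟩
    have h1 := card_sup_mul_card_inf Q (Subgroup.center S)
    rw [htop] at h1
    have h2 : Q ⊓ Subgroup.center S = (Subgroup.center ↥Q).map Q.subtype :=
      le_antisymm hinf (le_inf (Subgroup.map_subtype_le _) hZle)
    rw [h2, hZcard] at h1
    have h3 := Q.card_mul_index
    rw [hQi] at h3
    have h4 : Nat.card (⊤ : Subgroup S) = Nat.card S := Nat.card_congr Subgroup.topEquiv.toEquiv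
    rw [h4, ← h3] at h1
    have hQpos : 0 < Nat.card Q := Nat.card_pos
    have h5 : p * p = Nat.card (Subgroup.center S) := by
      apply Nat.eq_of_mul_eq_mul_left hQpos
      rw [← h1]; ring
    rw [← h5]; ring

end Cfsg.Agent.S3808
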