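import Cfsg.Statements.S3809
import Cfsg.Agent.Lib.Helper21.PGroup
import Cfsg.Agent.Lib.Helper19.ExtraP3
import Cfsg.Agent.S0095

set_option autoImplicit false
open Cfsg

namespace Cfsg.Agent.S3809


open Cfsg.Agent.Lib.Helper21
open scoped commutatorElement

/-- Let S be a finite p-group with an extraspecial subgroup of index p. Then S has order p^(2+2n) for some n ≥ 1, derived length at most 3, and exponent dividing p³. -/
theorem result {S : Type*} [Group S] [Finite S] (p : ℕ) [Fact p.Prime] (hS : IsPGroup p S) (Q : Subgroup S) (hQ : Cfsg.IsExtraspecial p ↥Q) (hQi : Q.index = p) :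
    (∃ n : ℕ, 1 ≤ n ∧ Nat.card S = p ^ (2 + 2 * n)) ∧ derivedSeries S 3 = ⊥ ∧ ∀ x : S, x ^ (p ^ 3) = 1 := by
  classical
  have hp : p.Prime := Fact.out
  haveI hQn : Q.Normal := normal_of_index_eq_prime hS hQi
  have hcardq : Nat.card (S ⧸ Q) = p := hQi
  have hpowQ : ∀ x : S, x ^ p ∈ Q := by
    intro x
    rw [← QuotientGroup.eq_one_iff, QuotientGroup.mk_pow, ← hcardq]
    exact pow_card_eq_one'
  haveI : IsCyclic (S ⧸ Q) := isCyclic_of_prime_card (p := p) hcardq
  have hcommQ : commutator S ≤ Q := by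
    rw [commutator_def, Subgroup.commutator_le]
    intro g _ h _
    rw [← QuotientGroup.eq_one_iff, commutatorElement_def]
    have hc : (g : S ⧸ Q) * (h : S ⧸ Q) = (h : S ⧸ Q) * (g : S ⧸ Q) :=
      (IsCyclic.isMulCommutative (α := S ⧸ Q)).is_comm.comm _ _
    have e : ((g * h * g⁻¹ * h⁻¹ : S) : S ⧸ Q)
        = (g : S ⧸ Q) * (h : S ⧸ Q) * (g : S ⧸ Q)⁻¹ * (h : S ⧸ Q)⁻¹ := rfl
    rw [e, hc]
    group
  refine ⟨?_, ?_, ?_⟩
  · obtain ⟨n, hn1, hn⟩ := Cfsg.Agent.S0095.result hQ
    refine ⟨n, hn1, ?_⟩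
    rw [← Subgroup.card_mul_index Q, hn, hQi]
    ring
  · set Z : Subgroup S := (Subgroup.center Q).map Q.subtype with hZ
    have h1 : derivedSeries S 1 ≤ Q := by
      rw [derivedSeries_succ, derivedSeries_zero, ← commutator_def]
      exact hcommQ
    have h2 : derivedSeries S 2 ≤ Z := by
      rw [derivedSeries_succ]
      refine (Subgroup.commutator_mono h1 h1).trans ?_
      rw [← Subgroup.map_subtype_commutator, hQ.1.2.2]
    have h3 : ⁅Z, Z⁆ = ⊥ := by
      rw [Subgroup.commutator_eq_bot_iff_le_centralizer]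
      rintro _ ⟨a, ha, rfl⟩
      rw [Subgroup.mem_centralizer_iff]
      rintro _ ⟨b, hb, rfl⟩
      have h4 := Subgroup.mem_center_iff.mp ha b
      exact congrArg Subtype.val h4
    rw [derivedSeries_succ, eq_bot_iff, ← h3]
    exact Subgroup.commutator_mono h2 h2
  · intro x
    have h1 : (⟨x ^ p, hpowQ x⟩ : Q) ^ p ∈ Subgroup.center Q :=
      Cfsg.Agent.Lib.Helper19.es_pow_mem_center hQ _
    have h2 := Cfsg.Agent.Lib.Helper19.es_center_pow hQ h1
    have h3 : ((x ^ p) ^ p) ^ p = 1 := congrArg Subtype.val h2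
    rw [← pow_mul, ← pow_mul] at h3
    rw [show p ^ 3 = p * (p * p) by ring]
    exact h3

end Cfsg.Agent.S3809
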