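import Cfsg.Statements.S3810
import Cfsg.Agent.Lib.Helper21.PGroup
import Cfsg.Agent.Lib.Helper21.AbSub
import Cfsg.Agent.S3807

set_option autoImplicit false
open Cfsg

namespace Cfsg.Agent.S3810


open Cfsg.Agent.Lib.Helper21

/-- Let S be a finite p-group with an extraspecial subgroup of index p. Then S has an abelian subgroup of index p if and only if S has order p⁴. -/
theorem result {S : Type*} [Group S] [Finite S] (p : ℕ) [Fact p.Prime] (hS : IsPGroup p S) (Q : Subgroup S) (hQ : Cfsg.IsExtraspecial p ↥Q) (hQi : Q.index = p) :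
    (∃ A : Subgroup S, IsMulCommutative ↥A ∧ A.index = p) ↔ Nat.card S = p ^ 4 := by
  classical
  have hp : p.Prime := Fact.out
  constructor
  · rintro ⟨A, hA, hAi⟩
    haveI hAn : A.Normal := normal_of_index_eq_prime hS hAi
    have hQp : IsPGroup p Q := hS.to_subgroup Q
    have hZcard : Nat.card (Subgroup.center Q) = p := hQ.2
    have hcomm : commutator Q = Subgroup.center Q := hQ.1.2.2
    have hQna : ¬ IsMulCommutative Q := by
      intro hc
      have hbot : commutator Q = ⊥ := by
        rw [commutator_def, Subgroup.commutator_eq_bot_iff_le_centralizer]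
        intro x _
        rw [Subgroup.mem_centralizer_iff]
        intro y _
        exact hc.is_comm.comm y x
      rw [hbot] at hcomm
      rw [← hcomm, Subgroup.card_bot] at hZcard
      exact hp.one_lt.ne hZcard
    have hBab : IsMulCommutative (A.subgroupOf Q) := by
      refine ⟨⟨fun a b => ?_⟩⟩
      have h1 := hA.is_comm.comm (⟨((a : Q) : S), Subgroup.mem_subgroupOf.mp a.2⟩ : A)
        ⟨((b : Q) : S), Subgroup.mem_subgroupOf.mp b.2⟩
      have h2 : ((a : Q) : S) * ((b : Q) : S) = ((b : Q) : S) * ((a : Q) : S) :=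
        congrArg Subtype.val h1
      exact Subtype.ext (Subtype.ext h2)
    have hrel : A.relIndex Q ∣ p := hAi ▸ Subgroup.relIndex_dvd_index_of_normal A Q
    have hBi : (A.subgroupOf Q).index = p := by
      rcases (Nat.dvd_prime hp).mp hrel with h | h
      · exfalso
        have hQA : Q ≤ A := Subgroup.relIndex_eq_one.mp h
        apply hQna
        refine ⟨⟨fun a b => ?_⟩⟩
        have h1 := hA.is_comm.comm (⟨(a : S), hQA a.2⟩ : A) ⟨(b : S), hQA b.2⟩
        have h2 : (a : S) * (b : S) = (b : S) * (a : S) := congrArg Subtype.val h1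
        exact Subtype.ext h2
      · exact h
    have hform := Cfsg.Agent.S3807.center_index_formula hQp hQna (A.subgroupOf Q) hBab hBi
    rw [hcomm, hZcard] at hform
    have h1 := Subgroup.card_mul_index (Subgroup.center Q)
    rw [hZcard, hform] at h1
    have h2 := Subgroup.card_mul_index Q
    rw [hQi, ← h1] at h2
    rw [← h2]
    ring
  · intro hcard
    obtain ⟨M, hM, hMcard⟩ := exists_abelian_card_cube hS hcard.ge
    refine ⟨M, hM, ?_⟩
    have h1 := Subgroup.card_mul_index M
    rw [hMcard, hcard] at h1
    have h2 : p ^ 4 = p ^ 3 * p := by ring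
    rw [h2] at h1
    exact Nat.eq_of_mul_eq_mul_left (pow_pos hp.pos 3) h1

end Cfsg.Agent.S3810
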