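import Cfsg.Statements.S3811
import Cfsg.Agent.Lib.Helper21.Soft
import Cfsg.Agent.Lib.Helper21.Basic
import Cfsg.Agent.Lib.Helper21.SylowInt

set_option autoImplicit false
open Cfsg

namespace Cfsg.Agent.S3811

open Cfsg.Agent.Lib.Helper21

set_option linter.style.haveILetI false

variable {P : Type*} [Group P]

/-- the normalizer tower above `E` -/
def tower (E : Subgroup P) : ℕ → Subgroup P
  | 0 => E
  | j + 1 => Subgroup.normalizer ((tower E j : Subgroup P) : Set P)

theorem tower_le_succ (E : Subgroup P) (j : ℕ) : tower E j ≤ tower E (j + 1) :=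
  Subgroup.le_normalizer

theorem tower_mono (E : Subgroup P) {i j : ℕ} (h : i ≤ j) : tower E i ≤ tower E j := by
  induction h with
  | refl => exact le_rfl
  | step _ ih => exact ih.trans (tower_le_succ E _)

/-- conjugation by a normalizing element, as an automorphism of the subgroup -/
def conjAut (K : Subgroup P) (σ : P) (hσ : σ ∈ Subgroup.normalizer (K : Set P)) : ↥K ≃* ↥K where
  toFun k := ⟨σ * k * σ⁻¹, (Subgroup.mem_normalizer_iff.mp hσ k).mp k.2⟩
  invFun k := ⟨σ⁻¹ * k * σ, by
    apply (Subgroup.mem_normalizer_iff.mp hσ (σ⁻¹ * k * σ)).mpr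
    have : σ * (σ⁻¹ * k * σ) * σ⁻¹ = k := by group
    rw [this]; exact k.2⟩
  left_inv k := by
    apply Subtype.ext
    show σ⁻¹ * (σ * k * σ⁻¹) * σ = k
    group
  right_inv k := by
    apply Subtype.ext
    show σ * (σ⁻¹ * k * σ) * σ⁻¹ = k
    group
  map_mul' a b := by
    apply Subtype.ext
    show σ * (a * b) * σ⁻¹ = (σ * a * σ⁻¹) * (σ * b * σ⁻¹)
    group

/-- members of the upper central series of `K` are normalized by the normalizer of `K` -/
theorem ucs_conj (K : Subgroup P) (n : ℕ) (x : P) (hx : x ∈ Subgroup.normalizer (K : Set P))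
    (y : P) (hy : y ∈ (Subgroup.upperCentralSeries ↥K n).map K.subtype) :
    x * y * x⁻¹ ∈ (Subgroup.upperCentralSeries ↥K n).map K.subtype := by
  obtain ⟨z, hz, rfl⟩ := hy
  have hchar : (Subgroup.upperCentralSeries ↥K n).map (conjAut K x hx).toMonoidHom =
      Subgroup.upperCentralSeries ↥K n :=
    Subgroup.characteristic_iff_map_eq.mp inferInstance _
  have h1 : conjAut K x hx z ∈ Subgroup.upperCentralSeries ↥K n := by
    rw [← hchar]; exact Subgroup.mem_map_of_mem _ hz
  exact ⟨conjAut K x hx z, h1, rfl⟩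

theorem map_subtype_ne (K : Subgroup P) (A : Subgroup ↥K) (hA : A ≠ ⊤) : A.map K.subtype ≠ K := by
  intro h
  apply hA
  apply Subgroup.map_injective K.subtype_injective
  rw [h, ← MonoidHom.range_eq_map, Subgroup.range_subtype]

/-- **One level of the tower**, in abstract form. -/
theorem level [Finite P] (p : ℕ) [Fact p.Prime] (hP : IsPGroup p P) (E K M : Subgroup P)
    (hE : ∀ a ∈ E, ∀ b ∈ E, a * b = b * a) (hC : Subgroup.centralizer (E : Set P) ≤ E)
    (hEM : E ≤ M) (hMK : M ≤ K) (hMN : Subgroup.normalizer (M : Set P) ≤ K)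
    (hMp : M.relIndex K = p)
    (h1 : ∀ A : Subgroup P, E ≤ A → A ≤ K → A ≠ K →
      A ≤ M ∧ Subgroup.normalizer (A : Set P) ≤ K ∧
        A.relIndex (Subgroup.normalizer (A : Set P)) = p)
    (h2 : ∀ A : Subgroup P, E ≤ A → A ≤ K → A.relIndex K = p → A = M)
    (j : ℕ) (hj : E.relIndex K = p ^ (j + 1))
    (σ : P) (hσ : σ ∈ Subgroup.normalizer (K : Set P)) (hσK : σ ∉ K) :
    Subgroup.upperCentralSeries ↥K (j + 2) = ⊤ ∧
    Subgroup.upperCentralSeries ↥K (j + 1) ≠ ⊤ ∧
    (Subgroup.upperCentralSeries ↥K (j + 1)).map K.subtype ≤ M ∧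
    ((Subgroup.upperCentralSeries ↥K (j + 1)).map K.subtype).relIndex M = p ∧
    ∀ y ∈ M, σ⁻¹ * y * σ ∈ M → y ∈ (Subgroup.upperCentralSeries ↥K (j + 1)).map K.subtype := by
  have hp : p.Prime := Fact.out
  have hEK : E ≤ K := hEM.trans hMK
  have hE' : ∀ a ∈ E.subgroupOf K, ∀ b ∈ E.subgroupOf K, a * b = b * a := by
    intro a ha b hb
    apply Subtype.ext
    exact hE a (Subgroup.mem_subgroupOf.mp ha) b (Subgroup.mem_subgroupOf.mp hb)
  have hEF : E.subgroupOf K ⊔ (E.subgroupOf K).map (conjAut K σ hσ).toMonoidHom = ⊤ := by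
    by_contra hne
    have hA1 : E ≤ (E.subgroupOf K ⊔
        (E.subgroupOf K).map (conjAut K σ hσ).toMonoidHom).map K.subtype := by
      intro e he
      exact ⟨⟨e, hEK he⟩, Subgroup.mem_sup_left (Subgroup.mem_subgroupOf.mpr he), rfl⟩
    have hA2 : (E.subgroupOf K ⊔
        (E.subgroupOf K).map (conjAut K σ hσ).toMonoidHom).map K.subtype ≤ K :=
      Subgroup.map_subtype_le _
    obtain ⟨hAM, -, -⟩ := h1 _ hA1 hA2 (map_subtype_ne K _ hne)
    have hEσ : ∀ e ∈ E, σ * e * σ⁻¹ ∈ M := by
      intro e he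
      apply hAM
      exact ⟨conjAut K σ hσ ⟨e, hEK he⟩, Subgroup.mem_sup_right
        (Subgroup.mem_map_of_mem _ (Subgroup.mem_subgroupOf.mpr he)), rfl⟩
    have hσ' : σ⁻¹ ∈ Subgroup.normalizer (K : Set P) := inv_mem hσ
    have hB1 : E ≤ M.map (MulAut.conj σ⁻¹).toMonoidHom := by
      intro e he
      rw [mem_map_conj, inv_inv]
      exact hEσ e he
    have hKσ : K.map (MulAut.conj σ⁻¹).toMonoidHom = K := (mem_normalizer_iff_map K σ⁻¹).mp hσ'
    have hB2 : M.map (MulAut.conj σ⁻¹).toMonoidHom ≤ K := by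
      rw [← hKσ]; exact Subgroup.map_mono hMK
    have hB3 : (M.map (MulAut.conj σ⁻¹).toMonoidHom).relIndex K = p := by
      have h3 := Subgroup.relIndex_map_map_of_injective (f := (MulAut.conj σ⁻¹).toMonoidHom) M K
        (MulAut.conj σ⁻¹).injective
      rw [hKσ] at h3
      rw [h3]; exact hMp
    have hB := h2 _ hB1 hB2 hB3
    have h4 : σ⁻¹ ∈ Subgroup.normalizer (M : Set P) := (mem_normalizer_iff_map M σ⁻¹).mpr hB
    have h5 : σ⁻¹ ∈ K := hMN h4
    exact hσK (by simpa using K.inv_mem h5)
  have hZ : Subgroup.center ↥K ≤ E.subgroupOf K := by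
    intro z hz
    rw [Subgroup.mem_subgroupOf]
    apply hC
    rw [Subgroup.mem_centralizer_iff]
    intro e he
    have := Subgroup.mem_center_iff.mp hz ⟨e, hEK he⟩
    exact congrArg Subtype.val this
  have hnorm : ∀ A : Subgroup ↥K, E.subgroupOf K ≤ A → A ≠ ⊤ →
      A.relIndex (Subgroup.normalizer (A : Set ↥K)) = p := by
    intro A hEA hAtop
    have hA1 : E ≤ A.map K.subtype := by
      intro e he
      exact ⟨⟨e, hEK he⟩, hEA (Subgroup.mem_subgroupOf.mpr he), rfl⟩
    have hA2 : A.map K.subtype ≤ K := Subgroup.map_subtype_le _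
    obtain ⟨-, hNK, hrel⟩ := h1 _ hA1 hA2 (map_subtype_ne K A hAtop)
    have hAeq : (A.map K.subtype).subgroupOf K = A :=
      Subgroup.comap_map_eq_self_of_injective K.subtype_injective A
    have h3 := Subgroup.subgroupOf_normalizer_eq hA2
    rw [hAeq] at h3
    rw [← h3]
    have h4 := Subgroup.relIndex_subgroupOf (H := A.map K.subtype) hNK
    rw [hAeq] at h4
    rw [h4]; exact hrel
  obtain ⟨htop, hrest⟩ := soft_class (hP.to_subgroup K) (E.subgroupOf K) _ hE'
    (conjAut K σ hσ) rfl hEF hZ hnorm (j + 1) hj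
  obtain ⟨hne, hMidx, hinf, hZrel⟩ := hrest (by omega)
  have hM' : (E.subgroupOf K ⊔ Subgroup.upperCentralSeries ↥K (j + 1)).map K.subtype = M := by
    apply h2
    · intro e he
      exact ⟨⟨e, hEK he⟩, Subgroup.mem_sup_left (Subgroup.mem_subgroupOf.mpr he), rfl⟩
    · exact Subgroup.map_subtype_le _
    · show (((E.subgroupOf K ⊔ Subgroup.upperCentralSeries ↥K (j + 1)).map K.subtype).comap
        K.subtype).index = p
      rw [Subgroup.comap_map_eq_self_of_injective K.subtype_injective]
      exact hMidx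
  refine ⟨htop, hne, ?_, ?_, ?_⟩
  · rw [← hM']; exact Subgroup.map_mono le_sup_right
  · rw [← hM', Subgroup.relIndex_map_map_of_injective _ _ K.subtype_injective]
    exact hZrel
  · intro y hy hyσ
    rw [← hM'] at hy hyσ
    obtain ⟨m, hm, hmy⟩ := hy
    obtain ⟨m', hm', hmy'⟩ := hyσ
    have h3 : m ∈ (E.subgroupOf K ⊔ Subgroup.upperCentralSeries ↥K (j + 1)) ⊓
        ((E.subgroupOf K).map (conjAut K σ hσ).toMonoidHom ⊔
          Subgroup.upperCentralSeries ↥K (j + 1)) := by
      refine ⟨hm, ?_⟩
      have hchar : (Subgroup.upperCentralSeries ↥K (j + 1)).map (conjAut K σ hσ).toMonoidHom =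
          Subgroup.upperCentralSeries ↥K (j + 1) :=
        Subgroup.characteristic_iff_map_eq.mp inferInstance _
      have h4 : (E.subgroupOf K ⊔ Subgroup.upperCentralSeries ↥K (j + 1)).map
          (conjAut K σ hσ).toMonoidHom =
          (E.subgroupOf K).map (conjAut K σ hσ).toMonoidHom ⊔
            Subgroup.upperCentralSeries ↥K (j + 1) := by
        rw [Subgroup.map_sup, hchar]
      rw [← h4]
      refine ⟨m', hm', ?_⟩
      apply Subtype.ext
      show σ * (m' : P) * σ⁻¹ = m
      have e1 : (m' : P) = σ⁻¹ * y * σ := hmy'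
      have e2 : (m : P) = y := hmy
      rw [e1, e2]; group
    rw [hinf] at h3
    exact ⟨m, h3, hmy⟩

/-- **The orbit count.** -/
theorem count [Finite P] (p : ℕ) [Fact p.Prime] (hP : IsPGroup p P) (K M Z : Subgroup P)
    (hZM : Z ≤ M) (hMK : M ≤ K) (hZp : Z.relIndex M = p) (hMp : M.relIndex K = p)
    (hZn : ∀ x ∈ Subgroup.normalizer (K : Set P), ∀ y ∈ Z, x * y * x⁻¹ ∈ Z)
    (hint : ∀ σ ∈ Subgroup.normalizer (K : Set P), σ ∉ K → ∀ y ∈ M, σ⁻¹ * y * σ ∈ M → y ∈ Z)
    (hKtop : K ≠ ⊤) :
    K.relIndex (Subgroup.normalizer (K : Set P)) = p := by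
  have hp : p.Prime := Fact.out
  haveI : Group.IsNilpotent P := hP.isNilpotent
  have hnc : NormalizerCondition P := Group.normalizerCondition_of_isNilpotent
  have hlt : K < Subgroup.normalizer (K : Set P) := hnc K (lt_top_iff_ne_top.mpr hKtop)
  -- the injection
  have hmemK : ∀ (x : P), x ∈ Subgroup.normalizer (K : Set P) → ∀ a : P, a ∈ (M : Set P) \ (Z : Set P) →
      x * a * x⁻¹ ∈ (K : Set P) \ (Z : Set P) := by
    intro x hx a ha
    refine ⟨(Subgroup.mem_normalizer_iff.mp hx a).mp (hMK ha.1), ?_⟩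
    intro hz
    apply ha.2
    have h1 := hZn x⁻¹ (inv_mem hx) _ hz
    have e1 : x⁻¹ * (x * a * x⁻¹) * x⁻¹⁻¹ = a := by group
    rw [e1] at h1
    exact h1
  let f : (↥(Subgroup.normalizer (K : Set P)) ⧸ K.subgroupOf (Subgroup.normalizer (K : Set P))) ×
      ↥((M : Set P) \ (Z : Set P)) → ↥((K : Set P) \ (Z : Set P)) :=
    fun qa => ⟨(qa.1.out : P) * (qa.2 : P) * (qa.1.out : P)⁻¹, hmemK _ qa.1.out.2 _ qa.2.2⟩
  have hf : Function.Injective f := by
    rintro ⟨q, a⟩ ⟨q', a'⟩ h
    have h0 : (q.out : P) * (a : P) * (q.out : P)⁻¹ = (q'.out : P) * (a' : P) * (q'.out : P)⁻¹ :=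
      congrArg Subtype.val h
    have hq : q = q' := by
      by_contra hne
      have hτ : (q.out : P)⁻¹ * (q'.out : P) ∉ K := by
        intro hmem
        apply hne
        rw [← QuotientGroup.out_eq' q, ← QuotientGroup.out_eq' q']
        apply QuotientGroup.eq.mpr
        exact Subgroup.mem_subgroupOf.mpr hmem
      have hτN : (q.out : P)⁻¹ * (q'.out : P) ∈ Subgroup.normalizer (K : Set P) :=
        mul_mem (inv_mem q.out.2) q'.out.2
      have h2 : ((q.out : P)⁻¹ * (q'.out : P))⁻¹ * (a : P) * ((q.out : P)⁻¹ * (q'.out : P)) = a' := by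
        have e1 : ((q.out : P)⁻¹ * (q'.out : P))⁻¹ * (a : P) * ((q.out : P)⁻¹ * (q'.out : P)) =
            (q'.out : P)⁻¹ * ((q.out : P) * (a : P) * (q.out : P)⁻¹) * (q'.out : P) := by group
        rw [e1, h0]; group
      have h3 := hint _ hτN hτ (a : P) a.2.1 (by rw [h2]; exact a'.2.1)
      exact a.2.2 h3
    subst hq
    have ha : (a : P) = a' := by
      have := congrArg (fun t => (q.out : P)⁻¹ * t * (q.out : P)) h0
      simpa [mul_assoc] using this
    exact Prod.ext rfl (Subtype.ext ha)
  have hcard := Nat.card_le_card_of_injective f hf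
  rw [Nat.card_prod, ← Subgroup.index_eq_card] at hcard
  have hr : (K.subgroupOf (Subgroup.normalizer (K : Set P))).index =
      K.relIndex (Subgroup.normalizer (K : Set P)) := rfl
  rw [hr, Nat.card_coe_set_eq, Nat.card_coe_set_eq] at hcard
  have hcM : ((M : Set P) \ (Z : Set P)).ncard + Nat.card Z = Nat.card M :=
    Set.ncard_sdiff_add_ncard_of_subset (s := (Z : Set P)) (t := (M : Set P)) hZM
  have hcK : ((K : Set P) \ (Z : Set P)).ncard + Nat.card Z = Nat.card K :=
    Set.ncard_sdiff_add_ncard_of_subset (s := (Z : Set P)) (t := (K : Set P)) (hZM.trans hMK)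
  have hZM' := card_mul_relIndex hZM
  have hMK' := card_mul_relIndex hMK
  rw [hZp] at hZM'
  rw [hMp] at hMK'
  have hzpos : 0 < Nat.card Z := Nat.card_pos
  -- `r` is a power of `p`
  obtain ⟨n, hn⟩ := IsPGroup.iff_card.mp hP
  have hdvd : K.relIndex (Subgroup.normalizer (K : Set P)) ∣ p ^ n := by
    rw [← hn]
    exact (Subgroup.relIndex_dvd_card _ _).trans (Subgroup.card_subgroup_dvd_card _)
  obtain ⟨k, -, hk⟩ := (Nat.dvd_prime_pow hp).mp hdvd
  have hk0 : k ≠ 0 := by
    rintro rfl
    rw [pow_zero, Subgroup.relIndex_eq_one] at hk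
    exact (not_le_of_gt hlt) hk
  by_cases hk1 : k = 1
  · rw [hk, hk1, pow_one]
  · exfalso
    have hk2 : 2 ≤ k := by omega
    have hpp : p * p ≤ K.relIndex (Subgroup.normalizer (K : Set P)) := by
      rw [hk, ← pow_two]
      exact Nat.pow_le_pow_right hp.pos hk2
    have h2p := hp.two_le
    generalize K.relIndex (Subgroup.normalizer (K : Set P)) = r at hcard hpp
    generalize ((M : Set P) \ (Z : Set P)).ncard = d at hcard hcM
    generalize ((K : Set P) \ (Z : Set P)).ncard = D at hcard hcK
    generalize Nat.card Z = z at hcM hcK hZM' hzpos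
    generalize Nat.card M = m at hcM hZM' hMK'
    generalize Nat.card K = c at hcK hMK'
    subst hZM'
    subst hMK'
    have h1 : p * p * d ≤ D := (Nat.mul_le_mul_right d hpp).trans hcard
    have h2 : p * p * d + p * p * z = p * (p * p * z) := by
      have := congrArg (fun t => p * p * t) hcM
      simp only [mul_add] at this
      rw [this]; ring
    have h3 : 2 * (p * p * z) ≤ p * (p * p * z) := Nat.mul_le_mul_right _ h2p
    have h4 : z * p * p = p * p * z := by ring
    have h5 : 0 < p * p * z := by positivity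
    omega

/-- index bookkeeping -/
theorem rel_of_idx [Finite P] (p : ℕ) [Fact p.Prime] {A B : Subgroup P} (hAB : A ≤ B) (a d c : ℕ)
    (hA : A.index * p ^ a = c) (hB : B.index * p ^ (a + d) = c) : A.relIndex B = p ^ d := by
  have hp : p.Prime := Fact.out
  have h1 := Subgroup.relIndex_mul_index hAB
  have hB0 : B.index ≠ 0 := Subgroup.index_ne_zero_of_finite
  have hpa : 0 < p ^ a := pow_pos hp.pos a
  have h2 : A.relIndex B * (B.index * p ^ a) = p ^ d * (B.index * p ^ a) := by
    calc A.relIndex B * (B.index * p ^ a) = (A.relIndex B * B.index) * p ^ a := by ring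
      _ = c := by rw [h1, hA]
      _ = B.index * p ^ (a + d) := hB.symm
      _ = p ^ d * (B.index * p ^ a) := by rw [pow_add]; ring
  exact Nat.eq_of_mul_eq_mul_right (Nat.mul_pos (Nat.pos_of_ne_zero hB0) hpa) h2

theorem level_tower [Finite P] (p : ℕ) [Fact p.Prime] (hP : IsPGroup p P) (E : Subgroup P)
    (hE : ∀ a ∈ E, ∀ b ∈ E, a * b = b * a) (hC : Subgroup.centralizer (E : Set P) ≤ E) (j : ℕ)
    (hQ : ∀ i ≤ j + 1, (tower E i).index * p ^ i = E.index ∧
      ∀ A : Subgroup P, E ≤ A → A ≤ tower E i → ∃ i' ≤ i, A = tower E i')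
    (σ : P) (hσ : σ ∈ Subgroup.normalizer ((tower E (j + 1) : Subgroup P) : Set P))
    (hσK : σ ∉ tower E (j + 1)) :
    Subgroup.upperCentralSeries ↥(tower E (j + 1)) (j + 2) = ⊤ ∧
    Subgroup.upperCentralSeries ↥(tower E (j + 1)) (j + 1) ≠ ⊤ ∧
    (Subgroup.upperCentralSeries ↥(tower E (j + 1)) (j + 1)).map (tower E (j + 1)).subtype ≤
      tower E j ∧
    ((Subgroup.upperCentralSeries ↥(tower E (j + 1)) (j + 1)).map
      (tower E (j + 1)).subtype).relIndex (tower E j) = p ∧
    ∀ y ∈ tower E j, σ⁻¹ * y * σ ∈ tower E j →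
      y ∈ (Subgroup.upperCentralSeries ↥(tower E (j + 1)) (j + 1)).map
        (tower E (j + 1)).subtype := by
  have hp : p.Prime := Fact.out
  have hrel : ∀ i i', i ≤ i' → i' ≤ j + 1 → (tower E i).relIndex (tower E i') = p ^ (i' - i) := by
    intro i i' hii' hi'
    apply rel_of_idx p (tower_mono E hii') i (i' - i) E.index (hQ i (by omega)).1
    have := (hQ i' hi').1
    rwa [show i + (i' - i) = i' by omega]
  refine level p hP E (tower E (j + 1)) (tower E j) hE hC (tower_mono E (Nat.zero_le j))
    (tower_le_succ E j) le_rfl ?_ ?_ ?_ j ?_ σ hσ hσK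
  · have := hrel j (j + 1) (by omega) le_rfl
    rwa [show j + 1 - j = 1 by omega, pow_one] at this
  · intro A hEA hAK hne
    obtain ⟨i', hi', rfl⟩ := (hQ (j + 1) le_rfl).2 A hEA hAK
    have hi'j : i' ≤ j := by
      by_contra hcon
      have : i' = j + 1 := by omega
      exact hne (by rw [this])
    refine ⟨tower_mono E hi'j, ?_, ?_⟩
    · exact tower_mono E (show i' + 1 ≤ j + 1 by omega)
    · have := hrel i' (i' + 1) (by omega) (by omega)
      rwa [show i' + 1 - i' = 1 by omega, pow_one] at this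
  · intro A hEA hAK hAp
    obtain ⟨i', hi', rfl⟩ := (hQ (j + 1) le_rfl).2 A hEA hAK
    have := hrel i' (j + 1) hi' le_rfl
    rw [hAp] at this
    have h1 : j + 1 - i' = 1 := by
      apply Nat.pow_right_injective hp.two_le
      show p ^ (j + 1 - i') = p ^ 1
      rw [pow_one]; exact this.symm
    have : i' = j := by omega
    rw [this]
  · have := hrel 0 (j + 1) (by omega) le_rfl
    rw [Nat.sub_zero] at this
    exact this

theorem tower_props [Finite P] (p : ℕ) [Fact p.Prime] (hP : IsPGroup p P) (E : Subgroup P)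
    (hE : ∀ a ∈ E, ∀ b ∈ E, a * b = b * a) (hC : Subgroup.centralizer (E : Set P) ≤ E)
    (hN : E.relIndex (Subgroup.normalizer (E : Set P)) = p) (j : ℕ)
    (hj : ∀ i < j, tower E i ≠ ⊤) :
    ∀ i ≤ j, (tower E i).index * p ^ i = E.index ∧
      ∀ A : Subgroup P, E ≤ A → A ≤ tower E i → ∃ i' ≤ i, A = tower E i' := by
  have hp : p.Prime := Fact.out
  induction j with
  | zero =>
    intro i hi
    obtain rfl : i = 0 := by omega
    refine ⟨?_, ?_⟩
    · show E.index * p ^ 0 = E.index
      rw [pow_zero, mul_one]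
    · intro A hEA hAE
      exact ⟨0, le_rfl, le_antisymm hAE hEA⟩
  | succ j ih =>
    have ih' := ih (fun i hi => hj i (by omega))
    intro i hi
    by_cases hij : i ≤ j
    · exact ih' i hij
    obtain rfl : i = j + 1 := by omega
    have hKtop : tower E j ≠ ⊤ := hj j (by omega)
    have hrel : (tower E j).relIndex (tower E (j + 1)) = p := by
      rcases Nat.eq_zero_or_pos j with hj0 | hjpos
      · subst hj0; exact hN
      · obtain ⟨j', rfl⟩ : ∃ j', j = j' + 1 := ⟨j - 1, by omega⟩
        have hnc : NormalizerCondition P :=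
          @Group.normalizerCondition_of_isNilpotent P _ hP.isNilpotent
        have hlt := hnc (tower E (j' + 1)) (lt_top_iff_ne_top.mpr hKtop)
        obtain ⟨σ0, hσ0N, hσ0K⟩ := SetLike.exists_of_lt hlt
        obtain ⟨-, -, hZM, hZp, -⟩ := level_tower p hP E hE hC j' ih' σ0 hσ0N hσ0K
        have hMp : (tower E j').relIndex (tower E (j' + 1)) = p := by
          have := rel_of_idx p (tower_le_succ E j') j' 1 E.index (ih' j' (by omega)).1
            (ih' (j' + 1) le_rfl).1
          rwa [pow_one] at this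
        exact count p hP (tower E (j' + 1)) (tower E j') _ hZM (tower_le_succ E j') hZp hMp
          (fun x hx y hy => ucs_conj _ _ x hx y hy)
          (fun σ hσN hσK => (level_tower p hP E hE hC j' ih' σ hσN hσK).2.2.2.2) hKtop
    have hidx : (tower E (j + 1)).index * p ^ (j + 1) = E.index := by
      have h1 := Subgroup.relIndex_mul_index (tower_le_succ E j)
      rw [hrel] at h1
      have h2 := (ih' j le_rfl).1
      rw [← h2, ← h1, pow_succ]; ring
    refine ⟨hidx, ?_⟩
    intro A hEA hAL
    by_cases hAK : A ≤ tower E j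
    · obtain ⟨i', hi', h⟩ := (ih' j le_rfl).2 A hEA hAK
      exact ⟨i', by omega, h⟩
    · obtain ⟨i', hi', h⟩ := (ih' j le_rfl).2 (A ⊓ tower E j)
        (le_inf hEA (tower_mono E (Nat.zero_le j))) inf_le_right
      rcases Nat.lt_or_ge i' j with hlt | hge
      · exfalso
        have hDA : A ⊓ tower E j < A :=
          lt_of_le_of_ne inf_le_left (fun heq => hAK (inf_eq_left.mp heq))
        obtain ⟨x, hxA, hxN, hxD⟩ := exists_mem_normalizer_not_mem (hP.to_subgroup A) hDA
        apply hxD
        refine ⟨hxA, ?_⟩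
        have : x ∈ tower E (i' + 1) := by rw [h] at hxN; exact hxN
        exact tower_mono E (show i' + 1 ≤ j by omega) this
      · obtain rfl : i' = j := by omega
        have hKA : tower E i' ≤ A := by rw [← h]; exact inf_le_left
        refine ⟨i' + 1, le_rfl, ?_⟩
        have hmul := Subgroup.relIndex_mul_relIndex _ _ _ hKA hAL
        rw [hrel] at hmul
        have hdvd : A.relIndex (tower E (i' + 1)) ∣ p := Dvd.intro_left _ hmul
        rcases (Nat.dvd_prime hp).mp hdvd with h1 | h1
        · exact le_antisymm hAL (Subgroup.relIndex_eq_one.mp h1)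
        · exfalso
          rw [h1] at hmul
          have h2 : (tower E i').relIndex A = 1 :=
            Nat.eq_of_mul_eq_mul_right hp.pos (by rw [hmul, one_mul])
          exact hAK (Subgroup.relIndex_eq_one.mp h2)

/-- Let P be a finite p-group and E an abelian subgroup of P that contains its centralizer, has index p in its normalizer, and has index at least p² in P. Then the subgroups of P containing E are totally ordered by inclusion, each proper one has index p in its normalizer (so they form the normalizer tower of E, with all steps of index p), and the i-th member of the tower above E has nilpotency class i + 1 whenever it is a proper subgroup of P. -/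
theorem result {P : Type*} [Group P] [Finite P] (p : ℕ) [Fact p.Prime] (hP : IsPGroup p P)
    (E : Subgroup P) (hEab : IsMulCommutative ↥E) (hC : Subgroup.centralizer (E : Set P) ≤ E)
    (hN : (E.subgroupOf (Subgroup.normalizer (E : Set P))).index = p) (hidx : p ^ 2 ≤ E.index) :
    (∀ K L : Subgroup P, E ≤ K → E ≤ L → K ≤ L ∨ L ≤ K) ∧
      (∀ K : Subgroup P, E ≤ K → K ≠ ⊤ → (K.subgroupOf (Subgroup.normalizer (K : Set P))).index = p) ∧
      ∀ (i : ℕ) (K : Subgroup P) [Group.IsNilpotent ↥K], E ≤ K → K ≠ ⊤ → K.index * p ^ i = E.index →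
        Group.nilpotencyClass ↥K = i + 1 := by
  have hp : p.Prime := Fact.out
  have hE : ∀ a ∈ E, ∀ b ∈ E, a * b = b * a := by
    intro a ha b hb
    exact congrArg Subtype.val (isMulCommutative_iff.mp hEab ⟨a, ha⟩ ⟨b, hb⟩)
  have hN' : E.relIndex (Subgroup.normalizer (E : Set P)) = p := hN
  have hex : ∃ m, tower E m = ⊤ := by
    by_contra hcon
    push Not at hcon
    have h1 := (tower_props p hP E hE hC hN' E.index (fun i _ => hcon i) E.index le_rfl).1
    have h2 : E.index < p ^ E.index := Nat.lt_pow_self hp.one_lt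
    have h3 : 0 < (tower E E.index).index := Nat.pos_of_ne_zero Subgroup.index_ne_zero_of_finite
    have h4 : p ^ E.index ≤ (tower E E.index).index * p ^ E.index := Nat.le_mul_of_pos_left _ h3
    omega
  classical
  have hmin : ∀ i < Nat.find hex, tower E i ≠ ⊤ := fun i hi => Nat.find_min hex hi
  have hmtop : tower E (Nat.find hex) = ⊤ := Nat.find_spec hex
  have hQ := tower_props p hP E hE hC hN' (Nat.find hex) hmin
  generalize Nat.find hex = m at hmin hmtop hQ
  have hall : ∀ A : Subgroup P, E ≤ A → ∃ i ≤ m, A = tower E i := by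
    intro A hEA
    exact (hQ m le_rfl).2 A hEA (hmtop ▸ le_top)
  have hlt_m : ∀ a ≤ m, tower E a ≠ ⊤ → a < m := by
    intro a ha hne
    rcases Nat.lt_or_ge a m with h | h
    · exact h
    · exfalso; apply hne; obtain rfl : a = m := by omega
      exact hmtop
  refine ⟨?_, ?_, ?_⟩
  · intro K L hK hL
    obtain ⟨a, -, rfl⟩ := hall K hK
    obtain ⟨b, -, rfl⟩ := hall L hL
    rcases le_total a b with h | h
    · exact Or.inl (tower_mono E h)
    · exact Or.inr (tower_mono E h)
  · intro K hK hKtop
    obtain ⟨a, ha, rfl⟩ := hall K hK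
    have ham : a < m := hlt_m a ha hKtop
    have := rel_of_idx p (tower_le_succ E a) a 1 E.index (hQ a ha).1 (hQ (a + 1) (by omega)).1
    rw [pow_one] at this
    exact this
  · intro i K _ hK hKtop hidxK
    obtain ⟨a, ha, rfl⟩ := hall K hK
    have ham : a < m := hlt_m a ha hKtop
    have hai : a = i := by
      have h1 := (hQ a ha).1
      have h3 : (tower E a).index ≠ 0 := Subgroup.index_ne_zero_of_finite
      have h4 : p ^ a = p ^ i :=
        Nat.eq_of_mul_eq_mul_left (Nat.pos_of_ne_zero h3) (h1.trans hidxK.symm)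
      exact Nat.pow_right_injective hp.two_le h4
    subst hai
    rcases Nat.eq_zero_or_pos a with ha0 | hapos
    · subst ha0
      have h1 : Group.nilpotencyClass ↥(tower E 0) ≤ 1 := by
        apply Subgroup.upperCentralSeries_eq_top_iff_nilpotencyClass_le.mp
        rw [Subgroup.upperCentralSeries_one, eq_top_iff]
        intro z _
        rw [Subgroup.mem_center_iff]
        intro g
        apply Subtype.ext
        exact hE g g.2 z z.2
      have h2 : ¬ Group.nilpotencyClass ↥(tower E 0) ≤ 0 := by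
        intro h
        have h3 := Subgroup.upperCentralSeries_eq_top_iff_nilpotencyClass_le.mpr h
        rw [Subgroup.upperCentralSeries_zero] at h3
        have hE1 : ∀ e ∈ E, e = 1 := by
          intro e he
          have : (⟨e, he⟩ : ↥(tower E 0)) ∈ (⊥ : Subgroup ↥(tower E 0)) := by
            rw [h3]; exact Subgroup.mem_top _
          exact congrArg Subtype.val (Subgroup.mem_bot.mp this)
        have hall1 : ∀ x : P, x ∈ E := by
          intro x
          apply hC
          rw [Subgroup.mem_centralizer_iff]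
          intro e he
          rw [hE1 e he]; simp
        have hEtop : E = ⊤ := eq_top_iff.mpr (fun x _ => hall1 x)
        have : E.relIndex (Subgroup.normalizer (E : Set P)) = 1 := by
          rw [Subgroup.relIndex_eq_one, hEtop]; exact le_top
        rw [hN'] at this
        exact hp.one_lt.ne' this
      omega
    · obtain ⟨a', rfl⟩ : ∃ a', a = a' + 1 := ⟨a - 1, by omega⟩
      have hnc : NormalizerCondition P :=
        @Group.normalizerCondition_of_isNilpotent P _ hP.isNilpotent
      have hlt := hnc (tower E (a' + 1)) (lt_top_iff_ne_top.mpr hKtop)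
      obtain ⟨σ0, hσ0N, hσ0K⟩ := SetLike.exists_of_lt hlt
      obtain ⟨htop, hne, -⟩ := level_tower p hP E hE hC a' (fun i hi => hQ i (by omega))
        σ0 hσ0N hσ0K
      have h1 := Subgroup.upperCentralSeries_eq_top_iff_nilpotencyClass_le.mp htop
      have h2 : ¬ Group.nilpotencyClass ↥(tower E (a' + 1)) ≤ a' + 1 := fun h =>
        hne (Subgroup.upperCentralSeries_eq_top_iff_nilpotencyClass_le.mpr h)
      omega

end Cfsg.Agent.S3811
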