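import Cfsg.Statements.S3824
import Cfsg.Agent.S0143
import Cfsg.Agent.S0144
import Cfsg.Agent.Lib.Helper21.Basic

set_option autoImplicit false
open Cfsg

namespace Cfsg.Agent.S3824

open Cfsg.Agent.Lib.Helper21

theorem relIndex_dvd_index_of_normal_right {G : Type*} [Group G] [Finite G] (A N : Subgroup G)
    [N.Normal] : A.relIndex N ∣ A.index := by
  have h1 := card_sup_mul_card_inf A N
  have h2 := card_mul_relIndex (inf_le_right : A ⊓ N ≤ N)
  rw [Subgroup.inf_relIndex_right] at h2
  have h3 := card_mul_relIndex (le_sup_left : A ≤ A ⊔ N)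
  have h4 : A.relIndex (A ⊔ N) = A.relIndex N := by
    have hpos1 : 0 < Nat.card A := Nat.card_pos
    have hpos2 : 0 < Nat.card (A ⊓ N : Subgroup G) := Nat.card_pos
    have e : Nat.card A * Nat.card (A ⊓ N : Subgroup G) * A.relIndex (A ⊔ N)
        = Nat.card A * Nat.card (A ⊓ N : Subgroup G) * A.relIndex N := by
      calc Nat.card A * Nat.card (A ⊓ N : Subgroup G) * A.relIndex (A ⊔ N)
          = (Nat.card A * A.relIndex (A ⊔ N)) * Nat.card (A ⊓ N : Subgroup G) := by ring
        _ = Nat.card (A ⊔ N : Subgroup G) * Nat.card (A ⊓ N : Subgroup G) := by rw [h3]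
        _ = Nat.card A * Nat.card N := h1
        _ = Nat.card A * (Nat.card (A ⊓ N : Subgroup G) * A.relIndex N) := by rw [h2]
        _ = Nat.card A * Nat.card (A ⊓ N : Subgroup G) * A.relIndex N := by ring
    exact Nat.eq_of_mul_eq_mul_left (Nat.mul_pos hpos1 hpos2) e
  rw [← h4]
  exact Dvd.intro _ (Subgroup.relIndex_mul_index (le_sup_left : A ≤ A ⊔ N))

theorem main_aux : ∀ (n : ℕ) (G : Type*) [Group G] [Finite G] (A : Subgroup G),
    IsMulCommutative A → (∃ k : ℕ, A.index = 2 ^ k) → Nat.card G ≤ n → Group.IsSolvable G := by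
  intro n
  induction n using Nat.strong_induction_on with
  | _ n ih =>
    intro G _ _ A hA hidx hn
    obtain ⟨k, hk⟩ := hidx
    by_cases htriv : Subsingleton G
    · exact isSolvable_of_comm (fun a b => Subsingleton.elim _ _)
    haveI : Nontrivial G := not_subsingleton_iff_nontrivial.mp htriv
    by_cases hsimple : IsSimpleGroup G
    · by_cases hAbot : A = ⊥
      · rw [hAbot, Subgroup.index_bot] at hk
        exact Cfsg.Agent.S0144.result 2 2 k 0 Nat.prime_two Nat.prime_two (by rw [hk]; ring)
      · obtain ⟨g, hgA, hg1⟩ : ∃ g ∈ A, g ≠ 1 := by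
          by_contra hcon
          push Not at hcon
          exact hAbot ((Subgroup.eq_bot_iff_forall A).mpr hcon)
        have hle : A ≤ Subgroup.centralizer ({g} : Set G) := by
          intro a ha
          rw [Subgroup.mem_centralizer_iff]
          intro c hc
          rw [Set.mem_singleton_iff.mp hc]
          exact setLike_mul_comm hgA ha
        have hdvd : (Subgroup.centralizer ({g} : Set G)).index ∣ 2 ^ k := by
          rw [← hk]
          exact Subgroup.index_dvd_of_le hle
        obtain ⟨j, -, hj⟩ := (Nat.dvd_prime_pow Nat.prime_two).mp hdvd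
        have hprime := Cfsg.Agent.S0143.result 2 j Nat.prime_two g hg1 hj
        haveI := Fact.mk hprime
        haveI : IsCyclic G := isCyclic_of_prime_card rfl
        exact isSolvable_of_comm (fun a b => ((IsCyclic.commutative (α := G)).is_comm.comm a b))
    · obtain ⟨N, hNn, hNbot, hNtop⟩ : ∃ N : Subgroup G, N.Normal ∧ N ≠ ⊥ ∧ N ≠ ⊤ := by
        by_contra hcon
        push Not at hcon
        apply hsimple
        refine ⟨fun N hN => ?_⟩
        by_cases h : N = ⊥
        · exact Or.inl h
        · exact Or.inr (hcon N hN h)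
      haveI := hNn
      have hNlt : Nat.card N < Nat.card G := by
        apply lt_of_le_of_ne (Subgroup.card_le_card_group N)
        intro h
        exact hNtop ((Subgroup.card_eq_iff_eq_top N).mp h)
      have hQlt : Nat.card (G ⧸ N) < Nat.card G := by
        have h1 := Subgroup.card_eq_card_quotient_mul_card_subgroup N
        have h2 : 1 < Nat.card N := (Subgroup.one_lt_card_iff_ne_bot N).mpr hNbot
        have h3 : 0 < Nat.card (G ⧸ N) := Nat.card_pos
        nlinarith
      have hN : Group.IsSolvable N := by
        apply ih (Nat.card N) (lt_of_lt_of_le hNlt hn) N (A.subgroupOf N) inferInstance ?_ le_rfl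
        have h1 : (A.subgroupOf N).index ∣ 2 ^ k := by
          rw [← hk]
          exact relIndex_dvd_index_of_normal_right A N
        obtain ⟨j, -, hj⟩ := (Nat.dvd_prime_pow Nat.prime_two).mp h1
        exact ⟨j, hj⟩
      have hQ : Group.IsSolvable (G ⧸ N) := by
        apply ih (Nat.card (G ⧸ N)) (lt_of_lt_of_le hQlt hn) (G ⧸ N)
          (A.map (QuotientGroup.mk' N)) inferInstance ?_ le_rfl
        have h1 : (A.map (QuotientGroup.mk' N)).index ∣ 2 ^ k := by
          rw [← hk]
          exact Subgroup.index_map_dvd A (QuotientGroup.mk'_surjective N)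
        obtain ⟨j, -, hj⟩ := (Nat.dvd_prime_pow Nat.prime_two).mp h1
        exact ⟨j, hj⟩
      exact solvable_of_ker_le_range N.subtype (QuotientGroup.mk' N) (by
        rw [QuotientGroup.ker_mk', Subgroup.range_subtype])

/-- Every finite group having an abelian subgroup whose index is a power of 2 is solvable. -/
theorem result {G : Type*} [Group G] [Finite G]
    (A : Subgroup G) (hA : IsMulCommutative A) (hidx : ∃ k : ℕ, A.index = 2 ^ k) : Group.IsSolvable G := by
  exact main_aux (Nat.card G) G A hA hidx le_rfl

end Cfsg.Agent.S3824
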