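import Cfsg.Statements.S3868
import Mathlib
import Cfsg.Agent.Lib.Helper22.IrredPrimeGroup
import Cfsg.Agent.Lib.Helper22.PClosed
import Cfsg.Agent.Lib.Helper22.PClosed2

set_option autoImplicit false
open Cfsg

namespace Cfsg.Agent.S3868

/-- Structure of the non-simple minimal non-p-closed groups. Call a finite group p-closed when its Sylow p-subgroups are normal, and minimal non-p-closed when it is not p-closed but every proper subgroup and every proper quotient is. If such a group G is not simple, then there is a prime q ≠ p such that G has order p · q^e, where e is the multiplicative order of q modulo p, and G has a normal subgroup A of order q^e that is elementary abelian and is a minimal normal subgroup of G (so G is the semidirect product of A by a group of order p acting irreducibly). -/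
theorem result {G : Type*} [Group G] [Finite G] {p : ℕ} [Fact p.Prime]
    (hnc : ¬ Cfsg.IsPClosed p G) (hsub : ∀ H : Subgroup G, H ≠ ⊤ → Cfsg.IsPClosed p ↥H)
    (hquo : ∀ (N : Subgroup G) [N.Normal], N ≠ ⊥ → Cfsg.IsPClosed p (G ⧸ N)) (hns : ¬ IsSimpleGroup G) :
    ∃ q : ℕ, q.Prime ∧ q ≠ p ∧ Nat.card G = p * q ^ orderOf (q : ZMod p) ∧
      ∃ A : Subgroup G, A.Normal ∧ Nat.card ↥A = q ^ orderOf (q : ZMod p) ∧ Cfsg.IsElementaryAbelian q A ∧
        ∀ B : Subgroup G, B.Normal → B ≤ A → B = ⊥ ∨ B = A := by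
  classical
  have hp : p.Prime := Fact.out
  -- no Sylow `p`-subgroup is normal
  have hnc' : ∀ P : Sylow p G, ¬ (P : Subgroup G).Normal := by
    intro P hP
    apply hnc
    intro Q
    obtain ⟨g, rfl⟩ := MulAction.exists_smul_eq G P Q
    haveI := hP
    rw [Sylow.smul_eq_of_normal]
    exact hP
  obtain ⟨P⟩ : Nonempty (Sylow p G) := inferInstance
  have hPn := hnc' P
  -- step 1
  have step1 : ∀ N : Subgroup G, N.Normal → N ≠ ⊥ → (P : Subgroup G) ⊔ N = ⊤ := by
    intro N hN hN1
    by_contra hne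
    haveI := hN
    haveI hKn : ((P : Subgroup G) ⊔ N).Normal :=
      Lib.Helper22.sup_normal_of_quotient_sylow_normal P N (hquo N hN1)
    exact hPn (Lib.Helper22.sylow_normal_of_le_normal P _ le_sup_left (hsub _ hne _))
  -- normal `p`-subgroups are trivial
  have step2a : ∀ D : Subgroup G, D.Normal → IsPGroup p D → D = ⊥ := by
    intro D hD hDp
    by_contra hne
    have h1 := step1 D hD hne
    haveI := hD
    have h2 : IsPGroup p ((P : Subgroup G) ⊔ D : Subgroup G) :=
      IsPGroup.to_sup_of_normal_right P.isPGroup' hDp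
    have h3 : (P : Subgroup G) ⊔ D = P := P.3 h2 le_sup_left
    rw [h1] at h3
    apply hPn
    rw [← h3]
    infer_instance
  -- proper normal subgroups have order prime to `p`
  have step2 : ∀ N : Subgroup G, N.Normal → N ≠ ⊤ → ¬ p ∣ Nat.card N := by
    intro N hN hNt hdvd
    haveI := hN
    obtain ⟨Q⟩ : Nonempty (Sylow p N) := inferInstance
    have hQn : (Q : Subgroup N).Normal := hsub N hNt Q
    haveI := Sylow.characteristic_of_normal Q hQn
    have hD : ((Q : Subgroup N).map N.subtype).Normal := inferInstance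
    have h1 := step2a _ hD (Q.isPGroup'.map _)
    have h2 : (Q : Subgroup N) = ⊥ :=
      (Subgroup.map_eq_bot_iff_of_injective _ N.subtype_injective).mp h1
    exact Sylow.ne_bot_of_dvd_card Q hdvd h2
  -- a proper non-trivial normal subgroup
  obtain ⟨N, hNn, hNb, hNt⟩ : ∃ N : Subgroup G, N.Normal ∧ N ≠ ⊥ ∧ N ≠ ⊤ := by
    by_contra hcon
    push Not at hcon
    apply hns
    haveI : Nontrivial G := by
      by_contra hnt
      rw [not_nontrivial_iff_subsingleton] at hnt
      apply hPn
      exact ⟨fun n hn g => by rw [Subsingleton.elim (g * n * g⁻¹) n]; exact hn⟩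
    exact
      { eq_bot_or_eq_top_of_normal := fun H hH => by
          by_cases h : H = ⊥
          · exact Or.inl h
          · exact Or.inr (hcon H hH h) }
  haveI := hNn
  have hpN := step2 N hNn hNt
  have hdisj : (P : Subgroup G) ⊓ N = ⊥ :=
    Lib.Helper22.inf_eq_bot_of_isPGroup_of_not_dvd P.isPGroup' hpN
  have hmin : ∀ B : Subgroup G, B.Normal → B ≤ N → B = ⊥ ∨ B = N := by
    intro B hB hBN
    by_cases hb : B = ⊥
    · exact Or.inl hb
    · right
      apply le_antisymm hBN
      intro n hn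
      have h1 : n ∈ (P : Subgroup G) ⊔ B := by
        rw [step1 B hB hb]
        exact Subgroup.mem_top n
      haveI := hB
      rw [← SetLike.mem_coe, Subgroup.mul_normal] at h1
      obtain ⟨x, hx, b, hb', rfl⟩ := Set.mem_mul.mp h1
      have h2 : x ∈ (P : Subgroup G) ⊓ N := ⟨hx, by
        have h3 := N.mul_mem hn (N.inv_mem (hBN hb'))
        rwa [mul_inv_cancel_right] at h3⟩
      rw [hdisj, Subgroup.mem_bot] at h2
      rw [h2, one_mul]
      exact hb'
  -- `P` acts faithfully on `N`
  have hCN : (Subgroup.centralizer (N : Set G)).Normal := inferInstance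
  have hfaith : (P : Subgroup G) ⊓ Subgroup.centralizer (N : Set G) = ⊥ := by
    apply step2a _ ?_ (P.isPGroup'.to_le inf_le_left)
    apply Lib.Helper22.normal_of_sup_eq_top_of_conj_mem _ (P : Subgroup G) N (step1 N hNn hNb)
    · intro h hh b hb
      exact ⟨Subgroup.mul_mem _ (Subgroup.mul_mem _ hh hb.1) (Subgroup.inv_mem _ hh),
        hCN.conj_mem b hb.2 h⟩
    · intro k hk b hb
      have h1 : k * b = b * k := hb.2 k hk
      rw [h1, mul_inv_cancel_right]
      exact hb
  have hPb : (P : Subgroup G) ≠ ⊥ := by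
    intro h
    apply hPn
    rw [h]
    infer_instance
  have hpP : p ∣ Nat.card (P : Subgroup G) := by
    obtain ⟨n, hn⟩ := IsPGroup.iff_card.mp P.isPGroup'
    rw [hn]
    have hn0 : n ≠ 0 := by
      rintro rfl
      rw [pow_zero] at hn
      exact hPb (Subgroup.card_eq_one.mp hn)
    exact dvd_pow_self p hn0
  obtain ⟨x', hx'⟩ := exists_prime_orderOf_dvd_card' p hpP
  obtain ⟨x, hxP, hxo⟩ : ∃ x : G, x ∈ (P : Subgroup G) ∧ orderOf x = p :=
    ⟨x', x'.2, by rw [Subgroup.orderOf_coe]; exact hx'⟩
  have hx1 : ∃ a ∈ N, x * a ≠ a * x := by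
    by_contra hcon
    push Not at hcon
    have h1 : x ∈ (P : Subgroup G) ⊓ Subgroup.centralizer (N : Set G) :=
      ⟨hxP, fun a ha => (hcon a ha).symm⟩
    rw [hfaith, Subgroup.mem_bot] at h1
    rw [h1, orderOf_one] at hxo
    exact hp.one_lt.ne hxo
  have hXP : Subgroup.zpowers x ≤ P := by
    rw [Subgroup.zpowers_le]
    exact hxP
  have hXp : IsPGroup p (Subgroup.zpowers x) := P.isPGroup'.to_le hXP
  have hxN : ∀ m ∈ N, x * m * x⁻¹ ∈ N := fun m hm => hNn.conj_mem m hm x
  have hxtop : Subgroup.zpowers x ⊔ N = ⊤ := by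
    by_contra hne
    obtain ⟨a, ha, hxa⟩ := hx1
    exact hxa (Lib.Helper22.commute_of_sylow_normal_sup x hXp N hpN hxN (hsub _ hne) a ha)
  -- `N` is a `q`-group
  obtain ⟨q, hq, hNq⟩ : ∃ q : ℕ, q.Prime ∧ IsPGroup q N := by
    by_contra hcon
    push Not at hcon
    have hCne : ((Subgroup.centralizer ({x} : Set G) ⊓ N).subgroupOf N).index ≠ 1 := by
      intro h
      rw [Subgroup.index_eq_one, Subgroup.subgroupOf_eq_top] at h
      obtain ⟨a, ha, hxa⟩ := hx1
      apply hxa
      have h1 : a ∈ Subgroup.centralizer ({x} : Set G) := (h ha).1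
      exact Subgroup.mem_centralizer_iff.mp h1 x rfl
    obtain ⟨r, hr, hrd⟩ := Nat.exists_prime_and_dvd hCne
    haveI : Fact r.Prime := ⟨hr⟩
    obtain ⟨R, hR⟩ := Lib.Helper22.exists_invariant_sylow (Subgroup.zpowers x) hXp N hpN r
    have hR'N : (R : Subgroup N).map N.subtype ≤ N := Subgroup.map_subtype_le _
    have hpR : ¬ p ∣ Nat.card ((R : Subgroup N).map N.subtype) :=
      fun h => hpN (h.trans (Subgroup.card_dvd_of_le hR'N))
    have hxR : ∀ m ∈ (R : Subgroup N).map N.subtype,
        x * m * x⁻¹ ∈ (R : Subgroup N).map N.subtype :=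
      fun m hm => hR x (Subgroup.mem_zpowers x) m hm
    by_cases htop : Subgroup.zpowers x ⊔ (R : Subgroup N).map N.subtype = ⊤
    · have hRn : ((R : Subgroup N).map N.subtype).Normal := by
        apply Lib.Helper22.normal_of_sup_eq_top_of_conj_mem _ _ _ htop
        · intro h hh b hb
          exact hR h hh b hb
        · intro k hk b hb
          exact Subgroup.mul_mem _ (Subgroup.mul_mem _ hk hb) (Subgroup.inv_mem _ hk)
      rcases hmin _ hRn hR'N with h1 | h1
      · have h2 : (R : Subgroup N) = ⊥ :=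
          (Subgroup.map_eq_bot_iff_of_injective _ N.subtype_injective).mp h1
        exact Sylow.ne_bot_of_dvd_card R (hrd.trans (Subgroup.index_dvd_card _)) h2
      · apply hcon r hr
        have h2 : IsPGroup r ((R : Subgroup N).map N.subtype) := R.isPGroup'.map _
        rw [h1] at h2
        exact h2
    · have hcomm := Lib.Helper22.commute_of_sylow_normal_sup x hXp _ hpR hxR (hsub _ htop)
      have hle : (R : Subgroup N) ≤ (Subgroup.centralizer ({x} : Set G) ⊓ N).subgroupOf N := by
        intro y hy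
        rw [Subgroup.mem_subgroupOf]
        refine ⟨Subgroup.mem_centralizer_iff.mpr ?_, y.2⟩
        intro z hz
        rw [Set.mem_singleton_iff] at hz
        rw [hz]
        exact hcomm (y : G) ⟨y, hy, rfl⟩
      exact R.not_dvd_index (hrd.trans (Subgroup.index_dvd_of_le hle))
  haveI : Fact q.Prime := ⟨hq⟩
  have hqp : q ≠ p := by
    rintro rfl
    exact hNb (step2a N hNn hNq)
  -- `N` is abelian
  haveI : Nontrivial N := (Subgroup.nontrivial_iff_ne_bot N).mpr hNb
  have hab : ∀ a ∈ N, ∀ b ∈ N, a * b = b * a := by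
    have hZn : (N ⊓ Subgroup.centralizer (N : Set G)).Normal := inferInstance
    haveI := hNq.center_nontrivial
    obtain ⟨z, hz⟩ := exists_ne (1 : Subgroup.center N)
    have hzZ : ((z : N) : G) ∈ N ⊓ Subgroup.centralizer (N : Set G) := by
      refine ⟨(z : N).2, ?_⟩
      intro n hn
      have h1 := Subgroup.mem_center_iff.mp z.2 ⟨n, hn⟩
      exact congrArg Subtype.val h1
    rcases hmin _ hZn inf_le_left with h1 | h1
    · exfalso
      rw [h1, Subgroup.mem_bot] at hzZ
      apply hz
      apply Subtype.ext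
      apply Subtype.ext
      exact hzZ
    · intro a ha b hb
      have h2 : b ∈ N ⊓ Subgroup.centralizer (N : Set G) := by
        rw [h1]
        exact hb
      exact h2.2 a ha
  -- `N` has exponent `q`
  have hexp : ∀ a ∈ N, a ^ q = 1 := by
    have hqN : q ∣ Nat.card N := by
      obtain ⟨n, hn⟩ := IsPGroup.iff_card.mp hNq
      rw [hn]
      have hn0 : n ≠ 0 := by
        rintro rfl
        rw [pow_zero] at hn
        exact hNb (Subgroup.card_eq_one.mp hn)
      exact dvd_pow_self q hn0
    obtain ⟨y, hy⟩ := exists_prime_orderOf_dvd_card' q hqN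
    obtain ⟨Ω, hΩ⟩ : ∃ Ω : Subgroup G, ∀ a : G, a ∈ Ω ↔ a ∈ N ∧ a ^ q = 1 :=
      ⟨{ carrier := {a | a ∈ N ∧ a ^ q = 1}
         mul_mem' := by
           rintro a b ⟨ha, ha'⟩ ⟨hb, hb'⟩
           exact ⟨N.mul_mem ha hb, by
             rw [(show Commute a b from hab a ha b hb).mul_pow, ha', hb', one_mul]⟩
         one_mem' := ⟨N.one_mem, one_pow _⟩
         inv_mem' := by
           rintro a ⟨ha, ha'⟩
           exact ⟨N.inv_mem ha, by rw [inv_pow, ha', inv_one]⟩ }, fun a => Iff.rfl⟩
    have hΩn : Ω.Normal := ⟨fun n hn g => by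
      rw [hΩ] at hn ⊢
      exact ⟨hNn.conj_mem n hn.1 g, by rw [conj_pow, hn.2, mul_one, mul_inv_cancel]⟩⟩
    have hΩN : Ω ≤ N := fun a ha => ((hΩ a).mp ha).1
    have hyΩ : (y : G) ∈ Ω := by
      rw [hΩ]
      refine ⟨y.2, ?_⟩
      rw [← Subgroup.coe_pow, ← hy, pow_orderOf_eq_one]
      rfl
    rcases hmin _ hΩn hΩN with h1 | h1
    · exfalso
      rw [h1, Subgroup.mem_bot] at hyΩ
      have h2 : y = 1 := Subtype.ext hyΩ
      rw [h2, orderOf_one] at hy
      exact hq.one_lt.ne hy
    · intro a ha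
      have h2 : a ∈ Ω := by
        rw [h1]
        exact ha
      exact ((hΩ a).mp h2).2
  -- irreducibility
  have hirr : ∀ B : Subgroup G, B ≤ N → (∀ b ∈ B, x * b * x⁻¹ ∈ B) → B = ⊥ ∨ B = N := by
    intro B hBN hBx
    refine hmin B ?_ hBN
    apply Lib.Helper22.normal_of_sup_eq_top_of_conj_mem B _ _ hxtop
    · intro h hh
      have h1 : h ∈ Subgroup.normalizer (B : Set G) := by
        have h2 : Subgroup.zpowers x ≤ Subgroup.normalizer (B : Set G) := by
          rw [Subgroup.zpowers_le]
          exact Subgroup.mem_normalizer_fintype (S := (B : Set G)) (fun n hn => hBx n hn)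
        exact h2 hh
      intro b hb
      exact (h1 b).mp hb
    · intro k hk b hb
      rw [hab k hk b (hBN hb), mul_inv_cancel_right]
      exact hb
  have hcardN : Nat.card N = q ^ orderOf (q : ZMod p) :=
    Lib.Helper22.card_of_minimal_invariant p q hqp N hab hexp x
      (by
        intro a _
        rw [← hxo, pow_orderOf_eq_one, one_mul, mul_one]) hx1 hirr
  have hcardG : Nat.card G = p * q ^ orderOf (q : ZMod p) := by
    have h1 := Lib.Helper22.card_mul_card_of_sup_eq_top (Subgroup.zpowers x) N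
      (Lib.Helper22.inf_eq_bot_of_isPGroup_of_not_dvd hXp hpN) hxtop
    rw [Nat.card_zpowers, hxo, hcardN] at h1
    exact h1.symm
  exact ⟨q, hq, hqp, hcardG, N, hNn, hcardN,
    ⟨⟨⟨fun a b => Subtype.ext (hab a a.2 b b.2)⟩⟩, hexp⟩, hmin⟩

end Cfsg.Agent.S3868
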