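import Cfsg.Statements.S3869
import Mathlib
import Cfsg.Agent.Lib.Helper22.IrredPrimeGroup
import Cfsg.Agent.Lib.Helper22.PClosed

set_option autoImplicit false
open Cfsg

namespace Cfsg.Agent.S3869

/-- Let p and q be distinct primes and G a finite non-abelian group with a normal elementary abelian q-subgroup A that is a minimal normal subgroup of G and has index p. Then A has order q^e with e the multiplicative order of q modulo p, and G is minimal non-p-closed: its Sylow p-subgroups are not normal, while in every proper subgroup and in every proper quotient of G the Sylow p-subgroups are normal. -/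
theorem result {G : Type*} [Group G] [Finite G] {p q : ℕ} [Fact p.Prime] (hq : q.Prime) (hpq : q ≠ p)
    (hna : ¬ IsMulCommutative G) (A : Subgroup G) [A.Normal] (hA : Cfsg.IsElementaryAbelian q A) (hidx : A.index = p)
    (hmin : ∀ B : Subgroup G, B.Normal → B ≤ A → B = ⊥ ∨ B = A) :
    Nat.card ↥A = q ^ orderOf (q : ZMod p) ∧ ¬ Cfsg.IsPClosed p G ∧ (∀ H : Subgroup G, H ≠ ⊤ → Cfsg.IsPClosed p ↥H) ∧
      ∀ (N : Subgroup G) [N.Normal], N ≠ ⊥ → Cfsg.IsPClosed p (G ⧸ N) := by
  classical
  have hp : p.Prime := Fact.out
  haveI : Fact q.Prime := ⟨hq⟩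
  have hAnormal : A.Normal := inferInstance
  obtain ⟨hAc, hAq⟩ := hA
  have hab : ∀ a ∈ A, ∀ b ∈ A, a * b = b * a := by
    intro a ha b hb
    have h1 := mul_comm' (⟨a, ha⟩ : A) ⟨b, hb⟩
    exact congrArg Subtype.val h1
  have hmax : ∀ K : Subgroup G, ¬ K ≤ A → K ⊔ A = ⊤ := fun K hK =>
    Lib.Helper22.sup_eq_top_of_index_prime A K hp hidx hK
  haveI hcyc : IsCyclic (G ⧸ A) :=
    isCyclic_of_prime_card (p := p) (by rw [← Subgroup.index_eq_card]; exact hidx)
  have hnotcentral : ¬ (A ≤ Subgroup.center G) := by
    intro hc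
    apply hna
    exact (QuotientGroup.mk' A).isMulCommutative_of_isCyclic_of_ker_le_center
      (by rw [QuotientGroup.ker_mk']; exact hc)
  have hpG : p ∣ Nat.card G := hidx ▸ A.index_dvd_card
  obtain ⟨x, hx⟩ := exists_prime_orderOf_dvd_card' p hpG
  have hxA : x ∉ A := by
    intro hxA
    have h1 := orderOf_dvd_of_pow_eq_one (hAq x hxA)
    rw [hx] at h1
    exact hpq ((Nat.prime_dvd_prime_iff_eq hp hq).mp h1).symm
  have hxtop : Subgroup.zpowers x ⊔ A = ⊤ :=
    hmax _ (fun h => hxA (h (Subgroup.mem_zpowers x)))
  have hcent : ∀ K : Subgroup G, K ⊔ A = ⊤ → (∀ k ∈ K, ∀ a ∈ A, k * a = a * k) → False := by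
    intro K hK hKc
    apply hnotcentral
    have h1 : K ⊔ A ≤ Subgroup.centralizer (A : Set G) := by
      apply sup_le
      · intro k hk a ha
        exact (hKc k hk a ha).symm
      · intro b hb a ha
        exact hab a ha b hb
    rw [hK] at h1
    intro a ha
    rw [Subgroup.mem_center_iff]
    intro g
    exact (h1 (Subgroup.mem_top g) a ha).symm
  have hx1 : ∃ a ∈ A, x * a ≠ a * x := by
    by_contra hcon
    push Not at hcon
    apply hcent _ hxtop
    intro k hk a ha
    obtain ⟨n, rfl⟩ := Subgroup.mem_zpowers_iff.mp hk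
    have h1 : Commute x a := hcon a ha
    exact (h1.zpow_left n).eq
  have hirr : ∀ B : Subgroup G, B ≤ A → (∀ b ∈ B, x * b * x⁻¹ ∈ B) → B = ⊥ ∨ B = A := by
    intro B hBA hBx
    refine hmin B ?_ hBA
    apply Lib.Helper22.normal_of_sup_eq_top_of_conj_mem B _ _ hxtop
    · intro h hh
      have h1 : h ∈ Subgroup.normalizer (B : Set G) := by
        have h2 : Subgroup.zpowers x ≤ Subgroup.normalizer (B : Set G) := by
          rw [Subgroup.zpowers_le]
          exact Subgroup.mem_normalizer_fintype (S := (B : Set G)) (fun n hn => hBx n hn)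
        exact h2 hh
      intro b hb
      exact (h1 b).mp hb
    · intro k hk b hb
      rw [hab k hk b (hBA hb), mul_inv_cancel_right]
      exact hb
  have hAq' : IsPGroup q A := by
    intro g
    refine ⟨1, ?_⟩
    rw [pow_one]
    apply Subtype.ext
    rw [Subgroup.coe_pow]
    exact hAq g g.2
  refine ⟨?_, ?_, ?_, ?_⟩
  · exact Lib.Helper22.card_of_minimal_invariant p q hpq A hab hAq x
      (by
        intro a _
        rw [← hx, pow_orderOf_eq_one, one_mul, mul_one]) hx1 hirr
  · intro hcl
    have hxp : IsPGroup p (Subgroup.zpowers x) :=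
      IsPGroup.of_card (n := 1) (by rw [Nat.card_zpowers, hx, pow_one])
    obtain ⟨P, hP⟩ := hxp.exists_le_sylow
    have hPn := hcl P
    have hdis : Disjoint (P : Subgroup G) A :=
      IsPGroup.disjoint_of_ne p q hpq.symm _ _ P.isPGroup' hAq'
    obtain ⟨a, ha, hxa⟩ := hx1
    exact hxa (Subgroup.commute_of_normal_of_disjoint _ _ hPn hAnormal hdis x a
      (hP (Subgroup.mem_zpowers x)) ha).eq
  · intro H hH P
    have hHc : ∀ a b : H, a * b = b * a := by
      by_cases hHA : H ≤ A
      · intro a b
        exact Subtype.ext (hab a (hHA a.2) b (hHA b.2))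
      · have htop := hmax H hHA
        have hn : (H ⊓ A).Normal := by
          apply Lib.Helper22.normal_of_sup_eq_top_of_conj_mem (H ⊓ A) H A htop
          · intro h hh b hb
            exact ⟨H.mul_mem (H.mul_mem hh hb.1) (H.inv_mem hh), hAnormal.conj_mem b hb.2 h⟩
          · intro k hk b hb
            rw [hab k hk b hb.2, mul_inv_cancel_right]
            exact hb
        rcases hmin _ hn inf_le_right with h1 | h1
        · intro a b
          have hinj : Function.Injective ((QuotientGroup.mk' A).comp H.subtype) := by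
            rw [injective_iff_map_eq_one]
            intro a ha
            have h2 : (a : G) ∈ A := (QuotientGroup.eq_one_iff _).mp ha
            have h3 : (a : G) ∈ H ⊓ A := ⟨a.2, h2⟩
            rw [h1, Subgroup.mem_bot] at h3
            exact Subtype.ext h3
          apply hinj
          rw [map_mul, map_mul]
          exact mul_comm' _ _
        · exfalso
          apply hH
          rw [← htop]
          exact (sup_eq_left.mpr (h1 ▸ inf_le_left)).symm
    exact Lib.Helper22.normal_of_forall_comm hHc _
  · intro N _ hN P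
    have hNn : N.Normal := inferInstance
    have hinf : (N ⊓ A).Normal := inferInstance
    rcases hmin _ hinf inf_le_right with h1 | h1
    · exfalso
      have hNA : ¬ N ≤ A := by
        intro h
        apply hN
        rw [← h1]
        exact (inf_eq_left.mpr h).symm
      apply hcent N (hmax N hNA)
      intro k hk a ha
      exact (Subgroup.commute_of_normal_of_disjoint _ _ hNn hAnormal (disjoint_iff.mpr h1) k a
        hk ha).eq
    · have hAN : A ≤ N := h1 ▸ inf_le_left
      have hdvd : Nat.card (G ⧸ N) ∣ p := by
        rw [← Subgroup.index_eq_card, ← hidx]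
        exact Subgroup.index_dvd_of_le hAN
      haveI : IsCyclic (G ⧸ N) := isCyclic_of_card_dvd_prime (p := p) hdvd
      exact Lib.Helper22.normal_of_forall_comm (fun a b => mul_comm' a b) _

end Cfsg.Agent.S3869
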