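import Cfsg.Statements.S3870
import Mathlib
import Cfsg.Agent.Lib.Helper22.TI

set_option autoImplicit false
open Cfsg

namespace Cfsg.Agent.S3870

open scoped Pointwise

/-- Let G be a finite simple group whose Sylow p-subgroups are not normal but such that every proper subgroup of G has a normal Sylow p-subgroup. Then any two distinct Sylow p-subgroups of G intersect trivially, and for every Sylow p-subgroup P the normalizer of every non-identity subgroup of P lies in the normalizer of P. -/
theorem result {G : Type*} [Group G] [Finite G] [IsSimpleGroup G] {p : ℕ} [Fact p.Prime]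
    (hnc : ¬ Cfsg.IsPClosed p G) (hsub : ∀ H : Subgroup G, H ≠ ⊤ → Cfsg.IsPClosed p ↥H) :
    (∀ P Q : Sylow p G, P ≠ Q → (P : Subgroup G) ⊓ (Q : Subgroup G) = ⊥) ∧
      ∀ (P : Sylow p G) (R : Subgroup G), R ≤ P → R ≠ ⊥ →
        Subgroup.normalizer (R : Set G) ≤ Subgroup.normalizer ((P : Subgroup G) : Set G) := by
  classical
  have hpp : p.Prime := Fact.out
  have hNproper : ∀ D : Subgroup G, IsPGroup p D → D ≠ ⊥ →
      Subgroup.normalizer (D : Set G) ≠ ⊤ := by
    intro D hD hD1 htop
    have hDn : D.Normal := Subgroup.normalizer_eq_top_iff.mp htop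
    have hDtop : D = ⊤ := (hDn.eq_bot_or_eq_top).resolve_left hD1
    apply hnc
    intro P
    have : (P : Subgroup G) = ⊤ := by
      have h1 : IsPGroup p (⊤ : Subgroup G) := hDtop ▸ hD
      exact (P.is_maximal' h1 le_top).symm
    rw [this]
    infer_instance
  have part1 : ∀ P Q : Sylow p G, P ≠ Q → (P : Subgroup G) ⊓ (Q : Subgroup G) = ⊥ := by
    by_contra hcon
    push Not at hcon
    haveI : Fintype (Sylow p G) := Fintype.ofFinite _
    let bad : Finset (Sylow p G × Sylow p G) := Finset.univ.filter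
      (fun PQ => PQ.1 ≠ PQ.2 ∧ (PQ.1 : Subgroup G) ⊓ (PQ.2 : Subgroup G) ≠ ⊥)
    have hne : bad.Nonempty := by
      obtain ⟨P, Q, hPQ, hint⟩ := hcon
      exact ⟨(P, Q), Finset.mem_filter.mpr ⟨Finset.mem_univ _, hPQ, hint⟩⟩
    obtain ⟨⟨P, Q⟩, hmem, hmax⟩ := Finset.exists_max_image bad
      (fun PQ => Nat.card ((PQ.1 : Subgroup G) ⊓ (PQ.2 : Subgroup G) : Subgroup G)) hne
    have hPQ : P ≠ Q := (Finset.mem_filter.mp hmem).2.1
    have hD1 : (P : Subgroup G) ⊓ (Q : Subgroup G) ≠ ⊥ := (Finset.mem_filter.mp hmem).2.2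
    have hDp : IsPGroup p ((P : Subgroup G) ⊓ (Q : Subgroup G) : Subgroup G) :=
      P.isPGroup'.to_le inf_le_left
    have hNne := hNproper _ hDp hD1
    have hcl := hsub _ hNne
    obtain ⟨S⟩ : Nonempty (Sylow p (Subgroup.normalizer
      (((P : Subgroup G) ⊓ (Q : Subgroup G) : Subgroup G) : Set G))) := inferInstance
    have hSn := hcl S
    have hSp : IsPGroup p ((S : Subgroup _).map (Subgroup.normalizer
        (((P : Subgroup G) ⊓ (Q : Subgroup G) : Subgroup G) : Set G)).subtype) :=
      S.isPGroup'.map _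
    obtain ⟨P₁, hP₁⟩ := hSp.exists_le_sylow
    have key : ∀ T : Sylow p G, (P : Subgroup G) ⊓ (Q : Subgroup G) ≤ (T : Subgroup G) →
        (P : Subgroup G) ⊓ (Q : Subgroup G) ≠ (T : Subgroup G) → T = P₁ := by
      intro T hDT hDne
      have h1 : (T : Subgroup G) ⊓ Subgroup.normalizer
          (((P : Subgroup G) ⊓ (Q : Subgroup G) : Subgroup G) : Set G) ≤ (P₁ : Subgroup G) := by
        intro z hz
        obtain ⟨hzT, hzN⟩ := Subgroup.mem_inf.mp hz
        obtain ⟨e, he⟩ := (IsPGroup.iff_orderOf.mp T.isPGroup') ⟨z, hzT⟩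
        rw [Subgroup.orderOf_mk] at he
        have hzS : (⟨z, hzN⟩ : Subgroup.normalizer
            (((P : Subgroup G) ⊓ (Q : Subgroup G) : Subgroup G) : Set G)) ∈ (S : Subgroup _) := by
          apply Lib.Helper22.mem_sylow_of_normalizes S _ e
          · rw [Subgroup.orderOf_mk]
            exact he
          · rw [Subgroup.normalizer_eq_top_iff.mpr hSn]
            exact Subgroup.mem_top _
        exact hP₁ ⟨⟨z, hzN⟩, hzS, rfl⟩
      have h2 : ∃ z, z ∈ (T : Subgroup G) ⊓ Subgroup.normalizer
          (((P : Subgroup G) ⊓ (Q : Subgroup G) : Subgroup G) : Set G) ∧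
          z ∉ (P : Subgroup G) ⊓ (Q : Subgroup G) := by
        haveI hnil : Group.IsNilpotent (T : Subgroup G) := T.isPGroup'.isNilpotent
        have hNC := normalizerCondition_of_isNilpotent (G := (T : Subgroup G))
        have hlt : ((P : Subgroup G) ⊓ (Q : Subgroup G)).subgroupOf (T : Subgroup G) < ⊤ := by
          rw [lt_top_iff_ne_top]
          intro h
          rw [Subgroup.subgroupOf_eq_top] at h
          exact hDne (le_antisymm hDT h)
        have hlt2 := hNC _ hlt
        obtain ⟨z, hzN, hzD⟩ := SetLike.exists_of_lt hlt2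
        refine ⟨(z : G), Subgroup.mem_inf.mpr ⟨z.2, ?_⟩,
          fun h => hzD (Subgroup.mem_subgroupOf.mpr h)⟩
        apply Subgroup.mem_normalizer_fintype
        intro d hd
        have hdT : d ∈ (T : Subgroup G) := hDT hd
        have := (Subgroup.mem_normalizer_iff.mp hzN ⟨d, hdT⟩).mp (Subgroup.mem_subgroupOf.mpr hd)
        exact Subgroup.mem_subgroupOf.mp this
      obtain ⟨z, hz, hzD⟩ := h2
      by_contra hTP
      have hint : (P : Subgroup G) ⊓ (Q : Subgroup G) < (T : Subgroup G) ⊓ (P₁ : Subgroup G) := by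
        apply lt_of_le_of_ne
        · exact le_inf hDT (fun d hd =>
            h1 (Subgroup.mem_inf.mpr ⟨hDT hd, Subgroup.le_normalizer hd⟩))
        · intro h
          apply hzD
          rw [h]
          exact Subgroup.mem_inf.mpr ⟨(Subgroup.mem_inf.mp hz).1, h1 hz⟩
      have hbad : (T, P₁) ∈ bad := by
        refine Finset.mem_filter.mpr ⟨Finset.mem_univ _, hTP, ?_⟩
        intro h
        have h' : (T : Subgroup G) ⊓ (P₁ : Subgroup G) = ⊥ := h
        rw [h'] at hint
        exact not_lt_bot hint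
      have hle := hmax (T, P₁) hbad
      exact hint.ne (Subgroup.eq_of_le_of_card_ge hint.le hle)
    have hDP : (P : Subgroup G) ⊓ (Q : Subgroup G) ≠ (P : Subgroup G) := by
      intro h
      apply hPQ
      have hle : (P : Subgroup G) ≤ (Q : Subgroup G) := by
        rw [← h]
        exact inf_le_right
      exact Sylow.ext (P.is_maximal' Q.isPGroup' hle).symm
    have hDQ : (P : Subgroup G) ⊓ (Q : Subgroup G) ≠ (Q : Subgroup G) := by
      intro h
      apply hPQ
      have hle : (Q : Subgroup G) ≤ (P : Subgroup G) := by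
        rw [← h]
        exact inf_le_left
      exact Sylow.ext (Q.is_maximal' P.isPGroup' hle)
    exact hPQ ((key P inf_le_left hDP).trans (key Q inf_le_right hDQ).symm)
  refine ⟨part1, ?_⟩
  intro P R hRP hR1 g hg
  refine Sylow.smul_eq_iff_mem_normalizer.mp ?_
  by_contra hne
  have := part1 (g • P) P hne
  apply hR1
  rw [eq_bot_iff, ← this]
  intro r hr
  refine Subgroup.mem_inf.mpr ⟨?_, hRP hr⟩
  show r ∈ MulAut.conj g • (P : Subgroup G)
  rw [Lib.Helper22.mem_conj_smul_iff]
  apply hRP
  exact (Subgroup.mem_normalizer_iff''.mp hg r).mp hr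

end Cfsg.Agent.S3870
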