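import Cfsg.Statements.S4209
import Cfsg.Agent.Lib.Helper17.HPPoly

set_option autoImplicit false
open Cfsg

namespace Cfsg.Agent.S4209

open Cfsg.Agent.Lib.Helper17 in
theorem dvd_choose_pow {p : ℕ} (hp : p.Prime) (n k : ℕ) (hk1 : 1 ≤ k) (hkp : k < p) :
    p ^ n ∣ (p ^ n).choose k := by
  obtain ⟨k', rfl⟩ : ∃ k', k = k' + 1 := ⟨k - 1, by omega⟩
  have hpos : 0 < p ^ n := pow_pos hp.pos n
  obtain ⟨N, hN⟩ : ∃ N, p ^ n = N + 1 := ⟨p ^ n - 1, by omega⟩
  have h1 := Nat.add_one_mul_choose_eq N k'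
  have hcop : Nat.Coprime (N + 1) (k' + 1) := by
    rw [← hN]
    exact Nat.Coprime.pow_left n ((Nat.Prime.coprime_iff_not_dvd hp).mpr (fun hd => by
      have := Nat.le_of_dvd (by omega) hd
      omega))
  rw [hN]
  exact hcop.dvd_of_dvd_mul_right (Dvd.intro _ h1)

/-- A finite `p`-group of nilpotency class less than `p` (the term of index `p - 1` of the lower central series of the whole group, indexed from `0`, is trivial) is a regular `p`-group. -/
theorem result {G : Type*} [Group G] [Finite G] {p : ℕ} [Fact p.Prime] (hG : IsPGroup p G) (hcl : (⊤ : Subgroup G).lowerCentralSeries (p - 1) = ⊥) : Cfsg.IsRegularPGroup p G := by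
  classical
  have hp : p.Prime := Fact.out
  refine ⟨hG, fun a b n => ?_⟩
  obtain ⟨H, hHdef⟩ : ∃ H : Subgroup G, H = Subgroup.closure ({a, b} : Set G) := ⟨_, rfl⟩
  rw [← hHdef]
  have haH : a ∈ H := by
    rw [hHdef]
    exact Subgroup.subset_closure (by simp)
  have hbH : b ∈ H := by
    rw [hHdef]
    exact Subgroup.subset_closure (by simp)
  have hcl' : (⊤ : Subgroup ↥H).lowerCentralSeries (p - 1) = ⊥ := by
    have h1 := Subgroup.top_subtype_lowerCentralSeries H (p - 1)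
    have h2 := Cfsg.Agent.Lib.Helper17.hp_lcs_mono (le_top : H ≤ ⊤) (p - 1)
    rw [hcl, le_bot_iff] at h2
    rw [h2] at h1
    exact (Subgroup.map_eq_bot_iff_of_injective _ H.subtype_injective).mp h1
  have hbot : Cfsg.Agent.Lib.Helper17.hpF ↥H ((p - 1) + 1) = ⊥ := by
    unfold Cfsg.Agent.Lib.Helper17.hpF
    rw [Nat.add_sub_cancel]
    exact hcl'
  have htop : Cfsg.Agent.Lib.Helper17.hpF ↥H 1 = ⊤ := rfl
  obtain ⟨g, hg, hg1, hform⟩ := Cfsg.Agent.Lib.Helper17.hp_hall_petrescu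
    (Cfsg.Agent.Lib.Helper17.hpF ↥H) (Cfsg.Agent.Lib.Helper17.hpF_anti ↥H)
    (Cfsg.Agent.Lib.Helper17.hpF_comm ↥H) htop (p - 1) hbot ⟨a, haH⟩ ⟨b, hbH⟩
  obtain ⟨W, hWdef⟩ : ∃ W : Subgroup G, W = Cfsg.powerClosure p n ⁅H, H⁆ := ⟨_, rfl⟩
  rw [← hWdef]
  have hgen : ∀ x ∈ ⁅H, H⁆, x ^ (p ^ n) ∈ W := by
    intro x hx
    rw [hWdef]
    exact Subgroup.subset_closure ⟨x, hx, rfl⟩
  have hgk : ∀ k, 2 ≤ k → ((g k : ↥H) : G) ∈ ⁅H, H⁆ := by
    intro k hk
    have h1 : g k ∈ Cfsg.Agent.Lib.Helper17.hpF ↥H 2 :=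
      Cfsg.Agent.Lib.Helper17.hpF_anti ↥H hk (hg k)
    have h2 : g k ∈ commutator ↥H := by
      have e : Cfsg.Agent.Lib.Helper17.hpF ↥H 2 = commutator ↥H :=
        Subgroup.top_lowerCentralSeries_one
      rw [← e]
      exact h1
    rw [← Subgroup.map_subtype_commutator]
    exact Subgroup.mem_map_of_mem H.subtype h2
  have hmem : Cfsg.Agent.Lib.Helper17.hpProd g (p - 1) (p ^ n) ∈ W.comap H.subtype := by
    apply Cfsg.Agent.Lib.Helper17.hpProd_mem
    intro k hk1 hkp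
    rw [Subgroup.mem_comap]
    rcases Nat.lt_or_ge k 2 with h | h
    · obtain rfl : k = 1 := by omega
      rw [hg1, one_pow, map_one]
      exact W.one_mem
    · obtain ⟨t, ht⟩ := dvd_choose_pow hp n k hk1 (by have := hp.pos; omega)
      rw [ht, pow_mul', map_pow, map_pow]
      exact hgen _ (Subgroup.pow_mem _ (hgk k h) t)
  have h1 := hform (p ^ n)
  have h2 := congrArg (fun z : ↥H => (z : G)) h1
  simp only [Subgroup.coe_mul, Subgroup.coe_pow] at h2
  refine ⟨((Cfsg.Agent.Lib.Helper17.hpProd g (p - 1) (p ^ n) : ↥H) : G)⁻¹, W.inv_mem hmem, ?_⟩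
  rw [h2, mul_inv_cancel_right]

end Cfsg.Agent.S4209
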