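import Cfsg.Statements.S3872
import Cfsg.Agent.S4209
import Cfsg.Agent.Lib.Helper18.PGroupFrat

set_option autoImplicit false
open Cfsg

namespace Cfsg.Agent.S3872

open scoped commutatorElement

theorem comm_le_of_gen {G : Type*} [Group G] (x y : G)
    (hgen : Subgroup.closure ({x, y} : Set G) = ⊤) (N : Subgroup G) [hN : N.Normal]
    (h : ⁅x, y⁆ ∈ N) : commutator G ≤ N := by
  have key1 : ∀ s : G, ⁅s, x⁆ ∈ N → ⁅s, y⁆ ∈ N → ∀ b : G, ⁅s, b⁆ ∈ N := by
    intro s hsx hsy b
    have hb : b ∈ Subgroup.closure ({x, y} : Set G) := by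
      rw [hgen]
      exact Subgroup.mem_top b
    induction hb using Subgroup.closure_induction with
    | mem t ht =>
      rcases ht with ht | ht
      · rw [ht]
        exact hsx
      · rw [Set.mem_singleton_iff.mp ht]
        exact hsy
    | one =>
      rw [commutatorElement_one_right]
      exact N.one_mem
    | mul b c _ _ hb hc =>
      have e : ⁅s, b * c⁆ = ⁅s, b⁆ * (b * ⁅s, c⁆ * b⁻¹) := by
        simp only [commutatorElement_def]
        group
      rw [e]
      exact N.mul_mem hb (hN.conj_mem _ hc b)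
    | inv b _ hb =>
      have e : ⁅s, b⁻¹⁆ = b⁻¹ * ⁅s, b⁆⁻¹ * b⁻¹⁻¹ := by
        simp only [commutatorElement_def]
        group
      rw [e]
      exact hN.conj_mem _ (N.inv_mem hb) b⁻¹
  have key2 : ∀ a b : G, ⁅a, b⁆ ∈ N := by
    intro a b
    have ha : a ∈ Subgroup.closure ({x, y} : Set G) := by
      rw [hgen]
      exact Subgroup.mem_top a
    induction ha using Subgroup.closure_induction with
    | mem t ht =>
      rcases ht with ht | ht
      · rw [ht]
        apply key1
        · rw [commutatorElement_self]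
          exact N.one_mem
        · exact h
      · rw [Set.mem_singleton_iff.mp ht]
        apply key1
        · rw [← commutatorElement_inv]
          exact N.inv_mem h
        · rw [commutatorElement_self]
          exact N.one_mem
    | one =>
      rw [commutatorElement_one_left]
      exact N.one_mem
    | mul a c _ _ ha hc =>
      have e : ⁅a * c, b⁆ = (a * ⁅c, b⁆ * a⁻¹) * ⁅a, b⁆ := by
        simp only [commutatorElement_def]
        group
      rw [e]
      exact N.mul_mem (hN.conj_mem _ hc a) ha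
    | inv a _ ha =>
      have e : ⁅a⁻¹, b⁆ = a⁻¹ * ⁅a, b⁆⁻¹ * a⁻¹⁻¹ := by
        simp only [commutatorElement_def]
        group
      rw [e]
      exact hN.conj_mem _ (N.inv_mem ha) a⁻¹
  rw [commutator_def, Subgroup.commutator_le]
  intro a _ b _
  exact key2 a b

/-- Say that a finite group is p-exponent closed when its elements of order dividing p form a subgroup. Let G be a finite p-group that is not p-exponent closed, but all of whose proper subgroups and proper quotients are. Then G is generated by two elements, has nilpotency class at least p, has exponent p², has cyclic center, and has order at least p^(p+1). -/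
theorem result {G : Type*} [Group G] [Finite G] {p : ℕ} [Fact p.Prime] (hG : IsPGroup p G)
    (hnc : ¬ (∃ H : Subgroup G, (H : Set G) = {g : G | g ^ p = 1})) (hsub : ∀ K : Subgroup G, K ≠ ⊤ → (∃ H : Subgroup ↥K, (H : Set ↥K) = {g : ↥K | g ^ p = 1}))
    (hquo : ∀ (N : Subgroup G) [N.Normal], N ≠ ⊥ → (∃ H : Subgroup (G ⧸ N), (H : Set (G ⧸ N)) = {g : (G ⧸ N) | g ^ p = 1})) :
    (∃ x y : G, Subgroup.closure ({x, y} : Set G) = ⊤) ∧ (⊤ : Subgroup G).lowerCentralSeries (p - 1) ≠ ⊥ ∧
      Monoid.exponent G = p ^ 2 ∧ IsCyclic ↥(Subgroup.center G) ∧ p ^ (p + 1) ≤ Nat.card G := by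
  classical
  have hp : p.Prime := Fact.out
  have hnil : Group.IsNilpotent G := hG.isNilpotent
  have hΩ : ∀ K : Subgroup G, K ≠ ⊤ →
      ∃ W : Subgroup G, ∀ g : G, g ∈ W ↔ g ∈ K ∧ g ^ p = 1 := by
    intro K hK
    obtain ⟨H, hH⟩ := hsub K hK
    refine ⟨H.map K.subtype, fun g => ?_⟩
    constructor
    · rintro ⟨k, hk, rfl⟩
      have hk' : k ∈ (H : Set ↥K) := hk
      rw [hH] at hk'
      have hk'' : k ^ p = 1 := hk'
      refine ⟨k.2, ?_⟩
      have h3 := congrArg (fun z : ↥K => (z : G)) hk''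
      simpa using h3
    · rintro ⟨hgK, hgp⟩
      refine ⟨⟨g, hgK⟩, ?_, rfl⟩
      have h3 : (⟨g, hgK⟩ : ↥K) ∈ (H : Set ↥K) := by
        rw [hH]
        show (⟨g, hgK⟩ : ↥K) ^ p = 1
        exact Subtype.ext (by simpa using hgp)
      exact h3
  have hQ : ∀ (N : Subgroup G) [N.Normal], N ≠ ⊥ →
      ∃ W : Subgroup G, ∀ g : G, g ∈ W ↔ g ^ p ∈ N := by
    intro N _ hN
    obtain ⟨H, hH⟩ := hquo N hN
    refine ⟨H.comap (QuotientGroup.mk' N), fun g => ?_⟩
    rw [Subgroup.mem_comap, ← SetLike.mem_coe, hH, Set.mem_ofPred_eq, QuotientGroup.mk'_apply,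
      ← QuotientGroup.mk_pow, QuotientGroup.eq_one_iff]
  obtain ⟨x, y, hx, hy, hxyp⟩ : ∃ x y : G, x ^ p = 1 ∧ y ^ p = 1 ∧ (x * y) ^ p ≠ 1 := by
    by_contra hcon
    apply hnc
    refine ⟨{ carrier := {g : G | g ^ p = 1}, mul_mem' := ?_, one_mem' := ?_, inv_mem' := ?_ }, rfl⟩
    · intro a b ha hb
      by_contra h
      exact hcon ⟨a, b, ha, hb, h⟩
    · exact one_pow p
    · intro a ha
      show a⁻¹ ^ p = 1
      rw [inv_pow, show a ^ p = 1 from ha, inv_one]
  have hgen : Subgroup.closure ({x, y} : Set G) = ⊤ := by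
    by_contra hne
    obtain ⟨W, hW⟩ := hΩ _ hne
    have h1 : x ∈ W := (hW x).mpr ⟨Subgroup.subset_closure (by simp), hx⟩
    have h2 : y ∈ W := (hW y).mpr ⟨Subgroup.subset_closure (by simp), hy⟩
    exact hxyp ((hW _).mp (W.mul_mem h1 h2)).2
  have hall : ∀ W : Subgroup G, x ∈ W → y ∈ W → ∀ g : G, g ∈ W := by
    intro W h1 h2 g
    have h3 : Subgroup.closure ({x, y} : Set G) ≤ W := by
      rw [Subgroup.closure_le]
      intro t ht
      rcases ht with ht | ht
      · rw [ht]
        exact h1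
      · rw [Set.mem_singleton_iff.mp ht]
        exact h2
    exact h3 (by rw [hgen]; exact Subgroup.mem_top g)
  have hcent : ∀ z : G, z ∈ Subgroup.center G → z ≠ 1 → z ^ p = 1 →
      ∀ g : G, g ^ p ∈ Subgroup.zpowers z := by
    intro z hz hz1 hzp g
    have hnorm : (Subgroup.zpowers z).Normal := by
      refine ⟨fun n hn g => ?_⟩
      have hn' : n ∈ Subgroup.center G := (Subgroup.zpowers_le.mpr hz) hn
      have e : g * n * g⁻¹ = n := by
        rw [Subgroup.mem_center_iff.mp hn' g, mul_inv_cancel_right]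
      rw [e]
      exact hn
    have hne : Subgroup.zpowers z ≠ ⊥ := by
      intro h
      exact hz1 (Subgroup.zpowers_eq_bot.mp h)
    obtain ⟨W, hW⟩ := hQ (Subgroup.zpowers z) hne
    have h1 : x ∈ W := (hW x).mpr (by rw [hx]; exact Subgroup.one_mem _)
    have h2 : y ∈ W := (hW y).mpr (by rw [hy]; exact Subgroup.one_mem _)
    exact (hW g).mp (hall W h1 h2 g)
  have hprime : ∀ a b : G, orderOf a = p → b ∈ Subgroup.zpowers a → b ≠ 1 →
      a ∈ Subgroup.zpowers b := by
    intro a b ha hb hb1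
    have hcard : Nat.card (Subgroup.zpowers a) = p := by rw [Nat.card_zpowers, ha]
    have h1 : (⟨b, hb⟩ : ↥(Subgroup.zpowers a)) ≠ 1 := by
      intro h
      exact hb1 (congrArg Subtype.val h)
    have h2 := zpowers_eq_top_of_prime_card hcard h1
    have h3 : (⟨a, Subgroup.mem_zpowers a⟩ : ↥(Subgroup.zpowers a)) ∈
        Subgroup.zpowers (⟨b, hb⟩ : ↥(Subgroup.zpowers a)) := by
      rw [h2]
      exact Subgroup.mem_top _
    obtain ⟨k, hk⟩ := Subgroup.mem_zpowers_iff.mp h3
    refine Subgroup.mem_zpowers_iff.mpr ⟨k, ?_⟩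
    have h4 := congrArg Subtype.val hk
    simpa using h4
  have hpowz : ∀ (a : G) (k : ℤ), a ^ p = 1 → (a ^ k) ^ p = 1 := by
    intro a k ha
    rw [← zpow_natCast, ← zpow_mul, mul_comm, zpow_mul, zpow_natCast, ha, one_zpow]
  obtain ⟨u, hu⟩ : ∃ u : G, u = (x * y) ^ p := ⟨_, rfl⟩
  have hu1 : u ≠ 1 := by
    rw [hu]
    exact hxyp
  have hGnt : Nontrivial G := ⟨⟨u, 1, hu1⟩⟩
  obtain ⟨z, hzc, hz1, hzp⟩ : ∃ z : G, z ∈ Subgroup.center G ∧ z ≠ 1 ∧ z ^ p = 1 := by
    have hcn : Nontrivial (Subgroup.center G) := hG.center_nontrivial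
    have hZp : IsPGroup p (Subgroup.center G) := hG.to_subgroup _
    obtain ⟨n, hn⟩ := hZp.exists_card_eq
    have hn0 : n ≠ 0 := by
      rintro rfl
      rw [pow_zero] at hn
      have h1 : Subsingleton (Subgroup.center G) := (Nat.card_eq_one_iff_unique.mp hn).1
      exact not_subsingleton _ h1
    have hdvd : p ∣ Nat.card (Subgroup.center G) := by
      rw [hn]
      exact dvd_pow_self p hn0
    obtain ⟨z, hz⟩ := exists_prime_orderOf_dvd_card' p hdvd
    refine ⟨z.1, z.2, ?_, ?_⟩
    · intro h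
      have h1 : z = 1 := Subtype.ext h
      rw [h1, orderOf_one] at hz
      exact hp.one_lt.ne hz
    · have h1 := pow_orderOf_eq_one z
      rw [hz] at h1
      have h2 := congrArg Subtype.val h1
      simpa using h2
  have hu_z : ∀ z : G, z ∈ Subgroup.center G → z ≠ 1 → z ^ p = 1 →
      u ∈ Subgroup.zpowers z ∧ z ∈ Subgroup.zpowers u := by
    intro z hzc hz1 hzp
    have h1 : u ∈ Subgroup.zpowers z := by
      rw [hu]
      exact hcent z hzc hz1 hzp (x * y)
    exact ⟨h1, hprime z u (orderOf_eq_prime hzp hz1) h1 hu1⟩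
  have huc : u ∈ Subgroup.center G := (Subgroup.zpowers_le.mpr hzc) (hu_z z hzc hz1 hzp).1
  have hup : u ^ p = 1 := by
    obtain ⟨k, hk⟩ := Subgroup.mem_zpowers_iff.mp (hu_z z hzc hz1 hzp).1
    rw [← hk]
    exact hpowz z k hzp
  have hpow_u : ∀ g : G, g ^ p ∈ Subgroup.zpowers u := hcent u huc hu1 hup
  have hexp2 : ∀ g : G, g ^ (p ^ 2) = 1 := by
    intro g
    obtain ⟨k, hk⟩ := Subgroup.mem_zpowers_iff.mp (hpow_u g)
    rw [pow_two, pow_mul, ← hk]
    exact hpowz u k hup
  have hexp : Monoid.exponent G = p ^ 2 := by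
    have hdvd : Monoid.exponent G ∣ p ^ 2 := Monoid.exponent_dvd_of_forall_pow_eq_one hexp2
    obtain ⟨k, hk, hke⟩ := (Nat.dvd_prime_pow hp).mp hdvd
    rcases Nat.lt_or_ge k 2 with hlt | hge
    · exfalso
      apply hxyp
      have h1 : Monoid.exponent G ∣ p ^ 1 := by
        rw [hke]
        exact pow_dvd_pow p (by omega)
      rw [pow_one] at h1
      obtain ⟨t, ht⟩ := h1
      rw [ht, pow_mul, Monoid.pow_exponent_eq_one, one_pow]
    · have h2 : k = 2 := le_antisymm hk hge
      rw [hke, h2]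
  have hB : ∀ w : G, w ∈ Subgroup.center G → w ^ p = 1 → w ∈ Subgroup.zpowers u := by
    intro w hw hwp
    by_cases hw1 : w = 1
    · rw [hw1]
      exact Subgroup.one_mem _
    · exact (hu_z w hw hw1 hwp).2
  have hcyc : IsCyclic ↥(Subgroup.center G) := by
    by_cases hall_p : ∀ w : G, w ∈ Subgroup.center G → w ^ p = 1
    · have hZ : Subgroup.center G = Subgroup.zpowers u :=
        le_antisymm (fun w hw => hB w hw (hall_p w hw)) (Subgroup.zpowers_le.mpr huc)
      rw [hZ]
      infer_instance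
    · simp only [not_forall] at hall_p
      obtain ⟨z0, hz0, hz0p⟩ := hall_p
      have h1 : u ∈ Subgroup.zpowers (z0 ^ p) :=
        hprime u (z0 ^ p) (orderOf_eq_prime hup hu1) (hpow_u z0) hz0p
      have h2 : Subgroup.zpowers u ≤ Subgroup.zpowers z0 := by
        rw [Subgroup.zpowers_le]
        exact (Subgroup.zpowers_le.mpr (Subgroup.pow_mem _ (Subgroup.mem_zpowers z0) p)) h1
      have hZ : Subgroup.center G = Subgroup.zpowers z0 := by
        refine le_antisymm (fun w hw => ?_) (Subgroup.zpowers_le.mpr hz0)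
        have h3 : w ^ p ∈ Subgroup.zpowers (z0 ^ p) := (Subgroup.zpowers_le.mpr h1) (hpow_u w)
        obtain ⟨i, hi⟩ := Subgroup.mem_zpowers_iff.mp h3
        have hcomm : Commute w (z0 ^ (-i)) := ((Subgroup.mem_center_iff.mp hw) (z0 ^ (-i))).symm
        have h4 : (w * z0 ^ (-i)) ^ p = 1 := by
          rw [hcomm.mul_pow, ← hi]
          group
        have h5 : w * z0 ^ (-i) ∈ Subgroup.zpowers z0 :=
          h2 (hB _ (Subgroup.mul_mem _ hw (Subgroup.zpow_mem _ hz0 _)) h4)
        have h6 : w = (w * z0 ^ (-i)) * z0 ^ i := by group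
        rw [h6]
        exact Subgroup.mul_mem _ h5 (Subgroup.zpow_mem _ (Subgroup.mem_zpowers z0) i)
      rw [hZ]
      infer_instance
  have hM : ∀ s : G, s ^ p = 1 → Subgroup.zpowers s ⊔ commutator G ≠ ⊤ := by
    intro s hs htop
    have h1 : Subgroup.zpowers s ⊔ frattini G = ⊤ := by
      rw [eq_top_iff, ← htop]
      exact sup_le_sup_left Cfsg.Agent.Lib.Helper18.commutator_le_frattini_of_isNilpotent _
    have h2 : Subgroup.zpowers s = ⊤ := frattini_nongenerating h1
    have h3 : x * y ∈ Subgroup.zpowers s := by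
      rw [h2]
      exact Subgroup.mem_top _
    obtain ⟨k, hk⟩ := Subgroup.mem_zpowers_iff.mp h3
    apply hxyp
    rw [← hk]
    exact hpowz s k hs
  have hcne : commutator G ≠ ⊤ := by
    intro h
    apply hM x hx
    rw [h]
    exact sup_top_eq _
  have hcomm_p : ∀ t : G, t ∈ commutator G → t ^ p = 1 := by
    have hMx := hM x hx
    obtain ⟨WM, hWM⟩ := hΩ _ hMx
    have hxM : x ∈ Subgroup.zpowers x ⊔ commutator G :=
      (le_sup_left : Subgroup.zpowers x ≤ _) (Subgroup.mem_zpowers x)
    have hcM : y * x⁻¹ * y⁻¹ ∈ Subgroup.zpowers x ⊔ commutator G := by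
      have e : y * x⁻¹ * y⁻¹ = ⁅y, x⁻¹⁆ * x⁻¹ := by
        simp only [commutatorElement_def]
        group
      rw [e]
      refine Subgroup.mul_mem _ ((le_sup_right : commutator G ≤ _) ?_) (Subgroup.inv_mem _ hxM)
      rw [commutator_def]
      exact Subgroup.commutator_mem_commutator (Subgroup.mem_top _) (Subgroup.mem_top _)
    have hcp : (y * x⁻¹ * y⁻¹) ^ p = 1 := by
      rw [conj_pow, inv_pow, hx, inv_one, mul_one, mul_inv_cancel]
    have h1 : ⁅x, y⁆ ^ p = 1 := by
      have e : ⁅x, y⁆ = x * (y * x⁻¹ * y⁻¹) := by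
        simp only [commutatorElement_def]
        group
      rw [e]
      exact ((hWM _).mp (WM.mul_mem ((hWM x).mpr ⟨hxM, hx⟩) ((hWM _).mpr ⟨hcM, hcp⟩))).2
    obtain ⟨W', hW'⟩ := hΩ _ hcne
    have hW'n : W'.Normal := by
      refine ⟨fun n hn g => ?_⟩
      obtain ⟨hn1, hn2⟩ := (hW' n).mp hn
      refine (hW' _).mpr ⟨?_, ?_⟩
      · exact (inferInstance : (commutator G).Normal).conj_mem n hn1 g
      · rw [conj_pow, hn2, mul_one, mul_inv_cancel]
    have h2 : ⁅x, y⁆ ∈ W' := by
      refine (hW' _).mpr ⟨?_, h1⟩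
      rw [commutator_def]
      exact Subgroup.commutator_mem_commutator (Subgroup.mem_top _) (Subgroup.mem_top _)
    have h3 := comm_le_of_gen x y hgen W' h2
    intro t ht
    exact ((hW' t).mp (h3 ht)).2
  have hclass : (⊤ : Subgroup G).lowerCentralSeries (p - 1) ≠ ⊥ := by
    intro hcl
    obtain ⟨_, hreg⟩ := Cfsg.Agent.S4209.result hG hcl
    obtain ⟨c, hc, hform⟩ := hreg x y 1
    rw [hgen] at hc
    rw [pow_one, hx, hy, one_mul, one_mul] at hform
    have hc1 : c = 1 := by
      have hle : Cfsg.powerClosure p 1 ⁅(⊤ : Subgroup G), (⊤ : Subgroup G)⁆ ≤ ⊥ := by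
        unfold Cfsg.powerClosure
        rw [Subgroup.closure_le]
        rintro t ⟨s, hs, rfl⟩
        rw [pow_one]
        have h5 := hcomm_p s (by rw [commutator_def]; exact hs)
        rw [h5]
        exact Subgroup.one_mem _
      exact Subgroup.mem_bot.mp (hle hc)
    exact hxyp (by rw [hform, hc1])
  have hstrict : ∀ A B : Subgroup G, A < B → p * Nat.card A ≤ Nat.card B := by
    intro A B hAB
    obtain ⟨b, hb⟩ := (hG.to_subgroup B).exists_card_eq
    have hdvd : Nat.card A ∣ Nat.card B := Subgroup.card_dvd_of_le hAB.le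
    rw [hb] at hdvd
    obtain ⟨a, hab, ha⟩ := (Nat.dvd_prime_pow hp).mp hdvd
    have hne : a ≠ b := by
      rintro rfl
      exact hAB.ne (Subgroup.eq_of_le_of_card_ge hAB.le (by rw [ha, hb]))
    rw [ha, hb, ← pow_succ']
    exact Nat.pow_le_pow_right hp.pos (by omega)
  have hL : ∀ i : ℕ, (⊤ : Subgroup G).lowerCentralSeries i ≠ ⊥ →
      (⊤ : Subgroup G).lowerCentralSeries (i + 1) < (⊤ : Subgroup G).lowerCentralSeries i := by
    intro i hi
    refine lt_of_le_of_ne (Subgroup.lowerCentralSeries_antitone _ (Nat.le_succ i))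
      (fun heq => hi ?_)
    have hconst : ∀ k : ℕ, (⊤ : Subgroup G).lowerCentralSeries (i + k) =
        (⊤ : Subgroup G).lowerCentralSeries i := by
      intro k
      induction k with
      | zero => rfl
      | succ k ih =>
        rw [← add_assoc, Subgroup.lowerCentralSeries_succ, ih, ← Subgroup.lowerCentralSeries_succ,
          heq]
    obtain ⟨n, hn⟩ := Subgroup.nilpotent_iff_lowerCentralSeries.mp hnil
    rw [← hconst n, eq_bot_iff, ← hn]
    exact Subgroup.lowerCentralSeries_antitone _ (Nat.le_add_left n i)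
  have hLcard : ∀ j i : ℕ, (⊤ : Subgroup G).lowerCentralSeries (i + j) ≠ ⊥ →
      p ^ (j + 1) ≤ Nat.card ((⊤ : Subgroup G).lowerCentralSeries i) := by
    intro j
    induction j with
    | zero =>
      intro i hi
      rw [Nat.add_zero] at hi
      have h1 := hstrict ⊥ _ (bot_lt_iff_ne_bot.mpr hi)
      rw [Subgroup.card_bot, mul_one] at h1
      rw [Nat.zero_add, pow_one]
      exact h1
    | succ j ih =>
      intro i hi
      have h1 : (⊤ : Subgroup G).lowerCentralSeries (i + 1 + j) ≠ ⊥ := by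
        rw [show i + 1 + j = i + (j + 1) by omega]
        exact hi
      have h2 := ih (i + 1) h1
      have h3 : (⊤ : Subgroup G).lowerCentralSeries i ≠ ⊥ := by
        intro h
        apply hi
        rw [eq_bot_iff, ← h]
        exact Subgroup.lowerCentralSeries_antitone _ (Nat.le_add_right i (j + 1))
      have h4 := hstrict _ _ (hL i h3)
      calc p ^ (j + 1 + 1) = p * p ^ (j + 1) := pow_succ' p (j + 1)
        _ ≤ p * Nat.card ((⊤ : Subgroup G).lowerCentralSeries (i + 1)) := Nat.mul_le_mul_left p h2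
        _ ≤ _ := h4
  have hcard : p ^ (p + 1) ≤ Nat.card G := by
    have h1 : p ^ (p - 2 + 1) ≤ Nat.card (commutator G) := by
      have h0 := hLcard (p - 2) 1 (by
        rw [show 1 + (p - 2) = p - 1 by have := hp.two_le; omega]
        exact hclass)
      rwa [Subgroup.top_lowerCentralSeries_one] at h0
    obtain ⟨s, hsp, hsn⟩ : ∃ s : G, s ^ p = 1 ∧ s ∉ commutator G := by
      by_contra hcon
      have hx' : x ∈ commutator G := by
        by_contra h
        exact hcon ⟨x, hx, h⟩
      have hy' : y ∈ commutator G := by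
        by_contra h
        exact hcon ⟨y, hy, h⟩
      exact hcne (eq_top_iff.mpr (fun g _ => hall _ hx' hy' g))
    have h2 : commutator G < Subgroup.zpowers s ⊔ commutator G := by
      refine lt_of_le_of_ne le_sup_right (fun h => hsn ?_)
      rw [h]
      exact (le_sup_left : Subgroup.zpowers s ≤ _) (Subgroup.mem_zpowers s)
    have h3 : Subgroup.zpowers s ⊔ commutator G < ⊤ := lt_top_iff_ne_top.mpr (hM s hsp)
    have h4 := hstrict _ _ h2
    have h5 := hstrict _ _ h3
    rw [Subgroup.card_top] at h5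
    calc p ^ (p + 1) = p * (p * p ^ (p - 2 + 1)) := by
          rw [← pow_succ', ← pow_succ']
          congr 1
          have := hp.two_le
          omega
      _ ≤ p * (p * Nat.card (commutator G)) :=
          Nat.mul_le_mul_left p (Nat.mul_le_mul_left p h1)
      _ ≤ p * Nat.card ↥(Subgroup.zpowers s ⊔ commutator G) := Nat.mul_le_mul_left p h4
      _ ≤ Nat.card G := h5
  exact ⟨⟨x, y, hgen⟩, hclass, hexp, hcyc, hcard⟩

end Cfsg.Agent.S3872
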