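import Cfsg.Statements.S3873
import Mathlib
import Cfsg.Agent.S3868
import Cfsg.Agent.Lib.Helper22.PClosed2

set_option autoImplicit false
open Cfsg

namespace Cfsg.Agent.S3873

/-- Say that a finite group is p-exponent closed when its elements of order dividing p form a subgroup. Let G be a finite group that is not p-exponent closed, but all of whose proper subgroups and proper quotients are, and suppose G is neither simple nor a p-group. Then there is a prime q ≠ p such that G has order p · q^e, where e is the multiplicative order of q modulo p, and G has a normal elementary abelian subgroup of order q^e that is a minimal normal subgroup of G. -/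
theorem result {G : Type*} [Group G] [Finite G] {p : ℕ} [Fact p.Prime]
    (hnc : ¬ (∃ H : Subgroup G, (H : Set G) = {g : G | g ^ p = 1})) (hsub : ∀ K : Subgroup G, K ≠ ⊤ → (∃ H : Subgroup ↥K, (H : Set ↥K) = {g : ↥K | g ^ p = 1}))
    (hquo : ∀ (N : Subgroup G) [N.Normal], N ≠ ⊥ → (∃ H : Subgroup (G ⧸ N), (H : Set (G ⧸ N)) = {g : (G ⧸ N) | g ^ p = 1}))
    (hns : ¬ IsSimpleGroup G) (hnp : ¬ IsPGroup p G) :
    ∃ q : ℕ, q.Prime ∧ q ≠ p ∧ Nat.card G = p * q ^ orderOf (q : ZMod p) ∧
      ∃ A : Subgroup G, A.Normal ∧ Nat.card ↥A = q ^ orderOf (q : ZMod p) ∧ Cfsg.IsElementaryAbelian q A ∧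
        ∀ B : Subgroup G, B.Normal → B ≤ A → B = ⊥ ∨ B = A := by
  classical
  have hp : p.Prime := Fact.out
  -- `G` is generated by the elements of order dividing `p`
  have hgen : Subgroup.closure {g : G | g ^ p = 1} = ⊤ := by
    by_contra hne
    obtain ⟨H, hH⟩ := hsub _ hne
    apply hnc
    refine ⟨H.map (Subgroup.subtype _), ?_⟩
    ext g
    constructor
    · rintro ⟨y, hy, rfl⟩
      have hy' : y ∈ (H : Set _) := hy
      rw [hH] at hy'
      have h2 := congrArg Subtype.val (show y ^ p = 1 from hy')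
      exact h2
    · intro hg
      refine ⟨⟨g, Subgroup.subset_closure hg⟩, ?_, rfl⟩
      have h1 : (⟨g, Subgroup.subset_closure hg⟩ :
          Subgroup.closure {g : G | g ^ p = 1}) ∈ (H : Set _) := by
        rw [hH]
        exact Subtype.ext (show g ^ p = 1 from hg)
      exact h1
  -- proper quotients have exponent `p`
  have hexpQ : ∀ (N : Subgroup G) [N.Normal], N ≠ ⊥ → ∀ g : G ⧸ N, g ^ p = 1 := by
    intro N _ hN g
    obtain ⟨H, hH⟩ := hquo N hN
    have h1 : (Subgroup.closure {g : G | g ^ p = 1}).map (QuotientGroup.mk' N) ≤ H := by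
      rw [MonoidHom.map_closure, Subgroup.closure_le]
      rintro _ ⟨y, hy, rfl⟩
      rw [hH]
      show (QuotientGroup.mk' N y) ^ p = 1
      rw [← map_pow, (show y ^ p = 1 from hy), map_one]
    rw [hgen, ← MonoidHom.range_eq_map,
      MonoidHom.range_eq_top.mpr (QuotientGroup.mk'_surjective N)] at h1
    have h2 : g ∈ (H : Set (G ⧸ N)) := h1 (Subgroup.mem_top g)
    rw [hH] at h2
    exact h2
  -- a proper non-trivial normal subgroup
  obtain ⟨N, hNn, hNb, hNt⟩ : ∃ N : Subgroup G, N.Normal ∧ N ≠ ⊥ ∧ N ≠ ⊤ := by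
    by_contra hcon
    push Not at hcon
    apply hns
    haveI : Nontrivial G := by
      by_contra hnt
      rw [not_nontrivial_iff_subsingleton] at hnt
      apply hnp
      intro g
      exact ⟨0, Subsingleton.elim _ _⟩
    exact
      { eq_bot_or_eq_top_of_normal := fun H hH => by
          by_cases h : H = ⊥
          · exact Or.inl h
          · exact Or.inr (hcon H hH h) }
  haveI := hNn
  have hpN : ¬ p ∣ Nat.card N := by
    intro hdvd
    obtain ⟨y, hy⟩ := exists_prime_orderOf_dvd_card' p hdvd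
    obtain ⟨H, hH⟩ := hsub N hNt
    have hMmem : ∀ g : G, g ∈ H.map N.subtype ↔ g ∈ N ∧ g ^ p = 1 := by
      intro g
      constructor
      · rintro ⟨z, hz, rfl⟩
        have hz' : z ∈ (H : Set N) := hz
        rw [hH] at hz'
        refine ⟨z.2, ?_⟩
        have h2 := congrArg Subtype.val (show z ^ p = 1 from hz')
        exact h2
      · rintro ⟨hgN, hgp⟩
        refine ⟨⟨g, hgN⟩, ?_, rfl⟩
        have h1 : (⟨g, hgN⟩ : N) ∈ (H : Set N) := by
          rw [hH]
          exact Subtype.ext hgp
        exact h1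
    have hMn : (H.map N.subtype).Normal := ⟨fun n hn g => by
      rw [hMmem] at hn ⊢
      exact ⟨hNn.conj_mem n hn.1 g, by rw [conj_pow, hn.2, mul_one, mul_inv_cancel]⟩⟩
    have hMb : H.map N.subtype ≠ ⊥ := by
      intro h
      have h1 : (y : G) ∈ H.map N.subtype := by
        rw [hMmem]
        refine ⟨y.2, ?_⟩
        rw [← Subgroup.coe_pow, ← hy, pow_orderOf_eq_one]
        rfl
      rw [h, Subgroup.mem_bot] at h1
      have h2 : y = 1 := Subtype.ext h1
      rw [h2, orderOf_one] at hy
      exact hp.one_lt.ne hy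
    apply hnp
    intro g
    refine ⟨2, ?_⟩
    haveI := hMn
    have h1 := hexpQ (H.map N.subtype) hMb (QuotientGroup.mk' _ g)
    rw [← map_pow, QuotientGroup.mk'_apply, QuotientGroup.eq_one_iff] at h1
    have h2 := ((hMmem _).mp h1).2
    rw [pow_two, pow_mul]
    exact h2
  -- `p`-elements have order dividing `p`
  have hpel : ∀ g : G, ∀ k : ℕ, g ^ p ^ k = 1 → g ^ p = 1 := by
    intro g k hg
    have h1 := hexpQ N hNb (QuotientGroup.mk' N g)
    rw [← map_pow, QuotientGroup.mk'_apply, QuotientGroup.eq_one_iff] at h1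
    apply Lib.Helper22.eq_one_of_pow_prime_pow_of_mem (g ^ p) k ?_ N hpN h1
    rw [← pow_mul, mul_comm, pow_mul, hg, one_pow]
  have hi : ¬ Cfsg.IsPClosed p G := by
    intro hcl
    obtain ⟨P⟩ : Nonempty (Sylow p G) := inferInstance
    have hPn := hcl P
    apply hnc
    refine ⟨P, ?_⟩
    ext g
    constructor
    · intro hg
      obtain ⟨k, hk⟩ := P.isPGroup' ⟨g, hg⟩
      have hk' : g ^ p ^ k = 1 := by
        have h1 := congrArg Subtype.val hk
        exact h1
      exact hpel g k hk'
    · intro hg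
      have hgp : g ^ p = 1 := hg
      have hz : IsPGroup p (Subgroup.zpowers g) := by
        intro h
        refine ⟨1, ?_⟩
        obtain ⟨n, hn⟩ := Subgroup.mem_zpowers_iff.mp h.2
        apply Subtype.ext
        rw [Subgroup.coe_pow, ← hn, pow_one, ← zpow_natCast, ← zpow_mul, mul_comm, zpow_mul,
          zpow_natCast, hgp, one_zpow]
        rfl
      obtain ⟨Q, hQ⟩ := hz.exists_le_sylow
      obtain ⟨c, rfl⟩ := MulAction.exists_smul_eq G P Q
      haveI := hPn
      rw [Sylow.smul_eq_of_normal] at hQ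
      exact hQ (Subgroup.mem_zpowers g)
  have hii : ∀ K : Subgroup G, K ≠ ⊤ → Cfsg.IsPClosed p K := by
    intro K hK S
    obtain ⟨H, hH⟩ := hsub K hK
    have hHmem : ∀ g : K, g ∈ H ↔ g ^ p = 1 := by
      intro g
      rw [← SetLike.mem_coe, hH]
      rfl
    have hHp : IsPGroup p H := by
      intro h
      refine ⟨1, ?_⟩
      rw [pow_one]
      apply Subtype.ext
      rw [Subgroup.coe_pow]
      exact (hHmem h).mp h.2
    have hSH : (S : Subgroup K) ≤ H := by
      intro g hg
      rw [hHmem]
      obtain ⟨k, hk⟩ := S.isPGroup' ⟨g, hg⟩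
      have hk' : (g : G) ^ p ^ k = 1 := by
        have h1 := congrArg (fun z : (S : Subgroup K) => ((z : K) : G)) hk
        exact h1
      apply Subtype.ext
      rw [Subgroup.coe_pow]
      exact hpel g k hk'
    have hHS : H = S := S.3 hHp hSH
    rw [← hHS]
    exact ⟨fun n hn g => by
      rw [hHmem] at hn ⊢
      rw [conj_pow, hn, mul_one, mul_inv_cancel]⟩
  have hiii : ∀ (N' : Subgroup G) [N'.Normal], N' ≠ ⊥ → Cfsg.IsPClosed p (G ⧸ N') := by
    intro N' _ hN' S
    have hpg : IsPGroup p (G ⧸ N') := fun g => ⟨1, by rw [pow_one]; exact hexpQ N' hN' g⟩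
    have h1 : (⊤ : Subgroup (G ⧸ N')) = S := S.3 (hpg.to_subgroup ⊤) le_top
    rw [← h1]
    infer_instance
  exact Cfsg.Agent.S3868.result hi hii hiii hns

end Cfsg.Agent.S3873
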