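import Cfsg.Statements.S3889
import Mathlib

set_option autoImplicit false
open Cfsg

namespace Cfsg.Agent.S3889

/-- A finite abelian group that is the union of a family of proper subgroups any two of which intersect trivially is elementary abelian: its exponent is a prime. -/
theorem result {G : Type*} [CommGroup G] [Finite G] (𝓑 : Set (Subgroup G)) (hprop : ∀ B ∈ 𝓑, B ≠ ⊤)
    (hcov : ∀ g : G, ∃ B ∈ 𝓑, g ∈ B) (hdisj : ∀ B ∈ 𝓑, ∀ C ∈ 𝓑, B ≠ C → B ⊓ C = ⊥) :
    (Monoid.exponent G).Prime := by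
  have key : ∀ B ∈ 𝓑, ∀ x ∈ B, x ≠ 1 → ∀ y : G, y ∉ B → orderOf y ∣ orderOf x := by
    intro B hB x hx hx1 y hy
    obtain ⟨B₂, hB₂, hy₂⟩ := hcov y
    obtain ⟨B₃, hB₃, hxy⟩ := hcov (x * y)
    have h32 : B₃ ≠ B₂ := by
      rintro rfl
      have hx3 : x ∈ B₃ := by
        have : x = (x * y) * y⁻¹ := by group
        rw [this]
        exact Subgroup.mul_mem _ hxy (Subgroup.inv_mem _ hy₂)
      have hB3B : B₃ ≠ B := by
        rintro rfl
        exact hy hy₂
      have : x ∈ B₃ ⊓ B := ⟨hx3, hx⟩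
      rw [hdisj B₃ hB₃ B hB hB3B, Subgroup.mem_bot] at this
      exact hx1 this
    have hym : y ^ orderOf x ∈ B₃ ⊓ B₂ := by
      constructor
      · have : y ^ orderOf x = (x * y) ^ orderOf x := by
          rw [mul_pow, pow_orderOf_eq_one, one_mul]
        rw [this]
        exact Subgroup.pow_mem _ hxy _
      · exact Subgroup.pow_mem _ hy₂ _
    rw [hdisj B₃ hB₃ B₂ hB₂ h32, Subgroup.mem_bot] at hym
    exact orderOf_dvd_of_pow_eq_one hym
  have key2 : ∀ B ∈ 𝓑, ∀ x ∈ B, x ≠ 1 → ∀ y : G, y ∉ B → orderOf x = orderOf y := by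
    intro B hB x hx hx1 y hy
    apply Nat.dvd_antisymm _ (key B hB x hx hx1 y hy)
    obtain ⟨B₂, hB₂, hy₂⟩ := hcov y
    have hBB : B₂ ≠ B := by
      rintro rfl
      exact hy hy₂
    have hy1 : y ≠ 1 := by
      rintro rfl
      exact hy (Subgroup.one_mem _)
    have hx2 : x ∉ B₂ := by
      intro hx2
      have : x ∈ B₂ ⊓ B := ⟨hx2, hx⟩
      rw [hdisj B₂ hB₂ B hB hBB, Subgroup.mem_bot] at this
      exact hx1 this
    exact key B₂ hB₂ y hy₂ hy1 x hx2
  have hnotmem : ∀ B ∈ 𝓑, ∃ y : G, y ∉ B := by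
    intro B hB
    by_contra hcon
    push Not at hcon
    exact hprop B hB (eq_top_iff.mpr fun g _ => hcon g)
  have hall : ∀ x x' : G, x ≠ 1 → x' ≠ 1 → orderOf x = orderOf x' := by
    intro x x' hx1 hx1'
    obtain ⟨B, hB, hx⟩ := hcov x
    by_cases hx' : x' ∈ B
    · obtain ⟨y, hy⟩ := hnotmem B hB
      rw [key2 B hB x hx hx1 y hy, key2 B hB x' hx' hx1' y hy]
    · exact key2 B hB x hx hx1 x' hx'
  obtain ⟨B₀, hB₀, -⟩ := hcov 1
  obtain ⟨y, hy⟩ := hnotmem B₀ hB₀
  have hy1 : y ≠ 1 := by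
    rintro rfl
    exact hy (Subgroup.one_mem _)
  have hn1 : orderOf y ≠ 1 := by
    rw [Ne, orderOf_eq_one_iff]
    exact hy1
  have hn0 : orderOf y ≠ 0 := (orderOf_pos y).ne'
  have hprime : (orderOf y).Prime := by
    have hp := Nat.minFac_prime hn1
    have hdvd := Nat.minFac_dvd (orderOf y)
    have hz : orderOf (y ^ (orderOf y / (orderOf y).minFac)) = (orderOf y).minFac :=
      orderOf_pow_orderOf_div hn0 hdvd
    have hz1 : y ^ (orderOf y / (orderOf y).minFac) ≠ 1 := by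
      intro h
      rw [h, orderOf_one] at hz
      exact hp.one_lt.ne hz
    have := hall _ y hz1 hy1
    rw [hz] at this
    rw [← this]
    exact hp
  have hexp : Monoid.exponent G = orderOf y := by
    apply Nat.dvd_antisymm
    · apply Monoid.exponent_dvd_of_forall_pow_eq_one
      intro g
      by_cases hg : g = 1
      · rw [hg, one_pow]
      · rw [← hall g y hg hy1]
        exact pow_orderOf_eq_one g
    · exact Monoid.order_dvd_exponent y
  rw [hexp]
  exact hprime

end Cfsg.Agent.S3889
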