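import Cfsg.Statements.S3890
import Mathlib
import Cfsg.Agent.Lib.Helper23.NilCover

set_option autoImplicit false
open Cfsg

namespace Cfsg.Agent.S3890

/-- A cover of a group is a finite set of proper subgroups whose union is the whole group; it is minimal when no cover has fewer members, and nilpotent when all its members are nilpotent. Let G be a finite group with trivial center admitting a nilpotent minimal cover 𝓐, and let P be an abelian Sylow p-subgroup of G that is not normal. Then either P is elementary abelian of order greater than p, or P is a Sylow p-subgroup of some member A of 𝓐, the normalizer N of P is a maximal subgroup of G, N meets each of its conjugates by elements outside N in a subgroup of order prime to p, and the centralizer of P equals A. -/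
theorem result {G : Type*} [Group G] [Finite G] (hZ : Subgroup.center G = ⊥) (𝓐 : Finset (Subgroup G))
    (h𝓐 : ((∀ A ∈ 𝓐, A ≠ ⊤) ∧ (∀ g : G, ∃ A ∈ 𝓐, g ∈ A)) ∧ (∀ 𝓑 : Finset (Subgroup G), (∀ A ∈ 𝓑, A ≠ ⊤) ∧ (∀ g : G, ∃ A ∈ 𝓑, g ∈ A) → 𝓐.card ≤ 𝓑.card) ∧ (∀ A ∈ 𝓐, Group.IsNilpotent ↥A)) {p : ℕ} [Fact p.Prime] (P : Sylow p G) (hab : IsMulCommutative ↥(P : Subgroup G))
    (hnn : ¬ (P : Subgroup G).Normal) :
    (Cfsg.IsElementaryAbelian p (P : Subgroup G) ∧ p < Nat.card ↥(P : Subgroup G)) ∨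
    (∃ A ∈ 𝓐, (P : Subgroup G) ≤ A ∧ ¬ p ∣ ((P : Subgroup G).subgroupOf A).index ∧
      IsCoatom (Subgroup.normalizer ((P : Subgroup G) : Set G)) ∧
      (∀ g : G, g ∉ Subgroup.normalizer ((P : Subgroup G) : Set G) →
        ¬ p ∣ Nat.card ↥(Subgroup.normalizer ((P : Subgroup G) : Set G) ⊓
          (Subgroup.normalizer ((P : Subgroup G) : Set G)).map (MulAut.conj g).toMonoidHom)) ∧
      Subgroup.centralizer ((P : Subgroup G) : Set G) = A) := by
  classical
  obtain ⟨⟨hprop, hcov⟩, hmin, hnil⟩ := h𝓐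
  have hPne : (P : Subgroup G) ≠ ⊥ := by
    intro h
    apply hnn
    rw [h]
    infer_instance
  have habP : ∀ a ∈ (P : Subgroup G), ∀ b ∈ (P : Subgroup G), a * b = b * a := by
    intro a ha b hb
    have h1 := hab.is_comm.comm (⟨a, ha⟩ : ↥(P : Subgroup G)) ⟨b, hb⟩
    exact congrArg Subtype.val h1
  have habAll : ∀ Q : Sylow p G, ∀ a ∈ (Q : Subgroup G), ∀ b ∈ (Q : Subgroup G),
      a * b = b * a := by
    intro Q a ha b hb
    obtain ⟨g, rfl⟩ := MulAction.exists_smul_eq G P Q
    rw [Cfsg.Agent.Lib.Helper23.NilCover.mem_smul_sylow] at ha hb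
    have h1 := habP _ ha _ hb
    have h2 : a * b = g * ((g⁻¹ * a * g) * (g⁻¹ * b * g)) * g⁻¹ := by group
    rw [h2, h1]
    group
  by_cases hE : (∀ a ∈ (P : Subgroup G), a ^ p = 1) ∧ p < Nat.card ↥(P : Subgroup G)
  · left
    exact ⟨⟨hab, hE.1⟩, hE.2⟩
  right
  obtain ⟨x, hxP, hx1, hx⟩ : ∃ x ∈ (P : Subgroup G), x ≠ 1 ∧
      ((∀ y ∈ (P : Subgroup G), y ∈ Subgroup.zpowers x) ∨ x ^ p ≠ 1) := by
    by_cases h1 : ∀ a ∈ (P : Subgroup G), a ^ p = 1
    · have hcard : ¬ p < Nat.card ↥(P : Subgroup G) := fun h => hE ⟨h1, h⟩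
      obtain ⟨n, hn⟩ := IsPGroup.iff_card.mp P.isPGroup'
      have hp2 := (Fact.out : p.Prime).two_le
      have hn0 : n ≠ 0 := by
        rintro rfl
        rw [pow_zero] at hn
        exact hPne (Subgroup.eq_bot_of_card_eq _ hn)
      have hn1 : n = 1 := by
        by_contra hn1
        have h2 : 2 ≤ n := by omega
        have h3 : p ^ 2 ≤ p ^ n := Nat.pow_le_pow_right (by omega) h2
        apply hcard
        rw [hn]
        nlinarith
      have hcardp : Nat.card ↥(P : Subgroup G) = p := by rw [hn, hn1, pow_one]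
      have hc : IsCyclic ↥(P : Subgroup G) := isCyclic_of_prime_card hcardp
      obtain ⟨g, hg⟩ := hc.exists_generator
      have hgen : ∀ y ∈ (P : Subgroup G), y ∈ Subgroup.zpowers g.1 := by
        intro y hy
        obtain ⟨j, hj⟩ := Subgroup.mem_zpowers_iff.mp (hg ⟨y, hy⟩)
        rw [Subgroup.mem_zpowers_iff]
        refine ⟨j, ?_⟩
        have h1 := congrArg Subtype.val hj
        simpa using h1
      refine ⟨g.1, g.2, ?_, Or.inl hgen⟩
      intro h
      apply hPne
      rw [Subgroup.eq_bot_iff_forall]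
      intro y hy
      obtain ⟨j, hj⟩ := Subgroup.mem_zpowers_iff.mp (hgen y hy)
      rw [h, one_zpow] at hj
      exact hj.symm
    · push Not at h1
      obtain ⟨a, ha, hap⟩ := h1
      refine ⟨a, ha, ?_, Or.inr hap⟩
      rintro rfl
      exact hap (one_pow p)
  obtain ⟨A, hA, hxA⟩ := hcov x
  have hPA := Cfsg.Agent.Lib.Helper23.NilCover.sylow_le_member hZ 𝓐 hprop hcov hmin hnil habAll P
    hxP hx hA hxA
  have hCA := Cfsg.Agent.Lib.Helper23.NilCover.centralizer_eq_member hZ 𝓐 hprop hcov hmin hnil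
    habAll P hxP hx1 hA hPA
  have hNtop : Subgroup.normalizer ((P : Subgroup G) : Set G) ≠ ⊤ := by
    intro h
    exact hnn (Subgroup.normalizer_eq_top_iff.mp h)
  have hkey : ∀ M : Subgroup G, M ≠ ⊤ → Subgroup.centralizer ((P : Subgroup G) : Set G) ≤ M →
      M ≤ Subgroup.normalizer ((P : Subgroup G) : Set G) :=
    fun M hM hCM => Cfsg.Agent.Lib.Helper23.NilCover.le_normalizer_of_centralizer_le hZ 𝓐 hprop
      hcov hmin hnil habAll P hxP hx1 hx hM hCM
  have hCN : Subgroup.centralizer ((P : Subgroup G) : Set G) ≤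
      Subgroup.normalizer ((P : Subgroup G) : Set G) := Subgroup.centralizer_le_normalizer _
  refine ⟨A, hA, hPA, ?_, ⟨hNtop, ?_⟩, ?_, hCA⟩
  · intro hdvd
    have h1 : (P : Subgroup G).relIndex A ∣ (P : Subgroup G).index :=
      Subgroup.relIndex_dvd_index_of_le hPA
    exact P.not_dvd_index (hdvd.trans h1)
  · intro M hNM
    by_contra hM
    exact absurd (hkey M hM (hCN.trans hNM.le)) (not_le_of_gt hNM)
  · intro g hg hdvd
    obtain ⟨y, hy⟩ := exists_prime_orderOf_dvd_card' p hdvd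
    have hyN : y.1 ∈ Subgroup.normalizer ((P : Subgroup G) : Set G) := y.2.1
    obtain ⟨n, hnN, hny⟩ := Subgroup.mem_map.mp y.2.2
    have hny' : g * n * g⁻¹ = y.1 := hny
    have hoy : orderOf y.1 = p := (Subgroup.orderOf_coe y).trans hy
    have hyp : y.1 ^ p = 1 := by
      have h0 := pow_orderOf_eq_one y.1
      rwa [hoy] at h0
    have hy1 : y.1 ≠ 1 := by
      intro h
      rw [h, orderOf_one] at hoy
      exact (Fact.out : p.Prime).one_lt.ne hoy
    have hyP : y.1 ∈ (P : Subgroup G) :=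
      Cfsg.Agent.Lib.Helper23.NilCover.mem_sylow_of_mem_normalizer P y.1 hyN 1
        (by rw [pow_one]; exact hyp)
    have hnp : n ^ p = 1 := by
      have h1 : n = g⁻¹ * y.1 * g := by rw [← hny']; group
      have h2 : n ^ p = g⁻¹ * y.1 ^ p * g := by
        rw [h1]
        have := conj_pow (i := p) (a := g⁻¹) (b := y.1)
        rw [inv_inv] at this
        exact this
      rw [h2, hyp]
      group
    have hnP : n ∈ (P : Subgroup G) :=
      Cfsg.Agent.Lib.Helper23.NilCover.mem_sylow_of_mem_normalizer P n hnN 1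
        (by rw [pow_one]; exact hnp)
    have hyP' : y.1 ∈ ((g • P : Sylow p G) : Subgroup G) := by
      rw [Cfsg.Agent.Lib.Helper23.NilCover.mem_smul_sylow]
      have h1 : g⁻¹ * y.1 * g = n := by rw [← hny']; group
      rw [h1]
      exact hnP
    have hx'P' : g * x * g⁻¹ ∈ ((g • P : Sylow p G) : Subgroup G) := by
      rw [Cfsg.Agent.Lib.Helper23.NilCover.mem_smul_sylow]
      have h1 : g⁻¹ * (g * x * g⁻¹) * g = x := by group
      rw [h1]
      exact hxP
    have hx' := Cfsg.Agent.Lib.Helper23.NilCover.conj_gen P g x hx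
    obtain ⟨B, hB, hx'B⟩ := hcov (g * x * g⁻¹)
    have hP'B := Cfsg.Agent.Lib.Helper23.NilCover.sylow_le_member hZ 𝓐 hprop hcov hmin hnil habAll
      (g • P) hx'P' hx' hB hx'B
    have hAB : A = B :=
      Cfsg.Agent.Lib.Helper23.NilCover.member_unique hZ 𝓐 hprop hcov hmin hnil habAll hA hB
        (hPA hyP) (hP'B hyP') hy1 1 (by rw [pow_one]; exact hyp)
    apply hg
    apply Cfsg.Agent.Lib.Helper23.NilCover.mem_normalizer_of_smul_le P g
    intro z hz
    have h1 : z ∈ A := hAB ▸ hP'B hz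
    rw [← hCA] at h1
    exact hCN h1

end Cfsg.Agent.S3890
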