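import Cfsg.Statements.S3891
import Mathlib
import Cfsg.Agent.Lib.Helper23.NilCover

set_option autoImplicit false
open Cfsg

namespace Cfsg.Agent.S3891

/-- A cover of a group is a finite set of proper subgroups whose union is the whole group; it is minimal when no cover has fewer members, and nilpotent when all its members are nilpotent. Let G be a finite group with trivial center admitting a nilpotent minimal cover, and let P be a non-normal Sylow p-subgroup of G that is cyclic, or abelian but not elementary abelian. Then the centralizer of P is nilpotent and the normalizer of P is the unique maximal subgroup of G containing the centralizer of P. -/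
theorem result {G : Type*} [Group G] [Finite G] (hZ : Subgroup.center G = ⊥) (𝓐 : Finset (Subgroup G))
    (h𝓐 : ((∀ A ∈ 𝓐, A ≠ ⊤) ∧ (∀ g : G, ∃ A ∈ 𝓐, g ∈ A)) ∧ (∀ 𝓑 : Finset (Subgroup G), (∀ A ∈ 𝓑, A ≠ ⊤) ∧ (∀ g : G, ∃ A ∈ 𝓑, g ∈ A) → 𝓐.card ≤ 𝓑.card) ∧ (∀ A ∈ 𝓐, Group.IsNilpotent ↥A)) {p : ℕ} [Fact p.Prime] (P : Sylow p G)
    (hP : IsCyclic ↥(P : Subgroup G) ∨ (IsMulCommutative ↥(P : Subgroup G) ∧ ¬ Cfsg.IsElementaryAbelian p (P : Subgroup G)))
    (hnn : ¬ (P : Subgroup G).Normal) :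
    Group.IsNilpotent ↥(Subgroup.centralizer ((P : Subgroup G) : Set G)) ∧
      IsCoatom (Subgroup.normalizer ((P : Subgroup G) : Set G)) ∧
      ∀ M : Subgroup G, IsCoatom M → Subgroup.centralizer ((P : Subgroup G) : Set G) ≤ M →
        M = Subgroup.normalizer ((P : Subgroup G) : Set G) := by
  classical
  obtain ⟨⟨hprop, hcov⟩, hmin, hnil⟩ := h𝓐
  have hPne : (P : Subgroup G) ≠ ⊥ := by
    intro h
    apply hnn
    rw [h]
    infer_instance
  have habP : ∀ a ∈ (P : Subgroup G), ∀ b ∈ (P : Subgroup G), a * b = b * a := by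
    rcases hP with hc | ⟨hc, -⟩
    · intro a ha b hb
      obtain ⟨g, hg⟩ := hc.exists_generator
      obtain ⟨i, hi⟩ := Subgroup.mem_zpowers_iff.mp (hg ⟨a, ha⟩)
      obtain ⟨j, hj⟩ := Subgroup.mem_zpowers_iff.mp (hg ⟨b, hb⟩)
      have h1 : (⟨a, ha⟩ : ↥(P : Subgroup G)) * ⟨b, hb⟩ = ⟨b, hb⟩ * ⟨a, ha⟩ := by
        rw [← hi, ← hj, ← zpow_add, ← zpow_add, add_comm]
      exact congrArg Subtype.val h1
    · intro a ha b hb
      have h1 := hc.is_comm.comm (⟨a, ha⟩ : ↥(P : Subgroup G)) ⟨b, hb⟩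
      exact congrArg Subtype.val h1
  have habAll : ∀ Q : Sylow p G, ∀ a ∈ (Q : Subgroup G), ∀ b ∈ (Q : Subgroup G),
      a * b = b * a := by
    intro Q a ha b hb
    obtain ⟨g, rfl⟩ := MulAction.exists_smul_eq G P Q
    rw [Cfsg.Agent.Lib.Helper23.NilCover.mem_smul_sylow] at ha hb
    have h1 := habP _ ha _ hb
    have h2 : a * b = g * ((g⁻¹ * a * g) * (g⁻¹ * b * g)) * g⁻¹ := by group
    rw [h2, h1]
    group
  obtain ⟨x, hxP, hx1, hx⟩ : ∃ x ∈ (P : Subgroup G), x ≠ 1 ∧
      ((∀ y ∈ (P : Subgroup G), y ∈ Subgroup.zpowers x) ∨ x ^ p ≠ 1) := by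
    rcases hP with hc | ⟨hc, hne⟩
    · obtain ⟨g, hg⟩ := hc.exists_generator
      have hgen : ∀ y ∈ (P : Subgroup G), y ∈ Subgroup.zpowers g.1 := by
        intro y hy
        obtain ⟨j, hj⟩ := Subgroup.mem_zpowers_iff.mp (hg ⟨y, hy⟩)
        rw [Subgroup.mem_zpowers_iff]
        refine ⟨j, ?_⟩
        have h1 := congrArg Subtype.val hj
        simpa using h1
      refine ⟨g.1, g.2, ?_, Or.inl hgen⟩
      intro h
      apply hPne
      rw [Subgroup.eq_bot_iff_forall]
      intro y hy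
      obtain ⟨j, hj⟩ := Subgroup.mem_zpowers_iff.mp (hgen y hy)
      rw [h, one_zpow] at hj
      exact hj.symm
    · have h1 : ∃ a ∈ (P : Subgroup G), a ^ p ≠ 1 := by
        by_contra h
        push Not at h
        exact hne ⟨hc, h⟩
      obtain ⟨a, ha, hap⟩ := h1
      refine ⟨a, ha, ?_, Or.inr hap⟩
      rintro rfl
      exact hap (one_pow p)
  obtain ⟨A, hA, hxA⟩ := hcov x
  have hPA := Cfsg.Agent.Lib.Helper23.NilCover.sylow_le_member hZ 𝓐 hprop hcov hmin hnil habAll P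
    hxP hx hA hxA
  have hCA := Cfsg.Agent.Lib.Helper23.NilCover.centralizer_eq_member hZ 𝓐 hprop hcov hmin hnil
    habAll P hxP hx1 hA hPA
  have hNtop : Subgroup.normalizer ((P : Subgroup G) : Set G) ≠ ⊤ := by
    intro h
    exact hnn (Subgroup.normalizer_eq_top_iff.mp h)
  have hkey : ∀ M : Subgroup G, M ≠ ⊤ → Subgroup.centralizer ((P : Subgroup G) : Set G) ≤ M →
      M ≤ Subgroup.normalizer ((P : Subgroup G) : Set G) :=
    fun M hM hCM => Cfsg.Agent.Lib.Helper23.NilCover.le_normalizer_of_centralizer_le hZ 𝓐 hprop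
      hcov hmin hnil habAll P hxP hx1 hx hM hCM
  have hCN : Subgroup.centralizer ((P : Subgroup G) : Set G) ≤
      Subgroup.normalizer ((P : Subgroup G) : Set G) := Subgroup.centralizer_le_normalizer _
  refine ⟨?_, ⟨hNtop, ?_⟩, ?_⟩
  · rw [hCA]
    exact hnil A hA
  · intro M hNM
    by_contra hM
    exact absurd (hkey M hM (hCN.trans hNM.le)) (not_le_of_gt hNM)
  · intro M hM hCM
    have hle := hkey M hM.1 hCM
    rcases eq_or_lt_of_le hle with h | h
    · exact h
    · exact absurd (hM.2 _ h) hNtop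

end Cfsg.Agent.S3891
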