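import Cfsg.Statements.S3895
import Mathlib
import Cfsg.Agent.Lib.Helper26.ZStarGen

set_option autoImplicit false
open Cfsg

namespace Cfsg.Agent.S3895

universe u

/-- the type of conjugacy classes of 2-elements -/
abbrev K2 (G : Type*) [Group G] : Type _ :=
  {c : ConjClasses G // ∀ x ∈ c.carrier, ∃ k : ℕ, orderOf x = 2 ^ k}

lemma order_conj {G : Type*} [Group G] {x y : G} (h : IsConj x y) : orderOf x = orderOf y := by
  obtain ⟨c, hc⟩ := isConj_iff.mp h
  rw [← hc]
  exact ((MulAut.conj c).orderOf_eq x).symm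

/-- the class of a 2-element -/
def toK2 {G : Type*} [Group G] (x : G) (hx : ∃ k : ℕ, orderOf x = 2 ^ k) : K2 G :=
  ⟨ConjClasses.mk x, fun y hy => by
    rw [ConjClasses.mem_carrier_iff_mk_eq, ConjClasses.mk_eq_mk_iff_isConj] at hy
    obtain ⟨k, hk⟩ := hx
    exact ⟨k, by rw [order_conj hy, hk]⟩⟩

lemma toK2_eq_iff {G : Type*} [Group G] {x y : G} (hx : ∃ k : ℕ, orderOf x = 2 ^ k)
    (hy : ∃ k : ℕ, orderOf y = 2 ^ k) : toK2 x hx = toK2 y hy ↔ IsConj x y := by
  unfold toK2
  rw [Subtype.mk.injEq, ConjClasses.mk_eq_mk_iff_isConj]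

lemma two_of_mem {G : Type*} [Group G] [Finite G] (P : Sylow 2 G) {x : G} (hx : x ∈ (P : Subgroup G)) :
    ∃ k : ℕ, orderOf x = 2 ^ k := by
  obtain ⟨k, hk⟩ := IsPGroup.iff_orderOf.1 P.isPGroup' ⟨x, hx⟩
  rw [Subgroup.orderOf_mk] at hk
  exact ⟨k, hk⟩

lemma two_of_class {G : Type*} [Group G] (c : K2 G) {x : G} (hx : ConjClasses.mk x = c.1) :
    ∃ k : ℕ, orderOf x = 2 ^ k :=
  c.2 x (ConjClasses.mem_carrier_iff_mk_eq.mpr hx)

lemma two_map {G H : Type*} [Group G] [Group H] (f : G →* H) {x : G}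
    (hx : ∃ k : ℕ, orderOf x = 2 ^ k) : ∃ k : ℕ, orderOf (f x) = 2 ^ k := by
  obtain ⟨k, hk⟩ := hx
  have h1 : orderOf (f x) ∣ 2 ^ k := hk ▸ orderOf_map_dvd f x
  obtain ⟨j, -, hj⟩ := (Nat.dvd_prime_pow Nat.prime_two).mp h1
  exact ⟨j, hj⟩

/-- every class of 2-elements has a representative in a given Sylow 2-subgroup -/
lemma rep_in_sylow {G : Type*} [Group G] [Finite G] (P : Sylow 2 G) (c : K2 G) :
    ∃ x : ↥(P : Subgroup G), ConjClasses.mk (x : G) = c.1 := by
  have hp2 : Fact (Nat.Prime 2) := ⟨Nat.prime_two⟩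
  obtain ⟨x, hx⟩ := ConjClasses.mk_surjective c.1
  obtain ⟨k, hk⟩ := two_of_class c hx
  have hR : IsPGroup 2 (Subgroup.zpowers x) := by
    apply IsPGroup.of_card (n := k)
    rw [Nat.card_zpowers, hk]
  obtain ⟨h, hh⟩ := Cfsg.Agent.Lib.Helper19.exists_conj_mem_sylow P hR
  refine ⟨⟨h * x * h⁻¹, hh x (Subgroup.mem_zpowers x)⟩, ?_⟩
  rw [← hx, ConjClasses.mk_eq_mk_iff_isConj]
  exact (isConj_iff.mpr ⟨h, rfl⟩).symm

/-- Counting (I): if no nonidentity element of `P` is isolated then `2 k₂ ≤ |P| + 1`. -/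
lemma count_noiso {G : Type*} [Group G] [Finite G] (P : Sylow 2 G)
    (h : ∀ x ∈ (P : Subgroup G), x ≠ 1 → ¬ Cfsg.Agent.Lib.Helper26.IsoIn (P : Subgroup G) x) :
    2 * Nat.card (K2 G) ≤ Nat.card ↥(P : Subgroup G) + 1 := by
  classical
  have hex : ∀ c : K2 G, ∃ r : ↥(P : Subgroup G), ∃ a : ↥(P : Subgroup G),
      ConjClasses.mk (r : G) = c.1 ∧ (r ≠ 1 → ConjClasses.mk (a : G) = c.1 ∧ a ≠ r) := by
    intro c
    obtain ⟨r, hr⟩ := rep_in_sylow P c
    by_cases h1 : r = 1
    · exact ⟨r, r, hr, fun h2 => absurd h1 h2⟩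
    · have h1' : (r : G) ≠ 1 := fun h0 => h1 (Subtype.ext h0)
      have h2 := h r r.2 h1'
      unfold Cfsg.Agent.Lib.Helper26.IsoIn at h2
      push Not at h2
      obtain ⟨g, hg1, hg2⟩ := h2 r.2
      refine ⟨r, ⟨g * r * g⁻¹, hg1⟩, hr, fun _ => ⟨?_, ?_⟩⟩
      · rw [← hr, ConjClasses.mk_eq_mk_iff_isConj]
        exact (isConj_iff.mpr ⟨g, rfl⟩).symm
      · intro h3
        exact hg2 (congrArg Subtype.val h3)
  choose r a hr ha using hex
  let ψ : K2 G × Bool → Option ↥(P : Subgroup G) := fun q =>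
    if q.2 = false then some (r q.1) else if r q.1 = 1 then none else some (a q.1)
  have hcl : ∀ c c' : K2 G, ConjClasses.mk (r c : G) = ConjClasses.mk (r c' : G) → c = c' := by
    intro c c' h1
    apply Subtype.ext
    rw [← hr c, ← hr c', h1]
  have hinj : Function.Injective ψ := by
    rintro ⟨c, b⟩ ⟨c', b'⟩ heq
    cases b <;> cases b'
    · have h1 : r c = r c' := by simpa [ψ] using heq
      have h2 := hcl c c' (by rw [h1])
      rw [h2]
    · by_cases h1 : r c' = 1
      · simp [ψ, h1] at heq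
      · have h2 : r c = a c' := by simpa [ψ, h1] using heq
        have h3 : c = c' := by
          apply Subtype.ext
          rw [← hr c, h2, (ha c' h1).1]
        rw [h3] at h2
        exact absurd h2.symm (ha c' h1).2
    · by_cases h1 : r c = 1
      · simp [ψ, h1] at heq
      · have h2 : a c = r c' := by simpa [ψ, h1] using heq
        have h3 : c = c' := by
          apply Subtype.ext
          rw [← hr c', ← h2, (ha c h1).1]
        rw [← h3] at h2
        exact absurd h2 (ha c h1).2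
    · by_cases h1 : r c = 1
      · by_cases h1' : r c' = 1
        · have h3 : c = c' := hcl c c' (by rw [h1, h1'])
          rw [h3]
        · simp [ψ, h1, h1'] at heq
      · by_cases h1' : r c' = 1
        · simp [ψ, h1, h1'] at heq
        · have h2 : a c = a c' := by simpa [ψ, h1, h1'] using heq
          have h3 : c = c' := by
            apply Subtype.ext
            rw [← (ha c h1).1, h2, (ha c' h1').1]
          rw [h3]
  have hcard := Nat.card_le_card_of_injective ψ hinj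
  rw [Nat.card_prod, Finite.card_option, Nat.card_eq_fintype_card (α := Bool), Fintype.card_bool] at hcard
  omega

/-- Counting (II): `k₂(H) ≤ k₂(H/N) · |N|` for a normal subgroup `N`. -/
lemma count_quot {H : Type*} [Group H] [Finite H] (N : Subgroup H) [N.Normal] :
    Nat.card (K2 H) ≤ Nat.card (K2 (H ⧸ N)) * Nat.card ↥N := by
  classical
  have hex : ∀ c : K2 H, ∃ x : H, ConjClasses.mk x = c.1 := fun c => ConjClasses.mk_surjective c.1
  choose x₀ hx₀ using hex
  let Φ : K2 H → K2 (H ⧸ N) := fun c =>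
    toK2 (QuotientGroup.mk' N (x₀ c)) (two_map (QuotientGroup.mk' N) (two_of_class c (hx₀ c)))
  have hey : ∀ d : K2 (H ⧸ N), ∃ y : H, ConjClasses.mk (QuotientGroup.mk' N y) = d.1 := by
    intro d
    obtain ⟨y', hy'⟩ := ConjClasses.mk_surjective d.1
    obtain ⟨y, rfl⟩ := QuotientGroup.mk'_surjective N y'
    exact ⟨y, hy'⟩
  choose y₀ hy₀ using hey
  have hz : ∀ c : K2 H, ∃ z : ↥N, ConjClasses.mk (y₀ (Φ c) * (z : H)) = c.1 := by
    intro c
    have h1 : ConjClasses.mk (QuotientGroup.mk' N (y₀ (Φ c))) = ConjClasses.mk (QuotientGroup.mk' N (x₀ c)) :=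
      hy₀ (Φ c)
    rw [ConjClasses.mk_eq_mk_iff_isConj] at h1
    obtain ⟨g', hg'⟩ := isConj_iff.mp h1.symm
    obtain ⟨g, rfl⟩ := QuotientGroup.mk'_surjective N g'
    have h2 : QuotientGroup.mk' N (y₀ (Φ c)) = QuotientGroup.mk' N (g * x₀ c * g⁻¹) := by
      rw [← hg']
      simp only [map_mul, map_inv]
    have h3 : (y₀ (Φ c))⁻¹ * (g * x₀ c * g⁻¹) ∈ N := by
      have := h2
      rw [QuotientGroup.mk'_apply, QuotientGroup.mk'_apply, QuotientGroup.eq] at this
      exact this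
    refine ⟨⟨_, h3⟩, ?_⟩
    rw [← hx₀ c, ConjClasses.mk_eq_mk_iff_isConj]
    have h4 : y₀ (Φ c) * ((y₀ (Φ c))⁻¹ * (g * x₀ c * g⁻¹)) = g * x₀ c * g⁻¹ := by group
    show IsConj (y₀ (Φ c) * ((y₀ (Φ c))⁻¹ * (g * x₀ c * g⁻¹))) (x₀ c)
    rw [h4]
    exact (isConj_iff.mpr ⟨g, rfl⟩).symm
  choose z₀ hz₀ using hz
  let Ψ : K2 H → K2 (H ⧸ N) × ↥N := fun c => (Φ c, z₀ c)
  have hinj : Function.Injective Ψ := by
    intro c c' heq
    have h1 : Φ c = Φ c' := congrArg Prod.fst heq
    have h2 : z₀ c = z₀ c' := congrArg Prod.snd heq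
    apply Subtype.ext
    rw [← hz₀ c, ← hz₀ c', h1, h2]
  have hcard := Nat.card_le_card_of_injective Ψ hinj
  rw [Nat.card_prod] at hcard
  exact hcard

/-- Counting (III): `k₂(G) ≤ k₂(G/O)` for a normal subgroup `O` of odd order. -/
lemma count_odd {G : Type*} [Group G] [Finite G] (O : Subgroup G) [O.Normal]
    (hO : (Nat.card O).Coprime 2) (P : Sylow 2 G) :
    Nat.card (K2 G) ≤ Nat.card (K2 (G ⧸ O)) := by
  classical
  have hp2 : Fact (Nat.Prime 2) := ⟨Nat.prime_two⟩
  have hex : ∀ c : K2 G, ∃ r : ↥(P : Subgroup G), ConjClasses.mk (r : G) = c.1 := rep_in_sylow P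
  choose r hr using hex
  let Φ : K2 G → K2 (G ⧸ O) := fun c =>
    toK2 (QuotientGroup.mk' O (r c)) (two_map (QuotientGroup.mk' O) (two_of_mem P (r c).2))
  have hinj : Function.Injective Φ := by
    intro c c' heq
    have h1 : IsConj (QuotientGroup.mk' O (r c : G)) (QuotientGroup.mk' O (r c' : G)) :=
      (toK2_eq_iff _ _).mp heq
    obtain ⟨g', hg'⟩ := isConj_iff.mp h1
    obtain ⟨g, rfl⟩ := QuotientGroup.mk'_surjective O g'
    set w : G := g * (r c : G) * g⁻¹ with hw
    have hwq : QuotientGroup.mk' O w = QuotientGroup.mk' O (r c' : G) := by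
      rw [← hg', hw]
      simp only [map_mul, map_inv]
    set A : Subgroup G := ((P : Subgroup G).map (QuotientGroup.mk' O)).comap (QuotientGroup.mk' O) with hA
    have hSA : (P : Subgroup G) ≤ A := Subgroup.le_comap_map _ _
    have hwA : w ∈ A := by
      rw [hA, Subgroup.mem_comap, hwq]
      exact ⟨(r c' : G), (r c').2, rfl⟩
    have hp1 : IsPGroup 2 (Subgroup.zpowers (r c : G)) :=
      Cfsg.Agent.Lib.Helper26.isPGroup_zpowers_of_mem P.isPGroup' (r c).2
    have hp2' : IsPGroup 2 (Subgroup.zpowers w) :=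
      Cfsg.Agent.Lib.Helper26.isPGroup_zpowers_conj hp1 g
    obtain ⟨t, ht, R, hR, -, hSR, htR⟩ :=
      Cfsg.Agent.Lib.Helper19.exists_conj_pgroup_le A hSA (Subgroup.zpowers_le.2 hwA)
        P.isPGroup' hp2'
    have hRS : R = (P : Subgroup G) := P.3 hR hSR
    have h3 : t * w * t⁻¹ ∈ (P : Subgroup G) := by
      rw [← hRS]
      exact htR w (Subgroup.mem_zpowers w)
    obtain ⟨s, hs, hst⟩ : ∃ s ∈ (P : Subgroup G), QuotientGroup.mk' O s = QuotientGroup.mk' O t := by
      have := ht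
      rw [hA, Subgroup.mem_comap] at this
      obtain ⟨s, hs, hst⟩ := this
      exact ⟨s, hs, hst⟩
    have h4 : s * (r c' : G) * s⁻¹ ∈ (P : Subgroup G) :=
      (P : Subgroup G).mul_mem ((P : Subgroup G).mul_mem hs (r c').2) ((P : Subgroup G).inv_mem hs)
    have h5 : QuotientGroup.mk' O (t * w * t⁻¹) = QuotientGroup.mk' O (s * (r c' : G) * s⁻¹) := by
      simp only [map_mul, map_inv]
      rw [hwq, hst]
    have h6 : (t * w * t⁻¹)⁻¹ * (s * (r c' : G) * s⁻¹) ∈ O := by
      have := h5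
      rw [QuotientGroup.mk'_apply, QuotientGroup.mk'_apply, QuotientGroup.eq] at this
      exact this
    have h7 : (t * w * t⁻¹)⁻¹ * (s * (r c' : G) * s⁻¹) ∈ (P : Subgroup G) :=
      (P : Subgroup G).mul_mem ((P : Subgroup G).inv_mem h3) h4
    have h8 := Cfsg.Agent.Lib.Helper26.eq_one_of_mem_two_odd P.isPGroup' hO h7 h6
    have h9 : t * w * t⁻¹ = s * (r c' : G) * s⁻¹ := by
      have := congrArg (fun v => t * w * t⁻¹ * v) h8
      simpa [mul_assoc] using this.symm
    have h10 : IsConj (r c : G) (r c' : G) := by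
      rw [isConj_iff]
      refine ⟨s⁻¹ * t * g, ?_⟩
      have : s⁻¹ * t * g * (r c : G) * (s⁻¹ * t * g)⁻¹ = s⁻¹ * (t * w * t⁻¹) * s := by
        rw [hw]; group
      rw [this, h9]
      group
    apply Subtype.ext
    rw [← hr c, ← hr c', ConjClasses.mk_eq_mk_iff_isConj]
    exact h10
  exact Nat.card_le_card_of_injective Φ hinj

/-- Sylow orders in a quotient. -/
lemma card_sylow_quot {G : Type*} [Group G] [Finite G] (N : Subgroup G) [N.Normal]
    (P : Sylow 2 G) (Q : Sylow 2 (G ⧸ N)) :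
    Nat.card ↥(P : Subgroup G) = Nat.card ↥(Q : Subgroup (G ⧸ N)) * 2 ^ (Nat.card ↥N).factorization 2 := by
  have hp2 : Fact (Nat.Prime 2) := ⟨Nat.prime_two⟩
  rw [Sylow.card_eq_multiplicity, Sylow.card_eq_multiplicity, ← pow_add]
  congr 1
  rw [Subgroup.card_eq_card_quotient_mul_card_subgroup N,
    Nat.factorization_mul Nat.card_pos.ne' Nat.card_pos.ne']
  rfl

lemma normal_of_central {H : Type*} [Group H] (Z : Subgroup H) (hZ : Z ≤ Subgroup.center H) :
    Z.Normal :=
  ⟨fun n hn g => by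
    have h1 := Subgroup.mem_center_iff.mp (hZ hn) g
    have h2 : g * n * g⁻¹ = n := by rw [h1]; group
    rw [h2]; exact hn⟩

/-- Core claim: trivial odd core and more than `|P|/2` classes of 2-elements force a 2-group. -/
theorem two_group_of_many (n : ℕ) : ∀ (H : Type u) [Group H] [Finite H], Nat.card H = n →
    pPrimeCore 2 H = ⊥ → ∀ P : Sylow 2 H, Nat.card ↥(P : Subgroup H) < 2 * Nat.card (K2 H) →
    IsPGroup 2 H := by
  induction n using Nat.strong_induction_on with
  | _ n ih =>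
  intro H _ _ hn hO P hk
  have hp2 : Fact (Nat.Prime 2) := ⟨Nat.prime_two⟩
  by_cases hiso : ∃ x ∈ (P : Subgroup H), x ≠ 1 ∧ Cfsg.Agent.Lib.Helper26.IsoIn (P : Subgroup H) x
  · obtain ⟨x, hxP, hx1, hxi⟩ := hiso
    obtain ⟨k, hk'⟩ := P.isPGroup' ⟨x, hxP⟩
    have hxk : x ^ (2 ^ k) = 1 := by
      have := congrArg Subtype.val hk'
      simpa using this
    have hxc : x ∈ Subgroup.center H :=
      Cfsg.Agent.Lib.Helper26.center_of_isoIn k H P hO x hxi hxk
    set Z : Subgroup H := Subgroup.zpowers x with hZ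
    have hZc : Z ≤ Subgroup.center H := Subgroup.zpowers_le.2 hxc
    have hZn : Z.Normal := normal_of_central Z hZc
    have hZ2 : IsPGroup 2 Z := Cfsg.Agent.Lib.Helper26.isPGroup_zpowers_of_mem P.isPGroup' hxP
    have hOq : pPrimeCore 2 (H ⧸ Z) = ⊥ :=
      Cfsg.Agent.Lib.Helper26.oddCore_quot_central hO Z hZc hZ2
    obtain ⟨a, ha⟩ := IsPGroup.iff_card.mp hZ2
    have hZne : Z ≠ ⊥ := by
      intro h0
      have h1 : x ∈ Z := Subgroup.mem_zpowers x
      rw [h0] at h1
      exact hx1 (Subgroup.mem_bot.mp h1)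
    have hZcard : 1 < Nat.card Z := Z.one_lt_card_iff_ne_bot.mpr hZne
    have hcardH : Nat.card H = Nat.card (H ⧸ Z) * Nat.card Z :=
      Subgroup.card_eq_card_quotient_mul_card_subgroup Z
    have hlt : Nat.card (H ⧸ Z) < n := by
      rw [← hn, hcardH]
      have hpos : 0 < Nat.card (H ⧸ Z) := Nat.card_pos
      nlinarith
    let Q : Sylow 2 (H ⧸ Z) := default
    have h1 := card_sylow_quot Z P Q
    have hfa : (Nat.card ↥Z).factorization 2 = a := by
      rw [ha, Nat.factorization_pow, Finsupp.smul_apply, Nat.Prime.factorization_self Nat.prime_two]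
      simp
    rw [hfa] at h1
    have h2 := count_quot Z
    rw [ha] at h2
    have h3 : Nat.card ↥(Q : Subgroup (H ⧸ Z)) < 2 * Nat.card (K2 (H ⧸ Z)) := by
      by_contra hcon
      push Not at hcon
      have h4 : 2 * Nat.card (K2 H) ≤ Nat.card ↥(P : Subgroup H) := by
        calc 2 * Nat.card (K2 H) ≤ 2 * (Nat.card (K2 (H ⧸ Z)) * 2 ^ a) := Nat.mul_le_mul_left 2 h2
          _ = (2 * Nat.card (K2 (H ⧸ Z))) * 2 ^ a := by ring
          _ ≤ Nat.card ↥(Q : Subgroup (H ⧸ Z)) * 2 ^ a := Nat.mul_le_mul_right _ hcon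
          _ = Nat.card ↥(P : Subgroup H) := h1.symm
      omega
    have h4 : IsPGroup 2 (H ⧸ Z) := ih _ hlt (H ⧸ Z) rfl hOq Q h3
    obtain ⟨b, hb⟩ := IsPGroup.iff_card.mp h4
    apply IsPGroup.of_card (n := b + a)
    rw [hcardH, hb, ha, pow_add]
  · push Not at hiso
    have h1 := count_noiso P (fun x hx hx1 hxi => hiso x hx hx1 hxi)
    have h2 : Nat.card ↥(P : Subgroup H) = 2 ^ (Nat.card H).factorization 2 :=
      Sylow.card_eq_multiplicity P
    have h3 : (Nat.card H).factorization 2 = 0 := by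
      by_contra h0
      obtain ⟨m, hm⟩ := Nat.exists_eq_succ_of_ne_zero h0
      rw [hm, pow_succ] at h2
      omega
    have h4 : (Nat.card H).Coprime 2 := by
      rw [Nat.coprime_comm, Nat.Prime.coprime_iff_not_dvd Nat.prime_two]
      intro hdvd
      have := Nat.Prime.factorization_pos_of_dvd Nat.prime_two Nat.card_pos.ne' hdvd
      omega
    have h5 : (⊤ : Subgroup H) ≤ pPrimeCore 2 H :=
      Cfsg.Agent.Lib.Helper1.le_pPrimeCore 2 inferInstance (by rw [Subgroup.card_top]; exact h4)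
    rw [hO] at h5
    apply IsPGroup.of_card (n := 0)
    rw [pow_zero, ← Subgroup.card_top (G := H), le_bot_iff.mp h5, Subgroup.card_bot]

/-- forward direction, first half -/
theorem forward1 {G : Type u} [Group G] [Finite G] (P : Sylow 2 G)
    (hk : Nat.card ↥(P : Subgroup G) < 2 * Nat.card (K2 G)) : Cfsg.HasNormalPComplement 2 G := by
  have hp2 : Fact (Nat.Prime 2) := ⟨Nat.prime_two⟩
  set O : Subgroup G := pPrimeCore 2 G with hOdef
  have hOn : O.Normal := Cfsg.Agent.Lib.Helper1.pPrimeCore_normal 2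
  have hOc : (Nat.card O).Coprime 2 := Cfsg.Agent.Lib.Helper1.pPrimeCore_coprime 2
  have hOq : pPrimeCore 2 (G ⧸ O) = ⊥ :=
    Cfsg.Agent.Lib.Helper6.pPrimeCore_quotient_pPrimeCore_eq_bot
  let Q : Sylow 2 (G ⧸ O) := default
  have h1 := card_sylow_quot O P Q
  have hf0 : (Nat.card ↥O).factorization 2 = 0 :=
    Nat.factorization_eq_zero_of_not_dvd
      ((Nat.Prime.coprime_iff_not_dvd Nat.prime_two).mp hOc.symm)
  rw [hf0, pow_zero, mul_one] at h1
  have h2 := count_odd O hOc P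
  have h3 : Nat.card ↥(Q : Subgroup (G ⧸ O)) < 2 * Nat.card (K2 (G ⧸ O)) := by
    rw [← h1]
    exact lt_of_lt_of_le hk (Nat.mul_le_mul_left 2 h2)
  have h4 : IsPGroup 2 (G ⧸ O) := two_group_of_many _ (G ⧸ O) rfl hOq Q h3
  obtain ⟨b, hb⟩ := IsPGroup.iff_card.mp h4
  have hQtop : (⊤ : Subgroup (G ⧸ O)) = (Q : Subgroup (G ⧸ O)) :=
    Q.3 (h4.to_subgroup ⊤) le_top
  have hQcard : Nat.card ↥(Q : Subgroup (G ⧸ O)) = Nat.card (G ⧸ O) := by
    rw [← hQtop, Subgroup.card_top]
  have hcardG : Nat.card G = Nat.card (G ⧸ O) * Nat.card O :=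
    Subgroup.card_eq_card_quotient_mul_card_subgroup O
  refine ⟨P, O, hOn, Subgroup.isComplement'_of_coprime ?_ ?_⟩
  · rw [h1, hQcard, hcardG, mul_comm]
  · rw [h1, hQcard, hb]
    exact Nat.Coprime.pow_right b hOc

/-- every class of 2-elements comes from a class of `P` -/
lemma k2_le_kP {G : Type*} [Group G] [Finite G] (P : Sylow 2 G) :
    Nat.card (K2 G) ≤ Nat.card (ConjClasses ↥(P : Subgroup G)) := by
  classical
  have hex : ∀ c : K2 G, ∃ r : ↥(P : Subgroup G), ConjClasses.mk (r : G) = c.1 := rep_in_sylow P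
  choose r hr using hex
  let Φ : K2 G → ConjClasses ↥(P : Subgroup G) := fun c => ConjClasses.mk (r c)
  have hinj : Function.Injective Φ := by
    intro c c' heq
    have h1 : IsConj (r c) (r c') := ConjClasses.mk_eq_mk_iff_isConj.mp heq
    have h2 : IsConj (r c : G) (r c' : G) := (Subgroup.subtype (P : Subgroup G)).map_isConj h1
    apply Subtype.ext
    rw [← hr c, ← hr c', ConjClasses.mk_eq_mk_iff_isConj]
    exact h2
  exact Nat.card_le_card_of_injective Φ hinj

/-- with a normal 2-complement, fusion in `P` is controlled by `P` -/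
lemma kP_le_k2 {G : Type*} [Group G] [Finite G] (P : Sylow 2 G)
    (hN : Cfsg.HasNormalPComplement 2 G) :
    Nat.card (ConjClasses ↥(P : Subgroup G)) ≤ Nat.card (K2 G) := by
  classical
  have hp2 : Fact (Nat.Prime 2) := ⟨Nat.prime_two⟩
  obtain ⟨P', N, hNn, hc⟩ := hN
  have hcm := hc.card_mul_card
  have hPP : Nat.card ↥(P : Subgroup G) = Nat.card ↥(P' : Subgroup G) := by
    rw [Sylow.card_eq_multiplicity, Sylow.card_eq_multiplicity]
  have hPc : Nat.card ↥(P' : Subgroup G) = 2 ^ (Nat.card G).factorization 2 :=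
    Sylow.card_eq_multiplicity P'
  have hN2 : ¬ 2 ∣ Nat.card ↥N := by
    intro hdvd
    have h0 : 2 * 2 ^ (Nat.card G).factorization 2 ∣ Nat.card ↥N * Nat.card ↥(P' : Subgroup G) :=
      Nat.mul_dvd_mul hdvd (by rw [hPc])
    have h1 : 2 ^ ((Nat.card G).factorization 2 + 1) ∣ Nat.card G := by
      rw [hcm] at h0
      rw [pow_succ, mul_comm]
      exact h0
    exact Nat.pow_succ_factorization_not_dvd Nat.card_pos.ne' Nat.prime_two h1
  have hc' : N.IsComplement' (P : Subgroup G) := by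
    apply Subgroup.isComplement'_of_coprime
    · rw [hPP]; exact hcm
    · rw [hPP, hPc]
      exact Nat.Coprime.pow_right _ ((Nat.Prime.coprime_iff_not_dvd Nat.prime_two).mpr hN2).symm
  have hdisj := hc'.disjoint
  have hrep : ∀ d : ConjClasses ↥(P : Subgroup G), ∃ y : ↥(P : Subgroup G), ConjClasses.mk y = d :=
    fun d => ConjClasses.mk_surjective d
  choose y hy using hrep
  let F : ConjClasses ↥(P : Subgroup G) → K2 G := fun d => toK2 (y d : G) (two_of_mem P (y d).2)
  have hinj : Function.Injective F := by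
    intro d d' heq
    have h1 : IsConj (y d : G) (y d' : G) := (toK2_eq_iff _ _).mp heq
    obtain ⟨g, hg⟩ := isConj_iff.mp h1
    obtain ⟨⟨n, u⟩, hnu⟩ := hc'.2 g
    have hnu' : (n : G) * (u : G) = g := hnu
    set x' : G := (u : G) * (y d : G) * (u : G)⁻¹ with hx'
    have hx'P : x' ∈ (P : Subgroup G) :=
      (P : Subgroup G).mul_mem ((P : Subgroup G).mul_mem u.2 (y d).2) ((P : Subgroup G).inv_mem u.2)
    have h2 : (y d' : G) = (n : G) * x' * (n : G)⁻¹ := by
      rw [← hg, ← hnu', hx']; group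
    have h3 : (y d' : G) * x'⁻¹ ∈ N := by
      have h4 : (y d' : G) * x'⁻¹ = (n : G) * (x' * (n : G)⁻¹ * x'⁻¹) := by rw [h2]; group
      rw [h4]
      exact N.mul_mem n.2 (hNn.conj_mem _ (N.inv_mem n.2) x')
    have h5 : (y d' : G) * x'⁻¹ ∈ (P : Subgroup G) :=
      (P : Subgroup G).mul_mem (y d').2 ((P : Subgroup G).inv_mem hx'P)
    have h6 : (y d' : G) * x'⁻¹ = 1 := Subgroup.disjoint_def.mp hdisj h3 h5
    have h7 : (y d' : G) = x' := by
      have := congrArg (fun v => v * x') h6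
      simpa using this
    have h8 : IsConj (y d) (y d') := by
      rw [isConj_iff]
      refine ⟨u, Subtype.ext ?_⟩
      show (u : G) * (y d : G) * (u : G)⁻¹ = (y d' : G)
      rw [h7]
    rw [← hy d, ← hy d', ConjClasses.mk_eq_mk_iff_isConj]
    exact h8
  exact Nat.card_le_card_of_injective F hinj

/-- Let G be a finite group with Sylow 2-subgroup P, and write k₂(G) for the number of conjugacy classes of G consisting of 2-elements (elements of 2-power order, the identity included). Then k₂(G) > |P|/2 if and only if G has a normal 2-complement and P has more than |P|/2 conjugacy classes. -/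
theorem result {G : Type*} [Group G] [Finite G] (P : Sylow 2 G) :
    Nat.card ↥(P : Subgroup G) < 2 * Nat.card {c : ConjClasses G // ∀ x ∈ c.carrier, ∃ k : ℕ, orderOf x = 2 ^ k} ↔
      Cfsg.HasNormalPComplement 2 G ∧ Nat.card ↥(P : Subgroup G) < 2 * Nat.card (ConjClasses ↥(P : Subgroup G)) := by
  constructor
  · intro hk
    exact ⟨forward1 P hk, lt_of_lt_of_le hk (Nat.mul_le_mul_left 2 (k2_le_kP P))⟩
  · rintro ⟨hN, hk⟩
    exact lt_of_lt_of_le hk (Nat.mul_le_mul_left 2 (kP_le_k2 P hN))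

end Cfsg.Agent.S3895
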