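import Cfsg.Statements.S3898
import Mathlib
import Cfsg.Agent.S3895
import Cfsg.Agent.Lib.Helper22.KPi

set_option autoImplicit false
open Cfsg

namespace Cfsg.Agent.S3898

open scoped Pointwise

theorem gb {G : Type*} [Group G] [Finite G] {p : ℕ} [Fact p.Prime] (P : Sylow p G)
    (A : Subgroup G) (hA : A ≤ Subgroup.normalizer ((P : Subgroup G) : Set G)) :
    p * (Nat.card {c : ConjClasses G // ∀ x ∈ c.carrier, ∃ k : ℕ, orderOf x = p ^ k} * Nat.card ↥A)
      ≤ Nat.card ↥(A ⊓ Subgroup.centralizer ((P : Subgroup G) : Set G)) * (p * Nat.card ↥(P : Subgroup G))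
        + (Nat.card ↥A - Nat.card ↥(A ⊓ Subgroup.centralizer ((P : Subgroup G) : Set G)))
          * Nat.card ↥(P : Subgroup G) := by
  classical
  have hp : p.Prime := Fact.out
  letI : MulAction ↥A ↥(P : Subgroup G) :=
    MulAction.compHom _ ((Cfsg.Agent.Lib.Helper22.normalizerConjHom (P : Subgroup G)).comp (Subgroup.inclusion hA))
  have hsmul : ∀ (n : ↥A)
      (x : ↥(P : Subgroup G)), ((n • x : ↥(P : Subgroup G)) : G) = n * x * (n : G)⁻¹ :=
    fun n x => rfl
  -- the elements of the normalizer centralizing `P`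
  let C : Subgroup ↥A :=
    (Subgroup.centralizer ((P : Subgroup G) : Set G)).subgroupOf A
  have hCmem : ∀ n : ↥A,
      n ∈ C ↔ (n : G) ∈ Subgroup.centralizer ((P : Subgroup G) : Set G) := fun n => Iff.rfl
  -- fixed points
  have hfixle : ∀ n : ↥A,
      Nat.card (MulAction.fixedBy ↥(P : Subgroup G) n) ≤ Nat.card ↥(P : Subgroup G) :=
    fun n => Nat.card_le_card_of_injective _ Subtype.val_injective
  have hfix2 : ∀ n : ↥A, n ∉ C →
      p * Nat.card (MulAction.fixedBy ↥(P : Subgroup G) n) ≤ Nat.card ↥(P : Subgroup G) := by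
    intro n hn
    let F : Subgroup ↥(P : Subgroup G) :=
      (Subgroup.centralizer ({(n : G)} : Set G)).subgroupOf (P : Subgroup G)
    have hFmem : ∀ x : ↥(P : Subgroup G), x ∈ F ↔ (x : G) * n = n * x := by
      intro x
      show (x : G) ∈ Subgroup.centralizer ({(n : G)} : Set G) ↔ _
      rw [Subgroup.mem_centralizer_iff]
      constructor
      · intro h1
        exact (h1 _ (Set.mem_singleton _)).symm
      · intro h1 y hy
        rw [Set.mem_singleton_iff] at hy
        rw [hy]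
        exact h1.symm
    have hFset : (MulAction.fixedBy ↥(P : Subgroup G) n) = (F : Set ↥(P : Subgroup G)) := by
      ext x
      rw [MulAction.mem_fixedBy, SetLike.mem_coe, hFmem]
      constructor
      · intro h1
        have h2 := congrArg Subtype.val h1
        rw [hsmul] at h2
        calc (x : G) * n = ((n : G) * x * (n : G)⁻¹) * n := by rw [h2]
          _ = n * x := by group
      · intro h1
        apply Subtype.ext
        rw [hsmul, ← h1]
        group
    have hFne : F ≠ ⊤ := by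
      intro hF
      apply hn
      rw [hCmem, Subgroup.mem_centralizer_iff]
      intro y hy
      have h1 : (⟨y, hy⟩ : ↥(P : Subgroup G)) ∈ F := by
        rw [hF]
        exact Subgroup.mem_top _
      exact (hFmem _).mp h1
    obtain ⟨k, hk⟩ := P.isPGroup'.index F
    have hk0 : k ≠ 0 := by
      intro h0
      rw [h0, pow_zero] at hk
      exact hFne (Subgroup.index_eq_one.mp hk)
    have h1 := Subgroup.card_mul_index F
    have h2 : p ≤ F.index := by
      rw [hk]
      calc p = p ^ 1 := (pow_one p).symm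
        _ ≤ p ^ k := Nat.pow_le_pow_right hp.pos (by omega)
    have h3 : Nat.card (MulAction.fixedBy ↥(P : Subgroup G) n) = Nat.card F := by
      rw [hFset]
      rfl
    rw [h3, ← h1, mul_comm]
    exact Nat.mul_le_mul_left _ h2
  -- Burnside's lemma
  haveI : Fintype ↥A := Fintype.ofFinite _
  haveI : ∀ n : ↥A,
      Fintype (MulAction.fixedBy ↥(P : Subgroup G) n) := fun n => Fintype.ofFinite _
  haveI : Fintype (MulAction.orbitRel.Quotient
      ↥A ↥(P : Subgroup G)) := Fintype.ofFinite _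
  have hB := MulAction.sum_card_fixedBy_eq_card_orbits_mul_card_group
    ↥A ↥(P : Subgroup G)
  -- bound the sum
  have hsum : ∑ n : ↥A,
      p * Fintype.card (MulAction.fixedBy ↥(P : Subgroup G) n)
      ≤ Fintype.card {n : ↥A // n ∈ C}
          * (p * Nat.card ↥(P : Subgroup G))
        + (Fintype.card ↥A
          - Fintype.card {n : ↥A // n ∈ C})
          * Nat.card ↥(P : Subgroup G) := by
    apply Cfsg.Agent.Lib.Helper22.sum_le_of_split (fun n => n ∈ C)
    · intro n _
      rw [← Nat.card_eq_fintype_card]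
      exact Nat.mul_le_mul_left _ (hfixle n)
    · intro n hn
      rw [← Nat.card_eq_fintype_card]
      exact hfix2 n hn
  rw [← Finset.mul_sum, hB] at hsum
  have hcC : Fintype.card {n : ↥A // n ∈ C}
      = Nat.card C := by
    rw [← Nat.card_eq_fintype_card]
  rw [hcC, ← Nat.card_eq_fintype_card, ← Nat.card_eq_fintype_card] at hsum
  -- the classes of `p`-elements inject into the orbits
  have hrep : ∀ c : {c : ConjClasses G // ∀ x ∈ c.carrier, ∃ k : ℕ, orderOf x = p ^ k},
      ∃ x : ↥(P : Subgroup G), ConjClasses.mk (x : G) = c.1 := by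
    rintro ⟨c, hc⟩
    obtain ⟨g, rfl⟩ := ConjClasses.mk_surjective c
    obtain ⟨k, hk⟩ := hc g ConjClasses.mem_carrier_mk
    obtain ⟨a, ha⟩ := Cfsg.Agent.Lib.Helper22.exists_conj_mem_sylow P g k hk
    refine ⟨⟨a * g * a⁻¹, ha⟩, ?_⟩
    show ConjClasses.mk (a * g * a⁻¹) = ConjClasses.mk g
    rw [ConjClasses.mk_eq_mk_iff_isConj, isConj_comm, isConj_iff]
    exact ⟨a, rfl⟩
  choose rep hrep' using hrep
  have hinj : Function.Injective
      (fun c : {c : ConjClasses G // ∀ x ∈ c.carrier, ∃ k : ℕ, orderOf x = p ^ k} =>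
        (Quotient.mk'' (rep c) : MulAction.orbitRel.Quotient
          ↥A ↥(P : Subgroup G))) := by
    intro c d hcd
    have h1 : rep c ∈ MulAction.orbit ↥A
        (rep d) := Quotient.exact' hcd
    obtain ⟨n, hn⟩ := h1
    apply Subtype.ext
    rw [← hrep' c, ← hrep' d, ConjClasses.mk_eq_mk_iff_isConj, isConj_comm, isConj_iff]
    refine ⟨(n : G), ?_⟩
    have h2 := congrArg Subtype.val hn
    exact h2
  have hle := Nat.card_le_card_of_injective _ hinj
  have hCcard : Nat.card C = Nat.card ↥(A ⊓ Subgroup.centralizer ((P : Subgroup G) : Set G)) := by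
    have h1 : C = (A ⊓ Subgroup.centralizer ((P : Subgroup G) : Set G)).subgroupOf A :=
      (Subgroup.inf_subgroupOf_left _ _).symm
    rw [h1]
    exact Nat.card_congr (Subgroup.subgroupOfEquivOfLe inf_le_left).toEquiv
  rw [hCcard] at hsum
  calc p * (Nat.card {c : ConjClasses G // ∀ x ∈ c.carrier, ∃ k : ℕ, orderOf x = p ^ k} * Nat.card ↥A)
      ≤ p * (Nat.card (MulAction.orbitRel.Quotient ↥A ↥(P : Subgroup G)) * Nat.card ↥A) :=
        Nat.mul_le_mul_left _ (Nat.mul_le_mul_right _ hle)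
    _ ≤ _ := hsum

/-- the `r`-elements class type -/
abbrev Kr (r : ℕ) (G : Type*) [Group G] : Type _ :=
  {c : ConjClasses G // ∀ x ∈ c.carrier, ∃ k : ℕ, orderOf x = r ^ k}

/-- `P` is abelian when it has more than `|P|/2` fusion classes (`r` odd). -/
theorem abelian_step {G : Type*} [Group G] [Finite G] {r : ℕ} [Fact r.Prime] (hr2 : r ≠ 2)
    (P : Sylow r G) (hk : Nat.card ↥(P : Subgroup G) < 2 * Nat.card (Kr r G)) :
    (P : Subgroup G) ≤ Subgroup.centralizer ((P : Subgroup G) : Set G) := by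
  classical
  have hr : r.Prime := Fact.out
  have hr3 : 3 ≤ r := by
    have := hr.two_le
    omega
  have hA : (P : Subgroup G) ≤ Subgroup.normalizer ((P : Subgroup G) : Set G) := Subgroup.le_normalizer
  have hgb := gb P (P : Subgroup G) hA
  -- the centre of P as a subgroup of ↥P
  let F : Subgroup ↥(P : Subgroup G) :=
    (Subgroup.centralizer ((P : Subgroup G) : Set G)).subgroupOf (P : Subgroup G)
  have hFcard : Nat.card F = Nat.card ↥((P : Subgroup G) ⊓ Subgroup.centralizer ((P : Subgroup G) : Set G)) := by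
    have h1 : F = ((P : Subgroup G) ⊓ Subgroup.centralizer ((P : Subgroup G) : Set G)).subgroupOf (P : Subgroup G) :=
      (Subgroup.inf_subgroupOf_left _ _).symm
    rw [h1]
    exact Nat.card_congr (Subgroup.subgroupOfEquivOfLe inf_le_left).toEquiv
  rw [← hFcard] at hgb
  have hFc : F ≤ Subgroup.center ↥(P : Subgroup G) := by
    intro x hx
    rw [Subgroup.mem_center_iff]
    intro y
    have h1 : (x : G) ∈ Subgroup.centralizer ((P : Subgroup G) : Set G) := hx
    rw [Subgroup.mem_centralizer_iff] at h1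
    apply Subtype.ext
    exact h1 y y.2
  have hFn : F.Normal := Cfsg.Agent.S3895.normal_of_central F hFc
  obtain ⟨n, hn⟩ := P.isPGroup'.index F
  have hcm := Subgroup.card_mul_index F
  rw [hn] at hcm
  have hFtop : F = ⊤ → (P : Subgroup G) ≤ Subgroup.centralizer ((P : Subgroup G) : Set G) := by
    intro hF x hx
    have h1 : (⟨x, hx⟩ : ↥(P : Subgroup G)) ∈ F := by rw [hF]; exact Subgroup.mem_top _
    exact h1
  set nP := Nat.card ↥(P : Subgroup G) with hnP
  set nF := Nat.card F with hnF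
  set k := Nat.card (Kr r G) with hkdef
  have hFpos : 0 < nF := Nat.card_pos
  have hPpos : 0 < nP := Nat.card_pos
  -- r * k ≤ r * nF + (nP - nF)
  have hFle : nF ≤ nP := by
    rw [← hcm]
    exact Nat.le_mul_of_pos_right _ (pow_pos hr.pos n)
  have h2 : r * k ≤ nF * r + (nP - nF) := by
    have h3 : (r * k) * nP ≤ (nF * r + (nP - nF)) * nP := by
      calc (r * k) * nP = r * (k * nP) := by ring
        _ ≤ nF * (r * nP) + (nP - nF) * nP := hgb
        _ = (nF * r + (nP - nF)) * nP := by ring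
    exact Nat.le_of_mul_le_mul_right h3 hPpos
  rcases Nat.lt_or_ge n 1 with h0 | h1
  · -- index 1
    have hn0 : n = 0 := by omega
    rw [hn0, pow_zero] at hn
    exact hFtop (Subgroup.index_eq_one.mp hn)
  · exfalso
    rcases Nat.lt_or_ge n 2 with h1' | h2'
    · -- index r : quotient cyclic
      have hn1 : n = 1 := by omega
      rw [hn1, pow_one] at hn
      have hcyc : IsCyclic (↥(P : Subgroup G) ⧸ F) := isCyclic_of_prime_card (p := r) hn
      have hker : (QuotientGroup.mk' F).ker ≤ Subgroup.center ↥(P : Subgroup G) := by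
        rw [QuotientGroup.ker_mk']
        exact hFc
      have hcomm := commutative_of_cyclic_center_quotient (QuotientGroup.mk' F) hker
      have hF : F = ⊤ := by
        rw [eq_top_iff]
        intro x _
        show (x : G) ∈ Subgroup.centralizer ((P : Subgroup G) : Set G)
        rw [Subgroup.mem_centralizer_iff]
        intro y hy
        have := hcomm ⟨y, hy⟩ x
        exact congrArg Subtype.val this
      rw [hF, Subgroup.index_top] at hn
      exact hr.one_lt.ne hn
    · -- index ≥ r^2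
      have h4 : r ^ 2 ≤ r ^ n := Nat.pow_le_pow_right hr.pos h2'
      have h5 : nF * r ^ 2 ≤ nP := by
        rw [← hcm]
        exact Nat.mul_le_mul_left _ h4
      obtain ⟨d, hd⟩ := Nat.exists_eq_add_of_le hFle
      have h6 : nP - nF = d := by omega
      rw [h6] at h2
      obtain ⟨s, hs⟩ := Nat.exists_eq_add_of_le hr3
      subst hs
      -- r = 3 + s ; nP = nF + d ; nF * r^2 ≤ nP ; nP < 2k ; r k ≤ nF r + d
      nlinarith [Nat.zero_le (s * nF), Nat.zero_le (s * d), Nat.zero_le (s * s * nF), Nat.zero_le (s * k)]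

/-- For odd `r`, in an odd-order normal subgroup `K ≥ P`: `N_K(P) ≤ C(P)`. -/
theorem odd_step {G : Type*} [Group G] [Finite G] {r : ℕ} [Fact r.Prime] (hr2 : r ≠ 2)
    (P : Sylow r G) (K : Subgroup G) (hKodd : ¬ 2 ∣ Nat.card K) (hPK : (P : Subgroup G) ≤ K)
    (hk : Nat.card ↥(P : Subgroup G) < 2 * Nat.card (Kr r G)) :
    K ⊓ Subgroup.normalizer ((P : Subgroup G) : Set G)
      ≤ Subgroup.centralizer ((P : Subgroup G) : Set G) := by
  classical
  have hr : r.Prime := Fact.out
  have hr3 : 3 ≤ r := by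
    have := hr.two_le
    omega
  have hab := abelian_step hr2 P hk
  set A : Subgroup G := K ⊓ Subgroup.normalizer ((P : Subgroup G) : Set G) with hAdef
  have hA : A ≤ Subgroup.normalizer ((P : Subgroup G) : Set G) := inf_le_right
  have hgb := gb P A hA
  set C : Subgroup G := A ⊓ Subgroup.centralizer ((P : Subgroup G) : Set G) with hCdef
  have hCA : C ≤ A := inf_le_left
  have hj : Nat.card C * C.relIndex A = Nat.card A := by
    have h1 := Subgroup.relIndex_mul_relIndex ⊥ C A bot_le hCA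
    rw [Subgroup.relIndex_bot_left, Subgroup.relIndex_bot_left] at h1
    exact h1
  set j := C.relIndex A with hjdef
  have hPC : (P : Subgroup G) ≤ C :=
    le_inf (le_inf hPK Subgroup.le_normalizer) hab
  have hPdvd : Nat.card ↥(P : Subgroup G) ∣ Nat.card C := Subgroup.card_dvd_of_le hPC
  have hAK : Nat.card A ∣ Nat.card K := Subgroup.card_dvd_of_le inf_le_left
  have hj2 : ¬ 2 ∣ j := fun h => hKodd ((h.trans (Dvd.intro_left _ hj)).trans hAK)
  have hjr : ¬ r ∣ j := by
    intro h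
    have h1 : r * Nat.card ↥(P : Subgroup G) ∣ Nat.card A := by
      rw [← hj, mul_comm (Nat.card C)]
      exact Nat.mul_dvd_mul h hPdvd
    have h2 : r * Nat.card ↥(P : Subgroup G) ∣ Nat.card G := h1.trans (Subgroup.card_subgroup_dvd_card A)
    rw [Sylow.card_eq_multiplicity, mul_comm, ← pow_succ] at h2
    exact Nat.pow_succ_factorization_not_dvd Nat.card_pos.ne' hr h2
  set nP := Nat.card ↥(P : Subgroup G) with hnP
  set nC := Nat.card C with hnC
  set nA := Nat.card A with hnA
  set k := Nat.card (Kr r G) with hkdef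
  have hCpos : 0 < nC := Nat.card_pos
  have hApos : 0 < nA := Nat.card_pos
  have hjpos : 0 < j := by
    rcases Nat.eq_zero_or_pos j with h0 | h0
    · rw [h0, mul_zero] at hj
      omega
    · exact h0
  rcases Nat.lt_or_ge j 2 with hj1 | hj2'
  · have hj1' : j = 1 := by omega
    rw [hj1', mul_one] at hj
    have hCeq : C = A := Subgroup.eq_of_le_of_card_ge hCA (by rw [← hnC, ← hnA, hj])
    rw [← hCeq]
    exact inf_le_right
  · exfalso
    have hj3 : 3 ≤ j := by
      rcases Nat.lt_or_ge j 3 with h | h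
      · have : j = 2 := by omega
        exact absurd (Dvd.intro 1 (by omega)) hj2
      · exact h
    -- r k j ≤ (r + j - 1) nP
    obtain ⟨t, ht⟩ := Nat.exists_eq_add_of_le hj3
    have hAC : nA - nC = nC * (2 + t) := by
      rw [← hj, ht]
      have : nC * (3 + t) = nC + nC * (2 + t) := by ring
      omega
    rw [hAC, ← hj, ht] at hgb
    have h3 : (r * (k * (3 + t))) * nC ≤ ((r + (2 + t)) * nP) * nC := by
      calc (r * (k * (3 + t))) * nC = r * (k * (nC * (3 + t))) := by ring
        _ ≤ nC * (r * nP) + nC * (2 + t) * nP := hgb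
        _ = ((r + (2 + t)) * nP) * nC := by ring
    have h4 : r * (k * (3 + t)) ≤ (r + (2 + t)) * nP := Nat.le_of_mul_le_mul_right h3 hCpos
    rcases Nat.lt_or_ge r 4 with hr4 | hr4
    · have hr3' : r = 3 := by omega
      subst hr3'
      have ht0 : t = 0 := by
        by_contra hne
        have : 1 ≤ t := by omega
        nlinarith [Nat.zero_le (t * k), Nat.zero_le (t * nP)]
      rw [ht0] at ht
      exact hjr (Dvd.intro 1 (by omega))
    · obtain ⟨s, hs⟩ := Nat.exists_eq_add_of_le hr4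
      subst hs
      nlinarith [Nat.zero_le (s * t * k), Nat.zero_le (s * k), Nat.zero_le (t * k),
        Nat.zero_le (s * nP), Nat.zero_le (t * nP), Nat.zero_le (s * t * nP)]

/-- Burnside transfer inside `K`: the normal `r`-complement of `K`, as a normal subgroup of `G`. -/
theorem exists_Nr {G : Type*} [Group G] [Finite G] {r : ℕ} [Fact r.Prime] (P : Sylow r G)
    (K : Subgroup G) [hKn : K.Normal] (hPK : (P : Subgroup G) ≤ K)
    (hNC : K ⊓ Subgroup.normalizer ((P : Subgroup G) : Set G)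
      ≤ Subgroup.centralizer ((P : Subgroup G) : Set G)) :
    ∃ N : Subgroup G, N.Normal ∧ N ≤ K ∧ ¬ r ∣ Nat.card N ∧
      Nat.card N * Nat.card ↥(P : Subgroup G) = Nat.card K ∧
      ∀ a ∈ K, ∀ b ∈ K, a * b * a⁻¹ * b⁻¹ ∈ N := by
  classical
  have hr : r.Prime := Fact.out
  let P' : Sylow r ↥K := P.subtype hPK
  have hP'mem : ∀ x : ↥K, x ∈ (P' : Subgroup ↥K) ↔ (x : G) ∈ (P : Subgroup G) := fun x => Iff.rfl
  have hNC' : Subgroup.normalizer ((P' : Subgroup ↥K) : Set ↥K)
      ≤ Subgroup.centralizer ((P' : Subgroup ↥K) : Set ↥K) := by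
    intro x hx
    have hxN : (x : G) ∈ Subgroup.normalizer ((P : Subgroup G) : Set G) := by
      rw [Subgroup.mem_normalizer_iff] at hx ⊢
      intro h
      constructor
      · intro hh
        have := (hx ⟨h, hPK hh⟩).mp ((hP'mem _).mpr hh)
        exact (hP'mem _).mp this
      · intro hh
        have hhK : h ∈ K := by
          have h1 : (x : G) * h * (x : G)⁻¹ ∈ K := hPK hh
          have h2 : h = (x : G)⁻¹ * ((x : G) * h * (x : G)⁻¹) * (x : G) := by group
          rw [h2]
          exact K.mul_mem (K.mul_mem (K.inv_mem x.2) h1) x.2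
        have := (hx ⟨h, hhK⟩).mpr ((hP'mem _).mpr hh)
        exact (hP'mem _).mp this
    have hxC := hNC ⟨x.2, hxN⟩
    rw [Subgroup.mem_centralizer_iff] at hxC ⊢
    intro y hy
    apply Subtype.ext
    exact hxC (y : G) ((hP'mem y).mp hy)
  let τ := MonoidHom.transferSylow P' hNC'
  let M : Subgroup ↥K := τ.ker
  have hcomp : Subgroup.IsComplement' M (P' : Subgroup ↥K) :=
    MonoidHom.ker_transferSylow_isComplement' P' hNC'
  have hcard := hcomp.card_mul_card
  have hP'card : Nat.card ↥(P' : Subgroup ↥K) = Nat.card ↥(P : Subgroup G) :=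
    Nat.card_congr (Subgroup.subgroupOfEquivOfLe hPK).toEquiv
  let N : Subgroup G := M.map K.subtype
  have hNcard : Nat.card N = Nat.card M := Subgroup.card_map_of_injective K.subtype_injective
  have hNK : N ≤ K := Subgroup.map_subtype_le M
  have hcard' : Nat.card N * Nat.card ↥(P : Subgroup G) = Nat.card K := by
    rw [hNcard, ← hP'card]; exact hcard
  have hrN : ¬ r ∣ Nat.card N := by
    intro h
    have h1 : r * Nat.card ↥(P : Subgroup G) ∣ Nat.card K := by
      rw [← hcard']; exact Nat.mul_dvd_mul h (dvd_refl _)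
    have h2 := h1.trans (Subgroup.card_subgroup_dvd_card K)
    rw [Sylow.card_eq_multiplicity, mul_comm, ← pow_succ] at h2
    exact Nat.pow_succ_factorization_not_dvd Nat.card_pos.ne' hr h2
  have hmemN : ∀ x : ↥K, (x : G) ∈ N ↔ x ∈ M := by
    intro x
    constructor
    · rintro ⟨y, hy, hyx⟩
      have : y = x := Subtype.ext hyx
      rw [← this]; exact hy
    · intro hx; exact ⟨x, hx, rfl⟩
  have hcommP : ∀ u v : ↥(P' : Subgroup ↥K), u * v = v * u := by
    intro u v
    have h1 : (u : ↥K) ∈ Subgroup.centralizer ((P' : Subgroup ↥K) : Set ↥K) :=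
      hNC' (Subgroup.le_normalizer u.2)
    rw [Subgroup.mem_centralizer_iff] at h1
    apply Subtype.ext
    exact (h1 v v.2).symm
  refine ⟨N, ?_, hNK, hrN, hcard', ?_⟩
  · constructor
    intro n hn g
    have hnK : n ∈ K := hNK hn
    have hgK : g * n * g⁻¹ ∈ K := hKn.conj_mem n hnK g
    rw [hmemN ⟨g * n * g⁻¹, hgK⟩]
    show τ ⟨g * n * g⁻¹, hgK⟩ = 1
    have ho1 : orderOf (τ ⟨g * n * g⁻¹, hgK⟩) ∣ orderOf (⟨g * n * g⁻¹, hgK⟩ : ↥K) :=
      orderOf_map_dvd τ _
    have ho2 : orderOf (⟨g * n * g⁻¹, hgK⟩ : ↥K) = orderOf n := by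
      rw [Subgroup.orderOf_mk]
      exact ((MulAut.conj g).orderOf_eq n)
    have ho3 : orderOf n ∣ Nat.card N := Subgroup.orderOf_dvd_natCard N hn
    have ho4 : orderOf (τ ⟨g * n * g⁻¹, hgK⟩) ∣ Nat.card ↥(P' : Subgroup ↥K) :=
      orderOf_dvd_natCard _
    have hcop : Nat.Coprime (Nat.card N) (Nat.card ↥(P' : Subgroup ↥K)) := by
      rw [hP'card, Sylow.card_eq_multiplicity]
      exact Nat.Coprime.pow_right _ ((Nat.Prime.coprime_iff_not_dvd hr).mpr hrN).symm
    have ho5 : orderOf (τ ⟨g * n * g⁻¹, hgK⟩) ∣ 1 := by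
      rw [← hcop.gcd_eq_one]
      exact Nat.dvd_gcd (ho1.trans (ho2 ▸ ho3)) ho4
    exact orderOf_eq_one_iff.mp (Nat.dvd_one.mp ho5)
  · intro a ha b hb
    have h1 : (⟨a, ha⟩ * ⟨b, hb⟩ * (⟨a, ha⟩ : ↥K)⁻¹ * (⟨b, hb⟩ : ↥K)⁻¹ : ↥K) ∈ M := by
      show τ _ = 1
      rw [map_mul, map_mul, map_mul, map_inv, map_inv, hcommP (τ ⟨a, ha⟩) (τ ⟨b, hb⟩)]
      group
    exact (hmemN _).mpr h1

theorem main {G : Type*} [Group G] [Finite G] (π : Finset ℕ) (hπ : ∀ r ∈ π, r.Prime) (h2 : 2 ∈ π)
    (hk : π.prod (fun r => r ^ (Nat.card G).factorization r) < 2 * Nat.card {c : ConjClasses G // ∀ x ∈ c.carrier, ∀ r : ℕ, r.Prime → r ∣ orderOf x → r ∈ π}) :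
    (∃ N : Subgroup G, N.Normal ∧ (∀ r : ℕ, r.Prime → r ∣ Nat.card ↥N → r ∉ π) ∧ ∀ r : ℕ, r.Prime → r ∣ N.index → r ∈ π) ∧ ∃ H : Subgroup G, Cfsg.IsPiHall ((↑π : Set ℕ) \ {2}) H ∧ IsMulCommutative ↥H := by
  classical
  -- Step 1: single primes
  have hstep1 : ∀ r ∈ π, ∀ (_ : Fact r.Prime) (P : Sylow r G),
      Nat.card ↥(P : Subgroup G) < 2 * Nat.card (Kr r G) := by
    intro r hr hrf P
    have hrp : r.Prime := hπ r hr
    have hins : insert r (π.erase r) = π := Finset.insert_erase hr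
    have hσ : ∀ q ∈ π.erase r, q.Prime := fun q hq => hπ q (Finset.mem_of_mem_erase hq)
    have h1 := Lib.Helper22.card_piClasses_insert_le (G := G) (π.erase r) r hrp _
      (Lib.Helper22.card_piClasses_subgroup_le (π.erase r) hσ)
    rw [hins] at h1
    have hprod : π.prod (fun q => q ^ (Nat.card G).factorization q)
        = r ^ (Nat.card G).factorization r
          * (π.erase r).prod (fun q => q ^ (Nat.card G).factorization q) :=
      (Finset.mul_prod_erase π _ hr).symm
    have hpos : 0 < (π.erase r).prod (fun q => q ^ (Nat.card G).factorization q) :=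
      Finset.prod_pos (fun q hq => pow_pos (hσ q hq).pos _)
    rw [Sylow.card_eq_multiplicity]
    rw [hprod] at hk
    have e1 : r ^ (Nat.card G).factorization r
        * (π.erase r).prod (fun q => q ^ (Nat.card G).factorization q)
        < (2 * Nat.card (Kr r G)) * (π.erase r).prod (fun q => q ^ (Nat.card G).factorization q) := by
      calc _ < 2 * Nat.card {c : ConjClasses G // ∀ x ∈ c.carrier, ∀ r : ℕ, r.Prime →
              r ∣ orderOf x → r ∈ π} := hk
        _ ≤ 2 * (Nat.card (Kr r G) * (π.erase r).prod (fun q => q ^ (Nat.card G).factorization q)) :=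
            Nat.mul_le_mul_left _ h1
        _ = _ := by ring
    exact Nat.lt_of_mul_lt_mul_right e1
  -- Step 2: the prime 2
  haveI hf2 : Fact (Nat.Prime 2) := ⟨Nat.prime_two⟩
  let P2 : Sylow 2 G := default
  have hk2 : Nat.card ↥(P2 : Subgroup G) < 2 * Nat.card (Cfsg.Agent.S3895.K2 G) :=
    hstep1 2 h2 hf2 P2
  obtain ⟨P2', K, hKn, hKc⟩ := Cfsg.Agent.S3895.forward1 P2 hk2
  haveI := hKn
  have hKcard := hKc.card_mul_card
  have hP2card : Nat.card ↥(P2' : Subgroup G) = 2 ^ (Nat.card G).factorization 2 :=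
    Sylow.card_eq_multiplicity P2'
  set m := (Nat.card G).factorization 2 with hm
  have hKodd : ¬ 2 ∣ Nat.card K := by
    intro hdvd
    have h0 : 2 * 2 ^ m ∣ Nat.card ↥K * Nat.card ↥(P2' : Subgroup G) :=
      Nat.mul_dvd_mul hdvd (by rw [hP2card])
    rw [hKcard] at h0
    have h1 : 2 ^ (m + 1) ∣ Nat.card G := by rw [pow_succ, mul_comm]; exact h0
    exact Nat.pow_succ_factorization_not_dvd Nat.card_pos.ne' Nat.prime_two h1
  have hKidx : K.index = 2 ^ m := by
    have h1 := Subgroup.card_mul_index K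
    rw [← hKcard, hP2card] at h1
    exact Nat.eq_of_mul_eq_mul_left Nat.card_pos h1
  have hPK : ∀ (r : ℕ) (hrf : Fact r.Prime), r ≠ 2 → ∀ P : Sylow r G, (P : Subgroup G) ≤ K := by
    intro r hrf hr2 P x hx
    by_contra hxK
    have h1 : ((x : G) : G ⧸ K) ≠ 1 := by rw [Ne, QuotientGroup.eq_one_iff]; exact hxK
    obtain ⟨k, hk'⟩ := IsPGroup.iff_orderOf.1 P.isPGroup' ⟨x, hx⟩
    rw [Subgroup.orderOf_mk] at hk'
    have h2' : orderOf ((x : G) : G ⧸ K) ∣ r ^ k := hk' ▸ orderOf_map_dvd (QuotientGroup.mk' K) x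
    have h3 : orderOf ((x : G) : G ⧸ K) ∣ 2 ^ m := by
      rw [← hKidx]; exact orderOf_dvd_natCard _
    have hcop : Nat.Coprime (r ^ k) (2 ^ m) :=
      Nat.Coprime.pow _ _ ((Nat.coprime_primes hrf.out Nat.prime_two).mpr hr2)
    have h4 : orderOf ((x : G) : G ⧸ K) ∣ 1 := by
      rw [← hcop.gcd_eq_one]
      exact Nat.dvd_gcd h2' h3
    exact h1 (orderOf_eq_one_iff.mp (Nat.dvd_one.mp h4))
  -- Step 3: odd primes
  have hex : ∀ r : ℕ, ∃ N : Subgroup G, r ∈ π → r ≠ 2 →
      (N.Normal ∧ N ≤ K ∧ ¬ r ∣ Nat.card N ∧ (∃ v : ℕ, Nat.card N * r ^ v = Nat.card K) ∧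
        ∀ a ∈ K, ∀ b ∈ K, a * b * a⁻¹ * b⁻¹ ∈ N) := by
    intro r
    by_cases hr : r ∈ π ∧ r ≠ 2
    · haveI hrf : Fact r.Prime := ⟨hπ r hr.1⟩
      let P : Sylow r G := default
      have h1 := odd_step hr.2 P K hKodd (hPK r hrf hr.2 P) (hstep1 r hr.1 hrf P)
      obtain ⟨N, hN1, hN2, hN3, hN4, hN5⟩ := exists_Nr P K (hPK r hrf hr.2 P) h1
      exact ⟨N, fun _ _ => ⟨hN1, hN2, hN3,
        ⟨_, by rw [← Sylow.card_eq_multiplicity P]; exact hN4⟩, hN5⟩⟩
    · exact ⟨⊤, fun h1 h2' => absurd ⟨h1, h2'⟩ hr⟩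
  choose Nf hNf using hex
  let N : Subgroup G := K ⊓ ⨅ i : {r : ℕ // r ∈ π ∧ r ≠ 2}, Nf i.1
  have hNK : N ≤ K := inf_le_left
  have hNle : ∀ r, r ∈ π → r ≠ 2 → N ≤ Nf r := fun r h1 h2' =>
    inf_le_right.trans (iInf_le (fun i : {r : ℕ // r ∈ π ∧ r ≠ 2} => Nf i.1) ⟨r, h1, h2'⟩)
  have hNn : N.Normal := by
    haveI : ∀ i : {r : ℕ // r ∈ π ∧ r ≠ 2}, (Nf i.1).Normal := fun i => (hNf i.1 i.2.1 i.2.2).1
    haveI : (⨅ i : {r : ℕ // r ∈ π ∧ r ≠ 2}, Nf i.1).Normal := Subgroup.normal_iInf_normal this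
    exact inferInstance
  haveI := hNn
  have hN1 : ∀ q : ℕ, q.Prime → q ∣ Nat.card ↥N → q ∉ π := by
    intro q hq hdvd hqπ
    by_cases hq2 : q = 2
    · subst hq2; exact hKodd (hdvd.trans (Subgroup.card_dvd_of_le hNK))
    · exact (hNf q hqπ hq2).2.2.1 (hdvd.trans (Subgroup.card_dvd_of_le (hNle q hqπ hq2)))
  have hN2 : ∀ q : ℕ, q.Prime → q ∣ N.index → q ∈ π := by
    intro q hq hdvd
    haveI : Fact q.Prime := ⟨hq⟩
    have hdvd' : q ∣ Nat.card (G ⧸ N) := hdvd
    obtain ⟨x, hx⟩ := exists_prime_orderOf_dvd_card' q hdvd'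
    obtain ⟨g, rfl⟩ := QuotientGroup.mk_surjective x
    have hgN : g ∉ N := by
      intro hg
      rw [(QuotientGroup.eq_one_iff g).mpr hg, orderOf_one] at hx
      exact hq.one_lt.ne hx
    have hgq : g ^ q ∈ N := by
      rw [← QuotientGroup.eq_one_iff, QuotientGroup.mk_pow, ← hx]
      exact pow_orderOf_eq_one _
    have key : ∀ M : Subgroup G, M.Normal → N ≤ M → g ∉ M → q ∣ M.index := by
      intro M hMn hNM hgM
      haveI := hMn
      have h1 : ((g : G) : G ⧸ M) ^ q = 1 := by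
        rw [← QuotientGroup.mk_pow, QuotientGroup.eq_one_iff]; exact hNM hgq
      have h2' : ((g : G) : G ⧸ M) ≠ 1 := by rw [Ne, QuotientGroup.eq_one_iff]; exact hgM
      have h3 : orderOf ((g : G) : G ⧸ M) = q := orderOf_eq_prime h1 h2'
      rw [← h3]; exact orderOf_dvd_natCard _
    by_cases hgK : g ∈ K
    · have hex2 : ∃ i : {r : ℕ // r ∈ π ∧ r ≠ 2}, g ∉ Nf i.1 := by
        by_contra hcon
        push Not at hcon
        exact hgN (Subgroup.mem_inf.mpr ⟨hgK, Subgroup.mem_iInf.mpr hcon⟩)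
      obtain ⟨⟨r, hr, hr2⟩, hgr⟩ := hex2
      obtain ⟨hn, hle, hrN, ⟨v, hv⟩, -⟩ := hNf r hr hr2
      have h1 := key (Nf r) hn (hNle r hr hr2) hgr
      have hidx : (Nf r).index = r ^ v * 2 ^ m := by
        have h3 := Subgroup.card_mul_index (Nf r)
        have h4 : Nat.card G = Nat.card ↥(Nf r) * (r ^ v * 2 ^ m) := by
          rw [← hKcard, hP2card, ← hv]; ring
        exact Nat.eq_of_mul_eq_mul_left Nat.card_pos (h3.trans h4)
      rw [hidx] at h1
      rcases (Nat.Prime.dvd_mul hq).mp h1 with h5 | h5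
      · have := (Nat.prime_dvd_prime_iff_eq hq (hπ r hr)).mp (hq.dvd_of_dvd_pow h5)
        rw [this]; exact hr
      · have := (Nat.prime_dvd_prime_iff_eq hq Nat.prime_two).mp (hq.dvd_of_dvd_pow h5)
        rw [this]; exact h2
    · have h1 := key K hKn hNK hgK
      rw [hKidx] at h1
      have := (Nat.prime_dvd_prime_iff_eq hq Nat.prime_two).mp (hq.dvd_of_dvd_pow h1)
      rw [this]; exact h2
  refine ⟨⟨N, hNn, hN1, hN2⟩, ?_⟩
  -- the Hall subgroup
  have hcop : (Nat.card ↥N).Coprime N.index :=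
    Nat.coprime_of_dvd (fun q hq h1 h2' => hN1 q hq h1 (hN2 q hq h2'))
  obtain ⟨H1, hH1⟩ := Subgroup.exists_right_complement'_of_coprime hcop
  have hcard := hH1.card_mul_card
  have hH1card : Nat.card H1 = N.index := by
    have h1 := Subgroup.card_mul_index N
    exact Nat.eq_of_mul_eq_mul_left Nat.card_pos (hcard.trans h1.symm)
  have hH1idx : H1.index = Nat.card ↥N := by
    have h1 := Subgroup.card_mul_index H1
    have h2' : Nat.card H1 * H1.index = Nat.card H1 * Nat.card ↥N := by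
      rw [h1, ← hcard, mul_comm]
    exact Nat.eq_of_mul_eq_mul_left Nat.card_pos h2'
  have hsup : H1 ⊔ K = ⊤ := by
    rw [eq_top_iff, ← hH1.sup_eq_top]
    exact sup_le (hNK.trans le_sup_right) le_sup_left
  have hrel : K.relIndex H1 = 2 ^ m := by
    have h1 := Subgroup.relIndex_sup_right (H := H1) (K := K)
    rw [hsup, Subgroup.relIndex_top_right, hKidx] at h1
    exact h1.symm
  have hHidx : (H1 ⊓ K).index = 2 ^ m * Nat.card ↥N := by
    have h1 := Subgroup.relIndex_mul_index (inf_le_left : H1 ⊓ K ≤ H1)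
    rw [Subgroup.inf_relIndex_left, hrel, hH1idx] at h1
    exact h1.symm
  refine ⟨H1 ⊓ K, ⟨?_, ?_⟩, ?_⟩
  · intro q hq hdvd
    have hq1 : q ∣ N.index := by
      rw [← hH1card]; exact hdvd.trans (Subgroup.card_dvd_of_le inf_le_left)
    have hq2 : q ≠ 2 := by
      rintro rfl
      exact hKodd (hdvd.trans (Subgroup.card_dvd_of_le inf_le_right))
    exact ⟨Finset.mem_coe.mpr (hN2 q hq hq1), by simpa using hq2⟩
  · intro q hq hqπ hdvd
    rw [hHidx] at hdvd
    rcases (Nat.Prime.dvd_mul hq).mp hdvd with h5 | h5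
    · have := (Nat.prime_dvd_prime_iff_eq hq Nat.prime_two).mp (hq.dvd_of_dvd_pow h5)
      exact hqπ.2 (by simpa using this)
    · exact hN1 q hq h5 (Finset.mem_coe.mp hqπ.1)
  · refine ⟨⟨fun a b => ?_⟩⟩
    have haK : (a : G) ∈ K := (Subgroup.mem_inf.mp a.2).2
    have hbK : (b : G) ∈ K := (Subgroup.mem_inf.mp b.2).2
    have haH : (a : G) ∈ H1 := (Subgroup.mem_inf.mp a.2).1
    have hbH : (b : G) ∈ H1 := (Subgroup.mem_inf.mp b.2).1
    have h1 : (a : G) * b * (a : G)⁻¹ * (b : G)⁻¹ ∈ N := by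
      refine Subgroup.mem_inf.mpr ⟨?_, Subgroup.mem_iInf.mpr
        (fun i => (hNf i.1 i.2.1 i.2.2).2.2.2.2 _ haK _ hbK)⟩
      exact K.mul_mem (K.mul_mem (K.mul_mem haK hbK) (K.inv_mem haK)) (K.inv_mem hbK)
    have h2' : (a : G) * b * (a : G)⁻¹ * (b : G)⁻¹ ∈ H1 :=
      H1.mul_mem (H1.mul_mem (H1.mul_mem haH hbH) (H1.inv_mem haH)) (H1.inv_mem hbH)
    have h3 := (Subgroup.disjoint_def.mp hH1.disjoint) h1 h2'
    apply Subtype.ext
    show (a : G) * b = b * a
    calc (a : G) * b = ((a : G) * b * (a : G)⁻¹ * (b : G)⁻¹) * (b * a) := by group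
      _ = b * a := by rw [h3, one_mul]

/-- Let π be a finite set of primes containing 2 and G a finite group. Write k_π(G) for the number of conjugacy classes of G consisting of π-elements (elements all of whose order's prime divisors lie in π) and |G|_π for the π-part of the order of G. If k_π(G) > |G|_π/2, then G has a normal π-complement (a normal subgroup of order prime to π whose index is a π-number) and an abelian Hall subgroup for the set of odd primes in π. -/
theorem result {G : Type*} [Group G] [Finite G] (π : Finset ℕ) (hπ : ∀ r ∈ π, r.Prime) (h2 : 2 ∈ π)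
    (hk : π.prod (fun r => r ^ (Nat.card G).factorization r) < 2 * Nat.card {c : ConjClasses G // ∀ x ∈ c.carrier, ∀ r : ℕ, r.Prime → r ∣ orderOf x → r ∈ π}) :
    (∃ N : Subgroup G, N.Normal ∧ (∀ r : ℕ, r.Prime → r ∣ Nat.card ↥N → r ∉ π) ∧ ∀ r : ℕ, r.Prime → r ∣ N.index → r ∈ π) ∧ ∃ H : Subgroup G, Cfsg.IsPiHall ((↑π : Set ℕ) \ {2}) H ∧ IsMulCommutative ↥H := by
  exact main π hπ h2 hk

end Cfsg.Agent.S3898
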