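import Cfsg.Statements.S3918
import Mathlib
import Cfsg.Agent.Lib.Helper21.PGroup
import Cfsg.Agent.Lib.Helper2.CyclicMax

set_option autoImplicit false
open Cfsg

namespace Cfsg.Agent.S3918

open Cfsg.Agent.Lib.Helper21

/-- a group of order `p ^ n`, `n ≤ 2`, is commutative -/
theorem comm_of_card_le_sq {H : Type*} [Group H] [Finite H] {p : ℕ} [Fact p.Prime] {n : ℕ}
    (hn : n ≤ 2) (hH : Nat.card H = p ^ n) : ∀ a b : H, a * b = b * a := by
  interval_cases n
  · rw [pow_zero] at hH
    haveI := (Nat.card_eq_one_iff_unique.mp hH).1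
    intro a b
    rw [Subsingleton.elim a 1, Subsingleton.elim b 1]
  · rw [pow_one] at hH
    haveI := isCyclic_of_prime_card hH
    intro a b
    obtain ⟨g, hg⟩ := IsCyclic.exists_generator (α := H)
    obtain ⟨i, rfl⟩ := Subgroup.mem_zpowers_iff.mp (hg a)
    obtain ⟨j, rfl⟩ := Subgroup.mem_zpowers_iff.mp (hg b)
    rw [← zpow_add, ← zpow_add, add_comm]
  · haveI := IsPGroup.isMulCommutative_of_card_eq_prime_sq hH
    intro a b
    exact IsMulCommutative.is_comm.comm a b

theorem forward {G : Type*} [Group G] [Finite G] {p : ℕ} [Fact p.Prime] (hp : p ≠ 2)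
    (hG : IsPGroup p G) (hna : ¬ IsMulCommutative G)
    (h : ∀ H : Subgroup G, ¬ IsCyclic ↥H → Subgroup.centralizer (H : Set G) ≤ H) :
    Nat.card G = p ^ 3 := by
  classical
  have hpp : p.Prime := Fact.out
  have hnc : ¬ IsCyclic G := by
    intro hc
    exact hna (IsCyclic.isMulCommutative (α := G))
  obtain ⟨A, hAn, hAe, hAcard⟩ := Cfsg.Agent.Lib.Helper2.exists_normal_elementary_abelian_sq hp hG hnc
  have hAne : A ≠ ⊥ := by
    rintro rfl
    rw [Subgroup.card_bot] at hAcard
    have := Nat.one_lt_pow (n := 2) (by norm_num) hpp.one_lt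
    omega
  obtain ⟨z, hzA, hzc, hz1⟩ := exists_mem_center_of_normal hG A hAne
  have hzp : z ^ p = 1 := hAe.2 z hzA
  have hzo : orderOf z = p := orderOf_eq_prime hzp hz1
  -- an element of `A` outside `⟨z⟩`
  have hex : ∃ a ∈ A, a ∉ Subgroup.zpowers z := by
    by_contra hcon
    push Not at hcon
    have hle : A ≤ Subgroup.zpowers z := hcon
    have h1 := Subgroup.card_le_of_le hle
    rw [hAcard, Nat.card_zpowers, hzo] at h1
    have : p < p ^ 2 := by
      calc p = p ^ 1 := (pow_one p).symm
        _ < p ^ 2 := Nat.pow_lt_pow_right hpp.one_lt (by norm_num)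
    omega
  obtain ⟨a, haA, haz⟩ := hex
  have ha1 : a ≠ 1 := fun h1 => haz (h1 ▸ Subgroup.one_mem _)
  -- `A = ⟨z⟩ ⊔ ⟨a⟩`
  have hM : Subgroup.zpowers z ⊔ Subgroup.zpowers a = A := by
    have hle : Subgroup.zpowers z ⊔ Subgroup.zpowers a ≤ A :=
      sup_le (Subgroup.zpowers_le.mpr hzA) (Subgroup.zpowers_le.mpr haA)
    apply Subgroup.eq_of_le_of_card_ge hle
    have hdvd := Subgroup.card_dvd_of_le hle
    rw [hAcard] at hdvd ⊢
    obtain ⟨k, hk, hkeq⟩ := (Nat.dvd_prime_pow hpp).mp hdvd
    have hlt : Nat.card ↥(Subgroup.zpowers z) <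
        Nat.card ↥(Subgroup.zpowers z ⊔ Subgroup.zpowers a) := by
      by_contra hcon
      push Not at hcon
      have heq := Subgroup.eq_of_le_of_card_ge
        (le_sup_left : Subgroup.zpowers z ≤ Subgroup.zpowers z ⊔ Subgroup.zpowers a) hcon
      apply haz
      rw [heq]
      exact Subgroup.mem_sup_right (Subgroup.mem_zpowers a)
    rw [Nat.card_zpowers, hzo, hkeq] at hlt
    have hk1 : 1 < k := by
      by_contra hk1
      push Not at hk1
      have := Nat.pow_le_pow_right hpp.pos hk1
      rw [pow_one] at this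
      omega
    have hk2 : k = 2 := by omega
    rw [hkeq, hk2]
  -- the centralizer of `a` has index at most `p`
  set C : Subgroup G := Subgroup.centralizer ({a} : Set G) with hC
  have hCA : C ≤ Subgroup.centralizer (A : Set G) := by
    intro g hg
    rw [Subgroup.mem_centralizer_iff]
    have hsub : A ≤ Subgroup.centralizer ({g} : Set G) := by
      rw [← hM]
      apply sup_le
      · rw [Subgroup.zpowers_le, Subgroup.mem_centralizer_iff]
        intro y hy
        rw [Set.mem_singleton_iff] at hy
        rw [hy]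
        exact Subgroup.mem_center_iff.mp hzc g
      · rw [Subgroup.zpowers_le, Subgroup.mem_centralizer_iff]
        intro y hy
        rw [Set.mem_singleton_iff] at hy
        rw [hy]
        exact (Subgroup.mem_centralizer_iff.mp hg a rfl).symm
    intro x hx
    exact (Subgroup.mem_centralizer_iff.mp (hsub hx) g rfl).symm
  have hAnc : ¬ IsCyclic ↥A := by
    intro hc
    obtain ⟨g, hg⟩ := hc.exists_generator
    have h1 := orderOf_eq_card_of_forall_mem_zpowers hg
    rw [hAcard] at h1
    have h2 : (g : G) ^ p = 1 := hAe.2 g g.2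
    have h3 : orderOf (g : G) ∣ p := orderOf_dvd_of_pow_eq_one h2
    rw [Subgroup.orderOf_coe, h1] at h3
    have h4 := Nat.le_of_dvd hpp.pos h3
    have : p < p ^ 2 := by
      calc p = p ^ 1 := (pow_one p).symm
        _ < p ^ 2 := Nat.pow_lt_pow_right hpp.one_lt (by norm_num)
    omega
  have hCle : C ≤ A := hCA.trans (h A hAnc)
  -- index of `C`
  letI act : MulAction G A := MulAction.compHom A (MulAut.conjNormal : G →* MulAut A)
  have hstab : MulAction.stabilizer G (⟨a, haA⟩ : A) = C := by
    ext g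
    rw [MulAction.mem_stabilizer_iff, hC, Subgroup.mem_centralizer_iff]
    constructor
    · intro hg y hy
      rw [Set.mem_singleton_iff] at hy
      have h1 : g * a * g⁻¹ = a := congrArg Subtype.val hg
      rw [hy]
      exact (mul_inv_eq_iff_eq_mul.mp h1).symm
    · intro hg
      apply Subtype.ext
      show g * a * g⁻¹ = a
      have h1 := hg a rfl
      rw [mul_inv_eq_iff_eq_mul]
      exact h1.symm
  have hidx : C.index ≤ p := by
    obtain ⟨n, hn⟩ := hG.index C
    have h1 : C.index = (MulAction.orbit G (⟨a, haA⟩ : A)).ncard := by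
      rw [← hstab]; exact MulAction.index_stabilizer G _
    have h2 : (MulAction.orbit G (⟨a, haA⟩ : A)).ncard < Nat.card A := by
      have hsub : MulAction.orbit G (⟨a, haA⟩ : A) ⊂ Set.univ := by
        rw [Set.ssubset_univ_iff]
        intro hu
        have h1m : (1 : A) ∈ MulAction.orbit G (⟨a, haA⟩ : A) := by rw [hu]; trivial
        obtain ⟨g, hg⟩ := h1m
        have h3 : g * a * g⁻¹ = 1 := congrArg Subtype.val hg
        apply ha1
        have h4 : a = g⁻¹ * (g * a * g⁻¹) * g := by group
        rw [h4, h3]; group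
      have := Set.ncard_lt_ncard hsub (Set.toFinite _)
      rwa [Set.ncard_univ] at this
    rw [← h1, hn, hAcard] at h2
    have hn1 : n < 2 := (Nat.pow_lt_pow_iff_right hpp.one_lt).mp h2
    rw [hn]
    calc p ^ n ≤ p ^ 1 := Nat.pow_le_pow_right hpp.pos (by omega)
      _ = p := pow_one p
  have hCcard : Nat.card C ≤ p ^ 2 := by
    rw [← hAcard]; exact Subgroup.card_le_of_le hCle
  have hGle : Nat.card G ≤ p ^ 3 := by
    rw [← Subgroup.card_mul_index C]
    calc Nat.card C * C.index ≤ p ^ 2 * p := Nat.mul_le_mul hCcard hidx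
      _ = p ^ 3 := by ring
  obtain ⟨n, hn⟩ := IsPGroup.iff_card.mp hG
  rw [hn] at hGle ⊢
  have hn3 : n ≤ 3 := (Nat.pow_le_pow_iff_right hpp.one_lt).mp hGle
  have hn2 : ¬ n ≤ 2 := by
    intro hn2
    exact hna ⟨⟨comm_of_card_le_sq hn2 hn⟩⟩
  have : n = 3 := by omega
  rw [this]

theorem backward {G : Type*} [Group G] [Finite G] {p : ℕ} [Fact p.Prime]
    (hna : ¬ IsMulCommutative G) (hcard : Nat.card G = p ^ 3)
    (H : Subgroup G) (hH : ¬ IsCyclic ↥H) : Subgroup.centralizer (H : Set G) ≤ H := by
  classical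
  have hpp : p.Prime := Fact.out
  have hdvd := Subgroup.card_dvd_of_le (le_top : H ≤ ⊤)
  rw [Subgroup.card_top, hcard] at hdvd
  obtain ⟨k, hk, hkeq⟩ := (Nat.dvd_prime_pow hpp).mp hdvd
  have hk2 : 2 ≤ k := by
    by_contra hk2
    push Not at hk2
    apply hH
    interval_cases k
    · rw [pow_zero] at hkeq
      haveI := (Nat.card_eq_one_iff_unique.mp hkeq).1
      exact isCyclic_of_subsingleton
    · rw [pow_one] at hkeq
      exact isCyclic_of_prime_card hkeq
  by_cases hk3 : k = 3
  · have : H = ⊤ := Subgroup.eq_top_of_card_eq H (by rw [hkeq, hk3, hcard])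
    rw [this]; exact le_top
  have hk2' : k = 2 := by omega
  rw [hk2'] at hkeq
  intro x hx
  by_contra hxH
  apply hna
  have hHcomm := comm_of_card_le_sq (le_refl 2) hkeq
  have htop : H ⊔ Subgroup.zpowers x = ⊤ := by
    apply Subgroup.eq_top_of_card_eq
    have hd2 := Subgroup.card_dvd_of_le (le_top : H ⊔ Subgroup.zpowers x ≤ ⊤)
    rw [Subgroup.card_top, hcard] at hd2
    obtain ⟨j, hj, hjeq⟩ := (Nat.dvd_prime_pow hpp).mp hd2
    have hlt : Nat.card H < Nat.card ↥(H ⊔ Subgroup.zpowers x) := by
      by_contra hcon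
      push Not at hcon
      have heq := Subgroup.eq_of_le_of_card_ge (le_sup_left : H ≤ H ⊔ Subgroup.zpowers x) hcon
      apply hxH
      rw [heq]
      exact Subgroup.mem_sup_right (Subgroup.mem_zpowers x)
    rw [hkeq, hjeq] at hlt
    have hj2 : 2 < j := (Nat.pow_lt_pow_iff_right hpp.one_lt).mp hlt
    have hj3 : j = 3 := by omega
    rw [hjeq, hj3, hcard]
  have hxc := Subgroup.mem_centralizer_iff.mp hx
  have hcen : ∀ y : G, (y ∈ H ∨ y = x) → y ∈ Subgroup.center G := by
    intro y hy
    have hsub : H ⊔ Subgroup.zpowers x ≤ Subgroup.centralizer ({y} : Set G) := by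
      apply sup_le
      · intro h' hh'
        rw [Subgroup.mem_centralizer_iff]
        intro w hw
        rw [Set.mem_singleton_iff] at hw
        rw [hw]
        rcases hy with hy | rfl
        · have := hHcomm ⟨y, hy⟩ ⟨h', hh'⟩
          exact congrArg Subtype.val this
        · exact (hxc h' hh').symm
      · rw [Subgroup.zpowers_le, Subgroup.mem_centralizer_iff]
        intro w hw
        rw [Set.mem_singleton_iff] at hw
        rw [hw]
        rcases hy with hy | rfl
        · exact hxc y hy
        · rfl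
    rw [htop] at hsub
    rw [Subgroup.mem_center_iff]
    intro g
    exact (Subgroup.mem_centralizer_iff.mp (hsub (Subgroup.mem_top g)) y rfl).symm
  have hctop : Subgroup.center G = ⊤ := by
    rw [eq_top_iff, ← htop]
    apply sup_le
    · intro y hy; exact hcen y (Or.inl hy)
    · rw [Subgroup.zpowers_le]; exact hcen x (Or.inr rfl)
  refine ⟨⟨fun a b => ?_⟩⟩
  have : b ∈ Subgroup.center G := by rw [hctop]; trivial
  exact Subgroup.mem_center_iff.mp this a

/-- Say that a group has self-centralizing non-cyclic subgroups when every non-cyclic subgroup H satisfies C_G(H) ≤ H. For an odd prime p, a finite non-abelian p-group has self-centralizing non-cyclic subgroups if and only if it has order p³. -/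
theorem result {G : Type*} [Group G] [Finite G] {p : ℕ} [Fact p.Prime] (hp : p ≠ 2) (hG : IsPGroup p G) (hna : ¬ IsMulCommutative G) :
    (∀ H : Subgroup G, ¬ IsCyclic ↥H → Subgroup.centralizer (H : Set G) ≤ H) ↔ Nat.card G = p ^ 3 := by
  exact ⟨forward hp hG hna, fun hcard H hH => backward hna hcard H hH⟩

end Cfsg.Agent.S3918
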