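import Cfsg.Statements.S4143
import Mathlib
import Cfsg.Agent.Lib.Helper2.MaxClass

set_option autoImplicit false
open Cfsg

namespace Cfsg.Agent.S4143


universe u

theorem gen3 {X : Type u} [Group X] [Finite X] {p : ℕ} [hp : Fact p.Prime] (B H : Subgroup X)
    (hB : Nat.card B = p ^ 3) (hHB : H ≤ B) (a b : X) (ha : a ∈ H) (hb : b ∈ H)
    (hab : a * b ≠ b * a) : H = B := by
  have hdvd : Nat.card H ∣ p ^ 3 := hB ▸ Subgroup.card_dvd_of_le hHB
  obtain ⟨j, hj, hjc⟩ := (Nat.dvd_prime_pow hp.out).mp hdvd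
  rcases Nat.lt_or_ge j 3 with h | h
  · exfalso
    have hcomm : ∀ x y : H, x * y = y * x := by
      rcases Nat.eq_zero_or_pos j with h0 | h0
      · subst h0
        rw [pow_zero] at hjc
        have : Subsingleton H := (Nat.card_eq_one_iff_unique.mp hjc).1
        intro x y; rw [Subsingleton.elim x y]
      · obtain ⟨k, hk1, hkj, hk, hQ, hne⟩ :=
          Cfsg.Agent.Lib.Helper2.card_center_quotient (G := H) j hjc h0
        have hkj' : k = j := by omega
        subst hkj'
        have htop : Subgroup.center H = ⊤ := Subgroup.eq_top_of_card_eq _ (by rw [hk, hjc])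
        intro x y
        have hy : y ∈ Subgroup.center H := htop ▸ Subgroup.mem_top y
        exact (Subgroup.mem_center_iff.mp hy x)
    have := hcomm ⟨a, ha⟩ ⟨b, hb⟩
    exact hab (congrArg Subtype.val this)
  · exact Subgroup.eq_of_le_of_card_ge hHB
      (by rw [hB, hjc]; exact Nat.pow_le_pow_right hp.out.pos h)

theorem main {p : ℕ} [hp : Fact p.Prime] : ∀ (n : ℕ) (X : Type u) [Group X] [Finite X],
    Nat.card X = p ^ n → ∀ (B : Subgroup X), Nat.card B = p ^ 3 →
    (∃ b₁ ∈ B, ∃ b₂ ∈ B, b₁ * b₂ ≠ b₂ * b₁) → Subgroup.centralizer (B : Set X) ≤ B →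
    Group.nilpotencyClass X = n - 1 := by
  intro n
  induction n using Nat.strong_induction_on with
  | _ n ih =>
  intro X _ _ hX B hB hna hC
  obtain ⟨b₁, hb₁, b₂, hb₂, hne⟩ := hna
  have hXp : IsPGroup p X := IsPGroup.of_card hX
  have hnil : Group.IsNilpotent X := hXp.isNilpotent
  have hp1 := hp.out.one_lt
  have hn3 : 3 ≤ n := by
    have : p ^ 3 ∣ p ^ n := by rw [← hB, ← hX]; exact Subgroup.card_subgroup_dvd_card B
    exact (Nat.pow_dvd_pow_iff_le_right hp1).mp this
  have hnt : Nontrivial X := by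
    rw [← Finite.one_lt_card_iff_nontrivial, hX]
    exact Nat.one_lt_pow (by omega) hp1
  obtain ⟨Z, hZdef⟩ : ∃ Z : Subgroup X, Z = Subgroup.center X := ⟨_, rfl⟩
  haveI hZn : Z.Normal := by rw [hZdef]; infer_instance
  obtain ⟨C, hCdef⟩ : ∃ C : Subgroup X, C = Subgroup.centralizer (B : Set X) := ⟨_, rfl⟩
  have hZC : Z ≤ C := by rw [hZdef, hCdef]; exact Subgroup.center_le_centralizer _
  have hCB : C ≤ B := hCdef ▸ hC
  have hZB : Z ≤ B := hZC.trans hCB
  have hZne : Z ≠ ⊥ := by rw [hZdef]; exact (hXp.bot_lt_center).ne'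
  have hCmem : ∀ c ∈ C, ∀ b ∈ B, b * c = c * b := by
    intro c hc b hb
    rw [hCdef] at hc
    exact Subgroup.mem_centralizer_iff.mp hc b hb
  have hCcard : Nat.card C = p := by
    have hdvd : Nat.card C ∣ p ^ 3 := hB ▸ Subgroup.card_dvd_of_le hCB
    obtain ⟨j, hj, hjc⟩ := (Nat.dvd_prime_pow hp.out).mp hdvd
    have hj1 : 1 ≤ j := by
      by_contra h0
      have : j = 0 := by omega
      subst this
      rw [pow_zero, Subgroup.card_eq_one] at hjc
      exact hZne (le_bot_iff.mp (hjc ▸ hZC))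
    have hj2 : j < 2 := by
      by_contra hge
      have hb₁C : b₁ ∉ C := by
        intro h
        exact hne (hCmem b₁ h b₂ hb₂).symm
      obtain ⟨D, hD⟩ : ∃ D : Subgroup X, D = Subgroup.centralizer ({b₁} : Set X) ⊓ B := ⟨_, rfl⟩
      have hCD : C ≤ D := by
        intro c hc
        rw [hD]
        refine Subgroup.mem_inf.mpr ⟨?_, hCB hc⟩
        rw [Subgroup.mem_centralizer_iff]
        intro h hh
        rw [Set.mem_singleton_iff] at hh; subst hh
        exact hCmem c hc h hb₁
      have hb₁D : b₁ ∈ D := by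
        rw [hD]
        refine Subgroup.mem_inf.mpr ⟨?_, hb₁⟩
        rw [Subgroup.mem_centralizer_iff]
        intro h hh
        rw [Set.mem_singleton_iff] at hh; subst hh; rfl
      have hDB : D ≤ B := by rw [hD]; exact inf_le_right
      have hDdvd : Nat.card D ∣ p ^ 3 := hB ▸ Subgroup.card_dvd_of_le hDB
      obtain ⟨i, hi, hic⟩ := (Nat.dvd_prime_pow hp.out).mp hDdvd
      have hji : j < i := by
        by_contra hle
        have hCDeq : C = D := Subgroup.eq_of_le_of_card_ge hCD
          (by rw [hic, hjc]; exact Nat.pow_le_pow_right hp.out.pos (by omega))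
        exact hb₁C (hCDeq ▸ hb₁D)
      have hDeq : D = B := Subgroup.eq_of_le_of_card_ge hDB
        (by rw [hB, hic]; exact Nat.pow_le_pow_right hp.out.pos (by omega))
      have hb₂D : b₂ ∈ D := hDeq ▸ hb₂
      rw [hD] at hb₂D
      have := Subgroup.mem_centralizer_iff.mp (Subgroup.mem_inf.mp hb₂D).1 b₁ (Set.mem_singleton _)
      exact hne this
    have : j = 1 := by omega
    rw [hjc, this, pow_one]
  have hZcard : Nat.card Z = p := by
    have hdvd : Nat.card Z ∣ p := hCcard ▸ Subgroup.card_dvd_of_le hZC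
    rcases (Nat.dvd_prime hp.out).mp hdvd with h | h
    · exfalso
      rw [Subgroup.card_eq_one] at h
      exact hZne h
    · exact h
  have hZCeq : Z = C := Subgroup.eq_of_le_of_card_ge hZC (by rw [hZcard, hCcard])
  have hQcard : Nat.card (X ⧸ Z) = p ^ (n - 1) := by
    have h := Subgroup.card_eq_card_quotient_mul_card_subgroup Z
    rw [hX, hZcard] at h
    have h1 : p ^ n = p ^ (n - 1) * p := by rw [← pow_succ]; congr 1; omega
    rw [h1] at h
    exact (Nat.eq_of_mul_eq_mul_right hp.out.pos h).symm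
  rw [Group.nilpotencyClass_eq_quotient_center_plus_one]
  suffices hcl : Group.nilpotencyClass (X ⧸ Z) = n - 2 by
    subst hZdef
    rw [hcl]; omega
  rcases Nat.lt_or_ge n 4 with hn4 | hn4
  · have hn : n = 3 := by omega
    subst hn
    have hcomm : ∀ a b : X ⧸ Z, a * b = b * a :=
      (IsPGroup.isMulCommutative_of_card_eq_prime_sq hQcard).is_comm.comm
    have hle := Cfsg.Agent.Lib.Helper2.nilpotencyClass_le_one_of_center_eq_top
      (Cfsg.Agent.Lib.Helper2.center_eq_top_of_comm hcomm)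
    have hne0 : Group.nilpotencyClass (X ⧸ Z) ≠ 0 := by
      intro h0
      rw [Group.nilpotencyClass_zero_iff_subsingleton] at h0
      have h1 : Nat.card (X ⧸ Z) = 1 := Nat.card_of_subsingleton 1
      rw [hQcard] at h1
      have h2 : 1 < p ^ (3 - 1) := Nat.one_lt_pow (by omega) hp1
      omega
    omega
  · obtain ⟨N₂, hN₂card, hBN₂⟩ := Sylow.exists_subgroup_card_pow_succ (p := p) (n := 3)
      (by rw [hX]; exact pow_dvd_pow p hn4) hB
    obtain ⟨π, hπ⟩ : ∃ π : X →* X ⧸ Z, π = QuotientGroup.mk' Z := ⟨_, rfl⟩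
    have hπker : π.ker = Z := by rw [hπ]; exact QuotientGroup.ker_mk' Z
    have hπsurj : Function.Surjective π := by rw [hπ]; exact QuotientGroup.mk'_surjective Z
    have hmapcard : ∀ (S : Subgroup X), Z ≤ S → Nat.card (S.map π) * p = Nat.card S := by
      intro S hZS
      have h1 := Subgroup.relIndex_ker π (K := S)
      rw [hπker] at h1
      have h2 := Subgroup.relIndex_mul_relIndex (⊥ : Subgroup X) Z S bot_le hZS
      rw [Subgroup.relIndex_bot_left, Subgroup.relIndex_bot_left, hZcard, h1] at h2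
      rw [← h2]; ring
    obtain ⟨T, hT⟩ : ∃ T : Subgroup X, T = (Subgroup.centralizer
      ((B.map π : Subgroup (X ⧸ Z)) : Set (X ⧸ Z))).comap π := ⟨_, rfl⟩
    have hTmem : ∀ x, x ∈ T ↔ ∀ b ∈ B, π b * π x = π x * π b := by
      intro x
      rw [hT, Subgroup.mem_comap, Subgroup.mem_centralizer_iff]
      constructor
      · intro h b hb
        exact h (π b) (Subgroup.mem_map_of_mem π hb)
      · intro h q hq
        obtain ⟨b, hb, rfl⟩ := Subgroup.mem_map.mp hq
        exact h b hb
    have hTZ : ∀ x ∈ T, ∀ b ∈ B, x * b * x⁻¹ * b⁻¹ ∈ Z := by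
      intro x hx b hb
      have h := (hTmem x).mp hx b hb
      rw [← hπker, MonoidHom.mem_ker, map_mul, map_mul, map_mul, map_inv, map_inv, ← h]
      group
    have hBmapcard : Nat.card (B.map π) = p ^ 2 := by
      have h := hmapcard B hZB
      rw [hB] at h
      have h3 : p ^ 3 = p ^ 2 * p := pow_succ p 2
      rw [h3] at h
      exact Nat.eq_of_mul_eq_mul_right hp.out.pos h
    have hBT : B ≤ T := by
      intro b hb
      rw [hTmem]
      intro b' hb'
      have hcomm := (IsPGroup.isMulCommutative_of_card_eq_prime_sq hBmapcard).is_comm.comm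
      have := hcomm ⟨π b', Subgroup.mem_map_of_mem π hb'⟩ ⟨π b, Subgroup.mem_map_of_mem π hb⟩
      exact congrArg Subtype.val this
    have key : ∀ b ∈ B, ∃ f : ↥T →* ↥Z, ∀ x : ↥T,
        ((f x : ↥Z) : X) = (x : X) * b * (x : X)⁻¹ * b⁻¹ := by
      intro b hb
      refine ⟨{ toFun := fun x => ⟨(x : X) * b * (x : X)⁻¹ * b⁻¹, hTZ x.1 x.2 b hb⟩
                map_one' := ?_
                map_mul' := ?_ }, fun x => rfl⟩
      · apply Subtype.ext; simp
      · intro x y
        apply Subtype.ext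
        have hz := hTZ y.1 y.2 b hb
        rw [hZdef] at hz
        have hz' := Subgroup.mem_center_iff.mp hz
        show (x : X) * (y : X) * b * ((x : X) * (y : X))⁻¹ * b⁻¹
          = ((x : X) * b * (x : X)⁻¹ * b⁻¹) * ((y : X) * b * (y : X)⁻¹ * b⁻¹)
        calc (x : X) * (y : X) * b * ((x : X) * (y : X))⁻¹ * b⁻¹
            = (x : X) * ((y : X) * b * (y : X)⁻¹ * b⁻¹) * (b * (x : X)⁻¹ * b⁻¹) := by group
          _ = ((y : X) * b * (y : X)⁻¹ * b⁻¹) * (x : X) * (b * (x : X)⁻¹ * b⁻¹) := by
              rw [hz' (x : X)]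
          _ = ((y : X) * b * (y : X)⁻¹ * b⁻¹) * ((x : X) * b * (x : X)⁻¹ * b⁻¹) := by group
          _ = ((x : X) * b * (x : X)⁻¹ * b⁻¹) * ((y : X) * b * (y : X)⁻¹ * b⁻¹) :=
              (hz' _).symm
    obtain ⟨f₁, hf₁⟩ := key b₁ hb₁
    obtain ⟨f₂, hf₂⟩ := key b₂ hb₂
    have hgen : Subgroup.closure ({b₁, b₂} : Set X) = B := by
      apply gen3 B _ hB _ b₁ b₂ (Subgroup.subset_closure (by simp))
        (Subgroup.subset_closure (by simp)) hne
      rw [Subgroup.closure_le]
      intro y hy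
      rcases hy with rfl | rfl
      · exact hb₁
      · exact hb₂
    have hker : ∀ x : ↥T, f₁ x = 1 → f₂ x = 1 → (x : X) ∈ Z := by
      intro x h1 h2
      have e1 : (x : X) * b₁ * (x : X)⁻¹ * b₁⁻¹ = 1 := by rw [← hf₁, h1]; rfl
      have e2 : (x : X) * b₂ * (x : X)⁻¹ * b₂⁻¹ = 1 := by rw [← hf₂, h2]; rfl
      have c1 : (x : X) * b₁ = b₁ * (x : X) := by
        have := congrArg (fun t => t * b₁ * (x : X)) e1
        simpa [mul_assoc] using this
      have c2 : (x : X) * b₂ = b₂ * (x : X) := by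
        have := congrArg (fun t => t * b₂ * (x : X)) e2
        simpa [mul_assoc] using this
      have hle : Subgroup.closure ({b₁, b₂} : Set X) ≤ Subgroup.centralizer ({(x : X)} : Set X) := by
        rw [Subgroup.closure_le]
        intro y hy
        rw [SetLike.mem_coe, Subgroup.mem_centralizer_iff]
        intro h hh
        rw [Set.mem_singleton_iff] at hh; subst hh
        rcases hy with rfl | rfl
        · exact c1
        · exact c2
      rw [hgen] at hle
      rw [hZCeq, hCdef, Subgroup.mem_centralizer_iff]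
      intro b hb
      exact (Subgroup.mem_centralizer_iff.mp (hle hb) (x : X) (Set.mem_singleton _)).symm
    have hTcard : Nat.card T ≤ p ^ 3 := by
      obtain ⟨ψ, hψ⟩ : ∃ ψ : ↥T →* ↥Z × ↥Z, ψ = f₁.prod f₂ := ⟨_, rfl⟩
      have hψa : ∀ t : ↥T, ψ t = (f₁ t, f₂ t) := by
        intro t; rw [hψ]; rfl
      have h1 := Subgroup.card_mul_index ψ.ker
      rw [Subgroup.index_ker] at h1
      have h2 : Nat.card ψ.range ≤ p ^ 2 := by
        have h := Subgroup.card_le_card_group ψ.range
        rw [Nat.card_prod, hZcard] at h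
        calc Nat.card ψ.range ≤ p * p := h
          _ = p ^ 2 := by ring
      have hk : ∀ x : ψ.ker, ((x : ↥T) : X) ∈ Z := by
        intro x
        have hx : ψ (x : ↥T) = 1 := MonoidHom.mem_ker.mp x.2
        rw [hψa, Prod.mk_eq_one] at hx
        exact hker x.1 hx.1 hx.2
      have h3 : Nat.card ψ.ker ≤ p := by
        rw [← hZcard]
        apply Nat.card_le_card_of_injective (fun x : ψ.ker => (⟨((x : ↥T) : X), hk x⟩ : ↥Z))
        intro a b hab
        apply Subtype.ext
        apply Subtype.ext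
        exact congrArg (fun z : ↥Z => (z : X)) hab
      calc Nat.card T = Nat.card ψ.ker * Nat.card ψ.range := h1.symm
        _ ≤ p * p ^ 2 := Nat.mul_le_mul h3 h2
        _ = p ^ 3 := by ring
    have hTB : B = T := Subgroup.eq_of_le_of_card_ge hBT (by rw [hB]; exact hTcard)
    obtain ⟨B', hB'⟩ : ∃ B' : Subgroup (X ⧸ Z), B' = N₂.map π := ⟨_, rfl⟩
    have hB'card : Nat.card B' = p ^ 3 := by
      have h := hmapcard N₂ (hZB.trans hBN₂)
      rw [hN₂card] at h
      have h4 : p ^ (3 + 1) = p ^ 3 * p := pow_succ p 3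
      rw [h4] at h
      rw [hB']
      exact Nat.eq_of_mul_eq_mul_right hp.out.pos h
    have hB'na : ∃ a₁ ∈ B', ∃ a₂ ∈ B', a₁ * a₂ ≠ a₂ * a₁ := by
      by_contra hcon
      push Not at hcon
      have hN₂T : N₂ ≤ T := by
        intro y hy
        rw [hTmem]
        intro b hb
        exact hcon (π b) (hB' ▸ Subgroup.mem_map_of_mem π (hBN₂ hb)) (π y)
          (hB' ▸ Subgroup.mem_map_of_mem π hy)
      rw [← hTB] at hN₂T
      have := Subgroup.card_le_of_le hN₂T
      rw [hN₂card, hB] at this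
      exact absurd this (not_le.mpr (Nat.pow_lt_pow_right hp1 (by omega)))
    have hB'C : Subgroup.centralizer (B' : Set (X ⧸ Z)) ≤ B' := by
      intro q hq
      obtain ⟨y, rfl⟩ := hπsurj q
      have hyT : y ∈ T := by
        rw [hTmem]
        intro b hb
        exact Subgroup.mem_centralizer_iff.mp hq (π b)
          (hB' ▸ Subgroup.mem_map_of_mem π (hBN₂ hb))
      rw [← hTB] at hyT
      rw [hB']
      exact Subgroup.mem_map_of_mem π (hBN₂ hyT)
    have := ih (n - 1) (by omega) (X ⧸ Z) hQcard B' hB'card hB'na hB'C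
    rw [this]; omega

/-- Let X be a finite p-group of order p^n containing a non-abelian subgroup B of order p³ with C_X(B) ≤ B. Then X has nilpotency class n − 1 (maximal class). -/
theorem result {X : Type*} [Group X] [Finite X] {p : ℕ} [Fact p.Prime] (n : ℕ) (hX : Nat.card X = p ^ n)
    (B : Subgroup X) (hB : Nat.card B = p ^ 3) (hBna : ¬ IsMulCommutative B) (hC : Subgroup.centralizer (B : Set X) ≤ B) :
    Group.nilpotencyClass X = n - 1 := by
  apply main n X hX B hB _ hC
  by_contra hcon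
  push Not at hcon
  apply hBna
  exact ⟨⟨fun a b => Subtype.ext (hcon a.1 a.2 b.1 b.2)⟩⟩

end Cfsg.Agent.S4143
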