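import Cfsg.Statements.S3919
import Cfsg.Agent.S4143
import Cfsg.Agent.S0519
import Cfsg.Agent.Lib.Helper2.MaxClass
import Cfsg.Agent.Lib.Lead.UniqueSubgroup
import Cfsg.Agent.Lib.Helper11.NormalFour
import Cfsg.Agent.Lib.Helper10.DihSyl

set_option autoImplicit false
open Cfsg

namespace Cfsg.Agent.S3919

open Cfsg.Agent.Lib.Helper10

/-- If `A` has index 2 and `A ⊓ C` has at most `k` elements then `C` has at most `2 * k`. -/
theorem card_le_of_index_two {G : Type*} [Group G] [Finite G] (A C : Subgroup G)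
    (hA : A.index = 2) (k : ℕ) (h : Nat.card (A ⊓ C : Subgroup G) ≤ k) : Nat.card C ≤ 2 * k := by
  have hAn : A.Normal := Subgroup.normal_of_index_eq_two hA
  have h1 : A.relIndex C ∣ A.index := Subgroup.relIndex_dvd_index_of_normal A C
  rw [hA] at h1
  have h2 : A.relIndex C ≤ 2 := Nat.le_of_dvd (by norm_num) h1
  have h3 := Subgroup.card_mul_index (A.subgroupOf C)
  have h4 : Nat.card (A.subgroupOf C) = Nat.card (A ⊓ C : Subgroup G) := by
    rw [← Subgroup.inf_subgroupOf_right]
    exact Nat.card_congr (Subgroup.subgroupOfEquivOfLe inf_le_right).toEquiv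
  rw [h4] at h3
  have h5 : (A.subgroupOf C).index = A.relIndex C := rfl
  rw [h5] at h3
  calc Nat.card C = Nat.card (A ⊓ C : Subgroup G) * A.relIndex C := h3.symm
    _ ≤ k * 2 := Nat.mul_le_mul h h2
    _ = 2 * k := by ring

/-- In a 2-group with a cyclic subgroup of index 2 and centre of order 2, every non-cyclic
subgroup contains its centralizer. -/
theorem selfcent_of_maxClass {G : Type*} [Group G] [Finite G] (hP : IsPGroup 2 G)
    (c : G) (hc : (Subgroup.zpowers c).index = 2) (hZ : Nat.card (Subgroup.center G) = 2)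
    (H : Subgroup G) (hH : ¬ IsCyclic H) : Subgroup.centralizer (H : Set G) ≤ H := by
  classical
  have hfact : Fact (Nat.Prime 2) := ⟨Nat.prime_two⟩
  obtain ⟨A, hAdef⟩ : ∃ A : Subgroup G, A = Subgroup.zpowers c := ⟨_, rfl⟩
  rw [← hAdef] at hc
  have hAn : A.Normal := Subgroup.normal_of_index_eq_two hc
  obtain ⟨h, hhH, hhA⟩ : ∃ h ∈ H, h ∉ A := by
    by_contra hno
    push Not at hno
    have hle : H ≤ A := fun x hx => hno x hx
    have hcy : IsCyclic A := by rw [hAdef]; infer_instance
    exact hH (Subgroup.isCyclic_of_le hle)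
  have hh1 : h ≠ 1 := fun h0 => hhA (h0 ▸ A.one_mem)
  have hdec : ∀ x : G, x ∈ A ∨ x * h⁻¹ ∈ A := by
    intro x
    by_cases hx : x ∈ A
    · left; exact hx
    · right
      rw [Subgroup.mul_mem_iff_of_index_two hc]
      constructor
      · intro h'; exact absurd h' hx
      · intro h'; exact absurd (by simpa using A.inv_mem h') hhA
  have hAcomm : ∀ x ∈ A, ∀ y ∈ A, x * y = y * x := by
    intro x hx y hy
    rw [hAdef] at hx hy
    obtain ⟨i, rfl⟩ := Subgroup.mem_zpowers_iff.mp hx
    obtain ⟨j, rfl⟩ := Subgroup.mem_zpowers_iff.mp hy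
    rw [← zpow_add, ← zpow_add, add_comm]
  have hCA : A ⊓ Subgroup.centralizer ({h} : Set G) ≤ Subgroup.center G := by
    rintro a ⟨haA, haC⟩
    rw [Subgroup.mem_center_iff]
    intro x
    have hah : h * a = a * h := Subgroup.mem_centralizer_iff.mp haC h rfl
    rcases hdec x with hx | hx
    · exact hAcomm x hx a haA
    · have e : x = (x * h⁻¹) * h := by group
      rw [e]
      have e1 := hAcomm (x * h⁻¹) hx a haA
      calc x * h⁻¹ * h * a = x * h⁻¹ * (h * a) := by group
        _ = x * h⁻¹ * (a * h) := by rw [hah]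
        _ = (x * h⁻¹ * a) * h := by group
        _ = (a * (x * h⁻¹)) * h := by rw [e1]
        _ = a * (x * h⁻¹ * h) := by group
  have hCcard : Nat.card (Subgroup.centralizer ({h} : Set G)) ≤ 4 := by
    have := card_le_of_index_two A (Subgroup.centralizer ({h} : Set G)) hc 2
      ((Subgroup.card_le_of_le hCA).trans hZ.le)
    omega
  -- a nontrivial element of `H ⊓ A`
  obtain ⟨a', ha'H, ha'A, ha'1⟩ : ∃ a' : G, a' ∈ H ∧ a' ∈ A ∧ a' ≠ 1 := by
    by_contra hno
    push Not at hno
    have hbot : A ⊓ H = ⊥ := by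
      rw [eq_bot_iff]
      rintro x ⟨hxA, hxH⟩
      exact Subgroup.mem_bot.mpr (hno x hxH hxA)
    have h1 : Nat.card H ≤ 2 * 1 := card_le_of_index_two A H hc 1 (by rw [hbot, Subgroup.card_bot])
    have hpos : 0 < Nat.card H := Nat.card_pos
    have hdvd : Nat.card H ∣ 2 := by
      have : Nat.card H = 1 ∨ Nat.card H = 2 := by omega
      rcases this with h | h
      · rw [h]; exact one_dvd 2
      · rw [h]
    exact hH (isCyclic_of_card_dvd_prime hdvd)
  obtain ⟨j, hj⟩ := (IsPGroup.iff_orderOf.mp hP) a'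
  have hj1 : 1 ≤ j := by
    by_contra hlt
    have hj0 : j = 0 := by omega
    rw [hj0, pow_zero, orderOf_eq_one_iff] at hj
    exact ha'1 hj
  obtain ⟨z, hzdef⟩ : ∃ z : G, z = a' ^ (2 ^ (j - 1)) := ⟨_, rfl⟩
  have hzH : z ∈ H := by rw [hzdef]; exact H.pow_mem ha'H _
  have hzA : z ∈ A := by rw [hzdef]; exact A.pow_mem ha'A _
  have hzz : z * z = 1 := by
    rw [hzdef, ← pow_two, ← pow_mul, ← pow_succ]
    have : j - 1 + 1 = j := by omega
    rw [this, ← hj]; exact pow_orderOf_eq_one a'
  have hz1 : z ≠ 1 := by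
    intro h0
    rw [hzdef] at h0
    have h1 := orderOf_dvd_of_pow_eq_one h0
    rw [hj] at h1
    have h2 := Nat.le_of_dvd (by positivity) h1
    have h3 : (2 : ℕ) ^ (j - 1) < 2 ^ j := Nat.pow_lt_pow_right (by norm_num) (by omega)
    omega
  have hzo : orderOf z = 2 := orderOf_eq_prime (by rw [pow_two]; exact hzz) hz1
  have hzconj : ∀ g : G, g * z * g⁻¹ = z := by
    intro g
    have hx : g * z * g⁻¹ ∈ Subgroup.zpowers c := by rw [← hAdef]; exact hAn.conj_mem z hzA g
    have hx2 : (g * z * g⁻¹) ^ 2 = 1 := by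
      rw [pow_two]
      calc g * z * g⁻¹ * (g * z * g⁻¹) = g * (z * z) * g⁻¹ := by group
        _ = 1 := by rw [hzz]; group
    have hx3 := Cfsg.Agent.S0519.mem_zpowers_of_order c 2 hx (by rw [← hAdef]; exact hzA) hzo hx2
    rcases (mem_zpowers_invol z hzz _).mp hx3 with h0 | h0
    · exfalso
      apply hz1
      have e : z = g⁻¹ * (g * z * g⁻¹) * g := by group
      rw [e, h0]; group
    · exact h0
  have hzh : h * z = z * h := by
    have := hzconj h
    calc h * z = h * z * h⁻¹ * h := by group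
      _ = z * h := by rw [this]
  intro g hg
  have hgC : g ∈ Subgroup.centralizer ({h} : Set G) := by
    rw [Subgroup.mem_centralizer_iff]
    intro x hx
    rw [Set.mem_singleton_iff] at hx
    subst hx
    exact Subgroup.mem_centralizer_iff.mp hg x hhH
  have hhC : h ∈ Subgroup.centralizer ({h} : Set G) := by
    rw [Subgroup.mem_centralizer_iff]
    intro x hx
    rw [Set.mem_singleton_iff] at hx
    subst hx
    rfl
  by_cases hh2 : h * h = 1
  · obtain ⟨E, hE, hEmem⟩ := exists_four h z hh1 hz1 (fun h0 => hhA (h0 ▸ hzA)) hh2 hzz hzh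
    have hEC : E ≤ Subgroup.centralizer ({h} : Set G) := by
      intro x hx
      rw [Subgroup.mem_centralizer_iff]
      intro y hy
      rw [Set.mem_singleton_iff] at hy
      subst hy
      rcases (hEmem x).mp hx with rfl | rfl | rfl | rfl
      · simp
      · rfl
      · exact hzh
      · rw [← mul_assoc, hh2, one_mul, mul_assoc, ← hzh, ← mul_assoc, hh2, one_mul]
    have hEeq : E = Subgroup.centralizer ({h} : Set G) :=
      Subgroup.eq_of_le_of_card_ge hEC (by rw [hE.card_four]; exact hCcard)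
    rw [← hEeq] at hgC
    rcases (hEmem g).mp hgC with rfl | rfl | rfl | rfl
    · exact H.one_mem
    · exact hhH
    · exact hzH
    · exact H.mul_mem hhH hzH
  · obtain ⟨i, hi⟩ := (IsPGroup.iff_orderOf.mp hP) h
    have hi2 : 2 ≤ i := by
      by_contra hlt
      apply hh2
      have h1 : orderOf h ∣ 2 := by
        rw [hi]
        have h2 : (2 : ℕ) ^ i ∣ 2 ^ 1 := pow_dvd_pow 2 (by omega : i ≤ 1)
        simpa using h2
      rw [← pow_two]
      exact orderOf_dvd_iff_pow_eq_one.mp h1
    have hle : Subgroup.zpowers h ≤ Subgroup.centralizer ({h} : Set G) :=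
      Subgroup.zpowers_le.mpr hhC
    have hcard : Nat.card (Subgroup.zpowers h) = 2 ^ i := by rw [Nat.card_zpowers, hi]
    have h4 : 4 ≤ 2 ^ i := by
      calc 4 = 2 ^ 2 := by norm_num
        _ ≤ 2 ^ i := Nat.pow_le_pow_right (by norm_num) hi2
    have heq : Subgroup.zpowers h = Subgroup.centralizer ({h} : Set G) :=
      Subgroup.eq_of_le_of_card_ge hle (by rw [hcard]; omega)
    rw [← heq] at hgC
    exact (Subgroup.zpowers_le.mpr hhH) hgC

/-- A nonabelian 2-group of order at least 8 all of whose non-cyclic subgroups are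
self-centralizing has a nonabelian subgroup of order 8. -/
theorem exists_nonabelian_eight {G : Type*} [Group G] [Finite G] (hP : IsPGroup 2 G)
    (hna : ¬ IsMulCommutative G) (h8 : 2 ^ (2 + 1) ∣ Nat.card G)
    (hyp : ∀ H : Subgroup G, ¬ IsCyclic ↥H → Subgroup.centralizer (H : Set G) ≤ H) :
    ∃ B : Subgroup G, Nat.card B = 2 ^ 3 ∧ ¬ IsMulCommutative B := by
  classical
  have hfact : Fact (Nat.Prime 2) := ⟨Nat.prime_two⟩
  by_cases hU : Cfsg.Agent.Lib.Lead.UniqP 2 G
  · rcases Cfsg.Agent.Lib.Lead.uniqP_two_structure hP hU with hcyc | ⟨k, a, b, hoa, hb2, hba, hbA, hidx⟩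
    · exact absurd (@IsCyclic.isMulCommutative _ _ hcyc) hna
    · have hb2ne : ¬ b ^ 2 ^ 1 = 1 := by
        rw [pow_one, hb2]
        intro h0
        have h1 := orderOf_dvd_of_pow_eq_one h0
        rw [hoa] at h1
        have h2 := Nat.le_of_dvd (by positivity) h1
        have h3 : (2 : ℕ) ^ k < 2 ^ (k + 1) := Nat.pow_lt_pow_right (by norm_num) (by omega)
        omega
      have hb4 : b ^ 2 ^ (1 + 1) = 1 := by
        have e : (2 : ℕ) ^ (1 + 1) = 2 * 2 := by norm_num
        rw [e, pow_mul, hb2, ← pow_mul, ← pow_succ, ← hoa]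
        exact pow_orderOf_eq_one a
      have hbo : orderOf b = 2 ^ (1 + 1) := orderOf_eq_prime_pow hb2ne hb4
      have hcard : Nat.card (Subgroup.zpowers b) = 2 ^ 2 := by rw [Nat.card_zpowers, hbo]
      obtain ⟨B, hB8, hle⟩ := Sylow.exists_subgroup_card_pow_succ (p := 2) (n := 2) h8 hcard
      refine ⟨B, hB8, ?_⟩
      intro hc
      have hUB := Cfsg.Agent.Lib.Lead.uniqP_subgroup hU B
      have hBcyc := Cfsg.Agent.Lib.Helper11.isCyclic_of_uniqP_two_comm (hP.to_subgroup B) hUB
        (fun x y => hc.is_comm.comm x y)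
      obtain ⟨g, hg⟩ := hBcyc.exists_generator
      have hgo : orderOf g = 8 := by
        rw [orderOf_eq_card_of_forall_mem_zpowers hg, hB8]; norm_num
      obtain ⟨i, hi⟩ := Subgroup.mem_zpowers_iff.mp
        (hg ⟨b, hle (Subgroup.mem_zpowers b)⟩)
      have hi2 : (2 : ℤ) ∣ i := by
        have h1 : (g ^ i) ^ (4 : ℕ) = 1 := by
          rw [hi]
          apply Subtype.ext
          rw [Subgroup.coe_pow, Subgroup.coe_one]
          have e : (4 : ℕ) = 2 ^ (1 + 1) := by norm_num
          rw [e]; exact hb4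
        rw [← zpow_natCast, ← zpow_mul] at h1
        have h2 := (orderOf_dvd_iff_zpow_eq_one).mpr h1
        rw [hgo] at h2
        have h3 : ((8 : ℕ) : ℤ) = 4 * 2 := by norm_num
        rw [h3] at h2
        have h4 : (4 : ℤ) * 2 ∣ 4 * i := by
          have e : i * ((4 : ℕ) : ℤ) = 4 * i := by push_cast; ring
          rwa [e] at h2
        exact Int.dvd_of_mul_dvd_mul_left (by norm_num) h4
      obtain ⟨i', rfl⟩ := hi2
      obtain ⟨w, hwdef⟩ : ∃ w : G, w = ((g ^ i' : B) : G) := ⟨_, rfl⟩
      have hbw : b = w * w := by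
        have h1 := congrArg Subtype.val hi
        rw [hwdef]
        simp only at h1
        rw [← h1, ← Subgroup.coe_mul, ← zpow_add, two_mul]
      by_cases hwA : w ∈ Subgroup.zpowers a
      · exact hbA (hbw ▸ Subgroup.mul_mem _ hwA hwA)
      · have hbinv : b⁻¹ ∉ Subgroup.zpowers a := fun h0 => hbA (by simpa using Subgroup.inv_mem _ h0)
        have hu : w * b⁻¹ ∈ Subgroup.zpowers a := by
          rw [Subgroup.mul_mem_iff_of_index_two hidx]
          exact ⟨fun h0 => absurd h0 hwA, fun h0 => absurd h0 hbinv⟩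
        obtain ⟨m, hm⟩ := Subgroup.mem_zpowers_iff.mp hu
        have hconj : b * (w * b⁻¹) * b⁻¹ = (w * b⁻¹)⁻¹ := by
          rw [← hm, ← conj_zpow, hba, inv_zpow]
        have hww : w * w = b * b := by
          calc w * w = (w * b⁻¹) * (b * (w * b⁻¹) * b⁻¹) * (b * b) := by group
            _ = (w * b⁻¹) * (w * b⁻¹)⁻¹ * (b * b) := by rw [hconj]
            _ = b * b := by group
        have hb1 : b = 1 := by
          have h1 : b = b * b := by rw [← hww]; exact hbw
          calc b = b⁻¹ * (b * b) := by group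
            _ = b⁻¹ * b := by rw [← h1]
            _ = 1 := by group
        exact hbA (hb1 ▸ Subgroup.one_mem _)
  · unfold Cfsg.Agent.Lib.Lead.UniqP at hU
    push Not at hU
    obtain ⟨x, y, hx, hy, hx1, hyx⟩ := hU
    have hnt : Nontrivial G := ⟨⟨x, 1, hx1⟩⟩
    have hcn : Nontrivial (Subgroup.center G) := hP.center_nontrivial
    obtain ⟨mZ, hmZ⟩ := IsPGroup.iff_card.mp (hP.to_subgroup (Subgroup.center G))
    have hmZ1 : mZ ≠ 0 := by
      intro h0
      rw [h0, pow_zero] at hmZ
      have := Finite.one_lt_card_iff_nontrivial.mpr hcn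
      omega
    obtain ⟨z0, hz0⟩ := exists_prime_orderOf_dvd_card' (G := Subgroup.center G) 2
      (by rw [hmZ]; exact dvd_pow_self 2 hmZ1)
    obtain ⟨z, hzdef⟩ : ∃ z : G, z = (z0 : G) := ⟨_, rfl⟩
    have hzc : z ∈ Subgroup.center G := by rw [hzdef]; exact z0.2
    have hzo : orderOf z = 2 := by rw [hzdef, Subgroup.orderOf_coe, hz0]
    have hz1 : z ≠ 1 := by
      intro h0
      rw [h0, orderOf_one] at hzo
      norm_num at hzo
    have hzz : z * z = 1 := by
      rw [← pow_two, ← hzo]; exact pow_orderOf_eq_one z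
    obtain ⟨t, ht1, htz, htt⟩ : ∃ t : G, t ≠ 1 ∧ t ≠ z ∧ t * t = 1 := by
      by_cases hxz : x = z
      · refine ⟨y, ?_, ?_, by rw [← pow_two]; exact hy⟩
        · intro h0; exact hyx (h0 ▸ Subgroup.one_mem _)
        · intro h0; exact hyx (h0 ▸ hxz ▸ Subgroup.mem_zpowers x)
      · exact ⟨x, hx1, hxz, by rw [← pow_two]; exact hx⟩
    have htzc : t * z = z * t := Subgroup.mem_center_iff.mp hzc t
    obtain ⟨V, hV, hVmem⟩ := exists_four t z ht1 hz1 htz htt hzz htzc
    have hVC := hyp V (@IsKleinFour.not_isCyclic _ _ hV)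
    have hVcard : Nat.card V = 2 ^ 2 := by rw [hV.card_four]; norm_num
    obtain ⟨B, hB8, hle⟩ := Sylow.exists_subgroup_card_pow_succ (p := 2) (n := 2) h8 hVcard
    refine ⟨B, hB8, ?_⟩
    intro hc
    have hBV : B ≤ V := by
      intro b hb
      apply hVC
      rw [Subgroup.mem_centralizer_iff]
      intro v hv
      have := hc.is_comm.comm (⟨v, hle hv⟩ : B) ⟨b, hb⟩
      exact congrArg Subtype.val this
    have := Subgroup.card_le_of_le hBV
    rw [hB8, hVcard] at this
    norm_num at this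

/-- Say that a group has self-centralizing non-cyclic subgroups when every non-cyclic subgroup H satisfies C_G(H) ≤ H. A finite non-abelian 2-group G of order 2^n has self-centralizing non-cyclic subgroups if and only if G has nilpotency class n − 1 (that is, G is dihedral, semidihedral or generalized quaternion). -/
theorem result {G : Type*} [Group G] [Finite G] (hna : ¬ IsMulCommutative G) (n : ℕ) (hG : Nat.card G = 2 ^ n) :
    (∀ H : Subgroup G, ¬ IsCyclic ↥H → Subgroup.centralizer (H : Set G) ≤ H) ↔ (⊤ : Subgroup G).lowerCentralSeries (n - 2) ≠ ⊥ := by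
  classical
  have hfact : Fact (Nat.Prime 2) := ⟨Nat.prime_two⟩
  have hP : IsPGroup 2 G := IsPGroup.of_card hG
  have hnil : Group.IsNilpotent G := hP.isNilpotent
  have hn3 : 3 ≤ n := by
    by_contra hlt
    apply hna
    have h012 : n = 0 ∨ n = 1 ∨ n = 2 := by omega
    rcases h012 with rfl | rfl | rfl
    · have hs : Subsingleton G := (Nat.card_eq_one_iff_unique.mp (by simpa using hG)).1
      exact ⟨⟨fun a b => Subsingleton.elim _ _⟩⟩
    · have hc : IsCyclic G := isCyclic_of_prime_card (p := 2) (by simpa using hG)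
      exact IsCyclic.isMulCommutative
    · exact IsPGroup.isMulCommutative_of_card_eq_prime_sq (p := 2) hG
  have hle : Group.nilpotencyClass G ≤ n - 1 :=
    Cfsg.Agent.Lib.Helper2.nilpotencyClass_le_of_card n G hG (by omega)
  have hiff : (⊤ : Subgroup G).lowerCentralSeries (n - 2) ≠ ⊥ ↔ Group.nilpotencyClass G = n - 1 := by
    rw [Ne, Subgroup.lowerCentralSeries_eq_bot_iff_nilpotencyClass_le]
    omega
  rw [hiff]
  constructor
  · intro hyp
    obtain ⟨B, hB8, hBna⟩ := exists_nonabelian_eight hP hna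
      (by rw [hG]; exact pow_dvd_pow 2 hn3) hyp
    have hBnc : ¬ IsCyclic B := fun h => hBna (@IsCyclic.isMulCommutative _ _ h)
    exact Cfsg.Agent.S4143.result (p := 2) n hG B hB8 hBna (hyp B hBnc)
  · intro hclass H hH
    obtain ⟨c, hc⟩ := Cfsg.Agent.Lib.Helper2.exists_zpowers_index_two n hn3 G hG hclass
    have hZ := Cfsg.Agent.Lib.Helper2.card_center_of_maxClass (p := 2) n hn3 hG hclass
    exact selfcent_of_maxClass hP c hc hZ H hH

end Cfsg.Agent.S3919
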