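import Cfsg.Statements.S3946
import Cfsg.Agent.Lib.Helper1.Kegel

set_option autoImplicit false
open Cfsg

namespace Cfsg.Agent.S3946

open Cfsg.Agent.Lib.Helper1

theorem fpfN_eq_list_prod {G : Type*} [Group G] (φ : G →* G) (n : ℕ) (a : G) :
    fpfN φ n a = ((List.range n).map (fun i : ℕ => φ^[i] a)).prod := by
  induction n with
  | zero => simp [fpfN_zero]
  | succ n ih =>
    rw [fpfN_succ, ih, List.range_succ_eq_map, List.map_cons, List.prod_cons, List.map_map,
      map_list_prod, List.map_map]
    have h : (⇑φ ∘ fun i : ℕ => φ^[i] a) = ((fun i : ℕ => φ^[i] a) ∘ Nat.succ) := by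
      funext i
      simp [Function.iterate_succ_apply']
    rw [h]
    rfl

/-- Call an automorphism α of order n of a group G splitting when x · α(x) · α²(x) ⋯ α^(n−1)(x) = 1 for every x ∈ G. A finite group admitting a splitting automorphism of prime order is nilpotent (this contains the case of a fixed-point-free automorphism of prime order). -/
theorem result {G : Type*} [Group G] [Finite G] (α : MulAut G) (hp : (orderOf α).Prime)
    (hsplit : ∀ x : G, (((List.range (orderOf α)).map (fun i : ℕ => (α ^ i) x)).prod = 1)) : Group.IsNilpotent G := by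
  have hpow : ∀ (n : ℕ) (x : G), (α ^ n) x = (⇑(α : G →* G))^[n] x := by
    intro n
    induction n with
    | zero => intro x; rfl
    | succ n ih =>
      intro x
      rw [pow_succ, MulAut.mul_apply, ih, Function.iterate_succ_apply]
      rfl
  have hsplits : Splits (α : G →* G) (orderOf α) := by
    refine ⟨fun x => ?_, fun a => ?_⟩
    · rw [← hpow, pow_orderOf_eq_one]
      rfl
    · rw [fpfN_eq_list_prod, ← hsplit a]
      congr 1
      apply List.map_congr_left
      intro i _
      exact (hpow i a).symm
  exact kegel_aux hp (Nat.card G) G (α : G →* G) le_rfl hsplits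

end Cfsg.Agent.S3946
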