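import Cfsg.Statements.S3986
import Mathlib
import Cfsg.Agent.Lib.Helper22.TI

set_option autoImplicit false
open Cfsg

namespace Cfsg.Agent.S3986

/-- Let p be a prime and G a finite group. Then some Sylow p-subgroup of G is a direct factor of G (it is normal and has a normal complement) if and only if every element of p-power order commutes with every element whose order is a power of a prime other than p. -/
theorem result {G : Type*} [Group G] [Finite G] (p : ℕ) [Fact p.Prime] : (∃ (P : Sylow p G) (K : Subgroup G), (P : Subgroup G).Normal ∧ K.Normal ∧ (P : Subgroup G) ⊓ K = ⊥ ∧ (P : Subgroup G) ⊔ K = ⊤) ↔ ∀ x y : G, (∃ a : ℕ, orderOf x = p ^ a) → (∃ q b : ℕ, q.Prime ∧ q ≠ p ∧ orderOf y = q ^ b) → x * y = y * x := by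
  classical
  have hpp : p.Prime := Fact.out
  constructor
  · rintro ⟨P, K, hPn, hKn, hdisj, hsup⟩ x y ⟨a, ha⟩ ⟨q, b, hq, hqp, hb⟩
    have hxP : x ∈ (P : Subgroup G) :=
      Lib.Helper22.mem_sylow_of_normalizes P x a ha
        (by rw [Subgroup.normalizer_eq_top_iff.mpr hPn]; exact Subgroup.mem_top x)
    have hy : y ∈ ((P : Subgroup G) ⊔ K : Subgroup G) := by
      rw [hsup]
      exact Subgroup.mem_top y
    rw [← SetLike.mem_coe, Subgroup.mul_normal] at hy
    obtain ⟨u, hu, v, hv, rfl⟩ := Set.mem_mul.mp hy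
    have hcomm := Subgroup.commute_of_normal_of_disjoint _ _ hPn hKn (disjoint_iff.mpr hdisj)
    have huv : Commute u v := hcomm u v hu hv
    have hu1 : u = 1 := by
      have h1 : (u * v) ^ (q ^ b) = 1 := by
        rw [← hb]
        exact pow_orderOf_eq_one _
      rw [huv.mul_pow] at h1
      have h2 : u ^ (q ^ b) ∈ (P : Subgroup G) ⊓ K := by
        refine Subgroup.mem_inf.mpr ⟨Subgroup.pow_mem _ hu _, ?_⟩
        have : u ^ (q ^ b) = (v ^ (q ^ b))⁻¹ := eq_inv_of_mul_eq_one_left h1
        rw [this]
        exact K.inv_mem (K.pow_mem hv _)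
      rw [hdisj, Subgroup.mem_bot] at h2
      obtain ⟨k, hk⟩ := (IsPGroup.iff_orderOf.mp P.isPGroup') ⟨u, hu⟩
      rw [Subgroup.orderOf_mk] at hk
      have h3 : orderOf u ∣ q ^ b := orderOf_dvd_of_pow_eq_one h2
      rw [hk] at h3
      have hcop : Nat.Coprime (p ^ k) (q ^ b) :=
        Nat.Coprime.pow _ _ ((Nat.coprime_primes hpp hq).mpr hqp.symm)
      rw [hcop.eq_one_of_dvd h3] at hk
      exact orderOf_eq_one_iff.mp hk
    rw [hu1, one_mul]
    exact (hcomm x v hxP hv).eq
  · intro hcomm
    obtain ⟨P⟩ : Nonempty (Sylow p G) := inferInstance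
    have hS : ∀ y : G, (∃ q b : ℕ, q.Prime ∧ q ≠ p ∧ orderOf y = q ^ b) →
        y ∈ Subgroup.centralizer ((P : Subgroup G) : Set G) := by
      intro y hy
      rw [Subgroup.mem_centralizer_iff]
      intro x hx
      obtain ⟨a, ha⟩ := (IsPGroup.iff_orderOf.mp P.isPGroup') ⟨x, hx⟩
      rw [Subgroup.orderOf_mk] at ha
      exact hcomm x y ⟨a, ha⟩ hy
    have htop : (P : Subgroup G) ⊔ Subgroup.centralizer ((P : Subgroup G) : Set G) = ⊤ := by
      apply Lib.Helper22.eq_top_of_sylow_le
      intro r hr
      by_cases hrp : r = p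
      · subst hrp
        exact ⟨P, le_sup_left⟩
      · obtain ⟨R⟩ : Nonempty (Sylow r G) := inferInstance
        refine ⟨R, le_trans ?_ le_sup_right⟩
        intro y hy
        obtain ⟨b, hb⟩ := (IsPGroup.iff_orderOf.mp R.isPGroup') ⟨y, hy⟩
        rw [Subgroup.orderOf_mk] at hb
        exact hS y ⟨r, b, hr.out, hrp, hb⟩
    have hPn : (P : Subgroup G).Normal := by
      rw [← Subgroup.normalizer_eq_top_iff, eq_top_iff, ← htop, sup_le_iff]
      exact ⟨Subgroup.le_normalizer, Subgroup.centralizer_le_normalizer _⟩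
    obtain ⟨H, hH⟩ := Subgroup.exists_right_complement'_of_coprime P.card_coprime_index
    have hHcard : Nat.card H = (P : Subgroup G).index := (hH.symm.index_eq_card).symm
    have hpH : ¬ p ∣ Nat.card H := by
      rw [hHcard]
      exact P.not_dvd_index
    have hHC : H ≤ Subgroup.centralizer ((P : Subgroup G) : Set G) := by
      have : (Subgroup.centralizer ((P : Subgroup G) : Set G)).subgroupOf H = ⊤ := by
        apply Lib.Helper22.eq_top_of_sylow_le
        intro r hr
        obtain ⟨R⟩ : Nonempty (Sylow r H) := inferInstance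
        refine ⟨R, ?_⟩
        intro y hy
        rw [Subgroup.mem_subgroupOf]
        obtain ⟨b, hb⟩ := (IsPGroup.iff_orderOf.mp R.isPGroup') ⟨y, hy⟩
        rw [Subgroup.orderOf_mk] at hb
        by_cases hrp : r = p
        · have h1 : orderOf y ∣ Nat.card H := orderOf_dvd_natCard y
          rcases b with _ | b
          · rw [pow_zero, orderOf_eq_one_iff] at hb
            rw [hb]
            exact Subgroup.one_mem _
          · exfalso
            apply hpH
            rw [hb, hrp] at h1
            exact (dvd_pow_self p (Nat.succ_ne_zero b)).trans h1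
        · apply hS
          refine ⟨r, b, hr.out, hrp, ?_⟩
          rw [Subgroup.orderOf_coe]
          exact hb
      exact Subgroup.subgroupOf_eq_top.mp this
    have hHn : H.Normal := by
      rw [← Subgroup.normalizer_eq_top_iff, eq_top_iff, ← hH.sup_eq_top, sup_le_iff]
      refine ⟨?_, Subgroup.le_normalizer⟩
      exact (Subgroup.le_centralizer_iff.mp hHC).trans (Subgroup.centralizer_le_normalizer _)
    exact ⟨P, H, hPn, hHn, hH.disjoint.eq_bot, hH.sup_eq_top⟩

end Cfsg.Agent.S3986
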