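import Cfsg.Statements.S4001
import Cfsg.Agent.Lib.Lead.FrobeniusMore
import Cfsg.Agent.Lib.Lead.FrobComplement
import Cfsg.Agent.Lib.Lead.UniqueSubgroup
import Cfsg.Agent.Lib.Helper12.CN
import Cfsg.Agent.Lib.Helper21.SelfCent3
import Cfsg.Agent.Lib.Helper21.FrobSolv
import Cfsg.Agent.Lib.Helper21.OrdCount
import Cfsg.Agent.Lib.Helper21.Subnormal
import Cfsg.Agent.S0041
import Cfsg.Agent.S0042

set_option autoImplicit false
open Cfsg

namespace Cfsg.Agent.S4001

open Cfsg.Agent.Lib Cfsg.Agent.Lib.Helper21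

theorem frobKer_nilpotent {X : Type*} [Group X] [Finite X] (C : Subgroup X)
    (hC : Cfsg.IsFrobeniusComplement C) : Group.IsNilpotent ↥(Lead.frobKer C hC) := by
  obtain ⟨N, hN, -, hnil⟩ := Cfsg.Agent.S0042.result C hC
  have h0 : N = Lead.frobKer C hC :=
    SetLike.coe_injective (hN.trans (Lead.coe_frobKer C hC).symm)
  rw [← h0]
  exact hnil

theorem exists_orderOf_eq' {G : Type*} [Group G] [Finite G] (g : G) (d : ℕ) (hd : d ∣ orderOf g) :
    ∃ g' : G, orderOf g' = d := by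
  obtain ⟨c, hc⟩ := hd
  have hpos := orderOf_pos g
  have hc0 : c ≠ 0 := by
    rintro rfl
    rw [mul_zero] at hc
    omega
  refine ⟨g ^ c, ?_⟩
  rw [orderOf_pow_of_dvd hc0 ⟨d, by rw [hc, mul_comm]⟩, hc,
    Nat.mul_div_cancel _ (Nat.pos_of_ne_zero hc0)]

theorem exists_orderOf_of_map {G G' : Type*} [Group G] [Finite G] [Group G'] (f : G →* G') (g : G)
    (d : ℕ) (h : orderOf (f g) = d) : ∃ g' : G, orderOf g' = d :=
  exists_orderOf_eq' g d (h ▸ orderOf_map_dvd f g)

theorem eq_one_of_pow_coprime {X : Type*} [Group X] (g : X) (a b : ℕ) (hab : Nat.Coprime a b)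
    (ha : g ^ a = 1) (hb : g ^ b = 1) : g = 1 := by
  have h1 := orderOf_dvd_of_pow_eq_one ha
  have h2 := orderOf_dvd_of_pow_eq_one hb
  have h3 : orderOf g ∣ Nat.gcd a b := Nat.dvd_gcd h1 h2
  rw [Nat.Coprime.gcd_eq_one hab, Nat.dvd_one] at h3
  exact orderOf_eq_one_iff.1 h3

theorem pow_card_of_mem {X : Type*} [Group X] (S : Subgroup X) [Finite S] {y : X} (hy : y ∈ S) :
    y ^ Nat.card S = 1 := by
  have h : (⟨y, hy⟩ : ↥S) ^ Nat.card S = 1 := pow_card_eq_one'
  have h2 := congrArg Subtype.val h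
  rwa [Subgroup.coe_pow, Subgroup.coe_one] at h2

theorem orderOf_mul_primes {X : Type*} [Group X] {x y : X} {p q : ℕ} (hp : p.Prime) (hq : q.Prime)
    (hpq : p ≠ q) (hx : orderOf x = p) (hy : orderOf y = q) (hc : x * y = y * x) :
    orderOf (x * y) = p * q := by
  have h0 : Commute x y := hc
  rw [h0.orderOf_mul_eq_mul_orderOf_of_coprime
    (by rw [hx, hy]; exact (Nat.coprime_primes hp hq).2 hpq), hx, hy]

theorem comm_of_isCyclic {X : Type*} [Group X] [h : IsCyclic X] (a b : X) : a * b = b * a := by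
  obtain ⟨g, hg⟩ := h.exists_generator
  obtain ⟨i, hi⟩ := Subgroup.mem_zpowers_iff.1 (hg a)
  obtain ⟨j, hj⟩ := Subgroup.mem_zpowers_iff.1 (hg b)
  rw [← hi, ← hj]
  exact zpow_mul_comm g i j

theorem exists_pow_orderOf_eq_prime {X : Type*} [Group X] {p : ℕ} (hp : p.Prime) (v : X)
    (hv1 : v ≠ 1) (hv : ∃ k : ℕ, v ^ p ^ k = 1) : ∃ j : ℕ, orderOf (v ^ j) = p := by
  obtain ⟨k, hk⟩ := hv
  obtain ⟨j, -, hj⟩ := (Nat.dvd_prime_pow hp).1 (orderOf_dvd_of_pow_eq_one hk)
  have hj0 : j ≠ 0 := by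
    rintro rfl
    rw [pow_zero, orderOf_eq_one_iff] at hj
    exact hv1 hj
  refine ⟨p ^ (j - 1), ?_⟩
  rw [orderOf_pow_of_dvd (pow_ne_zero _ hp.ne_zero)
    (by rw [hj]; exact pow_dvd_pow p (Nat.sub_le j 1)), hj, Nat.pow_div (Nat.sub_le j 1) hp.pos]
  have h1 : j - (j - 1) = 1 := by omega
  rw [h1, pow_one]

/-- Let G be a 2-Frobenius group: it has normal subgroups H < K with K a Frobenius group with kernel H and G/H a Frobenius group with kernel K/H. Then G is solvable; K/H has odd order coprime to the order of H and to the order of G/K (it is the image of an odd-order Hall subgroup); G/K is cyclic; and the prime graph of G has exactly two connected components, both complete: for distinct primes p, q dividing the order of G, G has an element of order pq exactly when p and q either both divide the order of K/H or both do not. -/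
theorem result {G : Type*} [Group G] [Finite G] (H K : Subgroup G) [H.Normal] [K.Normal] (hlt : H < K)
    (hK : ∃ C : Subgroup ↥K, Cfsg.IsFrobeniusComplement C ∧ Cfsg.frobeniusKernel C = (H.subgroupOf K : Set ↥K))
    (hGH : ∃ C : Subgroup (G ⧸ H), Cfsg.IsFrobeniusComplement C ∧ Cfsg.frobeniusKernel C = (K.map (QuotientGroup.mk' H) : Set (G ⧸ H))) :
    Group.IsSolvable G ∧ Odd (Nat.card (↥K ⧸ H.subgroupOf K)) ∧
      Nat.Coprime (Nat.card (↥K ⧸ H.subgroupOf K)) (Nat.card ↥H * Nat.card (G ⧸ K)) ∧ IsCyclic (G ⧸ K) ∧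
      ∀ p q : ℕ, p.Prime → q.Prime → p ≠ q → p ∣ Nat.card G → q ∣ Nat.card G →
        ((∃ g : G, orderOf g = p * q) ↔ (p ∣ Nat.card (↥K ⧸ H.subgroupOf K) ↔ q ∣ Nat.card (↥K ⧸ H.subgroupOf K))) := by
  classical
  obtain ⟨C1, hC1, hker1⟩ := hK
  obtain ⟨C2, hC2, hker2⟩ := hGH
  have hN1 : Lead.frobKer C1 hC1 = H.subgroupOf K :=
    SetLike.coe_injective ((Lead.coe_frobKer C1 hC1).trans hker1)
  have hN2 : Lead.frobKer C2 hC2 = K.map (QuotientGroup.mk' H) :=
    SetLike.coe_injective ((Lead.coe_frobKer C2 hC2).trans hker2)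
  have hHK : H ≤ K := hlt.le
  have hHKn : Group.IsNilpotent ↥(H.subgroupOf K) := by
    have h0 := frobKer_nilpotent C1 hC1
    rwa [hN1] at h0
  have hHn : Group.IsNilpotent ↥H :=
    (Group.isNilpotent_congr (Subgroup.subgroupOfEquivOfLe hHK)).1 hHKn
  have hKbn : Group.IsNilpotent ↥(K.map (QuotientGroup.mk' H)) := by
    have h0 := frobKer_nilpotent C2 hC2
    rwa [hN2] at h0
  have hc1 : Nat.card ↥(H.subgroupOf K) * Nat.card C1 = Nat.card K := by
    have h0 := Lead.card_frobKer_mul_card C1 hC1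
    rwa [hN1] at h0
  have hc2 : Nat.card ↥(K.map (QuotientGroup.mk' H)) * Nat.card C2 = Nat.card (G ⧸ H) := by
    have h0 := Lead.card_frobKer_mul_card C2 hC2
    rwa [hN2] at h0
  have hcop1 : (Nat.card ↥(H.subgroupOf K)).Coprime (Nat.card C1) := by
    have h0 := Lead.frobKer_coprime C1 hC1
    rwa [hN1] at h0
  have hcop2 : (Nat.card ↥(K.map (QuotientGroup.mk' H))).Coprime (Nat.card C2) := by
    have h0 := Lead.frobKer_coprime C2 hC2
    rwa [hN2] at h0
  have hcHK : Nat.card ↥(H.subgroupOf K) = Nat.card H :=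
    Nat.card_congr (Subgroup.subgroupOfEquivOfLe hHK).toEquiv
  have hKb : Nat.card K = Nat.card ↥(K.map (QuotientGroup.mk' H)) * Nat.card H := by
    have h0 := card_comap_mk H (K.map (QuotientGroup.mk' H))
    rwa [Subgroup.comap_map_eq, QuotientGroup.ker_mk', sup_eq_left.2 hHK] at h0
  have hHpos : 0 < Nat.card H := Nat.card_pos
  have hKbC1 : Nat.card ↥(K.map (QuotientGroup.mk' H)) = Nat.card C1 := by
    rw [hcHK] at hc1
    have h0 : Nat.card ↥(K.map (QuotientGroup.mk' H)) * Nat.card H = Nat.card C1 * Nat.card H := by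
      rw [← hKb, ← hc1, mul_comm]
    exact Nat.eq_of_mul_eq_mul_right hHpos h0
  have hq1 : Nat.card (↥K ⧸ H.subgroupOf K) = Nat.card C1 := by
    have h0 := Subgroup.card_eq_card_quotient_mul_card_subgroup (H.subgroupOf K)
    rw [← hc1, hcHK] at h0
    have h1 : Nat.card C1 * Nat.card H = Nat.card (↥K ⧸ H.subgroupOf K) * Nat.card H := by
      rw [← h0, mul_comm]
    exact (Nat.eq_of_mul_eq_mul_right hHpos h1).symm
  have hq2 : Nat.card (G ⧸ K) = Nat.card C2 := by
    have h1 := Subgroup.card_eq_card_quotient_mul_card_subgroup K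
    have h2 := Subgroup.card_eq_card_quotient_mul_card_subgroup H
    rw [← hc2, hKbC1] at h2
    rw [hKb, hKbC1, h2] at h1
    have hpos : 0 < Nat.card C1 * Nat.card H := Nat.mul_pos Nat.card_pos hHpos
    have h3 : Nat.card C2 * (Nat.card C1 * Nat.card H) =
        Nat.card (G ⧸ K) * (Nat.card C1 * Nat.card H) := by
      rw [← h1]; ring
    exact (Nat.eq_of_mul_eq_mul_right hpos h3).symm
  have hcardG : Nat.card G = Nat.card H * Nat.card C1 * Nat.card C2 := by
    have h2 := Subgroup.card_eq_card_quotient_mul_card_subgroup H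
    rw [← hc2, hKbC1] at h2
    rw [h2]; ring
  have hcopHC : (Nat.card H).Coprime (Nat.card C1) := hcHK ▸ hcop1
  have hcopCC : (Nat.card C1).Coprime (Nat.card C2) := hKbC1 ▸ hcop2
  -- the map `K → G ⧸ H`
  obtain ⟨f, hf⟩ : ∃ f : ↥K →* G ⧸ H, ∀ k : ↥K, f k = QuotientGroup.mk' H (k : G) :=
    ⟨(QuotientGroup.mk' H).comp K.subtype, fun k => rfl⟩
  have hf1 : ∀ k : ↥K, f k = 1 ↔ k ∈ H.subgroupOf K := by
    intro k
    rw [hf, QuotientGroup.mk'_apply, QuotientGroup.eq_one_iff, Subgroup.mem_subgroupOf]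
  have hinf1 : ∀ c : ↥K, c ∈ C1 → c ∈ H.subgroupOf K → c = 1 := by
    intro c hc hcH
    have h0 : c ∈ Lead.frobKer C1 hC1 ⊓ C1 := ⟨by rw [hN1]; exact hcH, hc⟩
    rwa [Lead.frobKer_inf, Subgroup.mem_bot] at h0
  have hsurj : ∀ x ∈ K.map (QuotientGroup.mk' H), ∃ c ∈ C1, f c = x := by
    intro x hx
    obtain ⟨k, hk, rfl⟩ := Subgroup.mem_map.1 hx
    have h0 : (⟨k, hk⟩ : ↥K) ∈ H.subgroupOf K ⊔ C1 := by
      have h1 := Lead.frobKer_sup C1 hC1
      rw [hN1] at h1
      rw [h1]; exact Subgroup.mem_top _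
    obtain ⟨n, hn, c, hc, hnc⟩ := Subgroup.mem_sup_of_normal_left.1 h0
    refine ⟨c, hc, ?_⟩
    have h2 : f (n * c) = QuotientGroup.mk' H k := by rw [hnc, hf]
    rw [map_mul, (hf1 n).2 hn, one_mul] at h2
    exact h2
  have hKbnorm : (K.map (QuotientGroup.mk' H)).Normal := by
    rw [← hN2]; exact Lead.frobKer_normal C2 hC2
  have hHKne : H.subgroupOf K ≠ ⊥ := by rw [← hN1]; exact Lead.frobKer_ne_bot C1 hC1
  have hfpf1 : ∀ h : ↥K, h ∈ C1 → h ≠ 1 → H.subgroupOf K ⊓ Subgroup.centralizer {h} = ⊥ := by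
    intro h hh h1
    rw [eq_bot_iff]
    intro k hk
    rw [Subgroup.mem_bot]
    have hkc := Subgroup.mem_centralizer_iff.1 hk.2 h (Set.mem_singleton h)
    exact Lead.frob_commute_eq_one C1 hC1 hh h1 (by rw [hN1]; exact hk.1) hkc
  -- uniqueness of subgroups of prime order in `K ⧸ H`
  have hU : ∀ p : ℕ, p.Prime → ∀ x y : G ⧸ H, x ∈ K.map (QuotientGroup.mk' H) →
      y ∈ K.map (QuotientGroup.mk' H) → x ^ p = 1 → y ^ p = 1 → x ≠ 1 →
      y ∈ Subgroup.zpowers x := by
    intro p hp x y hx hy hxp hyp hx1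
    haveI := Fact.mk hp
    haveI := hKbn
    obtain ⟨P, hP⟩ := (Helper12.isPGroup_zpowers_of_pow hp
      (⟨x, hx⟩ : ↥(K.map (QuotientGroup.mk' H)))
      ⟨1, Subtype.ext (by rw [pow_one]; simpa using hxp)⟩).exists_le_sylow
    obtain ⟨Q, hQ⟩ := (Helper12.isPGroup_zpowers_of_pow hp
      (⟨y, hy⟩ : ↥(K.map (QuotientGroup.mk' H)))
      ⟨1, Subtype.ext (by rw [pow_one]; simpa using hyp)⟩).exists_le_sylow
    have hQP : Q = P := by
      obtain ⟨g, hg⟩ := MulAction.exists_smul_eq ↥(K.map (QuotientGroup.mk' H)) P Q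
      rw [← hg, Sylow.smul_eq_of_normal]
    have hxP : (⟨x, hx⟩ : ↥(K.map (QuotientGroup.mk' H))) ∈ P := hP (Subgroup.mem_zpowers _)
    have hyP : (⟨y, hy⟩ : ↥(K.map (QuotientGroup.mk' H))) ∈ P := by
      rw [← hQP]; exact hQ (Subgroup.mem_zpowers _)
    have hP1mem : ∀ c : ↥K, c ∈ C1 → ∀ u : ↥(K.map (QuotientGroup.mk' H)), u ∈ P →
        f c = (u : G ⧸ H) → c ∈ C1 ⊓ ((P : Subgroup ↥(K.map (QuotientGroup.mk' H))).map
          (K.map (QuotientGroup.mk' H)).subtype).comap f := by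
      intro c hc u hu hcu
      refine Subgroup.mem_inf.2 ⟨hc, ?_⟩
      rw [Subgroup.mem_comap, hcu]
      exact Subgroup.mem_map.2 ⟨u, hu, rfl⟩
    have hP1pg : IsPGroup p ↥(C1 ⊓ ((P : Subgroup ↥(K.map (QuotientGroup.mk' H))).map
          (K.map (QuotientGroup.mk' H)).subtype).comap f) := by
      rintro ⟨c, hc1', hc2'⟩
      obtain ⟨u, hu, huc⟩ := Subgroup.mem_map.1 (Subgroup.mem_comap.1 hc2')
      obtain ⟨k, hk⟩ := P.isPGroup' ⟨u, hu⟩
      have hk' : (u : G ⧸ H) ^ p ^ k = 1 := by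
        have h0 := congrArg (fun t : ↥(P : Subgroup ↥(K.map (QuotientGroup.mk' H))) =>
          ((t : ↥(K.map (QuotientGroup.mk' H))) : G ⧸ H)) hk
        simpa using h0
      refine ⟨k, Subtype.ext ?_⟩
      rw [Subgroup.coe_pow, Subgroup.coe_one]
      apply hinf1 _ (C1.pow_mem hc1' _)
      rw [← hf1, map_pow]
      have huc' : f c = (u : G ⧸ H) := huc.symm
      rw [huc', hk']
    have hUP := Lead.fpf_pgroup_uniq (H.subgroupOf K) hHKne p _ hP1pg
      (fun h hh h1 => hfpf1 h hh.1 h1)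
    obtain ⟨cx, hcxC, hcx⟩ := hsurj x hx
    obtain ⟨cy, hcyC, hcy⟩ := hsurj y hy
    have hcxp : cx ^ p = 1 := by
      apply hinf1 _ (C1.pow_mem hcxC _)
      rw [← hf1, map_pow, hcx, hxp]
    have hcyp : cy ^ p = 1 := by
      apply hinf1 _ (C1.pow_mem hcyC _)
      rw [← hf1, map_pow, hcy, hyp]
    have hcx1 : cx ≠ 1 := by
      rintro rfl
      rw [map_one] at hcx
      exact hx1 hcx.symm
    have h0 := hUP ⟨cx, hP1mem cx hcxC ⟨x, hx⟩ hxP hcx⟩ ⟨cy, hP1mem cy hcyC ⟨y, hy⟩ hyP hcy⟩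
      (Subtype.ext (by rw [Subgroup.coe_pow]; exact hcxp))
      (Subtype.ext (by rw [Subgroup.coe_pow]; exact hcyp))
      (fun h => hcx1 (congrArg Subtype.val h))
    obtain ⟨k, hk⟩ := Subgroup.mem_zpowers_iff.1 h0
    have hk' : cx ^ k = cy := by
      have h1 := congrArg Subtype.val hk
      simpa using h1
    exact Subgroup.mem_zpowers_iff.2 ⟨k, by rw [← hcx, ← hcy, ← map_zpow, hk']⟩
  -- `K ⧸ H` has odd order
  have hodd : Odd (Nat.card C1) := by
    by_contra hne
    have h2 : 2 ∣ Nat.card ↥(K.map (QuotientGroup.mk' H)) := by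
      rw [hKbC1]; exact even_iff_two_dvd.1 (Nat.not_odd_iff_even.1 hne)
    haveI : Fact (Nat.Prime 2) := ⟨Nat.prime_two⟩
    obtain ⟨z, hz⟩ := exists_prime_orderOf_dvd_card' 2 h2
    have hz1 : (z : G ⧸ H) ≠ 1 := by
      intro h0
      have h1 : z = 1 := Subtype.ext h0
      rw [h1, orderOf_one] at hz
      norm_num at hz
    have hz2 : (z : G ⧸ H) ^ 2 = 1 := by
      have h0 := pow_orderOf_eq_one z
      rw [hz] at h0
      have h1 := congrArg Subtype.val h0
      simpa using h1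
    have hz2' : (z : G ⧸ H) ^ (2 : ℤ) = 1 := by exact_mod_cast hz2
    have hcen : ∀ g : G ⧸ H, g * (z : G ⧸ H) = (z : G ⧸ H) * g := by
      intro g
      have hconj : g * (z : G ⧸ H) * g⁻¹ ∈ K.map (QuotientGroup.mk' H) :=
        hKbnorm.conj_mem _ z.2 g
      have hc2' : (g * (z : G ⧸ H) * g⁻¹) ^ 2 = 1 := by rw [conj_pow, hz2]; group
      have h0 := hU 2 Nat.prime_two _ _ z.2 hconj hz2 hc2' hz1
      obtain ⟨k, hk⟩ := Subgroup.mem_zpowers_iff.1 h0
      have hk2 : (z : G ⧸ H) ^ k = 1 ∨ (z : G ⧸ H) ^ k = (z : G ⧸ H) := by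
        rcases Int.emod_two_eq_zero_or_one k with h1 | h1
        · left
          obtain ⟨m, hm⟩ : ∃ m, k = 2 * m := ⟨k / 2, by omega⟩
          rw [hm, zpow_mul, hz2', one_zpow]
        · right
          obtain ⟨m, hm⟩ : ∃ m, k = 2 * m + 1 := ⟨k / 2, by omega⟩
          rw [hm, zpow_add, zpow_mul, hz2', one_zpow, one_mul, zpow_one]
      rcases hk2 with h1 | h1
      · exfalso
        rw [h1] at hk
        apply hz1
        have h3 := congrArg (fun t => g⁻¹ * t * g) hk
        simpa [mul_assoc] using h3.symm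
      · rw [h1] at hk
        calc g * (z : G ⧸ H) = g * (z : G ⧸ H) * g⁻¹ * g := by group
          _ = (z : G ⧸ H) * g := by rw [← hk]
    obtain ⟨c, hc1'⟩ := (Subgroup.ne_bot_iff_exists_ne_one).1 hC2.1
    exact hz1 (Lead.frob_commute_eq_one C2 hC2 c.2 (fun h => hc1' (Subtype.ext h))
      (by rw [hN2]; exact z.2) (hcen c))
  -- a normal subgroup of prime order in `K ⧸ H`
  have hC1ne : 1 < Nat.card C1 := (Subgroup.one_lt_card_iff_ne_bot C1).2 hC1.1
  obtain ⟨r, hr, hrC1⟩ := Nat.exists_prime_and_dvd hC1ne.ne'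
  haveI hrfact := Fact.mk hr
  obtain ⟨zb, hzbK, hzbr, hzb1⟩ : ∃ zb : G ⧸ H, zb ∈ K.map (QuotientGroup.mk' H) ∧
      orderOf zb = r ∧ zb ≠ 1 := by
    obtain ⟨z, hz⟩ := exists_prime_orderOf_dvd_card' r (hKbC1 ▸ hrC1)
    refine ⟨z.1, z.2, by rw [Subgroup.orderOf_coe, hz], ?_⟩
    intro h0
    have h1 : z = 1 := Subtype.ext h0
    rw [h1, orderOf_one] at hz
    exact hr.one_lt.ne hz
  have hzbnorm : ∀ g : G ⧸ H, g * zb * g⁻¹ ∈ Subgroup.zpowers zb := by
    intro g
    exact hU r hr zb _ hzbK (hKbnorm.conj_mem _ hzbK g) (hzbr ▸ pow_orderOf_eq_one zb)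
      (by rw [conj_pow, ← hzbr, pow_orderOf_eq_one]; group) hzb1
  have hC2comm : ∀ a ∈ C2, ∀ b ∈ C2, a * b = b * a := by
    intro a ha b hb
    obtain ⟨i, hi⟩ := Subgroup.mem_zpowers_iff.1 (hzbnorm a)
    obtain ⟨j, hj⟩ := Subgroup.mem_zpowers_iff.1 (hzbnorm b)
    have h1 : (a * b) * zb * (a * b)⁻¹ = zb ^ (i * j) := by
      calc (a * b) * zb * (a * b)⁻¹ = a * (b * zb * b⁻¹) * a⁻¹ := by group
        _ = a * zb ^ j * a⁻¹ := by rw [hj]
        _ = (a * zb * a⁻¹) ^ j := by rw [conj_zpow]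
        _ = zb ^ (i * j) := by rw [← hi, zpow_mul]
    have h2 : (b * a) * zb * (b * a)⁻¹ = zb ^ (i * j) := by
      calc (b * a) * zb * (b * a)⁻¹ = b * (a * zb * a⁻¹) * b⁻¹ := by group
        _ = b * zb ^ i * b⁻¹ := by rw [hi]
        _ = (b * zb * b⁻¹) ^ i := by rw [conj_zpow]
        _ = zb ^ (i * j) := by rw [← hj, ← zpow_mul, mul_comm]
    by_contra hne
    have hw : (b * a)⁻¹ * (a * b) ∈ C2 :=
      C2.mul_mem (C2.inv_mem (C2.mul_mem hb ha)) (C2.mul_mem ha hb)
    have hw1 : (b * a)⁻¹ * (a * b) ≠ 1 := by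
      intro h0
      apply hne
      have h3 := congrArg (fun t => (b * a) * t) h0
      simpa [mul_assoc] using h3
    have hwc : (b * a)⁻¹ * (a * b) * zb = zb * ((b * a)⁻¹ * (a * b)) := by
      have h3 : (a * b) * zb * (a * b)⁻¹ = (b * a) * zb * (b * a)⁻¹ := h1.trans h2.symm
      calc (b * a)⁻¹ * (a * b) * zb
          = (b * a)⁻¹ * ((a * b) * zb * (a * b)⁻¹) * (a * b) := by group
        _ = (b * a)⁻¹ * ((b * a) * zb * (b * a)⁻¹) * (a * b) := by rw [h3]
        _ = zb * ((b * a)⁻¹ * (a * b)) := by group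
    exact hzb1 (Lead.frob_commute_eq_one C2 hC2 hw hw1 (by rw [hN2]; exact hzbK) hwc)
  have hC2cyc : IsCyclic ↥C2 := by
    haveI : IsMulCommutative ↥C2 := ⟨⟨fun a b => Subtype.ext (hC2comm a a.2 b b.2)⟩⟩
    refine Cfsg.Agent.S0041.result C2 (Subgroup.zpowers zb) ?_ ?_ ?_ (Or.inl inferInstance)
    · intro h0
      have h1 : zb ∈ (⊥ : Subgroup (G ⧸ H)) := h0 ▸ Subgroup.mem_zpowers zb
      exact hzb1 (Subgroup.mem_bot.1 h1)
    · exact le_normalizer_zpowers_of_conj_mem C2 zb (fun g _ => hzbnorm g)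
    · intro a ha ha1
      rw [eq_bot_iff]
      intro v hv
      rw [Subgroup.mem_bot]
      have hvK : v ∈ K.map (QuotientGroup.mk' H) := (Subgroup.zpowers_le.2 hzbK) hv.1
      exact Lead.frob_commute_eq_one C2 hC2 ha ha1 (by rw [hN2]; exact hvK)
        (Subgroup.mem_centralizer_iff.1 hv.2 a (Set.mem_singleton a))
  -- `G ⧸ K` is an image of `C2`
  have hle : H ≤ K.comap (MonoidHom.id G) := by rw [Subgroup.comap_id]; exact hHK
  obtain ⟨ρ, hρ⟩ : ∃ ρ : G ⧸ H →* G ⧸ K,
      ∀ g : G, ρ (QuotientGroup.mk' H g) = QuotientGroup.mk' K g :=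
    ⟨QuotientGroup.map H K (MonoidHom.id G) hle, fun g => rfl⟩
  have hρK : ∀ x ∈ K.map (QuotientGroup.mk' H), ρ x = 1 := by
    intro x hx
    obtain ⟨k, hk, rfl⟩ := Subgroup.mem_map.1 hx
    rw [hρ, QuotientGroup.mk'_apply, QuotientGroup.eq_one_iff]; exact hk
  have hρker : ∀ x : G ⧸ H, ρ x = 1 → x ∈ K.map (QuotientGroup.mk' H) := by
    intro x hx
    obtain ⟨g, rfl⟩ := QuotientGroup.mk'_surjective H x
    rw [hρ, QuotientGroup.mk'_apply, QuotientGroup.eq_one_iff] at hx
    exact Subgroup.mem_map_of_mem _ hx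
  have hdecomp : ∀ x : G ⧸ H, ∃ k ∈ K.map (QuotientGroup.mk' H), ∃ c ∈ C2, k * c = x := by
    intro x
    have h0 : x ∈ K.map (QuotientGroup.mk' H) ⊔ C2 := by
      have h1 := Lead.frobKer_sup C2 hC2
      rw [hN2] at h1; rw [h1]; exact Subgroup.mem_top _
    exact Subgroup.mem_sup_of_normal_left.1 h0
  have hρsurj : ∀ y : G ⧸ K, ∃ c ∈ C2, ρ c = y := by
    intro y
    obtain ⟨g, rfl⟩ := QuotientGroup.mk'_surjective K y
    obtain ⟨k, hk, c, hc, hkc⟩ := hdecomp (QuotientGroup.mk' H g)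
    refine ⟨c, hc, ?_⟩
    rw [← hρ, ← hkc, map_mul, hρK k hk, one_mul]
  have hGKcyc : IsCyclic (G ⧸ K) := by
    haveI := hC2cyc
    exact isCyclic_of_surjective (ρ.comp C2.subtype) (fun y => by
      obtain ⟨c, hc, hcy⟩ := hρsurj y
      exact ⟨⟨c, hc⟩, hcy⟩)
  have hsolv : Group.IsSolvable G := by
    haveI : Group.IsSolvable (G ⧸ K) := by
      obtain ⟨g, hg⟩ := hGKcyc.exists_generator
      apply Group.isSolvable_of_comm
      intro a b
      obtain ⟨i, rfl⟩ := Subgroup.mem_zpowers_iff.1 (hg a)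
      obtain ⟨j, rfl⟩ := Subgroup.mem_zpowers_iff.1 (hg b)
      exact zpow_mul_comm g i j
    haveI : Group.IsSolvable ↥(K.map (QuotientGroup.mk' H)) := by
      haveI := hKbn
      infer_instance
    haveI : Group.IsSolvable (G ⧸ H) :=
      Group.isSolvable_of_ker_le_range (K.map (QuotientGroup.mk' H)).subtype ρ (by
        intro x hx
        rw [Subgroup.range_subtype]
        exact hρker x (MonoidHom.mem_ker.1 hx))
    haveI : Group.IsSolvable ↥H := by
      haveI := hHn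
      infer_instance
    exact Group.isSolvable_of_ker_le_range H.subtype (QuotientGroup.mk' H) (by
      rw [QuotientGroup.ker_mk', Subgroup.range_subtype])
  -- the prime graph
  have hE1 : ∀ p q : ℕ, p.Prime → q.Prime → p ≠ q → p ∣ Nat.card C1 → ¬ q ∣ Nat.card C1 →
      ¬ ∃ g : G, orderOf g = p * q := by
    rintro p q hp hq hpq hpc hqc ⟨g, hg⟩
    have hap : (g ^ q) ^ p = 1 := by rw [← pow_mul', ← hg, pow_orderOf_eq_one]
    have hbq : (g ^ p) ^ q = 1 := by rw [← pow_mul, ← hg, pow_orderOf_eq_one]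
    have ha1 : g ^ q ≠ 1 := by
      intro h0
      have h1 := orderOf_dvd_of_pow_eq_one h0
      rw [hg] at h1
      have h2 : p * q ∣ 1 * q := by rwa [one_mul]
      have h3 := Nat.dvd_of_mul_dvd_mul_right hq.pos h2
      exact hp.one_lt.ne' (Nat.dvd_one.1 h3)
    have hb1 : g ^ p ≠ 1 := by
      intro h0
      have h1 := orderOf_dvd_of_pow_eq_one h0
      rw [hg] at h1
      have h2 : q * p ∣ 1 * p := by rwa [one_mul, mul_comm]
      have h3 := Nat.dvd_of_mul_dvd_mul_right hp.pos h2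
      exact hq.one_lt.ne' (Nat.dvd_one.1 h3)
    have hcomm : g ^ q * g ^ p = g ^ p * g ^ q := by rw [← pow_add, ← pow_add, add_comm]
    have hpC2 : Nat.Coprime p (Nat.card C2) := Nat.Coprime.coprime_dvd_left hpc hcopCC
    have haK : g ^ q ∈ K := by
      have h0 : QuotientGroup.mk' K (g ^ q) = 1 := by
        apply eq_one_of_pow_coprime _ p (Nat.card C2) hpC2
        · rw [← map_pow, hap, map_one]
        · rw [← hq2]; exact pow_card_eq_one'
      rwa [QuotientGroup.mk'_apply, QuotientGroup.eq_one_iff] at h0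
    have hpH : Nat.Coprime p (Nat.card H) := Nat.Coprime.coprime_dvd_left hpc hcopHC.symm
    have haH : g ^ q ∉ H := by
      intro h0
      exact ha1 (eq_one_of_pow_coprime _ p (Nat.card H) hpH hap (pow_card_of_mem H h0))
    have hπa : QuotientGroup.mk' H (g ^ q) ∈ Lead.frobKer C2 hC2 := by
      rw [hN2]; exact Subgroup.mem_map_of_mem _ haK
    have hπa1 : QuotientGroup.mk' H (g ^ q) ≠ 1 := by
      rw [QuotientGroup.mk'_apply, Ne, QuotientGroup.eq_one_iff]; exact haH
    have hπb : QuotientGroup.mk' H (g ^ p) ∈ K.map (QuotientGroup.mk' H) := by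
      rw [← hN2]
      apply Lead.frob_centralizer_le C2 hC2 hπa hπa1
      rw [Subgroup.mem_centralizer_iff]
      intro y hy
      rw [Set.mem_singleton_iff] at hy
      subst hy
      rw [← map_mul, ← map_mul, hcomm]
    have hqC1 : Nat.Coprime q (Nat.card C1) := (Nat.Prime.coprime_iff_not_dvd hq).2 hqc
    have hbH : g ^ p ∈ H := by
      have h0 : QuotientGroup.mk' H (g ^ p) = 1 := by
        apply eq_one_of_pow_coprime _ q (Nat.card C1) hqC1
        · rw [← map_pow, hbq, map_one]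
        · rw [← hKbC1]; exact pow_card_of_mem _ hπb
      rwa [QuotientGroup.mk'_apply, QuotientGroup.eq_one_iff] at h0
    have hbK : g ^ p ∈ K := hHK hbH
    have hmem : (⟨g ^ p, hbK⟩ : ↥K) ∈ Lead.frobKer C1 hC1 := by
      rw [hN1, Subgroup.mem_subgroupOf]; exact hbH
    have h0 : (⟨g ^ q, haK⟩ : ↥K) ∈ Lead.frobKer C1 hC1 := by
      apply Lead.frob_centralizer_le C1 hC1 hmem (fun h => hb1 (congrArg Subtype.val h))
      rw [Subgroup.mem_centralizer_iff]
      intro y hy
      rw [Set.mem_singleton_iff] at hy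
      subst hy
      exact Subtype.ext hcomm.symm
    rw [hN1, Subgroup.mem_subgroupOf] at h0
    exact haH h0
  have hE2 : ∀ p q : ℕ, p.Prime → q.Prime → p ≠ q → p ∣ Nat.card C1 → q ∣ Nat.card C1 →
      ∃ g : G, orderOf g = p * q := by
    intro p q hp hq hpq hpc hqc
    haveI := Fact.mk hp
    haveI := Fact.mk hq
    obtain ⟨x, hx⟩ := exists_prime_orderOf_dvd_card' p (by rw [hKbC1]; exact hpc)
    obtain ⟨y, hy⟩ := exists_prime_orderOf_dvd_card' q (by rw [hKbC1]; exact hqc)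
    have hc : x * y = y * x := Helper12.nilp_comm hKbn hp hq hpq x y
      ⟨1, by rw [pow_one, ← hx, pow_orderOf_eq_one]⟩ ⟨1, by rw [pow_one, ← hy, pow_orderOf_eq_one]⟩
    have h1 := orderOf_mul_primes hp hq hpq hx hy hc
    obtain ⟨g, hg⟩ := QuotientGroup.mk'_surjective H
      ((x * y : ↥(K.map (QuotientGroup.mk' H))) : G ⧸ H)
    exact exists_orderOf_of_map (QuotientGroup.mk' H) g (p * q)
      (by rw [hg, Subgroup.orderOf_coe, h1])
  have hE3a : ∀ p q : ℕ, p.Prime → q.Prime → p ≠ q → p ∣ Nat.card H → q ∣ Nat.card H →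
      ∃ g : G, orderOf g = p * q := by
    intro p q hp hq hpq hpc hqc
    haveI := Fact.mk hp
    haveI := Fact.mk hq
    obtain ⟨x, hx⟩ := exists_prime_orderOf_dvd_card' p hpc
    obtain ⟨y, hy⟩ := exists_prime_orderOf_dvd_card' q hqc
    have hc : x * y = y * x := Helper12.nilp_comm hHn hp hq hpq x y
      ⟨1, by rw [pow_one, ← hx, pow_orderOf_eq_one]⟩ ⟨1, by rw [pow_one, ← hy, pow_orderOf_eq_one]⟩
    have h1 := orderOf_mul_primes hp hq hpq hx hy hc
    exact ⟨((x * y : ↥H) : G), by rw [Subgroup.orderOf_coe, h1]⟩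
  have hE3b : ∀ p q : ℕ, p.Prime → q.Prime → p ≠ q → p ∣ Nat.card C2 → q ∣ Nat.card C2 →
      ∃ g : G, orderOf g = p * q := by
    intro p q hp hq hpq hpc hqc
    haveI := Fact.mk hp
    haveI := Fact.mk hq
    obtain ⟨x, hx⟩ := exists_prime_orderOf_dvd_card' p hpc
    obtain ⟨y, hy⟩ := exists_prime_orderOf_dvd_card' q hqc
    have hc : x * y = y * x := Subtype.ext (hC2comm x x.2 y y.2)
    have h1 := orderOf_mul_primes hp hq hpq hx hy hc
    obtain ⟨g, hg⟩ := QuotientGroup.mk'_surjective H ((x * y : ↥C2) : G ⧸ H)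
    exact exists_orderOf_of_map (QuotientGroup.mk' H) g (p * q)
      (by rw [hg, Subgroup.orderOf_coe, h1])
  have hE3c : ∀ p q : ℕ, p.Prime → q.Prime → p ≠ q → p ∣ Nat.card H → q ∣ Nat.card C2 →
      ∃ g : G, orderOf g = p * q := by
    intro p q hp hq hpq hpH hqC2
    by_cases hqH : q ∣ Nat.card H
    · exact hE3a p q hp hq hpq hpH hqH
    haveI := Fact.mk hp
    haveI := Fact.mk hq
    have hrH : Nat.Coprime r (Nat.card H) := Nat.Coprime.coprime_dvd_left hrC1 hcopHC.symm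
    have hrC2 : Nat.Coprime r (Nat.card C2) := Nat.Coprime.coprime_dvd_left hrC1 hcopCC
    have hqC1 : Nat.Coprime q (Nat.card C1) := Nat.Coprime.coprime_dvd_left hqC2 hcopCC.symm
    have hqH' : Nat.Coprime q (Nat.card H) := (Nat.Prime.coprime_iff_not_dvd hq).2 hqH
    have hqr : q ≠ r := by
      intro h0
      rw [h0] at hqC2
      have h1 := Nat.dvd_gcd hrC1 hqC2
      rw [Nat.Coprime.gcd_eq_one hcopCC] at h1
      exact hr.one_lt.ne' (Nat.dvd_one.1 h1)
    -- `x` of order `r` in `K \ H`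
    obtain ⟨c1, hc1⟩ := exists_prime_orderOf_dvd_card' r hrC1
    obtain ⟨x, hxdef⟩ : ∃ x : G, x = ((c1 : ↥K) : G) := ⟨_, rfl⟩
    have hxK : x ∈ K := hxdef ▸ (c1 : ↥K).2
    have hxr : orderOf x = r := by
      rw [hxdef, Subgroup.orderOf_coe, Subgroup.orderOf_coe, hc1]
    have hx1 : x ≠ 1 := by
      intro h0
      rw [h0, orderOf_one] at hxr
      exact hr.one_lt.ne hxr
    have hxH : x ∉ H := by
      intro h0
      exact hx1 (eq_one_of_pow_coprime x r (Nat.card H) hrH (hxr ▸ pow_orderOf_eq_one x)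
        (pow_card_of_mem H h0))
    have hπx : QuotientGroup.mk' H x ∈ K.map (QuotientGroup.mk' H) :=
      Subgroup.mem_map_of_mem _ hxK
    have hπx1 : QuotientGroup.mk' H x ≠ 1 := by
      rw [QuotientGroup.mk'_apply, Ne, QuotientGroup.eq_one_iff]; exact hxH
    have hπxr : QuotientGroup.mk' H x ^ r = 1 := by
      rw [← map_pow, ← hxr, pow_orderOf_eq_one, map_one]
    haveI hZn : (Subgroup.zpowers (QuotientGroup.mk' H x)).Normal := by
      refine ⟨fun y hy g => ?_⟩
      obtain ⟨k, rfl⟩ := Subgroup.mem_zpowers_iff.1 hy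
      rw [← conj_zpow]
      exact Subgroup.zpow_mem _ (hU r hr _ _ hπx (hKbnorm.conj_mem _ hπx g) hπxr
        (by rw [conj_pow, hπxr]; group) hπx1) k
    obtain ⟨M, hM⟩ : ∃ M : Subgroup G,
        M = (Subgroup.zpowers (QuotientGroup.mk' H x)).comap (QuotientGroup.mk' H) := ⟨_, rfl⟩
    haveI hMn : M.Normal := by rw [hM]; infer_instance
    have hMcard : Nat.card M = r * Nat.card H := by
      rw [hM, card_comap_mk, Nat.card_zpowers, orderOf_eq_prime hπxr hπx1]
    have hxM : x ∈ M := by rw [hM]; exact Subgroup.mem_comap.2 (Subgroup.mem_zpowers _)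
    have hXM : Subgroup.zpowers x ≤ M := Subgroup.zpowers_le.2 hxM
    have hMK : M ≤ K := by
      intro m hm
      rw [hM] at hm
      have h0 : QuotientGroup.mk' H m ∈ K.map (QuotientGroup.mk' H) :=
        (Subgroup.zpowers_le.2 hπx) (Subgroup.mem_comap.1 hm)
      have h1 := hρK _ h0
      rwa [hρ, QuotientGroup.mk'_apply, QuotientGroup.eq_one_iff] at h1
    -- Frattini argument
    have hfact : (Nat.card M).factorization r = 1 := by
      rw [hMcard, Nat.factorization_mul hr.ne_zero hHpos.ne', Finsupp.add_apply,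
        hr.factorization_self,
        Nat.factorization_eq_zero_of_not_dvd ((Nat.Prime.coprime_iff_not_dvd hr).1 hrH)]
    have hXcard : Nat.card ((Subgroup.zpowers x).subgroupOf M) =
        r ^ (Nat.card M).factorization r := by
      rw [hfact, pow_one, Nat.card_congr (Subgroup.subgroupOfEquivOfLe hXM).toEquiv,
        Nat.card_zpowers, hxr]
    have hfr := Sylow.normalizer_sup_eq_top
      (Sylow.ofCard ((Subgroup.zpowers x).subgroupOf M) hXcard)
    rw [Sylow.coe_ofCard, Subgroup.subgroupOf_map_subtype, inf_eq_left.2 hXM] at hfr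
    -- an element of order `q` of `C2` and a lift
    obtain ⟨c, hc⟩ := exists_prime_orderOf_dvd_card' q hqC2
    have hc1' : (c : G ⧸ H) ≠ 1 := by
      intro h0
      have h1 : c = 1 := Subtype.ext h0
      rw [h1, orderOf_one] at hc
      exact hq.one_lt.ne hc
    have hρc1 : ρ (c : G ⧸ H) ≠ 1 := by
      intro h0
      have h1 : (c : G ⧸ H) ∈ Lead.frobKer C2 hC2 ⊓ C2 :=
        ⟨by rw [hN2]; exact hρker _ h0, c.2⟩
      rw [Lead.frobKer_inf, Subgroup.mem_bot] at h1
      exact hc1' h1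
    have hρcq : ρ (c : G ⧸ H) ^ q = 1 := by
      rw [← map_pow, ← Subgroup.coe_pow, ← hc, pow_orderOf_eq_one, Subgroup.coe_one, map_one]
    obtain ⟨g0, hg0⟩ := QuotientGroup.mk'_surjective H (c : G ⧸ H)
    have hg0mem : g0 ∈ Subgroup.normalizer ((Subgroup.zpowers x : Subgroup G) : Set G) ⊔ M := by
      rw [hfr]; exact Subgroup.mem_top _
    obtain ⟨n, hn, m, hm, hnm⟩ := Subgroup.mem_sup_of_normal_right.1 hg0mem
    have hnK : QuotientGroup.mk' K n = ρ (c : G ⧸ H) := by
      rw [← hg0, hρ, ← hnm, map_mul]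
      have h0 : QuotientGroup.mk' K m = 1 := by
        rw [QuotientGroup.mk'_apply, QuotientGroup.eq_one_iff]; exact hMK hm
      rw [h0, mul_one]
    obtain ⟨a, m', hm', hnord⟩ :=
      Nat.exists_eq_pow_mul_and_not_dvd (orderOf_pos n).ne' q hq.ne_one
    obtain ⟨d, hd⟩ : ∃ d : G, d = n ^ m' := ⟨_, rfl⟩
    have hdN : d ∈ Subgroup.normalizer ((Subgroup.zpowers x : Subgroup G) : Set G) :=
      hd ▸ Subgroup.pow_mem _ hn _
    have hdqa : d ^ q ^ a = 1 := by
      rw [hd, ← pow_mul', ← hnord, pow_orderOf_eq_one]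
    have hdK' : QuotientGroup.mk' K d = ρ (c : G ⧸ H) ^ m' := by rw [hd, map_pow, hnK]
    have hdK : d ∉ K := by
      intro h0
      have h1 : QuotientGroup.mk' K d = 1 := by
        rw [QuotientGroup.mk'_apply, QuotientGroup.eq_one_iff]; exact h0
      rw [hdK'] at h1
      have h2 := orderOf_dvd_of_pow_eq_one h1
      rw [orderOf_eq_prime hρcq hρc1] at h2
      exact hm' h2
    have hdq : d ^ q = 1 := by
      have h0 : QuotientGroup.mk' H (d ^ q) ∈ K.map (QuotientGroup.mk' H) := by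
        apply hρker
        rw [hρ, map_pow, hdK', ← pow_mul', pow_mul, hρcq, one_pow]
      have h1 : QuotientGroup.mk' H (d ^ q) = 1 := by
        apply eq_one_of_pow_coprime _ (q ^ a) (Nat.card C1) (Nat.Coprime.pow_left a hqC1)
        · rw [← map_pow, ← pow_mul', pow_mul, hdqa, one_pow, map_one]
        · rw [← hKbC1]; exact pow_card_of_mem _ h0
      have h2 : d ^ q ∈ H := by
        rwa [QuotientGroup.mk'_apply, QuotientGroup.eq_one_iff] at h1
      apply eq_one_of_pow_coprime _ (q ^ a) (Nat.card H) (Nat.Coprime.pow_left a hqH')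
      · rw [← pow_mul', pow_mul, hdqa, one_pow]
      · exact pow_card_of_mem H h2
    have hd1 : d ≠ 1 := fun h0 => hdK (h0 ▸ K.one_mem)
    have hdord : orderOf d = q := orderOf_eq_prime hdq hd1
    -- the group `A` of order `q * r`
    obtain ⟨A, hA⟩ : ∃ A : Subgroup G, A = Subgroup.zpowers d ⊔ Subgroup.zpowers x := ⟨_, rfl⟩
    have hdA : d ∈ A :=
      hA ▸ (le_sup_left : Subgroup.zpowers d ≤ Subgroup.zpowers d ⊔ Subgroup.zpowers x)
        (Subgroup.mem_zpowers d)
    have hxA : x ∈ A :=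
      hA ▸ (le_sup_right : Subgroup.zpowers x ≤ Subgroup.zpowers d ⊔ Subgroup.zpowers x)
        (Subgroup.mem_zpowers x)
    have hAcard : Nat.card A = q * r := by
      apply Nat.dvd_antisymm
      · have h0 := card_sup_dvd_of_le_normalizer (A := Subgroup.zpowers d)
          (B := Subgroup.zpowers x) (Subgroup.zpowers_le.2 hdN)
        rwa [Nat.card_zpowers, Nat.card_zpowers, hdord, hxr, ← hA] at h0
      · apply Nat.Coprime.mul_dvd_of_dvd_of_dvd ((Nat.coprime_primes hq hr).2 hqr)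
        · rw [← hdord]; exact orderOf_dvd_of_pow_eq_one (pow_card_of_mem A hdA)
        · rw [← hxr]; exact orderOf_dvd_of_pow_eq_one (pow_card_of_mem A hxA)
    have hAnc : ¬ IsCyclic A := by
      intro hcyc
      have h0 := congrArg Subtype.val (comm_of_isCyclic (⟨d, hdA⟩ : ↥A) ⟨x, hxA⟩)
      have h1 : d * x = x * d := h0
      have h2 : QuotientGroup.mk' H d ∈ Lead.frobKer C2 hC2 := by
        apply Lead.frob_centralizer_le C2 hC2 (n := QuotientGroup.mk' H x)
          (by rw [hN2]; exact hπx) hπx1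
        rw [Subgroup.mem_centralizer_iff]
        intro y hy
        rw [Set.mem_singleton_iff] at hy
        subst hy
        rw [← map_mul, ← map_mul, h1]
      rw [hN2] at h2
      have h3 := hρK _ h2
      rw [hρ, QuotientGroup.mk'_apply, QuotientGroup.eq_one_iff] at h3
      exact hdK h3
    -- an abelian normal `p`-subgroup of `G` inside `H`
    haveI := hHn
    obtain ⟨S⟩ : Nonempty (Sylow p ↥H) := inferInstance
    haveI hSc : (S : Subgroup ↥H).Characteristic := Sylow.characteristic_of_normal S inferInstance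
    obtain ⟨P, hP⟩ : ∃ P : Subgroup G, P = (S : Subgroup ↥H).map H.subtype := ⟨_, rfl⟩
    haveI hPn : P.Normal := by rw [hP]; exact ConjAct.normal_of_characteristic_of_normal
    obtain ⟨V, hV⟩ : ∃ V : Subgroup G, V = (Subgroup.center ↥P).map P.subtype := ⟨_, rfl⟩
    haveI hVn : V.Normal := by rw [hV]; exact ConjAct.normal_of_characteristic_of_normal
    have hPH : P ≤ H := hP ▸ Subgroup.map_subtype_le _
    have hVP : V ≤ P := hV ▸ Subgroup.map_subtype_le _
    have hPp : IsPGroup p ↥P := hP ▸ S.isPGroup'.map _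
    have hSne : (S : Subgroup ↥H) ≠ ⊥ := S.ne_bot_of_dvd_card hpH
    haveI hPnt : Nontrivial ↥P := by
      rw [Subgroup.nontrivial_iff_ne_bot, hP]
      intro h
      exact hSne ((Subgroup.map_eq_bot_iff_of_injective _ H.subtype_injective).1 h)
    have hVne : V ≠ ⊥ := by
      have h1 := hPp.center_nontrivial
      rw [hV]
      intro h
      rw [Subgroup.map_eq_bot_iff_of_injective _ P.subtype_injective] at h
      exact (Subgroup.nontrivial_iff_ne_bot _).1 h1 h
    have hVc : ∀ a ∈ V, ∀ b ∈ V, a * b = b * a := by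
      rw [hV]
      rintro a ⟨a', ha', rfl⟩ b ⟨b', hb', rfl⟩
      exact congrArg Subtype.val (Subgroup.mem_center_iff.1 ha' b').symm
    haveI hVcomm : IsMulCommutative ↥V := ⟨⟨fun a b => Subtype.ext (hVc a a.2 b b.2)⟩⟩
    have hfpfneg : ¬ ∀ a ∈ A, a ≠ 1 → V ⊓ Subgroup.centralizer {a} = ⊥ := by
      intro hfpf
      exact hAnc (Cfsg.Agent.S0041.result A V hVne
        (by rw [Subgroup.normalizer_eq_top]; exact le_top) hfpf
        (Or.inr ⟨q, r, hq, hr, hAcard⟩))
    obtain ⟨a', haA, ha1, hane⟩ : ∃ a' ∈ A, a' ≠ 1 ∧ V ⊓ Subgroup.centralizer {a'} ≠ ⊥ := by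
      by_contra hcon
      apply hfpfneg
      intro a' haA ha1
      by_contra hne
      exact hcon ⟨a', haA, ha1, hne⟩
    obtain ⟨⟨v, hvV, hvc⟩, hv1⟩ := (Subgroup.ne_bot_iff_exists_ne_one).1 hane
    have hv1' : v ≠ 1 := fun h => hv1 (Subtype.ext h)
    have hav : a' * v = v * a' := Subgroup.mem_centralizer_iff.1 hvc a' (Set.mem_singleton a')
    have hvH : v ∈ H := hPH (hVP hvV)
    have haK : a' ∉ K := by
      intro h0
      have hmem : (⟨v, hHK hvH⟩ : ↥K) ∈ Lead.frobKer C1 hC1 := by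
        rw [hN1, Subgroup.mem_subgroupOf]; exact hvH
      have h1 : (⟨a', h0⟩ : ↥K) ∈ Lead.frobKer C1 hC1 := by
        apply Lead.frob_centralizer_le C1 hC1 hmem (fun h => hv1' (congrArg Subtype.val h))
        rw [Subgroup.mem_centralizer_iff]
        intro y hy
        rw [Set.mem_singleton_iff] at hy
        subst hy
        exact Subtype.ext hav.symm
      rw [hN1, Subgroup.mem_subgroupOf] at h1
      have h2 : a' = 1 := by
        apply eq_one_of_pow_coprime a' (q * r) (Nat.card H) (Nat.Coprime.mul_left hqH' hrH)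
        · rw [← hAcard]; exact pow_card_of_mem A haA
        · exact pow_card_of_mem H h1
      exact ha1 h2
    have har1 : a' ^ r ≠ 1 := by
      intro h0
      have h1 : QuotientGroup.mk' K a' = 1 := by
        apply eq_one_of_pow_coprime _ r (Nat.card C2) hrC2
        · rw [← map_pow, h0, map_one]
        · rw [← hq2]; exact pow_card_eq_one'
      rw [QuotientGroup.mk'_apply, QuotientGroup.eq_one_iff] at h1
      exact haK h1
    have harq : (a' ^ r) ^ q = 1 := by
      rw [← pow_mul', ← hAcard]; exact pow_card_of_mem A haA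
    have hbord : orderOf (a' ^ r) = q := orderOf_eq_prime harq har1
    obtain ⟨j, hj⟩ := exists_pow_orderOf_eq_prime hp v hv1' (by
      obtain ⟨k, hk⟩ := hPp ⟨v, hVP hvV⟩
      exact ⟨k, by simpa using congrArg Subtype.val hk⟩)
    have hcomm : v ^ j * a' ^ r = a' ^ r * v ^ j := by
      have h0 : Commute a' v := hav
      exact (h0.pow_pow r j).eq.symm
    exact ⟨v ^ j * a' ^ r, orderOf_mul_primes hp hq hpq hj hbord hcomm⟩
  refine ⟨hsolv, hq1 ▸ hodd, ?_, hGKcyc, ?_⟩
  · rw [hq1, hq2]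
    exact Nat.Coprime.mul_right hcopHC.symm hcopCC
  · rw [hq1]
    intro p q hp hq hpq hpG hqG
    constructor
    · rintro ⟨g, hg⟩
      constructor
      · intro hpc
        by_contra hqc
        exact hE1 p q hp hq hpq hpc hqc ⟨g, hg⟩
      · intro hqc
        by_contra hpc
        exact hE1 q p hq hp hpq.symm hqc hpc ⟨g, by rw [hg, mul_comm]⟩
    · intro hiff
      by_cases hpc : p ∣ Nat.card C1
      · exact hE2 p q hp hq hpq hpc (hiff.1 hpc)
      · have hqc : ¬ q ∣ Nat.card C1 := fun h => hpc (hiff.2 h)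
        have hp' : p ∣ Nat.card H ∨ p ∣ Nat.card C2 := by
          rw [hcardG] at hpG
          rcases (Nat.Prime.dvd_mul hp).1 hpG with h | h
          · rcases (Nat.Prime.dvd_mul hp).1 h with h | h
            · exact Or.inl h
            · exact absurd h hpc
          · exact Or.inr h
        have hq' : q ∣ Nat.card H ∨ q ∣ Nat.card C2 := by
          rw [hcardG] at hqG
          rcases (Nat.Prime.dvd_mul hq).1 hqG with h | h
          · rcases (Nat.Prime.dvd_mul hq).1 h with h | h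
            · exact Or.inl h
            · exact absurd h hqc
          · exact Or.inr h
        rcases hp' with hpH | hpC2 <;> rcases hq' with hqH | hqC2
        · exact hE3a p q hp hq hpq hpH hqH
        · exact hE3c p q hp hq hpq hpH hqC2
        · obtain ⟨g, hg⟩ := hE3c q p hq hp hpq.symm hqH hpC2
          exact ⟨g, by rw [hg, mul_comm]⟩
        · exact hE3b p q hp hq hpq hpC2 hqC2

end Cfsg.Agent.S4001
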