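import Cfsg.Statements.S4477
-- import your own Cfsg.Agent.* helpers here
import Mathlib
import Cfsg.Agent.S4058

set_option autoImplicit false
open Cfsg

namespace Cfsg.Agent.S4477

open Cfsg.Agent.Lib.Helper2 Cfsg.Agent.Lib.Lead Cfsg.Agent.S4058
open scoped ComplexConjugate

universe u

section lin

variable {G : Type u} [Group G] [Fintype G]

omit [Fintype G] in
theorem mu_pow_card [Finite G] (mu : G →* ℂˣ) (g : G) : (mu g : ℂ) ^ Nat.card G = 1 := by
  have h : (mu g) ^ Nat.card G = 1 := by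
    rw [← map_pow, pow_card_eq_one', map_one]
  have h2 := congrArg (fun u : ℂˣ => (u : ℂ)) h
  simpa using h2

omit [Fintype G] in
theorem mu_mul_conj [Finite G] (mu : G →* ℂˣ) (g : G) : (mu g : ℂ) * conj (mu g : ℂ) = 1 := by
  have h1 : ‖(mu g : ℂ)‖ = 1 :=
    Complex.norm_eq_one_of_pow_eq_one (mu_pow_card mu g) Nat.card_pos.ne'
  rw [Complex.mul_conj, Complex.normSq_eq_norm_sq, h1]
  simp

omit [Fintype G] in
theorem mu_isIrr (mu : G →* ℂˣ) : Cfsg.IsIrrCharacter G (fun g => (mu g : ℂ)) :=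
  isIrrCharacter_of_hom mu

theorem twistC_irr (mu : G →* ℂˣ) {χ : G → ℂ} (hχ : Cfsg.IsIrrCharacter G χ) :
    Cfsg.IsIrrCharacter G (fun g => (mu g : ℂ) * χ g) := by
  apply irr_of_int_norm_one
  · intro g h
    show (mu (h * g * h⁻¹) : ℂ) * χ (h * g * h⁻¹) = (mu g : ℂ) * χ g
    rw [isClassFunction_of_isIrrCharacter hχ g h]
    congr 2
    rw [map_mul, map_mul, map_inv, mul_comm, inv_mul_cancel_left]
  · intro ψ hψ
    have hc : Cfsg.IsCharacter G ((fun g => (mu g : ℂ)) * χ) :=
      IsCharacter.mul (isCharacter_of_isIrrCharacter (mu_isIrr mu))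
        (isCharacter_of_isIrrCharacter hχ)
    obtain ⟨a, ha⟩ := classInner_isCharacter_nat hc (isCharacter_of_isIrrCharacter hψ)
    refine ⟨(a : ℤ), ?_⟩
    rw [Int.cast_natCast]
    exact ha
  · rw [classInner_def]
    have h1 := classInner_irr_self hχ
    rw [classInner_def] at h1
    rw [← h1]
    congr 1
    apply Finset.sum_congr rfl
    intro g _
    rw [map_mul]
    calc (mu g : ℂ) * χ g * (conj (mu g : ℂ) * conj (χ g))
        = ((mu g : ℂ) * conj (mu g : ℂ)) * (χ g * conj (χ g)) := by ring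
      _ = _ := by rw [mu_mul_conj, one_mul]
  · obtain ⟨n, hn, h1⟩ := irr_apply_one hχ
    exact ⟨n, hn, by simp [h1]⟩

/-- twisting irreducible characters by linear characters -/
@[instance_reducible]
noncomputable def twistCAction : MulAction (G →* ℂˣ) (Cfsg.IrrCharacter G) where
  smul mu χ := ⟨fun g => (mu g : ℂ) * (χ : G → ℂ) g, twistC_irr mu χ.2⟩
  one_smul χ := by
    apply Subtype.ext
    funext g
    show ((1 : G →* ℂˣ) g : ℂ) * (χ : G → ℂ) g = (χ : G → ℂ) g
    simp
  mul_smul mu nu χ := by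
    apply Subtype.ext
    funext g
    show ((mu * nu) g : ℂ) * (χ : G → ℂ) g = (mu g : ℂ) * ((nu g : ℂ) * (χ : G → ℂ) g)
    rw [MonoidHom.mul_apply, Units.val_mul, mul_assoc]

theorem fsInd_twistC (mu : G →* ℂˣ) (hmu : mu * mu = 1) (χ : G → ℂ) :
    fsInd (fun g => (mu g : ℂ) * χ g) = fsInd χ := by
  unfold fsInd
  congr 1
  apply Finset.sum_congr rfl
  intro s _
  show (mu (s * s) : ℂ) * χ (s * s) = χ (s * s)
  have h : mu (s * s) = 1 := by
    rw [map_mul]
    exact DFunLike.congr_fun hmu s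
  rw [h]
  simp

theorem sum_mu (mu : G →* ℂˣ) :
    ∑ g : G, (mu g : ℂ) = if mu = 1 then (Nat.card G : ℂ) else 0 := by
  classical
  by_cases h : mu = 1
  · rw [if_pos h, h]
    simp [Nat.card_eq_fintype_card]
  · rw [if_neg h]
    have hex : ∃ g₀ : G, mu g₀ ≠ 1 := by
      by_contra hc
      push Not at hc
      exact h (MonoidHom.ext hc)
    obtain ⟨g₀, hg₀⟩ := hex
    have h2 : ∑ g : G, (mu g : ℂ) = ∑ g : G, (mu (g₀ * g) : ℂ) :=
      (Fintype.sum_equiv (Equiv.mulLeft g₀) (fun g => (mu (g₀ * g) : ℂ)) (fun g => (mu g : ℂ))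
        (fun g => rfl)).symm
    have h3 : ∑ g : G, (mu (g₀ * g) : ℂ) = (mu g₀ : ℂ) * ∑ g : G, (mu g : ℂ) := by
      rw [Finset.mul_sum]
      apply Finset.sum_congr rfl
      intro g _
      rw [map_mul, Units.val_mul]
    have h4 : ((mu g₀ : ℂ) - 1) * ∑ g : G, (mu g : ℂ) = 0 := by
      rw [sub_mul, one_mul, ← h3, ← h2, sub_self]
    rcases mul_eq_zero.mp h4 with h5 | h5
    · exfalso
      apply hg₀
      apply Units.ext
      rw [Units.val_one]
      exact sub_eq_zero.mp h5
    · exact h5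

end lin

section stabC

variable {G : Type u} [Group G] [Fintype G]

theorem stabC_card_le {χ : G → ℂ} (hχ : Cfsg.IsIrrCharacter G χ) (S : Subgroup (G →* ℂˣ))
    [Finite S] (n : ℕ) (hn : χ 1 = n)
    (hS : ∀ mu ∈ S, ∀ g, (mu g : ℂ) * χ g = χ g) :
    Nat.card S ≤ n ^ 2 := by
  classical
  have := Fintype.ofFinite S
  set w : G → ℝ := fun g => Complex.normSq (χ g) with hw
  have hw_sum : ∑ g : G, w g = (Nat.card G : ℝ) := sum_normSq_of_irr hχ
  have hw_le : ∀ g, w g ≤ (n : ℝ) ^ 2 := normSq_le_of_irr hχ n hn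
  -- the real-valued indicator
  set cr : G → ℝ := fun g => if ∀ mu : S, mu.1 g = 1 then (Nat.card S : ℝ) else 0 with hcr
  have hcr_nonneg : ∀ g, 0 ≤ cr g := by
    intro g
    rw [hcr]
    dsimp only
    split_ifs
    · positivity
    · exact le_refl _
  have hc : ∀ g, ∑ mu : S, ((mu.1 g : ℂˣ) : ℂ) = ((cr g : ℝ) : ℂ) := by
    intro g
    rw [hcr]
    dsimp only
    by_cases hall : ∀ mu : S, mu.1 g = 1
    · rw [if_pos hall]
      simp [hall, Nat.card_eq_fintype_card]
    · rw [if_neg hall]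
      push Not at hall
      obtain ⟨mu₀, h0⟩ := hall
      have h2 : ∑ mu : S, ((mu.1 g : ℂˣ) : ℂ) = ∑ mu : S, (((mu₀ * mu).1 g : ℂˣ) : ℂ) :=
        (Fintype.sum_equiv (Equiv.mulLeft mu₀) (fun mu : S => (((mu₀ * mu).1 g : ℂˣ) : ℂ))
          (fun mu : S => ((mu.1 g : ℂˣ) : ℂ)) (fun mu => rfl)).symm
      have h3 : ∑ mu : S, (((mu₀ * mu).1 g : ℂˣ) : ℂ)
          = ((mu₀.1 g : ℂˣ) : ℂ) * ∑ mu : S, ((mu.1 g : ℂˣ) : ℂ) := by
        rw [Finset.mul_sum]
        apply Finset.sum_congr rfl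
        intro mu _
        rw [Subgroup.coe_mul, MonoidHom.mul_apply, Units.val_mul]
      have h4 : (((mu₀.1 g : ℂˣ) : ℂ) - 1) * ∑ mu : S, ((mu.1 g : ℂˣ) : ℂ) = 0 := by
        rw [sub_mul, one_mul, ← h3, ← h2, sub_self]
      rcases mul_eq_zero.mp h4 with h5 | h5
      · exfalso
        apply h0
        apply Units.ext
        rw [Units.val_one]
        exact sub_eq_zero.mp h5
      · rw [h5]; simp
  have hfix : ∀ mu : S, ∀ g, ((mu.1 g : ℂˣ) : ℂ) * ((w g : ℝ) : ℂ) = ((w g : ℝ) : ℂ) := by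
    intro mu g
    by_cases h0 : χ g = 0
    · have : w g = 0 := by rw [hw]; simp [h0]
      rw [this]; simp
    · have h3 := hS mu.1 mu.2 g
      have h4 : ((mu.1 g : ℂˣ) : ℂ) = 1 := by
        have : (((mu.1 g : ℂˣ) : ℂ) - 1) * χ g = 0 := by rw [sub_mul, one_mul, h3, sub_self]
        rcases mul_eq_zero.mp this with h | h
        · exact sub_eq_zero.mp h
        · exact absurd h h0
      rw [h4, one_mul]
  have hcr_sum : ∑ g : G, cr g = (Nat.card G : ℝ) := by
    have h1 : ((∑ g : G, cr g : ℝ) : ℂ) = ((Nat.card G : ℝ) : ℂ) := by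
      rw [Complex.ofReal_sum]
      simp only [← hc]
      rw [Finset.sum_comm]
      have h2 : ∀ mu : S, ∑ g : G, ((mu.1 g : ℂˣ) : ℂ)
          = if mu = 1 then (Nat.card G : ℂ) else 0 := by
        intro mu
        rw [sum_mu]
        by_cases h : mu = 1
        · rw [if_pos h, if_pos (by rw [h]; rfl)]
        · rw [if_neg h, if_neg (fun hc : (mu : G →* ℂˣ) = 1 => h (Subtype.ext hc))]
      simp only [h2]
      rw [Finset.sum_ite_eq' Finset.univ (1 : S)]
      simp
    exact_mod_cast h1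
  have hkey : (Nat.card S : ℝ) * (Nat.card G : ℝ) ≤ (n : ℝ) ^ 2 * (Nat.card G : ℝ) := by
    have h1 : (((Nat.card S : ℝ) * (Nat.card G : ℝ) : ℝ) : ℂ)
        = ((∑ g : G, cr g * w g : ℝ) : ℂ) := by
      rw [Complex.ofReal_sum]
      simp only [Complex.ofReal_mul, ← hc, Finset.sum_mul]
      rw [Finset.sum_comm]
      simp only [hfix]
      rw [Finset.sum_const, Finset.card_univ, nsmul_eq_mul, ← Complex.ofReal_sum, hw_sum,
        Nat.card_eq_fintype_card]
      push_cast
      ring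
    have h2 : (Nat.card S : ℝ) * (Nat.card G : ℝ) = ∑ g : G, cr g * w g := by
      exact_mod_cast h1
    rw [h2]
    calc ∑ g : G, cr g * w g ≤ ∑ g : G, cr g * (n : ℝ) ^ 2 := by
          apply Finset.sum_le_sum
          intro g _
          exact mul_le_mul_of_nonneg_left (hw_le g) (hcr_nonneg g)
      _ = (n : ℝ) ^ 2 * (Nat.card G : ℝ) := by
          rw [← Finset.sum_mul, hcr_sum, mul_comm]
  have hpos : (0 : ℝ) < (Nat.card G : ℝ) := by exact_mod_cast Nat.card_pos
  have h7 : (Nat.card S : ℝ) ≤ (n : ℝ) ^ 2 := le_of_mul_le_mul_right hkey hpos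
  exact_mod_cast h7

end stabC

section signC

variable {G : Type u} [Group G]

/-- the complex sign character with kernel a subgroup of index two -/
noncomputable def signHomC (M : Subgroup G) (hM : M.index = 2) : G →* ℂˣ := by
  classical
  exact
  { toFun := fun g => if g ∈ M then 1 else -1
    map_one' := by simp [M.one_mem]
    map_mul' := by
      intro a b
      by_cases ha : a ∈ M <;> by_cases hb : b ∈ M <;>
        simp [Subgroup.mul_mem_iff_of_index_two hM, ha, hb] }

theorem signHomC_mem {M : Subgroup G} (hM : M.index = 2) {g : G} (hg : g ∈ M) :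
    signHomC M hM g = 1 := by
  classical
  change (if g ∈ M then (1 : ℂˣ) else -1) = 1
  rw [if_pos hg]

theorem signHomC_not_mem {M : Subgroup G} (hM : M.index = 2) {g : G} (hg : g ∉ M) :
    signHomC M hM g = -1 := by
  classical
  change (if g ∈ M then (1 : ℂˣ) else -1) = -1
  rw [if_neg hg]

theorem signHomC_sq {M : Subgroup G} (hM : M.index = 2) :
    signHomC M hM * signHomC M hM = 1 := by
  ext g
  by_cases hg : g ∈ M
  · simp [signHomC_mem hM hg]
  · simp [signHomC_not_mem hM hg]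

theorem neg_one_ne_one_units : (-1 : ℂˣ) ≠ 1 := by
  intro h
  have h2 := congrArg Units.val h
  norm_num at h2

/-- the subgroup of linear characters of order at most two -/
def sqOne (G : Type u) [Group G] : Subgroup (G →* ℂˣ) where
  carrier := {mu | mu * mu = 1}
  one_mem' := by
    show (1 : G →* ℂˣ) * 1 = 1
    exact MonoidHom.ext fun g => by simp
  mul_mem' := by
    intro a b ha hb
    have ha' : ∀ g, a g * a g = 1 := fun g => DFunLike.congr_fun ha g
    have hb' : ∀ g, b g * b g = 1 := fun g => DFunLike.congr_fun hb g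
    show a * b * (a * b) = 1
    refine MonoidHom.ext fun g => ?_
    show a g * b g * (a g * b g) = 1
    calc a g * b g * (a g * b g) = (a g * a g) * (b g * b g) := by rw [mul_mul_mul_comm]
      _ = 1 := by rw [ha', hb', one_mul]
  inv_mem' := by
    intro a ha
    have ha' : ∀ g, a g * a g = 1 := fun g => DFunLike.congr_fun ha g
    show a⁻¹ * a⁻¹ = 1
    refine MonoidHom.ext fun g => ?_
    show (a g)⁻¹ * (a g)⁻¹ = 1
    rw [← mul_inv, ha', inv_one]

theorem mem_sqOne {mu : G →* ℂˣ} : mu ∈ sqOne G ↔ mu * mu = 1 := Iff.rfl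

theorem three_le_card_sqOne [Finite G] (hG : IsPGroup 2 G) (hcyc : ¬ IsCyclic G) :
    3 ≤ Nat.card (sqOne G) := by
  classical
  have := Fintype.ofFinite (sqOne G)
  have hnt : Nontrivial G := by
    by_contra h
    rw [not_nontrivial_iff_subsingleton] at h
    exact hcyc inferInstance
  obtain ⟨M₁, hM₁⟩ : ∃ M : Subgroup G, IsCoatom M := by
    rcases eq_top_or_exists_le_coatom (⊥ : Subgroup G) with h | ⟨M, hM, _⟩
    · exact absurd h bot_ne_top
    · exact ⟨M, hM⟩
  obtain ⟨g, hg⟩ : ∃ g, g ∉ M₁ := by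
    by_contra h
    push Not at h
    exact hM₁.1 (eq_top_iff.mpr fun x _ => h x)
  have hz : Subgroup.zpowers g ≠ ⊤ :=
    fun h => hcyc (isCyclic_iff_exists_zpowers_eq_top.mpr ⟨g, h⟩)
  obtain ⟨M₂, hM₂, hgM₂⟩ : ∃ M, IsCoatom M ∧ Subgroup.zpowers g ≤ M := by
    rcases eq_top_or_exists_le_coatom (Subgroup.zpowers g) with h | h
    · exact absurd h hz
    · exact h
  have hg2 : g ∈ M₂ := hgM₂ (Subgroup.mem_zpowers g)
  obtain ⟨h, hh⟩ : ∃ h, h ∉ M₂ := by
    by_contra hc
    push Not at hc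
    exact hM₂.1 (eq_top_iff.mpr fun x _ => hc x)
  have i1 : M₁.index = 2 := Cfsg.Agent.Lib.Helper1.coatom_index_of_pgroup hG hM₁
  have i2 : M₂.index = 2 := Cfsg.Agent.Lib.Helper1.coatom_index_of_pgroup hG hM₂
  let a : sqOne G := ⟨signHomC M₁ i1, signHomC_sq i1⟩
  let b : sqOne G := ⟨signHomC M₂ i2, signHomC_sq i2⟩
  have hab : a ≠ b := by
    intro hc
    have h3 : signHomC M₁ i1 g = signHomC M₂ i2 g := congrArg (fun x : sqOne G => x.1 g) hc
    rw [signHomC_not_mem i1 hg, signHomC_mem i2 hg2] at h3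
    exact neg_one_ne_one_units h3
  have ha1 : a ≠ 1 := by
    intro hc
    have h3 : signHomC M₁ i1 g = 1 := congrArg (fun x : sqOne G => x.1 g) hc
    rw [signHomC_not_mem i1 hg] at h3
    exact neg_one_ne_one_units h3
  have hb1 : b ≠ 1 := by
    intro hc
    have h3 : signHomC M₂ i2 h = 1 := congrArg (fun x : sqOne G => x.1 h) hc
    rw [signHomC_not_mem i2 hh] at h3
    exact neg_one_ne_one_units h3
  have hcard : ({1, a, b} : Finset (sqOne G)).card = 3 := by
    rw [Finset.card_insert_of_notMem, Finset.card_insert_of_notMem, Finset.card_singleton]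
    · simpa using hab
    · simp only [Finset.mem_insert, Finset.mem_singleton, not_or]
      exact ⟨fun h => ha1 h.symm, fun h => hb1 h.symm⟩
  calc 3 = ({1, a, b} : Finset (sqOne G)).card := hcard.symm
    _ ≤ Nat.card (sqOne G) := by
        rw [Nat.card_eq_fintype_card]
        exact Finset.card_le_univ _

theorem card_linear [Finite G] : Nat.card (G →* ℂˣ) = (commutator G).index := by
  have e : (G →* ℂˣ) ≃ (Abelianization G →* ℂˣ) := Abelianization.lift
  rw [Nat.card_congr e, CommGroup.card_monoidHom_of_hasEnoughRootsOfUnity]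
  rfl

theorem card_sq_eq [Finite G] :
    Nat.card {x : G // x ^ 2 = 1} = Nat.card {x : G // orderOf x = 2} + 1 := by
  classical
  have := Fintype.ofFinite G
  rw [Nat.card_eq_fintype_card, Nat.card_eq_fintype_card, Fintype.card_subtype,
    Fintype.card_subtype]
  have h : (Finset.univ.filter fun x : G => x ^ 2 = 1)
      = insert 1 (Finset.univ.filter fun x : G => orderOf x = 2) := by
    ext x
    simp only [Finset.mem_filter, Finset.mem_univ, true_and, Finset.mem_insert]
    rw [orderOf_eq_prime_iff]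
    constructor
    · intro hx
      by_cases h1 : x = 1
      · exact Or.inl h1
      · exact Or.inr ⟨hx, h1⟩
    · rintro (rfl | ⟨hx, _⟩)
      · simp
      · exact hx
  rw [h, Finset.card_insert_of_notMem]
  simp

end signC

section fs2

variable {G : Type u} [Group G] [Fintype G]

theorem fsInd_eq_zero_iff {χ : G → ℂ} (hχ : Cfsg.IsIrrCharacter G χ) :
    fsInd χ = 0 ↔ ∃ s : G, (χ s).im ≠ 0 := by
  obtain ⟨n, ρ, hρ, rfl⟩ := hχ
  exact (frobenius_schur ρ).2

end fs2


/-- Let G be a finite 2-group whose number of involutions is congruent to 1 modulo 4. Then G is cyclic or its commutator subgroup has index 4. -/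
theorem result {G : Type*} [Group G] [Finite G] (hG : IsPGroup 2 G) (ht : Nat.card {x : G // orderOf x = 2} % 4 = 1) : IsCyclic G ∨ (commutator G).index = 4 := by
  classical
  by_contra hcon
  push Not at hcon
  obtain ⟨hcyc, hidx⟩ := hcon
  have := Fintype.ofFinite G
  have := Fintype.ofFinite (Cfsg.IrrCharacter G)
  let act : MulAction (G →* ℂˣ) (Cfsg.IrrCharacter G) := twistCAction
  have hsmul : ∀ (mu : G →* ℂˣ) (χ : Cfsg.IrrCharacter G) (g : G),
      ((mu • χ : Cfsg.IrrCharacter G) : G → ℂ) g = (mu g : ℂ) * (χ : G → ℂ) g :=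
    fun _ _ _ => rfl
  have hdegex : ∀ χ : Cfsg.IrrCharacter G, ∃ n : ℕ, 0 < n ∧ (χ : G → ℂ) 1 = (n : ℂ) :=
    fun χ => irr_apply_one χ.2
  choose deg hdeg_pos hdeg using hdegex
  have hepsex : ∀ χ : Cfsg.IrrCharacter G, ∃ e : ℤ, fsInd (χ : G → ℂ) = (e : ℂ) ∧
      (e = 0 ∨ e = 1 ∨ e = -1) := by
    intro χ
    rcases fsInd_cases χ.2 with h | h | h
    · exact ⟨0, by rw [h]; simp, Or.inl rfl⟩
    · exact ⟨1, by rw [h]; simp, Or.inr (Or.inl rfl)⟩
    · exact ⟨-1, by rw [h]; simp, Or.inr (Or.inr rfl)⟩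
  choose eps heps heps_cases using hepsex
  have hdeg_inv : ∀ (mu : G →* ℂˣ) (χ : Cfsg.IrrCharacter G), deg (mu • χ) = deg χ := by
    intro mu χ
    have h1 := hdeg (mu • χ)
    rw [hsmul, map_one, Units.val_one, one_mul, hdeg χ] at h1
    exact_mod_cast h1.symm
  have heps_inv : ∀ (mu : G →* ℂˣ), mu ∈ sqOne G → ∀ χ : Cfsg.IrrCharacter G,
      eps (mu • χ) = eps χ := by
    intro mu hmu χ
    have h1 := heps (mu • χ)
    have h2 : fsInd ((mu • χ : Cfsg.IrrCharacter G) : G → ℂ) = fsInd (χ : G → ℂ) :=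
      fsInd_twistC mu hmu χ
    rw [h2, heps χ] at h1
    exact_mod_cast h1.symm
  have heps_zero : ∀ χ : Cfsg.IrrCharacter G, eps χ = 0 ↔ ∃ s : G, ((χ : G → ℂ) s).im ≠ 0 := by
    intro χ
    rw [← fsInd_eq_zero_iff χ.2, heps χ]
    exact_mod_cast Iff.rfl
  -- the count as an integer sum
  have hcount : (Nat.card {x : G // x ^ 2 = 1} : ℤ) = ∑ χ : Cfsg.IrrCharacter G, eps χ * deg χ := by
    have h1 := count_eq_sum (G := G)
    have h2 : ((Nat.card {x : G // x ^ 2 = 1} : ℤ) : ℂ)
        = ((∑ χ : Cfsg.IrrCharacter G, eps χ * deg χ : ℤ) : ℂ) := by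
      rw [Int.cast_natCast, h1, Int.cast_sum]
      apply Finset.sum_congr rfl
      intro χ _
      rw [heps χ, hdeg χ]
      push_cast
      ring
    exact_mod_cast h2
  -- sizes
  have hL : IsPGroup 2 (sqOne G) := by
    intro mu
    refine ⟨1, ?_⟩
    rw [pow_one, sq]
    exact Subtype.ext mu.2
  obtain ⟨D, hD⟩ := IsPGroup.iff_card.mp hL
  obtain ⟨m, hm⟩ := IsPGroup.iff_card.mp hG
  have hD2 : 2 ≤ D := by
    have h3 := three_le_card_sqOne hG hcyc
    rw [hD] at h3
    by_contra hlt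
    push Not at hlt
    interval_cases D <;> omega
  -- the set of fixed characters of degree two
  let Y : Finset (Cfsg.IrrCharacter G) :=
    Finset.univ.filter (fun χ => deg χ = 2 ∧ ∀ mu : G →* ℂˣ, mu ∈ sqOne G → mu • χ = χ)
  have hY : ∀ χ : Cfsg.IrrCharacter G, χ ∈ Y ↔
      (deg χ = 2 ∧ ∀ mu : G →* ℂˣ, mu ∈ sqOne G → mu • χ = χ) := by
    intro χ
    simp only [Y, Finset.mem_filter, Finset.mem_univ, true_and]
  have hstab_le : ∀ (χ : Cfsg.IrrCharacter G) (S : Subgroup (G →* ℂˣ)),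
      (∀ mu ∈ S, mu • χ = χ) → Nat.card S ≤ deg χ ^ 2 := by
    intro χ S hS
    apply stabC_card_le χ.2 S (deg χ) (hdeg χ)
    intro mu hmu g
    have h5 := hsmul mu χ g
    rw [hS mu hmu] at h5
    exact h5.symm
  have hdvd : ∀ χ : Cfsg.IrrCharacter G, χ ∉ Y →
      4 ∣ (MulAction.orbit (sqOne G) χ).ncard * deg χ := by
    intro χ hχY
    obtain ⟨s, hs⟩ := IsPGroup.iff_card.mp (hL.to_subgroup (MulAction.stabilizer (sqOne G) χ))
    have hidx2 := MulAction.index_stabilizer (sqOne G) χ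
    have hmul := Subgroup.card_mul_index (MulAction.stabilizer (sqOne G) χ)
    rw [hs, hD, hidx2] at hmul
    have hsD : s ≤ D := by
      have : 2 ^ s ∣ 2 ^ D := ⟨_, hmul.symm⟩
      exact (Nat.pow_dvd_pow_iff_le_right (by norm_num)).mp this
    have horb : (MulAction.orbit (sqOne G) χ).ncard = 2 ^ (D - s) := by
      have h3 : 2 ^ s * (MulAction.orbit (sqOne G) χ).ncard = 2 ^ s * 2 ^ (D - s) := by
        rw [hmul, ← pow_add]
        congr 1
        omega
      exact Nat.eq_of_mul_eq_mul_left (by positivity) h3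
    obtain ⟨a, ha, hda⟩ : ∃ a, a ≤ m ∧ deg χ = 2 ^ a := by
      have h4 := deg_dvd_card χ.2 (deg χ) (hdeg χ)
      rw [hm] at h4
      exact (Nat.dvd_prime_pow Nat.prime_two).mp h4
    have hle : Nat.card (MulAction.stabilizer (sqOne G) χ) ≤ deg χ ^ 2 := by
      have h6 := hstab_le χ ((MulAction.stabilizer (sqOne G) χ).map (sqOne G).subtype) (by
        intro mu hmu
        obtain ⟨nu, hnu, rfl⟩ := Subgroup.mem_map.mp hmu
        exact MulAction.mem_stabilizer_iff.mp hnu)
      rwa [Subgroup.card_map_of_injective (Subgroup.subtype_injective _)] at h6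
    have hs2a : s ≤ 2 * a := by
      rw [hs, hda, ← pow_mul] at hle
      have := (Nat.pow_le_pow_iff_right (by norm_num : 1 < 2)).mp hle
      omega
    have ha1 : a = 1 → s < D := by
      intro ha1
      by_contra hsD'
      have hsD2 : s = D := by omega
      have htop : MulAction.stabilizer (sqOne G) χ = ⊤ := by
        apply Subgroup.eq_top_of_card_eq
        rw [hs, hD, hsD2]
      apply hχY
      rw [hY]
      refine ⟨by rw [hda, ha1]; rfl, ?_⟩
      intro mu hmu
      have h7 : (⟨mu, hmu⟩ : sqOne G) ∈ MulAction.stabilizer (sqOne G) χ := by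
        rw [htop]; trivial
      exact MulAction.mem_stabilizer_iff.mp h7
    rw [horb, hda, ← pow_add]
    have h8 : 2 ≤ D - s + a := by
      rcases Nat.lt_or_ge a 1 with h | h
      · omega
      · rcases Nat.eq_or_lt_of_le h with h | h
        · have := ha1 h.symm
          omega
        · omega
    calc 4 = 2 ^ 2 := by norm_num
      _ ∣ 2 ^ (D - s + a) := pow_dvd_pow 2 h8
  -- reduction modulo four
  have hmod : (4 : ℤ) ∣ (∑ χ : Cfsg.IrrCharacter G, eps χ * deg χ) - 2 * ∑ χ ∈ Y, eps χ := by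
    have h1 : (4 : ℤ) ∣ ∑ χ : Cfsg.IrrCharacter G, (if χ ∈ Y then 0 else eps χ * deg χ) := by
      apply dvd_sum_of_orbit (Λ := sqOne G)
      · intro l χ
        have hl : (l • χ : Cfsg.IrrCharacter G) = (l : G →* ℂˣ) • χ := rfl
        have hmem : (l • χ ∈ Y) ↔ (χ ∈ Y) := by
          constructor
          · intro h
            have h2 := ((hY _).mp h).2 (l⁻¹ : sqOne G) (l⁻¹ : sqOne G).2
            rw [hl] at h2
            have h3 : ((l⁻¹ : sqOne G) : G →* ℂˣ) • ((l : G →* ℂˣ) • χ) = χ := by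
              rw [smul_smul, Subgroup.coe_inv, inv_mul_cancel, one_smul]
            rw [h3] at h2
            rw [hl, ← h2] at h
            exact h
          · intro h
            have h2 := ((hY _).mp h).2 (l : G →* ℂˣ) l.2
            rw [hl, h2]
            exact h
        by_cases hχ : χ ∈ Y
        · rw [if_pos hχ, if_pos (hmem.mpr hχ)]
        · rw [if_neg hχ, if_neg (fun h => hχ (hmem.mp h)), hl, hdeg_inv, heps_inv _ l.2]
      · intro χ
        by_cases hχ : χ ∈ Y
        · rw [if_pos hχ, mul_zero]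
          exact dvd_zero _
        · rw [if_neg hχ]
          have h6 : ((4 : ℕ) : ℤ) ∣ (((MulAction.orbit (sqOne G) χ).ncard * deg χ : ℕ) : ℤ) :=
            Int.natCast_dvd_natCast.mpr (hdvd χ hχ)
          have h7 : ((MulAction.orbit (sqOne G) χ).ncard : ℤ) * (eps χ * deg χ)
              = eps χ * (((MulAction.orbit (sqOne G) χ).ncard * deg χ : ℕ) : ℤ) := by
            push_cast
            ring
          rw [h7]
          exact Dvd.dvd.mul_left h6 _
    have h2 : (∑ χ : Cfsg.IrrCharacter G, eps χ * deg χ) - 2 * ∑ χ ∈ Y, eps χ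
        = ∑ χ : Cfsg.IrrCharacter G, (if χ ∈ Y then 0 else eps χ * deg χ) := by
      have h3 : ∑ χ : Cfsg.IrrCharacter G, eps χ * (deg χ : ℤ)
          = ∑ χ : Cfsg.IrrCharacter G, ((if χ ∈ Y then 0 else eps χ * (deg χ : ℤ))
              + (if χ ∈ Y then 2 * eps χ else 0)) := by
        apply Finset.sum_congr rfl
        intro χ _
        by_cases hχ : χ ∈ Y
        · rw [if_pos hχ, if_pos hχ, ((hY χ).mp hχ).1]
          push_cast
          ring
        · rw [if_neg hχ, if_neg hχ, add_zero]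
      rw [h3, Finset.sum_add_distrib, Finset.sum_ite_mem, Finset.univ_inter, ← Finset.mul_sum]
      ring
    rw [h2]
    exact h1
  -- parity
  have hodd : ¬ (2 : ℤ) ∣ ∑ χ ∈ Y, eps χ := by
    intro h2
    have hN : (Nat.card {x : G // x ^ 2 = 1} : ℤ) % 4 = 2 := by
      rw [card_sq_eq]
      push_cast
      omega
    rw [hcount] at hN
    obtain ⟨k, hk⟩ := hmod
    obtain ⟨j, hj⟩ := h2
    omega
  -- the fixed set is nonempty, hence D = 2
  have hYne : Y.Nonempty := by
    by_contra h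
    rw [Finset.not_nonempty_iff_eq_empty] at h
    apply hodd
    rw [h, Finset.sum_empty]
    exact dvd_zero _
  obtain ⟨χ₀, hχ₀⟩ := hYne
  have hcardL : Nat.card (sqOne G) = 4 := by
    have h1 := hstab_le χ₀ (sqOne G) ((hY χ₀).mp hχ₀).2
    rw [((hY χ₀).mp hχ₀).1, hD] at h1
    have h2 : D ≤ 2 := by
      have h3 : 2 ^ D ≤ 2 ^ 2 := h1
      exact (Nat.pow_le_pow_iff_right (by norm_num : 1 < 2)).mp h3
    have h3 : D = 2 := le_antisymm h2 hD2
    rw [hD, h3]
    rfl
  -- a linear character outside sqOne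
  have hex : ∃ mu : G →* ℂˣ, mu ∉ sqOne G := by
    by_contra h
    push Not at h
    apply hidx
    rw [← card_linear, ← hcardL]
    have htop : sqOne G = ⊤ := eq_top_iff.mpr fun x _ => h x
    rw [htop]
    exact (Nat.card_congr Subgroup.topEquiv.toEquiv).symm
  obtain ⟨mu, hmu⟩ := hex
  have hpow : mu ^ (2 ^ m) = 1 := by
    refine MonoidHom.ext fun g => ?_
    rw [MonoidHom.pow_apply, ← map_pow, ← hm, pow_card_eq_one', map_one, MonoidHom.one_apply]
  have hfind : ∃ k, mu ^ (2 ^ k) ∈ sqOne G := ⟨m, by rw [hpow]; exact (sqOne G).one_mem⟩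
  obtain ⟨mu₁, hmu₁, hmu₁sq⟩ : ∃ mu₁ : G →* ℂˣ, mu₁ ∉ sqOne G ∧ mu₁ * mu₁ ∈ sqOne G := by
    have hk0 : Nat.find hfind ≠ 0 := by
      intro h0
      have h1 := Nat.find_spec hfind
      rw [h0, pow_zero, pow_one] at h1
      exact hmu h1
    refine ⟨mu ^ (2 ^ (Nat.find hfind - 1)), ?_, ?_⟩
    · exact Nat.find_min hfind (by omega)
    · have h1 := Nat.find_spec hfind
      have h2 : mu ^ (2 ^ (Nat.find hfind - 1)) * mu ^ (2 ^ (Nat.find hfind - 1))
          = mu ^ (2 ^ Nat.find hfind) := by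
        rw [← pow_add, ← two_mul, ← pow_succ']
        congr 2
        omega
      rw [h2]
      exact h1
  -- the involution χ ↦ mu₁ • χ on Y
  have hφmem : ∀ χ ∈ Y, mu₁ • χ ∈ Y := by
    intro χ hχ
    rw [hY]
    refine ⟨by rw [hdeg_inv]; exact ((hY χ).mp hχ).1, ?_⟩
    intro nu hnu
    apply Subtype.ext
    funext g
    rw [hsmul, hsmul]
    have h1 := congrArg (fun ψ : Cfsg.IrrCharacter G => (ψ : G → ℂ) g)
      (((hY χ).mp hχ).2 nu hnu)
    simp only [hsmul] at h1
    rw [← mul_assoc, mul_comm (nu g : ℂ), mul_assoc, h1]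
  have hφφ : ∀ χ ∈ Y, mu₁ • (mu₁ • χ) = χ := by
    intro χ hχ
    rw [smul_smul]
    exact ((hY χ).mp hχ).2 _ hmu₁sq
  have hφne : ∀ χ ∈ Y, mu₁ • χ ≠ χ := by
    intro χ hχ hfix
    have hle : sqOne G ≤ MulAction.stabilizer (G →* ℂˣ) χ := by
      intro nu hnu
      exact MulAction.mem_stabilizer_iff.mpr (((hY χ).mp hχ).2 nu hnu)
    have hc := hstab_le χ (MulAction.stabilizer (G →* ℂˣ) χ)
      (fun nu hnu => MulAction.mem_stabilizer_iff.mp hnu)
    rw [((hY χ).mp hχ).1] at hc
    have heq : sqOne G = MulAction.stabilizer (G →* ℂˣ) χ :=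
      Subgroup.eq_of_le_of_card_ge hle (by rw [hcardL]; exact hc)
    apply hmu₁
    rw [heq]
    exact MulAction.mem_stabilizer_iff.mpr hfix
  have hreal : ∀ χ ∈ Y, (∀ g : G, ((χ : G → ℂ) g).im = 0) →
      ∀ g : G, (((mu₁ • χ : Cfsg.IrrCharacter G) : G → ℂ) g).im = 0 := by
    intro χ hχ hre g
    rw [hsmul]
    by_cases h0 : (χ : G → ℂ) g = 0
    · rw [h0, mul_zero]; rfl
    · have h1 := congrArg (fun ψ : Cfsg.IrrCharacter G => (ψ : G → ℂ) g) (hφφ χ hχ)
      simp only [hsmul] at h1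
      have h2 : ((mu₁ g : ℂ) * (mu₁ g : ℂ) - 1) * (χ : G → ℂ) g = 0 := by
        rw [sub_mul, one_mul, mul_assoc, h1, sub_self]
      have h3 : (mu₁ g : ℂ) * (mu₁ g : ℂ) = 1 := by
        rcases mul_eq_zero.mp h2 with h | h
        · exact sub_eq_zero.mp h
        · exact absurd h h0
      rcases mul_self_eq_one_iff.mp h3 with h | h
      · rw [h, one_mul]; exact hre g
      · rw [h, neg_one_mul, Complex.neg_im, hre g, neg_zero]
  have hzero_iff : ∀ χ ∈ Y, (eps χ = 0 ↔ eps (mu₁ • χ) = 0) := by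
    intro χ hχ
    constructor
    · intro h
      by_contra h2
      have h3 : ∀ g : G, (((mu₁ • χ : Cfsg.IrrCharacter G) : G → ℂ) g).im = 0 := by
        by_contra hc
        push Not at hc
        exact h2 ((heps_zero _).mpr hc)
      have h4 := hreal (mu₁ • χ) (hφmem χ hχ) h3
      rw [hφφ χ hχ] at h4
      obtain ⟨s, hs⟩ := (heps_zero χ).mp h
      exact hs (h4 s)
    · intro h
      by_contra h2
      have h3 : ∀ g : G, ((χ : G → ℂ) g).im = 0 := by
        by_contra hc
        push Not at hc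
        exact h2 ((heps_zero _).mpr hc)
      have h4 := hreal χ hχ h3
      obtain ⟨s, hs⟩ := (heps_zero _).mp h
      exact hs (h4 s)
  have hz2 : ∀ χ : Cfsg.IrrCharacter G, ((eps χ : ℤ) : ZMod 2) = if eps χ = 0 then 0 else 1 := by
    intro χ
    rcases heps_cases χ with h | h | h
    · rw [h]; simp
    · rw [h]; simp
    · rw [h]; simp
  have hsum0 : ∑ χ ∈ Y, ((eps χ : ℤ) : ZMod 2) = 0 := by
    apply Finset.sum_involution (fun χ _ => mu₁ • χ)
    · intro χ hχ
      rw [hz2, hz2]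
      by_cases h : eps χ = 0
      · rw [if_pos h, if_pos ((hzero_iff χ hχ).mp h), add_zero]
      · rw [if_neg h, if_neg (fun hc => h ((hzero_iff χ hχ).mpr hc))]
        decide
    · intro χ hχ _
      exact hφne χ hχ
    · intro χ hχ
      exact hφφ χ hχ
    · intro χ hχ
      exact hφmem χ hχ
  apply hodd
  have h9 : (((∑ χ ∈ Y, eps χ : ℤ)) : ZMod 2) = 0 := by
    rw [Int.cast_sum]
    exact hsum0
  exact (ZMod.intCast_zmod_eq_zero_iff_dvd _ 2).mp h9

end Cfsg.Agent.S4477
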