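import Cfsg.Statements.S4029
import Mathlib
import Cfsg.Agent.S0160
import Cfsg.Agent.S4477
import Cfsg.Agent.Lib.Helper18.PGroupFrat
import Cfsg.Agent.Lib.Helper28.ESDecomp

set_option autoImplicit false
open Cfsg

namespace Cfsg.Agent.S4029

open scoped commutatorElement

/-- An element conjugate to its inverse is an involution or trivial, when normalizers of
cyclic subgroups are centralizers. -/
theorem mul_self_of_isConj_inv {P : Type*} [Group P] [Finite P]
    (hirr : ∀ y : P, Subgroup.normalizer ((Subgroup.zpowers y : Subgroup P) : Set P) ≤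
      Subgroup.centralizer {y}) (g : P) (hg : IsConj g g⁻¹) : g * g = 1 := by
  obtain ⟨c, hc⟩ := isConj_iff.mp hg
  have hcn : c ∈ Subgroup.normalizer ((Subgroup.zpowers g : Subgroup P) : Set P) := by
    apply Subgroup.mem_normalizer_fintype
    intro n hn
    obtain ⟨k, rfl⟩ := Subgroup.mem_zpowers_iff.mp hn
    have h1 : c * g ^ k * c⁻¹ = (g⁻¹) ^ k := by
      rw [← hc]; simp [conj_zpow]
    rw [h1]
    exact Subgroup.zpow_mem _ (Subgroup.inv_mem _ (Subgroup.mem_zpowers g)) k
  have h2 := hirr g hcn
  have h3 : g * c = c * g := Subgroup.mem_centralizer_iff.mp h2 g (Set.mem_singleton g)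
  have h4 : c * g * c⁻¹ = g := by rw [← h3]; group
  rw [h4] at hc
  calc g * g = g * g⁻¹ := by rw [← hc]
    _ = 1 := mul_inv_cancel g


/-- Let P be a finite 2-group in which N_P(⟨y⟩) = C_P(y) for every y ∈ P. If s is the number of conjugacy classes of involutions of P, then #(P/Φ(P)) ≤ s + 1; in particular the subgroup generated by the involutions of P has order at least #(P/Φ(P)). -/
theorem result {P : Type*} [Group P] [Finite P] (hP : IsPGroup 2 P)
    (hirr : ∀ y : P, Subgroup.normalizer ((Subgroup.zpowers y : Subgroup P) : Set P) ≤ Subgroup.centralizer {y}) :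
    Nat.card (P ⧸ frattini P) ≤ Nat.card {c : ConjClasses P // ∃ y : P, ConjClasses.mk y = c ∧ orderOf y = 2} + 1 ∧
    Nat.card (P ⧸ frattini P) ≤ Nat.card (Subgroup.closure {y : P | orderOf y = 2}) := by
  classical
  haveI : Fact (Nat.Prime 2) := ⟨Nat.prime_two⟩
  haveI hnil : Group.IsNilpotent P := hP.isNilpotent
  -- the Frattini quotient is an elementary abelian 2-group
  have hVcomm : ∀ a b : P ⧸ frattini P, a * b = b * a := by
    intro a b
    induction a using QuotientGroup.induction_on with | _ x => ?_
    induction b using QuotientGroup.induction_on with | _ y => ?_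
    rw [← QuotientGroup.mk_mul, ← QuotientGroup.mk_mul, QuotientGroup.eq]
    apply Cfsg.Agent.Lib.Helper18.commutator_le_frattini_of_isNilpotent
    have h1 : (x * y)⁻¹ * (y * x) = ⁅y⁻¹, x⁻¹⁆ := by
      simp [commutatorElement_def, mul_assoc]
    rw [h1, commutator_def]
    exact Subgroup.commutator_mem_commutator (Subgroup.mem_top _) (Subgroup.mem_top _)
  have hVsq : ∀ a : P ⧸ frattini P, a ^ 2 = 1 := by
    intro a
    induction a using QuotientGroup.induction_on with | _ x => ?_
    rw [← QuotientGroup.mk_pow, QuotientGroup.eq_one_iff]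
    exact Cfsg.Agent.Lib.Helper28.pow_mem_frattini hP x
  have hlin : Nat.card ((P ⧸ frattini P) →* ℂˣ) = Nat.card (P ⧸ frattini P) := by
    rw [Cfsg.Agent.S4477.card_linear]
    have h1 : commutator (P ⧸ frattini P) = ⊥ := by
      rw [commutator_def, Subgroup.commutator_eq_bot_iff_le_centralizer]
      intro a _
      rw [Subgroup.mem_centralizer_iff]
      intro b _
      exact hVcomm b a
    rw [h1, Subgroup.index_bot]
  -- real irreducible characters
  have hreal := Cfsg.Agent.S0160.result (G := P)
  have hRpos : 0 < Nat.card {C : ConjClasses P // ∀ g : P, ConjClasses.mk g = C → IsConj g g⁻¹} := by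
    haveI : Nonempty {C : ConjClasses P // ∀ g : P, ConjClasses.mk g = C → IsConj g g⁻¹} := by
      refine ⟨⟨ConjClasses.mk 1, fun g hg => ?_⟩⟩
      have h1 : g = 1 := by
        have h2 : IsConj g 1 := ConjClasses.mk_eq_mk_iff_isConj.mp hg
        exact isConj_one_left.mp h2
      rw [h1, inv_one]
    exact Nat.card_pos
  haveI hfin : Finite {χ : Cfsg.IrrCharacter P // ∀ g : P, ((χ : P → ℂ) g).im = 0} := by
    apply Nat.finite_of_card_ne_zero
    rw [hreal]
    exact hRpos.ne'
  have hstep1 : Nat.card (P ⧸ frattini P) ≤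
      Nat.card {χ : Cfsg.IrrCharacter P // ∀ g : P, ((χ : P → ℂ) g).im = 0} := by
    rw [← hlin]
    refine Nat.card_le_card_of_injective
      (fun μ : (P ⧸ frattini P) →* ℂˣ =>
        (⟨⟨fun g => ((μ.comp (QuotientGroup.mk' (frattini P))) g : ℂ),
          Cfsg.Agent.S4477.mu_isIrr _⟩, by
            intro g
            have h1 : (μ (QuotientGroup.mk' (frattini P) g)) ^ 2 = 1 := by
              rw [← map_pow, hVsq, map_one]
            have h2 : ((μ (QuotientGroup.mk' (frattini P) g) : ℂˣ) : ℂ) ^ 2 = 1 := by
              rw [← Units.val_pow_eq_pow_val, h1, Units.val_one]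
            rw [pow_two] at h2
            rcases mul_self_eq_one_iff.mp h2 with h3 | h3
            · show ((μ (QuotientGroup.mk' (frattini P) g) : ℂˣ) : ℂ).im = 0
              rw [h3]; simp
            · show ((μ (QuotientGroup.mk' (frattini P) g) : ℂˣ) : ℂ).im = 0
              rw [h3]; simp
            ⟩ : {χ : Cfsg.IrrCharacter P // ∀ g : P, ((χ : P → ℂ) g).im = 0})) ?_
    · intro μ μ' h
      have h1 := congrArg (fun χ : {χ : Cfsg.IrrCharacter P // ∀ g : P, ((χ : P → ℂ) g).im = 0} =>
        ((χ : Cfsg.IrrCharacter P) : P → ℂ)) h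
      ext a
      exact congrFun h1 a
  -- real classes
  have hkey : ∀ C : {C : ConjClasses P // ∀ g : P, ConjClasses.mk g = C → IsConj g g⁻¹},
      ¬ (∃ y : P, ConjClasses.mk y = C.1 ∧ orderOf y = 2) → C.1 = ConjClasses.mk 1 := by
    intro C hC
    obtain ⟨g, hg⟩ := ConjClasses.exists_rep C.1
    have h1 := mul_self_of_isConj_inv hirr g (C.2 g hg)
    have h2 : orderOf g ∣ 2 := orderOf_dvd_of_pow_eq_one (by rw [pow_two]; exact h1)
    rcases (Nat.dvd_prime Nat.prime_two).mp h2 with h3 | h3
    · rw [← hg, orderOf_eq_one_iff.mp h3]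
    · exact absurd ⟨g, hg, h3⟩ hC
  have hstep2 : Nat.card {C : ConjClasses P // ∀ g : P, ConjClasses.mk g = C → IsConj g g⁻¹} ≤
      Nat.card {c : ConjClasses P // ∃ y : P, ConjClasses.mk y = c ∧ orderOf y = 2} + 1 := by
    rw [← Finite.card_option]
    refine Nat.card_le_card_of_injective
      (fun C : {C : ConjClasses P // ∀ g : P, ConjClasses.mk g = C → IsConj g g⁻¹} =>
        if h : ∃ y : P, ConjClasses.mk y = C.1 ∧ orderOf y = 2 then
          some (⟨C.1, h⟩ : {c : ConjClasses P // ∃ y : P, ConjClasses.mk y = c ∧ orderOf y = 2})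
        else none) ?_
    intro C C' hCC
    by_cases h : ∃ y : P, ConjClasses.mk y = C.1 ∧ orderOf y = 2
    · by_cases h' : ∃ y : P, ConjClasses.mk y = C'.1 ∧ orderOf y = 2
      · simp only [dif_pos h, dif_pos h', Option.some.injEq, Subtype.mk.injEq] at hCC
        exact Subtype.ext hCC
      · simp only [dif_pos h, dif_neg h'] at hCC
        exact absurd hCC (by simp)
    · by_cases h' : ∃ y : P, ConjClasses.mk y = C'.1 ∧ orderOf y = 2
      · simp only [dif_neg h, dif_pos h'] at hCC
        exact absurd hCC (by simp)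
      · exact Subtype.ext ((hkey C h).trans (hkey C' h').symm)
  have hstep3 : Nat.card {c : ConjClasses P // ∃ y : P, ConjClasses.mk y = c ∧ orderOf y = 2} + 1 ≤
      Nat.card (Subgroup.closure {y : P | orderOf y = 2}) := by
    rw [← Finite.card_option]
    refine Nat.card_le_card_of_injective
      (fun o : Option {c : ConjClasses P // ∃ y : P, ConjClasses.mk y = c ∧ orderOf y = 2} =>
        match o with
        | none => (1 : Subgroup.closure {y : P | orderOf y = 2})
        | some c => ⟨c.2.choose, Subgroup.subset_closure c.2.choose_spec.2⟩) ?_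
    intro o o' hoo
    rcases o with _ | c <;> rcases o' with _ | c'
    · rfl
    · exfalso
      have h1 := congrArg Subtype.val hoo
      simp only [Subgroup.coe_one] at h1
      have h2 := c'.2.choose_spec.2
      rw [← h1, orderOf_one] at h2
      exact absurd h2 (by norm_num)
    · exfalso
      have h1 := congrArg Subtype.val hoo
      simp only [Subgroup.coe_one] at h1
      have h2 := c.2.choose_spec.2
      rw [h1, orderOf_one] at h2
      exact absurd h2 (by norm_num)
    · have h1 := congrArg Subtype.val hoo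
      simp only at h1
      have h2 := c.2.choose_spec.1
      have h3 := c'.2.choose_spec.1
      rw [h1] at h2
      exact congrArg some (Subtype.ext (h2.symm.trans h3))
  have hstep12 := le_trans hstep1 (hreal ▸ hstep2)
  exact ⟨hstep12, le_trans hstep12 hstep3⟩

end Cfsg.Agent.S4029
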