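import Cfsg.Statements.S4035
import Mathlib
import Cfsg.Agent.Lib.Helper22.TI
import Cfsg.Agent.Lib.Helper22.Conj
import Cfsg.Agent.S3986

set_option autoImplicit false
open Cfsg

namespace Cfsg.Agent.S4035

open scoped Pointwise

/-- Let G be a finite group and p a prime such that p divides the size of no conjugacy class of p-regular elements (elements of order prime to p). Then G is the internal direct product of a Sylow p-subgroup P and a normal subgroup H of order prime to p: P is normal, P ⊓ H = 1 and PH = G. -/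
theorem result {G : Type*} [Group G] [Finite G] {p : ℕ} [Fact p.Prime]
    (h : ∀ x : G, (orderOf x).Coprime p → ¬ p ∣ (ConjClasses.mk x).carrier.ncard) (P : Sylow p G) :
    (P : Subgroup G).Normal ∧ ∃ H : Subgroup G, H.Normal ∧ ¬ p ∣ Nat.card H ∧
      (P : Subgroup G) ⊓ H = ⊥ ∧ (P : Subgroup G) ⊔ H = ⊤ := by
  classical
  have hpp : p.Prime := Fact.out
  have hcl : ∀ x : G, (ConjClasses.mk x).carrier.ncard
      = (Subgroup.centralizer ({x} : Set G)).index := by
    intro x
    rw [← ConjAct.orbit_eq_carrier_conjClasses, ← MulAction.index_stabilizer,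
      Subgroup.centralizer_eq_comap_stabilizer]
    exact (Subgroup.index_comap_of_surjective _ ConjAct.toConjAct.surjective).symm
  have hfix : ∀ x : G, (orderOf x).Coprime p →
      ∃ g : G, g * x * g⁻¹ ∈ Subgroup.centralizer ((P : Subgroup G) : Set G) := by
    intro x hx
    have hnd : ¬ p ∣ Nat.card (G ⧸ Subgroup.centralizer ({x} : Set G)) := by
      have := h x hx
      rw [hcl] at this
      exact this
    obtain ⟨q, hq⟩ := P.isPGroup'.nonempty_fixed_point_of_prime_not_dvd_card
      (G ⧸ Subgroup.centralizer ({x} : Set G)) hnd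
    induction q using QuotientGroup.induction_on with
    | H g =>
      refine ⟨g, ?_⟩
      rw [Subgroup.mem_centralizer_iff]
      intro a ha
      have h1 := hq ⟨a, ha⟩
      have h2 : ((a * g : G) : G ⧸ Subgroup.centralizer ({x} : Set G)) = (g : G ⧸ _) := h1
      rw [QuotientGroup.eq, Subgroup.mem_centralizer_iff] at h2
      have h3 := h2 x rfl
      have e1 : g * x * g⁻¹ * a = a * (g * ((a * g)⁻¹ * g * x) * g⁻¹) * a := by group
      have e2 : a * (g * x * g⁻¹) = a * (g * (x * ((a * g)⁻¹ * g)) * g⁻¹) * a := by group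
      rw [e1, e2, h3]
  have hconjT : ∀ z : G, ∃ w : G, w * z * w⁻¹ ∈
      (P : Subgroup G) ⊔ Subgroup.centralizer ((P : Subgroup G) : Set G) := by
    intro z
    have hz0 : orderOf z ≠ 0 := (orderOf_pos z).ne'
    obtain ⟨e, m, hm, hem⟩ := Nat.exists_eq_pow_mul_and_not_dvd hz0 p hpp.ne_one
    have hmpos : 0 < m := Nat.pos_of_ne_zero (fun h0 => hm (h0 ▸ dvd_zero p))
    have hv_ord : orderOf (z ^ (p ^ e)) = m := by
      have hdvd : m ∣ orderOf z := Dvd.intro_left _ hem.symm
      have := orderOf_pow_orderOf_div hz0 hdvd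
      have hdiv : orderOf z / m = p ^ e := by
        rw [hem]
        exact Nat.mul_div_cancel _ hmpos
      rw [hdiv] at this
      exact this
    have hu_ord : orderOf (z ^ m) = p ^ e := by
      have hdvd : p ^ e ∣ orderOf z := Dvd.intro _ hem.symm
      have := orderOf_pow_orderOf_div hz0 hdvd
      have hdiv : orderOf z / p ^ e = m := by
        rw [hem]
        exact Nat.mul_div_cancel_left _ (pow_pos hpp.pos e)
      rw [hdiv] at this
      exact this
    have hcopm : Nat.Coprime m p := ((Nat.Prime.coprime_iff_not_dvd hpp).mpr hm).symm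
    have hvcop : (orderOf (z ^ (p ^ e))).Coprime p := by
      rw [hv_ord]
      exact hcopm
    obtain ⟨g, hg⟩ := hfix _ hvcop
    obtain ⟨z', hz'⟩ : ∃ z', z' = g * z * g⁻¹ := ⟨_, rfl⟩
    have hv' : z' ^ (p ^ e) ∈ Subgroup.centralizer ((P : Subgroup G) : Set G) := by
      rw [hz', conj_pow]
      exact hg
    have hpow : ∀ (c₀ : G) (k : ℕ), (c₀⁻¹ * g * z * (c₀⁻¹ * g)⁻¹) ^ k = c₀⁻¹ * z' ^ k * c₀ := by
      intro c₀ k
      rw [hz', conj_pow, conj_pow]
      group
    have hu'_ord : orderOf (z' ^ m) = p ^ e := by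
      rw [hz', conj_pow, ← hu_ord]
      exact (MulAut.conj g).orderOf_eq _
    have hPD : (P : Subgroup G) ≤ Subgroup.centralizer ({z' ^ (p ^ e)} : Set G) := by
      intro a ha
      rw [Subgroup.mem_centralizer_iff]
      intro w hw
      rw [Set.mem_singleton_iff] at hw
      rw [hw]
      exact ((Subgroup.mem_centralizer_iff.mp hv') a ha).symm
    have hu'D : z' ^ m ∈ Subgroup.centralizer ({z' ^ (p ^ e)} : Set G) := by
      rw [Subgroup.mem_centralizer_iff]
      intro w hw
      rw [Set.mem_singleton_iff] at hw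
      rw [hw, ← pow_add, ← pow_add, add_comm]
    have hZ : IsPGroup p (Subgroup.zpowers
        (⟨z' ^ m, hu'D⟩ : Subgroup.centralizer ({z' ^ (p ^ e)} : Set G))) :=
      IsPGroup.of_card (n := e) (by rw [Nat.card_zpowers, Subgroup.orderOf_mk, hu'_ord])
    obtain ⟨R, hR⟩ := hZ.exists_le_sylow
    obtain ⟨c, hc⟩ := MulAction.exists_smul_eq
      (Subgroup.centralizer ({z' ^ (p ^ e)} : Set G)) (P.subtype hPD) R
    have hmem : (c : G)⁻¹ * z' ^ m * c ∈ (P : Subgroup G) := by
      have h1 : (⟨z' ^ m, hu'D⟩ : Subgroup.centralizer ({z' ^ (p ^ e)} : Set G))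
          ∈ MulAut.conj c • ((P.subtype hPD : Sylow p _) : Subgroup _) := by
        have := hR (Subgroup.mem_zpowers _)
        rw [← hc] at this
        exact this
      rw [Lib.Helper22.mem_conj_smul_iff, Sylow.coe_subtype, Subgroup.mem_subgroupOf] at h1
      simpa using h1
    refine ⟨(c : G)⁻¹ * g, ?_⟩
    apply Lib.Helper22.mem_of_coprime_pow_mem _ _ m (p ^ e) (Nat.Coprime.pow_right e hcopm)
    · rw [hpow]
      exact Subgroup.mem_sup_left hmem
    · rw [hpow]
      have hcc := Subgroup.mem_centralizer_iff.mp c.2 _ rfl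
      have : (c : G)⁻¹ * z' ^ (p ^ e) * c = z' ^ (p ^ e) := by
        rw [mul_assoc, hcc, ← mul_assoc, inv_mul_cancel, one_mul]
      rw [this]
      exact Subgroup.mem_sup_right hv'
  have hT : (P : Subgroup G) ⊔ Subgroup.centralizer ((P : Subgroup G) : Set G) = ⊤ := by
    by_contra hne
    obtain ⟨z, hz⟩ := Lib.Helper22.exists_not_mem_conj _ hne
    obtain ⟨w, hw⟩ := hconjT z
    exact hz w hw
  have hPn : (P : Subgroup G).Normal := by
    rw [← Subgroup.normalizer_eq_top_iff, eq_top_iff, ← hT, sup_le_iff]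
    exact ⟨Subgroup.le_normalizer, Subgroup.centralizer_le_normalizer _⟩
  haveI := hPn
  have hmemP : ∀ (x : G) (a : ℕ), orderOf x = p ^ a → x ∈ (P : Subgroup G) := by
    intro x a ha
    exact Lib.Helper22.mem_sylow_of_normalizes P x a ha
      (by rw [Subgroup.normalizer_eq_top_iff.mpr hPn]; exact Subgroup.mem_top x)
  have hcomm : ∀ x y : G, (∃ a : ℕ, orderOf x = p ^ a) →
      (∃ q b : ℕ, q.Prime ∧ q ≠ p ∧ orderOf y = q ^ b) → x * y = y * x := by
    rintro x y ⟨a, ha⟩ ⟨q, b, hq, hqp, hb⟩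
    have hxP := hmemP x a ha
    have hycop : (orderOf y).Coprime p := by
      rw [hb]
      exact Nat.Coprime.pow_left b ((Nat.coprime_primes hq hpp).mpr hqp)
    obtain ⟨g, hg⟩ := hfix y hycop
    have hyC : y ∈ Subgroup.centralizer ((P : Subgroup G) : Set G) := by
      have hn : (Subgroup.centralizer ((P : Subgroup G) : Set G)).Normal := inferInstance
      have := hn.conj_mem _ hg g⁻¹
      have e : g⁻¹ * (g * y * g⁻¹) * g⁻¹⁻¹ = y := by group
      rw [e] at this
      exact this
    exact (Subgroup.mem_centralizer_iff.mp hyC x hxP)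
  obtain ⟨P', K, hP'n, hKn, hdisj, hsup⟩ := (Cfsg.Agent.S3986.result p).mpr hcomm
  have hPP' : (P' : Subgroup G) = (P : Subgroup G) := by
    have hle : (P' : Subgroup G) ≤ (P : Subgroup G) := by
      intro x hx
      obtain ⟨a, ha⟩ := (IsPGroup.iff_orderOf.mp P'.isPGroup') ⟨x, hx⟩
      rw [Subgroup.orderOf_mk] at ha
      exact hmemP x a ha
    exact (P'.is_maximal' P.isPGroup' hle).symm
  rw [hPP'] at hdisj hsup
  refine ⟨hPn, K, hKn, ?_, hdisj, hsup⟩
  intro hpK
  obtain ⟨x, hx⟩ := exists_prime_orderOf_dvd_card' p hpK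
  have hx' : orderOf (x : G) = p ^ 1 := by
    rw [Subgroup.orderOf_coe, hx, pow_one]
  have hxP := hmemP (x : G) 1 hx'
  have hxb : (x : G) ∈ (P : Subgroup G) ⊓ K := Subgroup.mem_inf.mpr ⟨hxP, x.2⟩
  rw [hdisj, Subgroup.mem_bot] at hxb
  rw [hxb, orderOf_one, pow_one] at hx'
  have := hpp.one_lt
  omega

end Cfsg.Agent.S4035
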