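import Cfsg.Statements.S4039
import Mathlib
import Cfsg.Agent.Lib.Helper1.NilpMax
import Cfsg.Agent.Lib.Helper1.Tate
import Cfsg.Agent.Lib.Helper1.PRes
import Cfsg.Agent.Lib.Helper18.PGroupFrat

set_option autoImplicit false
open Cfsg

namespace Cfsg.Agent.S4039


open Cfsg.Agent.Lib.Helper1
open scoped commutatorElement

universe u

theorem pgroup_le_sylow {G : Type u} [Group G] {p : ℕ} [Fact p.Prime] (P : Sylow p G)
    (M : Subgroup G) (hMNP : M ≤ Subgroup.normalizer ((P : Subgroup G) : Set G))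
    (U : Subgroup G) (hUp : IsPGroup p U) (hUM : U ≤ M) : U ≤ (P : Subgroup G) := by
  have h1 : IsPGroup p (U ⊔ (P : Subgroup G) : Subgroup G) :=
    IsPGroup.to_sup_of_normal_right' hUp P.isPGroup' (hUM.trans hMNP)
  have h2 := P.is_maximal' h1 le_sup_right
  rw [← h2]; exact le_sup_left

theorem conj_decomp {G : Type u} [Group G] [Finite G] (p : ℕ) [Fact p.Prime] (P M : Subgroup G)
    (hPM : P ≤ M) (hPp : IsPGroup p P)
    (hMP : ∀ m ∈ M, ∀ x ∈ P, m * x * m⁻¹ ∈ P)
    (hUle : ∀ U : Subgroup G, IsPGroup p U → U ≤ M → U ≤ P)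
    (hcl2 : ∀ a ∈ M, ∀ b ∈ M, ∀ m ∈ M,
      m * (a * b * a⁻¹ * b⁻¹) = (a * b * a⁻¹ * b⁻¹) * m) :
    ∀ m ∈ M, ∀ x ∈ P, ∃ a ∈ P, m * x * m⁻¹ = a * x * a⁻¹ := by
  intro m hm x hx
  have hp : p.Prime := Fact.out
  obtain ⟨e, n', hn', ho⟩ := Nat.exists_eq_pow_mul_and_not_dvd (orderOf_pos m).ne' p hp.ne_one
  have hcop : Nat.Coprime (p ^ e) n' :=
    Nat.Coprime.pow_left e ((Nat.Prime.coprime_iff_not_dvd hp).mpr hn')
  have hbez := Nat.gcd_eq_gcd_ab (p ^ e) n'
  rw [hcop.gcd_eq_one] at hbez
  obtain ⟨α, hα⟩ : ∃ α : ℤ, α = Nat.gcdA (p ^ e) n' := ⟨_, rfl⟩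
  obtain ⟨β, hβ⟩ : ∃ β : ℤ, β = Nat.gcdB (p ^ e) n' := ⟨_, rfl⟩
  rw [← hα, ← hβ] at hbez
  obtain ⟨b, hb⟩ : ∃ b : G, b = (m ^ (p ^ e)) ^ α := ⟨_, rfl⟩
  obtain ⟨a, ha⟩ : ∃ a : G, a = (m ^ n') ^ β := ⟨_, rfl⟩
  have hmba : m = b * a := by
    rw [hb, ha, ← zpow_natCast, ← zpow_natCast, ← zpow_mul, ← zpow_mul, ← zpow_add, ← hbez]
    simp
  have hbM : b ∈ M := hb ▸ M.zpow_mem (M.pow_mem hm _) _
  have haM : a ∈ M := ha ▸ M.zpow_mem (M.pow_mem hm _) _
  have hbn : b ^ n' = 1 := by
    rw [hb, ← zpow_natCast, ← zpow_mul, mul_comm, zpow_mul, zpow_natCast, ← pow_mul, ← ho,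
      pow_orderOf_eq_one, one_zpow]
  have hape : a ^ (p ^ e) = 1 := by
    rw [ha, ← zpow_natCast, ← zpow_mul, mul_comm, zpow_mul, zpow_natCast, ← pow_mul, mul_comm,
      ← ho, pow_orderOf_eq_one, one_zpow]
  have haP : a ∈ P := by
    have hzp : IsPGroup p (Subgroup.zpowers a) := by
      obtain ⟨j, -, hj⟩ := (Nat.dvd_prime_pow hp).mp (orderOf_dvd_of_pow_eq_one hape)
      apply IsPGroup.of_card (n := j)
      rw [Nat.card_zpowers, hj]
    exact hUle _ hzp (Subgroup.zpowers_le.mpr haM) (Subgroup.mem_zpowers a)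
  have hbc : ∀ y ∈ P, b * y * b⁻¹ = y := by
    intro y hy
    obtain ⟨z, hz⟩ : ∃ z : G, z = b * y * b⁻¹ * y⁻¹ := ⟨_, rfl⟩
    have hzP : z ∈ P := hz ▸ P.mul_mem (hMP b hbM y hy) (P.inv_mem hy)
    have hzc : ∀ m' ∈ M, m' * z = z * m' := fun m' hm' => hz ▸ hcl2 b hbM y (hPM hy) m' hm'
    have hpow : ∀ k : ℕ, b ^ k * y * (b ^ k)⁻¹ = z ^ k * y := by
      intro k
      induction k with
      | zero => simp
      | succ k ih =>
        have hzk : b * z ^ k = z ^ k * b :=
          ((show Commute b z from hzc b hbM).pow_right k).eq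
        calc b ^ (k + 1) * y * (b ^ (k + 1))⁻¹ = b * (b ^ k * y * (b ^ k)⁻¹) * b⁻¹ := by
              rw [pow_succ']; group
          _ = b * (z ^ k * y) * b⁻¹ := by rw [ih]
          _ = (b * z ^ k) * y * b⁻¹ := by group
          _ = (z ^ k * b) * y * b⁻¹ := by rw [hzk]
          _ = z ^ k * (b * y * b⁻¹ * y⁻¹) * y := by group
          _ = z ^ (k + 1) * y := by rw [← hz, pow_succ]
    have h1 := hpow n'
    rw [hbn, one_mul, inv_one, mul_one] at h1
    have hzn : z ^ n' = 1 := by
      have h0 : z ^ n' * y = 1 * y := by rw [one_mul]; exact h1.symm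
      exact mul_right_cancel h0
    obtain ⟨j, hj⟩ := hPp ⟨z, hzP⟩
    have hzj : z ^ (p ^ j) = 1 := by
      have h0 := congrArg Subtype.val hj
      simpa using h0
    have hz1 : z = 1 := by
      have h8 : orderOf z ∣ n' := orderOf_dvd_of_pow_eq_one hzn
      have h9 : orderOf z ∣ p ^ j := orderOf_dvd_of_pow_eq_one hzj
      have hc : Nat.Coprime n' (p ^ j) :=
        (Nat.Coprime.pow_left j ((Nat.Prime.coprime_iff_not_dvd hp).mpr hn')).symm
      exact orderOf_eq_one_iff.mp (Nat.eq_one_of_dvd_coprimes hc h8 h9)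
    rw [hz1] at hz
    exact mul_inv_eq_one.mp hz.symm
  refine ⟨a, haP, ?_⟩
  have h1 := hbc (a * x * a⁻¹) (P.mul_mem (P.mul_mem haP hx) (P.inv_mem haP))
  rw [hmba]
  have e' : b * a * x * (b * a)⁻¹ = b * (a * x * a⁻¹) * b⁻¹ := by group
  rw [e', h1]

/-- control of fusion -/
theorem fusion {G : Type u} [Group G] [Finite G] (p : ℕ) [Fact p.Prime] (P : Sylow p G)
    (M : Subgroup G) (hPM : (P : Subgroup G) ≤ M) (hPne : (P : Subgroup G) ≠ ⊥)
    (h2 : ∀ m ∈ M, ∀ x ∈ (P : Subgroup G), ∃ a ∈ (P : Subgroup G), m * x * m⁻¹ = a * x * a⁻¹)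
    (h3 : ∀ W : Subgroup G, W ≤ M → W ≠ ⊥ → M ≤ Subgroup.normalizer (W : Set G) →
      Subgroup.normalizer (W : Set G) ≤ M)
    (h4 : ∀ a ∈ (P : Subgroup G), ∀ b ∈ (P : Subgroup G), ∀ m ∈ M,
      m * (a * b * a⁻¹ * b⁻¹) = (a * b * a⁻¹ * b⁻¹) * m) :
    ∀ x ∈ (P : Subgroup G), ∀ u : G, u * x * u⁻¹ ∈ (P : Subgroup G) →
      ∃ a ∈ (P : Subgroup G), u * x * u⁻¹ = a * x * a⁻¹ := by
  classical
  have hp : p.Prime := Fact.out
  have hMP : ∀ m ∈ M, ∀ x ∈ (P : Subgroup G), m * x * m⁻¹ ∈ (P : Subgroup G) := by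
    intro m hm x hx
    obtain ⟨a, ha, e⟩ := h2 m hm x hx
    rw [e]; exact Subgroup.mul_mem _ (Subgroup.mul_mem _ ha hx) (Subgroup.inv_mem _ ha)
  have hMNP : M ≤ Subgroup.normalizer ((P : Subgroup G) : Set G) := by
    intro m hm
    exact mem_normalizer_of_conj_mem (hMP m hm)
  have hU : ∀ U : Subgroup G, IsPGroup p U → U ≤ M → U ≤ (P : Subgroup G) :=
    pgroup_le_sylow P M hMNP
  obtain ⟨Z, hZdef⟩ : ∃ Z : Subgroup G,
      Z = (P : Subgroup G) ⊓ Subgroup.centralizer ((P : Subgroup G) : Set G) := ⟨_, rfl⟩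
  have hZP : Z ≤ (P : Subgroup G) := hZdef ▸ inf_le_left
  have hZne : Z ≠ ⊥ := hZdef ▸ inf_centralizer_ne_bot P.isPGroup' hPne
  have hZc : ∀ z ∈ Z, ∀ x ∈ (P : Subgroup G), x * z = z * x := by
    intro z hz x hx
    rw [hZdef] at hz
    exact Subgroup.mem_centralizer_iff.mp (Subgroup.mem_inf.mp hz).2 x hx
  have hZp : IsPGroup p Z := P.isPGroup'.to_le hZP
  have hcomZ : ∀ a ∈ (P : Subgroup G), ∀ b ∈ (P : Subgroup G), a * b * a⁻¹ * b⁻¹ ∈ Z := by
    intro a ha b hb
    rw [hZdef]
    refine Subgroup.mem_inf.mpr ⟨?_, ?_⟩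
    · exact Subgroup.mul_mem _ (Subgroup.mul_mem _ (Subgroup.mul_mem _ ha hb)
        (Subgroup.inv_mem _ ha)) (Subgroup.inv_mem _ hb)
    · rw [Subgroup.mem_centralizer_iff]
      intro x hx
      exact h4 a ha b hb x (hPM hx)
  have hMZ : ∀ m ∈ M, ∀ z ∈ Z, m * z * m⁻¹ = z := by
    intro m hm z hz
    obtain ⟨a, ha, e⟩ := h2 m hm z (hZP hz)
    rw [e, hZc z hz a ha, mul_inv_cancel_right]
  have hNZ : Subgroup.normalizer (Z : Set G) ≤ M := by
    apply h3 Z (hZP.trans hPM) hZne
    intro m hm
    apply mem_normalizer_of_conj_mem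
    intro z hz
    rw [hMZ m hm z hz]; exact hz
  have hNP : Subgroup.normalizer ((P : Subgroup G) : Set G) ≤ M := h3 _ hPM hPne hMNP
  -- p-normality
  have hB : ∀ g : G, (∀ z ∈ Z, g⁻¹ * z * g ∈ (P : Subgroup G)) → g ∈ M := by
    intro g hg
    obtain ⟨U, hUdef⟩ : ∃ U : Subgroup G, U = Z.map (MulAut.conj g).toMonoidHom := ⟨_, rfl⟩
    have hUmem : ∀ z ∈ Z, g * z * g⁻¹ ∈ U := by
      intro z hz
      rw [hUdef]
      exact ⟨z, hz, rfl⟩
    have hUelim : ∀ w ∈ U, ∃ z ∈ Z, w = g * z * g⁻¹ := by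
      intro w hw
      rw [hUdef] at hw
      obtain ⟨z, hz, rfl⟩ := hw
      exact ⟨z, hz, rfl⟩
    have hUp : IsPGroup p U := hUdef ▸ hZp.map _
    have hUZ : ∀ z ∈ Z, ∀ z' ∈ Z, (g * z * g⁻¹) * z' = z' * (g * z * g⁻¹) := by
      intro z hz z' hz'
      have h1 := hZc z hz (g⁻¹ * z' * g) (hg z' hz')
      calc (g * z * g⁻¹) * z' = g * (z * (g⁻¹ * z' * g)) * g⁻¹ := by group
        _ = g * ((g⁻¹ * z' * g) * z) * g⁻¹ := by rw [h1]
        _ = z' * (g * z * g⁻¹) := by group
    have hUM : U ≤ M := by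
      intro w hw
      obtain ⟨z, hz, rfl⟩ := hUelim w hw
      apply hNZ
      apply mem_normalizer_of_conj_mem
      intro z' hz'
      rw [hUZ z hz z' hz', mul_inv_cancel_right]
      exact hz'
    have hUP : U ≤ (P : Subgroup G) := hU U hUp hUM
    obtain ⟨W, hWdef⟩ : ∃ W : Subgroup G, W = Z ⊔ U := ⟨_, rfl⟩
    have hZW : Z ≤ W := hWdef ▸ le_sup_left
    have hUW : U ≤ W := hWdef ▸ le_sup_right
    have hWP : W ≤ (P : Subgroup G) := hWdef ▸ sup_le hZP hUP
    have hWne : W ≠ ⊥ := fun h => hZne (le_bot_iff.mp (h ▸ hZW))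
    have hMW : M ≤ Subgroup.normalizer (W : Set G) := by
      intro m hm
      apply mem_normalizer_of_conj_mem
      intro w hw
      obtain ⟨a, ha, e⟩ := h2 m hm w (hWP hw)
      have e2 : a * w * a⁻¹ = (a * w * a⁻¹ * w⁻¹) * w := by group
      rw [e, e2]
      exact W.mul_mem (hZW (hcomZ a ha w (hWP hw))) hw
    have hNW : Subgroup.normalizer (W : Set G) ≤ M := h3 W (hWP.trans hPM) hWne hMW
    have hWQ : ∀ w ∈ W, g⁻¹ * w * g ∈ (P : Subgroup G) := by
      intro w hw
      have hle : W ≤ (P : Subgroup G).map (MulAut.conj g).toMonoidHom := by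
        rw [hWdef]
        apply sup_le
        · intro z hz
          refine ⟨g⁻¹ * z * g, hg z hz, ?_⟩
          show g * (g⁻¹ * z * g) * g⁻¹ = z
          group
        · rw [hUdef]; exact Subgroup.map_mono hZP
      obtain ⟨x, hx, rfl⟩ := hle hw
      have e : g⁻¹ * ((MulAut.conj g).toMonoidHom x) * g = x := by
        show g⁻¹ * (g * x * g⁻¹) * g = x
        group
      rw [e]; exact hx
    have hQM : ∀ x ∈ (P : Subgroup G), g * x * g⁻¹ ∈ M := by
      intro x hx
      apply hNW
      apply mem_normalizer_of_conj_mem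
      intro w hw
      have hw' := hWQ w hw
      have e : (g * x * g⁻¹) * w * (g * x * g⁻¹)⁻¹
          = (g * (x * (g⁻¹ * w * g) * x⁻¹ * (g⁻¹ * w * g)⁻¹) * g⁻¹) * w := by group
      rw [e]
      exact W.mul_mem (hUW (hUmem _ (hcomZ x hx _ hw'))) hw
    have hQP : ∀ x ∈ (P : Subgroup G), g * x * g⁻¹ ∈ (P : Subgroup G) := by
      have hle : (P : Subgroup G).map (MulAut.conj g).toMonoidHom ≤ (P : Subgroup G) := by
        apply hU _ (P.isPGroup'.map _)
        rintro _ ⟨x, hx, rfl⟩
        exact hQM x hx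
      intro x hx
      exact hle ⟨x, hx, rfl⟩
    exact hNP (mem_normalizer_of_conj_mem hQP)
  -- control of fusion
  intro x hx u hy
  obtain ⟨y, hydef⟩ : ∃ y : G, y = u * x * u⁻¹ := ⟨_, rfl⟩
  rw [← hydef] at hy ⊢
  obtain ⟨C, hCdef⟩ : ∃ C : Subgroup G, C = Subgroup.centralizer ({y} : Set G) := ⟨_, rfl⟩
  have hCmem : ∀ g : G, g ∈ C ↔ g * y = y * g := by
    intro g
    rw [hCdef, Subgroup.mem_centralizer_iff]
    constructor
    · intro h; exact (h y rfl).symm
    · intro h z hz
      rw [Set.mem_singleton_iff] at hz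
      rw [hz]; exact h.symm
  have hZC : Z ≤ C := by
    intro z hz
    rw [hCmem]
    exact (hZc z hz y hy).symm
  have hUC : ∀ z ∈ Z, u * z * u⁻¹ ∈ C := by
    intro z hz
    rw [hCmem, hydef]
    have h1 := hZc z hz x hx
    calc u * z * u⁻¹ * (u * x * u⁻¹) = u * (z * x) * u⁻¹ := by group
      _ = u * (x * z) * u⁻¹ := by rw [h1]
      _ = u * x * u⁻¹ * (u * z * u⁻¹) := by group
  have hZ'p : IsPGroup p (Z.subgroupOf C) := hZp.comap_subtype
  obtain ⟨S, hS⟩ := hZ'p.exists_le_sylow
  obtain ⟨U, hUdef⟩ : ∃ U : Subgroup G, U = Z.map (MulAut.conj u).toMonoidHom := ⟨_, rfl⟩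
  have hUp : IsPGroup p U := hUdef ▸ hZp.map _
  have hU'p : IsPGroup p (U.subgroupOf C) := hUp.comap_subtype
  obtain ⟨S', hS'⟩ := hU'p.exists_le_sylow
  obtain ⟨c, hc⟩ := MulAction.exists_smul_eq C S' S
  obtain ⟨T, hTdef⟩ : ∃ T : Subgroup G, T = (S : Subgroup C).map C.subtype := ⟨_, rfl⟩
  have hTp : IsPGroup p T := hTdef ▸ S.isPGroup'.map _
  have hZT : Z ≤ T := by
    intro z hz
    rw [hTdef]
    exact ⟨⟨z, hZC hz⟩, hS (by rw [Subgroup.mem_subgroupOf]; exact hz), rfl⟩
  have hUT : ∀ z ∈ Z, (c : G) * (u * z * u⁻¹) * (c : G)⁻¹ ∈ T := by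
    intro z hz
    have h1 : (⟨u * z * u⁻¹, hUC z hz⟩ : C) ∈ (S' : Subgroup C) := by
      apply hS'
      rw [Subgroup.mem_subgroupOf, hUdef]
      exact ⟨z, hz, rfl⟩
    have h2' : c * ⟨u * z * u⁻¹, hUC z hz⟩ * c⁻¹ ∈ (S : Subgroup C) := by
      rw [← hc, Sylow.coe_subgroup_smul, mem_conj_smul_iff]
      convert h1 using 1
      group
    rw [hTdef]
    exact ⟨_, h2', rfl⟩
  obtain ⟨S₀, hS₀⟩ := hTp.exists_le_sylow
  obtain ⟨h, hh⟩ := MulAction.exists_smul_eq G P S₀
  have hS₀mem : ∀ s ∈ (S₀ : Subgroup G), h⁻¹ * s * h ∈ (P : Subgroup G) := by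
    intro s hs
    rw [← hh, Sylow.coe_subgroup_smul, mem_conj_smul_iff] at hs
    exact hs
  have hhM : h ∈ M := hB h (fun z hz => hS₀mem z (hS₀ (hZT hz)))
  have hcuM : u⁻¹ * (c : G)⁻¹ * h ∈ M := by
    apply hB
    intro z hz
    have h1 := hS₀mem _ (hS₀ (hUT z hz))
    convert h1 using 1
    group
  have hcu : (c : G) * u ∈ M := by
    have e : (c : G) * u = h * (u⁻¹ * (c : G)⁻¹ * h)⁻¹ := by group
    rw [e]; exact M.mul_mem hhM (M.inv_mem hcuM)
  obtain ⟨a, ha, e⟩ := h2 ((c : G) * u) hcu x hx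
  refine ⟨a, ha, ?_⟩
  rw [← e]
  have hcy : (c : G) * y = y * (c : G) := (hCmem _).mp c.2
  have e2 : (c : G) * u * x * ((c : G) * u)⁻¹ = (c : G) * (u * x * u⁻¹) * (c : G)⁻¹ := by group
  rw [e2, ← hydef, hcy, mul_inv_cancel_right]

theorem focal_le {G : Type u} [Group G] [Finite G] (p : ℕ) [Fact p.Prime] (P : Sylow p G)
    (hfus : ∀ x ∈ (P : Subgroup G), ∀ u : G, u * x * u⁻¹ ∈ (P : Subgroup G) →
      ∃ a ∈ (P : Subgroup G), u * x * u⁻¹ = a * x * a⁻¹) :
    Subgroup.focalSubgroup (P : Subgroup G) ≤ ⁅(P : Subgroup G), (P : Subgroup G)⁆ := by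
  rw [Subgroup.focalSubgroup_def, Subgroup.closure_le]
  rintro g ⟨hg, x, hx, u, rfl⟩
  have h1 : u * x⁻¹ * u⁻¹ ∈ (P : Subgroup G) := by
    have e : u * x⁻¹ * u⁻¹ = x⁻¹ * ⁅x, u⁆ := by rw [commutatorElement_def]; group
    rw [e]; exact Subgroup.mul_mem _ (Subgroup.inv_mem _ hx) hg
  obtain ⟨a, ha, e⟩ := hfus x⁻¹ (Subgroup.inv_mem _ hx) u h1
  have e2 : ⁅x, u⁆ = ⁅x, a⁆ := by
    rw [commutatorElement_def, commutatorElement_def]
    have e3 : x * u * x⁻¹ * u⁻¹ = x * (u * x⁻¹ * u⁻¹) := by group
    rw [e3, e]; group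
  rw [SetLike.mem_coe, e2]
  exact Subgroup.commutator_mem_commutator hx ha

theorem npc_of_focal {G : Type u} [Group G] [Finite G] (p : ℕ) [Fact p.Prime] (P : Sylow p G)
    (hfoc : Subgroup.focalSubgroup (P : Subgroup G) ≤ ⁅(P : Subgroup G), (P : Subgroup G)⁆) :
    ∃ Kp : Subgroup G, Kp.Normal ∧ (Nat.card Kp).Coprime p ∧ ∃ k, Kp.index = p ^ k := by
  have hp : p.Prime := Fact.out
  haveI hKn : (Cfsg.pResidual p G).Normal := pResidual_normal p
  have hKgen : Cfsg.pResidual p G ≤
      Subgroup.closure {g : G | g ∈ Cfsg.pResidual p G ∧ (orderOf g).Coprime p} := by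
    conv_lhs => unfold Cfsg.pResidual
    rw [Subgroup.closure_le]
    intro g hg
    apply Subgroup.subset_closure
    refine ⟨?_, hg⟩
    unfold Cfsg.pResidual
    exact Subgroup.subset_closure hg
  have hKP : Cfsg.pResidual p G ⊓ (P : Subgroup G) ≤
      (frattini P).map (P : Subgroup G).subtype := by
    have h1 : Cfsg.pResidual p G ≤ (P : Subgroup G).transferFocal.ker :=
      pResidual_le_ker p _ (P.2.to_quotient _)
    calc Cfsg.pResidual p G ⊓ (P : Subgroup G)
        ≤ (P : Subgroup G).transferFocal.ker ⊓ (P : Subgroup G) := inf_le_inf_right _ h1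
      _ = Subgroup.focalSubgroup (P : Subgroup G) :=
          Subgroup.ker_transferFocal_inf_eq_focalSubgroup P
      _ ≤ ⁅(P : Subgroup G), (P : Subgroup G)⁆ := hfoc
      _ ≤ (frattini P).map (P : Subgroup G).subtype := by
        rw [← Subgroup.map_subtype_commutator]
        apply Subgroup.map_mono
        haveI : Group.IsNilpotent (P : Subgroup G) := P.isPGroup'.isNilpotent
        exact Cfsg.Agent.Lib.Helper18.commutator_le_frattini_of_isNilpotent
  have hbot := tate_aux P (Cfsg.pResidual p G) hKgen hKP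
  have hcopK : (Nat.card (Cfsg.pResidual p G)).Coprime p := by
    rw [Nat.coprime_comm, Nat.Prime.coprime_iff_not_dvd hp]
    intro hdvd
    obtain ⟨k, hk⟩ := exists_prime_orderOf_dvd_card' p hdvd
    have hzp : IsPGroup p (Subgroup.zpowers (k : G)) := by
      apply IsPGroup.of_card (n := 1)
      rw [Nat.card_zpowers, pow_one, Subgroup.orderOf_coe]
      exact hk
    obtain ⟨Q, hQ⟩ := hzp.exists_le_sylow
    obtain ⟨g, hg⟩ := MulAction.exists_smul_eq G Q P
    have h1 : g * (k : G) * g⁻¹ ∈ (P : Subgroup G) := by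
      rw [← hg, Sylow.coe_subgroup_smul, mem_conj_smul_iff]
      apply hQ
      convert Subgroup.mem_zpowers (k : G) using 1
      group
    have h2 : g * (k : G) * g⁻¹ ∈ Cfsg.pResidual p G := hKn.conj_mem _ k.2 g
    have h3 : g * (k : G) * g⁻¹ ∈ Cfsg.pResidual p G ⊓ (P : Subgroup G) :=
      Subgroup.mem_inf.mpr ⟨h2, h1⟩
    rw [hbot, Subgroup.mem_bot] at h3
    have h4 : (k : G) = 1 := by
      have e : (k : G) = g⁻¹ * (g * (k : G) * g⁻¹) * g := by group
      rw [e, h3]
      group
    have h5 : k = 1 := Subtype.ext h4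
    rw [h5, orderOf_one] at hk
    exact hp.one_lt.ne' hk.symm
  refine ⟨Cfsg.pResidual p G, hKn, hcopK, ?_⟩
  have hQ : IsPGroup p (G ⧸ Cfsg.pResidual p G) := isPGroup_quotient_pResidual p
  obtain ⟨k, hk⟩ := IsPGroup.iff_card.mp hQ
  exact ⟨k, hk⟩

set_option maxHeartbeats 1600000 in
theorem solv_aux :
    ∀ (n : ℕ) (G : Type u) [Group G] [Finite G], Nat.card G ≤ n →
      ∀ (M : Subgroup G), IsCoatom M → ∀ (hnil : Group.IsNilpotent M),
        Group.nilpotencyClass M ≤ 2 → Group.IsSolvable G := by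
  intro n
  induction n using Nat.strong_induction_on with
  | _ n IH =>
    intro G _ _ hn M hmax hnil hcl
    haveI := hnil
    haveI hMsolv : Group.IsSolvable M := IsNilpotent.to_isSolvable
    have hsolvable_of : ∀ (N : Subgroup G) [N.Normal], Group.IsSolvable N →
        Group.IsSolvable (G ⧸ N) → Group.IsSolvable G := by
      intro N _ h1 h2
      exact Group.isSolvable_of_ker_le_range N.subtype (QuotientGroup.mk' N)
        (by rw [QuotientGroup.ker_mk', Subgroup.range_subtype])
    by_cases hcore : M.normalCore = ⊥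
    · -- core-free case
      have hL1 : ∀ X : Subgroup G, X ≤ M → X ≠ ⊥ → M ≤ Subgroup.normalizer (X : Set G) →
          Subgroup.normalizer (X : Set G) ≤ M := by
        intro X hXM hX1 hMN
        rcases (hmax.le_iff).mp hMN with h | h
        · exfalso
          apply hX1
          haveI : X.Normal := Subgroup.normalizer_eq_top_iff.mp h
          have h1 : X ≤ M.normalCore := Subgroup.normal_le_normalCore.mpr hXM
          rw [hcore] at h1
          exact le_bot_iff.mp h1
        · exact h.le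
      have hcl2 : ∀ a ∈ M, ∀ b ∈ M, ∀ m ∈ M,
          m * (a * b * a⁻¹ * b⁻¹) = (a * b * a⁻¹ * b⁻¹) * m := by
        intro a ha b hb m hm
        have h1 : Subgroup.lowerCentralSeries (⊤ : Subgroup M) 2 = ⊥ :=
          lowerCentralSeries_eq_bot_iff_nilpotencyClass_le.mpr hcl
        have h2 : ⁅⁅(⟨a, ha⟩ : M), (⟨b, hb⟩ : M)⁆, (⟨m, hm⟩ : M)⁆ ∈
            Subgroup.lowerCentralSeries (⊤ : Subgroup M) 2 :=
          Subgroup.commutator_mem_commutator (Subgroup.commutator_mem_commutator
            (Subgroup.mem_top _) (Subgroup.mem_top _)) (Subgroup.mem_top _)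
        rw [h1, Subgroup.mem_bot, commutatorElement_eq_one_iff_mul_comm] at h2
        have h3 := congrArg Subtype.val h2
        simp only [Subgroup.coe_mul, commutatorElement_def, Subgroup.coe_inv] at h3
        exact h3.symm
      have hC : ∀ p : ℕ, p.Prime → p ∣ Nat.card M →
          (∃ Kp : Subgroup G, Kp.Normal ∧ (Nat.card Kp).Coprime p ∧ ∃ k, Kp.index = p ^ k) ∧
          (Nat.card G).factorization p = (Nat.card M).factorization p := by
        intro p hp hpdvd
        haveI : Fact p.Prime := ⟨hp⟩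
        obtain ⟨PM⟩ : Nonempty (Sylow p M) := inferInstance
        have hsylM : ∀ (q : ℕ) (_ : Fact q.Prime) (S : Sylow q M), (S : Subgroup M).Normal :=
          (Group.isNilpotent_of_finite_tfae.out 0 3).mp hnil
        have hPMn : (PM : Subgroup M).Normal := hsylM p inferInstance PM
        obtain ⟨P, hPdef⟩ : ∃ P : Subgroup G, P = (PM : Subgroup M).map M.subtype := ⟨_, rfl⟩
        have hPM : P ≤ M := hPdef ▸ Subgroup.map_subtype_le _
        have hPp : IsPGroup p P := hPdef ▸ PM.isPGroup'.map _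
        have hP1 : P ≠ ⊥ := by
          rw [hPdef]
          intro h
          exact PM.ne_bot_of_dvd_card hpdvd
            ((Subgroup.map_eq_bot_iff_of_injective _ M.subtype_injective).mp h)
        have hMNP : M ≤ Subgroup.normalizer (P : Set G) := by
          have h1 := Subgroup.le_normalizer_map (H := (PM : Subgroup M)) M.subtype
          rw [Subgroup.normalizer_eq_top_iff.mpr hPMn, ← MonoidHom.range_eq_map,
            Subgroup.range_subtype, ← hPdef] at h1
          exact h1
        have hNPM := hL1 P hPM hP1 hMNP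
        obtain ⟨Pst, hPst⟩ := hPp.exists_le_sylow
        have hPeq : P = (Pst : Subgroup G) := by
          by_contra hne
          have hlt : P < (Pst : Subgroup G) := lt_of_le_of_ne hPst hne
          obtain ⟨x, hxPst, hxN, hxP⟩ :=
            Cfsg.Agent.Lib.Helper18.exists_mem_normalizer_not_mem Pst.isPGroup' hlt
          have hxM : x ∈ M := hNPM hxN
          apply hxP
          have hT : IsPGroup p (((Pst : Subgroup G) ⊓ M).subgroupOf M) :=
            (Pst.isPGroup'.to_le inf_le_left).comap_subtype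
          have hle : (PM : Subgroup M) ≤ ((Pst : Subgroup G) ⊓ M).subgroupOf M := by
            intro y hy
            rw [Subgroup.mem_subgroupOf]
            have hyP : (y : G) ∈ P := by
              rw [hPdef]
              exact ⟨y, hy, rfl⟩
            exact Subgroup.mem_inf.mpr ⟨hPst hyP, y.2⟩
          have heq := PM.is_maximal' hT hle
          have hx' : (⟨x, hxM⟩ : M) ∈ ((Pst : Subgroup G) ⊓ M).subgroupOf M := by
            rw [Subgroup.mem_subgroupOf]
            exact Subgroup.mem_inf.mpr ⟨hxPst, hxM⟩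
          rw [heq] at hx'
          rw [hPdef]
          exact ⟨⟨x, hxM⟩, hx', rfl⟩
        -- new part: control of fusion
        have hPstM : (Pst : Subgroup G) ≤ M := hPeq ▸ hPM
        have hPstne : (Pst : Subgroup G) ≠ ⊥ := hPeq ▸ hP1
        have hMNPst : M ≤ Subgroup.normalizer ((Pst : Subgroup G) : Set G) := hPeq ▸ hMNP
        have hMPst : ∀ m ∈ M, ∀ x ∈ (Pst : Subgroup G), m * x * m⁻¹ ∈ (Pst : Subgroup G) := by
          intro m hm x hx
          exact (Subgroup.mem_normalizer_iff.mp (hMNPst hm) x).mp hx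
        have h2 := conj_decomp p (Pst : Subgroup G) M hPstM Pst.isPGroup' hMPst
          (pgroup_le_sylow Pst M hMNPst) hcl2
        have hfus := fusion p Pst M hPstM hPstne h2 hL1
          (fun a ha b hb m hm => hcl2 a (hPstM ha) b (hPstM hb) m hm)
        refine ⟨npc_of_focal p Pst (focal_le p Pst hfus), ?_⟩
        apply le_antisymm
        · have h1 : Nat.card (Pst : Subgroup G) ∣ Nat.card M :=
            Subgroup.card_dvd_of_le (hPeq ▸ hPM)
          rw [Pst.card_eq_multiplicity] at h1
          exact (hp.pow_dvd_iff_le_factorization Nat.card_pos.ne').mp h1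
        · exact (Nat.factorization_le_iff_dvd Nat.card_pos.ne' Nat.card_pos.ne').mpr
            (Subgroup.card_subgroup_dvd_card M) p
      -- membership in the p-complements
      have hKp : ∀ p : ℕ, p.Prime → p ∣ Nat.card M → ∀ g h : G,
          (orderOf g).Coprime p → (orderOf h).Coprime p → (orderOf (g * h)).Coprime p := by
        intro p hp hpdvd g h hg hh
        obtain ⟨⟨Kp, hKpn, hKpc, k, hKpi⟩, -⟩ := hC p hp hpdvd
        haveI := hKpn
        have hmem : ∀ x : G, (orderOf x).Coprime p → x ∈ Kp := by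
          intro x hx
          apply mem_of_pow_mem_of_coprime (Subgroup.pow_index_mem Kp x)
          rw [hKpi]
          exact Nat.Coprime.pow_right k hx
        have h1 : g * h ∈ Kp := Kp.mul_mem (hmem g hg) (hmem h hh)
        exact Nat.Coprime.coprime_dvd_left (Subgroup.orderOf_dvd_natCard Kp h1) hKpc
      have hcop_iff : ∀ g : G, (orderOf g).Coprime (Nat.card M) ↔
          ∀ p : ℕ, p.Prime → p ∣ Nat.card M → (orderOf g).Coprime p := by
        intro g
        constructor
        · intro h p _ hpdvd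
          exact Nat.Coprime.coprime_dvd_right hpdvd h
        · intro h
          apply Nat.Coprime.symm
          apply Nat.coprime_of_dvd
          intro k hk hkM hkg
          exact hk.one_lt.ne' (Nat.Coprime.eq_one_of_dvd (h k hk hkM).symm hkg)
      obtain ⟨K, hKmem⟩ : ∃ K : Subgroup G, ∀ g, g ∈ K ↔ (orderOf g).Coprime (Nat.card M) := by
        refine ⟨{ carrier := {g | (orderOf g).Coprime (Nat.card M)}
                  one_mem' := ?_
                  mul_mem' := ?_
                  inv_mem' := ?_ }, fun g => Iff.rfl⟩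
        · intro a b ha hb
          have ha' : (orderOf a).Coprime (Nat.card M) := ha
          have hb' : (orderOf b).Coprime (Nat.card M) := hb
          show (orderOf (a * b)).Coprime (Nat.card M)
          rw [hcop_iff] at ha' hb' ⊢
          intro p hp hpdvd
          exact hKp p hp hpdvd a b (ha' p hp hpdvd) (hb' p hp hpdvd)
        · show (orderOf (1 : G)).Coprime (Nat.card M)
          rw [orderOf_one]
          exact Nat.coprime_one_left _
        · intro a ha
          show (orderOf a⁻¹).Coprime (Nat.card M)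
          rw [orderOf_inv]
          exact ha
      haveI hKn : K.Normal := by
        constructor
        intro x hx g
        rw [hKmem] at hx ⊢
        have : orderOf (g * x * g⁻¹) = orderOf x := (MulAut.conj g).orderOf_eq x
        rw [this]
        exact hx
      have hKM : K ⊓ M = ⊥ := by
        rw [eq_bot_iff]
        intro g hg
        obtain ⟨hg1, hg2⟩ := Subgroup.mem_inf.mp hg
        rw [hKmem] at hg1
        have h1 : orderOf g ∣ Nat.card M := Subgroup.orderOf_dvd_natCard M hg2
        have h2 : orderOf g = 1 := Nat.eq_one_of_dvd_coprimes hg1 dvd_rfl h1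
        exact Subgroup.mem_bot.mpr (orderOf_eq_one_iff.mp h2)
      have hKMtop : K ⊔ M = ⊤ := by
        rcases (hmax.le_iff).mp (le_sup_right : M ≤ K ⊔ M) with h | h
        · exact h
        · exfalso
          have hKleM : K ≤ M := by
            rw [← h]
            exact le_sup_left
          have hKbot : K = ⊥ := by
            rw [← hKM]
            exact (inf_eq_left.mpr hKleM).symm
          apply hmax.1
          rw [← Subgroup.card_eq_iff_eq_top]
          apply (Nat.eq_of_factorization_eq Nat.card_pos.ne' Nat.card_pos.ne' ?_).symm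
          intro p
          by_cases hp : p.Prime
          · by_cases hpdvd : p ∣ Nat.card M
            · exact (hC p hp hpdvd).2
            · rw [Nat.factorization_eq_zero_of_not_dvd hpdvd]
              apply Nat.factorization_eq_zero_of_not_dvd
              intro hpG
              haveI : Fact p.Prime := ⟨hp⟩
              obtain ⟨g, hg⟩ := exists_prime_orderOf_dvd_card' (G := G) p hpG
              have hgK : g ∈ K := by
                rw [hKmem, hg]
                exact (Nat.Prime.coprime_iff_not_dvd hp).mpr hpdvd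
              rw [hKbot, Subgroup.mem_bot] at hgK
              rw [hgK, orderOf_one] at hg
              exact hp.one_lt.ne hg
          · rw [Nat.factorization_eq_zero_of_not_prime _ hp,
              Nat.factorization_eq_zero_of_not_prime _ hp]
      -- `G / K` is an image of `M`
      have hGK : Group.IsSolvable (G ⧸ K) := by
        have hsurj : Function.Surjective ((QuotientGroup.mk' K).comp M.subtype) := by
          intro y
          obtain ⟨g, rfl⟩ := QuotientGroup.mk'_surjective K y
          have hg : g ∈ K ⊔ M := hKMtop ▸ Subgroup.mem_top g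
          obtain ⟨k, hk, m, hm, rfl⟩ := Subgroup.mem_sup_of_normal_left.mp hg
          refine ⟨⟨m, hm⟩, ?_⟩
          show (QuotientGroup.mk' K) m = (QuotientGroup.mk' K) (k * m)
          have hk1 : (QuotientGroup.mk' K) k = 1 := (QuotientGroup.eq_one_iff k).mpr hk
          rw [map_mul, hk1, one_mul]
        exact Group.isSolvable_of_surjective hsurj
      -- `K` is a `q`-group
      have hKsolv : Group.IsSolvable K := by
        by_cases hK1 : K = ⊥
        · apply Group.isSolvable_of_comm
          intro a b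
          have hK1' : ∀ x ∈ K, x = 1 := by
            intro x hx
            rw [hK1, Subgroup.mem_bot] at hx
            exact hx
          have ha : (a : G) = 1 := hK1' _ a.2
          have hb : (b : G) = 1 := hK1' _ b.2
          apply Subtype.ext
          rw [Subgroup.coe_mul, Subgroup.coe_mul, ha, hb]
        have hcopMK : (Nat.card M).Coprime (Nat.card K) := by
          apply Nat.coprime_of_dvd
          intro k hk hkM hkK
          haveI : Fact k.Prime := ⟨hk⟩
          obtain ⟨g, hg⟩ := exists_prime_orderOf_dvd_card' (G := K) k hkK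
          have h1 := (hKmem g).mp g.2
          rw [Subgroup.orderOf_coe, hg] at h1
          exact hk.one_lt.ne' (Nat.Coprime.eq_one_of_dvd h1 hkM)
        obtain ⟨q, hqdef⟩ : ∃ q : ℕ, q = (Nat.card K).minFac := ⟨_, rfl⟩
        have hKcard : Nat.card K ≠ 1 := fun h => hK1 (Subgroup.eq_bot_of_card_eq K h)
        have hq : q.Prime := hqdef ▸ Nat.minFac_prime hKcard
        haveI : Fact q.Prime := ⟨hq⟩
        have hqdvd : q ∣ Nat.card K := hqdef ▸ Nat.minFac_dvd _
        have hMK : M ≤ Subgroup.normalizer (K : Set G) := by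
          rw [Subgroup.normalizer_eq_top]
          exact le_top
        obtain ⟨Q, hQ⟩ := exists_invariant_sylow M K hMK hcopMK (Or.inl hMsolv) q
        obtain ⟨Q', hQ'def⟩ : ∃ Q' : Subgroup G, Q' = (Q : Subgroup K).map K.subtype := ⟨_, rfl⟩
        rw [← hQ'def] at hQ
        have hQ'K : Q' ≤ K := hQ'def ▸ Subgroup.map_subtype_le _
        have hQ'1 : Q' ≠ ⊥ := by
          rw [hQ'def]
          intro h
          exact Q.ne_bot_of_dvd_card hqdvd
            ((Subgroup.map_eq_bot_iff_of_injective _ K.subtype_injective).mp h)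
        have hQ'top : Q' ⊔ M = ⊤ := by
          rcases (hmax.le_iff).mp (le_sup_right : M ≤ Q' ⊔ M) with h | h
          · exact h
          · exfalso
            apply hQ'1
            have h1 : Q' ≤ M := by
              rw [← h]
              exact le_sup_left
            rw [eq_bot_iff, ← hKM]
            exact le_inf hQ'K h1
        have hKQ' : K ≤ Q' := by
          intro x hx
          have hx' : x ∈ ((Q' ⊔ M : Subgroup G) : Set G) := by
            rw [hQ'top]
            exact Subgroup.mem_top x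
          rw [Subgroup.coe_mul_of_right_le_normalizer_left Q' M hQ] at hx'
          obtain ⟨a, ha, m, hm, rfl⟩ := hx'
          have hmK : m ∈ K := by
            have : m = a⁻¹ * (a * m) := by group
            rw [this]
            exact K.mul_mem (K.inv_mem (hQ'K ha)) hx
          have hm1 : m ∈ K ⊓ M := Subgroup.mem_inf.mpr ⟨hmK, hm⟩
          rw [hKM, Subgroup.mem_bot] at hm1
          show a * m ∈ Q'
          rw [hm1, mul_one]
          exact ha
        have hKeq : K = Q' := le_antisymm hKQ' hQ'K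
        have hKq : IsPGroup q K := by
          have h1 : IsPGroup q Q' := hQ'def ▸ Q.isPGroup'.map _
          rw [hKeq]
          exact h1
        haveI h2 : Group.IsNilpotent K := hKq.isNilpotent
        exact IsNilpotent.to_isSolvable
      exact hsolvable_of K hKsolv hGK
    · -- the core is nontrivial: pass to the quotient
      obtain ⟨N, hNdef⟩ : ∃ N : Subgroup G, N = M.normalCore := ⟨_, rfl⟩
      haveI hNn : N.Normal := hNdef ▸ Subgroup.normalCore_normal M
      have hNM : N ≤ M := hNdef ▸ Subgroup.normalCore_le M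
      have hN1 : N ≠ ⊥ := hNdef ▸ hcore
      have hNsolv : Group.IsSolvable N := isSolvable_of_le hNM
      obtain ⟨π, hπdef⟩ : ∃ π : G →* G ⧸ N, π = QuotientGroup.mk' N := ⟨_, rfl⟩
      have hπs : Function.Surjective π := hπdef ▸ QuotientGroup.mk'_surjective N
      have hcomap : (M.map π).comap π = M := by
        rw [hπdef, QuotientGroup.comap_map_mk', sup_eq_right.mpr hNM]
      have hM'max : IsCoatom (M.map π) := by
        constructor
        · intro h
          apply hmax.1
          rw [← hcomap, h, Subgroup.comap_top]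
        · intro X hX
          have h1 : M < X.comap π := by
            rw [← hcomap]
            refine lt_of_le_of_ne (Subgroup.comap_mono hX.le) ?_
            intro h
            apply hX.ne
            rw [← Subgroup.map_comap_eq_self_of_surjective hπs X, ← h,
              Subgroup.map_comap_eq_self_of_surjective hπs]
          have h2 := hmax.2 _ h1
          rw [← Subgroup.map_comap_eq_self_of_surjective hπs X, h2,
            Subgroup.map_top_of_surjective π hπs]
      have hM'nil : Group.IsNilpotent (M.map π) :=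
        Group.nilpotent_of_surjective (π.subgroupMap M) (π.subgroupMap_surjective M)
      have hM'cl : Group.nilpotencyClass (M.map π) ≤ 2 :=
        (Group.nilpotencyClass_le_of_surjective (π.subgroupMap M)
          (π.subgroupMap_surjective M)).trans hcl
      have hlt : Nat.card (G ⧸ N) < Nat.card G := by
        have h1 : Nat.card G = Nat.card (G ⧸ N) * Nat.card N :=
          Subgroup.card_eq_card_quotient_mul_card_subgroup N
        have h2 : 1 < Nat.card N := by
          haveI : Nontrivial N := (Subgroup.nontrivial_iff_ne_bot _).mpr hN1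
          exact Finite.one_lt_card
        have h3 : 0 < Nat.card (G ⧸ N) := Nat.card_pos
        nlinarith
      have hQsolv : Group.IsSolvable (G ⧸ N) :=
        IH (Nat.card (G ⧸ N)) (by omega) (G ⧸ N) le_rfl (M.map π) hM'max hM'nil hM'cl
      exact hsolvable_of N hNsolv hQsolv

/-- A finite group possessing a maximal subgroup that is nilpotent of class at most 2 is solvable. -/
theorem result {G : Type*} [Group G] [Finite G]
    (M : Subgroup G) (hmax : IsCoatom M) (hnil : Group.IsNilpotent M) (hcl : Group.nilpotencyClass ↥M ≤ 2) :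
    Group.IsSolvable G := by
  exact solv_aux (Nat.card G) G le_rfl M hmax hnil hcl

end Cfsg.Agent.S4039
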