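import Cfsg.Statements.S4219
import Mathlib

set_option autoImplicit false
open Cfsg

namespace Cfsg.Agent.S4219

theorem sylow_conj_in {G : Type*} [Group G] [Finite G] (p : ℕ) [Fact p.Prime]
    (S Q₁ Q₂ : Subgroup G) (h₁ : Q₁ ≤ S) (h₂ : Q₂ ≤ S)
    (c₁ : Nat.card Q₁ = p ^ (Nat.card S).factorization p)
    (c₂ : Nat.card Q₂ = p ^ (Nat.card S).factorization p) :
    ∃ c ∈ S, ∀ y : G, y ∈ Q₂ ↔ c * y * c⁻¹ ∈ Q₁ := by
  have e₁ : Nat.card (Q₁.subgroupOf S) = p ^ (Nat.card S).factorization p := by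
    rw [← c₁]; exact Nat.card_congr (Subgroup.subgroupOfEquivOfLe h₁).toEquiv
  have e₂ : Nat.card (Q₂.subgroupOf S) = p ^ (Nat.card S).factorization p := by
    rw [← c₂]; exact Nat.card_congr (Subgroup.subgroupOfEquivOfLe h₂).toEquiv
  obtain ⟨R₁, hR₁⟩ : ∃ R₁ : Sylow p S, (R₁ : Subgroup S) = Q₁.subgroupOf S :=
    ⟨Sylow.ofCard (Q₁.subgroupOf S) e₁, rfl⟩
  obtain ⟨R₂, hR₂⟩ : ∃ R₂ : Sylow p S, (R₂ : Subgroup S) = Q₂.subgroupOf S :=
    ⟨Sylow.ofCard (Q₂.subgroupOf S) e₂, rfl⟩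
  obtain ⟨c, hc⟩ := MulAction.exists_smul_eq S R₂ R₁
  have key : ∀ z : S, z ∈ ((c • R₂ : Sylow p S) : Subgroup S) ↔
      c⁻¹ * z * c ∈ (R₂ : Subgroup S) := by
    intro z
    rw [Sylow.coe_subgroup_smul, Subgroup.mem_pointwise_smul_iff_inv_smul_mem]
    simp [MulAut.smul_def]
  rw [hc, hR₁, hR₂] at key
  refine ⟨c, c.2, ?_⟩
  intro y
  constructor
  · intro hy
    have hyS : y ∈ S := h₂ hy
    have := (key (c * ⟨y, hyS⟩ * c⁻¹)).mpr (by
      have e : c⁻¹ * (c * ⟨y, hyS⟩ * c⁻¹) * c = ⟨y, hyS⟩ := by group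
      rw [e, Subgroup.mem_subgroupOf]; exact hy)
    rw [Subgroup.mem_subgroupOf] at this
    exact this
  · intro hy
    have hyS' : (c : G) * y * (c : G)⁻¹ ∈ S := h₁ hy
    have hyS : y ∈ S := by
      have := S.mul_mem (S.mul_mem (S.inv_mem c.2) hyS') c.2
      have e : (c : G)⁻¹ * ((c : G) * y * (c : G)⁻¹) * (c : G) = y := by group
      rwa [e] at this
    have := (key (c * ⟨y, hyS⟩ * c⁻¹)).mp (by
      rw [Subgroup.mem_subgroupOf]; exact hy)
    have e : c⁻¹ * (c * ⟨y, hyS⟩ * c⁻¹) * c = ⟨y, hyS⟩ := by group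
    rw [e, Subgroup.mem_subgroupOf] at this
    exact this

/-- Let a finite group `G` act `t`-fold transitively on a finite set, let `H` be the stabilizer of `t` distinct points and `P` a Sylow `p`-subgroup of `H`. Then the normalizer of `P` in `G` is `t`-fold transitive on the fixed points of `P`: any `t` distinct fixed points of `P` can be carried to any other `t` distinct fixed points of `P` by an element normalizing `P`. -/
theorem result {G : Type*} [Group G] [Finite G] {α : Type*} [Fintype α] [MulAction G α] {t : ℕ} (hG : MulAction.IsMultiplyPretransitive G α t) (x : Fin t ↪ α) {p : ℕ} [Fact p.Prime] (P : Sylow p (MulAction.stabilizer G x)) (a b : Fin t ↪ α) (ha : ∀ i, a i ∈ MulAction.fixedPoints ((P : Subgroup (MulAction.stabilizer G x)).map (MulAction.stabilizer G x).subtype) α) (hb : ∀ i, b i ∈ MulAction.fixedPoints ((P : Subgroup (MulAction.stabilizer G x)).map (MulAction.stabilizer G x).subtype) α) : ∃ g ∈ Subgroup.normalizer ((((P : Subgroup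 (MulAction.stabilizer G x)).map (MulAction.stabilizer G x).subtype) : Subgroup G) : Set G), g • a = b := by
  classical
  obtain ⟨P', hP'⟩ : ∃ P' : Subgroup G, P' =
      (P : Subgroup (MulAction.stabilizer G x)).map (MulAction.stabilizer G x).subtype :=
    ⟨_, rfl⟩
  rw [← hP'] at ha hb ⊢
  have : MulAction.IsPretransitive G (Fin t ↪ α) := hG
  have hfix : ∀ (c : Fin t ↪ α), (∀ i, c i ∈ MulAction.fixedPoints P' α) →
      P' ≤ MulAction.stabilizer G c := by
    intro c hc g hg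
    rw [MulAction.mem_stabilizer_iff]
    ext i
    rw [Function.Embedding.smul_apply]
    exact hc i ⟨g, hg⟩
  have hne : Nonempty (Fin t ↪ α) := ⟨x⟩
  have hcardstab : ∀ c : Fin t ↪ α,
      Nat.card (MulAction.stabilizer G c) = Nat.card (MulAction.stabilizer G x) := by
    intro c
    have h1 := Subgroup.card_mul_index (MulAction.stabilizer G c)
    have h2 := Subgroup.card_mul_index (MulAction.stabilizer G x)
    rw [MulAction.index_stabilizer_of_transitive] at h1 h2
    have hpos : 0 < Nat.card (Fin t ↪ α) := Nat.card_pos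
    exact Nat.eq_of_mul_eq_mul_right hpos (h1.trans h2.symm)
  have hcardP' : Nat.card P' = p ^ (Nat.card (MulAction.stabilizer G x)).factorization p := by
    rw [hP', Subgroup.card_map_of_injective (Subgroup.subtype_injective _)]
    exact Sylow.card_eq_multiplicity P
  obtain ⟨h, hh⟩ := MulAction.exists_smul_eq G a b
  obtain ⟨Q₂, hQ₂⟩ : ∃ Q₂ : Subgroup G, Q₂ = P'.map (MulAut.conj h).toMonoidHom := ⟨_, rfl⟩
  have hQ₂mem : ∀ y : G, h * y * h⁻¹ ∈ Q₂ ↔ y ∈ P' := by
    intro y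
    rw [hQ₂]
    constructor
    · rintro ⟨g, hg, e⟩
      have e' : h * g * h⁻¹ = h * y * h⁻¹ := e
      have : g = y := by
        have := congrArg (fun w => h⁻¹ * w * h) e'
        simpa [mul_assoc] using this
      rw [← this]; exact hg
    · intro hy
      exact ⟨y, hy, rfl⟩
  have hQ₂b : Q₂ ≤ MulAction.stabilizer G b := by
    rw [hQ₂]
    rintro _ ⟨g, hg, rfl⟩
    rw [MulAction.mem_stabilizer_iff]
    show (h * g * h⁻¹) • b = b
    have hga : g • a = a := hfix a ha hg
    rw [← hh, mul_smul, mul_smul, inv_smul_smul, hga]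
  have hcardQ₂ : Nat.card Q₂ = Nat.card P' := by
    rw [hQ₂]; exact Subgroup.card_map_of_injective (MulAut.conj h).injective
  obtain ⟨c, hc, hcQ⟩ := sylow_conj_in p (MulAction.stabilizer G b) P' Q₂ (hfix b hb) hQ₂b
    (by rw [hcardP', hcardstab b]) (by rw [hcardQ₂, hcardP', hcardstab b])
  refine ⟨c * h, ?_, ?_⟩
  · rw [Subgroup.mem_normalizer_iff]
    intro y
    have e : c * h * y * (c * h)⁻¹ = c * (h * y * h⁻¹) * c⁻¹ := by group
    rw [e]
    show y ∈ P' ↔ c * (h * y * h⁻¹) * c⁻¹ ∈ P'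
    rw [← hcQ, hQ₂mem]
  · rw [mul_smul, hh]; exact hc

end Cfsg.Agent.S4219
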