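import Cfsg.Statements.S4127
import Mathlib
import Cfsg.Agent.S4219
import Cfsg.Agent.Lib.Helper23.Coprime

set_option autoImplicit false
open Cfsg

namespace Cfsg.Agent.S4127


open scoped commutatorElement

theorem mem_of_pow_mem_of_coprime {X : Type*} [Group X] (S : Subgroup X) (g : X) (m n : ℕ)
    (h : m.Coprime n) (hm : g ^ m ∈ S) (hn : g ^ n ∈ S) : g ∈ S := by
  have h1 : (m : ℤ) * Nat.gcdA m n + (n : ℤ) * Nat.gcdB m n = 1 := by
    have := Nat.gcd_eq_gcd_ab m n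
    rw [Nat.Coprime.gcd_eq_one h] at this
    exact_mod_cast this.symm
  have h2 : g = (g ^ m) ^ (Nat.gcdA m n) * (g ^ n) ^ (Nat.gcdB m n) := by
    rw [← zpow_natCast, ← zpow_natCast, ← zpow_mul, ← zpow_mul, ← zpow_add, h1, zpow_one]
  rw [h2]
  exact S.mul_mem (S.zpow_mem hm _) (S.zpow_mem hn _)

theorem eq_top_of_forall_conj_mem {X : Type*} [Group X] [Finite X] (H : Subgroup X)
    (h : ∀ g : X, ∃ c : X, c⁻¹ * g * c ∈ H) : H = ⊤ := by
  let φ : (X ⧸ H) × H → X := fun a => a.1.out * (a.2 : X) * a.1.out⁻¹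
  have hsurj : Function.Surjective φ := by
    intro g
    obtain ⟨c, hc⟩ := h g
    obtain ⟨h₀, hh₀⟩ := QuotientGroup.mk_out_eq_mul H c
    refine ⟨((QuotientGroup.mk c : X ⧸ H), ⟨(h₀ : X)⁻¹ * (c⁻¹ * g * c) * h₀,
      H.mul_mem (H.mul_mem (H.inv_mem h₀.2) hc) h₀.2⟩), ?_⟩
    change (QuotientGroup.mk c : X ⧸ H).out * ((h₀ : X)⁻¹ * (c⁻¹ * g * c) * h₀)
      * (QuotientGroup.mk c : X ⧸ H).out⁻¹ = g
    rw [hh₀]; group
  have hcard : Nat.card ((X ⧸ H) × H) ≤ Nat.card X := by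
    rw [Nat.card_prod, ← Subgroup.card_eq_card_quotient_mul_card_subgroup]
  have hbij := hsurj.bijective_of_nat_card_le hcard
  rw [eq_top_iff]
  intro g _
  have h1 : φ ((QuotientGroup.mk g : X ⧸ H), 1) = φ ((QuotientGroup.mk (1 : X) : X ⧸ H), 1) := by
    simp [φ]
  have h2 := hbij.1 h1
  have h3 : (QuotientGroup.mk g : X ⧸ H) = (QuotientGroup.mk (1 : X) : X ⧸ H) := (Prod.mk.inj h2).1
  rw [QuotientGroup.eq] at h3
  simpa using h3

theorem exists_sylow_le_of_not_dvd_index {X : Type*} [Group X] [Finite X] (p : ℕ) [Fact p.Prime]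
    (D : Subgroup X) (h : ¬ p ∣ D.index) : ∃ Q : Sylow p X, (Q : Subgroup X) ≤ D := by
  have hp : p.Prime := Fact.out
  obtain ⟨Q₀⟩ : Nonempty (Sylow p D) := inferInstance
  have hcard : Nat.card ((Q₀ : Subgroup D).map D.subtype) = p ^ (Nat.card X).factorization p := by
    rw [Subgroup.card_map_of_injective (Subgroup.subtype_injective _), Sylow.card_eq_multiplicity]
    congr 1
    rw [← Subgroup.card_mul_index D, Nat.factorization_mul Nat.card_pos.ne' Subgroup.index_ne_zero_of_finite,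
      Finsupp.add_apply, Nat.factorization_eq_zero_of_not_dvd h, add_zero]
  exact ⟨Sylow.ofCard _ hcard, Subgroup.map_subtype_le _⟩

theorem normal_pgroup_le_sylow' {X : Type*} [Group X] [Finite X] (p : ℕ) [Fact p.Prime]
    (N : Subgroup X) (hN : N.Normal) (hNp : IsPGroup p N) (Q : Sylow p X) : N ≤ (Q : Subgroup X) := by
  obtain ⟨Q', hQ'⟩ := hNp.exists_le_sylow
  obtain ⟨g, hg⟩ := MulAction.exists_smul_eq X Q' Q
  have key : ∀ z : X, z ∈ ((g • Q' : Sylow p X) : Subgroup X) ↔ g⁻¹ * z * g ∈ (Q' : Subgroup X) := by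
    intro z
    rw [Sylow.coe_subgroup_smul, Subgroup.mem_pointwise_smul_iff_inv_smul_mem]
    simp [MulAut.smul_def]
  intro t ht
  rw [← hg]
  exact (key t).2 (hQ' (by have := hN.conj_mem t ht g⁻¹; simpa using this))

theorem lemD {X : Type*} [Group X] [Finite X] (p : ℕ) [Fact p.Prime]
    (hyp : ∀ y : X, (orderOf y).Coprime p → ∃ Q : Sylow p X, ∀ u ∈ (Q : Subgroup X), u * y = y * u)
    (Q : Sylow p X) : (Q : Subgroup X).Normal := by
  have hp : p.Prime := Fact.out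
  rw [← Subgroup.normalizer_eq_top_iff]
  apply eq_top_of_forall_conj_mem
  intro g
  obtain ⟨t, m, hm, hgo⟩ := Nat.exists_eq_pow_mul_and_not_dvd (orderOf_pos g).ne' p hp.ne_one
  have hm0 : m ≠ 0 := by rintro rfl; exact hm (dvd_zero _)
  have ho2 : orderOf (g ^ (p ^ t)) = m := by
    rw [orderOf_pow_of_dvd (pow_ne_zero t hp.ne_zero) ⟨m, hgo⟩, hgo]
    exact Nat.mul_div_cancel_left _ (pow_pos hp.pos t)
  have ho1 : orderOf (g ^ m) = p ^ t := by
    rw [orderOf_pow_of_dvd hm0 ⟨p ^ t, by rw [hgo, mul_comm]⟩, hgo]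
    exact Nat.mul_div_cancel _ (Nat.pos_of_ne_zero hm0)
  have hcopm : m.Coprime p := ((Nat.Prime.coprime_iff_not_dvd hp).2 hm).symm
  obtain ⟨Q', hQ'⟩ := hyp (g ^ (p ^ t)) (by rw [ho2]; exact hcopm)
  obtain ⟨C', hC'⟩ : ∃ C' : Subgroup X, C' = Subgroup.centralizer ({g ^ (p ^ t)} : Set X) := ⟨_, rfl⟩
  have hC'mem : ∀ z : X, z ∈ C' ↔ g ^ (p ^ t) * z = z * g ^ (p ^ t) := by
    intro z
    rw [hC', Subgroup.mem_centralizer_iff]
    simp
  have hQC : (Q' : Subgroup X) ≤ C' := fun u hu => (hC'mem u).2 (hQ' u hu).symm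
  have hg1C : g ^ m ∈ C' := by
    rw [hC'mem, ← pow_add, ← pow_add, add_comm]
  have hpg : IsPGroup p (Subgroup.zpowers (⟨g ^ m, hg1C⟩ : C')) := by
    apply IsPGroup.of_card (n := t)
    rw [Nat.card_zpowers, Subgroup.orderOf_mk, ho1]
  obtain ⟨R, hR⟩ := hpg.exists_le_sylow
  have hcardC : (Nat.card C').factorization p = (Nat.card X).factorization p := by
    apply le_antisymm
    · exact (Nat.factorization_le_iff_dvd Nat.card_pos.ne' Nat.card_pos.ne').2
        (Subgroup.card_subgroup_dvd_card C') p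
    · have h1 : Nat.card (Q' : Subgroup X) ∣ Nat.card C' := Subgroup.card_dvd_of_le hQC
      rw [Sylow.card_eq_multiplicity] at h1
      exact (Nat.Prime.pow_dvd_iff_le_factorization hp Nat.card_pos.ne').1 h1
  have c₁ : Nat.card (Q' : Subgroup X) = p ^ (Nat.card C').factorization p := by
    rw [hcardC]; exact Sylow.card_eq_multiplicity Q'
  have c₂ : Nat.card ((R : Subgroup C').map C'.subtype) = p ^ (Nat.card C').factorization p := by
    rw [Subgroup.card_map_of_injective (Subgroup.subtype_injective _)]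
    exact Sylow.card_eq_multiplicity R
  obtain ⟨c, hcC, hc⟩ := Cfsg.Agent.S4219.sylow_conj_in p C' (Q' : Subgroup X)
    ((R : Subgroup C').map C'.subtype) hQC (Subgroup.map_subtype_le _) c₁ c₂
  obtain ⟨h, hh⟩ := MulAction.exists_smul_eq X Q Q'
  have hQ'mem : ∀ z : X, z ∈ (Q' : Subgroup X) ↔ h⁻¹ * z * h ∈ (Q : Subgroup X) := by
    intro z
    rw [← hh, Sylow.coe_subgroup_smul, Subgroup.mem_pointwise_smul_iff_inv_smul_mem]
    simp [MulAut.smul_def]
  have hg1R : g ^ m ∈ (R : Subgroup C').map C'.subtype :=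
    ⟨⟨g ^ m, hg1C⟩, hR (Subgroup.mem_zpowers _), rfl⟩
  refine ⟨c⁻¹ * h, ?_⟩
  have hpowc : ∀ n : ℕ, ((c⁻¹ * h)⁻¹ * g * (c⁻¹ * h)) ^ n = (c⁻¹ * h)⁻¹ * g ^ n * (c⁻¹ * h) := by
    intro n
    induction n with
    | zero => simp
    | succ n ih => rw [pow_succ, ih, pow_succ]; group
  apply mem_of_pow_mem_of_coprime _ _ m (p ^ t) (Nat.Coprime.pow_right t hcopm)
  · rw [hpowc]
    apply Subgroup.le_normalizer
    have h1 := (hQ'mem _).1 ((hc _).1 hg1R)
    have e : (c⁻¹ * h)⁻¹ * g ^ m * (c⁻¹ * h) = h⁻¹ * (c * g ^ m * c⁻¹) * h := by group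
    rw [e]; exact h1
  · rw [hpowc]
    apply Subgroup.centralizer_le_normalizer
    rw [Subgroup.mem_centralizer_iff]
    intro q hq
    have hq' : h * q * h⁻¹ ∈ (Q' : Subgroup X) := by
      rw [hQ'mem]
      have e : h⁻¹ * (h * q * h⁻¹) * h = q := by group
      rw [e]; exact hq
    have h1 : h * q * h⁻¹ * g ^ (p ^ t) = g ^ (p ^ t) * (h * q * h⁻¹) := hQ' _ hq'
    have h2 : g ^ (p ^ t) * c = c * g ^ (p ^ t) := (hC'mem c).1 hcC
    have h2' : g ^ (p ^ t) * c⁻¹ = c⁻¹ * g ^ (p ^ t) := by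
      have e : g ^ (p ^ t) * c⁻¹ = c⁻¹ * (c * g ^ (p ^ t)) * c⁻¹ := by group
      rw [e, ← h2]; group
    have e1 : q * ((c⁻¹ * h)⁻¹ * g ^ (p ^ t) * (c⁻¹ * h))
        = h⁻¹ * ((h * q * h⁻¹) * c * (g ^ (p ^ t) * c⁻¹)) * h := by group
    have e2 : (c⁻¹ * h)⁻¹ * g ^ (p ^ t) * (c⁻¹ * h) * q
        = h⁻¹ * (c * (g ^ (p ^ t) * c⁻¹) * (h * q * h⁻¹)) * h := by group
    rw [e1, e2, h2']
    have e3 : h * q * h⁻¹ * c * (c⁻¹ * g ^ (p ^ t)) = h * q * h⁻¹ * g ^ (p ^ t) := by group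
    have e4 : c * (c⁻¹ * g ^ (p ^ t)) * (h * q * h⁻¹) = g ^ (p ^ t) * (h * q * h⁻¹) := by group
    rw [e3, e4, h1]

theorem lemDplus {X : Type*} [Group X] [Finite X] (p : ℕ) [Fact p.Prime]
    (hyp : ∀ y : X, (orderOf y).Coprime p → ∃ Q : Sylow p X, ∀ u ∈ (Q : Subgroup X), u * y = y * u) :
    ∃ K : Subgroup X, (∀ y : X, (orderOf y).Coprime p → y ∈ K) ∧ (Nat.card K).Coprime p ∧
      ∃ n : ℕ, K.index = p ^ n := by
  have hp : p.Prime := Fact.out
  obtain ⟨Q⟩ : Nonempty (Sylow p X) := inferInstance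
  have hQn : (Q : Subgroup X).Normal := lemD p hyp Q
  have hcent : ∀ y : X, (orderOf y).Coprime p → ∀ u ∈ (Q : Subgroup X), u * y = y * u := by
    intro y hy
    obtain ⟨Q₀, hQ₀⟩ := hyp y hy
    obtain ⟨g, hg⟩ := MulAction.exists_smul_eq X Q Q₀
    rw [Sylow.smul_eq_of_normal] at hg
    rw [hg]; exact hQ₀
  have hcop : (Nat.card (Q : Subgroup X)).Coprime (Q : Subgroup X).index := by
    rw [Sylow.card_eq_multiplicity]
    exact Nat.Coprime.pow_left _ ((Nat.Prime.coprime_iff_not_dvd hp).2 Q.not_dvd_index)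
  obtain ⟨K, hK⟩ := Subgroup.exists_right_complement'_of_coprime hcop
  have hKcard : Nat.card K = (Q : Subgroup X).index := (hK.symm.index_eq_card).symm
  have hKcop : (Nat.card K).Coprime p := by
    rw [hKcard]
    exact ((Nat.Prime.coprime_iff_not_dvd hp).2 Q.not_dvd_index).symm
  refine ⟨K, ?_, hKcop, (Nat.card X).factorization p, ?_⟩
  · intro y hy
    obtain ⟨⟨⟨u, hu⟩, ⟨k, hk⟩⟩, huk⟩ := hK.2 y
    have huk' : u * k = y := huk
    have hko : (orderOf k).Coprime p :=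
      Nat.Coprime.coprime_dvd_left (Subgroup.orderOf_dvd_natCard K hk) hKcop
    have hcomm : Commute u k := hcent k hko u hu
    have h1 : y ^ Nat.card K = u ^ Nat.card K := by
      rw [← huk', hcomm.mul_pow]
      have : k ^ Nat.card K = 1 := by
        have h2 : ((⟨k, hk⟩ : K) ^ Nat.card K : K) = 1 := pow_card_eq_one'
        have h3 : ((⟨k, hk⟩ : K) : X) ^ Nat.card K = ((1 : K) : X) := by
          rw [← Subgroup.coe_pow, h2]
        exact h3
      rw [this, mul_one]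
    obtain ⟨e, he⟩ := (IsPGroup.iff_orderOf.1 Q.isPGroup') ⟨u, hu⟩
    have he' : orderOf u = p ^ e := by rw [← he, Subgroup.orderOf_mk]
    have h2 : orderOf (u ^ Nat.card K) ∣ orderOf y := by rw [← h1]; exact orderOf_pow_dvd _
    have h3 : orderOf (u ^ Nat.card K) ∣ p ^ e := by rw [← he']; exact orderOf_pow_dvd _
    have h4 : orderOf (u ^ Nat.card K) = 1 :=
      Nat.eq_one_of_dvd_coprimes (Nat.Coprime.pow_right e hy) h2 h3
    have h5 : u ^ Nat.card K = 1 := orderOf_eq_one_iff.1 h4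
    have h6 : orderOf u ∣ Nat.card K := orderOf_dvd_of_pow_eq_one h5
    have h7 : orderOf u = 1 :=
      Nat.eq_one_of_dvd_coprimes (Nat.Coprime.pow_right e hKcop) h6 (he' ▸ dvd_refl _)
    have h8 : u = 1 := orderOf_eq_one_iff.1 h7
    rw [← huk', h8, one_mul]; exact hk
  · rw [hK.index_eq_card, Sylow.card_eq_multiplicity]

theorem lemAB {G : Type*} [Group G] [Finite G] (p : ℕ) [Fact p.Prime] (T : Subgroup G)
    (hT : IsPGroup p T) (x y : G) (hx : x ∈ T) (hyT : ∀ t ∈ T, y * t * y⁻¹ ∈ T) (hxy : x * y = y * x)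
    (hy : (orderOf y).Coprime p) (hcent : ∀ t ∈ T, t * x = x * t → t * y = y * t) :
    ∀ t ∈ T, t * y = y * t := by
  classical
  by_contra hcon
  push Not at hcon
  obtain ⟨u₀, hu₀T, hu₀⟩ := hcon
  let w : ℕ → G := fun j => Nat.rec u₀ (fun _ v => x * v * x⁻¹ * v⁻¹) j
  have hw0 : w 0 = u₀ := rfl
  have hws : ∀ j, w (j + 1) = x * w j * x⁻¹ * (w j)⁻¹ := fun j => rfl
  have hwT : ∀ j, w j ∈ T := by
    intro j
    induction j with
    | zero => exact hu₀T
    | succ j ih =>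
      rw [hws]
      exact T.mul_mem (T.mul_mem (T.mul_mem hx ih) (T.inv_mem hx)) (T.inv_mem ih)
  have hlcs : ∀ j, w j ∈ T.lowerCentralSeries j := by
    intro j
    induction j with
    | zero => exact hu₀T
    | succ j ih =>
      have h1 : ⁅w j, x⁆ ∈ T.lowerCentralSeries (j + 1) := by
        rw [Subgroup.lowerCentralSeries_succ]
        exact Subgroup.commutator_mem_commutator ih hx
      have h2 : w (j + 1) = ⁅w j, x⁆⁻¹ := by
        rw [hws, commutatorElement_def]; group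
      rw [h2]; exact Subgroup.inv_mem _ h1
  have hnil : Group.IsNilpotent T := hT.isNilpotent
  obtain ⟨n, hn⟩ := (Subgroup.isNilpotent_iff_lowerCentralSeries T).1 hnil
  have hwn : w n = 1 := by
    have := hlcs n
    rw [hn, Subgroup.mem_bot] at this
    exact this
  have hex : ∃ j, w j * y = y * w j := ⟨n, by rw [hwn, one_mul, mul_one]⟩
  have hj₀ : w (Nat.find hex) * y = y * w (Nat.find hex) := Nat.find_spec hex
  have hj₀pos : Nat.find hex ≠ 0 := by
    intro h0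
    apply hu₀
    rw [h0] at hj₀
    exact hj₀
  obtain ⟨i, hi⟩ : ∃ i, Nat.find hex = i + 1 := Nat.exists_eq_succ_of_ne_zero hj₀pos
  have hmin : ¬ (w i * y = y * w i) := Nat.find_min hex (by omega)
  rw [hi, hws] at hj₀
  obtain ⟨u, hu⟩ : ∃ u, u = w i := ⟨_, rfl⟩
  rw [← hu] at hj₀ hmin
  have huT : u ∈ T := hu ▸ hwT i
  have hu'T : y * u * y⁻¹ ∈ T := hyT u huT
  have e1 : x * (y * u * y⁻¹) * x⁻¹ * (y * u * y⁻¹)⁻¹ = x * u * x⁻¹ * u⁻¹ := by
    have e0 : x * (y * u * y⁻¹) * x⁻¹ * (y * u * y⁻¹)⁻¹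
        = (x * y) * u * (x * y)⁻¹ * y * u⁻¹ * y⁻¹ := by group
    rw [e0, hxy]
    have e0' : (y * x) * u * (y * x)⁻¹ * y * u⁻¹ * y⁻¹ = y * (x * u * x⁻¹ * u⁻¹) * y⁻¹ := by group
    rw [e0', ← hj₀, mul_inv_cancel_right]
  have hdT : u⁻¹ * (y * u * y⁻¹) ∈ T := T.mul_mem (T.inv_mem huT) hu'T
  have hdx : u⁻¹ * (y * u * y⁻¹) * x = x * (u⁻¹ * (y * u * y⁻¹)) := by
    have e2 : x * (u⁻¹ * (y * u * y⁻¹))
        = u⁻¹ * (x * u * x⁻¹ * u⁻¹)⁻¹ * (x * (y * u * y⁻¹) * x⁻¹ * (y * u * y⁻¹)⁻¹) * (y * u * y⁻¹) * x := by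
      group
    rw [e2, e1]; group
  have hdy := hcent _ hdT hdx
  obtain ⟨d, hd⟩ : ∃ d, d = u⁻¹ * (y * u * y⁻¹) := ⟨_, rfl⟩
  rw [← hd] at hdy hdT
  have hyu : y * u * y⁻¹ = u * d := by rw [hd]; group
  have hconj : ∀ j : ℕ, y ^ j * u * (y ^ j)⁻¹ = u * d ^ j := by
    intro j
    induction j with
    | zero => simp
    | succ j ih =>
      have e3 : y ^ (j + 1) * u * (y ^ (j + 1))⁻¹ = y * (y ^ j * u * (y ^ j)⁻¹) * y⁻¹ := by
        rw [pow_succ']; group
      rw [e3, ih]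
      have e4 : y * (u * d ^ j) * y⁻¹ = (y * u * y⁻¹) * (y * d ^ j * y⁻¹) := by group
      have e5 : y * d ^ j * y⁻¹ = d ^ j := by
        have hc : Commute (d ^ j) y := Commute.pow_left hdy j
        rw [← hc.eq, mul_inv_cancel_right]
      rw [e4, e5, hyu, pow_succ', mul_assoc]
  have h1 := hconj (orderOf y)
  rw [pow_orderOf_eq_one] at h1
  simp only [one_mul, inv_one, mul_one] at h1
  have h2 : d ^ orderOf y = 1 := by
    have e : d ^ orderOf y = u⁻¹ * (u * d ^ orderOf y) := by group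
    rw [e, ← h1, inv_mul_cancel]
  obtain ⟨e, he⟩ := (IsPGroup.iff_orderOf.1 hT) ⟨d, hdT⟩
  have he' : orderOf d = p ^ e := by rw [← he, Subgroup.orderOf_mk]
  have h3 : orderOf d = 1 :=
    Nat.eq_one_of_dvd_coprimes (Nat.Coprime.pow_right e hy) (orderOf_dvd_of_pow_eq_one h2)
      (he' ▸ dvd_refl _)
  have h4 : d = 1 := orderOf_eq_one_iff.1 h3
  rw [h4, mul_one] at hyu
  apply hmin
  have e6 : y * u = (y * u * y⁻¹) * y := by group
  rw [e6, hyu]

/-- Let G be a finite group, p a prime and p^a the largest power of p dividing the size of any conjugacy class of G. If some element of p-power order has a conjugacy class of size exactly p^a, then G has a normal p-complement. -/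
theorem result {G : Type*} [Group G] [Finite G] (p : ℕ) [Fact p.Prime]
    (a : ℕ) (hmax : ∀ y : G, ¬ p ^ (a + 1) ∣ (Subgroup.centralizer ({y} : Set G)).index)
    (hx : ∃ x : G, (∃ k : ℕ, orderOf x = p ^ k) ∧ (Subgroup.centralizer ({x} : Set G)).index = p ^ a) :
    Cfsg.HasNormalPComplement p G := by
  classical
  obtain ⟨x, ⟨k, hk⟩, hxa⟩ := hx
  have hp : p.Prime := Fact.out
  obtain ⟨C, hC⟩ : ∃ C : Subgroup G, C = Subgroup.centralizer ({x} : Set G) := ⟨_, rfl⟩
  rw [← hC] at hxa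
  have hCmem : ∀ g, g ∈ C ↔ x * g = g * x := fun g => by
    rw [hC, Subgroup.mem_centralizer_iff]; simp
  have hzp : IsPGroup p (Subgroup.zpowers x) :=
    IsPGroup.of_card (n := k) (by rw [Nat.card_zpowers, hk])
  obtain ⟨P, hP⟩ := hzp.exists_le_sylow
  have hxP : x ∈ (P : Subgroup G) := hP (Subgroup.mem_zpowers x)
  have hcopidx : C.index.Coprime (P : Subgroup G).index := by
    rw [hxa]; exact Nat.Coprime.pow_left _ ((Nat.Prime.coprime_iff_not_dvd hp).2 P.not_dvd_index)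
  have hconjP : ∀ g : G, g * x * g⁻¹ ∈ (P : Subgroup G) := by
    intro g
    obtain ⟨β, hβ, α, hα, rfl⟩ :=
      Cfsg.Agent.Lib.Helper23.exists_mul_of_coprime_index C (P : Subgroup G) hcopidx g
    have hαx : x * α = α * x := (hCmem α).1 hα
    have e : β * α * x * (β * α)⁻¹ = β * ((α * x) * α⁻¹) * β⁻¹ := by group
    rw [e, ← hαx, mul_inv_cancel_right]
    exact (P : Subgroup G).mul_mem ((P : Subgroup G).mul_mem hβ hxP) ((P : Subgroup G).inv_mem hβ)
  obtain ⟨T, hTdef⟩ : ∃ T : Subgroup G, T = Subgroup.normalClosure ({x} : Set G) := ⟨_, rfl⟩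
  have hTP : T ≤ (P : Subgroup G) := by
    rw [hTdef]
    change Subgroup.closure (Group.conjugatesOfSet {x}) ≤ _
    rw [Subgroup.closure_le]
    intro z hz
    have hz' := Group.mem_conjugatesOfSet_iff.1 hz
    obtain ⟨x', hx', hconj⟩ := hz'
    rw [Set.mem_singleton_iff] at hx'; subst hx'
    obtain ⟨c, rfl⟩ := isConj_iff.1 hconj
    exact hconjP c
  have hTp : IsPGroup p T := P.isPGroup'.to_le hTP
  have hTn : T.Normal := hTdef ▸ Subgroup.normalClosure_normal
  have hxT : x ∈ T := hTdef ▸ Subgroup.subset_normalClosure (Set.mem_singleton x)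
  have hyp : ∀ y : C, (orderOf y).Coprime p →
      ∃ Q : Sylow p C, ∀ u ∈ (Q : Subgroup C), u * y = y * u := by
    intro y hy
    have hyo : (orderOf (y : G)).Coprime p := by rwa [Subgroup.orderOf_coe]
    have hxy : Commute x (y : G) := (hCmem y).1 y.2
    have hcopxy : (orderOf x).Coprime (orderOf (y : G)) := by
      rw [hk]; exact (Nat.Coprime.pow_right k hyo).symm
    obtain ⟨m₁, hm₁⟩ := exists_pow_eq_self_of_coprime hcopxy.symm
    obtain ⟨m₂, hm₂⟩ := exists_pow_eq_self_of_coprime hcopxy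
    have hx' : ((x * (y : G)) ^ orderOf (y : G)) ^ m₁ = x := by
      rw [hxy.mul_pow, pow_orderOf_eq_one, mul_one, hm₁]
    have hy' : ((x * (y : G)) ^ orderOf x) ^ m₂ = (y : G) := by
      rw [hxy.mul_pow, pow_orderOf_eq_one, one_mul, hm₂]
    have hcen : ∀ g : G, g ∈ Subgroup.centralizer ({x * (y : G)} : Set G) →
        x * g = g * x ∧ (y : G) * g = g * (y : G) := by
      intro g hg
      rw [Subgroup.mem_centralizer_iff] at hg
      have hg' : Commute (x * (y : G)) g := hg _ rfl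
      constructor
      · have := (hg'.pow_left (orderOf (y : G))).pow_left m₁
        rw [hx'] at this
        exact this.eq
      · have := (hg'.pow_left (orderOf x)).pow_left m₂
        rw [hy'] at this
        exact this.eq
    have hle : Subgroup.centralizer ({x * (y : G)} : Set G) ≤ C :=
      fun g hg => (hCmem g).2 (hcen g hg).1
    have hnd : ¬ p ∣ ((Subgroup.centralizer ({x * (y : G)} : Set G)).subgroupOf C).index := by
      intro hd
      apply hmax (x * (y : G))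
      have h1 : (Subgroup.centralizer ({x * (y : G)} : Set G)).relIndex C * C.index
          = (Subgroup.centralizer ({x * (y : G)} : Set G)).index := Subgroup.relIndex_mul_index hle
      rw [← h1, hxa, pow_succ']
      exact Nat.mul_dvd_mul hd (dvd_refl _)
    obtain ⟨Q, hQ⟩ := exists_sylow_le_of_not_dvd_index p _ hnd
    refine ⟨Q, fun u hu => ?_⟩
    have := (hcen (u : G) (Subgroup.mem_subgroupOf.1 (hQ hu))).2
    exact Subtype.ext this.symm
  obtain ⟨K', hK'1, hK'2, n, hK'3⟩ := lemDplus p hyp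
  have hcentT : ∀ y : C, (orderOf y).Coprime p → ∀ t ∈ T, t * (y : G) = (y : G) * t := by
    intro y hy
    obtain ⟨Q, hQ⟩ := hyp y hy
    apply lemAB p T hTp x (y : G) hxT (fun t ht => hTn.conj_mem t ht _) ((hCmem y).1 y.2)
      (by rwa [Subgroup.orderOf_coe])
    intro t ht htx
    have htC : t ∈ C := (hCmem t).2 htx.symm
    have hsub : T.subgroupOf C ≤ (Q : Subgroup C) :=
      normal_pgroup_le_sylow' p _ (hTn.subgroupOf C) hTp.comap_subtype Q
    have := hQ ⟨t, htC⟩ (hsub (Subgroup.mem_subgroupOf.2 ht))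
    exact congrArg Subtype.val this
  have hKn : (K'.map C.subtype).Normal := by
    constructor
    rintro _ ⟨k', hk', rfl⟩ g
    have hko : (orderOf k').Coprime p :=
      Nat.Coprime.coprime_dvd_left (Subgroup.orderOf_dvd_natCard K' hk') hK'2
    have hcT := hcentT k' hko
    have hconjT : ∀ t ∈ T, t * (g * (k' : G) * g⁻¹) = (g * (k' : G) * g⁻¹) * t := by
      intro t ht
      have h1 := hcT (g⁻¹ * t * g) (by have := hTn.conj_mem t ht g⁻¹; simpa using this)
      have e1 : t * (g * (k' : G) * g⁻¹) = g * ((g⁻¹ * t * g) * (k' : G)) * g⁻¹ := by group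
      rw [e1, h1]; group
    have hgC : g * (k' : G) * g⁻¹ ∈ C := (hCmem _).2 (hconjT x hxT)
    have ho : (orderOf (⟨g * (k' : G) * g⁻¹, hgC⟩ : C)).Coprime p := by
      have h2 : orderOf (g * (k' : G) * g⁻¹) = orderOf (k' : G) := by
        rw [← MulAut.conj_apply]; exact MulEquiv.orderOf_eq _ _
      rw [Subgroup.orderOf_mk, h2, Subgroup.orderOf_coe]; exact hko
    exact ⟨⟨_, hgC⟩, hK'1 _ ho, rfl⟩
  refine ⟨P, K'.map C.subtype, hKn, ?_⟩
  have hKc : Nat.card (K'.map C.subtype) = Nat.card K' :=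
    Subgroup.card_map_of_injective (Subgroup.subtype_injective _)
  have hG : Nat.card G = Nat.card K' * p ^ (n + a) := by
    rw [← Subgroup.card_mul_index C, ← Subgroup.card_mul_index K', hK'3, hxa, pow_add, mul_assoc]
  obtain ⟨e₀, he₀⟩ := IsPGroup.iff_card.1 P.isPGroup'
  have e1 : Nat.card (P : Subgroup G) * (P : Subgroup G).index = Nat.card G :=
    Subgroup.card_mul_index _
  have hPK : (p ^ e₀).Coprime (Nat.card K') := Nat.Coprime.pow_left e₀ hK'2.symm
  have d1 : p ^ e₀ ∣ p ^ (n + a) := by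
    apply hPK.dvd_of_dvd_mul_left
    rw [← hG, ← e1, he₀]
    exact dvd_mul_right _ _
  have d2 : p ^ (n + a) ∣ p ^ e₀ := by
    have hc : (p ^ (n + a)).Coprime (P : Subgroup G).index :=
      Nat.Coprime.pow_left _ ((Nat.Prime.coprime_iff_not_dvd hp).2 P.not_dvd_index)
    apply hc.dvd_of_dvd_mul_right
    rw [← he₀, e1, hG]
    exact dvd_mul_left _ _
  have hPc : Nat.card (P : Subgroup G) = p ^ (n + a) := by
    rw [he₀]; exact Nat.dvd_antisymm d1 d2
  apply Subgroup.isComplement'_of_coprime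
  · rw [hKc, hPc, hG]
  · rw [hKc, hPc]; exact Nat.Coprime.pow_right _ hK'2

end Cfsg.Agent.S4127
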