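import Cfsg.Statements.S4145
import Mathlib
import Cfsg.Agent.Lib.Helper1.Basic
import Cfsg.Agent.Lib.Helper1.Burnside
import Cfsg.Agent.S4127

set_option autoImplicit false
open Cfsg

namespace Cfsg.Agent.S4145

open scoped Pointwise

theorem cyc1 {G : Type*} [Group G] [Finite G] (P : Subgroup G) (g : G)
    (hgen : ∀ x ∈ P, x ∈ Subgroup.zpowers g) (hgP : g ∈ P) (h : G)
    (hh : ∀ x ∈ P, h * x * h⁻¹ ∈ P) :
    ∃ k : ℕ, 1 ≤ k ∧ h * g * h⁻¹ = g ^ k ∧ ∀ x ∈ P, h * x * h⁻¹ = x ^ k := by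
  have h1 := hgen _ (hh g hgP)
  rw [← mem_powers_iff_mem_zpowers] at h1
  obtain ⟨k₀, hk₀⟩ := (Submonoid.mem_powers_iff _ _).mp h1
  have hk : h * g * h⁻¹ = g ^ (k₀ + orderOf g) := by
    rw [pow_add, pow_orderOf_eq_one, mul_one, hk₀]
  refine ⟨k₀ + orderOf g, by have := orderOf_pos g; omega, hk, ?_⟩
  intro x hx
  obtain ⟨i, rfl⟩ := Subgroup.mem_zpowers_iff.mp (hgen x hx)
  rw [← conj_zpow, hk, ← zpow_natCast, ← zpow_natCast (g ^ i), ← zpow_mul, ← zpow_mul, mul_comm]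

theorem cyc2 {G : Type*} [Group G] (p : ℕ) [Fact p.Prime] (g h : G) (c k : ℕ)
    (hg : orderOf g = p ^ c) (hk : h * g * h⁻¹ = g ^ k) (hk1 : k ≡ 1 [MOD p]) :
    h ^ (p ^ c) * g * (h ^ (p ^ c))⁻¹ = g := by
  have hpow : ∀ j : ℕ, h ^ j * g * (h ^ j)⁻¹ = g ^ (k ^ j) := by
    intro j
    induction j with
    | zero => simp
    | succ j ih =>
      have e : h ^ (j + 1) * g * (h ^ (j + 1))⁻¹ = h * (h ^ j * g * (h ^ j)⁻¹) * h⁻¹ := by
        rw [pow_succ']; group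
      rw [e, ih, ← conj_pow, hk, ← pow_mul, ← pow_succ']
  rw [hpow]
  have h1 : k ^ p ^ c ≡ 1 [MOD orderOf g] := by
    rw [hg]
    have h2 : (p : ℤ) ∣ (k : ℤ) - 1 := by
      have h5 := Nat.modEq_iff_dvd.mp hk1.symm
      simpa using h5
    have h3 := dvd_sub_pow_of_dvd_sub h2 c
    have h4 : ((p ^ c : ℕ) : ℤ) ∣ ((k ^ p ^ c : ℕ) : ℤ) - ((1 : ℕ) : ℤ) := by
      push_cast
      rw [one_pow] at h3
      exact (Dvd.intro _ (pow_succ (p : ℤ) c).symm).trans h3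
    exact (Nat.modEq_iff_dvd.mpr h4).symm
  have h6 := (pow_eq_pow_iff_modEq).mpr h1
  rw [h6, pow_one]

theorem mem_sylow_of_normalizes {X : Type*} [Group X] [Finite X] (p : ℕ) [Fact p.Prime]
    (S : Sylow p X) (y : X) (hy : y ∈ Subgroup.normalizer ((S : Subgroup X) : Set X)) (e : ℕ)
    (hye : y ^ p ^ e = 1) : y ∈ (S : Subgroup X) := by
  have hZ : IsPGroup p (Subgroup.zpowers y) := by
    rintro ⟨w, hw⟩
    obtain ⟨i, rfl⟩ := Subgroup.mem_zpowers_iff.mp hw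
    refine ⟨e, Subtype.ext ?_⟩
    show (y ^ i) ^ p ^ e = 1
    rw [← zpow_natCast, ← zpow_mul, mul_comm, zpow_mul, zpow_natCast, hye, one_zpow]
  have hle : Subgroup.zpowers y ≤ Subgroup.normalizer ((S : Subgroup X) : Set X) :=
    Subgroup.zpowers_le.mpr hy
  have hsup := IsPGroup.to_sup_of_normal_right' hZ S.isPGroup' hle
  have h1 := S.is_maximal' hsup le_sup_right
  rw [← h1]
  exact Subgroup.mem_sup_left (Subgroup.mem_zpowers y)

theorem compl_mem_iff {X : Type*} [Group X] [Finite X] (p : ℕ) [Fact p.Prime]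
    (S : Sylow p X) (N : Subgroup X) [N.Normal] (hc : N.IsComplement' (S : Subgroup X)) (x : X) :
    x ∈ N ↔ (orderOf x).Coprime p := by
  have hp : p.Prime := Fact.out
  have hNcard : Nat.card N = (S : Subgroup X).index := hc.index_eq_card.symm
  have hNidx : N.index = Nat.card (S : Subgroup X) := hc.symm.index_eq_card
  constructor
  · intro hx
    have h1 : orderOf x ∣ Nat.card N := Subgroup.orderOf_dvd_natCard N hx
    rw [hNcard] at h1
    exact Nat.Coprime.coprime_dvd_left h1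
      ((Nat.Prime.coprime_iff_not_dvd hp).mpr S.not_dvd_index).symm
  · intro hx
    have h1 := Subgroup.pow_index_mem N x
    obtain ⟨a, ha⟩ := IsPGroup.iff_card.mp S.isPGroup'
    rw [hNidx, ha] at h1
    obtain ⟨m, hm⟩ := exists_pow_eq_self_of_coprime (Nat.Coprime.pow_left a hx.symm)
    rw [← hm]
    exact N.pow_mem h1 m

theorem map_normal_of_char {G : Type*} [Group G] (p : ℕ) (C : Subgroup G) [hC : C.Normal]
    (N : Subgroup ↥C) (hN : ∀ x : ↥C, x ∈ N ↔ (orderOf x).Coprime p) :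
    (N.map C.subtype).Normal := by
  constructor
  rintro _ ⟨x, hx, rfl⟩ g
  have hmem : g * (x : G) * g⁻¹ ∈ C := hC.conj_mem _ x.2 g
  refine ⟨⟨g * (x : G) * g⁻¹, hmem⟩, (hN _).mpr ?_, rfl⟩
  rw [Subgroup.orderOf_mk]
  have e : g * (x : G) * g⁻¹ = MulAut.conj g (x : G) := by simp [MulAut.conj_apply]
  rw [e, MulEquiv.orderOf_eq, Subgroup.orderOf_coe]
  exact (hN x).mp hx

theorem comm_of_gen {G : Type*} [Group G] (P : Subgroup G) (g : G)
    (hgen : ∀ x ∈ P, x ∈ Subgroup.zpowers g) :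
    ∀ a ∈ P, ∀ b ∈ P, a * b = b * a := by
  intro a ha b hb
  obtain ⟨i, rfl⟩ := Subgroup.mem_zpowers_iff.mp (hgen a ha)
  obtain ⟨j, rfl⟩ := Subgroup.mem_zpowers_iff.mp (hgen b hb)
  exact ((Commute.refl g).zpow_zpow i j).eq

theorem pprime_centralizes {G : Type*} [Group G] [Finite G] (p : ℕ) [Fact p.Prime]
    (P : Sylow p G) (g : G) (hgP : g ∈ (P : Subgroup G))
    (hgen : ∀ x ∈ (P : Subgroup G), x ∈ Subgroup.zpowers g)
    (H : Subgroup G) [hHn : H.Normal] (hPH : ¬ (P : Subgroup G) ≤ H)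
    (y : G) (hyH : y ∈ H)
    (hyn : ∀ u, u ∈ (P : Subgroup G) ⊓ H → y * u * y⁻¹ ∈ (P : Subgroup G) ⊓ H)
    (hyn' : ∀ u, u ∈ (P : Subgroup G) ⊓ H → y⁻¹ * u * y ∈ (P : Subgroup G) ⊓ H)
    (s : ℕ) (hs : s.Coprime p) (hys : y ^ s = 1) :
    ∀ u ∈ (P : Subgroup G) ⊓ H, y * u * y⁻¹ = u := by
  have hp : p.Prime := Fact.out
  have hPcomm := comm_of_gen (P : Subgroup G) g hgen
  obtain ⟨c, hc⟩ : ∃ c, orderOf g = p ^ c := by
    obtain ⟨a, ha⟩ := IsPGroup.iff_card.mp P.isPGroup'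
    have h1 : orderOf g ∣ p ^ a := ha ▸ Subgroup.orderOf_dvd_natCard _ hgP
    obtain ⟨c, -, hc⟩ := (Nat.dvd_prime_pow hp).mp h1
    exact ⟨c, hc⟩
  obtain ⟨P₀, hP₀⟩ : ∃ P₀ : Subgroup G, P₀ = (P : Subgroup G) ⊓ H := ⟨_, rfl⟩
  rw [← hP₀] at hyn hyn' ⊢
  have hP₀P : P₀ ≤ (P : Subgroup G) := hP₀ ▸ inf_le_left
  obtain ⟨L, hL⟩ : ∃ L : Subgroup G,
      L = Subgroup.centralizer (P₀ : Set G) ⊓ (H ⊔ (P : Subgroup G)) := ⟨_, rfl⟩
  have hPL : (P : Subgroup G) ≤ L := by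
    rw [hL]
    refine le_inf ?_ le_sup_right
    intro x hx
    rw [Subgroup.mem_centralizer_iff]
    intro u hu
    exact hPcomm u (hP₀P hu) x hx
  obtain ⟨Q₂, hQ₂⟩ : ∃ Q₂ : Subgroup G,
      Q₂ = (P : Subgroup G).map (MulAut.conj y).toMonoidHom := ⟨_, rfl⟩
  have hQ₂mem : ∀ z, z ∈ Q₂ ↔ ∃ x ∈ (P : Subgroup G), y * x * y⁻¹ = z := by
    intro z; rw [hQ₂]; exact Iff.rfl
  have hQ₂L : Q₂ ≤ L := by
    intro z hz
    obtain ⟨x, hx, rfl⟩ := (hQ₂mem z).mp hz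
    rw [hL]
    refine Subgroup.mem_inf.mpr ⟨?_, ?_⟩
    · rw [Subgroup.mem_centralizer_iff]
      intro u hu
      have h1 := hPcomm _ (hP₀P (hyn' u hu)) x hx
      have e1 : u * (y * x * y⁻¹) = y * ((y⁻¹ * u * y) * x) * y⁻¹ := by group
      have e2 : y * x * y⁻¹ * u = y * (x * (y⁻¹ * u * y)) * y⁻¹ := by group
      rw [e1, e2, h1]
    · have e1 : y * x * y⁻¹ = (y * (x * y⁻¹ * x⁻¹)) * x := by group
      rw [e1]
      exact Subgroup.mul_mem_sup (H.mul_mem hyH (hHn.conj_mem _ (H.inv_mem hyH) x)) hx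
  have hcardP : Nat.card (P : Subgroup G) = p ^ (Nat.card L).factorization p := by
    have h0 := Sylow.card_eq_multiplicity P
    rw [h0]
    congr 1
    apply le_antisymm
    · have h1 : p ^ (Nat.card G).factorization p ∣ Nat.card L := by
        rw [← h0]
        exact Subgroup.card_dvd_of_le hPL
      exact (Nat.Prime.pow_dvd_iff_le_factorization hp Nat.card_pos.ne').mp h1
    · exact (Nat.factorization_le_iff_dvd Nat.card_pos.ne' Nat.card_pos.ne').mpr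
        (Subgroup.card_subgroup_dvd_card L) p
  have hcardQ : Nat.card Q₂ = p ^ (Nat.card L).factorization p := by
    rw [hQ₂, Subgroup.card_map_of_injective (MulAut.conj y).injective, hcardP]
  obtain ⟨cc, hccL, hcc⟩ := Cfsg.Agent.S4219.sylow_conj_in p L (P : Subgroup G) Q₂ hPL hQ₂L
    hcardP hcardQ
  rw [hL] at hccL
  obtain ⟨hccC, hccHP⟩ := Subgroup.mem_inf.mp hccL
  obtain ⟨h₁, hh₁, g₁, hg₁, hcceq⟩ : ∃ h₁ ∈ H, ∃ g₁ ∈ (P : Subgroup G), cc = h₁ * g₁ := by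
    have h1 := hccHP
    rw [← SetLike.mem_coe, Subgroup.normal_mul] at h1
    obtain ⟨a, ha, b, hb, hab⟩ := Set.mem_mul.mp h1
    exact ⟨a, ha, b, hb, hab.symm⟩
  obtain ⟨h, hhdef⟩ : ∃ h, h = cc * y * g₁⁻¹ := ⟨_, rfl⟩
  have hhH : h ∈ H := by
    rw [hhdef, hcceq]
    have e : h₁ * g₁ * y * g₁⁻¹ = h₁ * (g₁ * y * g₁⁻¹) := by group
    rw [e]; exact H.mul_mem hh₁ (hHn.conj_mem _ hyH g₁)
  have hhP : ∀ x ∈ (P : Subgroup G), h * x * h⁻¹ ∈ (P : Subgroup G) := by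
    intro x hx
    have h1 : g₁⁻¹ * x * g₁ ∈ (P : Subgroup G) :=
      (P : Subgroup G).mul_mem ((P : Subgroup G).mul_mem ((P : Subgroup G).inv_mem hg₁) hx) hg₁
    have h2 : y * (g₁⁻¹ * x * g₁) * y⁻¹ ∈ Q₂ := (hQ₂mem _).mpr ⟨_, h1, rfl⟩
    have h3 := (hcc _).mp h2
    have e : h * x * h⁻¹ = cc * (y * (g₁⁻¹ * x * g₁) * y⁻¹) * cc⁻¹ := by rw [hhdef]; group
    rw [e]; exact h3
  have hhu : ∀ u ∈ P₀, h * u * h⁻¹ = y * u * y⁻¹ := by
    intro u hu
    have h1 : g₁⁻¹ * u * g₁ = u := by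
      have h0 := hPcomm u (hP₀P hu) g₁ hg₁
      rw [mul_assoc, h0]; group
    have h2 : cc * (y * u * y⁻¹) * cc⁻¹ = y * u * y⁻¹ := by
      have h0 := Subgroup.mem_centralizer_iff.mp hccC _ (hyn u hu)
      rw [← h0]; group
    have e : h * u * h⁻¹ = cc * (y * (g₁⁻¹ * u * g₁) * y⁻¹) * cc⁻¹ := by rw [hhdef]; group
    rw [e, h1, h2]
  obtain ⟨k, hk1, hkg, hkx⟩ := cyc1 (P : Subgroup G) g hgen hgP h hhP
  have hkp : k ≡ 1 [MOD p] := by
    by_contra hne
    apply hPH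
    obtain ⟨k', rfl⟩ : ∃ k', k = k' + 1 := ⟨k - 1, by omega⟩
    have h1 : g ^ k' ∈ H := by
      have h2 : h * (g * h⁻¹ * g⁻¹) ∈ H := H.mul_mem hhH (hHn.conj_mem _ (H.inv_mem hhH) g)
      have e : h * (g * h⁻¹ * g⁻¹) = (h * g * h⁻¹) * g⁻¹ := by group
      rw [e, hkg, pow_succ, mul_inv_cancel_right] at h2
      exact h2
    have hnd : ¬ p ∣ k' := by
      intro hd
      apply hne
      have h3 := (Nat.modEq_zero_iff_dvd.mpr hd).add_right 1
      simpa using h3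
    have hcop : Nat.Coprime k' (orderOf g) := by
      rw [hc]
      exact Nat.Coprime.pow_right c ((Nat.Prime.coprime_iff_not_dvd hp).mpr hnd).symm
    obtain ⟨m, hm⟩ := exists_pow_eq_self_of_coprime hcop
    have hgH : g ∈ H := by rw [← hm]; exact H.pow_mem h1 m
    intro x hx
    obtain ⟨i, rfl⟩ := Subgroup.mem_zpowers_iff.mp (hgen x hx)
    exact H.zpow_mem hgH i
  have h3 := cyc2 p g h c k hc hkg hkp
  have h4 : ∀ x ∈ (P : Subgroup G), h ^ p ^ c * x * (h ^ p ^ c)⁻¹ = x := by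
    intro x hx
    obtain ⟨i, rfl⟩ := Subgroup.mem_zpowers_iff.mp (hgen x hx)
    rw [← conj_zpow, h3]
  have h5 : ∀ j : ℕ, ∀ u ∈ P₀, y ^ j * u * (y ^ j)⁻¹ = h ^ j * u * (h ^ j)⁻¹ ∧
      y ^ j * u * (y ^ j)⁻¹ ∈ P₀ := by
    intro j
    induction j with
    | zero => intro u hu; simpa using hu
    | succ j ih =>
      intro u hu
      obtain ⟨e1, m1⟩ := ih u hu
      have ey : y ^ (j + 1) * u * (y ^ (j + 1))⁻¹ = y * (y ^ j * u * (y ^ j)⁻¹) * y⁻¹ := by
        rw [pow_succ']; group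
      have eh : h ^ (j + 1) * u * (h ^ (j + 1))⁻¹ = h * (h ^ j * u * (h ^ j)⁻¹) * h⁻¹ := by
        rw [pow_succ']; group
      rw [ey, eh, ← e1, hhu _ m1]
      exact ⟨rfl, hyn _ m1⟩
  have h6 : ∀ u ∈ P₀, y ^ p ^ c * u * (y ^ p ^ c)⁻¹ = u := by
    intro u hu
    rw [(h5 (p ^ c) u hu).1]; exact h4 u (hP₀P hu)
  have hcop : Nat.Coprime (p ^ c) (orderOf y) :=
    Nat.Coprime.pow_left c (Nat.Coprime.coprime_dvd_right (orderOf_dvd_of_pow_eq_one hys) hs.symm)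
  obtain ⟨t, ht⟩ := exists_pow_eq_self_of_coprime hcop
  intro u hu
  have h7 : Commute (y ^ p ^ c) u := by
    have h0 := h6 u hu
    show y ^ p ^ c * u = u * y ^ p ^ c
    calc y ^ p ^ c * u = (y ^ p ^ c * u * (y ^ p ^ c)⁻¹) * y ^ p ^ c := by group
      _ = u * y ^ p ^ c := by rw [h0]
  have h8 : Commute y u := by
    have h9 := h7.pow_left t
    rw [ht] at h9
    exact h9
  calc y * u * y⁻¹ = u * y * y⁻¹ := by rw [h8.eq]
    _ = u := by group

theorem part1 {G : Type*} [Group G] [Finite G] (p : ℕ) [Fact p.Prime]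
    (P : Sylow p G) (g : G) (hgP : g ∈ (P : Subgroup G))
    (hgen : ∀ x ∈ (P : Subgroup G), x ∈ Subgroup.zpowers g)
    (H : Subgroup G) [hHn : H.Normal] (hPH : ¬ (P : Subgroup G) ≤ H)
    (S : Sylow p ↥H)
    (hS : ∀ x : ↥H, x ∈ (S : Subgroup ↥H) ↔ (x : G) ∈ (P : Subgroup G)) :
    Subgroup.normalizer ((S : Subgroup ↥H) : Set ↥H) ≤
      Subgroup.centralizer ((S : Subgroup ↥H) : Set ↥H) := by
  have hp : p.Prime := Fact.out
  have hPcomm := comm_of_gen (P : Subgroup G) g hgen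
  have hnorm : ∀ z : ↥H, z ∈ Subgroup.normalizer ((S : Subgroup ↥H) : Set ↥H) →
      ∀ u, u ∈ (P : Subgroup G) ⊓ H → (z : G) * u * (z : G)⁻¹ ∈ (P : Subgroup G) ⊓ H := by
    intro z hz u hu
    obtain ⟨huP, huH⟩ := Subgroup.mem_inf.mp hu
    have h1 : (⟨u, huH⟩ : ↥H) ∈ (S : Subgroup ↥H) := (hS _).mpr huP
    have h2 := (Subgroup.mem_normalizer_iff.mp hz _).mp h1
    have h3 : ((z * ⟨u, huH⟩ * z⁻¹ : ↥H) : G) ∈ (P : Subgroup G) := (hS _).mp h2
    exact Subgroup.mem_inf.mpr ⟨h3, (z * ⟨u, huH⟩ * z⁻¹ : ↥H).2⟩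
  have hcent : ∀ z : ↥H, (∀ u ∈ (P : Subgroup G) ⊓ H, (z : G) * u * (z : G)⁻¹ = u) →
      z ∈ Subgroup.centralizer ((S : Subgroup ↥H) : Set ↥H) := by
    intro z hz
    rw [Subgroup.mem_centralizer_iff]
    intro s hs
    have h1 := hz (s : G) (Subgroup.mem_inf.mpr ⟨(hS s).mp hs, s.2⟩)
    apply Subtype.ext
    show (s : G) * (z : G) = (z : G) * (s : G)
    calc (s : G) * (z : G) = ((z : G) * (s : G) * (z : G)⁻¹) * (z : G) := by rw [h1]
      _ = (z : G) * (s : G) := by group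
  intro y hy
  obtain ⟨e, r, hr, her⟩ := Nat.exists_eq_pow_mul_and_not_dvd (orderOf_pos y).ne' p hp.ne_one
  have hrp : Nat.Coprime r p := ((Nat.Prime.coprime_iff_not_dvd hp).mpr hr).symm
  apply Cfsg.Agent.S4127.mem_of_pow_mem_of_coprime _ y r (p ^ e) (Nat.Coprime.pow_right e hrp)
  · have h1 : y ^ r ∈ Subgroup.normalizer ((S : Subgroup ↥H) : Set ↥H) := Subgroup.pow_mem _ hy r
    have h2 : (y ^ r) ^ p ^ e = 1 := by
      rw [← pow_mul, mul_comm, ← her]; exact pow_orderOf_eq_one y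
    have h3 := mem_sylow_of_normalizes p S (y ^ r) h1 e h2
    rw [Subgroup.mem_centralizer_iff]
    intro s hs
    apply Subtype.ext
    exact hPcomm _ ((hS s).mp hs) _ ((hS _).mp h3)
  · have h1 : y ^ p ^ e ∈ Subgroup.normalizer ((S : Subgroup ↥H) : Set ↥H) :=
      Subgroup.pow_mem _ hy _
    have h1' : (y ^ p ^ e)⁻¹ ∈ Subgroup.normalizer ((S : Subgroup ↥H) : Set ↥H) :=
      Subgroup.inv_mem _ h1
    apply hcent
    apply pprime_centralizes p P g hgP hgen H hPH _ (y ^ p ^ e).2 (hnorm _ h1) _ r hrp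
    · have h2 : (y ^ p ^ e) ^ r = 1 := by
        rw [← pow_mul, ← her]; exact pow_orderOf_eq_one y
      have h3 := congrArg Subtype.val h2
      simpa using h3
    · intro u hu
      have h4 := hnorm _ h1' u hu
      simpa using h4

theorem part2 {G : Type*} [Group G] [Finite G] (p : ℕ) [Fact p.Prime]
    (P : Sylow p G) (g : G) (hgP : g ∈ (P : Subgroup G))
    (hgen : ∀ x ∈ (P : Subgroup G), x ∈ Subgroup.zpowers g)
    (H : Subgroup G) [hHn : H.Normal] (hpH : p ∣ Nat.card H)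
    (S : Sylow p ↥H)
    (hS : ∀ x : ↥H, x ∈ (S : Subgroup ↥H) ↔ (x : G) ∈ (P : Subgroup G))
    (Kh : Subgroup ↥H) (hKmem : ∀ x : ↥H, x ∈ Kh ↔ (orderOf x).Coprime p)
    (hdecomp : ∀ h : ↥H, ∃ k ∈ Kh, ∃ u ∈ (S : Subgroup ↥H), h = k * u) :
    Cfsg.IsPSolvable p G := by
  have hp : p.Prime := Fact.out
  have hPcomm := comm_of_gen (P : Subgroup G) g hgen
  obtain ⟨c, hc⟩ : ∃ c, orderOf g = p ^ c := by
    obtain ⟨a, ha⟩ := IsPGroup.iff_card.mp P.isPGroup'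
    have h1 : orderOf g ∣ p ^ a := ha ▸ Subgroup.orderOf_dvd_natCard _ hgP
    obtain ⟨c, -, hc⟩ := (Nat.dvd_prime_pow hp).mp h1
    exact ⟨c, hc⟩
  have hKn0 : (Kh.map H.subtype).Normal := map_normal_of_char p H Kh hKmem
  obtain ⟨K, hKdef⟩ : ∃ K : Subgroup G, K = Kh.map H.subtype := ⟨_, rfl⟩
  have hKn : K.Normal := hKdef ▸ hKn0
  have hKord : ∀ x ∈ K, (orderOf x).Coprime p := by
    intro x hx
    rw [hKdef] at hx
    obtain ⟨x', hx', rfl⟩ := hx
    have h1 := (hKmem x').mp hx'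
    rw [← Subgroup.orderOf_coe] at h1
    exact h1
  let C : Subgroup G :=
    { carrier := {c | ∀ h ∈ H, c * h * c⁻¹ * h⁻¹ ∈ K}
      one_mem' := by
        show ∀ h ∈ H, 1 * h * 1⁻¹ * h⁻¹ ∈ K
        intro h _
        simp [K.one_mem]
      mul_mem' := by
        intro a b ha hb
        show ∀ h ∈ H, a * b * h * (a * b)⁻¹ * h⁻¹ ∈ K
        intro h hh
        have e : a * b * h * (a * b)⁻¹ * h⁻¹
            = a * (b * h * b⁻¹ * h⁻¹) * a⁻¹ * (a * h * a⁻¹ * h⁻¹) := by group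
        rw [e]
        exact K.mul_mem (hKn.conj_mem _ (hb h hh) a) (ha h hh)
      inv_mem' := by
        intro a ha
        show ∀ h ∈ H, a⁻¹ * h * a⁻¹⁻¹ * h⁻¹ ∈ K
        intro h hh
        have e : a⁻¹ * h * a⁻¹⁻¹ * h⁻¹ = a⁻¹ * (a * h * a⁻¹ * h⁻¹)⁻¹ * a⁻¹⁻¹ := by group
        rw [e]
        exact hKn.conj_mem _ (K.inv_mem (ha h hh)) a⁻¹ }
  have hCmem : ∀ c : G, c ∈ C ↔ ∀ h ∈ H, c * h * c⁻¹ * h⁻¹ ∈ K := fun c => Iff.rfl
  have hCn : C.Normal := by
    constructor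
    intro c hc k
    rw [hCmem] at hc ⊢
    intro h hh
    have hh' : k⁻¹ * h * k ∈ H := by
      have h0 := hHn.conj_mem h hh k⁻¹
      simpa using h0
    have e : k * c * k⁻¹ * h * (k * c * k⁻¹)⁻¹ * h⁻¹
        = k * (c * (k⁻¹ * h * k) * c⁻¹ * (k⁻¹ * h * k)⁻¹) * k⁻¹ := by group
    rw [e]
    exact hKn.conj_mem _ (hc _ hh') k
  have hPC : (P : Subgroup G) ≤ C := by
    intro g₁ hg₁
    rw [hCmem]
    intro h hh
    obtain ⟨k, hk, u, hu, hku⟩ := hdecomp ⟨h, hh⟩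
    have hkK : (k : G) ∈ K := by rw [hKdef]; exact ⟨k, hk, rfl⟩
    have huP : (u : G) ∈ (P : Subgroup G) := (hS u).mp hu
    have hh' : h = (k : G) * (u : G) := congrArg Subtype.val hku
    have hcomm := hPcomm g₁ hg₁ (u : G) huP
    have e : g₁ * h * g₁⁻¹ * h⁻¹ = (g₁ * (k : G) * g₁⁻¹) * (k : G)⁻¹ := by
      rw [hh']
      have e1 : g₁ * ((k : G) * (u : G)) * g₁⁻¹ * ((k : G) * (u : G))⁻¹
          = (g₁ * (k : G) * g₁⁻¹) * ((g₁ * (u : G)) * g₁⁻¹ * (u : G)⁻¹) * (k : G)⁻¹ := by group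
      rw [e1, hcomm]; group
    rw [e]
    exact K.mul_mem (hKn.conj_mem _ hkK g₁) (K.inv_mem hkK)
  obtain ⟨PC, hPCdef⟩ : ∃ PC : Sylow p ↥C, PC = P.subtype hPC := ⟨_, rfl⟩
  have hPCmem : ∀ x : ↥C, x ∈ (PC : Subgroup ↥C) ↔ (x : G) ∈ (P : Subgroup G) := by
    intro x
    rw [hPCdef, Sylow.coe_subtype, Subgroup.mem_subgroupOf]
  -- a nontrivial element of P ⊓ H
  obtain ⟨u₀, hu₀P, hu₀H, hu₀1⟩ : ∃ u₀ : G, u₀ ∈ (P : Subgroup G) ∧ u₀ ∈ H ∧ u₀ ≠ 1 := by
    have h1 : (S : Subgroup ↥H) ≠ ⊥ := by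
      intro hbot
      have h2 := S.not_dvd_index
      have h3 := Subgroup.card_mul_index (S : Subgroup ↥H)
      rw [hbot, Subgroup.card_bot, one_mul] at h3
      rw [hbot, h3] at h2
      exact h2 hpH
    obtain ⟨x, hx⟩ := Subgroup.ne_bot_iff_exists_ne_one.mp h1
    refine ⟨((x : ↥H) : G), (hS _).mp x.2, (x : ↥H).2, ?_⟩
    intro h
    apply hx
    apply Subtype.ext
    apply Subtype.ext
    exact h
  have hpu₀ : p ∣ orderOf u₀ := by
    obtain ⟨a, ha⟩ := IsPGroup.iff_card.mp P.isPGroup'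
    have h1 : orderOf u₀ ∣ p ^ a := ha ▸ Subgroup.orderOf_dvd_natCard _ hu₀P
    obtain ⟨j, -, hj⟩ := (Nat.dvd_prime_pow hp).mp h1
    rw [hj]
    rcases Nat.eq_zero_or_pos j with h0 | h0
    · rw [h0, pow_zero] at hj
      exact absurd (orderOf_eq_one_iff.mp hj) hu₀1
    · exact dvd_pow_self p h0.ne'
  have hNC : Subgroup.normalizer ((PC : Subgroup ↥C) : Set ↥C) ≤
      Subgroup.centralizer ((PC : Subgroup ↥C) : Set ↥C) := by
    have hpp : ∀ z : ↥C, z ∈ Subgroup.normalizer ((PC : Subgroup ↥C) : Set ↥C) →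
        ∀ r : ℕ, r.Coprime p → z ^ r = 1 →
        z ∈ Subgroup.centralizer ((PC : Subgroup ↥C) : Set ↥C) := by
      intro z hz r hrp hzr
      have hzP : ∀ x ∈ (P : Subgroup G), (z : G) * x * (z : G)⁻¹ ∈ (P : Subgroup G) := by
        intro x hx
        have h1 : (⟨x, hPC hx⟩ : ↥C) ∈ (PC : Subgroup ↥C) := (hPCmem _).mpr hx
        have h2 := (Subgroup.mem_normalizer_iff.mp hz _).mp h1
        exact (hPCmem _).mp h2
      have hzu : (z : G) * u₀ * (z : G)⁻¹ = u₀ := by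
        have h1 : (z : G) * u₀ * (z : G)⁻¹ * u₀⁻¹ ∈ K := (hCmem _).mp z.2 u₀ hu₀H
        have h2 : (z : G) * u₀ * (z : G)⁻¹ * u₀⁻¹ ∈ (P : Subgroup G) :=
          (P : Subgroup G).mul_mem (hzP u₀ hu₀P) ((P : Subgroup G).inv_mem hu₀P)
        have h3 := hKord _ h1
        obtain ⟨a, ha⟩ := IsPGroup.iff_card.mp P.isPGroup'
        have h4 : orderOf ((z : G) * u₀ * (z : G)⁻¹ * u₀⁻¹) ∣ p ^ a :=
          ha ▸ Subgroup.orderOf_dvd_natCard _ h2
        have h5 : orderOf ((z : G) * u₀ * (z : G)⁻¹ * u₀⁻¹) = 1 :=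
          Nat.eq_one_of_dvd_coprimes (Nat.Coprime.pow_right a h3) dvd_rfl h4
        have h6 := orderOf_eq_one_iff.mp h5
        calc (z : G) * u₀ * (z : G)⁻¹ = ((z : G) * u₀ * (z : G)⁻¹ * u₀⁻¹) * u₀ := by group
          _ = u₀ := by rw [h6, one_mul]
      obtain ⟨k, hk1, hkg, hkx⟩ := cyc1 (P : Subgroup G) g hgen hgP (z : G) hzP
      have hkp : k ≡ 1 [MOD p] := by
        have h1 : u₀ ^ k = u₀ ^ 1 := by rw [← hkx u₀ hu₀P, hzu, pow_one]
        exact (pow_eq_pow_iff_modEq.mp h1).of_dvd hpu₀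
      have h3 := cyc2 p g (z : G) c k hc hkg hkp
      have hcop : Nat.Coprime (p ^ c) (orderOf (z : G)) := by
        have h4 : (z : G) ^ r = 1 := by
          have h5 := congrArg Subtype.val hzr
          simpa using h5
        exact Nat.Coprime.pow_left c
          (Nat.Coprime.coprime_dvd_right (orderOf_dvd_of_pow_eq_one h4) hrp.symm)
      obtain ⟨t, ht⟩ := exists_pow_eq_self_of_coprime hcop
      have h7 : Commute ((z : G) ^ p ^ c) g := by
        show (z : G) ^ p ^ c * g = g * (z : G) ^ p ^ c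
        calc (z : G) ^ p ^ c * g = ((z : G) ^ p ^ c * g * ((z : G) ^ p ^ c)⁻¹) * (z : G) ^ p ^ c := by
              group
          _ = g * (z : G) ^ p ^ c := by rw [h3]
      have h8 : Commute (z : G) g := by
        have h9 := h7.pow_left t
        rw [ht] at h9
        exact h9
      rw [Subgroup.mem_centralizer_iff]
      intro x hx
      obtain ⟨i, hi⟩ := Subgroup.mem_zpowers_iff.mp (hgen _ ((hPCmem x).mp hx))
      apply Subtype.ext
      show (x : G) * (z : G) = (z : G) * (x : G)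
      rw [← hi]
      exact ((h8.zpow_right i).eq).symm
    intro y hy
    obtain ⟨e, r, hr, her⟩ := Nat.exists_eq_pow_mul_and_not_dvd (orderOf_pos y).ne' p hp.ne_one
    have hrp : Nat.Coprime r p := ((Nat.Prime.coprime_iff_not_dvd hp).mpr hr).symm
    apply Cfsg.Agent.S4127.mem_of_pow_mem_of_coprime _ y r (p ^ e) (Nat.Coprime.pow_right e hrp)
    · have h1 : y ^ r ∈ Subgroup.normalizer ((PC : Subgroup ↥C) : Set ↥C) :=
        Subgroup.pow_mem _ hy r
      have h2 : (y ^ r) ^ p ^ e = 1 := by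
        rw [← pow_mul, mul_comm, ← her]; exact pow_orderOf_eq_one y
      have h3 := mem_sylow_of_normalizes p PC (y ^ r) h1 e h2
      rw [Subgroup.mem_centralizer_iff]
      intro s hs
      apply Subtype.ext
      exact hPcomm _ ((hPCmem s).mp hs) _ ((hPCmem _).mp h3)
    · apply hpp _ (Subgroup.pow_mem _ hy _) r hrp
      rw [← pow_mul, ← her]; exact pow_orderOf_eq_one y
  obtain ⟨P'', Uc, hUcn, hUc⟩ :=
    Cfsg.Agent.Lib.Helper1.hasNormalPComplement_of_le_centralizer PC hNC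
  have hUmem := compl_mem_iff p P'' Uc hUc
  have hUn : (Uc.map C.subtype).Normal := map_normal_of_char p C Uc hUmem
  refine ⟨3, ![⊥, Uc.map C.subtype, C, ⊤], rfl, rfl, ?_, ?_, ?_⟩
  · apply Fin.monotone_iff_le_succ.mpr
    intro i
    fin_cases i
    · show (⊥ : Subgroup G) ≤ Uc.map C.subtype
      exact bot_le
    · show Uc.map C.subtype ≤ C
      exact Subgroup.map_subtype_le _
    · show C ≤ (⊤ : Subgroup G)
      exact le_top
  · intro i
    fin_cases i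
    · show (⊥ : Subgroup G).Normal
      infer_instance
    · exact hUn
    · exact hCn
    · show (⊤ : Subgroup G).Normal
      infer_instance
  · intro i
    fin_cases i
    · right
      show ((⊥ : Subgroup G).relIndex (Uc.map C.subtype)).Coprime p
      rw [Subgroup.relIndex_bot_left, Subgroup.card_map_of_injective C.subtype_injective,
        ← hUc.index_eq_card]
      exact ((Nat.Prime.coprime_iff_not_dvd hp).mpr P''.not_dvd_index).symm
    · left
      show ∃ m : ℕ, (Uc.map C.subtype).relIndex C = p ^ m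
      have h1 : (Uc.map C.subtype).relIndex C = Uc.index := by
        have h2 : (Uc.map C.subtype).subgroupOf C = Uc :=
          Subgroup.comap_map_eq_self_of_injective C.subtype_injective Uc
        show ((Uc.map C.subtype).subgroupOf C).index = Uc.index
        rw [h2]
      rw [h1, hUc.symm.index_eq_card]
      exact IsPGroup.iff_card.mp P''.isPGroup'
    · right
      show (C.relIndex (⊤ : Subgroup G)).Coprime p
      rw [Subgroup.relIndex_top_right]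
      have h1 : C.index ∣ (P : Subgroup G).index := Subgroup.index_dvd_of_le hPC
      exact (Nat.Coprime.coprime_dvd_right h1
        ((Nat.Prime.coprime_iff_not_dvd hp).mpr P.not_dvd_index)).symm

/-- Let G be a finite group with a cyclic Sylow p-subgroup and H a normal subgroup such that p divides both the order of H and the index of H. Then H has a normal p-complement and G is p-solvable. -/
theorem result {G : Type*} [Group G] [Finite G] (p : ℕ) [Fact p.Prime]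
    (P : Sylow p G) (hP : IsCyclic (P : Subgroup G)) (H : Subgroup G) [H.Normal] (h1 : p ∣ Nat.card H) (h2 : p ∣ H.index) :
    Cfsg.HasNormalPComplement p H ∧ Cfsg.IsPSolvable p G := by
  have hp : p.Prime := Fact.out
  obtain ⟨S⟩ : Nonempty (Sylow p ↥H) := inferInstance
  have hSmap : IsPGroup p ((S : Subgroup ↥H).map H.subtype) := S.isPGroup'.map _
  obtain ⟨Q, hQ⟩ := hSmap.exists_le_sylow
  obtain ⟨c, hc⟩ := MulAction.exists_smul_eq G P Q
  obtain ⟨g₀, hg₀⟩ := hP.exists_generator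
  have hQgen : ∀ x ∈ (Q : Subgroup G), x ∈ Subgroup.zpowers (c * (g₀ : G) * c⁻¹) := by
    intro x hx
    rw [← hc, Sylow.coe_subgroup_smul, Cfsg.Agent.Lib.Helper1.mem_conj_smul_iff] at hx
    obtain ⟨i, hi⟩ := Subgroup.mem_zpowers_iff.mp (hg₀ ⟨_, hx⟩)
    have hi' : (g₀ : G) ^ i = c⁻¹ * x * c := by
      have h0 := congrArg Subtype.val hi
      simpa using h0
    rw [Subgroup.mem_zpowers_iff]
    refine ⟨i, ?_⟩
    rw [conj_zpow, hi']; group
  have hQg : c * (g₀ : G) * c⁻¹ ∈ (Q : Subgroup G) := by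
    rw [← hc, Sylow.coe_subgroup_smul, Cfsg.Agent.Lib.Helper1.mem_conj_smul_iff]
    have e : c⁻¹ * (c * (g₀ : G) * c⁻¹) * c = g₀ := by group
    rw [e]; exact g₀.2
  have hQH : ¬ (Q : Subgroup G) ≤ H := by
    intro hle
    have h3 : H.index ∣ (Q : Subgroup G).index := Subgroup.index_dvd_of_le hle
    exact Q.not_dvd_index (h2.trans h3)
  have hSQ : ∀ x : ↥H, x ∈ (S : Subgroup ↥H) ↔ (x : G) ∈ (Q : Subgroup G) := by
    intro x
    constructor
    · intro hx; exact hQ ⟨x, hx, rfl⟩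
    · intro hx
      have h3 : IsPGroup p ((Q : Subgroup G).subgroupOf H) := Q.isPGroup'.comap_subtype
      have h4 : (S : Subgroup ↥H) ≤ (Q : Subgroup G).subgroupOf H := by
        intro z hz; rw [Subgroup.mem_subgroupOf]; exact hQ ⟨z, hz, rfl⟩
      have h5 := S.is_maximal' h3 h4
      rw [← h5, Subgroup.mem_subgroupOf]; exact hx
  have hNC := part1 p Q _ hQg hQgen H hQH S hSQ
  have hH : Cfsg.HasNormalPComplement p ↥H :=
    Cfsg.Agent.Lib.Helper1.hasNormalPComplement_of_le_centralizer S hNC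
  refine ⟨hH, ?_⟩
  obtain ⟨P', N, hNn, hN⟩ := hH
  have hKmem := compl_mem_iff p P' N hN
  have hNS : N.IsComplement' (S : Subgroup ↥H) := by
    have hcardS : Nat.card (S : Subgroup ↥H) = Nat.card (P' : Subgroup ↥H) := by
      rw [Sylow.card_eq_multiplicity, Sylow.card_eq_multiplicity]
    apply Subgroup.isComplement'_of_coprime
    · rw [hcardS]; exact hN.card_mul_card
    · rw [← hN.index_eq_card]
      obtain ⟨a, ha⟩ := IsPGroup.iff_card.mp S.isPGroup'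
      rw [ha]
      exact Nat.Coprime.pow_right a ((Nat.Prime.coprime_iff_not_dvd hp).mpr P'.not_dvd_index).symm
  apply part2 p Q _ hQg hQgen H h1 S hSQ N hKmem
  intro h
  obtain ⟨⟨⟨k, hk⟩, ⟨u, hu⟩⟩, hku⟩ := hNS.2 h
  exact ⟨k, hk, u, hu, hku.symm⟩

end Cfsg.Agent.S4145
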