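import Cfsg.Statements.S4051
import Mathlib
import Cfsg.Agent.Lib.Helper1.Basic
import Cfsg.Agent.Lib.Helper1.Burnside
import Cfsg.Agent.S4145

set_option autoImplicit false
open Cfsg

namespace Cfsg.Agent.S4051

open scoped Pointwise

universe u

/-- `x` is a `π`-element -/
def PiElt {G : Type*} [Group G] (π : Set ℕ) (x : G) : Prop :=
  ∀ p : ℕ, p.Prime → p ∣ orderOf x → p ∈ π

theorem piElt_of_dvd {G H : Type*} [Group G] [Group H] (π : Set ℕ) (x : G) (y : H)
    (h : orderOf y ∣ orderOf x) (hx : PiElt π x) : PiElt π y :=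
  fun p hp hd => hx p hp (hd.trans h)

theorem piElt_conj {G : Type*} [Group G] (π : Set ℕ) (x g : G) (hx : PiElt π x) :
    PiElt π (g * x * g⁻¹) := by
  apply piElt_of_dvd π x _ _ hx
  have e : g * x * g⁻¹ = MulAut.conj g x := by simp [MulAut.conj_apply]
  rw [e, MulEquiv.orderOf_eq]

theorem piElt_of_pow {G : Type*} [Group G] (π : Set ℕ) (x : G) (r e : ℕ) (hr : r.Prime)
    (hrπ : r ∈ π) (h : PiElt π (x ^ r ^ e)) : PiElt π x := by
  intro p hp hd
  have h1 : orderOf x ∣ r ^ e * orderOf (x ^ r ^ e) := by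
    apply orderOf_dvd_of_pow_eq_one
    rw [pow_mul, pow_orderOf_eq_one]
  rcases (Nat.Prime.dvd_mul hp).mp (hd.trans h1) with h2 | h2
  · rw [(Nat.prime_dvd_prime_iff_eq hp hr).mp (hp.dvd_of_dvd_pow h2)]; exact hrπ
  · exact h p hp h2

theorem stepE {G : Type*} [Group G] [Finite G] (π : Set ℕ)
    (hhom : (∀ H : Subgroup G, H ≠ ⊥ → (∀ p : ℕ, p.Prime → p ∣ Nat.card ↥H → p ∉ π) →
        ∀ p : ℕ, p.Prime → p ∣ (Subgroup.centralizer (H : Set G)).relIndex
          (Subgroup.normalizer (H : Set G)) → p ∉ π))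
    (H : Subgroup G) (hH : ∀ p : ℕ, p.Prime → p ∣ Nat.card ↥H → p ∉ π) (t : G)
    (ht : PiElt π t)
    (htn : t ∈ Subgroup.normalizer (H : Set G)) : t ∈ Subgroup.centralizer (H : Set G) := by
  by_cases hbot : H = ⊥
  · subst hbot
    rw [Subgroup.mem_centralizer_iff]
    intro h hh
    have h1 : h = 1 := Subgroup.mem_bot.mp hh
    rw [h1]; simp
  have hr := hhom H hbot hH
  have hnorm : ((Subgroup.centralizer (H : Set G)).subgroupOf
      (Subgroup.normalizer (H : Set G))).Normal := by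
    constructor
    rintro ⟨c, hcN⟩ hc ⟨n, hn⟩
    rw [Subgroup.mem_subgroupOf] at hc ⊢
    show n * c * n⁻¹ ∈ Subgroup.centralizer (H : Set G)
    have hc' : c ∈ Subgroup.centralizer (H : Set G) := hc
    rw [Subgroup.mem_centralizer_iff] at hc' ⊢
    intro h hh
    have hh' : n⁻¹ * h * n ∈ H := by
      have h2 := (Subgroup.mem_normalizer_iff.mp (Subgroup.inv_mem _ hn) h).mp hh
      simpa using h2
    have h3 := hc' _ hh'
    have e1 : h * (n * c * n⁻¹) = n * (n⁻¹ * h * n * c) * n⁻¹ := by group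
    rw [e1, h3]; group
  have h1 := Subgroup.pow_index_mem ((Subgroup.centralizer (H : Set G)).subgroupOf
      (Subgroup.normalizer (H : Set G))) (⟨t, htn⟩ : ↥(Subgroup.normalizer (H : Set G)))
  rw [Subgroup.mem_subgroupOf] at h1
  have h2 : t ^ (Subgroup.centralizer (H : Set G)).relIndex (Subgroup.normalizer (H : Set G)) ∈
      Subgroup.centralizer (H : Set G) := h1
  have hcop : Nat.Coprime ((Subgroup.centralizer (H : Set G)).relIndex
      (Subgroup.normalizer (H : Set G))) (orderOf t) := by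
    apply Nat.coprime_of_dvd
    intro q hq hq1 hq2
    exact hr q hq hq1 (ht q hq hq2)
  obtain ⟨s, hs⟩ := exists_pow_eq_self_of_coprime hcop
  rw [← hs]
  exact Subgroup.pow_mem _ h2 s

theorem exists_invariant {G : Type*} [Group G] [Finite G] (O K : Subgroup G) [hOn : O.Normal]
    [hKn : K.Normal] (hOK : O ≤ K) (q r : ℕ) [Fact q.Prime] [Fact r.Prime]
    (hr : ¬ r ∣ O.relIndex K) (x : G) (e : ℕ) (hxe : x ^ r ^ e = 1) :
    ∃ Q : Subgroup G, Q ≤ K ∧ Nat.card Q = q ^ (Nat.card K).factorization q ∧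
      MulAut.conj x • (O ⊔ Q) = O ⊔ Q := by
  let α : Type _ := {T : Subgroup G // ∃ Q : Subgroup G, Q ≤ K ∧
    Nat.card Q = q ^ (Nat.card K).factorization q ∧ T = O ⊔ Q}
  let act : MulAction G α :=
    { smul := fun g T => ⟨MulAut.conj g • T.1, by
        obtain ⟨Q, h1, h2, h3⟩ := T.2
        refine ⟨MulAut.conj g • Q, ?_, ?_, ?_⟩
        · intro z hz
          rw [Cfsg.Agent.Lib.Helper1.mem_conj_smul_iff] at hz
          have h4 := hKn.conj_mem _ (h1 hz) g
          have e1 : g * (g⁻¹ * z * g) * g⁻¹ = z := by group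
          rw [e1] at h4
          exact h4
        · rw [Cfsg.Agent.Lib.Helper1.card_conj_smul, h2]
        · rw [h3, Subgroup.smul_sup, Subgroup.Normal.conj_smul_eq_self]⟩
      one_smul := fun T => Subtype.ext (by
        show MulAut.conj (1 : G) • T.1 = T.1
        rw [map_one, one_smul])
      mul_smul := fun g h T => Subtype.ext (by
        show MulAut.conj (g * h) • T.1 = MulAut.conj g • MulAut.conj h • T.1
        rw [map_mul, mul_smul]) }
  have hsmul : ∀ (g : G) (T : α), (g • T).1 = MulAut.conj g • T.1 := fun _ _ => rfl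
  obtain ⟨S₀⟩ : Nonempty (Sylow q ↥K) := inferInstance
  have hQ₀card : Nat.card ((S₀ : Subgroup ↥K).map K.subtype) = q ^ (Nat.card K).factorization q := by
    rw [Subgroup.card_map_of_injective K.subtype_injective, Sylow.card_eq_multiplicity]
  have hQ₀K : (S₀ : Subgroup ↥K).map K.subtype ≤ K := Subgroup.map_subtype_le _
  let T₀ : α := ⟨O ⊔ (S₀ : Subgroup ↥K).map K.subtype, _, hQ₀K, hQ₀card, rfl⟩
  have htrans : ∀ T : α, ∃ k : ↥K, k • T₀ = T := by
    rintro ⟨T, Q, h1, h2, h3⟩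
    obtain ⟨c, hcK, hc⟩ := Cfsg.Agent.S4219.sylow_conj_in q K _ Q hQ₀K h1 hQ₀card h2
    refine ⟨⟨c⁻¹, K.inv_mem hcK⟩, Subtype.ext ?_⟩
    show MulAut.conj c⁻¹ • (O ⊔ (S₀ : Subgroup ↥K).map K.subtype) = T
    rw [h3, Subgroup.smul_sup, Subgroup.Normal.conj_smul_eq_self]
    congr 1
    ext y
    rw [Cfsg.Agent.Lib.Helper1.mem_conj_smul_iff, inv_inv]
    exact (hc y).symm
  have hpre : MulAction.IsPretransitive ↥K α := by
    constructor
    intro a b
    obtain ⟨k₁, hk₁⟩ := htrans a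
    obtain ⟨k₂, hk₂⟩ := htrans b
    refine ⟨k₂ * k₁⁻¹, ?_⟩
    rw [← hk₁, ← hk₂, ← mul_smul, inv_mul_cancel_right]
  have hidx := MulAction.index_stabilizer_of_transitive ↥K T₀
  have hstab : O.subgroupOf K ≤ MulAction.stabilizer ↥K T₀ := by
    intro o ho
    rw [Subgroup.mem_subgroupOf] at ho
    rw [MulAction.mem_stabilizer_iff]
    apply Subtype.ext
    show MulAut.conj (o : G) • (O ⊔ (S₀ : Subgroup ↥K).map K.subtype) = _
    exact Subgroup.conj_smul_eq_self_of_mem (Subgroup.mem_sup_left ho)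
  have hdvd : Nat.card α ∣ O.relIndex K := by
    rw [← hidx]
    exact Subgroup.index_dvd_of_le hstab
  have hnd : ¬ r ∣ Nat.card α := fun h => hr (h.trans hdvd)
  have hZ : IsPGroup r (Subgroup.zpowers x) := by
    rintro ⟨w, hw⟩
    obtain ⟨i, rfl⟩ := Subgroup.mem_zpowers_iff.mp hw
    refine ⟨e, Subtype.ext ?_⟩
    show (x ^ i) ^ r ^ e = 1
    rw [← zpow_natCast, ← zpow_mul, mul_comm, zpow_mul, zpow_natCast, hxe, one_zpow]
  obtain ⟨T, hT⟩ := hZ.nonempty_fixed_point_of_prime_not_dvd_card α hnd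
  obtain ⟨Q, h1, h2, h3⟩ := T.2
  refine ⟨Q, h1, h2, ?_⟩
  have h4 := hT ⟨x, Subgroup.mem_zpowers x⟩
  have h5 : MulAut.conj x • T.1 = T.1 := congrArg Subtype.val h4
  rw [h3] at h5
  exact h5

theorem pow_mul_mem {G : Type*} [Group G] (O : Subgroup G) [hOn : O.Normal] (o x : G)
    (ho : o ∈ O) : ∀ n : ℕ, ∃ o' ∈ O, (o * x) ^ n = o' * x ^ n := by
  intro n
  induction n with
  | zero => exact ⟨1, O.one_mem, by simp⟩
  | succ n ih =>
    obtain ⟨o', ho', h⟩ := ih
    refine ⟨o' * (x ^ n * o * (x ^ n)⁻¹), O.mul_mem ho' (hOn.conj_mem _ ho _), ?_⟩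
    rw [pow_succ, h, pow_succ]; group

theorem claimPP {G : Type u} [Group G] [Finite G] (π : Set ℕ)
    (hE : ∀ H : Subgroup G, (∀ p : ℕ, p.Prime → p ∣ Nat.card ↥H → p ∉ π) → ∀ x : G,
      PiElt π x → x ∈ Subgroup.normalizer (H : Set G) → x ∈ Subgroup.centralizer (H : Set G))
    (K : Subgroup G) [hKn : K.Normal] (L₀ : Subgroup ↥K)
    (hL₀ : ∀ x : ↥K, x ∈ L₀ ↔ PiElt π x) (O : Subgroup G) (hOdef : O = L₀.map K.subtype)
    [hOn : O.Normal] (x : G) (r e : ℕ) (hr : r.Prime) (hrπ : r ∈ π) (hxe : x ^ r ^ e = 1) :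
    ∀ k ∈ K, x * k * x⁻¹ * k⁻¹ ∈ O := by
  have hOmem : ∀ z : G, z ∈ O ↔ z ∈ K ∧ PiElt π z := by
    intro z
    rw [hOdef]
    constructor
    · rintro ⟨y, hy, rfl⟩
      refine ⟨y.2, ?_⟩
      have h1 := (hL₀ y).mp hy
      exact piElt_of_dvd π y _ (by
        show orderOf (y : G) ∣ orderOf y
        rw [Subgroup.orderOf_coe]) h1
    · rintro ⟨hz, hzπ⟩
      refine ⟨⟨z, hz⟩, (hL₀ _).mpr ?_, rfl⟩
      exact piElt_of_dvd π z _ (by rw [Subgroup.orderOf_mk]) hzπ
  have hOK : O ≤ K := fun z hz => ((hOmem z).mp hz).1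
  have hFr : Fact r.Prime := ⟨hr⟩
  -- r does not divide the index of O in K
  have hrel : ¬ r ∣ O.relIndex K := by
    have h1 : O.relIndex K = L₀.index := by
      have h2 : O.subgroupOf K = L₀ := by
        rw [hOdef]
        exact Subgroup.comap_map_eq_self_of_injective K.subtype_injective L₀
      show (O.subgroupOf K).index = L₀.index
      rw [h2]
    rw [h1]
    obtain ⟨R₀⟩ : Nonempty (Sylow r ↥K) := inferInstance
    have h3 : (R₀ : Subgroup ↥K) ≤ L₀ := by
      intro z hz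
      rw [hL₀]
      intro p hp hd
      obtain ⟨j, hj⟩ := R₀.isPGroup' ⟨z, hz⟩
      have hj' : z ^ r ^ j = 1 := congrArg Subtype.val hj
      have h4 := hd.trans (orderOf_dvd_of_pow_eq_one hj')
      rw [(Nat.prime_dvd_prime_iff_eq hp hr).mp (hp.dvd_of_dvd_pow h4)]; exact hrπ
    intro h4
    exact R₀.not_dvd_index (h4.trans (Subgroup.index_dvd_of_le h3))
  let D : Subgroup G :=
    { carrier := {k | k ∈ K ∧ x * k * x⁻¹ * k⁻¹ ∈ O}
      one_mem' := ⟨K.one_mem, by simp [O.one_mem]⟩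
      mul_mem' := by
        rintro a b ⟨ha, ha'⟩ ⟨hb, hb'⟩
        refine ⟨K.mul_mem ha hb, ?_⟩
        have e1 : x * (a * b) * x⁻¹ * (a * b)⁻¹
            = (x * a * x⁻¹ * a⁻¹) * (a * (x * b * x⁻¹ * b⁻¹) * a⁻¹) := by group
        rw [e1]
        exact O.mul_mem ha' (hOn.conj_mem _ hb' a)
      inv_mem' := by
        rintro a ⟨ha, ha'⟩
        refine ⟨K.inv_mem ha, ?_⟩
        have e1 : x * a⁻¹ * x⁻¹ * a⁻¹⁻¹ = a⁻¹ * (x * a * x⁻¹ * a⁻¹)⁻¹ * a⁻¹⁻¹ := by group
        rw [e1]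
        exact hOn.conj_mem _ (O.inv_mem ha') a⁻¹ }
  have hDmem : ∀ k : G, k ∈ D ↔ k ∈ K ∧ x * k * x⁻¹ * k⁻¹ ∈ O := fun k => Iff.rfl
  have hDK : D ≤ K := fun k hk => ((hDmem k).mp hk).1
  have hOD : O ≤ D := by
    intro o ho
    rw [hDmem]
    exact ⟨hOK ho, O.mul_mem (hOn.conj_mem _ ho x) (O.inv_mem ho)⟩
  have hsyl : ∀ q : ℕ, q.Prime → q ^ (Nat.card K).factorization q ∣ Nat.card D := by
    intro q hq
    have hFq : Fact q.Prime := ⟨hq⟩
    by_cases hqπ : q ∈ π
    · obtain ⟨S₀⟩ : Nonempty (Sylow q ↥K) := inferInstance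
      have h1 : (S₀ : Subgroup ↥K).map K.subtype ≤ D := by
        rintro _ ⟨z, hz, rfl⟩
        apply hOD
        rw [hOmem]
        refine ⟨z.2, ?_⟩
        intro p hp hd
        obtain ⟨j, hj⟩ := S₀.isPGroup' ⟨z, hz⟩
        have hj' : z ^ q ^ j = 1 := congrArg Subtype.val hj
        have hj'' : (z : G) ^ q ^ j = 1 := by
          have h0 := congrArg Subtype.val hj'
          simpa using h0
        have h4 := hd.trans (orderOf_dvd_of_pow_eq_one hj'')
        rw [(Nat.prime_dvd_prime_iff_eq hp hq).mp (hp.dvd_of_dvd_pow h4)]; exact hqπ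
      have h2 := Subgroup.card_dvd_of_le h1
      rw [Subgroup.card_map_of_injective K.subtype_injective, Sylow.card_eq_multiplicity] at h2
      exact h2
    · obtain ⟨Q, hQK, hQcard, hQinv⟩ := exists_invariant O K hOK q r hrel x e hxe
      have hQD : Q ≤ D := by
        -- Frattini inside T = O ⊔ Q
        obtain ⟨T, hT⟩ : ∃ T : Subgroup G, T = O ⊔ Q := ⟨_, rfl⟩
        rw [← hT] at hQinv
        have hTK : T ≤ K := hT ▸ sup_le hOK hQK
        have hQT : Q ≤ T := hT ▸ le_sup_right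
        have hcard1 : Nat.card Q = q ^ (Nat.card T).factorization q := by
          rw [hQcard]
          congr 1
          apply le_antisymm
          · have h1 : q ^ (Nat.card K).factorization q ∣ Nat.card T := by
              rw [← hQcard]; exact Subgroup.card_dvd_of_le hQT
            exact (Nat.Prime.pow_dvd_iff_le_factorization hq Nat.card_pos.ne').mp h1
          · exact (Nat.factorization_le_iff_dvd Nat.card_pos.ne' Nat.card_pos.ne').mpr
              (Subgroup.card_dvd_of_le hTK) q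
        have hQ'T : MulAut.conj x • Q ≤ T := by
          intro z hz
          rw [← hQinv]
          rw [Cfsg.Agent.Lib.Helper1.mem_conj_smul_iff] at hz ⊢
          exact hQT hz
        have hcard2 : Nat.card ↥(MulAut.conj x • Q) = q ^ (Nat.card T).factorization q := by
          rw [Cfsg.Agent.Lib.Helper1.card_conj_smul, hcard1]
        obtain ⟨c, hcT, hc⟩ := Cfsg.Agent.S4219.sylow_conj_in q T Q (MulAut.conj x • Q) hQT hQ'T
          hcard1 hcard2
        obtain ⟨o, ho, u, hu, hcou⟩ : ∃ o ∈ O, ∃ u ∈ Q, c = o * u := by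
          have h1 := hcT
          rw [hT, ← SetLike.mem_coe, Subgroup.normal_mul] at h1
          obtain ⟨a, ha, b, hb, hab⟩ := Set.mem_mul.mp h1
          exact ⟨a, ha, b, hb, hab.symm⟩
        -- n' := u⁻¹ * c * x = (u⁻¹ o u) x normalizes Q
        obtain ⟨o', ho'def⟩ : ∃ o', o' = u⁻¹ * o * u := ⟨_, rfl⟩
        have ho' : o' ∈ O := by
          rw [ho'def]
          have h0 := hOn.conj_mem _ ho u⁻¹
          simpa using h0
        have hn'eq : o' * x = u⁻¹ * (c * x) := by rw [ho'def, hcou]; group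
        have hcx : ∀ v : G, v ∈ Q ↔ (c * x) * v * (c * x)⁻¹ ∈ Q := by
          intro v
          have h1 : v ∈ Q ↔ x * v * x⁻¹ ∈ MulAut.conj x • Q := by
            rw [Cfsg.Agent.Lib.Helper1.mem_conj_smul_iff]
            have e1 : x⁻¹ * (x * v * x⁻¹) * x = v := by group
            rw [e1]
          rw [h1, hc]
          have e2 : c * (x * v * x⁻¹) * c⁻¹ = (c * x) * v * (c * x)⁻¹ := by group
          rw [e2]
        have hn'norm : o' * x ∈ Subgroup.normalizer (Q : Set G) := by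
          rw [Subgroup.mem_normalizer_iff]
          intro v
          rw [hcx v, hn'eq]
          have e1 : u⁻¹ * (c * x) * v * (u⁻¹ * (c * x))⁻¹ = u⁻¹ * ((c * x) * v * (c * x)⁻¹) * u := by
            group
          rw [e1]
          constructor
          · intro h
            exact Q.mul_mem (Q.mul_mem (Q.inv_mem hu) h) hu
          · intro h
            have h2 := Q.mul_mem (Q.mul_mem hu h) (Q.inv_mem hu)
            have e2 : u * (u⁻¹ * ((c * x) * v * (c * x)⁻¹) * u) * u⁻¹ = (c * x) * v * (c * x)⁻¹ := by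
              group
            rw [e2] at h2
            exact h2
        have hn'pi : PiElt π (o' * x) := by
          apply piElt_of_pow π _ r e hr hrπ
          obtain ⟨o'', ho'', h⟩ := pow_mul_mem O o' x ho' (r ^ e)
          rw [h, hxe, mul_one]
          exact ((hOmem o'').mp ho'').2
        have hQpi : ∀ p : ℕ, p.Prime → p ∣ Nat.card ↥Q → p ∉ π := by
          intro p hp hd
          rw [hQcard] at hd
          rw [(Nat.prime_dvd_prime_iff_eq hp hq).mp (hp.dvd_of_dvd_pow hd)]; exact hqπ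
        have hcent := hE Q hQpi (o' * x) hn'pi hn'norm
        intro v hv
        rw [hDmem]
        refine ⟨hQK hv, ?_⟩
        have h1 := Subgroup.mem_centralizer_iff.mp hcent v hv
        have e1 : x * v * x⁻¹ * v⁻¹ = o'⁻¹ * ((o' * x) * v * (o' * x)⁻¹) * o' * v⁻¹ := by group
        have e2 : (o' * x) * v * (o' * x)⁻¹ = v := by
          rw [← h1]; group
        rw [e1, e2]
        have e3 : o'⁻¹ * v * o' * v⁻¹ = o'⁻¹ * (v * o' * v⁻¹) := by group
        rw [e3]
        exact O.mul_mem (O.inv_mem ho') (hOn.conj_mem _ ho' v)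
      have h2 := Subgroup.card_dvd_of_le hQD
      rw [hQcard] at h2
      exact h2
  have hcard : Nat.card K ∣ Nat.card D := by
    rw [← Nat.factorization_le_iff_dvd Nat.card_pos.ne' Nat.card_pos.ne']
    intro q
    by_cases hq : q.Prime
    · exact (Nat.Prime.pow_dvd_iff_le_factorization hq Nat.card_pos.ne').mp (hsyl q hq)
    · rw [Nat.factorization_eq_zero_of_not_prime _ hq]; exact Nat.zero_le _
  have hKD : D = K := Subgroup.eq_of_le_of_card_ge hDK (Nat.le_of_dvd Nat.card_pos hcard)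
  intro k hk
  have h1 : k ∈ D := by rw [hKD]; exact hk
  exact ((hDmem k).mp h1).2

theorem main {G : Type u} [Group G] [Finite G] (π : Set ℕ)
    (hE : ∀ H : Subgroup G, (∀ p : ℕ, p.Prime → p ∣ Nat.card ↥H → p ∉ π) → ∀ x : G,
      PiElt π x → x ∈ Subgroup.normalizer (H : Set G) → x ∈ Subgroup.centralizer (H : Set G))
    (K : Subgroup G) [hKn : K.Normal]
    (hK : ∃ L : Subgroup ↥K, ∀ x : ↥K, x ∈ L ↔ PiElt π x)
    (hQ : ∃ L : Subgroup (G ⧸ K), ∀ x : G ⧸ K, x ∈ L ↔ PiElt π x) :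
    ∃ X : Subgroup G, ∀ x : G, x ∈ X ↔ PiElt π x := by
  obtain ⟨L₀, hL₀⟩ := hK
  obtain ⟨Lq, hLq⟩ := hQ
  obtain ⟨O, hOdef⟩ : ∃ O : Subgroup G, O = L₀.map K.subtype := ⟨_, rfl⟩
  have hOmem : ∀ z : G, z ∈ O ↔ z ∈ K ∧ PiElt π z := by
    intro z
    rw [hOdef]
    constructor
    · rintro ⟨y, hy, rfl⟩
      refine ⟨y.2, ?_⟩
      have h1 := (hL₀ y).mp hy
      exact piElt_of_dvd π y _ (by
        show orderOf (y : G) ∣ orderOf y
        rw [Subgroup.orderOf_coe]) h1
    · rintro ⟨hz, hzπ⟩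
      refine ⟨⟨z, hz⟩, (hL₀ _).mpr ?_, rfl⟩
      exact piElt_of_dvd π z _ (by rw [Subgroup.orderOf_mk]) hzπ
  have hOn : O.Normal := by
    constructor
    intro z hz g
    rw [hOmem] at hz ⊢
    exact ⟨hKn.conj_mem _ hz.1 g, piElt_conj π z g hz.2⟩
  have hpp := fun (x : G) (r e : ℕ) (hr : r.Prime) (hrπ : r ∈ π) (hxe : x ^ r ^ e = 1) =>
    claimPP π hE K L₀ hL₀ O hOdef x r e hr hrπ hxe
  let C : Subgroup G :=
    { carrier := {c | ∀ h ∈ K, c * h * c⁻¹ * h⁻¹ ∈ O}
      one_mem' := by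
        show ∀ h ∈ K, 1 * h * 1⁻¹ * h⁻¹ ∈ O
        intro h _
        simp [O.one_mem]
      mul_mem' := by
        intro a b ha hb
        show ∀ h ∈ K, a * b * h * (a * b)⁻¹ * h⁻¹ ∈ O
        intro h hh
        have e : a * b * h * (a * b)⁻¹ * h⁻¹
            = a * (b * h * b⁻¹ * h⁻¹) * a⁻¹ * (a * h * a⁻¹ * h⁻¹) := by group
        rw [e]
        exact O.mul_mem (hOn.conj_mem _ (hb h hh) a) (ha h hh)
      inv_mem' := by
        intro a ha
        show ∀ h ∈ K, a⁻¹ * h * a⁻¹⁻¹ * h⁻¹ ∈ O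
        intro h hh
        have e : a⁻¹ * h * a⁻¹⁻¹ * h⁻¹ = a⁻¹ * (a * h * a⁻¹ * h⁻¹)⁻¹ * a⁻¹⁻¹ := by group
        rw [e]
        exact hOn.conj_mem _ (O.inv_mem (ha h hh)) a⁻¹ }
  have hCmem : ∀ c : G, c ∈ C ↔ ∀ h ∈ K, c * h * c⁻¹ * h⁻¹ ∈ O := fun c => Iff.rfl
  have hCpi : ∀ n : ℕ, ∀ x : G, orderOf x = n → PiElt π x → x ∈ C := by
    intro n
    induction n using Nat.strong_induction_on with
    | _ n ih =>
      intro x hxn hxπ
      by_cases hn1 : n = 1
      · rw [hn1] at hxn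
        rw [orderOf_eq_one_iff.mp hxn]; exact C.one_mem
      obtain ⟨r, hr, hrn⟩ := Nat.exists_prime_and_dvd hn1
      have hrπ : r ∈ π := hxπ r hr (hxn ▸ hrn)
      have hnpos : 0 < n := hxn ▸ orderOf_pos x
      obtain ⟨e, m, hm, hem⟩ := Nat.exists_eq_pow_mul_and_not_dvd hnpos.ne' r hr.ne_one
      have hmpos : 0 < m := by
        rcases Nat.eq_zero_or_pos m with h | h
        · rw [h, mul_zero] at hem; omega
        · exact h
      have he1 : 1 ≤ e := by
        by_contra h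
        have he0 : e = 0 := by omega
        rw [he0, pow_zero, one_mul] at hem
        exact hm (hem ▸ hrn)
      have hre2 : 2 ≤ r ^ e := by
        calc 2 ≤ r := hr.two_le
          _ = r ^ 1 := (pow_one r).symm
          _ ≤ r ^ e := Nat.pow_le_pow_right hr.pos he1
      have hcop : Nat.Coprime m (r ^ e) :=
        Nat.Coprime.pow_right e ((Nat.Prime.coprime_iff_not_dvd hr).mpr hm).symm
      apply Cfsg.Agent.S4127.mem_of_pow_mem_of_coprime C x m (r ^ e) hcop
      · rw [hCmem]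
        apply hpp (x ^ m) r e hr hrπ
        rw [← pow_mul, mul_comm, ← hem, ← hxn]; exact pow_orderOf_eq_one x
      · have hord : orderOf (x ^ r ^ e) = m := by
          rw [orderOf_pow_of_dvd (pow_pos hr.pos e).ne' (hxn ▸ Dvd.intro _ hem.symm), hxn, hem]
          exact Nat.mul_div_cancel_left _ (pow_pos hr.pos e)
        apply ih m (by rw [hem]; nlinarith) (x ^ r ^ e) hord
        exact piElt_of_dvd π x _ (orderOf_pow_dvd _) hxπ
  obtain ⟨X, hXdef⟩ : ∃ X : Subgroup G, X = Subgroup.closure {x : G | PiElt π x} := ⟨_, rfl⟩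
  have hXpi : ∀ x : G, PiElt π x → x ∈ X := by
    intro x hx; rw [hXdef]; exact Subgroup.subset_closure hx
  have hXle : ∀ Y : Subgroup G, (∀ x : G, PiElt π x → x ∈ Y) → X ≤ Y := by
    intro Y hY
    rw [hXdef, Subgroup.closure_le]
    exact hY
  have hXC : X ≤ C := by
    rw [hXdef, Subgroup.closure_le]
    intro x hx
    exact hCpi _ x rfl hx
  have hXM : X ≤ Lq.comap (QuotientGroup.mk' K) := by
    rw [hXdef, Subgroup.closure_le]
    intro x hx
    show (QuotientGroup.mk' K) x ∈ Lq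
    rw [hLq]
    exact piElt_of_dvd π x _ (orderOf_map_dvd _ x) hx
  have hqX : ∀ q : ℕ, q.Prime → q ∉ π → ¬ q ∣ Nat.card X := by
    intro q hq hqπ hdvd
    have hFq : Fact q.Prime := ⟨hq⟩
    obtain ⟨S⟩ : Nonempty (Sylow q ↥X) := inferInstance
    have hqelt : ∀ w : G, PiElt π w → ∀ j : ℕ, w ^ q ^ j = 1 → w = 1 := by
      intro w hw j hj
      by_contra hne
      have h1 : orderOf w ≠ 1 := fun h => hne (orderOf_eq_one_iff.mp h)
      obtain ⟨p, hp, hpd⟩ := Nat.exists_prime_and_dvd h1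
      have h2 := hpd.trans (orderOf_dvd_of_pow_eq_one hj)
      have h3 := (Nat.prime_dvd_prime_iff_eq hp hq).mp (hp.dvd_of_dvd_pow h2)
      exact hqπ (h3 ▸ hw p hp hpd)
    have hSK : ∀ s : ↥X, s ∈ (S : Subgroup ↥X) → (s : G) ∈ K := by
      intro s hs
      obtain ⟨j, hj⟩ := S.isPGroup' ⟨s, hs⟩
      have hj' : s ^ q ^ j = 1 := congrArg Subtype.val hj
      have hj'' : (s : G) ^ q ^ j = 1 := by
        have h0 := congrArg Subtype.val hj'
        simpa using h0
      have h1 : (QuotientGroup.mk' K) (s : G) ∈ Lq := hXM s.2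
      rw [hLq] at h1
      have h2 : ((QuotientGroup.mk' K) (s : G)) ^ q ^ j = 1 := by
        rw [← map_pow, hj'', map_one]
      -- a π-element of q-power order is trivial
      have h3 : (QuotientGroup.mk' K) (s : G) = 1 := by
        by_contra hne
        have h4 : orderOf ((QuotientGroup.mk' K) (s : G)) ≠ 1 :=
          fun h => hne (orderOf_eq_one_iff.mp h)
        obtain ⟨p, hp, hpd⟩ := Nat.exists_prime_and_dvd h4
        have h5 := hpd.trans (orderOf_dvd_of_pow_eq_one h2)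
        have h6 := (Nat.prime_dvd_prime_iff_eq hp hq).mp (hp.dvd_of_dvd_pow h5)
        exact hqπ (h6 ▸ h1 p hp hpd)
      exact (QuotientGroup.eq_one_iff _).mp h3
    have hNC : Subgroup.normalizer ((S : Subgroup ↥X) : Set ↥X) ≤
        Subgroup.centralizer ((S : Subgroup ↥X) : Set ↥X) := by
      intro y hy
      rw [Subgroup.mem_centralizer_iff]
      intro s hs
      have h1 : y * s * y⁻¹ * s⁻¹ ∈ (S : Subgroup ↥X) :=
        (S : Subgroup ↥X).mul_mem ((Subgroup.mem_normalizer_iff.mp hy s).mp hs)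
          ((S : Subgroup ↥X).inv_mem hs)
      have h2 : ((y * s * y⁻¹ * s⁻¹ : ↥X) : G) ∈ O := (hCmem _).mp (hXC y.2) _ (hSK s hs)
      obtain ⟨j, hj⟩ := S.isPGroup' ⟨_, h1⟩
      have hj' : (y * s * y⁻¹ * s⁻¹) ^ q ^ j = 1 := congrArg Subtype.val hj
      have hj'' : ((y * s * y⁻¹ * s⁻¹ : ↥X) : G) ^ q ^ j = 1 := by
        have h0 := congrArg Subtype.val hj'
        simpa using h0
      have h3 := hqelt _ ((hOmem _).mp h2).2 j hj''
      have h4 : y * s * y⁻¹ * s⁻¹ = 1 := Subtype.ext h3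
      calc s * y = (y * s * y⁻¹ * s⁻¹)⁻¹ * (y * s) := by group
        _ = y * s := by rw [h4]; group
    obtain ⟨P', W, hWn, hW⟩ :=
      Cfsg.Agent.Lib.Helper1.hasNormalPComplement_of_le_centralizer S hNC
    have hWmem := Cfsg.Agent.S4145.compl_mem_iff q P' W hW
    have hWtop : W = ⊤ := by
      have h1 : X ≤ W.map X.subtype := by
        apply hXle
        intro x hx
        have hxX : x ∈ X := hXpi x hx
        refine ⟨⟨x, hxX⟩, (hWmem _).mpr ?_, rfl⟩
        rw [Subgroup.orderOf_mk]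
        apply Nat.Coprime.symm
        rw [Nat.Prime.coprime_iff_not_dvd hq]
        intro hd
        exact hqπ (hx q hq hd)
      rw [eq_top_iff]
      intro x _
      obtain ⟨w, hw, hwx⟩ := h1 x.2
      have : w = x := Subtype.ext hwx
      rw [← this]; exact hw
    have h1 := hW.card_mul_card
    rw [hWtop, Subgroup.card_top] at h1
    have h2 : Nat.card (P' : Subgroup ↥X) = 1 := by
      have h3 : Nat.card ↥X * Nat.card (P' : Subgroup ↥X) = Nat.card ↥X * 1 := by rw [h1, mul_one]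
      exact Nat.eq_of_mul_eq_mul_left Nat.card_pos h3
    have h4 := Subgroup.card_mul_index (P' : Subgroup ↥X)
    rw [h2, one_mul] at h4
    exact P'.not_dvd_index (h4 ▸ hdvd)
  refine ⟨X, fun x => ⟨?_, hXpi x⟩⟩
  intro hx p hp hd
  by_contra hpπ
  exact hqX p hp hpπ (hd.trans (Subgroup.orderOf_dvd_natCard X hx))

/-- Let π be a set of primes and G a finite group such that N_G(H)/C_G(H) is a π'-group for every nontrivial π'-subgroup H of G. If K is a normal subgroup of G such that the π-elements of K form a subgroup and the π-elements of G/K form a subgroup, then the π-elements of G form a subgroup. -/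
theorem result {G : Type*} [Group G] [Finite G] (π : Set ℕ)
    (hπ : ∀ p ∈ π, p.Prime) (hhom : (∀ H : Subgroup G, H ≠ ⊥ → (∀ p : ℕ, p.Prime → p ∣ Nat.card ↥H → p ∉ π) →
        ∀ p : ℕ, p.Prime → p ∣ (Subgroup.centralizer (H : Set G)).relIndex (Subgroup.normalizer (H : Set G)) → p ∉ π))
    (K : Subgroup G) [K.Normal]
    (hK : ∃ L : Subgroup ↥K, ∀ x : ↥K, x ∈ L ↔ ∀ p : ℕ, p.Prime → p ∣ orderOf x → p ∈ π)
    (hQ : ∃ L : Subgroup (G ⧸ K), ∀ x : G ⧸ K, x ∈ L ↔ ∀ p : ℕ, p.Prime → p ∣ orderOf x → p ∈ π) :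
    (∃ K : Subgroup G, ∀ x : G, x ∈ K ↔ ∀ p : ℕ, p.Prime → p ∣ orderOf x → p ∈ π) := by
  exact main π (fun H hH x hx hxn => stepE π hhom H hH x hx hxn) K hK hQ

end Cfsg.Agent.S4051
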