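import Cfsg.Statements.S4050
import Mathlib
import Cfsg.Agent.S4051

set_option autoImplicit false
open Cfsg

namespace Cfsg.Agent.S4050

open scoped Pointwise
open Cfsg.Agent.S4051

universe u

theorem piElt_one' {G : Type*} [Group G] (π : Set ℕ) : PiElt π (1 : G) := by
  intro p hp hd
  rw [orderOf_one] at hd
  exact absurd (Nat.dvd_one.mp hd) hp.one_lt.ne'

theorem cent_normal {G : Type*} [Group G] (H : Subgroup G) :
    ((Subgroup.centralizer (H : Set G)).subgroupOf (Subgroup.normalizer (H : Set G))).Normal := by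
  constructor
  rintro ⟨c, hcN⟩ hc ⟨n, hn⟩
  rw [Subgroup.mem_subgroupOf] at hc ⊢
  show n * c * n⁻¹ ∈ Subgroup.centralizer (H : Set G)
  have hc' : c ∈ Subgroup.centralizer (H : Set G) := hc
  rw [Subgroup.mem_centralizer_iff] at hc' ⊢
  intro h hh
  have hh' : n⁻¹ * h * n ∈ H := by
    have h2 := (Subgroup.mem_normalizer_iff.mp (Subgroup.inv_mem _ hn) h).mp hh
    simpa using h2
  have h3 := hc' _ hh'
  have e1 : h * (n * c * n⁻¹) = n * (n⁻¹ * h * n * c) * n⁻¹ := by group
  rw [e1, h3]; group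

theorem forward {G : Type u} [Group G] [Finite G] (π : Set ℕ)
    (X : Subgroup G) (hX : ∀ x : G, x ∈ X ↔ PiElt π x) :
    ((∃ (n : ℕ) (H : Fin (n + 1) → Subgroup G), H 0 = ⊥ ∧ H (Fin.last n) = ⊤ ∧ Monotone H ∧
      (∀ i, (H i).Normal) ∧
      ∀ i : Fin n, (∀ q : ℕ, q.Prime → q ∣ (H i.castSucc).relIndex (H i.succ) → q ∈ π) ∨
        (∀ q : ℕ, q.Prime → q ∣ (H i.castSucc).relIndex (H i.succ) → q ∉ π)) ∧
     (∀ H : Subgroup G, H ≠ ⊥ → (∀ p : ℕ, p.Prime → p ∣ Nat.card ↥H → p ∉ π) →
        ∀ p : ℕ, p.Prime → p ∣ (Subgroup.centralizer (H : Set G)).relIndex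
          (Subgroup.normalizer (H : Set G)) → p ∉ π)) := by
  have hXn : X.Normal := by
    constructor
    intro z hz g
    rw [hX] at hz ⊢
    exact piElt_conj π z g hz
  constructor
  · refine ⟨2, ![⊥, X, ⊤], rfl, rfl, ?_, ?_, ?_⟩
    · apply Fin.monotone_iff_le_succ.mpr
      intro i
      fin_cases i
      · show (⊥ : Subgroup G) ≤ X
        exact bot_le
      · show X ≤ (⊤ : Subgroup G)
        exact le_top
    · intro i
      fin_cases i
      · show (⊥ : Subgroup G).Normal
        infer_instance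
      · exact hXn
      · show (⊤ : Subgroup G).Normal
        infer_instance
    · intro i
      fin_cases i
      · left
        show ∀ q : ℕ, q.Prime → q ∣ (⊥ : Subgroup G).relIndex X → q ∈ π
        intro q hq hd
        rw [Subgroup.relIndex_bot_left] at hd
        have hFq : Fact q.Prime := ⟨hq⟩
        obtain ⟨x, hx⟩ := exists_prime_orderOf_dvd_card' (G := ↥X) q hd
        have h1 := (hX (x : G)).mp x.2
        apply h1 q hq
        rw [Subgroup.orderOf_coe, hx]
      · right
        show ∀ q : ℕ, q.Prime → q ∣ X.relIndex (⊤ : Subgroup G) → q ∉ π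
        intro q hq hd hqπ
        rw [Subgroup.relIndex_top_right, Subgroup.index_eq_card] at hd
        have hFq : Fact q.Prime := ⟨hq⟩
        obtain ⟨x, hx⟩ := exists_prime_orderOf_dvd_card' (G := G ⧸ X) q hd
        obtain ⟨g, rfl⟩ := QuotientGroup.mk_surjective x
        have h1 : (QuotientGroup.mk g : G ⧸ X) ^ q = 1 := by
          rw [← hx]; exact pow_orderOf_eq_one _
        rw [← QuotientGroup.mk_pow, QuotientGroup.eq_one_iff] at h1
        have h2 : PiElt π (g ^ q ^ 1) := by rw [pow_one]; exact (hX _).mp h1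
        have h3 := piElt_of_pow π g q 1 hq hqπ h2
        have h4 : (QuotientGroup.mk g : G ⧸ X) = 1 := (QuotientGroup.eq_one_iff _).mpr ((hX g).mpr h3)
        rw [h4, orderOf_one] at hx
        exact hq.one_lt.ne' hx.symm
  · intro H _ hH p hp hd hpπ
    have hFp : Fact p.Prime := ⟨hp⟩
    have hnorm := cent_normal H
    have hd' : p ∣ Nat.card (↥(Subgroup.normalizer (H : Set G)) ⧸
        (Subgroup.centralizer (H : Set G)).subgroupOf (Subgroup.normalizer (H : Set G))) := by
      rw [← Subgroup.index_eq_card]; exact hd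
    obtain ⟨x, hx⟩ := exists_prime_orderOf_dvd_card' p hd'
    obtain ⟨n, rfl⟩ := QuotientGroup.mk_surjective x
    have h1 : (QuotientGroup.mk n : ↥(Subgroup.normalizer (H : Set G)) ⧸
        (Subgroup.centralizer (H : Set G)).subgroupOf (Subgroup.normalizer (H : Set G))) ^ p = 1 := by
      rw [← hx]; exact pow_orderOf_eq_one _
    rw [← QuotientGroup.mk_pow, QuotientGroup.eq_one_iff, Subgroup.mem_subgroupOf] at h1
    have h1' : (n : G) ^ p ∈ Subgroup.centralizer (H : Set G) := h1
    -- the p'-part power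
    obtain ⟨e, m, hm, hem⟩ := Nat.exists_eq_pow_mul_and_not_dvd (orderOf_pos (n : G)).ne' p
      hp.ne_one
    have h2 : PiElt π ((n : G) ^ m) := by
      intro q hq hqd
      have h3 : ((n : G) ^ m) ^ p ^ e = 1 := by
        rw [← pow_mul, mul_comm, ← hem]; exact pow_orderOf_eq_one _
      have h4 := hqd.trans (orderOf_dvd_of_pow_eq_one h3)
      rw [(Nat.prime_dvd_prime_iff_eq hq hp).mp (hq.dvd_of_dvd_pow h4)]; exact hpπ
    have h5 : (n : G) ^ m ∈ X := (hX _).mpr h2
    have h6 : (n : G) ^ m ∈ Subgroup.normalizer (H : Set G) := Subgroup.pow_mem _ n.2 m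
    have h7 : (n : G) ^ m ∈ Subgroup.centralizer (H : Set G) := by
      rw [Subgroup.mem_centralizer_iff]
      intro h hh
      have h8 : (n : G) ^ m * h * ((n : G) ^ m)⁻¹ * h⁻¹ ∈ H :=
        H.mul_mem ((Subgroup.mem_normalizer_iff.mp h6 h).mp hh) (H.inv_mem hh)
      have h9 : (n : G) ^ m * h * ((n : G) ^ m)⁻¹ * h⁻¹ ∈ X := by
        have e1 : (n : G) ^ m * h * ((n : G) ^ m)⁻¹ * h⁻¹
            = (n : G) ^ m * (h * ((n : G) ^ m)⁻¹ * h⁻¹) := by group
        rw [e1]
        exact X.mul_mem h5 (hXn.conj_mem _ (X.inv_mem h5) h)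
      have h10 : (n : G) ^ m * h * ((n : G) ^ m)⁻¹ * h⁻¹ = 1 := by
        by_contra hne
        have h11 : orderOf ((n : G) ^ m * h * ((n : G) ^ m)⁻¹ * h⁻¹) ≠ 1 :=
          fun h0 => hne (orderOf_eq_one_iff.mp h0)
        obtain ⟨q, hq, hqd⟩ := Nat.exists_prime_and_dvd h11
        exact hH q hq (hqd.trans (Subgroup.orderOf_dvd_natCard H h8)) ((hX _).mp h9 q hq hqd)
      calc h * (n : G) ^ m = ((n : G) ^ m * h * ((n : G) ^ m)⁻¹ * h⁻¹)⁻¹ * ((n : G) ^ m * h) := by
            group
        _ = (n : G) ^ m * h := by rw [h10]; group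
    have hcop : Nat.Coprime m p := ((Nat.Prime.coprime_iff_not_dvd hp).mpr hm).symm
    have h12 := Cfsg.Agent.S4127.mem_of_pow_mem_of_coprime _ (n : G) m p hcop h7 h1'
    have h13 : (QuotientGroup.mk n : ↥(Subgroup.normalizer (H : Set G)) ⧸
        (Subgroup.centralizer (H : Set G)).subgroupOf (Subgroup.normalizer (H : Set G))) = 1 := by
      rw [QuotientGroup.eq_one_iff, Subgroup.mem_subgroupOf]; exact h12
    rw [h13, orderOf_one] at hx
    exact hp.one_lt.ne' hx.symm

theorem chain_induct : ∀ (n : ℕ) (G : Type u) [Group G] [Finite G] (π : Set ℕ),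
    (∀ H : Subgroup G, (∀ p : ℕ, p.Prime → p ∣ Nat.card ↥H → p ∉ π) → ∀ x : G,
      PiElt π x → x ∈ Subgroup.normalizer (H : Set G) → x ∈ Subgroup.centralizer (H : Set G)) →
    ∀ (H : Fin (n + 1) → Subgroup G), H 0 = ⊥ → H (Fin.last n) = ⊤ → Monotone H →
      (∀ i, (H i).Normal) →
      (∀ i : Fin n, (∀ q : ℕ, q.Prime → q ∣ (H i.castSucc).relIndex (H i.succ) → q ∈ π) ∨
        (∀ q : ℕ, q.Prime → q ∣ (H i.castSucc).relIndex (H i.succ) → q ∉ π)) →
      ∃ X : Subgroup G, ∀ x : G, x ∈ X ↔ PiElt π x := by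
  intro n
  induction n with
  | zero =>
    intro G _ _ π _ H h0 hlast _ _ _
    have h1 : (⊥ : Subgroup G) = ⊤ := by rw [← h0, ← hlast]; rfl
    refine ⟨⊤, fun x => ⟨fun _ => ?_, fun _ => Subgroup.mem_top x⟩⟩
    have h2 : x ∈ (⊥ : Subgroup G) := by rw [h1]; exact Subgroup.mem_top x
    rw [Subgroup.mem_bot.mp h2]
    exact piElt_one' π
  | succ n ih =>
    intro G _ _ π hE H h0 hlast hmono hnorm hfac
    obtain ⟨K, hKdef⟩ : ∃ K : Subgroup G, K = H (Fin.last n).castSucc := ⟨_, rfl⟩
    have hKn : K.Normal := hKdef ▸ hnorm _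
    -- the subgroup part
    have hK : ∃ L : Subgroup ↥K, ∀ x : ↥K, x ∈ L ↔ PiElt π x := by
      apply ih ↥K π ?_ (fun i => (H i.castSucc).subgroupOf K)
      · show (H (0 : Fin (n + 1)).castSucc).subgroupOf K = ⊥
        rw [Fin.castSucc_zero, h0, Subgroup.bot_subgroupOf]
      · show (H (Fin.last n).castSucc).subgroupOf K = ⊤
        rw [← hKdef, Subgroup.subgroupOf_self]
      · intro i j hij
        show (H i.castSucc).subgroupOf K ≤ (H j.castSucc).subgroupOf K
        intro z hz
        rw [Subgroup.mem_subgroupOf] at hz ⊢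
        exact hmono (Fin.castSucc_le_castSucc_iff.mpr hij) hz
      · intro i
        have := hnorm i.castSucc
        show ((H i.castSucc).subgroupOf K).Normal
        infer_instance
      · intro i
        have hle : H i.succ.castSucc ≤ K := by
          rw [hKdef]
          exact hmono (Fin.castSucc_le_castSucc_iff.mpr (Fin.le_last _))
        have h1 : ((H i.castSucc.castSucc).subgroupOf K).relIndex ((H i.succ.castSucc).subgroupOf K)
            = (H i.castSucc.castSucc).relIndex (H i.castSucc.succ) := by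
          rw [Subgroup.relIndex_subgroupOf hle, Fin.succ_castSucc]
        show (∀ q : ℕ, q.Prime → q ∣ ((H i.castSucc.castSucc).subgroupOf K).relIndex
            ((H i.succ.castSucc).subgroupOf K) → q ∈ π) ∨
          (∀ q : ℕ, q.Prime → q ∣ ((H i.castSucc.castSucc).subgroupOf K).relIndex
            ((H i.succ.castSucc).subgroupOf K) → q ∉ π)
        rw [h1]
        exact hfac i.castSucc
      · -- hE for ↥K
        intro H₁ hH₁ x hx hxn
        have hcard : Nat.card (H₁.map K.subtype) = Nat.card H₁ :=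
          Subgroup.card_map_of_injective K.subtype_injective
        have hx' : PiElt π (x : G) := piElt_of_dvd π x _ (by rw [Subgroup.orderOf_coe]) hx
        have hxn' : (x : G) ∈ Subgroup.normalizer ((H₁.map K.subtype : Subgroup G) : Set G) := by
          rw [Subgroup.mem_normalizer_iff]
          intro v
          constructor
          · rintro ⟨v', hv', rfl⟩
            exact ⟨x * v' * x⁻¹, (Subgroup.mem_normalizer_iff.mp hxn v').mp hv', rfl⟩
          · rintro ⟨w', hw', hw'eq⟩
            have hw'' : ((w' : ↥K) : G) = (x : G) * v * (x : G)⁻¹ := hw'eq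
            have hvK : v ∈ K := by
              have e1 : v = (x : G)⁻¹ * ((x : G) * v * (x : G)⁻¹) * (x : G) := by group
              rw [e1, ← hw'']
              exact K.mul_mem (K.mul_mem (K.inv_mem x.2) w'.2) x.2
            have e2 : x * ⟨v, hvK⟩ * x⁻¹ = w' := Subtype.ext hw''.symm
            exact ⟨⟨v, hvK⟩, (Subgroup.mem_normalizer_iff.mp hxn ⟨v, hvK⟩).mpr (e2 ▸ hw'), rfl⟩
        have h1 := hE (H₁.map K.subtype) (by rw [hcard]; exact hH₁) (x : G) hx' hxn'
        rw [Subgroup.mem_centralizer_iff] at h1 ⊢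
        intro h hh
        apply Subtype.ext
        exact h1 (h : G) ⟨h, hh, rfl⟩
    -- the quotient part
    have hQ : ∃ L : Subgroup (G ⧸ K), ∀ x : G ⧸ K, x ∈ L ↔ PiElt π x := by
      have h1 := hfac (Fin.last n)
      rw [Fin.succ_last, hlast, ← hKdef, Subgroup.relIndex_top_right, Subgroup.index_eq_card] at h1
      rcases h1 with h1 | h1
      · refine ⟨⊤, fun x => ⟨fun _ => ?_, fun _ => Subgroup.mem_top x⟩⟩
        intro p hp hd
        exact h1 p hp (hd.trans (orderOf_dvd_natCard x))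
      · refine ⟨⊥, fun x => ⟨fun hx => ?_, fun hx => ?_⟩⟩
        · rw [Subgroup.mem_bot.mp hx]; exact piElt_one' π
        · rw [Subgroup.mem_bot]
          by_contra hne
          have h2 : orderOf x ≠ 1 := fun h0 => hne (orderOf_eq_one_iff.mp h0)
          obtain ⟨p, hp, hpd⟩ := Nat.exists_prime_and_dvd h2
          exact h1 p hp (hpd.trans (orderOf_dvd_natCard x)) (hx p hp hpd)
    exact main π hE K hK hQ

/-- Let π be a set of primes and G a finite group. The π-elements of G (elements whose order is divisible only by primes of π) form a subgroup if and only if G is π-separable (it has a chain of normal subgroups from 1 to G with each successive index divisible only by primes in π or only by primes outside π) and N_G(H)/C_G(H) is a π'-group for every nontrivial π'-subgroup H of G. -/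
theorem result {G : Type*} [Group G] [Finite G] (π : Set ℕ)
    (hπ : ∀ p ∈ π, p.Prime) :
    (∃ K : Subgroup G, ∀ x : G, x ∈ K ↔ ∀ p : ℕ, p.Prime → p ∣ orderOf x → p ∈ π) ↔
    ((∃ (n : ℕ) (H : Fin (n + 1) → Subgroup G), H 0 = ⊥ ∧ H (Fin.last n) = ⊤ ∧ Monotone H ∧ (∀ i, (H i).Normal) ∧
      ∀ i : Fin n, (∀ q : ℕ, q.Prime → q ∣ (H i.castSucc).relIndex (H i.succ) → q ∈ π) ∨
        (∀ q : ℕ, q.Prime → q ∣ (H i.castSucc).relIndex (H i.succ) → q ∉ π)) ∧
     (∀ H : Subgroup G, H ≠ ⊥ → (∀ p : ℕ, p.Prime → p ∣ Nat.card ↥H → p ∉ π) →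
        ∀ p : ℕ, p.Prime → p ∣ (Subgroup.centralizer (H : Set G)).relIndex (Subgroup.normalizer (H : Set G)) → p ∉ π)) := by
  constructor
  · rintro ⟨X, hX⟩
    exact forward π X hX
  · rintro ⟨⟨n, H, h0, hlast, hmono, hnorm, hfac⟩, hhom⟩
    exact chain_induct n G π (fun H hH x hx hxn => stepE π hhom H hH x hx hxn) H h0 hlast hmono
      hnorm hfac

end Cfsg.Agent.S4050
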