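import Cfsg.Statements.S4113
import Mathlib

set_option autoImplicit false
open Cfsg

namespace Cfsg.Agent.S4113

/-- Let G be a finite group, M ≤ N non-trivial proper normal subgroups, and H a subgroup with HM = G and H ∩ M = 1. Then every element of G outside N acts fixed-point-freely on M (C_G(x) ≤ N for every x ∈ M, x ≠ 1) if and only if H ∩ gHg⁻¹ ≤ H ∩ N for every g outside H, with H proper and non-trivial and H ∩ N proper in H. -/
theorem result {G : Type*} [Group G] [Finite G] (N M : Subgroup G) [N.Normal] [M.Normal] (hMN : M ≤ N) (hM1 : M ≠ ⊥) (hN2 : N ≠ ⊤)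
    (H : Subgroup G) (hHM : H ⊔ M = ⊤) (hHM' : H ⊓ M = ⊥) :
    (∀ x ∈ M, x ≠ 1 → Subgroup.centralizer ({x} : Set G) ≤ N) ↔
      (H ≠ ⊥ ∧ H ≠ ⊤ ∧ H ⊓ N < H ∧ ∀ g : G, g ∉ H → H ⊓ H.map (MulAut.conj g).toMonoidHom ≤ N) := by
  have hdec : ∀ g : G, ∃ m ∈ M, ∃ h ∈ H, g = m * h := by
    intro g
    have hg : g ∈ (M ⊔ H : Subgroup G) := by rw [sup_comm, hHM]; trivial
    rw [← SetLike.mem_coe, Subgroup.normal_mul, Set.mem_mul] at hg
    obtain ⟨m, hm, h, hh, rfl⟩ := hg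
    exact ⟨m, hm, h, hh, rfl⟩
  have hinf : ∀ y : G, y ∈ H → y ∈ M → y = 1 := by
    intro y hy hy'
    have : y ∈ H ⊓ M := ⟨hy, hy'⟩
    rw [hHM'] at this
    exact Subgroup.mem_bot.1 this
  constructor
  · intro hC
    refine ⟨?_, ?_, ?_, ?_⟩
    · rintro rfl
      rw [bot_sup_eq] at hHM
      exact hN2 (top_le_iff.1 (hHM ▸ hMN))
    · rintro rfl
      rw [top_inf_eq] at hHM'
      exact hM1 hHM'
    · refine lt_of_le_of_ne inf_le_left ?_
      intro he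
      have hHN : H ≤ N := by rw [← he]; exact inf_le_right
      apply hN2
      rw [eq_top_iff, ← hHM]
      exact sup_le hHN hMN
    · intro g hg y hy
      obtain ⟨hy1, hy2⟩ := hy
      obtain ⟨h₁, hh₁, rfl⟩ := hy2
      obtain ⟨m, hm, h₀, hh₀, rfl⟩ := hdec g
      have hm1 : m ≠ 1 := by
        rintro rfl
        apply hg
        simpa using hh₀
      have hh₂ : h₀ * h₁ * h₀⁻¹ ∈ H := H.mul_mem (H.mul_mem hh₀ hh₁) (H.inv_mem hh₀)
      have hy' : (MulAut.conj (m * h₀)).toMonoidHom h₁ = m * (h₀ * h₁ * h₀⁻¹) * m⁻¹ := by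
        simp [MulAut.conj_apply, mul_assoc]
      rw [hy'] at hy1 ⊢
      have h1 : m * (h₀ * h₁ * h₀⁻¹) * m⁻¹ * (h₀ * h₁ * h₀⁻¹)⁻¹ = 1 := by
        apply hinf
        · exact H.mul_mem hy1 (H.inv_mem hh₂)
        · have : m * (h₀ * h₁ * h₀⁻¹) * m⁻¹ * (h₀ * h₁ * h₀⁻¹)⁻¹
              = m * ((h₀ * h₁ * h₀⁻¹) * m⁻¹ * (h₀ * h₁ * h₀⁻¹)⁻¹) := by group
          rw [this]
          exact M.mul_mem hm (‹M.Normal›.conj_mem _ (M.inv_mem hm) _)
      have h2 : m * (h₀ * h₁ * h₀⁻¹) * m⁻¹ = h₀ * h₁ * h₀⁻¹ := by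
        rw [mul_inv_eq_one] at h1
        exact h1
      rw [h2]
      apply hC m hm hm1
      rw [Subgroup.mem_centralizer_iff]
      intro z hz
      rw [Set.mem_singleton_iff] at hz
      subst hz
      rw [mul_inv_eq_iff_eq_mul] at h2
      exact h2
  · rintro ⟨-, -, -, hT⟩ x hx hx1 c hc
    rw [Subgroup.mem_centralizer_iff] at hc
    have hcx : x * c = c * x := hc x rfl
    obtain ⟨m, hm, h, hh, rfl⟩ := hdec c
    by_cases hhN : h ∈ N
    · exact N.mul_mem (hMN hm) hhN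
    exfalso
    have hfpf : ∀ m' ∈ M, m' * h = h * m' → m' = 1 := by
      intro m' hm' hcomm
      by_contra hne
      have hm'H : m' ∉ H := fun hmH => hne (hinf m' hmH hm')
      have hmem : h ∈ H ⊓ H.map (MulAut.conj m').toMonoidHom := by
        refine ⟨hh, h, hh, ?_⟩
        simp only [MulEquiv.toMonoidHom_eq_coe, MonoidHom.coe_coe, MulAut.conj_apply]
        rw [hcomm]; group
      exact hhN (hT m' hm'H hmem)
    let f : M → M := fun m' => ⟨(m' : G)⁻¹ * (h * m' * h⁻¹),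
      M.mul_mem (M.inv_mem m'.2) (‹M.Normal›.conj_mem _ m'.2 _)⟩
    have hf : Function.Injective f := by
      intro a b hab
      have hab' : (a : G)⁻¹ * (h * a * h⁻¹) = (b : G)⁻¹ * (h * b * h⁻¹) := congrArg Subtype.val hab
      have h3 : ((b : G) * (a : G)⁻¹) * h = h * ((b : G) * (a : G)⁻¹) := by
        have e1 : ((b : G) * (a : G)⁻¹) * h = (b : G) * ((a : G)⁻¹ * (h * a * h⁻¹)) * h * (a : G)⁻¹ := by group
        rw [e1, hab']; group
      have h4 := hfpf _ (M.mul_mem b.2 (M.inv_mem a.2)) h3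
      rw [mul_inv_eq_one] at h4
      exact Subtype.ext h4.symm
    have hsurj : Function.Surjective f := Finite.injective_iff_surjective.1 hf
    obtain ⟨m₁, hm₁⟩ := hsurj ⟨m, hm⟩
    have hm₁' : (m₁ : G)⁻¹ * (h * m₁ * h⁻¹) = m := congrArg Subtype.val hm₁
    have key : m * h = (m₁ : G)⁻¹ * h * m₁ := by
      rw [← hm₁']; group
    rw [key] at hcx
    have h5 : ((m₁ : G) * x * (m₁ : G)⁻¹) * h = h * ((m₁ : G) * x * (m₁ : G)⁻¹) := by
      have e1 : ((m₁ : G) * x * (m₁ : G)⁻¹) * h = (m₁ : G) * (x * ((m₁ : G)⁻¹ * h * m₁)) * (m₁ : G)⁻¹ := by group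
      rw [e1, hcx]; group
    have h6 := hfpf _ (M.mul_mem (M.mul_mem m₁.2 hx) (M.inv_mem m₁.2)) h5
    apply hx1
    have e2 : x = (m₁ : G)⁻¹ * ((m₁ : G) * x * (m₁ : G)⁻¹) * m₁ := by group
    rw [e2, h6]; group

end Cfsg.Agent.S4113
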