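import Cfsg.Statements.S4116
import Mathlib
import Cfsg.Agent.S4127
import Cfsg.Agent.Lib.Helper1.Basic

set_option autoImplicit false
open Cfsg

namespace Cfsg.Agent.S4116


theorem card_ne_one (X : Type*) [Group X] [Finite X] :
    Nat.card X = Nat.card {x : X // x ≠ 1} + 1 := by
  classical
  haveI : Fintype {x : X // x ≠ 1} := Fintype.ofFinite _
  have h1 : Nat.card X = Nat.card (Option {x : X // x ≠ 1}) :=
    Nat.card_congr (Equiv.optionSubtypeNe (1 : X)).symm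
  rw [h1, Nat.card_eq_fintype_card, Nat.card_eq_fintype_card, Fintype.card_option]

theorem count {X : Type*} [Group X] [Finite X] (L : Subgroup X) (hL : L ≠ ⊥)
    (hTI : ∀ c x : X, x ≠ 1 → x ∈ L → c * x * c⁻¹ ∈ L → c ∈ L) :
    Nat.card X ≤ 2 * Nat.card {y : X // y ≠ 1 ∧ ∃ c, c⁻¹ * y * c ∈ L} := by
  let φ : (X ⧸ L) × {x : L // x ≠ 1} → {y : X // y ≠ 1 ∧ ∃ c, c⁻¹ * y * c ∈ L} := fun a =>
    ⟨a.1.out * (a.2.1 : X) * a.1.out⁻¹, by
      constructor
      · intro h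
        apply a.2.2
        apply Subtype.ext
        have e : (a.2.1 : X) = a.1.out⁻¹ * (a.1.out * (a.2.1 : X) * a.1.out⁻¹) * a.1.out := by
          group
        rw [e, h]; simp
      · refine ⟨a.1.out, ?_⟩
        have e : a.1.out⁻¹ * (a.1.out * (a.2.1 : X) * a.1.out⁻¹) * a.1.out = (a.2.1 : X) := by
          group
        rw [e]; exact a.2.1.2⟩
  have hinj : Function.Injective φ := by
    rintro ⟨q, ⟨x, hx⟩⟩ ⟨q', ⟨x', hx'⟩⟩ h
    have h1 : q.out * (x : X) * q.out⁻¹ = q'.out * (x' : X) * q'.out⁻¹ := congrArg Subtype.val h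
    have h2 : (q'.out⁻¹ * q.out) * (x : X) * (q'.out⁻¹ * q.out)⁻¹ = (x' : X) := by
      have e : (q'.out⁻¹ * q.out) * (x : X) * (q'.out⁻¹ * q.out)⁻¹
          = q'.out⁻¹ * (q.out * (x : X) * q.out⁻¹) * q'.out := by group
      rw [e, h1]; group
    have hx1 : (x : X) ≠ 1 := fun h => hx (Subtype.ext h)
    have h3 : q'.out⁻¹ * q.out ∈ L := hTI _ _ hx1 x.2 (by rw [h2]; exact x'.2)
    have hq : q' = q := by
      rw [← QuotientGroup.out_eq' q', ← QuotientGroup.out_eq' q]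
      exact QuotientGroup.eq.mpr h3
    subst hq
    have hxx : x = x' := by
      apply Subtype.ext
      have e : (x : X) = q'.out⁻¹ * (q'.out * (x : X) * q'.out⁻¹) * q'.out := by group
      rw [e, h1]; group
    subst hxx
    rfl
  have hcard := Nat.card_le_card_of_injective φ hinj
  rw [Nat.card_prod] at hcard
  have hLcard := card_ne_one ↥L
  have hL2 : 1 ≤ Nat.card {x : L // x ≠ 1} := by
    obtain ⟨x, hx⟩ := Subgroup.ne_bot_iff_exists_ne_one.mp hL
    exact Nat.card_pos_iff.mpr ⟨⟨⟨x, hx⟩⟩, inferInstance⟩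
  have hX : Nat.card X = Nat.card (X ⧸ L) * Nat.card L := by
    rw [← Subgroup.index_eq_card, mul_comm]; exact (Subgroup.card_mul_index L).symm
  rw [hX, hLcard]
  have h5 : Nat.card (X ⧸ L) ≤ Nat.card (X ⧸ L) * Nat.card {x : L // x ≠ 1} :=
    Nat.le_mul_of_pos_right _ hL2
  calc Nat.card (X ⧸ L) * (Nat.card {x : L // x ≠ 1} + 1)
      = Nat.card (X ⧸ L) * Nat.card {x : L // x ≠ 1} + Nat.card (X ⧸ L) := by ring
    _ ≤ 2 * Nat.card {y : X // y ≠ 1 ∧ ∃ c, c⁻¹ * y * c ∈ L} := by omega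

/-- the part of `K` inside the conjugate of `H` by `a` -/
def conjSub {G : Type*} [Group G] (H K : Subgroup G) (a : G) : Subgroup ↥K :=
  (H.map (MulAut.conj a).toMonoidHom).subgroupOf K

theorem mem_conjSub {G : Type*} [Group G] (H K : Subgroup G) (a : G) (k : ↥K) :
    k ∈ conjSub H K a ↔ a⁻¹ * (k : G) * a ∈ H := by
  unfold conjSub
  rw [Subgroup.mem_subgroupOf]
  constructor
  · rintro ⟨h, hh, he⟩
    have e1 : (MulAut.conj a).toMonoidHom h = a * h * a⁻¹ := rfl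
    rw [← he, e1]
    have e2 : a⁻¹ * (a * h * a⁻¹) * a = h := by group
    rw [e2]; exact hh
  · intro h
    refine ⟨a⁻¹ * (k : G) * a, h, ?_⟩
    show a * (a⁻¹ * (k : G) * a) * a⁻¹ = k
    group

/-- Let G be a finite group with a subgroup H whose order is coprime to its index (a Hall subgroup) and which meets each of its conjugates by elements outside N_G(H) trivially. Then every subgroup of G whose order is divisible only by primes dividing the order of H lies in a conjugate of H. -/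
theorem result {G : Type*} [Group G] [Finite G] (H : Subgroup G)
    (hHall : (Nat.card H).Coprime H.index) (hTI : Cfsg.IsTISubset (H : Set G))
    (K : Subgroup G) (hK : ∀ q : ℕ, q.Prime → q ∣ Nat.card K → q ∣ Nat.card H) :
    ∃ g : G, K ≤ H.map (MulAut.conj g).toMonoidHom := by
  have hP : ∀ n : G, n ∈ Subgroup.normalizer (H : Set G) →
      (∀ q : ℕ, q.Prime → q ∣ orderOf n → q ∣ Nat.card H) → n ∈ H := by
    intro n hn hq
    have hnorm : (H.subgroupOf (Subgroup.normalizer (H : Set G))).Normal :=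
      Subgroup.normal_in_normalizer
    have h1 := Subgroup.pow_index_mem (H.subgroupOf (Subgroup.normalizer (H : Set G)))
      (⟨n, hn⟩ : ↥(Subgroup.normalizer (H : Set G)))
    have h2 : n ^ H.relIndex (Subgroup.normalizer (H : Set G)) ∈ H := h1
    have hcop : Nat.Coprime (H.relIndex (Subgroup.normalizer (H : Set G))) (orderOf n) := by
      apply Nat.Coprime.symm
      apply Nat.coprime_of_dvd
      intro q hqp hq1 hq2
      have h3 : q ∣ Nat.card H := hq q hqp hq1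
      have h4 : q ∣ H.index :=
        hq2.trans (Dvd.intro _ (Subgroup.relIndex_mul_index Subgroup.le_normalizer))
      exact hqp.one_lt.ne' (Nat.eq_one_of_dvd_coprimes hHall h3 h4)
    obtain ⟨s, hs⟩ := exists_pow_eq_self_of_coprime hcop
    rw [← hs]; exact H.pow_mem h2 s
  have hT : ∀ (x g g' : G), x ≠ 1 → g⁻¹ * x * g ∈ H → g'⁻¹ * x * g' ∈ H →
      g⁻¹ * g' ∈ Subgroup.normalizer (H : Set G) := by
    intro x g g' hx hg hg'
    by_contra hn
    have h1 := hTI (g⁻¹ * g') hn (g'⁻¹ * x * g') hg' (by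
      have e : g⁻¹ * g' * (g'⁻¹ * x * g') * (g⁻¹ * g')⁻¹ = g⁻¹ * x * g := by group
      rw [e]; exact hg)
    apply hx
    have e : x = g' * (g'⁻¹ * x * g') * g'⁻¹ := by group
    rw [e, h1]; group
  have hKpi : ∀ k ∈ K, ∀ g : G, ∀ q : ℕ, q.Prime → q ∣ orderOf (g⁻¹ * k * g) →
      q ∣ Nat.card H := by
    intro k hk g q hq hdvd
    have h1 : orderOf (g⁻¹ * k * g) = orderOf k := by
      have e : g⁻¹ * k * g = MulAut.conj g⁻¹ k := by simp [MulAut.conj_apply]
      rw [e]; exact MulEquiv.orderOf_eq _ _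
    rw [h1] at hdvd
    exact hK q hq (hdvd.trans (Subgroup.orderOf_dvd_natCard K hk))
  have hF1 : ∀ k ∈ K, k ≠ 1 → ∃ g : G, g⁻¹ * k * g ∈ H := by
    intro k hk hk1
    have ho : orderOf k ≠ 1 := fun h => hk1 (orderOf_eq_one_iff.mp h)
    obtain ⟨p, hp, hpd⟩ := Nat.exists_prime_and_dvd ho
    have : Fact p.Prime := ⟨hp⟩
    have hpH : p ∣ Nat.card H := hK p hp (hpd.trans (Subgroup.orderOf_dvd_natCard K hk))
    obtain ⟨m, hm⟩ := hpd
    have hm0 : m ≠ 0 := by
      rintro rfl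
      rw [mul_zero] at hm
      exact (orderOf_pos k).ne' hm
    obtain ⟨x, hxdef⟩ : ∃ x, x = k ^ m := ⟨_, rfl⟩
    have hxo : orderOf x = p := by
      rw [hxdef, orderOf_pow_of_dvd hm0 (Dvd.intro_left _ hm.symm), hm]
      exact Nat.mul_div_cancel _ (Nat.pos_of_ne_zero hm0)
    have hx1 : x ≠ 1 := by
      intro h
      rw [h, orderOf_one] at hxo
      exact hp.one_lt.ne' hxo.symm
    have hxp : IsPGroup p (Subgroup.zpowers x) :=
      IsPGroup.of_card (n := 1) (by rw [Nat.card_zpowers, hxo, pow_one])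
    obtain ⟨P, hPx⟩ := hxp.exists_le_sylow
    have hpi : ¬ p ∣ H.index := fun h => hp.one_lt.ne' (Nat.eq_one_of_dvd_coprimes hHall hpH h)
    obtain ⟨Q, hQ⟩ := Cfsg.Agent.S4127.exists_sylow_le_of_not_dvd_index p H hpi
    obtain ⟨g, hg⟩ := MulAction.exists_smul_eq G P Q
    have hxH : g * x * g⁻¹ ∈ H := by
      apply hQ
      rw [← hg, Sylow.coe_subgroup_smul, Cfsg.Agent.Lib.Helper1.mem_conj_smul_iff]
      have e : g⁻¹ * (g * x * g⁻¹) * g = x := by group
      rw [e]; exact hPx (Subgroup.mem_zpowers x)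
    refine ⟨g⁻¹, ?_⟩
    have hn : g⁻¹⁻¹ * k * g⁻¹ ∈ Subgroup.normalizer (H : Set G) := by
      by_contra hn
      have h1 := hTI _ hn (g * x * g⁻¹) hxH (by
        have e : g⁻¹⁻¹ * k * g⁻¹ * (g * x * g⁻¹) * (g⁻¹⁻¹ * k * g⁻¹)⁻¹
            = g * (k * x * k⁻¹) * g⁻¹ := by group
        rw [e]
        have e2 : k * x * k⁻¹ = x := by rw [hxdef]; group
        rw [e2]; exact hxH)
      apply hx1
      have e : x = g⁻¹ * (g * x * g⁻¹) * g := by group
      rw [e, h1]; group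
    exact hP _ hn (hKpi k hk g⁻¹)
  by_cases hKbot : K = ⊥
  · exact ⟨1, by rw [hKbot]; exact bot_le⟩
  obtain ⟨k₁, hk₁1⟩ := Subgroup.ne_bot_iff_exists_ne_one.mp hKbot
  have hk₁1' : (k₁ : G) ≠ 1 := fun h => hk₁1 (Subtype.ext h)
  obtain ⟨a, ha⟩ := hF1 k₁ k₁.2 hk₁1'
  by_contra hcon
  push Not at hcon
  have hLa : conjSub H K a ≠ ⊤ := by
    intro hLa
    apply hcon a
    intro k hk
    have h1 := (mem_conjSub H K a ⟨k, hk⟩).mp (hLa ▸ Subgroup.mem_top _)
    refine ⟨a⁻¹ * k * a, h1, ?_⟩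
    show a * (a⁻¹ * k * a) * a⁻¹ = k
    group
  have hex : ∃ k₂ : ↥K, ∀ c : ↥K, c⁻¹ * k₂ * c ∉ conjSub H K a := by
    by_contra h
    push Not at h
    exact hLa (Cfsg.Agent.S4127.eq_top_of_forall_conj_mem _ h)
  obtain ⟨k₂, hk₂⟩ := hex
  have hk₂1 : k₂ ≠ 1 := by
    rintro rfl
    apply hk₂ 1
    rw [mem_conjSub]
    simp [H.one_mem]
  have hk₂1' : (k₂ : G) ≠ 1 := fun h => hk₂1 (Subtype.ext h)
  obtain ⟨b, hb⟩ := hF1 k₂ k₂.2 hk₂1'
  have hTIK : ∀ e : G, ∀ c x : ↥K, x ≠ 1 → x ∈ conjSub H K e → c * x * c⁻¹ ∈ conjSub H K e →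
      c ∈ conjSub H K e := by
    intro e c x hx1 hx hcx
    rw [mem_conjSub] at hx hcx ⊢
    have hy1 : ((c * x * c⁻¹ : ↥K) : G) ≠ 1 := by
      intro h
      apply hx1
      have h' : c * x * c⁻¹ = 1 := Subtype.ext h
      have e1 : x = c⁻¹ * (c * x * c⁻¹) * c := by group
      rw [e1, h']; group
    have h1 := hT ((c * x * c⁻¹ : ↥K) : G) e ((c : G) * e) hy1 hcx (by
      have e1 : ((c : G) * e)⁻¹ * ((c * x * c⁻¹ : ↥K) : G) * ((c : G) * e) = e⁻¹ * (x : G) * e := by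
        push_cast
        group
      rw [e1]; exact hx)
    have h2 : e⁻¹ * (c : G) * e ∈ Subgroup.normalizer (H : Set G) := by
      rw [mul_assoc]; exact h1
    exact hP _ h2 (hKpi c c.2 e)
  have hc1 := count (conjSub H K a) (by
    intro h
    have h1 : k₁ ∈ conjSub H K a := (mem_conjSub H K a k₁).mpr ha
    rw [h, Subgroup.mem_bot] at h1
    exact hk₁1 h1) (hTIK a)
  have hc2 := count (conjSub H K b) (by
    intro h
    have h1 : k₂ ∈ conjSub H K b := (mem_conjSub H K b k₂).mpr hb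
    rw [h, Subgroup.mem_bot] at h1
    exact hk₂1 h1) (hTIK b)
  have hdisj : ∀ y : ↥K, y ≠ 1 → ∀ c d : ↥K, c⁻¹ * y * c ∈ conjSub H K a →
      d⁻¹ * y * d ∈ conjSub H K b → False := by
    intro y hy1 c d hc hd
    rw [mem_conjSub] at hc hd
    have hy1' : (y : G) ≠ 1 := fun h => hy1 (Subtype.ext h)
    have hn := hT (y : G) ((c : G) * a) ((d : G) * b) hy1' (by
      have e1 : ((c : G) * a)⁻¹ * (y : G) * ((c : G) * a) = a⁻¹ * ((c⁻¹ * y * c : ↥K) : G) * a := by
        push_cast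
        group
      rw [e1]; exact hc) (by
      have e1 : ((d : G) * b)⁻¹ * (y : G) * ((d : G) * b) = b⁻¹ * ((d⁻¹ * y * d : ↥K) : G) * b := by
        push_cast
        group
      rw [e1]; exact hd)
    have h3 := (Subgroup.mem_normalizer_iff.mp hn _).mp hb
    apply hk₂ (d⁻¹ * c)
    rw [mem_conjSub]
    have e1 : a⁻¹ * (((d⁻¹ * c)⁻¹ * k₂ * (d⁻¹ * c) : ↥K) : G) * a
        = ((c : G) * a)⁻¹ * ((d : G) * b) * (b⁻¹ * (k₂ : G) * b) * (((c : G) * a)⁻¹ * ((d : G) * b))⁻¹ := by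
      push_cast
      group
    rw [e1]; exact h3
  let f : {y : ↥K // y ≠ 1 ∧ ∃ c, c⁻¹ * y * c ∈ conjSub H K a} ⊕
      {y : ↥K // y ≠ 1 ∧ ∃ c, c⁻¹ * y * c ∈ conjSub H K b} → {y : ↥K // y ≠ 1} :=
    Sum.elim (fun y => ⟨y.1, y.2.1⟩) (fun y => ⟨y.1, y.2.1⟩)
  have hf : Function.Injective f := by
    rintro (⟨y, hy1, c, hc⟩ | ⟨y, hy1, c, hc⟩) (⟨z, hz1, d, hd⟩ | ⟨z, hz1, d, hd⟩) h
    · have h1 : y = z := congrArg Subtype.val h
      subst h1; rfl
    · have h1 : y = z := congrArg Subtype.val h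
      subst h1
      exact (hdisj y hy1 c d hc hd).elim
    · have h1 : y = z := congrArg Subtype.val h
      subst h1
      exact (hdisj y hy1 d c hd hc).elim
    · have h1 : y = z := congrArg Subtype.val h
      subst h1; rfl
  have hcard := Nat.card_le_card_of_injective f hf
  rw [Nat.card_sum] at hcard
  have hKc := card_ne_one ↥K
  omega

end Cfsg.Agent.S4116
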