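import Cfsg.Statements.S4115
import Mathlib
import Cfsg.Agent.Lib.Helper23.Wielandt
import Cfsg.Agent.S4116
import Cfsg.Agent.Lib.Helper24.FrobComplement

set_option autoImplicit false
universe u
open Cfsg

namespace Cfsg.Agent.S4115

theorem compl_down {G : Type*} [Group G] (H M : Subgroup G) (hc : M.IsComplement' H) :
    (M.subgroupOf (Subgroup.normalizer (H : Set G))).IsComplement'
      (H.subgroupOf (Subgroup.normalizer (H : Set G))) := by
  apply Subgroup.isComplement'_of_disjoint_and_mul_eq_univ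
  · rw [Subgroup.disjoint_def]
    intro x hx1 hx2
    rw [Subgroup.mem_subgroupOf] at hx1 hx2
    have h0 : (x : G) ∈ M ⊓ H := ⟨hx1, hx2⟩
    rw [hc.disjoint.eq_bot, Subgroup.mem_bot] at h0
    exact Subtype.ext h0
  · rw [Set.eq_univ_iff_forall]
    intro n
    obtain ⟨⟨m, h⟩, hx, -⟩ := (Subgroup.isComplement_iff_existsUnique.mp
      (Subgroup.isComplement'_def.mp hc) (n : G))
    have hx' : (m : G) * (h : G) = (n : G) := hx
    have hh : (h : G) ∈ Subgroup.normalizer (H : Set G) := Subgroup.le_normalizer h.2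
    have hm : (m : G) ∈ Subgroup.normalizer (H : Set G) := by
      have e : (m : G) = (n : G) * (h : G)⁻¹ := by rw [← hx']; group
      rw [e]; exact Subgroup.mul_mem _ n.2 (Subgroup.inv_mem _ hh)
    refine Set.mem_mul.mpr ⟨⟨m, hm⟩, ?_, ⟨h, hh⟩, ?_, ?_⟩
    · exact Subgroup.mem_subgroupOf.mpr m.2
    · exact Subgroup.mem_subgroupOf.mpr h.2
    · exact Subtype.ext hx'

theorem centr {G : Type*} [Group G] (H M : Subgroup G) (hMn : M.Normal) (hd : Disjoint M H)
    (k : G) (hk : k ∈ M) (hkN : k ∈ Subgroup.normalizer (H : Set G)) (h : G) (hh : h ∈ H) :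
    k * h = h * k := by
  have h1 : k * h * k⁻¹ * h⁻¹ ∈ M := by
    have e : k * h * k⁻¹ * h⁻¹ = k * (h * k⁻¹ * h⁻¹) := by group
    rw [e]; exact M.mul_mem hk (hMn.conj_mem _ (M.inv_mem hk) h)
  have h2 : k * h * k⁻¹ * h⁻¹ ∈ H :=
    H.mul_mem ((Subgroup.mem_normalizer_iff.mp hkN h).mp hh) (H.inv_mem hh)
  have h3 : k * h * k⁻¹ * h⁻¹ = 1 := by
    have : k * h * k⁻¹ * h⁻¹ ∈ M ⊓ H := ⟨h1, h2⟩
    rwa [hd.eq_bot, Subgroup.mem_bot] at this
  have e : k * h = (k * h * k⁻¹ * h⁻¹) * (h * k) := by group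
  rw [e, h3, one_mul]

theorem ti_norm {G : Type*} [Group G] (H : Subgroup G) (hTI : Cfsg.IsTISubset (H : Set G))
    (x : G) (hx : x ∈ H) (hx1 : x ≠ 1) (a : G) (ha : a * x * a⁻¹ ∈ H) :
    a ∈ Subgroup.normalizer (H : Set G) := by
  by_contra hn
  exact hx1 (hTI a hn x hx ha)

theorem cop_one {G : Type*} [Group G] (H K : Subgroup G)
    (hcop : (Nat.card H).Coprime (Nat.card K)) (w : G) (hw : w ∈ K) (n : ℕ)
    (hn : n ∣ Nat.card H) (hwn : w ^ n = 1) : w = 1 := by
  have h1 : orderOf w ∣ Nat.card H := (orderOf_dvd_of_pow_eq_one hwn).trans hn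
  have h2 : orderOf w ∣ Nat.card K := Subgroup.orderOf_dvd_natCard K hw
  have h3 := Nat.dvd_gcd h1 h2
  rw [hcop.gcd_eq_one] at h3
  exact orderOf_eq_one_iff.mp (Nat.dvd_one.mp h3)

theorem pow_card_mem {G : Type*} [Group G] (K : Subgroup G) (k : G) (hk : k ∈ K) :
    k ^ Nat.card K = 1 := by
  exact orderOf_dvd_iff_pow_eq_one.mp (Subgroup.orderOf_dvd_natCard K hk)

theorem key {G : Type*} [Group G] (H M : Subgroup G) (hMn : M.Normal)
    (hd : Disjoint M H) (hTI : Cfsg.IsTISubset (H : Set G))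
    (hcop : (Nat.card H).Coprime (Nat.card (M ⊓ Subgroup.normalizer (H : Set G) : Subgroup G)))
    (a x : G) (hx : x ∈ H) (hx1 : x ≠ 1)
    (hw : a⁻¹ * x⁻¹ * a * x ∈ M ⊓ Subgroup.normalizer (H : Set G)) :
    a ∈ Subgroup.normalizer (H : Set G) := by
  obtain ⟨w, hwdef⟩ : ∃ w : G, w = a⁻¹ * x⁻¹ * a * x := ⟨_, rfl⟩
  rw [← hwdef] at hw
  have hcomm : w * x⁻¹ = x⁻¹ * w := centr H M hMn hd w hw.1 hw.2 x⁻¹ (H.inv_mem hx)
  have e1 : a⁻¹ * x⁻¹ * a = w * x⁻¹ := by rw [hwdef]; group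
  have hpow : (a⁻¹ * x⁻¹ * a) ^ orderOf x = 1 := by
    have h1 := conj_pow (a := a⁻¹) (b := x⁻¹) (i := orderOf x)
    rw [inv_inv] at h1
    rw [h1, inv_pow, pow_orderOf_eq_one, inv_one, mul_one, inv_mul_cancel]
  have hw1 : w ^ orderOf x = 1 := by
    rw [e1, (show Commute w x⁻¹ from hcomm).mul_pow, inv_pow, pow_orderOf_eq_one, inv_one,
      mul_one] at hpow
    exact hpow
  have hw0 : w = 1 := cop_one H _ hcop w hw (orderOf x) (Subgroup.orderOf_dvd_natCard H hx) hw1
  apply ti_norm H hTI x hx hx1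
  have e2 : a * x * a⁻¹ = x * (a * w * a⁻¹) := by rw [hwdef]; group
  rw [e2, hw0]
  simpa using hx

theorem card_mul_le {G : Type*} [Group G] [Finite G] (M H : Subgroup G) (hd : Disjoint M H) :
    Nat.card M * Nat.card H ≤ Nat.card G := by
  rw [← Nat.card_prod]
  apply Nat.card_le_card_of_injective (fun p : M × H => (p.1 : G) * (p.2 : G))
  rintro ⟨m, h⟩ ⟨m', h'⟩ hp
  have hp' : (m : G) * h = m' * h' := hp
  have h1 : (m' : G)⁻¹ * m = h' * (h : G)⁻¹ := by
    have e : (m' : G)⁻¹ * m = (m' : G)⁻¹ * (m * h) * (h : G)⁻¹ := by group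
    rw [e, hp']; group
  have h2 : (m' : G)⁻¹ * m ∈ M ⊓ H :=
    ⟨M.mul_mem (M.inv_mem m'.2) m.2, by rw [h1]; exact H.mul_mem h'.2 (H.inv_mem h.2)⟩
  rw [hd.eq_bot, Subgroup.mem_bot] at h2
  have hm : m = m' := by
    apply Subtype.ext
    have e : (m : G) = m' * ((m' : G)⁻¹ * m) := by group
    rw [e, h2, mul_one]
  subst hm
  have hh : h = h' := by
    apply Subtype.ext
    exact mul_left_cancel hp'
  rw [hh]


theorem cop_M {G : Type*} [Group G] [Finite G] (H M : Subgroup G) (hMn : M.Normal)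
    (hd : Disjoint M H) (hTI : Cfsg.IsTISubset (H : Set G))
    (hcop : (Nat.card H).Coprime (Nat.card (M ⊓ Subgroup.normalizer (H : Set G) : Subgroup G))) :
    (Nat.card H).Coprime (Nat.card M) := by
  by_contra hnc
  obtain ⟨r, hr, hrH, hrM⟩ := Nat.Prime.not_coprime_iff_dvd.mp hnc
  haveI : Fact r.Prime := ⟨hr⟩
  obtain ⟨x, hx⟩ := exists_prime_orderOf_dvd_card' r hrH
  haveI := hMn
  let φ : Subgroup.zpowers (x : G) →* MulAut M :=
    (MulAut.conjNormal (H := M)).comp (Subgroup.zpowers (x : G)).subtype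
  letI : MulAction (Subgroup.zpowers (x : G)) M := MulAction.compHom M φ
  have hP : IsPGroup r (Subgroup.zpowers (x : G)) := by
    apply IsPGroup.of_card (n := 1)
    rw [Nat.card_zpowers, pow_one, Subgroup.orderOf_coe]; exact hx
  have hmod := hP.card_modEq_card_fixedPoints M
  have hdvd : r ∣ Nat.card (MulAction.fixedPoints (Subgroup.zpowers (x : G)) M) :=
    (Nat.ModEq.dvd_iff hmod (dvd_refl r)).mp hrM
  have hx1 : (x : G) ≠ 1 := by
    intro h
    have h0 : orderOf (x : G) = 1 := by rw [h, orderOf_one]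
    rw [Subgroup.orderOf_coe, hx] at h0
    exact hr.one_lt.ne' h0
  have hsmul : ∀ (z : Subgroup.zpowers (x : G)) (m : M),
      ((z • m : M) : G) = (z : G) * m * (z : G)⁻¹ := fun z m => rfl
  have hfix : ∀ m : M, m ∈ MulAction.fixedPoints (Subgroup.zpowers (x : G)) M ↔
      (m : G) ∈ Subgroup.normalizer (H : Set G) := by
    intro m
    constructor
    · intro hm
      have h1 := hm ⟨(x : G), Subgroup.mem_zpowers _⟩
      have h2 : (x : G) * m * (x : G)⁻¹ = m := by
        have h0 := congrArg Subtype.val h1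
        rwa [hsmul] at h0
      have h3 : (m : G)⁻¹ * (x : G) * ((m : G)⁻¹)⁻¹ = x := by
        rw [inv_inv]
        have e : (m : G)⁻¹ * (x : G) * m = (m : G)⁻¹ * ((x : G) * m * (x : G)⁻¹) * x := by group
        rw [e, h2]; group
      have h4 := ti_norm H hTI (x : G) x.2 hx1 (m : G)⁻¹ (by rw [h3]; exact x.2)
      simpa using Subgroup.inv_mem _ h4
    · intro hm z
      apply Subtype.ext
      rw [hsmul]
      have hz : (z : G) ∈ H := by
        have hle : Subgroup.zpowers (x : G) ≤ H := by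
          rw [Subgroup.zpowers_le]; exact x.2
        exact hle z.2
      have h0 := centr H M hMn hd (m : G) m.2 hm (z : G) hz
      rw [← h0]; group
  have hcard : Nat.card (MulAction.fixedPoints (Subgroup.zpowers (x : G)) M)
      = Nat.card (M ⊓ Subgroup.normalizer (H : Set G) : Subgroup G) := by
    apply Nat.card_congr
    exact
      { toFun := fun m => ⟨(m.1 : G), ⟨m.1.2, (hfix m.1).mp m.2⟩⟩
        invFun := fun k => ⟨⟨k.1, k.2.1⟩, (hfix ⟨k.1, k.2.1⟩).mpr k.2.2⟩
        left_inv := fun m => rfl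
        right_inv := fun k => rfl }
  rw [hcard] at hdvd
  exact (Nat.Prime.not_coprime_iff_dvd.mpr ⟨r, hr, hrH, hdvd⟩) hcop

theorem up {G : Type u} [Group G] [Finite G] (H : Subgroup G)
    (hTI : Cfsg.IsTISubset (H : Set G))
    (hHall : (Nat.card H).Coprime (H.subgroupOf (Subgroup.normalizer (H : Set G))).index)
    (K : Subgroup (Subgroup.normalizer (H : Set G))) (hKn : K.Normal)
    (hKc : K.IsComplement' (H.subgroupOf (Subgroup.normalizer (H : Set G)))) :
    ∃ M : Subgroup G, M.Normal ∧ M.IsComplement' H := by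
  classical
  obtain ⟨N, hN⟩ : ∃ N : Subgroup G, N = Subgroup.normalizer (H : Set G) := ⟨_, rfl⟩
  subst hN
  have hmemK' : ∀ k : G, k ∈ K.map (Subgroup.normalizer (H : Set G)).subtype ↔
      ∃ hk : k ∈ Subgroup.normalizer (H : Set G),
        (⟨k, hk⟩ : Subgroup.normalizer (H : Set G)) ∈ K := by
    intro k; constructor
    · rintro ⟨y, hy, rfl⟩; exact ⟨y.2, hy⟩
    · rintro ⟨hk, hk2⟩; exact ⟨⟨k, hk⟩, hk2, rfl⟩
  have hK'N : K.map (Subgroup.normalizer (H : Set G)).subtype ≤ Subgroup.normalizer (H : Set G) :=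
    Subgroup.map_subtype_le K
  have hHn : (H.subgroupOf (Subgroup.normalizer (H : Set G))).Normal :=
    Subgroup.normal_in_normalizer
  have hcomm : ∀ k ∈ K.map (Subgroup.normalizer (H : Set G)).subtype, ∀ h ∈ H,
      k * h = h * k := by
    intro k hk h hh
    obtain ⟨hkN, hk2⟩ := (hmemK' k).mp hk
    have h0 := Subgroup.commute_of_normal_of_disjoint K
      (H.subgroupOf (Subgroup.normalizer (H : Set G))) hKn hHn hKc.disjoint ⟨k, hkN⟩
      ⟨h, Subgroup.le_normalizer hh⟩ hk2 (Subgroup.mem_subgroupOf.mpr hh)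
    exact congrArg Subtype.val h0.eq
  have hdec : ∀ n ∈ Subgroup.normalizer (H : Set G),
      ∃ k ∈ K.map (Subgroup.normalizer (H : Set G)).subtype, ∃ h ∈ H, n = k * h := by
    intro n hn
    obtain ⟨⟨k, h⟩, hx, -⟩ := Subgroup.isComplement_iff_existsUnique.mp
      (Subgroup.isComplement'_def.mp hKc) ⟨n, hn⟩
    have hx' : (k : Subgroup.normalizer (H : Set G)) * (h : Subgroup.normalizer (H : Set G))
        = ⟨n, hn⟩ := hx
    refine ⟨((k : Subgroup.normalizer (H : Set G)) : G), ⟨k.1, k.2, rfl⟩,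
      ((h : Subgroup.normalizer (H : Set G)) : G), Subgroup.mem_subgroupOf.mp h.2, ?_⟩
    exact (congrArg Subtype.val hx').symm
  have hcardK : Nat.card (K.map (Subgroup.normalizer (H : Set G)).subtype) = Nat.card K :=
    Subgroup.card_map_of_injective (Subgroup.subtype_injective _)
  have hidx : (H.subgroupOf (Subgroup.normalizer (H : Set G))).index = Nat.card K :=
    hKc.index_eq_card
  have hcop : (Nat.card H).Coprime
      (Nat.card (K.map (Subgroup.normalizer (H : Set G)).subtype)) := by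
    rw [hcardK, ← hidx]; exact hHall
  have hcardN : Nat.card (Subgroup.normalizer (H : Set G))
      = Nat.card (K.map (Subgroup.normalizer (H : Set G)).subtype) * Nat.card H := by
    have h0 := hKc.card_mul_card
    rw [← h0, hcardK]
    congr 1
    exact Nat.card_congr (Subgroup.subgroupOfEquivOfLe Subgroup.le_normalizer).toEquiv
  have hnorm : ∀ n ∈ Subgroup.normalizer (H : Set G),
      ∀ k ∈ K.map (Subgroup.normalizer (H : Set G)).subtype,
      n * k * n⁻¹ ∈ K.map (Subgroup.normalizer (H : Set G)).subtype := by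
    intro n hn k hk
    obtain ⟨hkN, hk2⟩ := (hmemK' k).mp hk
    exact (hmemK' _).mpr ⟨Subgroup.mul_mem _ (Subgroup.mul_mem _ hn hkN) (Subgroup.inv_mem _ hn),
      hKn.conj_mem ⟨k, hkN⟩ hk2 ⟨n, hn⟩⟩
  have hW : ∀ g : G, g ∉ Subgroup.normalizer (H : Set G) →
      ∀ x ∈ Subgroup.normalizer (H : Set G), g⁻¹ * x * g ∈ Subgroup.normalizer (H : Set G) →
      x ∈ K.map (Subgroup.normalizer (H : Set G)).subtype := by
    intro g hg x hx hgx
    obtain ⟨k, hk, h, hh, rfl⟩ := hdec x hx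
    obtain ⟨m, hm⟩ : ∃ m : ℕ, m = Nat.card (K.map (Subgroup.normalizer (H : Set G)).subtype) :=
      ⟨_, rfl⟩
    have hkm : k ^ m = 1 := by rw [hm]; exact pow_card_mem _ k hk
    have hxm : (k * h) ^ m = h ^ m := by
      rw [(show Commute k h from hcomm k hk h hh).mul_pow, hkm, one_mul]
    obtain ⟨k₁, hk₁, h₁, hh₁, e₁⟩ := hdec ((g⁻¹ * (k * h) * g) ^ m) (Subgroup.pow_mem _ hgx m)
    have e2 : (g⁻¹ * (k * h) * g) ^ m = g⁻¹ * h ^ m * g := by
      have h0 := conj_pow (a := g⁻¹) (b := k * h) (i := m)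
      rw [inv_inv] at h0
      rw [h0, hxm]
    have hpowH : (g⁻¹ * h ^ m * g) ^ Nat.card H = 1 := by
      have h0 := conj_pow (a := g⁻¹) (b := h ^ m) (i := Nat.card H)
      rw [inv_inv] at h0
      rw [h0, ← pow_mul, mul_comm m, pow_mul, pow_card_mem H h hh, one_pow, mul_one,
        inv_mul_cancel]
    have hk₁H : k₁ ^ Nat.card H = 1 := by
      rw [← e2, e₁, (show Commute k₁ h₁ from hcomm k₁ hk₁ h₁ hh₁).mul_pow,
        pow_card_mem H h₁ hh₁, mul_one] at hpowH
      exact hpowH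
    have hk₁1 : k₁ = 1 := cop_one H _ hcop k₁ hk₁ (Nat.card H) dvd_rfl hk₁H
    have hconj : g⁻¹ * h ^ m * g ∈ H := by
      rw [← e2, e₁, hk₁1, one_mul]; exact hh₁
    have hhm : h ^ m = 1 := by
      have hgi : g⁻¹ ∉ Subgroup.normalizer (H : Set G) :=
        fun hc => hg (by simpa using Subgroup.inv_mem _ hc)
      apply hTI g⁻¹ hgi (h ^ m) (H.pow_mem hh m)
      rw [inv_inv]; exact hconj
    have hh1 : h = 1 := cop_one _ H hcop.symm h hh m (by rw [hm]) hhm
    rw [hh1, mul_one]; exact hk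
  obtain ⟨M, hMn, hM1, hM2, hM3⟩ := Cfsg.Agent.Lib.Helper23.wielandt
    (Subgroup.normalizer (H : Set G)) (K.map (Subgroup.normalizer (H : Set G)).subtype)
    hK'N hnorm hW
  have hd : Disjoint M H := by
    rw [Subgroup.disjoint_def]
    intro x hxM hxH
    have hxK : x ∈ K.map (Subgroup.normalizer (H : Set G)).subtype :=
      hM1 ⟨hxM, Subgroup.le_normalizer hxH⟩
    obtain ⟨hxN, hx2⟩ := (hmemK' x).mp hxK
    have h0 : (⟨x, hxN⟩ : Subgroup.normalizer (H : Set G))
        ∈ K ⊓ H.subgroupOf (Subgroup.normalizer (H : Set G)) :=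
      ⟨hx2, Subgroup.mem_subgroupOf.mpr hxH⟩
    rw [hKc.disjoint.eq_bot, Subgroup.mem_bot] at h0
    exact congrArg Subtype.val h0
  refine ⟨M, hMn, Subgroup.isComplement'_of_card_mul_and_disjoint ?_ hd⟩
  have hle : Nat.card G ≤ Nat.card M * Nat.card H := by
    rw [hcardN] at hM3
    have hpos : 0 < Nat.card (K.map (Subgroup.normalizer (H : Set G)).subtype) := Nat.card_pos
    have h0 : Nat.card G * Nat.card (K.map (Subgroup.normalizer (H : Set G)).subtype)
        ≤ (Nat.card M * Nat.card H)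
          * Nat.card (K.map (Subgroup.normalizer (H : Set G)).subtype) := by
      calc Nat.card G * Nat.card (K.map (Subgroup.normalizer (H : Set G)).subtype)
          ≤ Nat.card M * (Nat.card (K.map (Subgroup.normalizer (H : Set G)).subtype)
              * Nat.card H) := hM3
        _ = _ := by ring
    exact Nat.le_of_mul_le_mul_right h0 hpos
  have hge : Nat.card M * Nat.card H ≤ Nat.card G := card_mul_le M H hd
  omega

theorem mem_norm_of_inv {G : Type*} [Group G] (H S : Subgroup G)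
    (hinv : ∀ h ∈ H, ∀ c ∈ S, h * c * h⁻¹ ∈ S) : H ≤ Subgroup.normalizer (S : Set G) := by
  intro h hh
  rw [Subgroup.mem_normalizer_iff]
  intro c
  constructor
  · exact hinv h hh c
  · intro hc
    have h0 := hinv h⁻¹ (H.inv_mem hh) _ hc
    have e : h⁻¹ * (h * c * h⁻¹) * h⁻¹⁻¹ = c := by group
    rwa [e] at h0

theorem inv_sub {G : Type*} [Group G] [Finite G] (H M : Subgroup G) (hMn : M.Normal)
    (hc : M.IsComplement' H) (hTI : Cfsg.IsTISubset (H : Set G))
    (hcopM : (Nat.card H).Coprime (Nat.card M))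
    (hMN : ¬ M ≤ Subgroup.normalizer (H : Set G)) :
    ∃ (r : ℕ) (R : Subgroup G), r.Prime ∧ R ≤ M ∧ IsPGroup r R ∧
      (∀ h ∈ H, ∀ y ∈ R, h * y * h⁻¹ ∈ R) ∧ ¬ R ≤ Subgroup.normalizer (H : Set G) := by
  classical
  haveI := hMn
  have hne : ((M ⊓ Subgroup.normalizer (H : Set G)).subgroupOf M).index ≠ 1 := by
    intro h1
    rw [Subgroup.index_eq_one, Subgroup.subgroupOf_eq_top] at h1
    exact hMN (h1.trans inf_le_right)
  obtain ⟨r, hr, hri⟩ := Nat.exists_prime_and_dvd hne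
  haveI : Fact r.Prime := ⟨hr⟩
  obtain ⟨R₁⟩ := (inferInstance : Nonempty (Sylow r M))
  have hF := Sylow.normalizer_sup_eq_top R₁
  obtain ⟨R', hR'⟩ : ∃ R' : Subgroup G, R' = (R₁ : Subgroup M).map M.subtype := ⟨_, rfl⟩
  rw [← hR'] at hF
  obtain ⟨NR, hNR⟩ : ∃ NR : Subgroup G, NR = Subgroup.normalizer (R' : Set G) := ⟨_, rfl⟩
  rw [← hNR] at hF
  haveI hMRn : (M.subgroupOf NR).Normal := hMn.subgroupOf NR
  have hidx : (M.subgroupOf NR).index = Nat.card H := by
    have h1 : M.relIndex NR = M.relIndex (NR ⊔ M) := (Subgroup.relIndex_sup_right NR M).symm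
    rw [hF, Subgroup.relIndex_top_right] at h1
    have h2 : M.relIndex NR = (M.subgroupOf NR).index := rfl
    rw [← h2, h1]; exact hc.symm.index_eq_card
  have hcardMR : Nat.card (M.subgroupOf NR) ∣ Nat.card M := by
    have e1 : (M ⊓ NR).subgroupOf NR = M.subgroupOf NR := Subgroup.inf_subgroupOf_right M NR
    have e2 : Nat.card (M.subgroupOf NR) = Nat.card (M ⊓ NR : Subgroup G) := by
      rw [← e1]; exact Nat.card_congr (Subgroup.subgroupOfEquivOfLe inf_le_right).toEquiv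
    rw [e2]; exact Subgroup.card_dvd_of_le inf_le_left
  have hcop' : (Nat.card (M.subgroupOf NR)).Coprime (M.subgroupOf NR).index := by
    rw [hidx]; exact Nat.Coprime.coprime_dvd_left hcardMR hcopM.symm
  obtain ⟨H₂, hH₂⟩ := Subgroup.exists_right_complement'_of_coprime hcop'
  have hcardH₂ : Nat.card H₂ = Nat.card H := by
    rw [← hidx]; exact hH₂.symm.index_eq_card.symm
  have hcardH₃ : Nat.card (H₂.map NR.subtype) = Nat.card H := by
    rw [Subgroup.card_map_of_injective (Subgroup.subtype_injective _), hcardH₂]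
  have hHallG : (Nat.card H).Coprime H.index := by
    rw [hc.index_eq_card]; exact hcopM
  obtain ⟨g, hg⟩ := Cfsg.Agent.S4116.result H hHallG hTI (H₂.map NR.subtype)
    (fun q hq hqd => by rwa [hcardH₃] at hqd)
  have hgeq : H₂.map NR.subtype = H.map (MulAut.conj g).toMonoidHom := by
    apply Subgroup.eq_of_le_of_card_ge hg
    rw [hcardH₃, Subgroup.card_map_of_injective (MulAut.conj g).injective]
  have hconjNR : ∀ h ∈ H, g * h * g⁻¹ ∈ NR := by
    intro h hh
    have h1 : g * h * g⁻¹ ∈ H.map (MulAut.conj g).toMonoidHom := ⟨h, hh, rfl⟩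
    rw [← hgeq] at h1
    exact Subgroup.map_subtype_le H₂ h1
  have hR'M : R' ≤ M := by rw [hR']; exact Subgroup.map_subtype_le _
  have hRM : R'.map (MulAut.conj g⁻¹).toMonoidHom ≤ M := by
    rintro y ⟨y₁, hy₁, rfl⟩
    have h0 := hMn.conj_mem y₁ (hR'M hy₁) g⁻¹
    simpa using h0
  refine ⟨r, R'.map (MulAut.conj g⁻¹).toMonoidHom, hr, hRM, ?_, ?_, ?_⟩
  · rw [hR']
    exact (R₁.isPGroup'.map _).map _
  · intro h hh y hy
    obtain ⟨y₁, hy₁, rfl⟩ := hy
    have h1 := hconjNR h hh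
    rw [hNR] at h1
    have h2 : (g * h * g⁻¹) * y₁ * (g * h * g⁻¹)⁻¹ ∈ R' :=
      (Subgroup.mem_normalizer_iff.mp h1 y₁).mp hy₁
    refine ⟨(g * h * g⁻¹) * y₁ * (g * h * g⁻¹)⁻¹, h2, ?_⟩
    simp only [MulEquiv.coe_toMonoidHom, MulAut.conj_apply]
    group
  · intro hRN
    have hle : R'.map (MulAut.conj g⁻¹).toMonoidHom ≤ M ⊓ Subgroup.normalizer (H : Set G) :=
      le_inf hRM hRN
    have hc1 : Nat.card (R'.map (MulAut.conj g⁻¹).toMonoidHom) = Nat.card (R₁ : Subgroup M) := by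
      rw [Subgroup.card_map_of_injective (MulAut.conj g⁻¹).injective, hR',
        Subgroup.card_map_of_injective (Subgroup.subtype_injective _)]
    have hc2 := Subgroup.card_dvd_of_le hle
    rw [hc1] at hc2
    have hc3 : Nat.card ((M ⊓ Subgroup.normalizer (H : Set G)).subgroupOf M)
        = Nat.card (M ⊓ Subgroup.normalizer (H : Set G) : Subgroup G) :=
      Nat.card_congr (Subgroup.subgroupOfEquivOfLe inf_le_left).toEquiv
    have hc4 := Subgroup.card_mul_index ((M ⊓ Subgroup.normalizer (H : Set G)).subgroupOf M)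
    rw [hc3] at hc4
    have hc5 := Subgroup.card_mul_index (R₁ : Subgroup M)
    have hc6 : ¬ r ∣ (R₁ : Subgroup M).index := R₁.not_dvd_index
    obtain ⟨t, ht⟩ := hc2
    obtain ⟨s, hs⟩ := hri
    have hpos : 0 < Nat.card (R₁ : Subgroup M) := Nat.card_pos
    apply hc6
    have h7 : Nat.card (R₁ : Subgroup M) * (t * (r * s))
        = Nat.card (R₁ : Subgroup M) * (R₁ : Subgroup M).index := by
      rw [hc5, ← hc4, ht, hs]; ring
    have h8 := Nat.eq_of_mul_eq_mul_left hpos h7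
    exact ⟨t * s, by rw [← h8]; ring⟩

theorem frob_of {G : Type u} [Group G] [Finite G] (H M : Subgroup G) (hMn : M.Normal)
    (hd : Disjoint M H) (hTI : Cfsg.IsTISubset (H : Set G))
    (hcop : (Nat.card H).Coprime (Nat.card (M ⊓ Subgroup.normalizer (H : Set G) : Subgroup G)))
    (hHne : H ≠ ⊥) (A : Subgroup G) (hAM : A ≤ M)
    (hAH : ∀ h ∈ H, ∀ a ∈ A, h * a * h⁻¹ ∈ A)
    (hA0 : ∀ a ∈ A, ∀ c ∈ A ⊓ Subgroup.normalizer (H : Set G),
      a * c * a⁻¹ ∈ A ⊓ Subgroup.normalizer (H : Set G))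
    (hAN : ¬ A ≤ Subgroup.normalizer (H : Set G)) :
    ∃ (F : Type u) (_ : Group F) (_ : Finite F) (C : Subgroup F),
      Cfsg.IsFrobeniusComplement C ∧ Nonempty (H ≃* C) := by
  classical
  obtain ⟨A₀, hA₀⟩ : ∃ A₀ : Subgroup G, A₀ = A ⊓ Subgroup.normalizer (H : Set G) := ⟨_, rfl⟩
  rw [← hA₀] at hA0
  have hA₀M : A₀ ≤ M := by rw [hA₀]; exact inf_le_left.trans hAM
  have hA₀N : A₀ ≤ Subgroup.normalizer (H : Set G) := by rw [hA₀]; exact inf_le_right
  have key1 : ∀ h ∈ H, ∀ c ∈ A₀, h * c * h⁻¹ = c := by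
    intro h hh c hc
    have h0 := centr H M hMn hd c (hA₀M hc) (hA₀N hc) h hh
    rw [← h0]; group
  have hHA : H ≤ Subgroup.normalizer (A : Set G) := mem_norm_of_inv H A hAH
  have hX : A ⊔ H ≤ Subgroup.normalizer (A₀ : Set G) := by
    apply sup_le
    · exact mem_norm_of_inv A A₀ hA0
    · apply mem_norm_of_inv H A₀
      intro h hh c hc
      rw [key1 h hh c hc]; exact hc
  haveI hA₀n : (A₀.subgroupOf (A ⊔ H)).Normal := Subgroup.normal_subgroupOf_of_le_normalizer hX
  let f : H →* (↥(A ⊔ H)) ⧸ A₀.subgroupOf (A ⊔ H) :=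
    (QuotientGroup.mk' (A₀.subgroupOf (A ⊔ H))).comp
      (Subgroup.inclusion (le_sup_right : H ≤ A ⊔ H))
  have hfdef : ∀ h : H, f h = (QuotientGroup.mk (Subgroup.inclusion (le_sup_right : H ≤ A ⊔ H) h) :
      (↥(A ⊔ H)) ⧸ A₀.subgroupOf (A ⊔ H)) := fun h => rfl
  have hfmem : ∀ h : H, f h = 1 → (h : G) ∈ A₀ := by
    intro h hh
    rw [hfdef, QuotientGroup.eq_one_iff, Subgroup.mem_subgroupOf] at hh
    exact hh
  have hf : Function.Injective f := by
    rw [injective_iff_map_eq_one]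
    intro h hh
    have h1 := hfmem h hh
    have h2 : (h : G) ∈ M ⊓ H := ⟨hA₀M h1, h.2⟩
    rw [hd.eq_bot, Subgroup.mem_bot] at h2
    exact Subtype.ext h2
  refine ⟨(↥(A ⊔ H)) ⧸ A₀.subgroupOf (A ⊔ H), inferInstance, inferInstance, f.range, ?_,
    ⟨MonoidHom.ofInjective hf⟩⟩
  rw [Cfsg.Agent.Lib.Helper24.isFrobeniusComplement_iff]
  refine ⟨?_, ?_, ?_⟩
  · intro hbot
    obtain ⟨h, hh1⟩ := Subgroup.ne_bot_iff_exists_ne_one.mp hHne
    have h0 : f h ∈ f.range := ⟨h, rfl⟩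
    rw [hbot, Subgroup.mem_bot] at h0
    exact hh1 (hf (h0.trans (map_one f).symm))
  · intro htop
    obtain ⟨a₀, ha₀, ha₀N⟩ := SetLike.not_le_iff_exists.mp hAN
    have hmem : (QuotientGroup.mk (⟨a₀, (le_sup_left : A ≤ A ⊔ H) ha₀⟩ : ↥(A ⊔ H)) :
        (↥(A ⊔ H)) ⧸ A₀.subgroupOf (A ⊔ H)) ∈ f.range := by rw [htop]; trivial
    obtain ⟨h, hh⟩ := hmem
    rw [hfdef] at hh
    have h1 : (h : G)⁻¹ * a₀ ∈ A₀ := by
      have h2 := QuotientGroup.eq.mp hh
      rw [Subgroup.mem_subgroupOf] at h2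
      exact h2
    have h3 : (h : G) ∈ M := by
      have e : (h : G) = a₀ * ((h : G)⁻¹ * a₀)⁻¹ := by group
      rw [e]; exact M.mul_mem (hAM ha₀) (M.inv_mem (hA₀M h1))
    have h4 : (h : G) ∈ M ⊓ H := ⟨h3, h.2⟩
    rw [hd.eq_bot, Subgroup.mem_bot] at h4
    rw [h4, inv_one, one_mul] at h1
    exact ha₀N (hA₀N h1)
  · intro g hg x hx hgx
    obtain ⟨g', rfl⟩ := QuotientGroup.mk_surjective g
    obtain ⟨h, rfl⟩ := hx
    obtain ⟨h₂, hh₂⟩ := hgx
    by_contra hne
    have hh1 : (h : G) ≠ 1 := by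
      intro h0
      apply hne
      have h00 : h = 1 := Subtype.ext h0
      rw [h00, map_one]
    have hg'mem : (g' : G) ∈ ((A ⊔ H : Subgroup G) : Set G) := g'.2
    rw [Subgroup.coe_mul_of_right_le_normalizer_left A H hHA] at hg'mem
    obtain ⟨a, ha, h', hh', hg'eq⟩ := Set.mem_mul.mp hg'mem
    have hh₂' : (QuotientGroup.mk (Subgroup.inclusion (le_sup_right : H ≤ A ⊔ H) h₂) :
        (↥(A ⊔ H)) ⧸ A₀.subgroupOf (A ⊔ H))
        = QuotientGroup.mk (g'⁻¹ * Subgroup.inclusion (le_sup_right : H ≤ A ⊔ H) h * g') := hh₂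
    have he : (h₂ : G)⁻¹ * ((g' : G)⁻¹ * (h : G) * (g' : G)) ∈ A₀ := by
      have h2 := QuotientGroup.eq.mp hh₂'
      rw [Subgroup.mem_subgroupOf] at h2
      exact h2
    rw [← hg'eq] at he
    have hw'A : a⁻¹ * (h : G) * a * (h : G)⁻¹ ∈ A := by
      have e : a⁻¹ * (h : G) * a * (h : G)⁻¹ = a⁻¹ * ((h : G) * a * (h : G)⁻¹) := by group
      rw [e]; exact A.mul_mem (A.inv_mem ha) (hAH h h.2 a ha)
    have hsec : (h₂ : G)⁻¹ * h'⁻¹ * (h : G) * h' = 1 := by
      have h5 : (h₂ : G)⁻¹ * h'⁻¹ * (h : G) * h' ∈ M := by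
        have e : (h₂ : G)⁻¹ * h'⁻¹ * (h : G) * h'
            = ((h' * (h₂ : G))⁻¹ * (a⁻¹ * (h : G) * a * (h : G)⁻¹) * (h' * (h₂ : G))⁻¹⁻¹)⁻¹
              * ((h₂ : G)⁻¹ * ((a * h')⁻¹ * (h : G) * (a * h'))) := by group
        rw [e]
        exact M.mul_mem (M.inv_mem (hMn.conj_mem _ (hAM hw'A) (h' * (h₂ : G))⁻¹)) (hA₀M he)
      have h6 : (h₂ : G)⁻¹ * h'⁻¹ * (h : G) * h' ∈ M ⊓ H :=
        ⟨h5, H.mul_mem (H.mul_mem (H.mul_mem (H.inv_mem h₂.2) (H.inv_mem hh')) h.2) hh'⟩
      rwa [hd.eq_bot, Subgroup.mem_bot] at h6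
    have hw'A₀ : a⁻¹ * (h : G) * a * (h : G)⁻¹ ∈ A₀ := by
      have e : a⁻¹ * (h : G) * a * (h : G)⁻¹
          = (h' * (h₂ : G)) * ((h₂ : G)⁻¹ * ((a * h')⁻¹ * (h : G) * (a * h')))
            * ((h₂ : G)⁻¹ * h'⁻¹ * (h : G) * h')⁻¹ * (h' * (h₂ : G))⁻¹ := by group
      rw [e, hsec, inv_one, mul_one, key1 (h' * (h₂ : G)) (H.mul_mem hh' h₂.2) _ he]
      exact he
    have haN : a ∈ Subgroup.normalizer (H : Set G) := by
      apply key H M hMn hd hTI hcop a (h : G)⁻¹ (H.inv_mem h.2) (by simpa using hh1)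
      rw [inv_inv]
      exact ⟨hA₀M hw'A₀, hA₀N hw'A₀⟩
    have haA₀ : a ∈ A₀ := by rw [hA₀]; exact ⟨ha, haN⟩
    apply hg
    refine ⟨⟨h', hh'⟩, ?_⟩
    rw [hfdef, QuotientGroup.eq, Subgroup.mem_subgroupOf]
    change h'⁻¹ * (g' : G) ∈ A₀
    rw [← hg'eq]
    have e : h'⁻¹ * (a * h') = h'⁻¹ * a * h'⁻¹⁻¹ := by group
    rw [e, key1 h'⁻¹ (H.inv_mem hh') a haA₀]
    exact haA₀

/-- Let G be a finite group and H a subgroup that meets each of its conjugates by elements outside N_G(H) trivially and whose order is coprime to its index in N_G(H). Then H has a normal complement in N_G(H) if and only if H has a normal complement in G. Moreover, if H is not normal in G and has a normal complement in N_G(H), then H is isomorphic to a Frobenius complement of some finite Frobenius group. -/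
theorem result {G : Type u} [Group G] [Finite G] (H : Subgroup G)
    (hTI : Cfsg.IsTISubset (H : Set G)) (hHall : (Nat.card H).Coprime (H.subgroupOf (Subgroup.normalizer (H : Set G))).index) :
    ((∃ K : Subgroup (Subgroup.normalizer (H : Set G)), K.Normal ∧ K.IsComplement' (H.subgroupOf (Subgroup.normalizer (H : Set G)))) ↔
      (∃ N : Subgroup G, N.Normal ∧ N.IsComplement' H)) ∧
    (¬ H.Normal → (∃ K : Subgroup (Subgroup.normalizer (H : Set G)), K.Normal ∧ K.IsComplement' (H.subgroupOf (Subgroup.normalizer (H : Set G)))) →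
      ∃ (F : Type u) (_ : Group F) (_ : Finite F) (C : Subgroup F), Cfsg.IsFrobeniusComplement C ∧ Nonempty (H ≃* C)) := by
  classical
  refine ⟨⟨?_, ?_⟩, ?_⟩
  · rintro ⟨K, hKn, hKc⟩
    exact up H hTI hHall K hKn hKc
  · rintro ⟨M, hMn, hc⟩
    exact ⟨M.subgroupOf _, hMn.subgroupOf _, compl_down H M hc⟩
  · rintro hnn ⟨K, hKn, hKc⟩
    obtain ⟨M, hMn, hc⟩ := up H hTI hHall K hKn hKc
    have hd : Disjoint M H := hc.disjoint
    have hcop : (Nat.card H).Coprime
        (Nat.card (M ⊓ Subgroup.normalizer (H : Set G) : Subgroup G)) := by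
      have h1 := (compl_down H M hc).index_eq_card
      have e1 : (M ⊓ Subgroup.normalizer (H : Set G)).subgroupOf (Subgroup.normalizer (H : Set G))
          = M.subgroupOf (Subgroup.normalizer (H : Set G)) := Subgroup.inf_subgroupOf_right M _
      have e2 : Nat.card (M.subgroupOf (Subgroup.normalizer (H : Set G)))
          = Nat.card (M ⊓ Subgroup.normalizer (H : Set G) : Subgroup G) := by
        rw [← e1]; exact Nat.card_congr (Subgroup.subgroupOfEquivOfLe inf_le_right).toEquiv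
      rw [← e2, ← h1]; exact hHall
    have hcopM := cop_M H M hMn hd hTI hcop
    have hMN : ¬ M ≤ Subgroup.normalizer (H : Set G) := by
      intro hle
      apply hnn
      have htop : Subgroup.normalizer (H : Set G) = ⊤ := by
        rw [eq_top_iff, ← hc.sup_eq_top]
        exact sup_le hle Subgroup.le_normalizer
      exact Subgroup.normalizer_eq_top_iff.mp htop
    have hHne : H ≠ ⊥ := by
      rintro rfl
      exact hnn Subgroup.normal_bot
    obtain ⟨r, R, hr, hRM, hRp, hRH, hRN⟩ := inv_sub H M hMn hc hTI hcopM hMN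
    haveI : Fact r.Prime := ⟨hr⟩
    obtain ⟨R₀, hR₀⟩ : ∃ R₀ : Subgroup G, R₀ = R ⊓ Subgroup.normalizer (H : Set G) := ⟨_, rfl⟩
    have hHR₀ : H ≤ Subgroup.normalizer (R₀ : Set G) := by
      apply mem_norm_of_inv H R₀
      intro h hh c hc
      rw [hR₀] at hc ⊢
      exact ⟨hRH h hh c hc.1, Subgroup.mul_mem _ (Subgroup.mul_mem _ (Subgroup.le_normalizer hh)
        hc.2) (Subgroup.inv_mem _ (Subgroup.le_normalizer hh))⟩
    apply frob_of H M hMn hd hTI hcop hHne (R ⊓ Subgroup.normalizer (R₀ : Set G))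
      (inf_le_left.trans hRM)
    · intro h hh a ha
      exact ⟨hRH h hh a ha.1, Subgroup.mul_mem _ (Subgroup.mul_mem _ (hHR₀ hh) ha.2)
        (Subgroup.inv_mem _ (hHR₀ hh))⟩
    · intro a ha c hc
      have hcR₀ : c ∈ R₀ := by rw [hR₀]; exact ⟨hc.1.1, hc.2⟩
      have h1 : a * c * a⁻¹ ∈ R₀ := (Subgroup.mem_normalizer_iff.mp ha.2 c).mp hcR₀
      refine ⟨Subgroup.mul_mem _ (Subgroup.mul_mem _ ha hc.1) (Subgroup.inv_mem _ ha), ?_⟩
      rw [hR₀] at h1; exact h1.2
    · intro hAN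
      haveI : Finite R := inferInstance
      have hnil : Group.IsNilpotent R := hRp.isNilpotent
      have hlt : R₀.subgroupOf R < ⊤ := by
        rw [lt_top_iff_ne_top]
        intro htop
        rw [Subgroup.subgroupOf_eq_top] at htop
        apply hRN
        intro y hy
        have := htop hy
        rw [hR₀] at this
        exact this.2
      have hnc := normalizerCondition_of_isNilpotent (G := R) (R₀.subgroupOf R) hlt
      obtain ⟨a', ha'1, ha'2⟩ := SetLike.exists_of_lt hnc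
      have haN : (a' : G) ∈ Subgroup.normalizer (R₀ : Set G) := by
        rw [Subgroup.mem_normalizer_iff]
        intro c
        constructor
        · intro hc
          have hcR : c ∈ R := by rw [hR₀] at hc; exact hc.1
          have h1 := (Subgroup.mem_normalizer_iff.mp ha'1 ⟨c, hcR⟩).mp
            (Subgroup.mem_subgroupOf.mpr hc)
          rw [Subgroup.mem_subgroupOf] at h1
          exact h1
        · intro hc
          have hcR' : (a' : G) * c * (a' : G)⁻¹ ∈ R := by rw [hR₀] at hc; exact hc.1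
          have hcR : c ∈ R := by
            have e : c = (a' : G)⁻¹ * ((a' : G) * c * (a' : G)⁻¹) * (a' : G) := by group
            rw [e]; exact R.mul_mem (R.mul_mem (R.inv_mem a'.2) hcR') a'.2
          have h1 := (Subgroup.mem_normalizer_iff.mp ha'1 ⟨c, hcR⟩).mpr
            (Subgroup.mem_subgroupOf.mpr hc)
          rw [Subgroup.mem_subgroupOf] at h1
          exact h1
      have h2 : (a' : G) ∈ Subgroup.normalizer (H : Set G) := hAN ⟨a'.2, haN⟩
      apply ha'2
      rw [Subgroup.mem_subgroupOf, hR₀]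
      exact ⟨a'.2, h2⟩

end Cfsg.Agent.S4115
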