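import Cfsg.Statements.S4176
import Mathlib
import Cfsg.Agent.S3744
import Cfsg.Agent.S1901

set_option autoImplicit false
open Cfsg

namespace Cfsg.Agent.S4176


theorem mul_cover {G : Type*} [Group G] [Finite G] (A B : Subgroup G)
    (hcop : (B.index).Coprime A.index) : ∀ g : G, ∃ b ∈ B, b⁻¹ * g ∈ A := by
  have hB0 : 0 < B.index := Nat.pos_of_ne_zero Subgroup.index_ne_zero_of_finite
  have hI0 : 0 < (A ⊓ B).index := Nat.pos_of_ne_zero Subgroup.index_ne_zero_of_finite
  have h1 : A.index ∣ (A ⊓ B).index := Subgroup.index_dvd_of_le inf_le_left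
  have h2 : B.index ∣ (A ⊓ B).index := Subgroup.index_dvd_of_le inf_le_right
  have h3 : B.index * A.index ∣ (A ⊓ B).index := Nat.Coprime.mul_dvd_of_dvd_of_dvd hcop h2 h1
  have h4 : A.relIndex B * B.index = (A ⊓ B).index := by
    rw [← Subgroup.inf_relIndex_right, Subgroup.relIndex_mul_index inf_le_right]
  have h5 : (A ⊓ B).index ≤ A.index * B.index := Subgroup.index_inf_le
  have h6 : (A ⊓ B).index = A.index * B.index :=
    le_antisymm h5 (by rw [mul_comm]; exact Nat.le_of_dvd hI0 h3)
  have h7 : A.relIndex B = A.index := by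
    rw [h6] at h4
    exact Nat.eq_of_mul_eq_mul_right hB0 h4
  let f : (B ⧸ A.subgroupOf B) → G ⧸ A :=
    Quotient.map' (fun b : B => (b : G)) (by
      intro x y hxy
      rw [QuotientGroup.leftRel_apply] at hxy ⊢
      exact hxy)
  have hf : Function.Injective f := by
    intro q₁ q₂ h
    obtain ⟨x, rfl⟩ := QuotientGroup.mk_surjective q₁
    obtain ⟨y, rfl⟩ := QuotientGroup.mk_surjective q₂
    have h' : ((x : G) : G ⧸ A) = ((y : G) : G ⧸ A) := h
    rw [QuotientGroup.eq] at h' ⊢
    exact h'
  have hbij : Function.Bijective f := hf.bijective_of_nat_card_le (by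
    show Nat.card (G ⧸ A) ≤ Nat.card (B ⧸ A.subgroupOf B)
    exact le_of_eq h7.symm)
  intro g
  obtain ⟨q, hq⟩ := hbij.2 (g : G ⧸ A)
  obtain ⟨b, rfl⟩ := QuotientGroup.mk_surjective q
  refine ⟨b, b.2, ?_⟩
  have h' : ((b : G) : G ⧸ A) = (g : G ⧸ A) := hq
  exact QuotientGroup.eq.mp h'

/-- stabilizer of a vector -/
def stab {k V G : Type*} [Field k] [AddCommGroup V] [Module k V] [Group G]
    (ρ : Representation k G V) (a : V) : Subgroup G where
  carrier := {g | ρ g a = a}
  one_mem' := by simp
  mul_mem' := by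
    intro x y hx hy
    simp only [Set.mem_setOf_eq] at hx hy ⊢
    rw [map_mul, Module.End.mul_apply, hy, hx]
  inv_mem' := by
    intro x hx
    simp only [Set.mem_setOf_eq] at hx ⊢
    have h1 : ρ x⁻¹ (ρ x a) = a := by
      rw [← Module.End.mul_apply, ← map_mul, inv_mul_cancel, map_one, Module.End.one_apply]
    rwa [hx] at h1

theorem stab_index {k V G : Type*} [Field k] [AddCommGroup V] [Module k V] [Group G] [Finite G]
    (ρ : Representation k G V) (a : V) :
    (stab ρ a).index = Nat.card {u : V | ∃ h : G, ρ h a = u} := by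
  letI : MulAction G V :=
    { smul := fun g v => ρ g v
      one_smul := fun v => by
        show ρ 1 v = v
        rw [map_one, Module.End.one_apply]
      mul_smul := fun x y v => by
        show ρ (x * y) v = ρ x (ρ y v)
        rw [map_mul, Module.End.mul_apply] }
  have h1 : stab ρ a = MulAction.stabilizer G a := by
    ext g
    exact Iff.rfl
  rw [h1, MulAction.index_stabilizer, ← Nat.card_coe_set_eq]
  rfl

theorem trans_of_coprime {k V G : Type*} [Field k] [AddCommGroup V] [Module k V] [Group G]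
    [Finite G] (ρ : Representation k G V) (a : V) (B : Subgroup G)
    (hcop : (B.index).Coprime (Nat.card {u : V | ∃ h : G, ρ h a = u})) :
    ∀ g : G, ∃ x ∈ B, ρ x a = ρ g a := by
  intro g
  rw [← stab_index] at hcop
  obtain ⟨b, hb, hbg⟩ := mul_cover (stab ρ a) B hcop g
  refine ⟨b, hb, ?_⟩
  have h1 : ρ (b⁻¹ * g) a = a := hbg
  have h2 : ρ g a = ρ b (ρ (b⁻¹ * g) a) := by
    rw [← Module.End.mul_apply, ← map_mul, mul_inv_cancel_left]
  rw [h2, h1]

theorem fixed_smul_sum {k V K : Type*} [Field k] [AddCommGroup V] [Module k V] [Group K]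
    [Fintype K] (ρ : Representation k K V) (a : V) (hK : (Fintype.card K : k) ≠ 0)
    (hspan : Submodule.span k (Set.range (fun y : K => ρ y a)) = ⊤) (v : V)
    (hv : ∀ y : K, ρ y v = v) :
    ∃ c : k, v = c • ∑ y : K, ρ y a := by
  let T : V →ₗ[k] V := ∑ y : K, ρ y
  have hT : ∀ w, T w = ∑ y : K, ρ y w := fun w => by simp [T, LinearMap.sum_apply]
  have h1 : ∀ w : V, T w ∈ Submodule.span k {∑ y : K, ρ y a} := by
    intro w
    have hw : w ∈ Submodule.span k (Set.range (fun y : K => ρ y a)) := by
      rw [hspan]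
      trivial
    induction hw using Submodule.span_induction with
    | mem u hu =>
      obtain ⟨x, rfl⟩ := hu
      have h2 : T (ρ x a) = ∑ y : K, ρ y a := by
        rw [hT]
        apply Fintype.sum_equiv (Equiv.mulRight x)
        intro y
        simp [map_mul]
      rw [h2]
      exact Submodule.mem_span_singleton_self _
    | zero =>
      rw [map_zero]
      exact Submodule.zero_mem _
    | add u w _ _ hu hw =>
      rw [map_add]
      exact Submodule.add_mem _ hu hw
    | smul c u _ hu =>
      rw [map_smul]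
      exact Submodule.smul_mem _ c hu
  have h2 : T v = (Fintype.card K : k) • v := by
    rw [hT]
    simp [hv, Finset.sum_const, Finset.card_univ, Nat.cast_smul_eq_nsmul]
  obtain ⟨c, hc⟩ := Submodule.mem_span_singleton.mp (h1 v)
  refine ⟨(Fintype.card K : k)⁻¹ * c, ?_⟩
  rw [mul_smul, hc, h2, smul_smul, inv_mul_cancel₀ hK, one_smul]

/-- Let k be a field of prime characteristic p, H a finite p-soluble group and ρ a k-linear representation of H on V. Let a be a vector that is fixed by some Sylow p-subgroup of H and whose H-orbit spans V. Then the space of H-fixed vectors has dimension at most 1, and every vector b whose H-orbit has size coprime to the size of the orbit of a is fixed by H. -/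
theorem result {k V H : Type*} [Field k] (p : ℕ) [Fact p.Prime] [CharP k p] [AddCommGroup V] [Module k V]
    [Group H] [Finite H] (hsol : Cfsg.IsPSolvable p H) (ρ : Representation k H V) (a : V)
    (hfix : ∃ P : Sylow p H, ∀ x : H, x ∈ (P : Subgroup H) → ρ x a = a)
    (hspan : Submodule.span k {u : V | ∃ h : H, ρ h a = u} = ⊤) :
    Module.finrank k ρ.invariants ≤ 1 ∧
    ∀ b : V, (Nat.card {u : V | ∃ h : H, ρ h a = u}).Coprime (Nat.card {u : V | ∃ h : H, ρ h b = u}) → ∀ h : H, ρ h b = b := by
  classical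
  have hp : p.Prime := Fact.out
  obtain ⟨P, hP⟩ := hfix
  have hm : ¬ p ∣ Nat.card {u : V | ∃ h : H, ρ h a = u} := by
    rw [← stab_index]
    have hle : (P : Subgroup H) ≤ stab ρ a := fun x hx => hP x hx
    intro hdvd
    exact P.not_dvd_index (hdvd.trans (Subgroup.index_dvd_of_le hle))
  have key : ∀ K : Subgroup H, (Nat.card K).Coprime p →
      (∀ g : H, ∃ x ∈ K, ρ x a = ρ g a) →
      ∃ s : V, (∀ h : H, ρ h s = s) ∧
        ∀ v : V, (∀ y ∈ K, ρ y v = v) → ∃ c : k, v = c • s := by
    intro K hKp hKt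
    haveI : Fintype K := Fintype.ofFinite K
    haveI : Fintype H := Fintype.ofFinite H
    let ρK : Representation k K V := ρ.comp K.subtype
    have hcard : (Fintype.card K : k) ≠ 0 := by
      rw [← Nat.card_eq_fintype_card]
      intro h0
      rw [CharP.cast_eq_zero_iff k p] at h0
      exact (Nat.Prime.coprime_iff_not_dvd hp).mp hKp.symm h0
    have hspanK : Submodule.span k (Set.range (fun y : K => ρK y a)) = ⊤ := by
      rw [← hspan]
      congr 1
      ext u
      constructor
      · rintro ⟨y, rfl⟩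
        exact ⟨y.1, rfl⟩
      · rintro ⟨h, rfl⟩
        obtain ⟨x, hx, hxa⟩ := hKt h
        exact ⟨⟨x, hx⟩, hxa⟩
    let O : Finset V := Finset.univ.image (fun h : H => ρ h a)
    have hσ : ∀ h : H, ρ h (∑ u ∈ O, u) = ∑ u ∈ O, u := by
      intro h
      rw [map_sum]
      have himg : O.image (fun u => ρ h u) = O := by
        ext w
        simp only [O, Finset.mem_image, Finset.mem_univ, true_and]
        constructor
        · rintro ⟨_, ⟨g, rfl⟩, rfl⟩
          exact ⟨h * g, by rw [map_mul, Module.End.mul_apply]⟩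
        · rintro ⟨g, rfl⟩
          exact ⟨ρ (h⁻¹ * g) a, ⟨h⁻¹ * g, rfl⟩, by
            rw [← Module.End.mul_apply, ← map_mul, mul_inv_cancel_left]⟩
      have e : ∑ u ∈ O.image (fun u => ρ h u), u = ∑ u ∈ O, ρ h u := by
        apply Finset.sum_image
        intro x _ y _ hxy
        have h1 := congrArg (ρ h⁻¹) hxy
        simp only [← Module.End.mul_apply, ← map_mul, inv_mul_cancel, map_one,
          Module.End.one_apply] at h1
        exact h1
      rw [← e, himg]
    have hOs : (O.card : k) • (∑ y : K, ρK y a) = (Fintype.card K : k) • (∑ u ∈ O, u) := by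
      have h1 : ∑ y : K, ρK y (∑ u ∈ O, u) = (Fintype.card K : k) • (∑ u ∈ O, u) := by
        have h3 : ∀ y : K, ρK y (∑ u ∈ O, u) = ∑ u ∈ O, u := fun y => hσ y.1
        rw [Finset.sum_congr rfl (fun y _ => h3 y), Finset.sum_const, Finset.card_univ,
          Nat.cast_smul_eq_nsmul]
      have h2 : ∑ y : K, ρK y (∑ u ∈ O, u) = (O.card : k) • (∑ y : K, ρK y a) := by
        simp_rw [map_sum]
        rw [Finset.sum_comm]
        have h3 : ∀ u ∈ O, ∑ y : K, ρK y u = ∑ y : K, ρK y a := by
          intro u hu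
          obtain ⟨g, -, rfl⟩ := Finset.mem_image.mp hu
          obtain ⟨x, hx, hxa⟩ := hKt g
          rw [← hxa]
          apply Fintype.sum_equiv (Equiv.mulRight (⟨x, hx⟩ : K))
          intro y
          show ρ (y : H) (ρ x a) = ρ ((y * ⟨x, hx⟩ : K) : H) a
          rw [Subgroup.coe_mul, map_mul, Module.End.mul_apply]
        rw [Finset.sum_congr rfl h3, Finset.sum_const, Nat.cast_smul_eq_nsmul]
      rw [← h2, h1]
    have hOcard : (O.card : k) ≠ 0 := by
      have h1 : O.card = Nat.card {u : V | ∃ h : H, ρ h a = u} := by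
        rw [← Set.ncard_coe_finset O, ← Nat.card_coe_set_eq]
        congr 2
        ext u
        simp [O]
      rw [h1]
      intro h0
      rw [CharP.cast_eq_zero_iff k p] at h0
      exact hm h0
    have hs : (∑ y : K, ρK y a)
        = ((O.card : k)⁻¹ * (Fintype.card K : k)) • (∑ u ∈ O, u) := by
      rw [mul_smul, ← hOs, smul_smul, inv_mul_cancel₀ hOcard, one_smul]
    refine ⟨∑ y : K, ρK y a, ?_, ?_⟩
    · intro h
      rw [hs, map_smul, hσ]
    · intro v hv
      exact fixed_smul_sum ρK a hcard hspanK v (fun y => hv y.1 y.2)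
  have hmcop : ∀ n : ℕ, (p ^ n).Coprime (Nat.card {u : V | ∃ h : H, ρ h a = u}) := fun n =>
    Nat.Coprime.pow_left n ((Nat.Prime.coprime_iff_not_dvd hp).mpr hm)
  constructor
  · obtain ⟨K, hKp, n, hKn⟩ := (Cfsg.Agent.S3744.result hsol).1
    have hKt : ∀ g : H, ∃ x ∈ K, ρ x a = ρ g a := by
      apply trans_of_coprime
      rw [hKn]
      exact hmcop n
    obtain ⟨s, hs, hsK⟩ := key K hKp hKt
    have hle : ρ.invariants ≤ Submodule.span k {s} := by
      intro v hv
      rw [Representation.mem_invariants] at hv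
      obtain ⟨c, rfl⟩ := hsK v (fun y _ => hv y)
      exact Submodule.smul_mem _ c (Submodule.mem_span_singleton_self s)
    have h1 : Module.finrank k (Submodule.span k {s}) ≤ 1 := by
      by_cases hs0 : s = 0
      · rw [hs0, Submodule.span_zero_singleton, finrank_bot]
        exact Nat.zero_le 1
      · rw [finrank_span_singleton hs0]
    exact (Submodule.finrank_mono hle).trans h1
  · intro b hcop h
    have hBt : ∀ g : H, ∃ x ∈ stab ρ b, ρ x a = ρ g a := by
      apply trans_of_coprime
      rw [stab_index]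
      exact hcop.symm
    have hsolB : Cfsg.IsPSolvable p ↥(stab ρ b) :=
      Cfsg.Agent.S1901.isPSolvable_subgroup hp (stab ρ b) hsol
    obtain ⟨K₀, hK₀p, n, hK₀n⟩ := (Cfsg.Agent.S3744.result hsolB).1
    let ρB : Representation k (stab ρ b) V := ρ.comp (stab ρ b).subtype
    have horb : {u : V | ∃ h : stab ρ b, ρB h a = u} = {u : V | ∃ h : H, ρ h a = u} := by
      ext u
      constructor
      · rintro ⟨h, rfl⟩
        exact ⟨h.1, rfl⟩
      · rintro ⟨h, rfl⟩
        obtain ⟨x, hx, hxa⟩ := hBt h
        exact ⟨⟨x, hx⟩, hxa⟩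
    have hK₀t : ∀ g : stab ρ b, ∃ x ∈ K₀, ρB x a = ρB g a := by
      apply trans_of_coprime
      rw [hK₀n, horb]
      exact hmcop n
    have hKp : (Nat.card (K₀.map (stab ρ b).subtype)).Coprime p := by
      rw [Subgroup.card_map_of_injective (Subgroup.subtype_injective _)]
      exact hK₀p
    have hKt : ∀ g : H, ∃ x ∈ K₀.map (stab ρ b).subtype, ρ x a = ρ g a := by
      intro g
      obtain ⟨x, hx, hxa⟩ := hBt g
      obtain ⟨y, hy, hya⟩ := hK₀t ⟨x, hx⟩
      exact ⟨y.1, ⟨y, hy, rfl⟩, hya.trans hxa⟩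
    obtain ⟨s, hs, hsK⟩ := key _ hKp hKt
    obtain ⟨c, rfl⟩ := hsK b (by
      rintro y ⟨y₀, -, rfl⟩
      exact y₀.2)
    rw [map_smul, hs]

end Cfsg.Agent.S4176
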