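import Cfsg.Statements.S4126
import Mathlib
import Cfsg.Agent.S4176
import Cfsg.Agent.S0093
import Cfsg.Agent.S0121
import Cfsg.Agent.Lib.Helper1.FrobPC
import Cfsg.Agent.Lib.Helper21.CoprimeP
import Cfsg.Agent.Lib.Helper1.Basic

set_option autoImplicit false
open Cfsg

namespace Cfsg.Agent.S4126


open scoped commutatorElement

theorem mem_sylow_of_index {G : Type*} [Group G] [Finite G] (p : ℕ) [Fact p.Prime] (x : G)
    (hx : ∃ k : ℕ, x ^ p ^ k = 1) (a : ℕ)
    (hidx : (Subgroup.centralizer ({x} : Set G)).index = p ^ a) (P : Sylow p G) :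
    x ∈ (P : Subgroup G) := by
  have hp : p.Prime := Fact.out
  have hz : IsPGroup p (Subgroup.zpowers x) := by
    obtain ⟨k, hk⟩ := hx
    apply IsPGroup.of_card (n := (Nat.card (Subgroup.zpowers x)).factorization p)
    rw [Nat.card_zpowers]
    obtain ⟨j, -, hj⟩ := (Nat.dvd_prime_pow hp).mp (orderOf_dvd_of_pow_eq_one hk)
    rw [hj, Nat.Prime.factorization_pow hp]
    simp
  obtain ⟨P₀, hP₀⟩ := hz.exists_le_sylow
  have hxP₀ : x ∈ (P₀ : Subgroup G) := hP₀ (Subgroup.mem_zpowers x)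
  obtain ⟨g, hg⟩ := MulAction.exists_smul_eq G P₀ P
  have hcop : ((Subgroup.centralizer ({x} : Set G)).index).Coprime
      (Subgroup.normalizer ((P₀ : Subgroup G) : Set G)).index := by
    rw [hidx]
    apply Nat.Coprime.pow_left
    rw [Nat.Prime.coprime_iff_not_dvd hp]
    intro hdvd
    exact P₀.not_dvd_index (hdvd.trans (Subgroup.index_dvd_of_le Subgroup.le_normalizer))
  obtain ⟨b, hb, hbg⟩ := Cfsg.Agent.S4176.mul_cover
    (Subgroup.normalizer ((P₀ : Subgroup G) : Set G)) (Subgroup.centralizer ({x} : Set G)) hcop g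
  have h1 : (b⁻¹ * g) • P₀ = P₀ := Sylow.smul_eq_iff_mem_normalizer.mpr hbg
  have h2 : b • P₀ = P := by
    rw [← hg]
    have e : g = b * (b⁻¹ * g) := by group
    conv_rhs => rw [e, mul_smul, h1]
  rw [← h2, Sylow.coe_subgroup_smul, Cfsg.Agent.Lib.Helper1.mem_conj_smul_iff]
  have h3 : x * b = b * x := Subgroup.mem_centralizer_iff.mp hb x rfl
  have e : b⁻¹ * x * b = x := by
    rw [mul_assoc, h3, ← mul_assoc, inv_mul_cancel, one_mul]
  rw [e]
  exact hxP₀

theorem lemmaX {G : Type*} [Group G] [Finite G] (p : ℕ) [Fact p.Prime] (P : Sylow p G)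
    (M : Subgroup G) (hMn : M.Normal) (hMP : M ≤ (P : Subgroup G))
    (hidx : ∀ y ∈ M, ∃ a : ℕ, (Subgroup.centralizer ({y} : Set G)).index = p ^ a)
    (g : G) (hg : (orderOf g).Coprime p) : ∀ y ∈ M, g * y * g⁻¹ = y := by
  have hp : p.Prime := Fact.out
  let S : Type _ := {Z : Subgroup G // Z ≤ M ∧ Z.Normal ∧ ∀ z ∈ Z, g * z * g⁻¹ = z}
  have hne : Nonempty S := ⟨⟨⊥, bot_le, inferInstance, fun z hz => by
    rw [Subgroup.mem_bot] at hz
    rw [hz]
    group⟩⟩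
  obtain ⟨⟨Z, hZM, hZn, hZg⟩, hmax⟩ := Finite.exists_max (fun Z : S => Nat.card Z.1)
  by_cases hZeq : Z = M
  · intro y hy
    exact hZg y (by rw [hZeq]; exact hy)
  exfalso
  obtain ⟨y₀, hy₀M, hy₀Z⟩ : ∃ y ∈ M, y ∉ Z := by
    by_contra hcon
    push Not at hcon
    exact hZeq (le_antisymm hZM hcon)
  have hnil : Group.IsNilpotent ↥(P : Subgroup G) := P.isPGroup'.isNilpotent
  obtain ⟨n, hn⟩ := (Subgroup.isNilpotent_iff_lowerCentralSeries (P : Subgroup G)).mp hnil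
  have aux : ∀ d j : ℕ, j + d = n → ∀ y ∈ M, y ∈ (P : Subgroup G).lowerCentralSeries j →
      y ∉ Z → ∃ y₁ ∈ M, y₁ ∉ Z ∧ ∀ u ∈ (P : Subgroup G), u * y₁ * u⁻¹ * y₁⁻¹ ∈ Z := by
    intro d
    induction d with
    | zero =>
      intro j hj y hyM hyL hyZ
      exfalso
      rw [add_zero] at hj
      rw [hj, hn, Subgroup.mem_bot] at hyL
      rw [hyL] at hyZ
      exact hyZ (one_mem Z)
    | succ d ih =>
      intro j hj y hyM hyL hyZ
      by_cases hall : ∀ u ∈ (P : Subgroup G), u * y * u⁻¹ * y⁻¹ ∈ Z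
      · exact ⟨y, hyM, hyZ, hall⟩
      · push Not at hall
        obtain ⟨u, hu, huZ⟩ := hall
        apply ih (j + 1) (by omega) (u * y * u⁻¹ * y⁻¹)
        · exact M.mul_mem (hMn.conj_mem y hyM u) (M.inv_mem hyM)
        · rw [Subgroup.lowerCentralSeries_succ]
          have h1 : ⁅y, u⁆ ∈ ⁅(P : Subgroup G).lowerCentralSeries j, (P : Subgroup G)⁆ :=
            Subgroup.commutator_mem_commutator hyL hu
          have h2 := Subgroup.inv_mem _ h1
          have e : (⁅y, u⁆)⁻¹ = u * y * u⁻¹ * y⁻¹ := by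
            rw [commutatorElement_def]
            group
          rwa [e] at h2
        · exact huZ
  obtain ⟨y₁, hy₁M, hy₁Z, hy₁P⟩ := aux n 0 (by omega) y₀ hy₀M
    (by rw [Subgroup.lowerCentralSeries_zero]; exact hMP hy₀M) hy₀Z
  let A : Subgroup G :=
    { carrier := {c | c * y₁ * c⁻¹ * y₁⁻¹ ∈ Z}
      one_mem' := by
        show (1 : G) * y₁ * 1⁻¹ * y₁⁻¹ ∈ Z
        have e : (1 : G) * y₁ * 1⁻¹ * y₁⁻¹ = 1 := by group
        rw [e]
        exact one_mem Z
      mul_mem' := by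
        intro c₁ c₂ h₁ h₂
        show (c₁ * c₂) * y₁ * (c₁ * c₂)⁻¹ * y₁⁻¹ ∈ Z
        have e : (c₁ * c₂) * y₁ * (c₁ * c₂)⁻¹ * y₁⁻¹
            = c₁ * (c₂ * y₁ * c₂⁻¹ * y₁⁻¹) * c₁⁻¹ * (c₁ * y₁ * c₁⁻¹ * y₁⁻¹) := by group
        rw [e]
        exact Z.mul_mem (hZn.conj_mem _ h₂ c₁) h₁
      inv_mem' := by
        intro c hc
        show c⁻¹ * y₁ * c⁻¹⁻¹ * y₁⁻¹ ∈ Z
        have e : c⁻¹ * y₁ * c⁻¹⁻¹ * y₁⁻¹ = c⁻¹ * (c * y₁ * c⁻¹ * y₁⁻¹)⁻¹ * c⁻¹⁻¹ := by group
        rw [e]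
        exact hZn.conj_mem _ (Z.inv_mem hc) c⁻¹ }
  have hPA : (P : Subgroup G) ≤ A := fun u hu => hy₁P u hu
  have hCA : Subgroup.centralizer ({y₁} : Set G) ≤ A := by
    intro c hc
    have h1 : y₁ * c = c * y₁ := Subgroup.mem_centralizer_iff.mp hc y₁ rfl
    show c * y₁ * c⁻¹ * y₁⁻¹ ∈ Z
    have e : c * y₁ * c⁻¹ * y₁⁻¹ = 1 := by
      rw [← h1]
      group
    rw [e]
    exact one_mem Z
  have hAtop : A = ⊤ := by
    rw [← Subgroup.index_eq_one]
    obtain ⟨a, ha⟩ := hidx y₁ hy₁M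
    have h1 : A.index ∣ p ^ a := ha ▸ Subgroup.index_dvd_of_le hCA
    obtain ⟨b, -, hb⟩ := (Nat.dvd_prime_pow hp).mp h1
    rcases Nat.eq_zero_or_pos b with hb0 | hbpos
    · rw [hb, hb0, pow_zero]
    · exfalso
      have h2 : p ∣ A.index := by
        rw [hb]
        exact dvd_pow_self p (by omega)
      exact P.not_dvd_index (h2.trans (Subgroup.index_dvd_of_le hPA))
  let Z' : Subgroup G :=
    { carrier := {y | y ∈ M ∧ ∀ c : G, c * y * c⁻¹ * y⁻¹ ∈ Z}
      one_mem' := by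
        refine ⟨one_mem M, fun c => ?_⟩
        have e : c * (1 : G) * c⁻¹ * 1⁻¹ = 1 := by group
        rw [e]
        exact one_mem Z
      mul_mem' := by
        rintro a b ⟨haM, ha⟩ ⟨hbM, hb⟩
        refine ⟨M.mul_mem haM hbM, fun c => ?_⟩
        have e : c * (a * b) * c⁻¹ * (a * b)⁻¹
            = (c * a * c⁻¹ * a⁻¹) * (a * (c * b * c⁻¹ * b⁻¹) * a⁻¹) := by group
        rw [e]
        exact Z.mul_mem (ha c) (hZn.conj_mem _ (hb c) a)
      inv_mem' := by
        rintro a ⟨haM, ha⟩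
        refine ⟨M.inv_mem haM, fun c => ?_⟩
        have e : c * a⁻¹ * c⁻¹ * a⁻¹⁻¹ = a⁻¹ * (c * a * c⁻¹ * a⁻¹)⁻¹ * a⁻¹⁻¹ := by group
        rw [e]
        exact hZn.conj_mem _ (Z.inv_mem (ha c)) a⁻¹ }
  have hZ'n : Z'.Normal := ⟨by
    rintro y ⟨hyM, hy⟩ d
    refine ⟨hMn.conj_mem y hyM d, fun c => ?_⟩
    have e : c * (d * y * d⁻¹) * c⁻¹ * (d * y * d⁻¹)⁻¹
        = d * ((d⁻¹ * c * d) * y * (d⁻¹ * c * d)⁻¹ * y⁻¹) * d⁻¹ := by group
    rw [e]
    exact hZn.conj_mem _ (hy _) d⟩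
  have hZZ' : Z ≤ Z' := by
    intro z hz
    exact ⟨hZM hz, fun c => Z.mul_mem (hZn.conj_mem z hz c) (Z.inv_mem hz)⟩
  have hy₁Z' : y₁ ∈ Z' := by
    refine ⟨hy₁M, fun c => ?_⟩
    have hc : c ∈ A := by rw [hAtop]; exact Subgroup.mem_top c
    exact hc
  have hZ'g : ∀ y ∈ Z', g * y * g⁻¹ = y := by
    rintro y ⟨hyM, hy⟩
    have hz : g * y * g⁻¹ * y⁻¹ ∈ Z := hy g
    have hzg : g * (g * y * g⁻¹ * y⁻¹) * g⁻¹ = g * y * g⁻¹ * y⁻¹ := hZg _ hz
    have h1 : g * y * g⁻¹ = (g * y * g⁻¹ * y⁻¹) * y := by group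
    have hcomm : Commute (g * y * g⁻¹ * y⁻¹) g := by
      show (g * y * g⁻¹ * y⁻¹) * g = g * (g * y * g⁻¹ * y⁻¹)
      conv_lhs => rw [← hzg]
      group
    have h2 := Cfsg.Agent.Lib.Helper21.conj_pow_of_central h1 hcomm (orderOf g)
    rw [pow_orderOf_eq_one, one_mul, inv_one, mul_one] at h2
    have h3 : (g * y * g⁻¹ * y⁻¹) ^ orderOf g = 1 := by
      have := h2.symm
      exact mul_eq_right.mp this
    have h4 : g * y * g⁻¹ * y⁻¹ = 1 := by
      obtain ⟨k, hk⟩ := P.isPGroup' ⟨_, hMP (hZM hz)⟩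
      have hk' : (g * y * g⁻¹ * y⁻¹) ^ p ^ k = 1 := congrArg Subtype.val hk
      have h5 : orderOf (g * y * g⁻¹ * y⁻¹) ∣ orderOf g := orderOf_dvd_of_pow_eq_one h3
      have h6 : orderOf (g * y * g⁻¹ * y⁻¹) ∣ p ^ k := orderOf_dvd_of_pow_eq_one hk'
      have h7 : orderOf (g * y * g⁻¹ * y⁻¹) = 1 :=
        Nat.eq_one_of_dvd_coprimes (Nat.Coprime.pow_right k hg) h5 h6
      exact orderOf_eq_one_iff.mp h7
    rw [h1, h4, one_mul]
  have h1 := hmax ⟨Z', fun y hy => hy.1, hZ'n, hZ'g⟩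
  have h2 := Subgroup.eq_of_le_of_card_ge hZZ' h1
  exact hy₁Z (by rw [h2]; exact hy₁Z')

theorem crit {G : Type*} [Group G] [Finite G] (p : ℕ) [Fact p.Prime] (N : Subgroup G)
    (hNn : N.Normal) (hNp : IsPGroup p N) (m : ℕ) (hm1 : p ∣ m) (hm2 : p ∣ m * (m - 1) / 2) :
    ∃ M : Subgroup G, M.Normal ∧ M ≤ N ∧ (∀ y ∈ M, y ^ m = 1) ∧
      ∀ g : G, (orderOf g).Coprime p → (∀ y ∈ M, g * y * g⁻¹ = y) →
        ∀ y ∈ N, g * y * g⁻¹ = y := by
  have hp : p.Prime := Fact.out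
  haveI := hNn
  obtain ⟨H, hHchar, h1, h2, h3⟩ := Cfsg.Agent.S0093.result (P := ↥N) hNp
  have hHp : IsPGroup p H := hNp.to_subgroup H
  have hcc : ∀ x ∈ H, ∀ y : N, y * x * y⁻¹ * x⁻¹ ∈ Subgroup.centralizer (H : Set N) := by
    intro x hx y
    have h4 : ⁅x, y⁆ ∈ ⁅H, (⊤ : Subgroup N)⁆ :=
      Subgroup.commutator_mem_commutator hx (Subgroup.mem_top y)
    have h5 := (h2 h4).2
    have e : y * x * y⁻¹ * x⁻¹ = (⁅x, y⁆)⁻¹ := by
      rw [commutatorElement_def]
      group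
    rw [e]
    exact Subgroup.inv_mem _ h5
  have hpow : ∀ y ∈ H, y ^ p ∈ Subgroup.centralizer (H : Set N) := by
    intro y hy
    have h5 := (Cfsg.Agent.S0012.result p hHp).2 ⟨y, hy⟩
    exact h1 ⟨_, h5, rfl⟩
  have hmul : ∀ x ∈ H, ∀ y ∈ H, x ^ m = 1 → y ^ m = 1 → (x * y) ^ m = 1 := by
    intro x hx y hy hxm hym
    have hc := hcc x hx y
    have hcx : Commute (y * x * y⁻¹ * x⁻¹) x := (Subgroup.mem_centralizer_iff.mp hc x hx).symm
    have hcy : Commute (y * x * y⁻¹ * x⁻¹) y := (Subgroup.mem_centralizer_iff.mp hc y hy).symm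
    have hyx : y * x = (y * x * y⁻¹ * x⁻¹) * x * y := by group
    have hcp : (y * x * y⁻¹ * x⁻¹) ^ p = 1 := by
      have h6 : y * x * y⁻¹ = (y * x * y⁻¹ * x⁻¹) * x := by group
      have h7 := Cfsg.Agent.Lib.Helper21.conj_pow_of_central h6 hcy p
      have h8 : x * y ^ p = y ^ p * x := Subgroup.mem_centralizer_iff.mp (hpow y hy) x hx
      have h9 : y ^ p * x * (y ^ p)⁻¹ = x := by
        rw [← h8]
        group
      rw [h9] at h7
      exact mul_eq_right.mp h7.symm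
    rw [Cfsg.Agent.Lib.Helper21.mul_pow_of_central hyx hcx hcy m, hxm, hym, mul_one, mul_one]
    obtain ⟨t, ht⟩ := hm2
    rw [ht, pow_mul, hcp, one_pow]
  let M₀ : Subgroup N :=
    { carrier := {x | x ∈ H ∧ x ^ m = 1}
      one_mem' := ⟨one_mem H, one_pow m⟩
      mul_mem' := by
        rintro x y ⟨hx, hxm⟩ ⟨hy, hym⟩
        exact ⟨H.mul_mem hx hy, hmul x hx y hy hxm hym⟩
      inv_mem' := by
        rintro x ⟨hx, hxm⟩
        exact ⟨H.inv_mem hx, by rw [inv_pow, hxm, inv_one]⟩ }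
  have hconjH : ∀ g : G, ∀ x : N, x ∈ H → (MulAut.conjNormal g : MulAut N) x ∈ H := by
    intro g x hx
    exact Subgroup.characteristic_iff_le_comap.mp hHchar (MulAut.conjNormal g) hx
  refine ⟨M₀.map N.subtype, ?_, ?_, ?_, ?_⟩
  · constructor
    rintro _ ⟨x, ⟨hxH, hxm⟩, rfl⟩ g
    refine ⟨(MulAut.conjNormal g : MulAut N) x, ⟨hconjH g x hxH, ?_⟩, ?_⟩
    · rw [← map_pow, hxm, map_one]
    · rw [Subgroup.coe_subtype, MulAut.conjNormal_apply]
  · rintro _ ⟨x, -, rfl⟩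
    exact x.2
  · rintro _ ⟨x, ⟨-, hxm⟩, rfl⟩
    have h4 := congrArg Subtype.val hxm
    rw [Subgroup.coe_subtype]
    exact h4
  · intro g hg hM
    have hH'p : IsPGroup p (H.map N.subtype) := hHp.map _
    have hgn : g ∈ Subgroup.normalizer ((H.map N.subtype : Subgroup G) : Set G) := by
      rw [Subgroup.mem_normalizer_iff]
      intro y
      constructor
      · rintro ⟨x, hx, rfl⟩
        refine ⟨(MulAut.conjNormal g : MulAut N) x, hconjH g x hx, ?_⟩
        rw [Subgroup.coe_subtype, MulAut.conjNormal_apply]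
      · rintro ⟨x, hx, hxy⟩
        refine ⟨(MulAut.conjNormal g⁻¹ : MulAut N) x, hconjH g⁻¹ x hx, ?_⟩
        rw [Subgroup.coe_subtype, MulAut.conjNormal_apply]
        rw [Subgroup.coe_subtype] at hxy
        rw [hxy]
        group
    have hH' : ∀ y ∈ H.map N.subtype, g * y * g⁻¹ = y := by
      apply Cfsg.Agent.Lib.Helper21.centralizes_of_centralizes_omega m hm1 hm2 g hg
        (Nat.card (H.map N.subtype)) (H.map N.subtype) le_rfl hH'p hgn
      rintro _ ⟨x, hx, rfl⟩ hxm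
      apply hM
      refine ⟨x, ⟨hx, ?_⟩, rfl⟩
      apply Subtype.ext
      rw [Subgroup.coe_subtype] at hxm
      exact hxm
    have ha : (MulAut.conjNormal g : MulAut N) = 1 := by
      apply Cfsg.Agent.S0121.result hNp H hHchar h1 h2 h3 (MulAut.conjNormal g)
      · exact Nat.Coprime.coprime_dvd_left
          (orderOf_map_dvd (MulAut.conjNormal : G →* MulAut N) g) hg
      · intro x hx
        apply Subtype.ext
        rw [MulAut.conjNormal_apply]
        exact hH' x ⟨x, hx, rfl⟩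
    intro y hy
    have h4 : ((MulAut.conjNormal g : MulAut N) ⟨y, hy⟩ : G) = y := by
      rw [ha]
      rfl
    rw [MulAut.conjNormal_apply] at h4
    exact h4

/-- Let G be a finite group and p a prime. Suppose every element of order p, and when p = 2 also every element of order 4, has a conjugacy class of p-power size. Then G has a normal p-complement. -/
theorem result {G : Type*} [Group G] [Finite G] (p : ℕ) [Fact p.Prime]
    (h : ∀ x : G, (orderOf x = p ∨ (p = 2 ∧ orderOf x = 4)) → ∃ a : ℕ, (Subgroup.centralizer ({x} : Set G)).index = p ^ a) :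
    Cfsg.HasNormalPComplement p G := by
  classical
  have hp : p.Prime := Fact.out
  have hone : ∃ a : ℕ, (Subgroup.centralizer ({(1 : G)} : Set G)).index = p ^ a := by
    refine ⟨0, ?_⟩
    rw [pow_zero, Subgroup.index_eq_one, eq_top_iff]
    intro c _
    rw [Subgroup.mem_centralizer_iff]
    intro y hy
    rw [Set.mem_singleton_iff] at hy
    rw [hy, one_mul, mul_one]
  obtain ⟨m, hm1, hm2, hmh⟩ : ∃ m : ℕ, p ∣ m ∧ p ∣ m * (m - 1) / 2 ∧
      ∀ x : G, x ^ m = 1 → (∃ k : ℕ, x ^ p ^ k = 1) ∧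
        ∃ a : ℕ, (Subgroup.centralizer ({x} : Set G)).index = p ^ a := by
    by_cases hp2 : p = 2
    · refine ⟨4, ?_, ?_, ?_⟩
      · rw [hp2]
        norm_num
      · rw [hp2]
        norm_num
      · intro x hx
        refine ⟨⟨2, by rw [hp2]; exact hx⟩, ?_⟩
        by_cases hx1 : x = 1
        · rw [hx1]
          exact hone
        · apply h
          have h1 : orderOf x ∣ 2 ^ 2 := orderOf_dvd_of_pow_eq_one hx
          obtain ⟨j, hj, hj'⟩ := (Nat.dvd_prime_pow Nat.prime_two).mp h1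
          interval_cases j
          · exfalso
            exact hx1 (orderOf_eq_one_iff.mp (by simpa using hj'))
          · left
            rw [hp2]
            simpa using hj'
          · right
            exact ⟨hp2, by simpa using hj'⟩
    · refine ⟨p, dvd_rfl, ?_, ?_⟩
      · obtain ⟨t, ht⟩ := hp.odd_of_ne_two hp2
        have h2 : 2 ∣ p - 1 := ⟨t, by omega⟩
        rw [Nat.mul_div_assoc _ h2]
        exact dvd_mul_right _ _
      · intro x hx
        refine ⟨⟨1, by rwa [pow_one]⟩, ?_⟩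
        by_cases hx1 : x = 1
        · rw [hx1]
          exact hone
        · apply h
          left
          exact orderOf_eq_prime hx hx1
  obtain ⟨P₀⟩ : Nonempty (Sylow p G) := inferInstance
  have hNn : ((P₀ : Subgroup G).normalCore).Normal := Subgroup.normalCore_normal _
  have hNP : (P₀ : Subgroup G).normalCore ≤ (P₀ : Subgroup G) := Subgroup.normalCore_le _
  have hNp : IsPGroup p ((P₀ : Subgroup G).normalCore) := P₀.isPGroup'.to_le hNP
  have hΩN : ∀ x : G, x ^ m = 1 → x ∈ (P₀ : Subgroup G).normalCore := by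
    intro x hx
    show ∀ b : G, b * x * b⁻¹ ∈ (P₀ : Subgroup G)
    intro b
    have hbx : (b * x * b⁻¹) ^ m = 1 := by
      rw [conj_pow, hx]
      group
    obtain ⟨hk, a, ha⟩ := hmh _ hbx
    exact mem_sylow_of_index p _ hk a ha P₀
  obtain ⟨M, hMn, hMN, hMm, hMcrit⟩ := crit p _ hNn hNp m hm1 hm2
  have hcentN : ∀ g : G, (orderOf g).Coprime p →
      ∀ y ∈ (P₀ : Subgroup G).normalCore, g * y * g⁻¹ = y := by
    intro g hg
    apply hMcrit g hg
    exact lemmaX p P₀ M hMn (hMN.trans hNP) (fun y hy => (hmh y (hMm y hy)).2) g hg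
  have hF : Cfsg.Agent.Lib.Helper1.FrobCond p G := by
    intro Q hQ g hgn hg
    have h1 := Cfsg.Agent.Lib.Helper21.centralizes_of_centralizes_omega m hm1 hm2 g hg
      (Nat.card Q) Q le_rfl hQ hgn (fun x _ hxm => hcentN g hg x (hΩN x hxm))
    rw [Subgroup.mem_centralizer_iff]
    intro x hx
    have h2 := h1 x hx
    calc x * g = (g * x * g⁻¹) * g := by rw [h2]
      _ = g * x := by group
  exact ⟨P₀, Cfsg.pResidual p G, Cfsg.Agent.Lib.Helper1.pResidual_normal p,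
    Cfsg.Agent.Lib.Helper1.frobCond_isComplement' hF P₀⟩

end Cfsg.Agent.S4126
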