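import Cfsg.Statements.S4140
import Cfsg.Agent.S0033
import Cfsg.Agent.Lib.Helper11.BG7b
import Cfsg.Agent.Lib.Helper1.CaminaA
import Cfsg.Agent.Lib.Helper24.CaminaB

set_option autoImplicit false
open Cfsg

namespace Cfsg.Agent.S4140


/-- A surjection `ρ : H →* A` whose kernel is a nontrivial `p'`-group, and two independent
commuting elements of order `p` in `A`: some element of order `p` outside the kernel
centralizes a nontrivial element of the kernel. -/
theorem rank_two_lift {H A : Type*} [Group H] [Finite H] [Group A] (p : ℕ) [Fact p.Prime]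
    (ρ : H →* A) (hρ : Function.Surjective ρ) (hcop : ¬ p ∣ Nat.card ρ.ker) (hne : ρ.ker ≠ ⊥)
    (z e : A) (hz : orderOf z = p) (he : orderOf e = p) (hc : z * e = e * z)
    (hze : e ∉ Subgroup.zpowers z) :
    ∃ b : H, b ∉ ρ.ker ∧ b ^ p = 1 ∧ ∃ y ∈ ρ.ker, y ≠ 1 ∧ y * b = b * y := by
  classical
  have hp : p.Prime := Fact.out
  have : Finite A := Finite.of_surjective ρ hρ
  obtain ⟨A0, hA0def⟩ : ∃ A0 : Subgroup A, A0 = Subgroup.closure ({z, e} : Set A) := ⟨_, rfl⟩
  have hzA0 : z ∈ A0 := by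
    rw [hA0def]
    exact Subgroup.subset_closure (Set.mem_insert _ _)
  have heA0 : e ∈ A0 := by
    rw [hA0def]
    exact Subgroup.subset_closure (Set.mem_insert_of_mem _ rfl)
  have hcomm : ∀ x ∈ A0, ∀ y ∈ A0, x * y = y * x := by
    have h1 : A0 ≤ Subgroup.centralizer ({z, e} : Set A) := by
      rw [hA0def, Subgroup.closure_le]
      intro x hx
      rw [SetLike.mem_coe, Subgroup.mem_centralizer_iff]
      intro y hy
      rcases hx with rfl | rfl <;> rcases hy with rfl | rfl
      · rfl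
      · exact hc.symm
      · exact hc
      · rfl
    intro x hx y hy
    have h2 : x ∈ Subgroup.centralizer (Subgroup.centralizer ({z, e} : Set A) : Set A) := by
      rw [hA0def] at hx
      exact Subgroup.closure_le_centralizer_centralizer _ hx
    exact ((Subgroup.mem_centralizer_iff.mp h2) y (h1 hy)).symm
  have hexp : ∀ x ∈ A0, x ^ p = 1 := by
    intro x hx
    rw [hA0def] at hx
    induction hx using Subgroup.closure_induction with
    | mem x hx =>
      rcases hx with rfl | rfl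
      · rw [← hz]; exact pow_orderOf_eq_one _
      · rw [← he]; exact pow_orderOf_eq_one _
    | one => exact one_pow _
    | mul x y hx hy hx' hy' =>
      rw [(show Commute x y from hcomm x (hA0def ▸ hx) y (hA0def ▸ hy)).mul_pow, hx', hy', one_mul]
    | inv x hx hx' => rw [inv_pow, hx', inv_one]
  have hA0p : IsPGroup p A0 := by
    intro x
    refine ⟨1, ?_⟩
    rw [pow_one]
    exact Subtype.ext (hexp x x.2)
  obtain ⟨T, hT⟩ := hA0p.exists_le_sylow
  obtain ⟨S, hS⟩ := Sylow.mapSurjective_surjective hρ p T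
  have hST : (S : Subgroup H).map ρ = T := by rw [← hS]; rfl
  -- `ρ` is injective on `S`
  have hinj : ∀ a ∈ (S : Subgroup H), ∀ b ∈ (S : Subgroup H), ρ a = ρ b → a = b := by
    intro a ha b hb hab
    have h1 : a⁻¹ * b ∈ ρ.ker := by
      rw [MonoidHom.mem_ker, map_mul, map_inv, hab, inv_mul_cancel]
    have h2 : a⁻¹ * b ∈ (S : Subgroup H) := Subgroup.mul_mem _ (Subgroup.inv_mem _ ha) hb
    obtain ⟨k, hk⟩ := S.isPGroup' ⟨a⁻¹ * b, h2⟩
    have hk' : (a⁻¹ * b) ^ p ^ k = 1 := congrArg Subtype.val hk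
    have hd1 : orderOf (a⁻¹ * b) ∣ p ^ k := orderOf_dvd_of_pow_eq_one hk'
    have hd2 : orderOf (a⁻¹ * b) ∣ Nat.card ρ.ker := Subgroup.orderOf_dvd_natCard _ h1
    have hcp : Nat.Coprime (p ^ k) (Nat.card ρ.ker) :=
      Nat.Coprime.pow_left _ ((Nat.Prime.coprime_iff_not_dvd hp).mpr hcop)
    have h3 : orderOf (a⁻¹ * b) = 1 := Nat.eq_one_of_dvd_coprimes hcp hd1 hd2
    have h4 : a⁻¹ * b = 1 := orderOf_eq_one_iff.mp h3
    exact inv_mul_eq_one.mp h4
  obtain ⟨z', hz'S, hz'⟩ : ∃ z' ∈ (S : Subgroup H), ρ z' = z := by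
    have h1 : z ∈ (S : Subgroup H).map ρ := by rw [hST]; exact hT hzA0
    exact h1
  obtain ⟨e', he'S, he'⟩ : ∃ e' ∈ (S : Subgroup H), ρ e' = e := by
    have h1 : e ∈ (S : Subgroup H).map ρ := by rw [hST]; exact hT heA0
    exact h1
  obtain ⟨E, hEdef⟩ : ∃ E : Subgroup H, E = (S : Subgroup H) ⊓ A0.comap ρ := ⟨_, rfl⟩
  have hES : E ≤ (S : Subgroup H) := by rw [hEdef]; exact inf_le_left
  have hEA0 : ∀ x ∈ E, ρ x ∈ A0 := by
    intro x hx
    rw [hEdef] at hx
    exact hx.2
  have hEc : IsMulCommutative E := by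
    apply Cfsg.Agent.Lib.Helper11.imc_of_sub_comm
    intro a ha b hb
    apply hinj _ (Subgroup.mul_mem _ (hES ha) (hES hb)) _ (Subgroup.mul_mem _ (hES hb) (hES ha))
    rw [map_mul, map_mul]
    exact hcomm _ (hEA0 a ha) _ (hEA0 b hb)
  have hEp : ∀ x ∈ E, x ^ p = 1 := by
    intro x hx
    apply hinj _ (Subgroup.pow_mem _ (hES hx) _) _ (Subgroup.one_mem _)
    rw [map_pow, map_one]
    exact hexp _ (hEA0 x hx)
  have hz'E : z' ∈ E := by
    rw [hEdef]
    refine Subgroup.mem_inf.mpr ⟨hz'S, ?_⟩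
    rw [Subgroup.mem_comap, hz']
    exact hzA0
  have he'E : e' ∈ E := by
    rw [hEdef]
    refine Subgroup.mem_inf.mpr ⟨he'S, ?_⟩
    rw [Subgroup.mem_comap, he']
    exact heA0
  have hEcard : p < Nat.card E := by
    have hz'o : orderOf z' = p := by
      apply orderOf_eq_prime (hEp z' hz'E)
      intro h1
      rw [h1, map_one] at hz'
      rw [← hz', orderOf_one] at hz
      exact hp.one_lt.ne hz
    have hle : Subgroup.zpowers z' ≤ E := by
      rw [Subgroup.zpowers_le]
      exact hz'E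
    have hne' : Subgroup.zpowers z' ≠ E := by
      intro heq
      have h1 : e' ∈ Subgroup.zpowers z' := by rw [heq]; exact he'E
      obtain ⟨k, hk⟩ := Subgroup.mem_zpowers_iff.mp h1
      apply hze
      rw [Subgroup.mem_zpowers_iff]
      refine ⟨k, ?_⟩
      rw [← hz', ← he', ← hk, map_zpow]
    have hdvd : Nat.card (Subgroup.zpowers z') ∣ Nat.card E := Subgroup.card_dvd_of_le hle
    rw [Nat.card_zpowers, hz'o] at hdvd
    have hne2 : p ≠ Nat.card E := by
      intro heq
      apply hne'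
      apply Subgroup.eq_of_le_of_card_ge hle
      rw [Nat.card_zpowers, hz'o, ← heq]
    exact lt_of_le_of_ne (Nat.le_of_dvd Nat.card_pos hdvd) hne2
  have hEQ : E ≤ Subgroup.normalizer (ρ.ker : Set H) := by
    rw [Subgroup.normalizer_eq_top]
    exact le_top
  have hcop' : (Nat.card E).Coprime (Nat.card ρ.ker) := by
    have hEpg : IsPGroup p E := S.isPGroup'.to_le hES
    obtain ⟨k, hk⟩ := IsPGroup.iff_card.mp hEpg
    rw [hk]
    exact Nat.Coprime.pow_left _ ((Nat.Prime.coprime_iff_not_dvd hp).mpr hcop)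
  obtain ⟨b, hbE, hb1, hQb⟩ := Cfsg.Agent.Lib.Helper11.exists_elt_centralizer_ne_bot p ρ.ker E
    hEc hEQ hEp hcop' hEcard hne
  obtain ⟨y, hy1⟩ := (Subgroup.ne_bot_iff_exists_ne_one).mp hQb
  refine ⟨b, ?_, hEp b hbE, (y : H), y.2.1, fun h => hy1 (Subtype.ext h), ?_⟩
  · intro hbk
    apply hb1
    apply hinj b (hES hbE) 1 (Subgroup.one_mem _)
    rw [map_one]
    exact hbk
  · have h1 := Subgroup.mem_centralizer_iff.mp y.2.2 b (Set.mem_singleton b)
    exact h1.symm

/-- P3. -/
theorem no_rank_two {G : Type*} [Group G] [Finite G] (p : ℕ) [Fact p.Prime] (N P0 : Subgroup G)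
    [N.Normal] [P0.Normal] (hP0N : P0 ≤ N) (hP0 : IsPGroup p P0) (hcop : ¬ p ∣ P0.relIndex N)
    (hne : P0 ≠ N)
    (hfix : ∀ u : G, u ∉ N → (∃ k : ℕ, orderOf u = p ^ k) → ∀ y ∈ N, u * y = y * u →
      ∃ k : ℕ, orderOf y = p ^ k)
    (z e : G ⧸ N) (hz : orderOf z = p) (he : orderOf e = p) (hc : z * e = e * z)
    (hze : e ∉ Subgroup.zpowers z) : False := by
  classical
  have hp : p.Prime := Fact.out
  -- the map `G ⧸ P0 → G ⧸ N`
  let ρ : G ⧸ P0 →* G ⧸ N := QuotientGroup.map P0 N (MonoidHom.id G) hP0N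
  have hρmk : ∀ g : G, ρ (QuotientGroup.mk g) = QuotientGroup.mk g := fun g => rfl
  have hρ : Function.Surjective ρ := by
    intro a
    obtain ⟨g, rfl⟩ := QuotientGroup.mk_surjective a
    exact ⟨QuotientGroup.mk g, rfl⟩
  have hker : ∀ g : G, (QuotientGroup.mk g : G ⧸ P0) ∈ ρ.ker ↔ g ∈ N := by
    intro g
    rw [MonoidHom.mem_ker, hρmk, QuotientGroup.eq_one_iff]
  have hkercard : Nat.card ρ.ker = P0.relIndex N := by
    let f : N →* G ⧸ P0 := (QuotientGroup.mk' P0).comp N.subtype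
    have h1 : f.range = ρ.ker := by
      ext a
      obtain ⟨g, rfl⟩ := QuotientGroup.mk_surjective a
      rw [hker]
      constructor
      · rintro ⟨n, hn⟩
        have h2 : (QuotientGroup.mk (n : G) : G ⧸ P0) = QuotientGroup.mk g := hn
        rw [QuotientGroup.eq] at h2
        have h3 : g = (n : G) * ((n : G)⁻¹ * g) := by group
        rw [h3]
        exact N.mul_mem n.2 (hP0N h2)
      · intro hg
        exact ⟨⟨g, hg⟩, rfl⟩
    have h2 : f.ker = P0.subgroupOf N := by
      ext n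
      rw [MonoidHom.mem_ker, Subgroup.mem_subgroupOf]
      exact QuotientGroup.eq_one_iff (n : G)
    rw [← h1, ← Subgroup.index_ker, h2]
    rfl
  have hcopk : ¬ p ∣ Nat.card ρ.ker := by
    rw [hkercard]
    exact hcop
  have hkne : ρ.ker ≠ ⊥ := by
    intro hbot
    apply hne
    apply le_antisymm hP0N
    intro n hn
    have h1 : (QuotientGroup.mk n : G ⧸ P0) ∈ ρ.ker := (hker n).mpr hn
    rw [hbot, Subgroup.mem_bot, QuotientGroup.eq_one_iff] at h1
    exact h1
  obtain ⟨b, hbk, hbp, y, hyk, hy1, hyb⟩ := rank_two_lift p ρ hρ hcopk hkne z e hz he hc hze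
  -- a prime `r ≠ p` dividing the order of `y`
  have hoy : orderOf y ≠ 1 := fun h => hy1 (orderOf_eq_one_iff.mp h)
  obtain ⟨r, hr, hry⟩ := Nat.exists_prime_and_dvd hoy
  have : Fact r.Prime := ⟨hr⟩
  have hrp : r ≠ p := by
    intro h
    apply hcopk
    rw [← h]
    exact hry.trans (Subgroup.orderOf_dvd_natCard _ hyk)
  -- an element of order `r` of the kernel commuting with `b`
  obtain ⟨y', hy'def⟩ : ∃ y' : G ⧸ P0, y' = y ^ (orderOf y / r) := ⟨_, rfl⟩
  have hy'o : orderOf y' = r := by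
    rw [hy'def]
    exact orderOf_pow_orderOf_div (orderOf_pos y).ne' hry
  have hy'k : y' ∈ ρ.ker := by
    rw [hy'def]
    exact Subgroup.pow_mem _ hyk _
  have hy'b : Commute y' b := by
    rw [hy'def]
    exact (show Commute y b from hyb).pow_left _
  obtain ⟨y0, rfl⟩ := QuotientGroup.mk_surjective y'
  have hy0N : y0 ∈ N := (hker y0).mp hy'k
  obtain ⟨c, s, hs, hos⟩ := Nat.exists_eq_pow_mul_and_not_dvd (orderOf_pos y0).ne' r hr.ne_one
  obtain ⟨y1, hy1def⟩ : ∃ y1 : G, y1 = y0 ^ s := ⟨_, rfl⟩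
  have hy1N : y1 ∈ N := by
    rw [hy1def]
    exact N.pow_mem hy0N _
  have hy1pow : y1 ^ r ^ c = 1 := by
    rw [hy1def, ← pow_mul, mul_comm, ← hos, pow_orderOf_eq_one]
  have hy1ne : y1 ≠ 1 := by
    intro h1
    apply hs
    have h2 : (QuotientGroup.mk y0 : G ⧸ P0) ^ s = 1 := by
      rw [← QuotientGroup.mk_pow, ← hy1def, h1, QuotientGroup.mk_one]
    have h3 := orderOf_dvd_of_pow_eq_one h2
    rwa [hy'o] at h3
  have hy1b : Commute (QuotientGroup.mk y1 : G ⧸ P0) b := by
    rw [hy1def, QuotientGroup.mk_pow]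
    exact hy'b.pow_left _
  obtain ⟨j, -, hj⟩ := (Nat.dvd_prime_pow hr).mp (orderOf_dvd_of_pow_eq_one hy1pow)
  have hj0 : j ≠ 0 := by
    rintro rfl
    rw [pow_zero, orderOf_eq_one_iff] at hj
    exact hy1ne hj
  have hR : IsPGroup r (Subgroup.zpowers y1) := by
    rw [IsPGroup.iff_card]
    exact ⟨j, by rw [Nat.card_zpowers, hj]⟩
  have hHb : ∀ h ∈ Subgroup.zpowers y1, (QuotientGroup.mk h : G ⧸ P0) * b * (QuotientGroup.mk h)⁻¹ = b := by
    intro h hh
    obtain ⟨k, rfl⟩ := Subgroup.mem_zpowers_iff.mp hh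
    have h1 : Commute (QuotientGroup.mk (y1 ^ k) : G ⧸ P0) b := by
      rw [QuotientGroup.mk_zpow]
      exact hy1b.zpow_left _
    rw [h1.eq, mul_inv_cancel_right]
  obtain ⟨b0, rfl⟩ := QuotientGroup.mk_surjective b
  -- the action on the coset
  let X : Type _ := {u : G // (QuotientGroup.mk u : G ⧸ P0) = QuotientGroup.mk b0}
  let act : MulAction (Subgroup.zpowers y1) X :=
    { smul := fun h u => ⟨(h : G) * u.1 * (h : G)⁻¹, by
        rw [QuotientGroup.mk_mul, QuotientGroup.mk_mul, QuotientGroup.mk_inv, u.2]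
        exact hHb h h.2⟩
      one_smul := fun u => Subtype.ext (by
        show (1 : G) * u.1 * (1 : G)⁻¹ = u.1
        group)
      mul_smul := fun h1 h2 u => Subtype.ext (by
        show ((h1 : G) * (h2 : G)) * u.1 * ((h1 : G) * (h2 : G))⁻¹ =
          (h1 : G) * ((h2 : G) * u.1 * (h2 : G)⁻¹) * (h1 : G)⁻¹
        group) }
  have hXcard : Nat.card X = Nat.card P0 := by
    apply Nat.card_congr
    exact
      { toFun := fun u => ⟨b0⁻¹ * u.1, by
          rw [← QuotientGroup.eq_one_iff (N := P0), QuotientGroup.mk_mul, QuotientGroup.mk_inv,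
            u.2, inv_mul_cancel]⟩
        invFun := fun x => ⟨b0 * (x : G), by
          rw [QuotientGroup.mk_mul, (QuotientGroup.eq_one_iff (x : G)).mpr x.2, mul_one]⟩
        left_inv := fun u => Subtype.ext (by simp)
        right_inv := fun x => Subtype.ext (by simp) }
  have hnd : ¬ r ∣ Nat.card X := by
    rw [hXcard]
    obtain ⟨n, hn⟩ := IsPGroup.iff_card.mp hP0
    rw [hn]
    intro hd
    exact hrp ((Nat.prime_dvd_prime_iff_eq hr hp).mp (hr.dvd_of_dvd_pow hd))
  obtain ⟨u, hu⟩ := hR.nonempty_fixed_point_of_prime_not_dvd_card X hnd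
  have hu1 : y1 * u.1 * y1⁻¹ = u.1 := by
    have h1 := hu ⟨y1, Subgroup.mem_zpowers y1⟩
    exact congrArg Subtype.val h1
  have huy : u.1 * y1 = y1 * u.1 := by
    calc u.1 * y1 = (y1 * u.1 * y1⁻¹) * y1 := by rw [hu1]
      _ = y1 * u.1 := by group
  have huN : u.1 ∉ N := by
    intro h
    apply hbk
    rw [← u.2]
    exact (hker u.1).mpr h
  have hup : ∃ k : ℕ, orderOf u.1 = p ^ k := by
    have h1 : u.1 ^ p ∈ P0 := by
      rw [← QuotientGroup.eq_one_iff (N := P0), QuotientGroup.mk_pow, u.2]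
      exact hbp
    obtain ⟨k, hk⟩ := hP0 ⟨u.1 ^ p, h1⟩
    have hk' : (u.1 ^ p) ^ p ^ k = 1 := congrArg Subtype.val hk
    rw [← pow_mul, ← pow_succ'] at hk'
    obtain ⟨i, -, hi⟩ := (Nat.dvd_prime_pow hp).mp (orderOf_dvd_of_pow_eq_one hk')
    exact ⟨i, hi⟩
  obtain ⟨k, hk⟩ := hfix u.1 huN hup y1 hy1N huy
  rw [hj] at hk
  have hd : r ∣ p ^ k := by
    rw [← hk]
    exact dvd_pow_self r hj0
  exact hrp ((Nat.prime_dvd_prime_iff_eq hr hp).mp (hr.dvd_of_dvd_pow hd))

/-- Order lemma: an element outside `N` commutes with no nontrivial element of `N` of coprime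
order. -/
theorem cam_coprime {G : Type*} [Group G] [Finite G] (N : Subgroup G)
    (hcam : ∀ g : G, g ∉ N → ∀ n ∈ N, ∃ x : G, x * g * x⁻¹ = g * n)
    (u y : G) (hu : u ∉ N) (hy : y ∈ N) (hc : u * y = y * u)
    (hcop : (orderOf u).Coprime (orderOf y)) : y = 1 := by
  obtain ⟨c, hc'⟩ := hcam u hu y hy
  have h1 : orderOf (u * y) = orderOf u * orderOf y :=
    Commute.orderOf_mul_eq_mul_orderOf_of_coprime (show Commute u y from hc) hcop
  have h2 : orderOf (u * y) = orderOf u := by
    rw [← hc']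
    have := (MulAut.conj c).orderOf_eq u
    rwa [MulAut.conj_apply] at this
  have hpos : 0 < orderOf u := orderOf_pos u
  have h3 : orderOf y = 1 := by
    rw [h2] at h1
    exact (Nat.eq_of_mul_eq_mul_left hpos (by rw [mul_one]; exact h1)).symm
  exact orderOf_eq_one_iff.mp h3

/-- A `p`-element outside `N` centralizes only `p`-elements of `N`. -/
theorem cam_ppow {G : Type*} [Group G] [Finite G] (p : ℕ) [Fact p.Prime] (N : Subgroup G)
    (hcam : ∀ g : G, g ∉ N → ∀ n ∈ N, ∃ x : G, x * g * x⁻¹ = g * n)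
    (u : G) (hu : u ∉ N) (hup : ∃ k : ℕ, orderOf u = p ^ k) (y : G) (hy : y ∈ N)
    (hc : u * y = y * u) : ∃ k : ℕ, orderOf y = p ^ k := by
  have hp : p.Prime := Fact.out
  obtain ⟨k, hk⟩ := hup
  obtain ⟨a, m, hm, hom⟩ := Nat.exists_eq_pow_mul_and_not_dvd (orderOf_pos y).ne' p hp.ne_one
  have hy' : y ^ p ^ a = 1 := by
    apply cam_coprime N hcam u (y ^ p ^ a) hu (N.pow_mem hy _)
    · exact ((show Commute u y from hc).pow_right _).eq
    · have ho : orderOf (y ^ p ^ a) = m := by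
        rw [orderOf_pow' y (pow_ne_zero _ hp.ne_zero), hom, Nat.gcd_eq_right (Dvd.intro _ rfl)]
        exact Nat.mul_div_cancel_left _ (pow_pos hp.pos _)
      rw [ho, hk]
      exact Nat.Coprime.pow_left _ ((Nat.Prime.coprime_iff_not_dvd hp).mpr hm)
  have hd : orderOf y ∣ p ^ a := orderOf_dvd_of_pow_eq_one hy'
  obtain ⟨j, _, hj⟩ := (Nat.dvd_prime_pow hp).mp hd
  exact ⟨j, hj⟩

/-- Lifting a `p`-element of a quotient to a `p`-element. -/
theorem lift_pelt {G : Type*} [Group G] [Finite G] (p : ℕ) [Fact p.Prime] (N : Subgroup G)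
    [N.Normal] (v : G ⧸ N) (hv1 : v ≠ 1) (hv : ∃ k : ℕ, orderOf v = p ^ k) :
    ∃ u : G, (QuotientGroup.mk u : G ⧸ N) = v ∧ ∃ a : ℕ, orderOf u = p ^ a := by
  have hp : p.Prime := Fact.out
  obtain ⟨k, hk⟩ := hv
  obtain ⟨u0, rfl⟩ := QuotientGroup.mk_surjective v
  obtain ⟨a, m, hm, hom⟩ := Nat.exists_eq_pow_mul_and_not_dvd (orderOf_pos u0).ne' p hp.ne_one
  have hk1 : 1 < p ^ k := by
    rcases Nat.eq_zero_or_pos k with h0 | h0
    · exfalso
      rw [h0, pow_zero, orderOf_eq_one_iff] at hk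
      exact hv1 hk
    · exact Nat.one_lt_pow h0.ne' hp.one_lt
  have hcop : Nat.Coprime m (p ^ k) :=
    Nat.Coprime.pow_right _ ((Nat.Prime.coprime_iff_not_dvd hp).mpr hm).symm
  obtain ⟨t, -, ht⟩ := Nat.exists_mul_mod_eq_one_of_coprime hcop hk1
  refine ⟨u0 ^ (m * t), ?_, ?_⟩
  · rw [QuotientGroup.mk_pow, ← pow_mod_orderOf, hk, ht, pow_one]
  · have h1 : (u0 ^ (m * t)) ^ p ^ a = 1 := by
      rw [← pow_mul, show m * t * p ^ a = (p ^ a * m) * t by ring, pow_mul, ← hom, pow_orderOf_eq_one,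
        one_pow]
    obtain ⟨j, _, hj⟩ := (Nat.dvd_prime_pow hp).mp (orderOf_dvd_of_pow_eq_one h1)
    exact ⟨j, hj⟩

/-- A `p`-element fixes a nontrivial element of a nontrivial normal `p`-subgroup. -/
theorem exists_fixed {G : Type*} [Group G] [Finite G] (p : ℕ) [Fact p.Prime] (P0 : Subgroup G)
    [P0.Normal] (hP0 : IsPGroup p P0) (hP0bot : P0 ≠ ⊥) (u : G) (hup : ∃ k : ℕ, orderOf u = p ^ k) :
    ∃ x ∈ P0, x ≠ 1 ∧ u * x = x * u := by
  classical
  let φ : (Subgroup.zpowers u) →* MulAut P0 :=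
    (MulAut.conjNormal (H := P0)).comp (Subgroup.zpowers u).subtype
  let _ : MulAction (Subgroup.zpowers u) P0 := MulAction.compHom P0 φ
  have hZ : IsPGroup p (Subgroup.zpowers u) := by
    obtain ⟨k, hk⟩ := hup
    rw [IsPGroup.iff_card]
    exact ⟨k, by rw [Nat.card_zpowers, hk]⟩
  have hcard : p ∣ Nat.card P0 := by
    obtain ⟨n, hn⟩ := IsPGroup.iff_card.mp hP0
    rcases Nat.eq_zero_or_pos n with h0 | h0
    · exfalso
      rw [h0, pow_zero] at hn
      exact hP0bot ((Subgroup.card_eq_one).mp hn)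
    · rw [hn]
      exact dvd_pow_self p h0.ne'
  have h1 : (1 : P0) ∈ MulAction.fixedPoints (Subgroup.zpowers u) P0 := by
    intro g
    show φ g 1 = 1
    exact map_one _
  obtain ⟨b, hb, hb1⟩ := hZ.exists_fixed_point_of_prime_dvd_card_of_fixed_point P0 hcard h1
  refine ⟨(b : G), b.2, fun h => hb1 (Subtype.ext h.symm), ?_⟩
  have h2 := hb ⟨u, Subgroup.mem_zpowers u⟩
  have h3 : φ ⟨u, Subgroup.mem_zpowers u⟩ b = b := h2
  have h4 : (u * (b : G) * u⁻¹) = (b : G) := by
    have := congrArg Subtype.val h3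
    simpa [φ] using this
  calc u * (b : G) = (u * (b : G) * u⁻¹) * u := by group
    _ = (b : G) * u := by rw [h4]

/-- Main step: a Camina pair `(G, N)` cannot have a normal Sylow `p`-subgroup `P0` of `N`,
`1 ≠ P0 ≠ N`, together with a `p`-element outside `N`. -/
theorem cam_main {G : Type*} [Group G] [Finite G] (p : ℕ) [Fact p.Prime] (N P0 : Subgroup G)
    [N.Normal] [P0.Normal]
    (hcam : ∀ g : G, g ∉ N → ∀ n ∈ N, ∃ x : G, x * g * x⁻¹ = g * n)
    (hP0N : P0 ≤ N) (hP0 : IsPGroup p P0) (hP0bot : P0 ≠ ⊥) (hcop : ¬ p ∣ P0.relIndex N)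
    (hne : P0 ≠ N) (g : G) (hg : g ∉ N) (hgp : ∃ k : ℕ, orderOf g = p ^ k) : False := by
  have hp : p.Prime := Fact.out
  have hfix : ∀ u : G, u ∉ N → (∃ k : ℕ, orderOf u = p ^ k) → ∀ y ∈ N, u * y = y * u →
      ∃ k : ℕ, orderOf y = p ^ k := fun u hu hup y hy hc => cam_ppow p N hcam u hu hup y hy hc
  -- `p` divides the order of the quotient
  have hpQ : p ∣ Nat.card (G ⧸ N) := by
    obtain ⟨k, hk⟩ := hgp
    have h1 : (QuotientGroup.mk g : G ⧸ N) ≠ 1 := by
      rw [Ne, QuotientGroup.eq_one_iff]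
      exact hg
    have h2 : orderOf (QuotientGroup.mk g : G ⧸ N) ∣ p ^ k := by
      apply orderOf_dvd_of_pow_eq_one
      rw [← QuotientGroup.mk_pow, ← hk, pow_orderOf_eq_one, QuotientGroup.mk_one]
    obtain ⟨j, _, hj⟩ := (Nat.dvd_prime_pow hp).mp h2
    have hj0 : j ≠ 0 := by
      rintro rfl
      rw [pow_zero, orderOf_eq_one_iff] at hj
      exact h1 hj
    calc p ∣ p ^ j := dvd_pow_self p hj0
      _ = orderOf (QuotientGroup.mk g : G ⧸ N) := hj.symm
      _ ∣ Nat.card (G ⧸ N) := orderOf_dvd_natCard _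
  have hkey : ∀ v : G ⧸ N, v ≠ 1 → (∃ k : ℕ, orderOf v = p ^ k) →
      p * orderOf v ∣ Nat.card (Subgroup.centralizer ({v} : Set (G ⧸ N))) := by
    intro v hv1 hv
    obtain ⟨u, rfl, hup⟩ := lift_pelt p N v hv1 hv
    have huN : u ∉ N := by
      intro h
      exact hv1 ((QuotientGroup.eq_one_iff u).mpr h)
    rw [← Cfsg.Agent.Lib.Helper1.Camina.cam_card N hcam u huN]
    obtain ⟨x, hxP, hx1, hxu⟩ := exists_fixed p P0 hP0 hP0bot u hup
    -- the restriction of the quotient map to the centralizer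
    let f : (Subgroup.centralizer ({u} : Set G)) →* G ⧸ N :=
      (QuotientGroup.mk' N).comp (Subgroup.centralizer ({u} : Set G)).subtype
    have hcard : Nat.card (Subgroup.centralizer ({u} : Set G)) =
        Nat.card f.range * Nat.card f.ker := by
      rw [Subgroup.card_eq_card_quotient_mul_card_subgroup f.ker]
      congr 1
      exact Nat.card_congr (QuotientGroup.quotientKerEquivRange f).toEquiv
    rw [hcard, mul_comm]
    apply Nat.mul_dvd_mul
    · -- order of v divides the range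
      have hmem : (QuotientGroup.mk u : G ⧸ N) ∈ f.range :=
        ⟨⟨u, Subgroup.mem_centralizer_iff.mpr (by
          intro h hh
          rw [Set.mem_singleton_iff] at hh
          rw [hh])⟩, rfl⟩
      exact Subgroup.orderOf_dvd_natCard _ hmem
    · -- p divides the kernel
      have hxc : x ∈ Subgroup.centralizer ({u} : Set G) := by
        rw [Subgroup.mem_centralizer_iff]
        intro h hh
        rw [Set.mem_singleton_iff] at hh
        rw [hh]
        exact hxu
      have hxk : (⟨x, hxc⟩ : Subgroup.centralizer ({u} : Set G)) ∈ f.ker := by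
        rw [MonoidHom.mem_ker]
        show (QuotientGroup.mk x : G ⧸ N) = 1
        exact (QuotientGroup.eq_one_iff x).mpr (hP0N hxP)
      have ho : p ∣ orderOf x := by
        obtain ⟨k, hk⟩ := hP0 ⟨x, hxP⟩
        have hk' : x ^ p ^ k = 1 := congrArg Subtype.val hk
        obtain ⟨j, _, hj⟩ := (Nat.dvd_prime_pow hp).mp (orderOf_dvd_of_pow_eq_one hk')
        have hj0 : j ≠ 0 := by
          rintro rfl
          rw [pow_zero, orderOf_eq_one_iff] at hj
          exact hx1 hj
        rw [hj]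
        exact dvd_pow_self p hj0
      have h5 : orderOf x ∣ Nat.card f.ker := by
        have := Subgroup.orderOf_dvd_natCard f.ker hxk
        rwa [Subgroup.orderOf_mk] at this
      exact ho.trans h5
  obtain ⟨z, e, hz, he, hc, hze⟩ := Cfsg.Agent.Lib.Helper24.exists_rank_two p hpQ hkey
  exact no_rank_two p N P0 hP0N hP0 hcop hne hfix z e hz he hc hze

/-- Let G be a finite group and N a proper non-trivial normal subgroup such that for every g outside N the conjugacy class of g is a union of cosets of N (equivalently gn is conjugate to g for every n ∈ N). Then either every element of G outside N acts fixed-point-freely on N (C_G(x) ≤ N for all x ∈ N, x ≠ 1, so G is a Frobenius group with kernel N), or N has prime-power order, or G/N has prime-power order. -/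
theorem result {G : Type*} [Group G] [Finite G] (N : Subgroup G) [N.Normal] (hN1 : N ≠ ⊥) (hN2 : N ≠ ⊤)
    (hcam : ∀ g : G, g ∉ N → ∀ n ∈ N, ∃ x : G, x * g * x⁻¹ = g * n) :
    (∀ x ∈ N, x ≠ 1 → Subgroup.centralizer ({x} : Set G) ≤ N) ∨ IsPrimePow (Nat.card N) ∨ IsPrimePow N.index := by

  classical
  by_contra hcon
  push Not at hcon
  obtain ⟨⟨x, hxN, hx1, hxc⟩, h2, h3⟩ := hcon
  obtain ⟨g, hgx, hgN⟩ := SetLike.not_le_iff_exists.mp hxc
  have hgx' : g * x = x * g := by
    have := Subgroup.mem_centralizer_iff.mp hgx x (Set.mem_singleton x)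
    exact this.symm
  -- a prime dividing the order of `x`
  have hox : orderOf x ≠ 1 := fun h => hx1 (orderOf_eq_one_iff.mp h)
  obtain ⟨p, hp, hpx⟩ := Nat.exists_prime_and_dvd hox
  have : Fact p.Prime := ⟨hp⟩
  -- an element of order `p` in `N` commuting with `g`
  obtain ⟨x', hx'N, hx'o, hx'g⟩ : ∃ x' ∈ N, orderOf x' = p ∧ g * x' = x' * g := by
    refine ⟨x ^ (orderOf x / p), N.pow_mem hxN _, orderOf_pow_orderOf_div (orderOf_pos x).ne' hpx,
      ((show Commute g x from hgx').pow_right _).eq⟩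
  have hx'1 : x' ≠ 1 := by
    intro h
    rw [h, orderOf_one] at hx'o
    exact hp.one_lt.ne hx'o
  -- a `p`-element outside `N` commuting with `x'`
  obtain ⟨u, huN, hup, hux⟩ : ∃ u : G, u ∉ N ∧ (∃ k : ℕ, orderOf u = p ^ k) ∧ u * x' = x' * u := by
    obtain ⟨a, m, hm, hom⟩ := Nat.exists_eq_pow_mul_and_not_dvd (orderOf_pos g).ne' p hp.ne_one
    have hcm : Nat.Coprime m p := ((Nat.Prime.coprime_iff_not_dvd hp).mpr hm).symm
    have h1 : g ^ p ^ a ∈ N := by
      by_contra hnot
      apply hx'1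
      apply cam_coprime N hcam (g ^ p ^ a) x' hnot hx'N
      · exact ((show Commute g x' from hx'g).pow_left _).eq
      · have ho : orderOf (g ^ p ^ a) = m := by
          rw [orderOf_pow' g (pow_ne_zero _ hp.ne_zero), hom, Nat.gcd_eq_right (Dvd.intro _ rfl)]
          exact Nat.mul_div_cancel_left _ (pow_pos hp.pos _)
        rw [ho, hx'o]
        exact hcm
    refine ⟨g ^ m, ?_, ?_, ((show Commute g x' from hx'g).pow_left _).eq⟩
    · intro h2'
      apply hgN
      rw [← QuotientGroup.eq_one_iff (N := N)]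
      have e1 : (QuotientGroup.mk g : G ⧸ N) ^ p ^ a = 1 := by
        rw [← QuotientGroup.mk_pow]
        exact (QuotientGroup.eq_one_iff _).mpr h1
      have e2 : (QuotientGroup.mk g : G ⧸ N) ^ m = 1 := by
        rw [← QuotientGroup.mk_pow]
        exact (QuotientGroup.eq_one_iff _).mpr h2'
      have d1 := orderOf_dvd_of_pow_eq_one e1
      have d2 := orderOf_dvd_of_pow_eq_one e2
      have d3 : orderOf (QuotientGroup.mk g : G ⧸ N) ∣ 1 := by
        have := Nat.dvd_gcd d1 d2
        rwa [Nat.Coprime.gcd_eq_one (Nat.Coprime.pow_left _ hcm.symm)] at this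
      exact orderOf_eq_one_iff.mp (Nat.dvd_one.mp d3)
    · refine ⟨a, ?_⟩
      have hm0 : m ≠ 0 := by
        intro h0
        exact hm (by rw [h0]; exact dvd_zero p)
      rw [orderOf_pow' g hm0, hom, Nat.gcd_eq_right (Dvd.intro_left _ rfl)]
      exact Nat.mul_div_cancel _ (Nat.pos_of_ne_zero hm0)
  -- the Sylow `p`-subgroup of `N`
  obtain ⟨P⟩ : Nonempty (Sylow p N) := inferInstance
  obtain ⟨P0, hP0def⟩ : ∃ P0 : Subgroup G, P0 = (P : Subgroup N).map N.subtype := ⟨_, rfl⟩
  have hP0N : P0 ≤ N := by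
    rw [hP0def]
    exact Subgroup.map_subtype_le _
  have hP0p : IsPGroup p P0 := by
    rw [hP0def]
    exact P.isPGroup'.map _
  have hpN : p ∣ Nat.card N := by
    have := Subgroup.orderOf_dvd_natCard N hx'N
    rwa [hx'o] at this
  have hP0card : Nat.card P0 = p ^ (Nat.card N).factorization p := by
    rw [hP0def, Subgroup.card_map_of_injective N.subtype_injective]
    exact P.card_eq_multiplicity
  have hfac : (Nat.card N).factorization p ≠ 0 := by
    intro h0
    rcases (Nat.factorization_eq_zero_iff _ _).mp h0 with h | h | h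
    · exact h hp
    · exact h hpN
    · exact Nat.card_pos.ne' h
  have hP0bot : P0 ≠ ⊥ := by
    intro h
    rw [h, Subgroup.card_bot] at hP0card
    have := Nat.one_lt_pow hfac hp.one_lt
    omega
  have hP0rel : ¬ p ∣ P0.relIndex N := by
    have h1 : P0.relIndex N = (P : Subgroup N).index := by
      rw [Subgroup.relIndex, hP0def]
      congr 1
      ext y
      simp [Subgroup.mem_subgroupOf]
    rw [h1]
    exact P.not_dvd_index
  obtain ⟨G1, hG1def⟩ : ∃ G1 : Subgroup G, G1 = Subgroup.normalizer (P0 : Set G) := ⟨_, rfl⟩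
  have hsup : G1 ⊔ N = ⊤ := by
    rw [hG1def, hP0def]
    exact Sylow.normalizer_sup_eq_top P
  obtain ⟨hsa, hsb⟩ := Cfsg.Agent.Lib.Helper1.Camina.cam_supp N hcam G1 hsup
  have hP0G1 : P0 ≤ G1 := by
    rw [hG1def]
    exact Subgroup.le_normalizer
  -- a conjugate of `u` inside `G1`
  obtain ⟨h, hhG1, hhN, hhp⟩ : ∃ h ∈ G1, h ∉ N ∧ ∃ k : ℕ, orderOf h = p ^ k := by
    have hu' : u ∈ ((G1 ⊔ N : Subgroup G) : Set G) := by
      rw [hsup]
      exact Set.mem_univ _
    rw [Subgroup.mul_normal] at hu'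
    obtain ⟨a, ha, n, hn, han⟩ := Set.mem_mul.mp hu'
    have ha' : a = u * n⁻¹ := by
      rw [← han]
      group
    obtain ⟨c, hc⟩ := hcam u huN n⁻¹ (N.inv_mem hn)
    refine ⟨a, ha, ?_, ?_⟩
    · intro haN
      apply huN
      rw [← han]
      exact N.mul_mem haN hn
    · obtain ⟨k, hk⟩ := hup
      refine ⟨k, ?_⟩
      rw [ha', ← hc, ← hk]
      have := (MulAut.conj c).orderOf_eq u
      rwa [MulAut.conj_apply] at this
  by_cases hN1 : N ⊓ G1 = P0
  · -- Thompson
    have hidx1 : N.index ≠ 1 := fun h => hN2 (Subgroup.index_eq_one.mp h)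
    have hidx0 : N.index ≠ 0 := Subgroup.index_ne_zero_of_finite
    obtain ⟨q, hq, hqd, hqp⟩ : ∃ q : ℕ, q.Prime ∧ q ∣ N.index ∧ q ≠ p := by
      by_contra hall
      push Not at hall
      have h4 := Nat.eq_prime_pow_of_unique_prime_dvd hidx0 (fun {d} hd hdd => hall d hd hdd)
      apply h3
      rw [h4]
      refine (isPrimePow_pow_iff ?_).mpr hp.isPrimePow
      intro h0
      rw [h0, pow_zero] at h4
      exact hidx1 h4
    have : Fact q.Prime := ⟨hq⟩
    have hqG1 : q ∣ Nat.card G1 := by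
      have h5 : N.index = (N.subgroupOf G1).index := by
        rw [← Subgroup.relIndex_top_right, ← hsup, Subgroup.relIndex_sup_right]
        rfl
      rw [h5] at hqd
      exact hqd.trans (Subgroup.index_dvd_card _)
    obtain ⟨h', hh'o⟩ := exists_prime_orderOf_dvd_card' q hqG1
    have hh'o' : orderOf (h' : G) = q := by rw [Subgroup.orderOf_coe]; exact hh'o
    have hh'N : (h' : G) ∉ N := by
      intro hmem
      have hmem' : (h' : G) ∈ P0 := by
        rw [← hN1]
        exact ⟨hmem, h'.2⟩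
      obtain ⟨k, hk⟩ := hP0p ⟨(h' : G), hmem'⟩
      have hk' : (h' : G) ^ p ^ k = 1 := congrArg Subtype.val hk
      have hd := orderOf_dvd_of_pow_eq_one hk'
      rw [hh'o'] at hd
      exact hqp ((Nat.prime_dvd_prime_iff_eq hq hp).mp (hq.dvd_of_dvd_pow hd))
    have hfpf : ∀ y ∈ N, (h' : G) * y = y * (h' : G) → y = 1 := by
      intro y hy hyc
      have hyc' : y ∈ Subgroup.centralizer ({(h' : G)} : Set G) := by
        rw [Subgroup.mem_centralizer_iff]
        intro b hb
        rw [Set.mem_singleton_iff] at hb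
        rw [hb]
        exact hyc
      have hyG1 : y ∈ G1 := hsa (h' : G) h'.2 hh'N hyc'
      have hyP0 : y ∈ P0 := by
        rw [← hN1]
        exact ⟨hy, hyG1⟩
      obtain ⟨k, hk⟩ := hP0p ⟨y, hyP0⟩
      have hk' : y ^ p ^ k = 1 := congrArg Subtype.val hk
      have hd := orderOf_dvd_of_pow_eq_one hk'
      apply cam_coprime N hcam (h' : G) y hh'N hy hyc
      rw [hh'o']
      exact Nat.Coprime.coprime_dvd_right hd
        (Nat.Coprime.pow_right _ ((Nat.coprime_primes hq hp).mpr hqp))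
    -- the automorphism of `N` induced by `h'`
    let φ : N ≃* N := MulAut.conjNormal (h' : G)
    have hφ : MonoidHom.FixedPointFree (φ : N →* N) := by
      intro y hy
      have hy' : (h' : G) * (y : G) * (h' : G)⁻¹ = (y : G) := by
        have := congrArg Subtype.val hy
        simpa [φ] using this
      have hyc : (h' : G) * (y : G) = (y : G) * (h' : G) := by
        calc (h' : G) * (y : G) = ((h' : G) * (y : G) * (h' : G)⁻¹) * (h' : G) := by group
          _ = (y : G) * (h' : G) := by rw [hy']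
      exact Subtype.ext (hfpf (y : G) y.2 hyc)
    have hφq : φ ^ q = 1 := by
      show (MulAut.conjNormal (h' : G) : MulAut N) ^ q = 1
      rw [← map_pow, ← hh'o', pow_orderOf_eq_one, map_one]
    have hφ1 : φ ≠ 1 := by
      intro h1
      have h6 : φ ⟨x', hx'N⟩ = ⟨x', hx'N⟩ := by rw [h1]; rfl
      have := hφ ⟨x', hx'N⟩ h6
      exact hx'1 (congrArg Subtype.val this)
    have hord : orderOf φ = q := orderOf_eq_prime hφq hφ1
    have hnil : Group.IsNilpotent N := Cfsg.Agent.S0033.result φ hφ q hq hord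
    have hall : ∀ (p' : ℕ) (_ : Fact p'.Prime) (P' : Sylow p' N), (P' : Subgroup N).Normal :=
      ((Group.isNilpotent_of_finite_tfae (G := N)).out 0 3).mp hnil
    have hPn : ((P : Subgroup N)).Normal := hall p inferInstance P
    have hNG1 : N ≤ G1 := by
      intro n hn
      rw [hG1def, Subgroup.mem_normalizer_iff]
      intro y
      rw [hP0def]
      constructor
      · rintro ⟨y', hy', rfl⟩
        refine ⟨⟨n, hn⟩ * y' * ⟨n, hn⟩⁻¹, hPn.conj_mem y' hy' ⟨n, hn⟩, rfl⟩
      · rintro ⟨w, hw, hwe⟩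
        have hyN : y ∈ N := by
          have h7 : n * y * n⁻¹ ∈ N := by rw [← hwe]; exact w.2
          have h8 : y = n⁻¹ * (n * y * n⁻¹) * n := by group
          rw [h8]
          exact N.mul_mem (N.mul_mem (N.inv_mem hn) h7) hn
        refine ⟨⟨y, hyN⟩, ?_, rfl⟩
        have h9 : (⟨y, hyN⟩ : N) = ⟨n, hn⟩⁻¹ * w * ⟨n, hn⟩⁻¹⁻¹ := by
          apply Subtype.ext
          show y = n⁻¹ * (w : G) * n⁻¹⁻¹
          have hwe' : (w : G) = n * y * n⁻¹ := hwe
          rw [hwe']
          group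
        rw [h9]
        exact hPn.conj_mem w hw _
    apply h2
    have hNP0 : N = P0 := by
      rw [← hN1]
      exact (inf_of_le_left hNG1).symm
    rw [hNP0, hP0card]
    exact (isPrimePow_pow_iff hfac).mpr hp.isPrimePow
  · -- the main step inside `G1`
    have : (P0.subgroupOf G1).Normal := by
      rw [hG1def]
      exact Subgroup.normal_in_normalizer
    refine cam_main (G := G1) p (N.subgroupOf G1) (P0.subgroupOf G1) ?_ ?_ ?_ ?_ ?_ ?_ ⟨h, hhG1⟩ ?_ ?_
    · intro g' hg' n' hn'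
      rw [Subgroup.mem_subgroupOf] at hg' hn'
      obtain ⟨c, hcG1, hc⟩ := hsb (g' : G) g'.2 hg' (n' : G) hn' n'.2
      exact ⟨⟨c, hcG1⟩, Subtype.ext hc⟩
    · intro y hy
      rw [Subgroup.mem_subgroupOf] at hy ⊢
      exact hP0N hy
    · exact hP0p.comap_subtype
    · intro hbot
      obtain ⟨y, hy1⟩ := (Subgroup.ne_bot_iff_exists_ne_one).mp hP0bot
      have hmem : (⟨(y : G), hP0G1 y.2⟩ : G1) ∈ P0.subgroupOf G1 := by
        rw [Subgroup.mem_subgroupOf]
        exact y.2
      rw [hbot, Subgroup.mem_bot] at hmem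
      exact hy1 (Subtype.ext (by simpa using congrArg Subtype.val hmem))
    · have h5 : (P0.subgroupOf G1).relIndex (N.subgroupOf G1) = P0.relIndex (N ⊓ G1) := by
        rw [← Subgroup.inf_subgroupOf_right N G1]
        exact Subgroup.relIndex_subgroupOf inf_le_right
      rw [h5]
      intro hdvd
      apply hP0rel
      have h6 := Subgroup.relIndex_mul_relIndex P0 (N ⊓ G1) N (le_inf hP0N hP0G1)
        (inf_le_left : N ⊓ G1 ≤ N)
      rw [← h6]
      exact Dvd.dvd.mul_right hdvd _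
    · intro heq
      apply hN1
      apply le_antisymm
      · intro y hy
        have hmem : (⟨y, hy.2⟩ : G1) ∈ N.subgroupOf G1 := by
          rw [Subgroup.mem_subgroupOf]
          exact hy.1
        rw [← heq, Subgroup.mem_subgroupOf] at hmem
        exact hmem
      · exact le_inf hP0N hP0G1
    · rw [Subgroup.mem_subgroupOf]
      exact hhN
    · obtain ⟨k, hk⟩ := hhp
      exact ⟨k, by rw [Subgroup.orderOf_mk]; exact hk⟩

end Cfsg.Agent.S4140
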