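import Cfsg.Statements.S4155
import Mathlib
import Cfsg.Agent.S4107
import Cfsg.Agent.S4127
import Cfsg.Agent.Lib.Helper24.Fitting
import Cfsg.Agent.Lib.Lead.FrobComplement

set_option autoImplicit false
open Cfsg

namespace Cfsg.Agent.S4155


open Cfsg.Agent.Lib.Lead in
theorem part2 {G : Type*} [Group G] [Finite G] (N : Subgroup G) [N.Normal]
    (heq : ∀ x : G, x ∉ N → ∀ n ∈ N, orderOf (x * n) = orderOf x)
    (hnil : Group.IsNilpotent N) (q r : ℕ) [hq : Fact q.Prime] [hr : Fact r.Prime] (hrq : r ≠ q)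
    (hrd : r ∣ Nat.card N) (Q : Sylow q (G ⧸ N)) : UniqP q (Q : Subgroup (G ⧸ N)) := by
  classical
  obtain ⟨Nq, hNqn, hNqN, hNqp, hNqi⟩ :=
    Cfsg.Agent.Lib.Helper24.exists_normal_sylow_of_nilpotent N hnil q
  obtain ⟨R, hRn, hRN, hRp, hRi⟩ :=
    Cfsg.Agent.Lib.Helper24.exists_normal_sylow_of_nilpotent N hnil r
  have hR1 : R ≠ ⊥ := by
    intro h
    rw [h, Subgroup.relIndex_bot_left] at hRi
    exact hRi hrd
  have hRNq : R ⊓ Nq = ⊥ :=
    disjoint_iff.mp (IsPGroup.disjoint_of_ne r q hrq R Nq hRp hNqp)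
  -- q-elements of N lie in Nq
  have hqel : ∀ (x : G) (k : ℕ), x ∈ N → x ^ (q ^ k) ∈ Nq → x ∈ Nq := by
    intro x k hx hxk
    have h1 : (⟨x, hx⟩ : N) ^ (Nq.subgroupOf N).index ∈ Nq.subgroupOf N := by
      have : (Nq.subgroupOf N).Normal := hNqn.subgroupOf _
      exact Subgroup.pow_index_mem _ _
    have h2 : x ^ (Nq.relIndex N) ∈ Nq := by
      have := Subgroup.mem_subgroupOf.1 h1
      simpa [Subgroup.relIndex] using this
    have hcop : (q ^ k).Coprime (Nq.relIndex N) := by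
      apply Nat.Coprime.pow_left
      exact (Nat.Prime.coprime_iff_not_dvd hq.out).2 hNqi
    exact Cfsg.Agent.S4127.mem_of_pow_mem_of_coprime Nq x _ _ hcop hxk h2
  -- fixed-point-freeness
  have hF : ∀ (x : G) (m : ℕ), x ∉ N → x ^ (q ^ m) = 1 → ∀ y ∈ R, x * y = y * x → y = 1 := by
    intro x m hx hxm y hy hxy
    have h1 : orderOf (x * y) = orderOf x := heq x hx y (hRN hy)
    have h2 : (x * y) ^ (q ^ m) = 1 := by
      apply orderOf_dvd_iff_pow_eq_one.mp
      rw [h1]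
      exact orderOf_dvd_of_pow_eq_one hxm
    have hc : Commute x y := hxy
    rw [hc.mul_pow, hxm, one_mul] at h2
    obtain ⟨j, hj⟩ := hRp ⟨y, hy⟩
    have hj' : y ^ (r ^ j) = 1 := congrArg Subtype.val hj
    have h3 : orderOf y ∣ Nat.gcd (q ^ m) (r ^ j) :=
      Nat.dvd_gcd (orderOf_dvd_of_pow_eq_one h2) (orderOf_dvd_of_pow_eq_one hj')
    have h4 : Nat.gcd (q ^ m) (r ^ j) = 1 := by
      apply Nat.Coprime.pow
      exact (Nat.coprime_primes hq.out hr.out).mpr (Ne.symm hrq)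
    rw [h4, Nat.dvd_one, orderOf_eq_one_iff] at h3
    exact h3
  let π : G ⧸ Nq →* G ⧸ N := QuotientGroup.map Nq N (MonoidHom.id G) (by
    intro x hx
    exact hNqN hx)
  have hπ : Function.Surjective π := by
    intro y
    obtain ⟨x, rfl⟩ := QuotientGroup.mk_surjective y
    exact ⟨(x : G ⧸ Nq), rfl⟩
  obtain ⟨T, hT⟩ := Sylow.mapSurjective_surjective hπ q Q
  have hQT : (T : Subgroup (G ⧸ Nq)).map π = (Q : Subgroup (G ⧸ N)) := by
    rw [← hT]
    rfl
  -- elements of T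
  have hTel : ∀ x : G, (x : G ⧸ Nq) ∈ (T : Subgroup (G ⧸ Nq)) → ∃ k : ℕ, x ^ (q ^ k) ∈ Nq := by
    intro x hx
    obtain ⟨k, hk⟩ := T.isPGroup' ⟨(x : G ⧸ Nq), hx⟩
    have hk' : (x : G ⧸ Nq) ^ (q ^ k) = 1 := congrArg Subtype.val hk
    refine ⟨k, ?_⟩
    rw [← QuotientGroup.mk_pow, QuotientGroup.eq_one_iff] at hk'
    exact hk'
  let K : Subgroup (G ⧸ Nq) := R.map (QuotientGroup.mk' Nq)
  haveI hKn : K.Normal := Subgroup.Normal.map hRn (QuotientGroup.mk' Nq) (QuotientGroup.mk'_surjective Nq)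
  have hK1 : K ≠ ⊥ := by
    intro hK
    apply hR1
    rw [Subgroup.eq_bot_iff_forall]
    intro y hy
    have h1 : (y : G ⧸ Nq) ∈ K := ⟨y, hy, rfl⟩
    rw [hK, Subgroup.mem_bot, QuotientGroup.eq_one_iff] at h1
    have h2 : y ∈ R ⊓ Nq := ⟨hy, h1⟩
    rw [hRNq, Subgroup.mem_bot] at h2
    exact h2
  have hfpf : ∀ h ∈ (T : Subgroup (G ⧸ Nq)), h ≠ 1 → K ⊓ Subgroup.centralizer {h} = ⊥ := by
    intro h hhT hh1
    obtain ⟨x, rfl⟩ := QuotientGroup.mk_surjective h
    obtain ⟨k, hk⟩ := hTel x hhT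
    have hxN : x ∉ N := by
      intro hxN
      apply hh1
      rw [QuotientGroup.eq_one_iff]
      exact hqel x k hxN hk
    obtain ⟨j, hj⟩ := hNqp ⟨x ^ (q ^ k), hk⟩
    have hj' : (x ^ (q ^ k)) ^ (q ^ j) = 1 := congrArg Subtype.val hj
    rw [← pow_mul, ← pow_add] at hj'
    rw [Subgroup.eq_bot_iff_forall]
    rintro z ⟨hzK, hzC⟩
    obtain ⟨y, hy, rfl⟩ := hzK
    have h1 := Subgroup.mem_centralizer_iff.mp hzC (x : G ⧸ Nq) rfl
    have h2 : ((x * y : G) : G ⧸ Nq) = ((y * x : G) : G ⧸ Nq) := h1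
    rw [QuotientGroup.eq] at h2
    have h3 : (x * y)⁻¹ * (y * x) ∈ R := by
      have h4 : (x * y)⁻¹ * (y * x) = y⁻¹ * (x⁻¹ * y * x⁻¹⁻¹) := by group
      rw [h4]
      exact R.mul_mem (R.inv_mem hy) (hRn.conj_mem y hy x⁻¹)
    have h5 : (x * y)⁻¹ * (y * x) ∈ R ⊓ Nq := ⟨h3, h2⟩
    rw [hRNq, Subgroup.mem_bot] at h5
    have h6 : x * y = y * x := by
      have := inv_mul_eq_one.mp h5
      exact this
    have h7 := hF x (k + j) hxN hj' y hy h6
    rw [h7]
    rfl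
  have hU : UniqP q (T : Subgroup (G ⧸ Nq)) := fpf_pgroup_uniq K hK1 q T T.isPGroup' hfpf
  have hinj : Function.Injective (π.subgroupMap (T : Subgroup (G ⧸ Nq))) := by
    rw [injective_iff_map_eq_one]
    intro t ht
    have h1 : π (t : G ⧸ Nq) = 1 := congrArg Subtype.val ht
    obtain ⟨x, hx⟩ := QuotientGroup.mk_surjective (t : G ⧸ Nq)
    have htT : (x : G ⧸ Nq) ∈ (T : Subgroup (G ⧸ Nq)) := by
      rw [hx]
      exact t.2
    obtain ⟨k, hk⟩ := hTel x htT
    rw [← hx] at h1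
    have h2 : ((x : G) : G ⧸ N) = 1 := h1
    rw [QuotientGroup.eq_one_iff] at h2
    have h3 := hqel x k h2 hk
    apply Subtype.ext
    rw [← hx]
    exact (QuotientGroup.eq_one_iff x).mpr h3
  let e0 : (T : Subgroup (G ⧸ Nq)) ≃* ((T : Subgroup (G ⧸ Nq)).map π) :=
    MulEquiv.ofBijective (π.subgroupMap (T : Subgroup (G ⧸ Nq)))
      ⟨hinj, π.subgroupMap_surjective (T : Subgroup (G ⧸ Nq))⟩
  exact uniqP_of_mulEquiv (e0.trans (MulEquiv.subgroupCongr hQT)) hU

/-- Let G be a finite group and N a proper non-trivial normal nilpotent subgroup whose order is not a prime power, such that for every x outside N all elements of the coset xN have the same order as x. Then N is the Fitting subgroup of G, and for every prime q every Sylow q-subgroup of G/N is cyclic or generalized quaternion. -/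
theorem result {G : Type*} [Group G] [Finite G] (N : Subgroup G) [N.Normal] (hN1 : N ≠ ⊥) (hN2 : N ≠ ⊤)
    (heq : ∀ x : G, x ∉ N → ∀ n ∈ N, orderOf (x * n) = orderOf x)
    (hnil : Group.IsNilpotent N) (hnpp : ¬ IsPrimePow (Nat.card N)) :
    N = Cfsg.fittingSubgroup G ∧
    ∀ (q : ℕ) [Fact q.Prime] (Q : Sylow q (G ⧸ N)), IsCyclic (Q : Subgroup (G ⧸ N)) ∨ ∃ n : ℕ, Nonempty ((Q : Subgroup (G ⧸ N)) ≃* QuaternionGroup (2 ^ n)) := by
  classical
  have hNF : N ≤ Cfsg.fittingSubgroup G := Cfsg.Agent.Lib.Helper24.le_fitting N inferInstance hnil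
  have h1 := Cfsg.Agent.S4107.result N hN1 hN2 heq
  have hNcard : Nat.card N ≠ 1 := by
    intro h
    exact hN1 (Subgroup.card_eq_one.mp h)
  have hpart1 : N = Cfsg.fittingSubgroup G := by
    by_contra hne
    have hlt : N < Cfsg.fittingSubgroup G := lt_of_le_of_ne hNF hne
    have hpp := h1.2 hlt
    apply hnpp
    obtain ⟨p, k, hp, hk, hpk⟩ := hpp
    have hdvd : Nat.card N ∣ p ^ k := by
      rw [hpk]
      exact Subgroup.card_dvd_of_le hNF
    obtain ⟨j, hj, hNj⟩ := (Nat.dvd_prime_pow hp.nat_prime).mp hdvd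
    refine ⟨p, j, hp, ?_, hNj.symm⟩
    rcases Nat.eq_zero_or_pos j with h0 | h0
    · rw [h0, pow_zero] at hNj
      exact absurd hNj hNcard
    · exact h0
  refine ⟨hpart1, ?_⟩
  intro q hq Q
  have hr : ∃ r : ℕ, r.Prime ∧ r ∣ Nat.card N ∧ r ≠ q := by
    by_contra hcon
    push Not at hcon
    apply hnpp
    have hc : Nat.card N = q ^ (Nat.card N).primeFactorsList.length :=
      Nat.eq_prime_pow_of_unique_prime_dvd Nat.card_pos.ne' (fun {d} hd hdd => hcon d hd hdd)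
    refine ⟨q, (Nat.card N).primeFactorsList.length, hq.out.prime, ?_, hc.symm⟩
    rcases Nat.eq_zero_or_pos (Nat.card N).primeFactorsList.length with h0 | h0
    · rw [h0, pow_zero] at hc
      exact absurd hc hNcard
    · exact h0
  obtain ⟨r, hrp, hrd, hrq⟩ := hr
  haveI : Fact r.Prime := ⟨hrp⟩
  have hU := part2 N heq hnil q r hrq hrd Q
  rcases Cfsg.Agent.Lib.Lead.uniqP_cyclic_or_quaternion q Q.isPGroup' hU with h | ⟨_, h⟩
  · exact Or.inl h
  · exact Or.inr h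

end Cfsg.Agent.S4155
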