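import Cfsg.Statements.S4172
import Cfsg.Agent.Lib.Helper21.TwoGen
import Cfsg.Agent.Lib.Helper21.Basic
import Cfsg.Agent.Lib.Helper21.SelfCent2
import Cfsg.Agent.Lib.Helper1.Cores
import Cfsg.Agent.Lib.Helper18.Frattini
import Cfsg.Agent.Lib.Helper11.Components
import Cfsg.Agent.Lib.Helper11.Bender
import Cfsg.Agent.Lib.Helper20.SolvCore
import Cfsg.Agent.S0081

set_option autoImplicit false
open Cfsg

namespace Cfsg.Agent.S4172

open Cfsg.Agent.Lib.Helper21

set_option linter.style.haveILetI false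

/-- a nontrivial normal subgroup meets `P` outside the Frattini subgroup of `P` -/
theorem key1 {G : Type*} [Group G] [Finite G] (p : ℕ) [Fact p.Prime] (P : Sylow p G)
    (hcore : Cfsg.pPrimeCore p G = ⊥)
    (hfrat : ((frattini ↥(P : Subgroup G)).map (P : Subgroup G).subtype).normalCore = ⊥)
    (K : Subgroup G) (hK : K.Normal) (hK1 : K ≠ ⊥) :
    ¬ (K ⊓ (P : Subgroup G) ≤ (frattini ↥(P : Subgroup G)).map (P : Subgroup G).subtype) := by
  intro hle
  have hp : p.Prime := Fact.out
  haveI := hK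
  obtain ⟨Q, Y, hYn, hc⟩ := Cfsg.Agent.S0081.result P K hle
  haveI := hYn
  have hcop : (Nat.card Y).Coprime p := by
    have h1 := hc.index_eq_card
    rw [← h1]
    exact ((Nat.Prime.coprime_iff_not_dvd hp).mpr Q.not_dvd_index).symm
  have h2 := sc_le_pPrimeCore_of_normal_in_normal p K Y hcop
  rw [hcore, le_bot_iff] at h2
  have hY : Y = ⊥ := (Subgroup.map_eq_bot_iff_of_injective Y K.subtype_injective).mp h2
  rw [hY] at hc
  have hQ : (Q : Subgroup ↥K) = ⊤ := Subgroup.isComplement'_bot_left.mp hc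
  have hKp : IsPGroup p ↥K := by
    intro g
    obtain ⟨k, hk⟩ := Q.2 ⟨g, hQ ▸ Subgroup.mem_top g⟩
    exact ⟨k, congrArg Subtype.val hk⟩
  have hKP : K ≤ (P : Subgroup G) := Cfsg.Agent.Lib.Helper1.normal_pgroup_le_sylow hK hKp P
  have h3 : K ≤ (frattini ↥(P : Subgroup G)).map (P : Subgroup G).subtype := by
    intro x hx; exact hle ⟨hx, hKP hx⟩
  have h4 : K ≤ ((frattini ↥(P : Subgroup G)).map (P : Subgroup G).subtype).normalCore :=
    Subgroup.normal_le_normalCore.mpr h3
  rw [hfrat, le_bot_iff] at h4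
  exact hK1 h4

/-- Tate in the normalizer: a perfect subgroup normalized by `P` and meeting `P` inside the Frattini
subgroup has order prime to `p`. -/
theorem coprime_of_perfect {G : Type*} [Group G] [Finite G] (p : ℕ) [Fact p.Prime] (P : Sylow p G)
    (M : Subgroup G) (hPM : (P : Subgroup G) ≤ Subgroup.normalizer (M : Set G))
    (hM : M ⊓ (P : Subgroup G) ≤ (frattini ↥(P : Subgroup G)).map (P : Subgroup G).subtype)
    (hperf : ⁅M, M⁆ = M) : (Nat.card M).Coprime p := by
  have hp : p.Prime := Fact.out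
  have hle : (M.subgroupOf (Subgroup.normalizer (M : Set G))) ⊓
      ((P.subtype hPM : Sylow p ↥(Subgroup.normalizer (M : Set G))) :
        Subgroup ↥(Subgroup.normalizer (M : Set G))) ≤
      (frattini ↥((P.subtype hPM : Sylow p ↥(Subgroup.normalizer (M : Set G))) :
        Subgroup ↥(Subgroup.normalizer (M : Set G)))).map
        ((P.subtype hPM : Sylow p ↥(Subgroup.normalizer (M : Set G))) :
          Subgroup ↥(Subgroup.normalizer (M : Set G))).subtype := by
    intro x hx
    have hxM : (x : G) ∈ M := Subgroup.mem_subgroupOf.mp hx.1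
    have hxP : (x : G) ∈ (P : Subgroup G) := Subgroup.mem_subgroupOf.mp hx.2
    obtain ⟨y, hy, hyx⟩ := hM ⟨hxM, hxP⟩
    have h1 := Cfsg.Agent.Lib.Helper18.frattini_map_equiv (Subgroup.subgroupOfEquivOfLe hPM).symm
    have h2 : (Subgroup.subgroupOfEquivOfLe hPM).symm y ∈
        frattini ↥((P : Subgroup G).subgroupOf (Subgroup.normalizer (M : Set G))) := by
      rw [← h1]; exact Subgroup.mem_map_of_mem _ hy
    refine ⟨(Subgroup.subgroupOfEquivOfLe hPM).symm y, h2, ?_⟩
    apply Subtype.ext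
    exact hyx
  obtain ⟨Q, Y, hYn, hc⟩ := Cfsg.Agent.S0081.result (P.subtype hPM)
    (M.subgroupOf (Subgroup.normalizer (M : Set G))) hle
  haveI := hYn
  have hperfM : commutator ↥M = ⊤ := by
    apply Subgroup.map_injective M.subtype_injective
    rw [Subgroup.map_subtype_commutator, hperf, ← MonoidHom.range_eq_map, Subgroup.range_subtype]
  have hperf' : commutator ↥(M.subgroupOf (Subgroup.normalizer (M : Set G))) = ⊤ := by
    have h1 : (commutator ↥(M.subgroupOf (Subgroup.normalizer (M : Set G)))).map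
        (Subgroup.subgroupOfEquivOfLe
          (Subgroup.le_normalizer : M ≤ Subgroup.normalizer (M : Set G))).toMonoidHom = ⊤ := by
      rw [commutator_def, Subgroup.map_commutator,
        Subgroup.map_top_of_surjective _ (MulEquiv.surjective _), ← commutator_def, hperfM]
    have h2 : (⊤ : Subgroup ↥(M.subgroupOf (Subgroup.normalizer (M : Set G)))).map
        (Subgroup.subgroupOfEquivOfLe
          (Subgroup.le_normalizer : M ≤ Subgroup.normalizer (M : Set G))).toMonoidHom = ⊤ :=
      Subgroup.map_top_of_surjective _ (MulEquiv.surjective _)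
    exact Subgroup.map_injective (MulEquiv.injective _) (h1.trans h2.symm)
  have hQcard : Nat.card (↥(M.subgroupOf (Subgroup.normalizer (M : Set G))) ⧸ Y) =
      Nat.card (Q : Subgroup ↥(M.subgroupOf (Subgroup.normalizer (M : Set G)))) := by
    rw [← Subgroup.index_eq_card]; exact hc.symm.index_eq_card
  have hpg : IsPGroup p (↥(M.subgroupOf (Subgroup.normalizer (M : Set G))) ⧸ Y) := by
    obtain ⟨n, hn⟩ := IsPGroup.iff_card.mp Q.2
    exact IsPGroup.of_card (hQcard.trans hn)
  have hsub : Subsingleton (↥(M.subgroupOf (Subgroup.normalizer (M : Set G))) ⧸ Y) := by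
    by_contra hns
    rw [not_subsingleton_iff_nontrivial] at hns
    haveI := hns
    haveI : Group.IsNilpotent (↥(M.subgroupOf (Subgroup.normalizer (M : Set G))) ⧸ Y) :=
      hpg.isNilpotent
    have h1 := Group.IsSolvable.commutator_lt_top_of_nontrivial
      (↥(M.subgroupOf (Subgroup.normalizer (M : Set G))) ⧸ Y)
    have h2 : commutator (↥(M.subgroupOf (Subgroup.normalizer (M : Set G))) ⧸ Y) = ⊤ := by
      rw [commutator_def, ← Subgroup.map_top_of_surjective (QuotientGroup.mk' Y)
        (QuotientGroup.mk'_surjective Y), ← Subgroup.map_commutator, ← commutator_def, hperf',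
        Subgroup.map_top_of_surjective _ (QuotientGroup.mk'_surjective Y)]
    rw [h2] at h1
    exact lt_irrefl _ h1
  have hcard1 : Nat.card (Q : Subgroup ↥(M.subgroupOf (Subgroup.normalizer (M : Set G)))) = 1 := by
    rw [← hQcard]; exact Nat.card_unique
  have h3 := Subgroup.card_mul_index
    (Q : Subgroup ↥(M.subgroupOf (Subgroup.normalizer (M : Set G))))
  rw [hcard1, one_mul] at h3
  have h4 : ¬ p ∣ Nat.card ↥(M.subgroupOf (Subgroup.normalizer (M : Set G))) := by
    rw [← h3]; exact Q.not_dvd_index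
  have h5 : Nat.card ↥(M.subgroupOf (Subgroup.normalizer (M : Set G))) = Nat.card M :=
    Nat.card_congr (Subgroup.subgroupOfEquivOfLe
      (Subgroup.le_normalizer : M ≤ Subgroup.normalizer (M : Set G))).toEquiv
  rw [h5] at h4
  exact ((Nat.Prime.coprime_iff_not_dvd hp).mpr h4).symm

/-- two `P`-invariant perfect subgroups of order divisible by `p` meet nontrivially -/
theorem split_false {G : Type*} [Group G] [Finite G] (p : ℕ) [Fact p.Prime] (P : Sylow p G)
    (hna : ¬ ∀ a b : ↥(P : Subgroup G), a * b = b * a)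
    (hgen : (frattini ↥(P : Subgroup G)).index = p ^ 2)
    (N₁ N₂ : Subgroup G) (h1 : (P : Subgroup G) ≤ Subgroup.normalizer (N₁ : Set G))
    (h2 : (P : Subgroup G) ≤ Subgroup.normalizer (N₂ : Set G)) (hinf : N₁ ⊓ N₂ = ⊥)
    (hp1 : ⁅N₁, N₁⁆ = N₁) (hp2 : ⁅N₂, N₂⁆ = N₂)
    (hc1 : ¬ (Nat.card N₁).Coprime p) (hc2 : ¬ (Nat.card N₂).Coprime p) : False := by
  apply hna
  haveI : (N₁.subgroupOf (P : Subgroup G)).Normal := Subgroup.normal_subgroupOf_of_le_normalizer h1
  haveI : (N₂.subgroupOf (P : Subgroup G)).Normal := Subgroup.normal_subgroupOf_of_le_normalizer h2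
  apply comm_of_two_normal hgen (N₁.subgroupOf (P : Subgroup G)) (N₂.subgroupOf (P : Subgroup G))
  · intro hle
    apply hc1
    apply coprime_of_perfect p P N₁ h1 _ hp1
    intro x hx
    exact ⟨⟨x, hx.2⟩, hle (Subgroup.mem_subgroupOf.mpr hx.1), rfl⟩
  · intro hle
    apply hc2
    apply coprime_of_perfect p P N₂ h2 _ hp2
    intro x hx
    exact ⟨⟨x, hx.2⟩, hle (Subgroup.mem_subgroupOf.mpr hx.1), rfl⟩
  · rw [eq_bot_iff]
    intro x hx
    have : (x : G) ∈ N₁ ⊓ N₂ := ⟨Subgroup.mem_subgroupOf.mp hx.1, Subgroup.mem_subgroupOf.mp hx.2⟩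
    rw [hinf, Subgroup.mem_bot] at this
    exact Subgroup.mem_bot.mpr (Subtype.ext this)

/-- Let p be a prime and G a finite group with a non-commutative Sylow p-subgroup P whose Frattini subgroup has index p² in P (P is generated by two elements). Suppose G has no nontrivial normal subgroup of order prime to p and the Frattini subgroup of P contains no nontrivial normal subgroup of G. Then the generalized Fitting subgroup F*(G) is the unique minimal normal subgroup of G, the image of P in G/F*(G) is cyclic, and if F*(G) is not commutative then P permutes the components of G transitively by conjugation. -/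
theorem result {G : Type*} [Group G] [Finite G] (p : ℕ) [Fact p.Prime] (P : Sylow p G) (hna : ¬ IsMulCommutative (P : Subgroup G)) (hgen : (frattini ↥(P : Subgroup G)).index = p ^ 2) (hcore : Cfsg.pPrimeCore p G = ⊥) (hfrat : ((frattini ↥(P : Subgroup G)).map (P : Subgroup G).subtype).normalCore = ⊥) [hFn : (Cfsg.generalizedFittingSubgroup G).Normal] :
    (Cfsg.generalizedFittingSubgroup G ≠ ⊥ ∧ ∀ K : Subgroup G, K.Normal → K ≠ ⊥ → Cfsg.generalizedFittingSubgroup G ≤ K) ∧
      IsCyclic ↥((P : Subgroup G).map (QuotientGroup.mk' (Cfsg.generalizedFittingSubgroup G))) ∧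
      (¬ IsMulCommutative (Cfsg.generalizedFittingSubgroup G) → ∀ K L : Subgroup G, Cfsg.IsComponent K → Cfsg.IsComponent L → ∃ x ∈ (P : Subgroup G), L = K.map (MulAut.conj x).toMonoidHom) := by
  have hp : p.Prime := Fact.out
  have hPnc : ¬ ∀ a b : ↥(P : Subgroup G), a * b = b * a := fun h => hna ⟨⟨h⟩⟩
  have key2 : ∀ K : Subgroup G, K.Normal → K ≠ ⊥ →
      ¬ (K.subgroupOf (P : Subgroup G) ≤ frattini ↥(P : Subgroup G)) := by
    intro K hK hK1 hle
    apply key1 p P hcore hfrat K hK hK1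
    intro x hx
    exact ⟨⟨x, hx.2⟩, hle (Subgroup.mem_subgroupOf.mpr hx.1), rfl⟩
  have hGnt : (⊤ : Subgroup G) ≠ ⊥ := by
    intro h
    apply hPnc
    intro a b
    have ha : (a : G) ∈ (⊥ : Subgroup G) := h ▸ Subgroup.mem_top _
    have hb : (b : G) ∈ (⊥ : Subgroup G) := h ▸ Subgroup.mem_top _
    rw [Subgroup.mem_bot] at ha hb
    apply Subtype.ext
    show (a : G) * b = b * a
    rw [ha, hb]
  obtain ⟨N, -, hNmin⟩ := (Set.toFinite {K : Subgroup G | K.Normal ∧ K ≠ ⊥}).exists_le_minimal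
    (show (⊤ : Subgroup G) ∈ {K : Subgroup G | K.Normal ∧ K ≠ ⊥} from ⟨inferInstance, hGnt⟩)
  obtain ⟨⟨hNn, hN1⟩, hNmin'⟩ := hNmin
  haveI := hNn
  have hNle : ∀ K : Subgroup G, K.Normal → K ≠ ⊥ → N ≤ K := by
    intro K hK hK1
    haveI := hK
    by_cases hNK : N ⊓ K = ⊥
    · exfalso
      apply hPnc
      apply comm_of_two_normal hgen (N.subgroupOf (P : Subgroup G)) (K.subgroupOf (P : Subgroup G))
        (key2 N hNn hN1) (key2 K hK hK1)
      rw [eq_bot_iff]
      intro x hx
      have : (x : G) ∈ N ⊓ K := ⟨Subgroup.mem_subgroupOf.mp hx.1, Subgroup.mem_subgroupOf.mp hx.2⟩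
      rw [hNK, Subgroup.mem_bot] at this
      exact Subgroup.mem_bot.mpr (Subtype.ext this)
    · have hle := hNmin' (show N ⊓ K ∈ {K : Subgroup G | K.Normal ∧ K ≠ ⊥} from
        ⟨inferInstance, hNK⟩) inf_le_left
      exact hle.trans inf_le_right
  obtain ⟨u, hu⟩ := exists_zpowers_sup_eq_top hgen (N.subgroupOf (P : Subgroup G)) (key2 N hNn hN1)
  have hdec : ∀ x ∈ (P : Subgroup G), ∃ n ∈ N, ∃ k : ℤ, x = n * (u : G) ^ k := by
    intro x hx
    have hx' : (⟨x, hx⟩ : ↥(P : Subgroup G)) ∈
        ((N.subgroupOf (P : Subgroup G) ⊔ Subgroup.zpowers u : Subgroup ↥(P : Subgroup G)) :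
          Set ↥(P : Subgroup G)) := by
      rw [hu]; exact Subgroup.mem_top _
    rw [Subgroup.normal_mul] at hx'
    obtain ⟨d, hd, w, hw, hdw⟩ := Set.mem_mul.mp hx'
    obtain ⟨k, rfl⟩ := Subgroup.mem_zpowers_iff.mp hw
    refine ⟨(d : G), Subgroup.mem_subgroupOf.mp hd, k, ?_⟩
    have := congrArg Subtype.val hdw
    exact this.symm
  have hFstar1 : Cfsg.generalizedFittingSubgroup G ≠ ⊥ := by
    intro h
    have h1 := Cfsg.Agent.Lib.Helper11.centralizer_genFitting_le (G := G)
    rw [h] at h1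
    apply hGnt
    rw [eq_bot_iff]
    intro x _
    apply h1
    rw [Subgroup.mem_centralizer_iff]
    intro y hy
    have hy1 : y = 1 := Subgroup.mem_bot.mp hy
    rw [hy1, one_mul, mul_one]
  have hNF : N ≤ Cfsg.generalizedFittingSubgroup G := hNle _ hFn hFstar1
  -- the conclusion from `F*(G) ≤ N` and transitivity
  have fin : Cfsg.generalizedFittingSubgroup G ≤ N →
      ((¬ ∀ a ∈ N, ∀ b ∈ N, a * b = b * a) → ∀ K L : Subgroup G, Cfsg.IsComponent K →
        Cfsg.IsComponent L → ∃ x ∈ (P : Subgroup G), L = K.map (MulAut.conj x).toMonoidHom) →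
      (Cfsg.generalizedFittingSubgroup G ≠ ⊥ ∧ ∀ K : Subgroup G, K.Normal → K ≠ ⊥ →
        Cfsg.generalizedFittingSubgroup G ≤ K) ∧
      IsCyclic ↥((P : Subgroup G).map (QuotientGroup.mk' (Cfsg.generalizedFittingSubgroup G))) ∧
      (¬ IsMulCommutative (Cfsg.generalizedFittingSubgroup G) → ∀ K L : Subgroup G,
        Cfsg.IsComponent K → Cfsg.IsComponent L →
        ∃ x ∈ (P : Subgroup G), L = K.map (MulAut.conj x).toMonoidHom) := by
    intro hFN htrans
    refine ⟨⟨hFstar1, fun K hK hK1 => hFN.trans (hNle K hK hK1)⟩, ?_, ?_⟩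
    · rw [Subgroup.isCyclic_iff_exists_zpowers_eq_top]
      refine ⟨(QuotientGroup.mk' (Cfsg.generalizedFittingSubgroup G)) (u : G), ?_⟩
      apply le_antisymm
      · rw [Subgroup.zpowers_le]
        exact Subgroup.mem_map_of_mem _ u.2
      · rintro _ ⟨x, hx, rfl⟩
        obtain ⟨n, hn, k, rfl⟩ := hdec x hx
        rw [Subgroup.mem_zpowers_iff]
        refine ⟨k, ?_⟩
        have hn1 : (QuotientGroup.mk' (Cfsg.generalizedFittingSubgroup G)) n = 1 :=
          (QuotientGroup.eq_one_iff n).mpr (hNF hn)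
        rw [map_mul, map_zpow, hn1, one_mul]
    · intro hnc K L hK hL
      apply htrans _ K L hK hL
      intro hcomm
      apply hnc
      exact ⟨⟨fun a b => Subtype.ext (hcomm a (hFN a.2) b (hFN b.2))⟩⟩
  by_cases hNc : ∀ a ∈ N, ∀ b ∈ N, a * b = b * a
  · -- the abelian case
    apply fin _ (fun h => absurd hNc h)
    -- `N` is a `p`-group
    have hNp : IsPGroup p ↥N := by
      obtain ⟨k, m, hm, hkm⟩ : ∃ k m : ℕ, ¬ p ∣ m ∧ Nat.card N = p ^ k * m :=
        Nat.exists_eq_pow_mul_and_not_dvd Nat.card_pos.ne' p hp.ne_one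
      let Y₀ : Subgroup G :=
        { carrier := {x | x ∈ N ∧ x ^ m = 1}
          mul_mem' := by
            rintro a b ⟨ha, ha'⟩ ⟨hb, hb'⟩
            refine ⟨N.mul_mem ha hb, ?_⟩
            rw [(show Commute a b from hNc a ha b hb).mul_pow, ha', hb', one_mul]
          one_mem' := ⟨N.one_mem, one_pow m⟩
          inv_mem' := by
            rintro a ⟨ha, ha'⟩
            exact ⟨N.inv_mem ha, by rw [inv_pow, ha', inv_one]⟩ }
      have hY₀n : Y₀.Normal := by
        refine ⟨fun a ha g => ?_⟩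
        refine ⟨hNn.conj_mem a ha.1 g, ?_⟩
        rw [conj_pow, ha.2, mul_one, mul_inv_cancel]
      have hY₀c : (Nat.card Y₀).Coprime p := by
        rw [Nat.coprime_comm, Nat.Prime.coprime_iff_not_dvd hp]
        intro hdvd
        obtain ⟨y, hy⟩ := exists_prime_orderOf_dvd_card' p hdvd
        have hym : (y : G) ^ m = 1 := y.2.2
        have h1 : orderOf (y : G) = p := by rw [Subgroup.orderOf_coe]; exact hy
        have h2 : p ∣ m := by rw [← h1]; exact orderOf_dvd_of_pow_eq_one hym
        exact hm h2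
      have hY₀ : Y₀ = ⊥ := by
        have := Cfsg.Agent.Lib.Helper1.le_pPrimeCore p hY₀n hY₀c
        rw [hcore] at this
        exact le_bot_iff.mp this
      intro g
      refine ⟨k, ?_⟩
      have h1 : (g : G) ^ p ^ k ∈ Y₀ := by
        refine ⟨N.pow_mem g.2 _, ?_⟩
        rw [← pow_mul, ← hkm]
        have h2 : g ^ Nat.card ↥N = 1 := pow_card_eq_one'
        exact congrArg Subtype.val h2
      rw [hY₀, Subgroup.mem_bot] at h1
      exact Subtype.ext h1
    have hNP : N ≤ (P : Subgroup G) := Cfsg.Agent.Lib.Helper1.normal_pgroup_le_sylow hNn hNp P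
    have hNcent : N ≤ Subgroup.centralizer (N : Set G) := fun a ha =>
      Subgroup.mem_centralizer_iff.mpr (fun b hb => hNc b hb a ha)
    -- `P ∩ C(N)` is abelian
    have hAab : ∀ x ∈ (P : Subgroup G), x ∈ Subgroup.centralizer (N : Set G) →
        ∀ y ∈ (P : Subgroup G), y ∈ Subgroup.centralizer (N : Set G) → x * y = y * x := by
      intro x hxP hxC y hyP hyC
      obtain ⟨n₁, hn₁, k₁, hx⟩ := hdec x hxP
      obtain ⟨n₂, hn₂, k₂, hy⟩ := hdec y hyP
      have hu1 : (u : G) ^ k₁ ∈ Subgroup.centralizer (N : Set G) := by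
        have : (u : G) ^ k₁ = n₁⁻¹ * x := by rw [hx]; group
        rw [this]; exact mul_mem (inv_mem (hNcent hn₁)) hxC
      have hu2 : (u : G) ^ k₂ ∈ Subgroup.centralizer (N : Set G) := by
        have : (u : G) ^ k₂ = n₂⁻¹ * y := by rw [hy]; group
        rw [this]; exact mul_mem (inv_mem (hNcent hn₂)) hyC
      have e1 : (u : G) ^ k₁ * n₂ = n₂ * (u : G) ^ k₁ :=
        (Subgroup.mem_centralizer_iff.mp hu1 n₂ hn₂).symm
      have e2 : (u : G) ^ k₂ * n₁ = n₁ * (u : G) ^ k₂ :=
        (Subgroup.mem_centralizer_iff.mp hu2 n₁ hn₁).symm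
      have e3 : n₁ * n₂ = n₂ * n₁ := hNc n₁ hn₁ n₂ hn₂
      have e4 : (u : G) ^ k₁ * (u : G) ^ k₂ = (u : G) ^ k₂ * (u : G) ^ k₁ := by
        rw [← zpow_add, ← zpow_add, add_comm]
      rw [hx, hy]
      calc n₁ * (u : G) ^ k₁ * (n₂ * (u : G) ^ k₂)
          = n₁ * ((u : G) ^ k₁ * n₂) * (u : G) ^ k₂ := by simp only [mul_assoc]
        _ = n₁ * (n₂ * (u : G) ^ k₁) * (u : G) ^ k₂ := by rw [e1]
        _ = (n₁ * n₂) * ((u : G) ^ k₁ * (u : G) ^ k₂) := by simp only [mul_assoc]
        _ = (n₂ * n₁) * ((u : G) ^ k₂ * (u : G) ^ k₁) := by rw [e3, e4]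
        _ = n₂ * (n₁ * (u : G) ^ k₂) * (u : G) ^ k₁ := by simp only [mul_assoc]
        _ = n₂ * ((u : G) ^ k₂ * n₁) * (u : G) ^ k₁ := by rw [e2]
        _ = n₂ * (u : G) ^ k₂ * (n₁ * (u : G) ^ k₁) := by simp only [mul_assoc]
    have hFitn : (Cfsg.fittingSubgroup G).Normal := Cfsg.Agent.Lib.Helper1.fittingSubgroup_normal
    haveI := hFitn
    have hNFit : N ≤ Cfsg.fittingSubgroup G := le_sSup ⟨hNn, hNp.isNilpotent⟩
    -- the layer is trivial
    have hlayer : Cfsg.layer G = ⊥ := by
      by_contra hne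
      have hLn : (Cfsg.layer G).Normal := Cfsg.Agent.Lib.Helper11.layer_normal
      haveI := hLn
      have hNL : N ≤ Cfsg.layer G := hNle _ hLn hne
      have hLC : Cfsg.layer G ≤ Subgroup.centralizer (N : Set G) := by
        have h1 := Cfsg.Agent.Lib.Helper11.layer_comm_fitting (G := G)
        rw [Subgroup.commutator_eq_bot_iff_le_centralizer] at h1
        exact h1.trans (Subgroup.centralizer_le hNFit)
      have hperfE : commutator ↥(Cfsg.layer G) = ⊤ := by
        apply Subgroup.map_injective (Cfsg.layer G).subtype_injective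
        rw [Subgroup.map_subtype_commutator, Cfsg.Agent.Lib.Helper11.layer_perfect,
          ← MonoidHom.range_eq_map, Subgroup.range_subtype]
      haveI : IsMulCommutative ↥((P : Subgroup G).subgroupOf (Cfsg.layer G)) := by
        refine ⟨⟨fun a b => ?_⟩⟩
        apply Subtype.ext
        apply Subtype.ext
        exact hAab _ a.2 (hLC a.1.2) _ b.2 (hLC b.1.2)
      have hidxS : ¬ p ∣ ((P : Subgroup G).subgroupOf (Cfsg.layer G)).index := by
        have h1 := not_dvd_relIndex_sylow_inf_normal P (Cfsg.layer G)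
        rw [Subgroup.inf_relIndex_right] at h1
        exact h1
      apply hN1
      rw [eq_bot_iff]
      intro z hz
      obtain ⟨k, hk⟩ := hNp ⟨z, hz⟩
      have hk0 : z ^ p ^ k = 1 := congrArg Subtype.val hk
      have hzk : (⟨z, hNL hz⟩ : ↥(Cfsg.layer G)) ^ p ^ k = 1 := by
        apply Subtype.ext
        exact hk0
      have hzc : (⟨z, hNL hz⟩ : ↥(Cfsg.layer G)) ∈ Subgroup.center ↥(Cfsg.layer G) := by
        rw [Subgroup.mem_center_iff]
        intro g
        apply Subtype.ext
        exact (Subgroup.mem_centralizer_iff.mp (hLC g.2) z hz).symm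
      have h5 := central_pelement_eq_one hperfE ((P : Subgroup G).subgroupOf (Cfsg.layer G)) hidxS
        _ hzc k hzk
      exact Subgroup.mem_bot.mpr (congrArg Subtype.val h5)
    have hFit_le : Cfsg.fittingSubgroup G ≤ Cfsg.pCore p G :=
      Cfsg.Agent.Lib.Helper20.fitting_le_pCore p hcore
    have hFitP : Cfsg.fittingSubgroup G ≤ (P : Subgroup G) :=
      hFit_le.trans (Cfsg.Agent.Lib.Helper1.pCore_le_sylow P)
    have hFitp : IsPGroup p ↥(Cfsg.fittingSubgroup G) :=
      (Cfsg.Agent.Lib.Helper1.pCore_isPGroup p).to_le hFit_le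
    have hFitC : Cfsg.fittingSubgroup G ≤ Subgroup.centralizer (N : Set G) := by
      have hne : Cfsg.fittingSubgroup G ⊓
          Subgroup.centralizer (Cfsg.fittingSubgroup G : Set G) ≠ ⊥ := by
        haveI : Nontrivial ↥(Cfsg.fittingSubgroup G) :=
          (Subgroup.nontrivial_iff_ne_bot _).mpr (fun h => hN1 (le_bot_iff.mp (h ▸ hNFit)))
        haveI := hFitp.center_nontrivial
        obtain ⟨z, hz1⟩ := exists_ne (1 : ↥(Subgroup.center ↥(Cfsg.fittingSubgroup G)))
        intro hbot
        have hzmem : ((z : ↥(Cfsg.fittingSubgroup G)) : G) ∈ Cfsg.fittingSubgroup G ⊓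
            Subgroup.centralizer (Cfsg.fittingSubgroup G : Set G) := by
          refine ⟨z.1.2, Subgroup.mem_centralizer_iff.mpr ?_⟩
          intro a ha
          have := Subgroup.mem_center_iff.mp z.2 ⟨a, ha⟩
          exact congrArg Subtype.val this
        rw [hbot, Subgroup.mem_bot] at hzmem
        exact hz1 (Subtype.ext (Subtype.ext hzmem))
      have h1 := hNle _ inferInstance hne
      intro f hf
      rw [Subgroup.mem_centralizer_iff]
      intro n hn
      exact (Subgroup.mem_centralizer_iff.mp (h1 hn).2 f hf).symm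
    -- powers of `u` in `F(G)` are central in `P`
    have hcentral : ∀ j : ℤ, (u : G) ^ j ∈ Cfsg.fittingSubgroup G → ∀ x ∈ (P : Subgroup G),
        x * (u : G) ^ j * x⁻¹ = (u : G) ^ j := by
      intro j hj x hx
      obtain ⟨n', hn', i, hxi⟩ := hdec x hx
      have e1 : n' * (u : G) ^ j = (u : G) ^ j * n' :=
        Subgroup.mem_centralizer_iff.mp (hFitC hj) n' hn'
      have e2 : (u : G) ^ i * (u : G) ^ j = (u : G) ^ j * (u : G) ^ i := by
        rw [← zpow_add, ← zpow_add, add_comm]
      rw [hxi]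
      calc n' * (u : G) ^ i * (u : G) ^ j * (n' * (u : G) ^ i)⁻¹
          = n' * ((u : G) ^ i * (u : G) ^ j) * ((u : G) ^ i)⁻¹ * n'⁻¹ := by
            rw [mul_inv_rev]; simp only [mul_assoc]
        _ = n' * ((u : G) ^ j * (u : G) ^ i) * ((u : G) ^ i)⁻¹ * n'⁻¹ := by rw [e2]
        _ = (n' * (u : G) ^ j) * n'⁻¹ := by simp only [mul_assoc, mul_inv_cancel_left]
        _ = (u : G) ^ j * n' * n'⁻¹ := by rw [e1]
        _ = (u : G) ^ j := by rw [mul_assoc, mul_inv_cancel, mul_one]
    show Cfsg.layer G ⊔ Cfsg.fittingSubgroup G ≤ N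
    rw [hlayer, bot_sup_eq]
    by_contra hnot
    obtain ⟨v, hvF, hvN⟩ := SetLike.not_le_iff_exists.mp hnot
    obtain ⟨n, hn, k, hvk⟩ := hdec v (hFitP hvF)
    have hz_eq : (u : G) ^ k = n⁻¹ * v := by rw [hvk]; group
    have hzF : (u : G) ^ k ∈ Cfsg.fittingSubgroup G := by
      rw [hz_eq]; exact mul_mem (inv_mem (hNFit hn)) hvF
    have hzN : (u : G) ^ k ∉ N := by
      intro h
      apply hvN
      rw [hvk]; exact mul_mem hn h
    -- the kernel of the action on `F(G)/N`
    let G₁ : Subgroup G :=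
      { carrier := {g | ∀ f ∈ Cfsg.fittingSubgroup G, g * f * g⁻¹ * f⁻¹ ∈ N}
        mul_mem' := by
          intro a b ha hb f hf
          have h1 := hb f hf
          have h2 := ha f hf
          have e : a * b * f * (a * b)⁻¹ * f⁻¹ =
              a * (b * f * b⁻¹ * f⁻¹) * a⁻¹ * (a * f * a⁻¹ * f⁻¹) := by group
          rw [e]
          exact mul_mem (hNn.conj_mem _ h1 a) h2
        one_mem' := by
          intro f _
          have e : (1 : G) * f * 1⁻¹ * f⁻¹ = 1 := by group
          rw [e]; exact N.one_mem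
        inv_mem' := by
          intro a ha f hf
          have h1 := ha f hf
          have e : a⁻¹ * f * a⁻¹⁻¹ * f⁻¹ = a⁻¹ * (a * f * a⁻¹ * f⁻¹)⁻¹ * a⁻¹⁻¹ := by group
          rw [e]
          exact hNn.conj_mem _ (inv_mem h1) a⁻¹ }
    have hG₁mem : ∀ g : G, g ∈ G₁ ↔ ∀ f ∈ Cfsg.fittingSubgroup G, g * f * g⁻¹ * f⁻¹ ∈ N :=
      fun g => Iff.rfl
    have hG₁n : G₁.Normal := by
      refine ⟨fun g hg x => ?_⟩
      rw [hG₁mem]
      intro f hf
      have hf' : x⁻¹ * f * x ∈ Cfsg.fittingSubgroup G := by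
        have := hFitn.conj_mem f hf x⁻¹
        rwa [inv_inv] at this
      have h1 := (hG₁mem g).mp hg _ hf'
      have e : x * g * x⁻¹ * f * (x * g * x⁻¹)⁻¹ * f⁻¹ =
          x * (g * (x⁻¹ * f * x) * g⁻¹ * (x⁻¹ * f * x)⁻¹) * x⁻¹ := by group
      rw [e]
      exact hNn.conj_mem _ h1 x
    haveI := hG₁n
    have hPG₁ : (P : Subgroup G) ≤ G₁ := by
      intro x hx
      rw [hG₁mem]
      intro f hf
      obtain ⟨n', hn', j, hfj⟩ := hdec f (hFitP hf)
      have huj : (u : G) ^ j ∈ Cfsg.fittingSubgroup G := by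
        have : (u : G) ^ j = n'⁻¹ * f := by rw [hfj]; group
        rw [this]; exact mul_mem (inv_mem (hNFit hn')) hf
      have hcj : x * (u : G) ^ j * x⁻¹ = (u : G) ^ j := hcentral j huj x hx
      have e : x * f * x⁻¹ * f⁻¹ =
          (x * n' * x⁻¹) * (x * (u : G) ^ j * x⁻¹) * ((u : G) ^ j)⁻¹ * n'⁻¹ := by
        rw [hfj]; group
      rw [e, hcj]
      have e2 : x * n' * x⁻¹ * (u : G) ^ j * ((u : G) ^ j)⁻¹ * n'⁻¹ = (x * n' * x⁻¹) * n'⁻¹ := by
        group
      rw [e2]
      exact mul_mem (hNn.conj_mem n' hn' x) (inv_mem hn')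
    -- the trace
    obtain ⟨k', hk'⟩ := P.2 u
    have hzk : (⟨(u : G) ^ k, hPG₁ (zpow_mem u.2 k)⟩ : ↥G₁) ^ p ^ k' = 1 := by
      apply Subtype.ext
      show ((u : G) ^ k) ^ p ^ k' = 1
      have h1 : (u : G) ^ p ^ k' = 1 := congrArg Subtype.val hk'
      rw [← zpow_natCast, ← zpow_mul, mul_comm, zpow_mul, zpow_natCast, h1, one_zpow]
    have hQidx : ¬ p ∣ ((P : Subgroup G).subgroupOf G₁).index := by
      intro h
      exact P.not_dvd_index (h.trans (Subgroup.relIndex_dvd_index_of_le hPG₁))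
    obtain ⟨t, htF, ht1, htc⟩ := exists_central_of_trace ((P : Subgroup G).subgroupOf G₁)
      ((Cfsg.fittingSubgroup G).subgroupOf G₁) (N.subgroupOf G₁) hQidx
      (by
        intro a ha b hb
        apply Subtype.ext
        exact hAab _ (hFitP (Subgroup.mem_subgroupOf.mp ha)) (hFitC (Subgroup.mem_subgroupOf.mp ha))
          _ (hFitP (Subgroup.mem_subgroupOf.mp hb)) (hFitC (Subgroup.mem_subgroupOf.mp hb)))
      ⟨(u : G) ^ k, hPG₁ (zpow_mem u.2 k)⟩ (Subgroup.mem_subgroupOf.mpr hzF)
      (fun h => hzN (Subgroup.mem_subgroupOf.mp h))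
      (by
        intro h hh
        apply Subtype.ext
        exact hcentral k hzF h (Subgroup.mem_subgroupOf.mp hh))
      (by
        intro g
        rw [Subgroup.mem_subgroupOf]
        exact (hG₁mem g).mp g.2 _ hzF)
      k' hzk
    -- `N` is centralized by `G₁`
    have hC₁ : Cfsg.fittingSubgroup G ⊓ Subgroup.centralizer (G₁ : Set G) ≠ ⊥ := by
      intro hbot
      have htmem : (t : G) ∈ Cfsg.fittingSubgroup G ⊓ Subgroup.centralizer (G₁ : Set G) := by
        refine ⟨Subgroup.mem_subgroupOf.mp htF, Subgroup.mem_centralizer_iff.mpr ?_⟩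
        intro g hg
        have h1 : g * (t : G) * g⁻¹ = t := congrArg Subtype.val (htc ⟨g, hg⟩)
        have h2 := congrArg (fun w => w * g) h1
        simpa [mul_assoc] using h2
      rw [hbot, Subgroup.mem_bot] at htmem
      exact ht1 (Subtype.ext htmem)
    have hNC₁ := hNle _ inferInstance hC₁
    apply hPnc
    intro a b
    apply Subtype.ext
    have hcen : ∀ x ∈ (P : Subgroup G), x ∈ Subgroup.centralizer (N : Set G) := by
      intro x hx
      rw [Subgroup.mem_centralizer_iff]
      intro n' hn'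
      exact (Subgroup.mem_centralizer_iff.mp (hNC₁ hn').2 x (hPG₁ hx)).symm
    exact hAab _ a.2 (hcen _ a.2) _ b.2 (hcen _ b.2)
  · -- the nonabelian case
    have hZN : N ⊓ Subgroup.centralizer (N : Set G) = ⊥ := by
      by_contra hne
      have h1 := hNle (N ⊓ Subgroup.centralizer (N : Set G)) inferInstance hne
      apply hNc
      intro a ha b hb
      exact Subgroup.mem_centralizer_iff.mp (h1 hb).2 a ha
    have hFit : Cfsg.fittingSubgroup G = ⊥ := by
      by_contra hne
      have hFitn : (Cfsg.fittingSubgroup G).Normal := Cfsg.Agent.Lib.Helper1.fittingSubgroup_normal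
      have h1 : N ≤ Cfsg.fittingSubgroup G := hNle _ hFitn hne
      have h2 : N ≤ Cfsg.pCore p G :=
        h1.trans (Cfsg.Agent.Lib.Helper20.fitting_le_pCore p hcore)
      have hNp : IsPGroup p ↥N := (Cfsg.Agent.Lib.Helper1.pCore_isPGroup p).to_le h2
      haveI : Nontrivial ↥N := (Subgroup.nontrivial_iff_ne_bot N).mpr hN1
      haveI := hNp.center_nontrivial
      obtain ⟨z, hz1⟩ := exists_ne (1 : ↥(Subgroup.center ↥N))
      have hzmem : ((z : ↥N) : G) ∈ N ⊓ Subgroup.centralizer (N : Set G) := by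
        refine ⟨z.1.2, Subgroup.mem_centralizer_iff.mpr ?_⟩
        intro a ha
        have := Subgroup.mem_center_iff.mp z.2 ⟨a, ha⟩
        exact congrArg Subtype.val this
      rw [hZN, Subgroup.mem_bot] at hzmem
      exact hz1 (Subtype.ext (Subtype.ext hzmem))
    have hFN : Cfsg.generalizedFittingSubgroup G ≤ N := by
      show Cfsg.layer G ⊔ Cfsg.fittingSubgroup G ≤ N
      rw [hFit, sup_bot_eq]
      apply sSup_le
      intro K hK
      rcases Cfsg.Agent.Lib.Helper11.component_le_or_comm hK hNn.isSubnormal with h | h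
      · exact h
      · exfalso
        have hKC : K ≤ Subgroup.centralizer (N : Set G) :=
          Subgroup.commutator_eq_bot_iff_le_centralizer.mp h
        have hK1 : K ≠ ⊥ := by
          haveI := Cfsg.Agent.Lib.Helper11.qs_nontrivial hK.2
          exact (Subgroup.nontrivial_iff_ne_bot K).mp inferInstance
        have hC1 : Subgroup.centralizer (N : Set G) ≠ ⊥ := fun h0 => hK1 (le_bot_iff.mp (h0 ▸ hKC))
        have h2 := hNle _ inferInstance hC1
        exact hN1 (le_bot_iff.mp (hZN ▸ le_inf le_rfl h2))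
    have hlayerN : Cfsg.layer G ≤ N := le_sup_left.trans hFN
    have hNlayer : N ≤ Cfsg.layer G := by
      have h1 : N ≤ Cfsg.layer G ⊔ Cfsg.fittingSubgroup G := hNF
      rwa [hFit, sup_bot_eq] at h1
    apply fin hFN
    intro _ K L hK hL
    by_contra hcon
    push Not at hcon
    -- generic facts about `P`-stable families of components
    have gen : ∀ S : Set (Subgroup G), (∀ M ∈ S, Cfsg.IsComponent M) →
        (∀ M ∈ S, ∀ y ∈ (P : Subgroup G), M.map (MulAut.conj y).toMonoidHom ∈ S) → S.Nonempty →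
        (P : Subgroup G) ≤ Subgroup.normalizer ((sSup S : Subgroup G) : Set G) ∧
          ⁅sSup S, sSup S⁆ = sSup S ∧ ¬ (Nat.card ↥(sSup S)).Coprime p := by
      intro S hS hstab hne
      refine ⟨?_, ?_, ?_⟩
      · apply Cfsg.Agent.Lib.Helper11.le_normalizer_of_map_conj_le
        intro y hy
        rw [Subgroup.map_le_iff_le_comap]
        apply sSup_le
        intro M hM
        rw [← Subgroup.map_le_iff_le_comap]
        exact le_sSup (hstab M hM y hy)
      · apply le_antisymm (Subgroup.commutator_le_self _)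
        apply sSup_le
        intro M hM
        have h1 := Cfsg.Agent.Lib.Helper11.component_perfect (hS M hM)
        calc M = ⁅M, M⁆ := h1.symm
          _ ≤ ⁅sSup S, sSup S⁆ := Subgroup.commutator_mono (le_sSup hM) (le_sSup hM)
      · intro hcop
        obtain ⟨M, hM⟩ := hne
        have hle : sSup S ≤ N := (sSup_le fun M' hM' =>
          Cfsg.Agent.Lib.Helper11.component_le_layer (hS M' hM')).trans hlayerN
        have hnorm : N ≤ Subgroup.normalizer ((sSup S : Subgroup G) : Set G) := by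
          apply Cfsg.Agent.Lib.Helper11.le_normalizer_of_map_conj_le
          intro y hy
          rw [Subgroup.map_le_iff_le_comap]
          apply sSup_le
          intro M' hM'
          rw [← Subgroup.map_le_iff_le_comap]
          have h1 : y ∈ Subgroup.normalizer (M' : Set G) :=
            Cfsg.Agent.Lib.Helper11.layer_le_normalizer_component (hS M' hM') (hNlayer hy)
          rw [(mem_normalizer_iff_map M' y).mp h1]
          exact le_sSup hM'
        haveI : ((sSup S : Subgroup G).subgroupOf N).Normal :=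
          Subgroup.normal_subgroupOf_of_le_normalizer hnorm
        have hcard : Nat.card ↥((sSup S : Subgroup G).subgroupOf N) = Nat.card ↥(sSup S : Subgroup G) :=
          Nat.card_congr (Subgroup.subgroupOfEquivOfLe hle).toEquiv
        have h2 := sc_le_pPrimeCore_of_normal_in_normal p N ((sSup S : Subgroup G).subgroupOf N)
          (by rw [hcard]; exact hcop)
        rw [Subgroup.map_subgroupOf_eq_of_le hle, hcore, le_bot_iff] at h2
        have hM1 : M ≠ ⊥ := by
          haveI := Cfsg.Agent.Lib.Helper11.qs_nontrivial (hS M hM).2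
          exact (Subgroup.nontrivial_iff_ne_bot M).mp inferInstance
        exact hM1 (le_bot_iff.mp (h2 ▸ le_sSup hM))
    obtain ⟨S₁, hS₁⟩ : ∃ S₁ : Set (Subgroup G), S₁ =
        {M | ∃ x ∈ (P : Subgroup G), M = K.map (MulAut.conj x).toMonoidHom} := ⟨_, rfl⟩
    obtain ⟨S₂, hS₂⟩ : ∃ S₂ : Set (Subgroup G), S₂ =
        {M | Cfsg.IsComponent M ∧
          ∀ x ∈ (P : Subgroup G), M ≠ K.map (MulAut.conj x).toMonoidHom} := ⟨_, rfl⟩
    have hm₁ : ∀ M, M ∈ S₁ ↔ ∃ x ∈ (P : Subgroup G), M = K.map (MulAut.conj x).toMonoidHom := by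
      intro M; rw [hS₁]; rfl
    have hm₂ : ∀ M, M ∈ S₂ ↔ (Cfsg.IsComponent M ∧
        ∀ x ∈ (P : Subgroup G), M ≠ K.map (MulAut.conj x).toMonoidHom) := by
      intro M; rw [hS₂]; rfl
    have hcomp₁ : ∀ M ∈ S₁, Cfsg.IsComponent M := by
      intro M hM
      obtain ⟨x, -, rfl⟩ := (hm₁ M).mp hM
      exact Cfsg.Agent.Lib.Helper11.component_map_equiv hK (MulAut.conj x)
    have hcomp₂ : ∀ M ∈ S₂, Cfsg.IsComponent M := fun M hM => ((hm₂ M).mp hM).1
    have hstab₁ : ∀ M ∈ S₁, ∀ y ∈ (P : Subgroup G), M.map (MulAut.conj y).toMonoidHom ∈ S₁ := by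
      intro M hM y hy
      obtain ⟨x, hx, rfl⟩ := (hm₁ M).mp hM
      rw [hm₁]
      exact ⟨y * x, mul_mem hy hx, (map_conj_mul K y x).symm⟩
    have hstab₂ : ∀ M ∈ S₂, ∀ y ∈ (P : Subgroup G), M.map (MulAut.conj y).toMonoidHom ∈ S₂ := by
      intro M hM y hy
      obtain ⟨hMc, hMne⟩ := (hm₂ M).mp hM
      rw [hm₂]
      refine ⟨Cfsg.Agent.Lib.Helper11.component_map_equiv hMc (MulAut.conj y), ?_⟩
      intro x hx heq
      apply hMne (y⁻¹ * x) (mul_mem (inv_mem hy) hx)
      rw [map_conj_mul, ← heq, map_conj_map_conj_inv]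
    have hK₁ : K ∈ S₁ := (hm₁ K).mpr ⟨1, one_mem _, (map_conj_one K).symm⟩
    have hL₂ : L ∈ S₂ := (hm₂ L).mpr ⟨hL, hcon⟩
    obtain ⟨hn₁, hp₁, hc₁⟩ := gen S₁ hcomp₁ hstab₁ ⟨K, hK₁⟩
    obtain ⟨hn₂, hp₂, hc₂⟩ := gen S₂ hcomp₂ hstab₂ ⟨L, hL₂⟩
    have hcomm12 : ∀ M₁ ∈ S₁, ∀ M₂ ∈ S₂, ⁅M₁, M₂⁆ = ⊥ := by
      intro M₁ hM₁ M₂ hM₂
      apply Cfsg.Agent.Lib.Helper11.components_comm (hcomp₁ M₁ hM₁) (hcomp₂ M₂ hM₂)
      intro heq
      obtain ⟨x, hx, hMx⟩ := (hm₁ M₁).mp hM₁
      exact ((hm₂ M₂).mp hM₂).2 x hx (heq ▸ hMx)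
    have hinf : (sSup S₁ : Subgroup G) ⊓ sSup S₂ = ⊥ := by
      rw [eq_bot_iff]
      intro x hx
      have hxN : x ∈ N := hlayerN ((sSup_le fun M' hM' =>
        Cfsg.Agent.Lib.Helper11.component_le_layer (hcomp₁ M' hM')) hx.1)
      have hxC : x ∈ Subgroup.centralizer (N : Set G) := by
        have hall : Cfsg.layer G ≤ Subgroup.centralizer ({x} : Set G) := by
          apply sSup_le
          intro M hM
          by_cases hMS : M ∈ S₁
          · -- `x ∈ sSup S₂` centralizes `M`
            have h1 : (sSup S₂ : Subgroup G) ≤ Subgroup.centralizer (M : Set G) := by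
              apply sSup_le
              intro M₂ hM₂
              rw [← Subgroup.commutator_eq_bot_iff_le_centralizer, Subgroup.commutator_comm]
              exact hcomm12 M hMS M₂ hM₂
            intro m hm
            rw [Subgroup.mem_centralizer_iff]
            intro y hy
            rw [Set.mem_singleton_iff] at hy
            rw [hy]
            exact (Subgroup.mem_centralizer_iff.mp (h1 hx.2) m hm).symm
          · have hMS₂ : M ∈ S₂ := by
              rw [hm₂]
              refine ⟨hM, fun y hy heq => hMS ((hm₁ M).mpr ⟨y, hy, heq⟩)⟩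
            have h1 : (sSup S₁ : Subgroup G) ≤ Subgroup.centralizer (M : Set G) := by
              apply sSup_le
              intro M₁ hM₁
              rw [← Subgroup.commutator_eq_bot_iff_le_centralizer]
              exact hcomm12 M₁ hM₁ M hMS₂
            intro m hm
            rw [Subgroup.mem_centralizer_iff]
            intro y hy
            rw [Set.mem_singleton_iff] at hy
            rw [hy]
            exact (Subgroup.mem_centralizer_iff.mp (h1 hx.1) m hm).symm
        rw [Subgroup.mem_centralizer_iff]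
        intro n hn
        have := Subgroup.mem_centralizer_iff.mp (hall (hNlayer hn)) x (Set.mem_singleton x)
        exact this.symm
      have : x ∈ N ⊓ Subgroup.centralizer (N : Set G) := ⟨hxN, hxC⟩
      rw [hZN] at this
      exact this
    exact split_false p P hPnc hgen (sSup S₁) (sSup S₂) hn₁ hn₂ hinf hp₁ hp₂ hc₁ hc₂

end Cfsg.Agent.S4172
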