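import Cfsg.Statements.S4238
import Mathlib
import Cfsg.Agent.Lib.Helper1.Schmidt
import Cfsg.Agent.Lib.Helper14.Sections
import Cfsg.Agent.S4127

set_option autoImplicit false
open Cfsg

namespace Cfsg.Agent.S4238


universe u

open Cfsg.Agent.Lib.Helper1 Cfsg.Agent.Lib.Helper14
open scoped Pointwise

theorem exists_order_eq_exponent {X : Type*} [Group X] [Finite X] (p : ℕ) [hp : Fact p.Prime]
    (h : ∀ x : X, ∃ j : ℕ, x ^ (p ^ j) = 1) : ∃ k : X, orderOf k = Monoid.exponent X := by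
  obtain ⟨k, hk⟩ := Finite.exists_max (fun x : X => orderOf x)
  refine ⟨k, Nat.dvd_antisymm (Monoid.order_dvd_exponent k) ?_⟩
  have hpow : ∀ x : X, ∃ a : ℕ, orderOf x = p ^ a := by
    intro x
    obtain ⟨j, hj⟩ := h x
    obtain ⟨a, _, ha⟩ := (Nat.dvd_prime_pow hp.out).mp (orderOf_dvd_of_pow_eq_one hj)
    exact ⟨a, ha⟩
  obtain ⟨a, ha⟩ := hpow k
  apply Monoid.exponent_dvd_of_forall_pow_eq_one
  intro x
  obtain ⟨b, hb⟩ := hpow x
  have hle : orderOf x ≤ orderOf k := hk x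
  rw [hb, ha] at hle
  have hba : b ≤ a := (Nat.pow_le_pow_iff_right hp.out.one_lt).mp hle
  rw [ha]
  apply orderOf_dvd_iff_pow_eq_one.mp
  rw [hb]
  exact pow_dvd_pow p hba

theorem forward {G : Type*} [Group G] [Finite G] (p : ℕ) [hp : Fact p.Prime]
    (hnc : Cfsg.HasNormalPComplement p G) (H : Subgroup G) (N' : Subgroup H) [N'.Normal]
    (hcore : Cfsg.pPrimeCore p (H ⧸ N') = ⊥) :
    ∃ k : H ⧸ N', orderOf k = Monoid.exponent (H ⧸ N') := by
  obtain ⟨P, N, hNn, hc⟩ := hnc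
  haveI := hNn
  have hcard := hc.card_mul_card
  obtain ⟨n, hn⟩ := IsPGroup.iff_card.mp P.isPGroup'
  have hidx : N.index = p ^ n := by
    have h1 := Subgroup.card_mul_index N
    rw [← hcard, hn] at h1
    exact Nat.eq_of_mul_eq_mul_left Nat.card_pos h1
  have hcop : (Nat.card N).Coprime p := by
    have h1 := Subgroup.card_mul_index (P : Subgroup G)
    have h2 : (P : Subgroup G).index = Nat.card N := by
      have h3 : Nat.card (P : Subgroup G) * (P : Subgroup G).index
          = Nat.card (P : Subgroup G) * Nat.card N := by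
        rw [h1, ← hcard, mul_comm]
      exact Nat.eq_of_mul_eq_mul_left Nat.card_pos h3
    rw [← h2]
    exact ((Nat.Prime.coprime_iff_not_dvd hp.out).mpr P.not_dvd_index).symm
  apply exists_order_eq_exponent p
  intro x
  obtain ⟨h, rfl⟩ := QuotientGroup.mk_surjective x
  refine ⟨n, ?_⟩
  have h1 : (h : G) ^ (p ^ n) ∈ N := by
    rw [← hidx]
    exact Subgroup.pow_index_mem N _
  have h2 : h ^ (p ^ n) ∈ N.subgroupOf H := by
    rw [Subgroup.mem_subgroupOf]
    simpa using h1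
  have h3 : (N.subgroupOf H).map (QuotientGroup.mk' N') ≤ Cfsg.pPrimeCore p (H ⧸ N') := by
    apply le_sSup
    refine ⟨Subgroup.Normal.map (hNn.subgroupOf H) _ (QuotientGroup.mk'_surjective N'), ?_⟩
    have h4 := Subgroup.card_map_dvd (N.subgroupOf H) (QuotientGroup.mk' N')
    have h5 : Nat.card (N.subgroupOf H) ∣ Nat.card N := by
      rw [← Subgroup.card_map_of_injective H.subtype_injective (K := N.subgroupOf H),
        Subgroup.subgroupOf_map_subtype]
      exact Subgroup.card_dvd_of_le inf_le_left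
    exact Nat.Coprime.coprime_dvd_left (h4.trans h5) hcop
  rw [hcore] at h3
  have h6 : ((h ^ (p ^ n) : H) : H ⧸ N') ∈ (N.subgroupOf H).map (QuotientGroup.mk' N') :=
    ⟨_, h2, rfl⟩
  have h7 := h3 h6
  rw [Subgroup.mem_bot] at h7
  rw [← QuotientGroup.mk_pow]
  exact h7

theorem minimal_contra (p : ℕ) [hp : Fact p.Prime] (X : Type u) [Group X] [Finite X]
    (hXnot : ¬ FrobCond p X)
    (hsub : ∀ Y : Subgroup X, Y ≠ ⊤ → FrobCond p Y)
    (hquo : ∀ (M : Subgroup X) [M.Normal], M ≠ ⊥ → FrobCond p (X ⧸ M))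
    (hk : (∀ N : Subgroup X, N.Normal → (Nat.card N).Coprime p → N = ⊥) →
      ∃ k : X, orderOf k = Monoid.exponent X) : False := by
  classical
  have hp' := hp.out
  obtain ⟨Q, g, r, k, hr, hrp, hQ, hQn, hord, hgc, htop, hdisj, hcard⟩ := schmidt_core p (by
    intro K hK Q' hQ'K hQ'p x hxK hxN hcop
    have hF := hsub K hK
    have h1 := hF (Q'.subgroupOf K) hQ'p.comap_subtype ⟨x, hxK⟩ (by
      rw [Subgroup.mem_normalizer_iff]
      intro h
      rw [Subgroup.mem_subgroupOf, Subgroup.mem_subgroupOf]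
      exact Subgroup.mem_normalizer_iff.mp hxN (h : X)) (by
      have h2 := Subgroup.orderOf_coe (⟨x, hxK⟩ : K)
      rw [← h2]
      exact hcop)
    rw [Subgroup.mem_centralizer_iff]
    intro q hq
    have h3 := Subgroup.mem_centralizer_iff.mp h1 ⟨q, hQ'K hq⟩
      (Subgroup.mem_subgroupOf.mpr hq)
    exact congrArg Subtype.val h3) hXnot
  haveI := hQn
  haveI : Fact r.Prime := ⟨hr⟩
  have hgQ : ∀ q ∈ Q, g * q * g⁻¹ ∈ Q := fun q hq => hQn.conj_mem q hq g
  have hcop_rp : Nat.Coprime r p := (Nat.coprime_primes hr hp').mpr hrp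
  have h5 : ∀ (M : Subgroup X), M.Normal → M ≠ ⊥ → ∀ q ∈ Q, q⁻¹ * (g * q * g⁻¹) ∈ M := by
    intro M hMn hM q hq
    haveI := hMn
    have hF := hquo M hM
    have h1 := hF (Q.map (QuotientGroup.mk' M)) (hQ.map _) (g : X ⧸ M) (by
      have h2 : (Q.map (QuotientGroup.mk' M)).Normal :=
        hQn.map _ (QuotientGroup.mk'_surjective M)
      rw [Subgroup.normalizer_eq_top_iff.mpr h2]
      exact Subgroup.mem_top _) (by
      have h3 : orderOf (g : X ⧸ M) ∣ r ^ k := by
        rw [← hord]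
        exact orderOf_map_dvd (QuotientGroup.mk' M) g
      exact Nat.Coprime.coprime_dvd_left h3 (Nat.Coprime.pow_left _ hcop_rp))
    have h2 := Subgroup.mem_centralizer_iff.mp h1 (q : X ⧸ M) ⟨q, hq, rfl⟩
    rw [← QuotientGroup.eq_one_iff (N := M), QuotientGroup.mk_mul, QuotientGroup.mk_inv,
      QuotientGroup.mk_mul, QuotientGroup.mk_mul, QuotientGroup.mk_inv, ← h2]
    group
  have hS : (∀ q ∈ Q, (q⁻¹ * (g * q * g⁻¹)) * g = g * (q⁻¹ * (g * q * g⁻¹))) → False := by
    intro hall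
    apply hgc
    rw [Subgroup.mem_centralizer_iff]
    intro q hq
    have hd1 := hall q hq
    obtain ⟨d, hd⟩ : ∃ d, d = q⁻¹ * (g * q * g⁻¹) := ⟨_, rfl⟩
    rw [← hd] at hd1
    have hconj : g * q * g⁻¹ = q * d := by
      rw [hd]
      group
    have hdg : ∀ n : ℕ, g * d ^ n * g⁻¹ = d ^ n := by
      intro n
      have hc : Commute g (d ^ n) := (show Commute g d from hd1.symm).pow_right n
      rw [hc.eq]
      group
    have hpow : ∀ n : ℕ, g ^ n * q * (g ^ n)⁻¹ = q * d ^ n := by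
      intro n
      induction n with
      | zero => simp
      | succ n ih =>
        have h1 : g ^ (n + 1) * q * (g ^ (n + 1))⁻¹ = g * (g ^ n * q * (g ^ n)⁻¹) * g⁻¹ := by
          rw [pow_succ']
          group
        rw [h1, ih]
        calc g * (q * d ^ n) * g⁻¹ = (g * q * g⁻¹) * (g * d ^ n * g⁻¹) := by group
          _ = q * d * d ^ n := by rw [hconj, hdg]
          _ = q * d ^ (n + 1) := by rw [pow_succ', mul_assoc]
    have h1 := hpow (orderOf g)
    rw [pow_orderOf_eq_one, one_mul, inv_one, mul_one] at h1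
    have h1' : d ^ orderOf g = 1 := by
      have h2 : q * 1 = q * d ^ orderOf g := by rw [mul_one]; exact h1
      exact (mul_left_cancel h2).symm
    have hdQ : d ∈ Q := by
      rw [hd]
      exact Q.mul_mem (Q.inv_mem hq) (hgQ q hq)
    obtain ⟨j, hj⟩ := hQ ⟨d, hdQ⟩
    have hj' : d ^ (p ^ j) = 1 := congrArg Subtype.val hj
    have hd1' : d = 1 := by
      have h2 : orderOf d ∣ Nat.gcd (orderOf g) (p ^ j) :=
        Nat.dvd_gcd (orderOf_dvd_of_pow_eq_one h1') (orderOf_dvd_of_pow_eq_one hj')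
      have h3 : Nat.gcd (orderOf g) (p ^ j) = 1 := by
        rw [hord]
        exact Nat.Coprime.pow _ _ hcop_rp
      rw [h3, Nat.dvd_one] at h2
      exact orderOf_eq_one_iff.mp h2
    rw [hd1', mul_one] at hconj
    calc q * g = (g * q * g⁻¹) * g := by rw [hconj]
      _ = g * q := by group
  have h5' : ∀ (M : Subgroup X), M.Normal → M ≠ ⊥ →
      M ≤ Subgroup.centralizer ({g} : Set X) → False := by
    intro M hMn hM hMg
    apply hS
    intro q hq
    have h1 := hMg (h5 M hMn hM q hq)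
    exact (Subgroup.mem_centralizer_iff.mp h1 g rfl).symm
  have hcl1 : ∀ N : Subgroup X, N.Normal → (Nat.card N).Coprime p → N = ⊥ := by
    intro N hNn hNc
    by_contra hN
    apply hS
    intro q hq
    have h1 := h5 N hNn hN q hq
    have h2 : q⁻¹ * (g * q * g⁻¹) ∈ Q := Q.mul_mem (Q.inv_mem hq) (hgQ q hq)
    have h3 : q⁻¹ * (g * q * g⁻¹) = 1 := by
      obtain ⟨n, hn⟩ := IsPGroup.iff_card.mp hQ
      have h4 : Q ⊓ N = ⊥ := by
        apply Subgroup.inf_eq_bot_of_coprime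
        rw [hn]
        exact Nat.Coprime.pow_left _ hNc.symm
      have h6 : q⁻¹ * (g * q * g⁻¹) ∈ Q ⊓ N := ⟨h2, h1⟩
      rw [h4, Subgroup.mem_bot] at h6
      exact h6
    rw [h3, one_mul, mul_one]
  obtain ⟨k₀, hk₀⟩ := hk hcl1
  have hQ1 : Q ≠ ⊥ := by
    intro hQb
    apply hgc
    rw [hQb, Subgroup.mem_centralizer_iff]
    intro q hq
    rw [Subgroup.coe_bot, Set.mem_singleton_iff] at hq
    rw [hq, one_mul, mul_one]
  obtain ⟨n, hn⟩ := IsPGroup.iff_card.mp hQ
  have hn0 : n ≠ 0 := by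
    intro h0
    rw [h0, pow_zero] at hn
    exact hQ1 (Subgroup.card_eq_one.mp hn)
  have hpQ : p ∣ Nat.card Q := by
    rw [hn]
    exact dvd_pow_self p hn0
  obtain ⟨u, hu⟩ := exists_prime_orderOf_dvd_card' (G := Q) p hpQ
  have hpexp : p ∣ Monoid.exponent X := by
    have h1 := Monoid.order_dvd_exponent (u : X)
    rw [Subgroup.orderOf_coe, hu] at h1
    exact h1
  have hrexp : r ^ k ∣ Monoid.exponent X := by
    rw [← hord]
    exact Monoid.order_dvd_exponent g
  have hcop_pr : Nat.Coprime p (r ^ k) := Nat.Coprime.pow_right _ hcop_rp.symm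
  have hdvd : p * r ^ k ∣ orderOf k₀ := by
    rw [hk₀]
    exact Nat.Coprime.mul_dvd_of_dvd_of_dvd hcop_pr hpexp hrexp
  obtain ⟨z, hz⟩ : ∃ z : X, orderOf z = p * r ^ k :=
    ⟨k₀ ^ (orderOf k₀ / (p * r ^ k)), orderOf_pow_orderOf_div (orderOf_pos k₀).ne' hdvd⟩
  have hrk0 : r ^ k ≠ 0 := (pow_pos hr.pos k).ne'
  have hzp : orderOf (z ^ (r ^ k)) = p := by
    rw [orderOf_pow_of_dvd hrk0 (by rw [hz]; exact dvd_mul_left _ _), hz,
      Nat.mul_div_cancel _ (pow_pos hr.pos k)]
  have hzr : orderOf (z ^ p) = r ^ k := by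
    rw [orderOf_pow_of_dvd hp'.ne_zero (by rw [hz]; exact dvd_mul_right _ _), hz,
      Nat.mul_div_cancel_left _ hp'.pos]
  have hcomm : Commute (z ^ p) (z ^ (r ^ k)) := (Commute.refl z).pow_pow _ _
  have hidxQ : Q.index = r ^ k := by
    have h1 := Subgroup.card_mul_index Q
    rw [← hcard] at h1
    exact Nat.eq_of_mul_eq_mul_left Nat.card_pos h1
  have hzpQ : z ^ (r ^ k) ∈ Q := by
    apply Cfsg.Agent.S4127.mem_of_pow_mem_of_coprime Q _ p (r ^ k) hcop_pr
    · have h1 := pow_orderOf_eq_one (z ^ (r ^ k))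
      rw [hzp] at h1
      rw [h1]
      exact Q.one_mem
    · rw [← hidxQ]
      exact Subgroup.pow_index_mem Q _
  obtain ⟨⟨P, hP⟩, _⟩ := schmidt_sylows hr hrp hQ hord hcard
  have hzr_pg : IsPGroup r (Subgroup.zpowers (z ^ p)) :=
    IsPGroup.of_card (n := k) (by rw [Nat.card_zpowers, hzr])
  obtain ⟨P', hP'⟩ := hzr_pg.exists_le_sylow
  obtain ⟨x, hx⟩ := MulAction.exists_smul_eq X P P'
  have h1 : z ^ p ∈ (P' : Subgroup X) := hP' (Subgroup.mem_zpowers _)
  rw [← hx, Sylow.coe_subgroup_smul, mem_conj_smul_iff, hP] at h1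
  obtain ⟨w, hw⟩ : ∃ w, w = x⁻¹ * z ^ p * x := ⟨_, rfl⟩
  rw [← hw] at h1
  have hwo : orderOf w = r ^ k := by
    rw [← hzr, hw]
    have h2 := (MulAut.conj x⁻¹).orderOf_eq (z ^ p)
    rw [MulAut.conj_apply, inv_inv] at h2
    exact h2
  have hzw : Subgroup.zpowers w = Subgroup.zpowers g := by
    apply Subgroup.eq_of_le_of_card_ge
    · rw [Subgroup.zpowers_le]
      exact h1
    · rw [Nat.card_zpowers, Nat.card_zpowers, hwo, hord]
  have hgw : g ∈ Subgroup.zpowers w := by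
    rw [hzw]
    exact Subgroup.mem_zpowers g
  obtain ⟨i, hi⟩ := Subgroup.mem_zpowers_iff.mp hgw
  obtain ⟨q₀, hq₀⟩ : ∃ q₀, q₀ = x⁻¹ * z ^ (r ^ k) * x := ⟨_, rfl⟩
  have hq₀Q : q₀ ∈ Q := by
    have h2 := hQn.conj_mem _ hzpQ x⁻¹
    rw [inv_inv] at h2
    rw [hq₀]
    exact h2
  have hq₀1 : q₀ ≠ 1 := by
    intro h2
    have h3 : z ^ (r ^ k) = x * q₀ * x⁻¹ := by
      rw [hq₀]
      group
    rw [h2, mul_one, mul_inv_cancel] at h3
    rw [h3, orderOf_one] at hzp
    exact hp'.one_lt.ne hzp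
  have hwq : Commute w q₀ := by
    show w * q₀ = q₀ * w
    rw [hw, hq₀]
    calc x⁻¹ * z ^ p * x * (x⁻¹ * z ^ (r ^ k) * x) = x⁻¹ * (z ^ p * z ^ (r ^ k)) * x := by group
      _ = x⁻¹ * (z ^ (r ^ k) * z ^ p) * x := by rw [hcomm.eq]
      _ = x⁻¹ * z ^ (r ^ k) * x * (x⁻¹ * z ^ p * x) := by group
  have hgq : Commute g q₀ := by
    rw [← hi]
    exact hwq.zpow_left i
  -- the centre of Q
  have hZn : (Q ⊓ Subgroup.centralizer (Q : Set X)).Normal := by
    constructor
    intro c hc y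
    refine Subgroup.mem_inf.mpr ⟨hQn.conj_mem c hc.1 y, ?_⟩
    rw [Subgroup.mem_centralizer_iff]
    intro q hq
    have h2 : y⁻¹ * q * y ∈ Q := by
      have h3 := hQn.conj_mem q hq y⁻¹
      rw [inv_inv] at h3
      exact h3
    have h3 := Subgroup.mem_centralizer_iff.mp hc.2 _ h2
    calc q * (y * c * y⁻¹) = y * ((y⁻¹ * q * y) * c) * y⁻¹ := by group
      _ = y * (c * (y⁻¹ * q * y)) * y⁻¹ := by rw [h3]
      _ = y * c * y⁻¹ * q := by group
  have hZ1 : Q ⊓ Subgroup.centralizer (Q : Set X) ≠ ⊥ := by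
    haveI : Nontrivial Q := (Subgroup.nontrivial_iff_ne_bot Q).mpr hQ1
    haveI := hQ.center_nontrivial
    obtain ⟨c, hc⟩ := exists_ne (1 : Subgroup.center Q)
    intro hbot
    apply hc
    have h2 : ((c : Q) : X) ∈ Q ⊓ Subgroup.centralizer (Q : Set X) := by
      refine Subgroup.mem_inf.mpr ⟨(c : Q).2, ?_⟩
      rw [Subgroup.mem_centralizer_iff]
      intro q hq
      have h3 := Subgroup.mem_center_iff.mp c.2 ⟨q, hq⟩
      exact congrArg Subtype.val h3
    rw [hbot, Subgroup.mem_bot] at h2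
    exact Subtype.ext (Subtype.ext h2)
  have h6 : ∀ q ∈ Q, q⁻¹ * (g * q * g⁻¹) ∈ Q ⊓ Subgroup.centralizer (Q : Set X) :=
    h5 _ hZn hZ1
  have hθmul : ∀ a ∈ Q, ∀ b ∈ Q, (a * b)⁻¹ * (g * (a * b) * g⁻¹)
      = (a⁻¹ * (g * a * g⁻¹)) * (b⁻¹ * (g * b * g⁻¹)) := by
    intro a ha b hb
    have hc := Subgroup.mem_centralizer_iff.mp (h6 a ha).2 b⁻¹ (Q.inv_mem hb)
    calc (a * b)⁻¹ * (g * (a * b) * g⁻¹)
        = (b⁻¹ * (a⁻¹ * (g * a * g⁻¹))) * (g * b * g⁻¹) := by group
      _ = ((a⁻¹ * (g * a * g⁻¹)) * b⁻¹) * (g * b * g⁻¹) := by rw [hc]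
      _ = (a⁻¹ * (g * a * g⁻¹)) * (b⁻¹ * (g * b * g⁻¹)) := by group
  have hθone : ∀ e : X, e⁻¹ * (g * e * g⁻¹) = 1 → g * e = e * g := by
    intro e he
    have h2 : g * e * g⁻¹ = e := by
      calc g * e * g⁻¹ = e * (e⁻¹ * (g * e * g⁻¹)) := by group
        _ = e := by rw [he, mul_one]
    calc g * e = (g * e * g⁻¹) * g := by group
      _ = e * g := by rw [h2]
  have h7 : ∀ c ∈ Q ⊓ Subgroup.centralizer (Q : Set X), g * c = c * g → c = 1 := by
    intro c hc hcg
    by_contra hc1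
    apply h5' (Q ⊓ Subgroup.centralizer (Q : Set X) ⊓ Subgroup.centralizer ({g} : Set X)) ?_ ?_
      inf_le_right
    · have hcen : ∀ y ∈ (Q ⊓ Subgroup.centralizer (Q : Set X) ⊓
          Subgroup.centralizer ({g} : Set X)), ∀ t : X, t * y = y * t := by
        intro y hy t
        have ht : t ∈ Q ⊔ Subgroup.zpowers g := by
          rw [htop]
          exact Subgroup.mem_top t
        have hle : Q ⊔ Subgroup.zpowers g ≤ Subgroup.centralizer ({y} : Set X) := by
          apply sup_le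
          · intro q hq
            rw [Subgroup.mem_centralizer_iff]
            intro s hs
            rw [Set.mem_singleton_iff] at hs
            rw [hs]
            exact (Subgroup.mem_centralizer_iff.mp hy.1.2 q hq).symm
          · rw [Subgroup.zpowers_le, Subgroup.mem_centralizer_iff]
            intro s hs
            rw [Set.mem_singleton_iff] at hs
            rw [hs]
            exact (Subgroup.mem_centralizer_iff.mp hy.2 g rfl).symm
        exact (Subgroup.mem_centralizer_iff.mp (hle ht) y rfl).symm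
      constructor
      intro y hy t
      have h2 : t * y * t⁻¹ = y := by
        rw [hcen y hy t]
        group
      rw [h2]
      exact hy
    · intro hbot
      apply hc1
      have h2 : c ∈ Q ⊓ Subgroup.centralizer (Q : Set X) ⊓
          Subgroup.centralizer ({g} : Set X) := by
        refine Subgroup.mem_inf.mpr ⟨hc, ?_⟩
        rw [Subgroup.mem_centralizer_iff]
        intro s hs
        rw [Set.mem_singleton_iff] at hs
        rw [hs]
        exact hcg
      rw [hbot, Subgroup.mem_bot] at h2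
      exact h2
  -- every element of Q is (central) * (fixed)
  have hφinj : Function.Injective (fun c : (Q ⊓ Subgroup.centralizer (Q : Set X) : Subgroup X) =>
      (⟨(c : X)⁻¹ * (g * (c : X) * g⁻¹), h6 (c : X) c.2.1⟩ :
        (Q ⊓ Subgroup.centralizer (Q : Set X) : Subgroup X))) := by
    intro c c' hcc
    have h2 : (c : X)⁻¹ * (g * (c : X) * g⁻¹) = (c' : X)⁻¹ * (g * (c' : X) * g⁻¹) :=
      congrArg Subtype.val hcc
    have he : (c' : X)⁻¹ * (c : X) ∈ Q ⊓ Subgroup.centralizer (Q : Set X) :=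
      Subgroup.mul_mem _ (Subgroup.inv_mem _ c'.2) c.2
    have h3 := hθmul (c' : X) c'.2.1 ((c' : X)⁻¹ * (c : X)) he.1
    rw [mul_inv_cancel_left, h2] at h3
    have h4 : ((c' : X)⁻¹ * (c : X))⁻¹ * (g * ((c' : X)⁻¹ * (c : X)) * g⁻¹) = 1 := by
      have h8 : (c' : X)⁻¹ * (g * (c' : X) * g⁻¹) * 1 = (c' : X)⁻¹ * (g * (c' : X) * g⁻¹) *
          (((c' : X)⁻¹ * (c : X))⁻¹ * (g * ((c' : X)⁻¹ * (c : X)) * g⁻¹)) := by
        rw [mul_one]
        exact h3
      exact (mul_left_cancel h8).symm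
    have h9 := h7 _ he (hθone _ h4)
    apply Subtype.ext
    have h10 : (c : X) = (c' : X) * ((c' : X)⁻¹ * (c : X)) := by group
    rw [h10, h9, mul_one]
  have hφsurj := Finite.injective_iff_surjective.mp hφinj
  have hdecomp : ∀ q ∈ Q, ∃ c ∈ Q ⊓ Subgroup.centralizer (Q : Set X),
      ∃ e ∈ Q ⊓ Subgroup.centralizer ({g} : Set X), q = c * e := by
    intro q hq
    obtain ⟨c, hc⟩ := hφsurj ⟨q⁻¹ * (g * q * g⁻¹), h6 q hq⟩
    have h2 : (c : X)⁻¹ * (g * (c : X) * g⁻¹) = q⁻¹ * (g * q * g⁻¹) := congrArg Subtype.val hc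
    have heQ : (c : X)⁻¹ * q ∈ Q := Q.mul_mem (Q.inv_mem c.2.1) hq
    have h3 := hθmul (c : X) c.2.1 ((c : X)⁻¹ * q) heQ
    rw [mul_inv_cancel_left, h2] at h3
    have h4 : ((c : X)⁻¹ * q)⁻¹ * (g * ((c : X)⁻¹ * q) * g⁻¹) = 1 := by
      have h8 : q⁻¹ * (g * q * g⁻¹) * 1 = q⁻¹ * (g * q * g⁻¹) *
          (((c : X)⁻¹ * q)⁻¹ * (g * ((c : X)⁻¹ * q) * g⁻¹)) := by
        rw [mul_one]
        exact h3
      exact (mul_left_cancel h8).symm
    refine ⟨(c : X), c.2, (c : X)⁻¹ * q, Subgroup.mem_inf.mpr ⟨heQ, ?_⟩, by group⟩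
    rw [Subgroup.mem_centralizer_iff]
    intro s hs
    rw [Set.mem_singleton_iff] at hs
    rw [hs]
    exact hθone _ h4
  have hM2n : (Q ⊓ Subgroup.centralizer ({g} : Set X)).Normal := by
    constructor
    intro m hm y
    have hy : y ∈ Q ⊔ Subgroup.zpowers g := by
      rw [htop]
      exact Subgroup.mem_top y
    obtain ⟨q, hq, t, ht, rfl⟩ := Subgroup.mem_sup_of_normal_left.mp hy
    have htm : t * m = m * t := by
      have hle : Subgroup.zpowers g ≤ Subgroup.centralizer ({m} : Set X) := by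
        rw [Subgroup.zpowers_le, Subgroup.mem_centralizer_iff]
        intro s hs
        rw [Set.mem_singleton_iff] at hs
        rw [hs]
        exact (Subgroup.mem_centralizer_iff.mp hm.2 g rfl).symm
      exact (Subgroup.mem_centralizer_iff.mp (hle ht) m rfl).symm
    obtain ⟨c, hc, e, he, rfl⟩ := hdecomp q hq
    have hem : e * m * e⁻¹ ∈ Q ⊓ Subgroup.centralizer ({g} : Set X) :=
      Subgroup.mul_mem _ (Subgroup.mul_mem _ he hm) (Subgroup.inv_mem _ he)
    have hcc := Subgroup.mem_centralizer_iff.mp hc.2 _ hem.1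
    have h2 : c * e * t * m * (c * e * t)⁻¹ = e * m * e⁻¹ := by
      calc c * e * t * m * (c * e * t)⁻¹ = c * e * (t * m) * t⁻¹ * e⁻¹ * c⁻¹ := by group
        _ = c * e * (m * t) * t⁻¹ * e⁻¹ * c⁻¹ := by rw [htm]
        _ = c * (e * m * e⁻¹) * c⁻¹ := by group
        _ = (e * m * e⁻¹) * c * c⁻¹ := by rw [← hcc]
        _ = e * m * e⁻¹ := by group
    rw [h2]
    exact hem
  have hM21 : Q ⊓ Subgroup.centralizer ({g} : Set X) ≠ ⊥ := by
    intro hbot
    apply hq₀1
    have h2 : q₀ ∈ Q ⊓ Subgroup.centralizer ({g} : Set X) := by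
      refine Subgroup.mem_inf.mpr ⟨hq₀Q, ?_⟩
      rw [Subgroup.mem_centralizer_iff]
      intro s hs
      rw [Set.mem_singleton_iff] at hs
      rw [hs]
      exact hgq.eq
    rw [hbot, Subgroup.mem_bot] at h2
    exact h2
  exact h5' _ hM2n hM21 inf_le_right

theorem backward {G : Type u} [Group G] [Finite G] (p : ℕ) [hp : Fact p.Prime]
    (h : ∀ (H : Subgroup G) (N : Subgroup H) [N.Normal], Cfsg.pPrimeCore p (H ⧸ N) = ⊥ →
        ∃ k : H ⧸ N, orderOf k = Monoid.exponent (H ⧸ N)) : FrobCond p G := by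
  classical
  by_contra hG
  have hex : ∃ n : ℕ, ∃ (X : Type u) (_ : Group X) (_ : Finite X),
      IsSection G X ∧ Nat.card X = n ∧ ¬ FrobCond p X :=
    ⟨Nat.card G, G, inferInstance, inferInstance, isSection_self G, rfl, hG⟩
  obtain ⟨X, _, _, hsec, hcardX, hXnot⟩ := Nat.find_spec hex
  have hmin : ∀ (Y : Type u) [Group Y] [Finite Y], IsSection G Y →
      Nat.card Y < Nat.card X → FrobCond p Y := by
    intro Y _ _ hY hlt
    by_contra hYnot
    have h1 := Nat.find_min' hex ⟨Y, inferInstance, inferInstance, hY, rfl, hYnot⟩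
    omega
  apply minimal_contra p X hXnot
  · intro Y hY
    apply hmin Y (hsec.subgroup Y)
    have h1 := Subgroup.card_le_card_group Y
    have h2 : Nat.card Y ≠ Nat.card X := fun h3 => hY ((Subgroup.card_eq_iff_eq_top Y).mp h3)
    omega
  · intro M _ hM
    apply hmin (X ⧸ M) (hsec.quotient M)
    have h1 := Subgroup.card_mul_index M
    have h2 : 1 < Nat.card M := (Subgroup.one_lt_card_iff_ne_bot M).mpr hM
    have h3 : 0 < M.index := Nat.pos_of_ne_zero Subgroup.index_ne_zero_of_finite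
    show M.index < Nat.card X
    nlinarith
  · intro hcl
    obtain ⟨K, R, hRn, ⟨e⟩⟩ := hsec
    haveI := hRn
    have hcore : Cfsg.pPrimeCore p (↥K ⧸ R.subgroupOf K) = ⊥ := by
      unfold Cfsg.pPrimeCore
      rw [sSup_eq_bot]
      rintro N ⟨hNn, hNc⟩
      have h1 := hcl (N.map e.symm.toMonoidHom) (hNn.map _ e.symm.surjective) (by
        rw [Subgroup.card_map_of_injective e.symm.injective]
        exact hNc)
      exact (Subgroup.map_eq_bot_iff_of_injective N e.symm.injective).mp h1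
    obtain ⟨k', hk'⟩ := h K (R.subgroupOf K) hcore
    refine ⟨e.symm k', ?_⟩
    rw [MulEquiv.orderOf_eq, hk']
    exact (Monoid.exponent_eq_of_mulEquiv e).symm

/-- Let G be a finite group and p a prime. Then G has a normal p-complement if and only if every section K = H/N of G (N a normal subgroup of a subgroup H) whose largest normal subgroup of order prime to p is trivial contains an element whose order equals the exponent of K. -/
theorem result {G : Type*} [Group G] [Finite G] (p : ℕ) [Fact p.Prime] :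
    Cfsg.HasNormalPComplement p G ↔
      ∀ (H : Subgroup G) (N : Subgroup H) [N.Normal], Cfsg.pPrimeCore p (H ⧸ N) = ⊥ →
        ∃ k : H ⧸ N, orderOf k = Monoid.exponent (H ⧸ N) := by
  constructor
  · intro hnc H N _ hcore
    exact forward p hnc H N hcore
  · intro h
    have hF := backward p h
    obtain ⟨P⟩ : Nonempty (Sylow p G) := inferInstance
    exact ⟨P, Cfsg.pResidual p G, pResidual_normal p, frobCond_isComplement' hF P⟩

end Cfsg.Agent.S4238
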