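import Cfsg.Statements.S4242
import Cfsg.Agent.Lib.Helper1.FpfMain
import Cfsg.Agent.Lib.Helper24.Coprime
import Cfsg.Agent.Lib.Helper24.Solvable
import Cfsg.Agent.Lib.Helper20.OrbitCard

set_option autoImplicit false
open Cfsg

namespace Cfsg.Agent.S4242

open Cfsg.Agent.Lib.Helper1

section aux

variable {G : Type*} [Group G]

/-- a subgroup of a nilpotent subgroup is nilpotent -/
theorem nilp_of_le {H M : Subgroup G} (h : H ≤ M) (hM : Group.IsNilpotent M) :
    Group.IsNilpotent H := by
  have hinj : Function.Injective (Subgroup.inclusion h) := Subgroup.inclusion_injective h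
  haveI := hM
  exact Group.nilpotent_of_mulEquiv (MonoidHom.ofInjective hinj).symm

/-- in a nilpotent subgroup, an element of order prime to `p` normalizing a `p`-subgroup
centralizes it -/
theorem comm_of_nilp [Finite G] {p : ℕ} [Fact p.Prime] {M : Subgroup G}
    (hM : Group.IsNilpotent M) {Q : Subgroup G} (hQM : Q ≤ M) (hQ : IsPGroup p Q) {g : G}
    (hgM : g ∈ M) (hgN : g ∈ Subgroup.normalizer (Q : Set G)) (hcop : (orderOf g).Coprime p) :
    ∀ x ∈ Q, x * g = g * x := by
  haveI := hM
  have hF : FrobCond p ↥M := frobCond_of_isNilpotent p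
  have h1 := hF (Q.subgroupOf M) hQ.comap_subtype ⟨g, hgM⟩ (by
    rw [Subgroup.mem_normalizer_iff]
    intro h
    rw [Subgroup.mem_subgroupOf, Subgroup.mem_subgroupOf]
    exact (Subgroup.mem_normalizer_iff.mp hgN) (h : G)) (by
    rw [Subgroup.orderOf_mk]
    exact hcop)
  intro x hx
  have h2 := Subgroup.mem_centralizer_iff.mp h1 ⟨x, hQM hx⟩ (by
    show (⟨x, hQM hx⟩ : M) ∈ Q.subgroupOf M
    rw [Subgroup.mem_subgroupOf]
    exact hx)
  exact congrArg Subtype.val h2

/-- every proper subgroup lies in a maximal subgroup -/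
theorem exists_coatom_ge [Finite G] {L : Subgroup G} (hL : L ≠ ⊤) :
    ∃ M : Subgroup G, IsCoatom M ∧ L ≤ M := by
  rcases eq_top_or_exists_le_coatom L with h | ⟨M, hM, hLM⟩
  · exact absurd h hL
  · exact ⟨M, hM, hLM⟩

/-- a nontrivial `p`-group has order divisible by `p` -/
theorem dvd_card_of_ne_bot [Finite G] {p : ℕ} [Fact p.Prime] {R : Subgroup G} (hRp : IsPGroup p R)
    (hR1 : R ≠ ⊥) : p ∣ Nat.card R := by
  obtain ⟨k, hk⟩ := IsPGroup.iff_card.mp hRp
  have hk0 : k ≠ 0 := by
    rintro rfl
    rw [pow_zero] at hk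
    exact hR1 (Subgroup.eq_bot_of_card_eq R hk)
  rw [hk]
  exact dvd_pow_self p hk0

end aux

/-- Let G be a finite group and p a prime dividing its order. Every maximal subgroup of G of order divisible by p is nilpotent if and only if G is nilpotent, or G is a minimal non-nilpotent group, or G is the internal direct product of a normal subgroup of order p and a normal minimal non-nilpotent subgroup of order prime to p. -/
theorem result {G : Type*} [Group G] [Finite G] (p : ℕ) (hp : p.Prime) (hpG : p ∣ Nat.card G) :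
    (∀ M : Subgroup G, IsCoatom M → p ∣ Nat.card M → Group.IsNilpotent M) ↔
      (Group.IsNilpotent G ∨ Cfsg.IsMinimalNonNilpotent G ∨
        ∃ Z K : Subgroup G, Z.Normal ∧ K.Normal ∧ Z ⊓ K = ⊥ ∧ Z ⊔ K = ⊤ ∧ Nat.card Z = p ∧
          Cfsg.IsMinimalNonNilpotent K ∧ ¬ p ∣ Nat.card K) := by
  classical
  haveI : Fact p.Prime := ⟨hp⟩
  constructor
  · intro hyp
    by_cases hnil : Group.IsNilpotent G
    · exact Or.inl hnil
    right
    by_cases hall : ∀ M : Subgroup G, IsCoatom M → Group.IsNilpotent M
    · left
      refine ⟨hnil, fun H hH => ?_⟩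
      obtain ⟨M, hM, hHM⟩ := exists_coatom_ge hH
      exact nilp_of_le hHM (hall M hM)
    right
    obtain ⟨M₀, hM₀, hM₀nil⟩ : ∃ M₀ : Subgroup G, IsCoatom M₀ ∧ ¬ Group.IsNilpotent M₀ := by
      by_contra hno
      apply hall
      intro M hM
      by_contra hMn
      exact hno ⟨M, hM, hMn⟩
    have hpM₀ : ¬ p ∣ Nat.card M₀ := fun h => hM₀nil (hyp M₀ hM₀ h)
    have hordM₀ : ∀ g ∈ M₀, (orderOf g).Coprime p := by
      intro g hg
      have h1 : orderOf g ∣ Nat.card M₀ := by
        have := orderOf_dvd_natCard (⟨g, hg⟩ : M₀)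
        rwa [Subgroup.orderOf_mk] at this
      exact Nat.Coprime.coprime_dvd_left h1 ((Nat.Prime.coprime_iff_not_dvd hp).mpr hpM₀).symm
    have hprop : ∀ L : Subgroup G, L ≠ ⊤ → p ∣ Nat.card L →
        ∃ M : Subgroup G, L ≤ M ∧ Group.IsNilpotent M := by
      intro L hL hpL
      obtain ⟨M, hM, hLM⟩ := exists_coatom_ge hL
      exact ⟨M, hLM, hyp M hM (hpL.trans (Subgroup.card_dvd_of_le hLM))⟩
    by_cases hR : ∃ R : Subgroup G, R.Normal ∧ IsPGroup p R ∧ R ≠ ⊥
    · -- there is a nontrivial normal p-subgroup
      obtain ⟨R, hRn, hRp, hR1⟩ := hR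
      haveI := hRn
      have hpR : p ∣ Nat.card R := dvd_card_of_ne_bot hRp hR1
      have hRM₀ : R ⊓ M₀ = ⊥ := by
        rw [eq_bot_iff]
        intro x hx
        obtain ⟨hxR, hxM⟩ := Subgroup.mem_inf.mp hx
        rw [Subgroup.mem_bot]
        obtain ⟨k, hk⟩ := hRp ⟨x, hxR⟩
        have hk' : x ^ p ^ k = 1 := by
          have := congrArg Subtype.val hk
          simpa using this
        have h1 : orderOf x ∣ p ^ k := orderOf_dvd_of_pow_eq_one hk'
        have h2 : (orderOf x).Coprime (p ^ k) := Nat.Coprime.pow_right k (hordM₀ x hxM)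
        exact orderOf_eq_one_iff.mp (h2.eq_one_of_dvd h1)
      have hsub : ∀ M₁ : Subgroup G, M₁ ≤ M₀ → M₁ ≠ M₀ →
          Group.IsNilpotent M₁ ∧ ∀ x ∈ R, ∀ g ∈ M₁, x * g = g * x := by
        intro M₁ hle hne
        have hLtop : R ⊔ M₁ ≠ ⊤ := by
          intro htop
          apply hne
          apply le_antisymm hle
          intro m hm
          have hm' : m ∈ R ⊔ M₁ := htop ▸ Subgroup.mem_top m
          obtain ⟨r, hr, m₁, hm₁, rfl⟩ := Subgroup.mem_sup_of_normal_left.mp hm'
          have hrM : r ∈ M₀ := by
            have e : r = (r * m₁) * m₁⁻¹ := by group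
            rw [e]
            exact M₀.mul_mem hm (M₀.inv_mem (hle hm₁))
          have hr1 : r ∈ R ⊓ M₀ := Subgroup.mem_inf.mpr ⟨hr, hrM⟩
          rw [hRM₀, Subgroup.mem_bot] at hr1
          rw [hr1, one_mul]
          exact hm₁
        have hpL : p ∣ Nat.card ↥(R ⊔ M₁) := hpR.trans (Subgroup.card_dvd_of_le le_sup_left)
        obtain ⟨M, hLM, hMnil⟩ := hprop _ hLtop hpL
        refine ⟨nilp_of_le (le_sup_right.trans hLM) hMnil, ?_⟩
        intro x hx g hg
        exact comm_of_nilp hMnil (le_sup_left.trans hLM) hRp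
          (hLM ((le_sup_right : M₁ ≤ R ⊔ M₁) hg))
          (by rw [Subgroup.normalizer_eq_top_iff.mpr hRn]; exact Subgroup.mem_top g)
          (hordM₀ g (hle hg)) x hx
      have hcent : ∀ x ∈ R, ∀ g ∈ M₀, x * g = g * x := by
        intro x hx g hg
        by_cases hz : Subgroup.zpowers g = M₀
        · exfalso
          apply hM₀nil
          have hcyc := Cfsg.Agent.Lib.Helper24.nilpotent_of_comm (Subgroup.zpowers g) (by
            intro a ha b hb
            obtain ⟨i, rfl⟩ := Subgroup.mem_zpowers_iff.mp ha
            obtain ⟨j, rfl⟩ := Subgroup.mem_zpowers_iff.mp hb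
            rw [← zpow_add, ← zpow_add, add_comm])
          rwa [hz] at hcyc
        · exact (hsub (Subgroup.zpowers g) (by rw [Subgroup.zpowers_le]; exact hg) hz).2 x hx g
            (Subgroup.mem_zpowers g)
      have hsup : R ⊔ M₀ = ⊤ := by
        have hlt : M₀ < R ⊔ M₀ := by
          refine lt_of_le_of_ne le_sup_right ?_
          intro h
          have hRle : R ≤ M₀ := by rw [h]; exact le_sup_left
          apply hR1
          rw [← hRM₀]
          exact (inf_eq_left.mpr hRle).symm
        exact hM₀.2 _ hlt
      have hM₀n : M₀.Normal := by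
        rw [← Subgroup.normalizer_eq_top_iff, eq_top_iff, ← hsup]
        apply sup_le
        · apply Cfsg.Agent.Lib.Helper24.le_normalizer_of_conj_mem
          intro x hx g hg
          have := hcent x hx g hg
          have e : x * g * x⁻¹ = g := by rw [this]; group
          rw [e]; exact hg
        · exact Subgroup.le_normalizer
      have hRcard : Nat.card R = p := by
        obtain ⟨z, hz⟩ := exists_prime_orderOf_dvd_card' (G := R) p hpR
        have hz1 : (z : G) ≠ 1 := by
          intro h
          have : z = 1 := Subtype.ext h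
          rw [this, orderOf_one] at hz
          exact hp.one_lt.ne hz
        have hzM : (z : G) ∉ M₀ := by
          intro h
          have : (z : G) ∈ R ⊓ M₀ := Subgroup.mem_inf.mpr ⟨z.2, h⟩
          rw [hRM₀, Subgroup.mem_bot] at this
          exact hz1 this
        have hsup2 : Subgroup.zpowers (z : G) ⊔ M₀ = ⊤ := by
          apply hM₀.2
          refine lt_of_le_of_ne le_sup_right ?_
          intro h
          apply hzM
          rw [h]
          exact (le_sup_left : Subgroup.zpowers (z : G) ≤ _) (Subgroup.mem_zpowers _)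
        have hRle : R ≤ Subgroup.zpowers (z : G) := by
          intro r hr
          have hr' : r ∈ Subgroup.zpowers (z : G) ⊔ M₀ := hsup2 ▸ Subgroup.mem_top r
          obtain ⟨a, ha, m, hm, rfl⟩ := Subgroup.mem_sup_of_normal_right.mp hr'
          have haR : a ∈ R := by
            obtain ⟨i, rfl⟩ := Subgroup.mem_zpowers_iff.mp ha
            exact R.zpow_mem z.2 i
          have hmR : m ∈ R ⊓ M₀ := by
            refine Subgroup.mem_inf.mpr ⟨?_, hm⟩
            have e : m = a⁻¹ * (a * m) := by group
            rw [e]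
            exact R.mul_mem (R.inv_mem haR) hr
          rw [hRM₀, Subgroup.mem_bot] at hmR
          rw [hmR, mul_one]
          exact ha
        have hzle : Subgroup.zpowers (z : G) ≤ R := by rw [Subgroup.zpowers_le]; exact z.2
        have heq : R = Subgroup.zpowers (z : G) := le_antisymm hRle hzle
        have hc : Nat.card R = Nat.card (Subgroup.zpowers (z : G)) :=
          congrArg (fun X : Subgroup G => Nat.card X) heq
        rw [hc, Nat.card_zpowers, Subgroup.orderOf_coe, hz]
      refine ⟨R, M₀, hRn, hM₀n, hRM₀, hsup, hRcard, ⟨hM₀nil, ?_⟩, hpM₀⟩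
      intro H hH
      have hle : H.map M₀.subtype ≤ M₀ := Subgroup.map_subtype_le H
      have hne : H.map M₀.subtype ≠ M₀ := by
        intro h
        apply hH
        rw [eq_top_iff]
        intro x _
        have hx : (x : G) ∈ H.map M₀.subtype := by rw [h]; exact x.2
        obtain ⟨y, hy, hyx⟩ := hx
        have : y = x := Subtype.ext hyx
        rw [← this]; exact hy
      haveI := (hsub _ hle hne).1
      exact Group.nilpotent_of_mulEquiv
        (H.equivMapOfInjective M₀.subtype M₀.subtype_injective).symm
    · -- no nontrivial normal p-subgroup: impossible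
      exfalso
      have hF : FrobCond p G := by
        intro Q hQ g hg hcop
        rw [Subgroup.mem_centralizer_iff]
        intro x hx
        by_cases hQ1 : Q = ⊥
        · have hx1 : x = 1 := by
            have : x ∈ Q := hx
            rw [hQ1, Subgroup.mem_bot] at this
            exact this
          rw [hx1, one_mul, mul_one]
        have hNtop : Subgroup.normalizer (Q : Set G) ≠ ⊤ := by
          intro h
          exact hR ⟨Q, Subgroup.normalizer_eq_top_iff.mp h, hQ, hQ1⟩
        have hpQ : p ∣ Nat.card Q := dvd_card_of_ne_bot hQ hQ1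
        obtain ⟨M, hNM, hMnil⟩ := hprop _ hNtop
          (hpQ.trans (Subgroup.card_dvd_of_le Subgroup.le_normalizer))
        exact comm_of_nilp hMnil (Subgroup.le_normalizer.trans hNM) hQ (hNM hg) hg hcop x hx
      obtain ⟨K, hKn, hKcop, k, hKidx⟩ := frobCond_iff_npc.mp hF
      haveI := hKn
      have hM₀K : M₀ ≤ K := by
        intro g hg
        apply mem_of_pow_mem_of_coprime (Subgroup.pow_index_mem K g)
        rw [hKidx]
        exact Nat.Coprime.pow_right k (hordM₀ g hg)
      have hpK : ¬ p ∣ Nat.card K := (Nat.Prime.coprime_iff_not_dvd hp).mp hKcop.symm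
      have hKtop : K ≠ ⊤ := by
        intro h
        rw [h, Subgroup.card_top] at hpK
        exact hpK hpG
      have hKM₀ : K = M₀ := by
        rcases hM₀.le_iff.mp hM₀K with h | h
        · exact absurd h hKtop
        · exact h
      obtain ⟨P⟩ : Nonempty (Sylow p G) := inferInstance
      have hq : ∀ q : ℕ, q.Prime → q ≠ p → ∃ Rq : Subgroup G,
          (∀ x ∈ Rq, ∀ u ∈ (P : Subgroup G), x * u = u * x) ∧ ¬ q ∣ Rq.index := by
        intro q hqp hqne
        haveI : Fact q.Prime := ⟨hqp⟩
        obtain ⟨Rq, hRqK, hRqq, hRqidx, hPRq⟩ :=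
          Cfsg.Agent.Lib.Helper24.exists_invariant_sylow p q K (P : Subgroup G) P.isPGroup'
            (by rw [Subgroup.normalizer_eq_top_iff.mpr hKn]; exact le_top) hpK
        have hLtop : (P : Subgroup G) ⊔ Rq ≠ ⊤ := by
          intro htop
          have hcard := Cfsg.Agent.Lib.Helper20.card_sup_mul_card_inf_of_le_normalizer hPRq
          have hdisj : (P : Subgroup G) ⊓ Rq = ⊥ :=
            (IsPGroup.disjoint_of_ne p q hqne.symm _ _ P.isPGroup' hRqq).eq_bot
          rw [hdisj, Subgroup.card_bot, mul_one, htop, Subgroup.card_top] at hcard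
          obtain ⟨j, hj⟩ := IsPGroup.iff_card.mp P.isPGroup'
          have h1 : Nat.card K ∣ Nat.card (P : Subgroup G) * Nat.card Rq := by
            rw [← hcard]; exact Subgroup.card_subgroup_dvd_card K
          rw [hj] at h1
          have h2 : Nat.card K ∣ Nat.card Rq :=
            (Nat.Coprime.pow_right j hKcop).dvd_of_dvd_mul_left h1
          have h3 : Rq = K := Subgroup.eq_of_le_of_card_ge hRqK (Nat.le_of_dvd Nat.card_pos h2)
          apply hM₀nil
          rw [← hKM₀, ← h3]
          exact hRqq.isNilpotent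
        have hpL : p ∣ Nat.card ↥((P : Subgroup G) ⊔ Rq) :=
          (P.dvd_card_of_dvd_card hpG).trans (Subgroup.card_dvd_of_le le_sup_left)
        obtain ⟨M, hLM, hMnil⟩ := hprop _ hLtop hpL
        refine ⟨Rq, ?_, ?_⟩
        · intro x hx u hu
          have hucop : (orderOf u).Coprime q := by
            have := P.isPGroup'.orderOf_coprime ((Nat.coprime_primes hp hqp).mpr hqne.symm)
              (⟨u, hu⟩ : (P : Subgroup G))
            rwa [Subgroup.orderOf_mk] at this
          exact comm_of_nilp (p := q) hMnil (le_sup_right.trans hLM) hRqq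
            (hLM ((le_sup_left : (P : Subgroup G) ≤ (P : Subgroup G) ⊔ Rq) hu)) (hPRq hu) hucop x hx
        · have h1 : Rq.relIndex K * K.index = Rq.index := Subgroup.relIndex_mul_index hRqK
          rw [← h1, hKidx]
          intro hdvd
          rcases (Nat.Prime.dvd_mul hqp).mp hdvd with h | h
          · exact hRqidx h
          · exact hqne ((Nat.prime_dvd_prime_iff_eq hqp hp).mp (hqp.dvd_of_dvd_pow h))
      have hPnormal : (P : Subgroup G).Normal := by
        rw [← Subgroup.normalizer_eq_top_iff, ← Subgroup.index_eq_one]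
        by_contra hne
        obtain ⟨q, hqp, hqdvd⟩ := Nat.exists_prime_and_dvd hne
        by_cases hqe : q = p
        · rw [hqe] at hqdvd
          exact P.not_dvd_index (hqdvd.trans (Subgroup.index_dvd_of_le Subgroup.le_normalizer))
        · obtain ⟨Rq, hRc, hRidx⟩ := hq q hqp hqe
          apply hRidx
          apply hqdvd.trans
          apply Subgroup.index_dvd_of_le
          intro x hx
          apply Subgroup.centralizer_le_normalizer
          rw [Subgroup.mem_centralizer_iff]
          intro u hu
          exact (hRc x hx u hu).symm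
      exact hR ⟨P, hPnormal, P.isPGroup', P.ne_bot_of_dvd_card hpG⟩
  · rintro (hnil | hmin | ⟨Z, K, hZn, hKn, hZK, hsup, hZcard, hKmin, hpK⟩) M hM hpM
    · haveI := hnil
      infer_instance
    · exact hmin.2 M hM.1
    · haveI := hZn
      haveI := hKn
      have hcardG : Nat.card G = Nat.card Z * Nat.card K := by
        have := Cfsg.Agent.Lib.Helper21.card_sup_mul_card_inf Z K
        rw [hZK, hsup, Subgroup.card_bot, mul_one, Subgroup.card_top] at this
        exact this
      have hidxZ : Z.index = Nat.card K := by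
        have h1 := Subgroup.card_mul_index Z
        rw [hcardG] at h1
        exact Nat.eq_of_mul_eq_mul_left Nat.card_pos h1
      obtain ⟨m, hm⟩ := exists_prime_orderOf_dvd_card' (G := M) p hpM
      have hmZ : (m : G) ∈ Z := by
        apply mem_of_pow_mem_of_coprime (Subgroup.pow_index_mem Z (m : G))
        rw [hidxZ, Subgroup.orderOf_coe, hm]
        exact (Nat.Prime.coprime_iff_not_dvd hp).mpr hpK
      have hm1 : (m : G) ≠ 1 := by
        intro h
        have : m = 1 := Subtype.ext h
        rw [this, orderOf_one] at hm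
        exact hp.one_lt.ne hm
      have hZM : Z ≤ M := by
        intro z hz
        have htop := zpowers_eq_top_of_prime_card (G := Z) hZcard (g := ⟨(m : G), hmZ⟩)
          (by intro h; exact hm1 (congrArg Subtype.val h))
        have hz' : (⟨z, hz⟩ : Z) ∈ Subgroup.zpowers (⟨(m : G), hmZ⟩ : Z) :=
          htop ▸ Subgroup.mem_top _
        obtain ⟨i, hi⟩ := Subgroup.mem_zpowers_iff.mp hz'
        have e : z = (m : G) ^ i := by
          have := congrArg Subtype.val hi
          simpa using this.symm
        rw [e]
        exact M.zpow_mem m.2 i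
      have hKM : ¬ K ≤ M := by
        intro h
        apply hM.1
        rw [eq_top_iff, ← hsup]
        exact sup_le hZM h
      have hA : Group.IsNilpotent (Z.subgroupOf M) := by
        haveI : Group.IsNilpotent Z :=
          (IsPGroup.of_card (n := 1) (by rw [hZcard, pow_one])).isNilpotent
        exact Group.nilpotent_of_mulEquiv (Subgroup.subgroupOfEquivOfLe hZM).symm
      have hB : Group.IsNilpotent (K.subgroupOf M) := by
        have h1 : Group.IsNilpotent (M.subgroupOf K) :=
          hKmin.2 _ (fun h => hKM (Subgroup.subgroupOf_eq_top.mp h))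
        have h2 : Group.IsNilpotent ↥(M ⊓ K) := by
          rw [← Subgroup.inf_subgroupOf_right] at h1
          haveI := h1
          exact Group.nilpotent_of_mulEquiv (Subgroup.subgroupOfEquivOfLe (inf_le_right : M ⊓ K ≤ K))
        have h3 : Group.IsNilpotent ↥(K ⊓ M) := by rwa [inf_comm] at h2
        rw [← Subgroup.inf_subgroupOf_right]
        haveI := h3
        exact Group.nilpotent_of_mulEquiv
          (Subgroup.subgroupOfEquivOfLe (inf_le_right : K ⊓ M ≤ M)).symm
      have hAB := Cfsg.Agent.Lib.Helper24.nilpotent_sup (Z.subgroupOf M) (K.subgroupOf M) hA hB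
      have htop : Z.subgroupOf M ⊔ K.subgroupOf M = ⊤ := by
        rw [eq_top_iff]
        intro x _
        have hx : (x : G) ∈ Z ⊔ K := hsup ▸ Subgroup.mem_top _
        obtain ⟨z, hz, k, hk, hzk⟩ := Subgroup.mem_sup_of_normal_right.mp hx
        have hkM : k ∈ M := by
          have e : k = z⁻¹ * (x : G) := by rw [← hzk]; group
          rw [e]; exact M.mul_mem (M.inv_mem (hZM hz)) x.2
        have e : x = (⟨z, hZM hz⟩ : M) * ⟨k, hkM⟩ := Subtype.ext hzk.symm
        rw [e]
        exact Subgroup.mul_mem _
          ((le_sup_left : Z.subgroupOf M ≤ Z.subgroupOf M ⊔ K.subgroupOf M)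
            (Subgroup.mem_subgroupOf.mpr hz))
          ((le_sup_right : K.subgroupOf M ≤ Z.subgroupOf M ⊔ K.subgroupOf M)
            (Subgroup.mem_subgroupOf.mpr hk))
      rw [htop] at hAB
      haveI := hAB
      exact Group.nilpotent_of_mulEquiv Subgroup.topEquiv

end Cfsg.Agent.S4242
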