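import Cfsg.Statements.S4249
import Cfsg.Agent.Lib.Helper1.Kegel

set_option autoImplicit false
open Cfsg

namespace Cfsg.Agent.S4249

open Cfsg.Agent.Lib.Helper1

set_option linter.style.haveILetI false

/-- In a nilpotent group a nontrivial normal subgroup meets the centre nontrivially. -/
theorem inf_center_ne_bot_of_nilpotent {H : Type*} [Group H] [hnil : Group.IsNilpotent H]
    (Q : Subgroup H) [hQn : Q.Normal] (hQ : Q ≠ ⊥) :
    ∃ u ∈ Q, u ∈ Subgroup.center H ∧ u ≠ 1 := by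
  classical
  obtain ⟨c, hc⟩ := hnil.nilpotent'
  have hex : ∃ n, ∃ x ∈ Q, x ∈ Subgroup.upperCentralSeries H n ∧ x ≠ 1 := by
    obtain ⟨x, hx1⟩ := (Subgroup.ne_bot_iff_exists_ne_one).mp hQ
    exact ⟨c, x, x.2, by rw [hc]; exact Subgroup.mem_top _, fun h => hx1 (Subtype.ext h)⟩
  obtain ⟨x, hxQ, hxn, hx1⟩ := Nat.find_spec hex
  have hmin := fun m (hm : m < Nat.find hex) => Nat.find_min hex hm
  refine ⟨x, hxQ, ?_, hx1⟩
  rcases Nat.eq_zero_or_pos (Nat.find hex) with h0 | hpos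
  · rw [h0, Subgroup.upperCentralSeries_zero, Subgroup.mem_bot] at hxn
    exact absurd hxn hx1
  · obtain ⟨m, hm⟩ : ∃ m, Nat.find hex = m + 1 := ⟨Nat.find hex - 1, by omega⟩
    rw [hm, Subgroup.mem_upperCentralSeries_succ_iff] at hxn
    rw [Subgroup.mem_center_iff]
    intro g
    have h1 := hxn g
    rw [commutatorElement_def] at h1
    have h2 : x * g * x⁻¹ * g⁻¹ ∈ Q := by
      have h : x * g * x⁻¹ * g⁻¹ = x * (g * x⁻¹ * g⁻¹) := by group
      rw [h]
      exact Q.mul_mem hxQ (hQn.conj_mem _ (Q.inv_mem hxQ) g)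
    have h3 : x * g * x⁻¹ * g⁻¹ = 1 := by
      by_contra hne
      exact hmin m (by omega) ⟨_, h2, h1, hne⟩
    calc g * x = (x * g * x⁻¹ * g⁻¹)⁻¹ * (x * g) := by group
      _ = x * g := by rw [h3, inv_one, one_mul]

/-- A normal subgroup `H` with an element `x` such that `(h * x) ^ p = 1` for all `h ∈ H` is
nilpotent (Kegel). -/
theorem nilpotent_of_splitting_element {G : Type*} [Group G] [Finite G] {p : ℕ} (hp : p.Prime)
    (H : Subgroup G) [H.Normal] (x : G) (hx : ∀ h ∈ H, (h * x) ^ p = 1) :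
    Group.IsNilpotent H := by
  obtain ⟨φ, hφ⟩ : ∃ φ : H →* H, ∀ h : H, ((φ h : H) : G) = x * h * x⁻¹ :=
    ⟨(MulAut.conjNormal x : MulAut H).toMonoidHom, fun h => MulAut.conjNormal_apply x h⟩
  have hxp : x ^ p = 1 := by simpa using hx 1 H.one_mem
  have key1 : ∀ (n : ℕ) (h : H), ((φ^[n] h : H) : G) = x ^ n * h * (x ^ n)⁻¹ := by
    intro n
    induction n with
    | zero => intro h; simp
    | succ n ih =>
      intro h
      rw [Function.iterate_succ_apply', hφ, ih, pow_succ']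
      group
  have key2 : ∀ (n : ℕ) (h : H), ((fpfN φ n h : H) : G) * x ^ n = ((h : G) * x) ^ n := by
    intro n
    induction n with
    | zero => intro h; simp [fpfN_zero]
    | succ n ih =>
      intro h
      rw [fpfN_succ, Subgroup.coe_mul, hφ, pow_succ' ((h : G) * x), ← ih]
      group
  have hsplit : Splits φ p := by
    refine ⟨fun h => Subtype.ext ?_, fun h => Subtype.ext ?_⟩
    · rw [key1, hxp]
      simp
    · have h1 := key2 p h
      rw [hxp, mul_one, hx _ h.2] at h1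
      exact h1
  exact kegel_aux hp (Nat.card H) H φ le_rfl hsplit

open scoped IsMulCommutative in
/-- The norm computation for two elements outside `H` commuting modulo `H`. -/
theorem pow_eq_one_of_two_splitting {G : Type*} [Group G] {p : ℕ} (hp : p.Prime)
    (H A : Subgroup G) [hAn : A.Normal] (hAH : A ≤ H)
    (hAc : ∀ a ∈ A, ∀ b ∈ A, a * b = b * a)
    (hcent : ∀ h ∈ H, ∀ a ∈ A, h * a * h⁻¹ = a)
    (hout : ∀ y, y ∉ H → ∀ h ∈ H, (h * y) ^ p = 1)
    (z x : G) (hz : z ∉ H) (hzx : ∀ i : ℕ, z ^ i * x ∉ H) (hc : z * x * z⁻¹ * x⁻¹ ∈ H) :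
    ∀ u ∈ A, u ^ p = 1 := by
  haveI : IsMulCommutative A := ⟨⟨fun a b => Subtype.ext (hAc a a.2 b b.2)⟩⟩
  obtain ⟨ρ, hρ⟩ : ∃ ρ : G →* MulAut A, ∀ (g : G) (v : A), ((ρ g v : A) : G) = g * v * g⁻¹ :=
    ⟨MulAut.conjNormal, fun g v => MulAut.conjNormal_apply g v⟩
  have hρH : ∀ h ∈ H, ρ h = 1 := by
    intro h hh
    ext v
    rw [hρ, MulAut.one_apply, hcent h hh v v.2]
  have hkey : ∀ y, y ∉ H → ∀ u : A, ∏ j ∈ Finset.range p, ((ρ y) ^ j) u = 1 := by
    intro y hy u
    have h1 : ∀ n : ℕ, ((∏ j ∈ Finset.range n, ((ρ y) ^ j) u : A) : G) * y ^ n =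
        ((u : G) * y) ^ n := by
      intro n
      induction n with
      | zero => simp
      | succ n ih =>
        rw [Finset.prod_range_succ, Subgroup.coe_mul, pow_succ ((u : G) * y), ← ih, ← map_pow,
          hρ]
        group
    have h2 := h1 p
    have hyp : y ^ p = 1 := by simpa using hout y hy 1 H.one_mem
    rw [hyp, mul_one, hout y hy u (hAH u.2)] at h2
    exact Subtype.ext h2
  have hα : (ρ z) ^ p = 1 := by
    rw [← map_pow]
    have h : z ^ p = 1 := by simpa using hout z hz 1 H.one_mem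
    rw [h, map_one]
  have hcomm : Commute (ρ z) (ρ x) := by
    show ρ z * ρ x = ρ x * ρ z
    rw [← map_mul, ← map_mul]
    have h : z * x = (z * x * z⁻¹ * x⁻¹) * (x * z) := by group
    rw [h, map_mul, hρH _ hc, one_mul]
  have h2 : ∀ (i : ℕ) (u : A),
      ∏ j ∈ Finset.range p, ((ρ z) ^ (i * j)) (((ρ x) ^ j) u) = 1 := by
    intro i u
    rw [← hkey (z ^ i * x) (hzx i) u]
    apply Finset.prod_congr rfl
    intro j _
    rw [map_mul, map_pow, (hcomm.pow_left i).mul_pow, MulAut.mul_apply, ← pow_mul]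
  intro u hu
  have h3 := norm_core hp (ρ z) hα (fun j u => ((ρ x) ^ j) u) (fun u => by simp) h2 ⟨u, hu⟩
  have h4 : ∏ j ∈ Finset.Ico 1 p, ∏ m ∈ Finset.range p,
      ((ρ z) ^ m) (((ρ x) ^ j) (⟨u, hu⟩ : A)) = 1 :=
    Finset.prod_eq_one (fun j _ => hkey z hz _)
  rw [h4, mul_one] at h3
  exact congrArg Subtype.val h3

/-- Let G be a finite group and p a prime such that G is not a p-group, and suppose the Hughes subgroup H_p(G), generated by all elements g with g^p ≠ 1, is a proper subgroup. Then H_p(G) is nilpotent and has index p in G. -/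
theorem result {G : Type*} [Group G] [Finite G] (p : ℕ) (hp : p.Prime) (hG : ¬ IsPGroup p G)
    (hH : Subgroup.closure {g : G | g ^ p ≠ 1} ≠ ⊤) :
    Group.IsNilpotent (Subgroup.closure {g : G | g ^ p ≠ 1}) ∧ (Subgroup.closure {g : G | g ^ p ≠ 1}).index = p := by
  obtain ⟨H, hHdef⟩ : ∃ H : Subgroup G, H = Subgroup.closure {g : G | g ^ p ≠ 1} := ⟨_, rfl⟩
  rw [← hHdef] at hH ⊢
  haveI : Fact p.Prime := ⟨hp⟩
  have hout : ∀ g, g ∉ H → g ^ p = 1 := by
    intro g hg
    by_contra h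
    exact hg (hHdef ▸ Subgroup.subset_closure h)
  haveI hHn : H.Normal := by
    constructor
    intro h hh g
    rw [hHdef] at hh ⊢
    induction hh using Subgroup.closure_induction with
    | mem x hx =>
      apply Subgroup.subset_closure
      show (g * x * g⁻¹) ^ p ≠ 1
      rw [conj_pow]
      intro h1
      apply hx
      have h2 : x ^ p = g⁻¹ * (g * x ^ p * g⁻¹) * g := by group
      rw [h2, h1]
      group
    | one => simp
    | mul x y _ _ hx hy =>
      have h2 : g * (x * y) * g⁻¹ = (g * x * g⁻¹) * (g * y * g⁻¹) := by group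
      rw [h2]
      exact Subgroup.mul_mem _ hx hy
    | inv x _ hx =>
      have h2 : g * x⁻¹ * g⁻¹ = (g * x * g⁻¹)⁻¹ := by group
      rw [h2]
      exact Subgroup.inv_mem _ hx
  obtain ⟨x₀, hx₀⟩ : ∃ x₀, x₀ ∉ H := by
    by_contra h
    push Not at h
    exact hH (eq_top_iff.mpr fun g _ => h g)
  have houtH : ∀ y, y ∉ H → ∀ h ∈ H, (h * y) ^ p = 1 := by
    intro y hy h hh
    apply hout
    intro h'
    apply hy
    have h1 := H.mul_mem (H.inv_mem hh) h'
    rwa [inv_mul_cancel_left] at h1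
  have hnil : Group.IsNilpotent H := nilpotent_of_splitting_element hp H x₀ (houtH x₀ hx₀)
  refine ⟨hnil, ?_⟩
  have hexp : ∀ y : G ⧸ H, y ^ p = 1 := by
    intro y
    obtain ⟨g, rfl⟩ := QuotientGroup.mk_surjective y
    by_cases hg : g ∈ H
    · rw [(QuotientGroup.eq_one_iff g).mpr hg, one_pow]
    · rw [← QuotientGroup.mk_pow, hout g hg]
      rfl
  have hTp : IsPGroup p (G ⧸ H) := fun y => ⟨1, by rw [pow_one]; exact hexp y⟩
  obtain ⟨m, hm⟩ := IsPGroup.iff_card.mp hTp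
  have hidx : H.index = p ^ m := by
    rw [Subgroup.index_eq_card]
    exact hm
  rw [hidx]
  have hm0 : m ≠ 0 := by
    rintro rfl
    rw [pow_zero] at hidx
    exact hH (Subgroup.index_eq_one.mp hidx)
  by_contra hne
  have hm2 : 2 ≤ m := by
    rcases Nat.lt_or_ge m 2 with h | h
    · exfalso
      apply hne
      have h1 : m = 1 := by omega
      rw [h1, pow_one]
    · exact h
  haveI : Nontrivial (G ⧸ H) := by
    rw [← Finite.one_lt_card_iff_nontrivial, hm]
    exact Nat.one_lt_pow hm0 hp.one_lt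
  obtain ⟨zb, hzb, hzb1⟩ : ∃ zb ∈ Subgroup.center (G ⧸ H), zb ≠ 1 :=
    (Subgroup.nontrivial_iff_exists_ne_one _).mp hTp.center_nontrivial
  have hcardz : Nat.card (Subgroup.zpowers zb) = p := by
    rw [Nat.card_zpowers]
    exact orderOf_eq_prime (hexp zb) hzb1
  obtain ⟨xb, hxb⟩ : ∃ xb : G ⧸ H, xb ∉ Subgroup.zpowers zb := by
    by_contra h
    push Not at h
    have htop : Subgroup.zpowers zb = ⊤ := eq_top_iff.mpr fun g _ => h g
    rw [htop, Subgroup.card_top, hm] at hcardz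
    have h1 : p ^ 2 ≤ p ^ m := Nat.pow_le_pow_right hp.pos hm2
    have h2 : p < p ^ 2 := by
      have := hp.one_lt
      nlinarith
    omega
  obtain ⟨z, rfl⟩ := QuotientGroup.mk_surjective zb
  obtain ⟨x, rfl⟩ := QuotientGroup.mk_surjective xb
  have hzH : z ∉ H := fun h => hzb1 ((QuotientGroup.eq_one_iff z).mpr h)
  have hzxH : ∀ i : ℕ, z ^ i * x ∉ H := by
    intro i h
    apply hxb
    have h1 : ((z ^ i * x : G) : G ⧸ H) = 1 := (QuotientGroup.eq_one_iff _).mpr h
    rw [QuotientGroup.mk_mul, QuotientGroup.mk_pow] at h1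
    have h2 : (x : G ⧸ H) = ((z : G ⧸ H) ^ i)⁻¹ := eq_inv_of_mul_eq_one_right h1
    rw [h2]
    exact Subgroup.inv_mem _ (Subgroup.pow_mem _ (Subgroup.mem_zpowers _) i)
  have hcH : z * x * z⁻¹ * x⁻¹ ∈ H := by
    rw [← QuotientGroup.eq_one_iff]
    have h1 := Subgroup.mem_center_iff.mp hzb (x : G ⧸ H)
    simp only [QuotientGroup.mk_mul, QuotientGroup.mk_inv]
    rw [← h1]
    group
  obtain ⟨A, hAdef⟩ : ∃ A : Subgroup G, A = H ⊓ Subgroup.centralizer (H : Set G) := ⟨_, rfl⟩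
  haveI hAn : A.Normal := by
    rw [hAdef]
    infer_instance
  have hAH : A ≤ H := hAdef ▸ inf_le_left
  have hAC : A ≤ Subgroup.centralizer (H : Set G) := hAdef ▸ inf_le_right
  have hAc : ∀ a ∈ A, ∀ b ∈ A, a * b = b * a := by
    intro a ha b hb
    exact (Subgroup.mem_centralizer_iff.mp (hAC hb)) a (hAH ha)
  have hcent : ∀ h ∈ H, ∀ a ∈ A, h * a * h⁻¹ = a := by
    intro h hh a ha
    rw [(Subgroup.mem_centralizer_iff.mp (hAC ha)) h hh]
    group
  have hAp : ∀ u ∈ A, u ^ p = 1 :=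
    pow_eq_one_of_two_splitting hp H A hAH hAc hcent houtH z x hzH hzxH hcH
  obtain ⟨g, hg⟩ : ∃ g : G, ∀ k : ℕ, g ^ p ^ k ≠ 1 := by
    by_contra h
    push Not at h
    exact hG h
  obtain ⟨q, hq, hqdvd, hqp⟩ : ∃ q : ℕ, q.Prime ∧ q ∣ orderOf g ∧ q ≠ p := by
    by_contra h
    push Not at h
    have h1 : orderOf g ≠ 0 := (orderOf_pos g).ne'
    have hk := Nat.eq_prime_pow_of_unique_prime_dvd h1 (fun {d} hd hdvd => h d hd hdvd)
    exact hg _ (by rw [← hk, pow_orderOf_eq_one])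
  haveI : Fact q.Prime := ⟨hq⟩
  obtain ⟨g', hg'⟩ : ∃ g' : G, orderOf g' = q :=
    ⟨g ^ (orderOf g / q), orderOf_pow_orderOf_div (orderOf_pos g).ne' hqdvd⟩
  have hg'H : g' ∈ H := by
    by_contra h
    have h1 := hout g' h
    have h2 : q ∣ p := hg' ▸ orderOf_dvd_of_pow_eq_one h1
    exact hqp ((Nat.prime_dvd_prime_iff_eq hq hp).mp h2)
  have hqH : q ∣ Nat.card H := by
    have h1 : orderOf (⟨g', hg'H⟩ : H) ∣ Nat.card H := orderOf_dvd_natCard _
    rwa [Subgroup.orderOf_mk, hg'] at h1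
  obtain ⟨Q⟩ : Nonempty (Sylow q H) := inferInstance
  have hsyl : ∀ (q : ℕ) (_ : Fact q.Prime) (S : Sylow q H), (S : Subgroup H).Normal :=
    (Group.isNilpotent_of_finite_tfae.out 0 3).mp hnil
  haveI hQn : (Q : Subgroup H).Normal := hsyl q inferInstance Q
  have hQ1 : (Q : Subgroup H) ≠ ⊥ := Q.ne_bot_of_dvd_card hqH
  haveI := hnil
  obtain ⟨u, huQ, huc, hu1⟩ := inf_center_ne_bot_of_nilpotent (Q : Subgroup H) hQ1
  have huA : (u : G) ∈ A := by
    rw [hAdef]
    refine Subgroup.mem_inf.mpr ⟨u.2, ?_⟩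
    rw [Subgroup.mem_centralizer_iff]
    intro h hh
    have h1 := Subgroup.mem_center_iff.mp huc ⟨h, hh⟩
    exact congrArg Subtype.val h1
  have hup := hAp (u : G) huA
  obtain ⟨k, hk⟩ := Q.isPGroup' ⟨u, huQ⟩
  have hk' : (u : G) ^ q ^ k = 1 := by
    have h1 := congrArg Subtype.val (congrArg Subtype.val hk)
    simpa using h1
  have h1 : orderOf (u : G) ∣ p := orderOf_dvd_of_pow_eq_one hup
  have h2 : orderOf (u : G) ∣ q ^ k := orderOf_dvd_of_pow_eq_one hk'
  have h3 : orderOf (u : G) = 1 :=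
    Nat.eq_one_of_dvd_coprimes (Nat.Coprime.pow_right k ((Nat.coprime_primes hp hq).mpr
      (Ne.symm hqp))) h1 h2
  exact hu1 (Subtype.ext (orderOf_eq_one_iff.mp h3))

end Cfsg.Agent.S4249
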