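import Cfsg.Statements.S4251
import Cfsg.Agent.Lib.Helper14.AlperinP
import Cfsg.Agent.Lib.Helper1.ThompsonNPC

set_option autoImplicit false
open Cfsg

namespace Cfsg.Agent.S4251

open Cfsg.Agent.Lib.Helper14 Cfsg.Agent.Lib.Helper1
open scoped Pointwise

/-- If `N(T)/C(T)` is a `p`-group and `P ∩ N(T)` has index prime to `p` in `N(T)`, then every
element of `N(T)` acts on `T` like an element of `P`. -/
theorem local_step {G : Type*} [Group G] [Finite G] (p : ℕ) [Fact p.Prime] (P T : Subgroup G)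
    (hidx : ¬ p ∣ (P ⊓ Subgroup.normalizer (T : Set G)).relIndex (Subgroup.normalizer (T : Set G)))
    (hpg : IsPGroup p (Subgroup.normalizer (T : Set G) ⧸
        (Subgroup.centralizer (T : Set G)).subgroupOf (Subgroup.normalizer (T : Set G))))
    (x : G) (hx : x ∈ Subgroup.normalizer (T : Set G)) :
    ∃ u ∈ P, ∀ a ∈ T, x⁻¹ * a * x = u⁻¹ * a * u := by
  have hp : p.Prime := Fact.out
  obtain ⟨C, hC⟩ : ∃ C : Subgroup (Subgroup.normalizer (T : Set G)),
      C = (Subgroup.centralizer (T : Set G)).subgroupOf (Subgroup.normalizer (T : Set G)) :=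
    ⟨_, rfl⟩
  haveI hCn : C.Normal := by
    rw [hC]
    infer_instance
  have hpg' : IsPGroup p (Subgroup.normalizer (T : Set G) ⧸ C) := by
    subst hC
    exact hpg
  obtain ⟨S, hS⟩ : ∃ S : Subgroup (Subgroup.normalizer (T : Set G)),
      S = (P ⊓ Subgroup.normalizer (T : Set G)).subgroupOf (Subgroup.normalizer (T : Set G)) :=
    ⟨_, rfl⟩
  have hSidx : ¬ p ∣ S.index := by
    rw [hS]
    exact hidx
  have hCidx : ∃ k, C.index = p ^ k := by
    obtain ⟨k, hk⟩ := IsPGroup.exists_card_eq hpg'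
    exact ⟨k, by rw [Subgroup.index_eq_card]; exact hk⟩
  have htop : C ⊔ S = ⊤ := by
    rw [← Subgroup.index_eq_one]
    obtain ⟨k, hk⟩ := hCidx
    have h1 : (C ⊔ S).index ∣ p ^ k := hk ▸ Subgroup.index_dvd_of_le le_sup_left
    have h2 : (C ⊔ S).index ∣ S.index := Subgroup.index_dvd_of_le le_sup_right
    obtain ⟨j, -, hj⟩ := (Nat.dvd_prime_pow hp).mp h1
    rcases Nat.eq_zero_or_pos j with h0 | hpos
    · rw [hj, h0, pow_zero]
    · exfalso
      apply hSidx
      refine dvd_trans ?_ h2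
      rw [hj]
      exact dvd_pow_self p (by omega)
  have hmem : (⟨x, hx⟩ : Subgroup.normalizer (T : Set G)) ∈ C ⊔ S := by
    rw [htop]
    exact Subgroup.mem_top _
  have hset : ((C ⊔ S : Subgroup (Subgroup.normalizer (T : Set G))) : Set (Subgroup.normalizer (T : Set G))) = (C : Set (Subgroup.normalizer (T : Set G))) * (S : Set (Subgroup.normalizer (T : Set G))) := Subgroup.normal_mul C S
  have hmem' : (⟨x, hx⟩ : Subgroup.normalizer (T : Set G)) ∈ (C : Set (Subgroup.normalizer (T : Set G))) * (S : Set (Subgroup.normalizer (T : Set G))) := by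
    rw [← hset]
    exact hmem
  obtain ⟨c, hc, s, hs, hcs⟩ := Set.mem_mul.mp hmem'
  have hcC : (c : G) ∈ Subgroup.centralizer (T : Set G) := by
    rw [hC] at hc
    exact hc
  have hsP : (s : G) ∈ P := by
    rw [hS] at hs
    exact (Subgroup.mem_inf.mp hs).1
  have hxcs : x = (c : G) * (s : G) := by
    have := congrArg Subtype.val hcs
    simpa using this.symm
  refine ⟨(s : G), hsP, ?_⟩
  intro a ha
  have hca : a * (c : G) = (c : G) * a := (Subgroup.mem_centralizer_iff.mp hcC) a ha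
  rw [hxcs]
  calc ((c : G) * (s : G))⁻¹ * a * ((c : G) * (s : G))
      = (s : G)⁻¹ * ((c : G)⁻¹ * (a * (c : G))) * (s : G) := by group
    _ = (s : G)⁻¹ * a * (s : G) := by rw [hca]; group

/-- Along a chain of tame steps, the conjugation is realised inside `P`. -/
theorem chain_ctl {G : Type*} [Group G] [Finite G] (p : ℕ) [Fact p.Prime] (P : Sylow p G)
    (h : ∀ Q : Sylow p G, (P : Subgroup G) ⊓ (Q : Subgroup G) ≠ ⊥ → (¬ p ∣ ((P : Subgroup G) ⊓ Subgroup.normalizer (((P : Subgroup G) ⊓ (Q : Subgroup G) : Subgroup G) : Set G)).relIndex (Subgroup.normalizer (((P : Subgroup G) ⊓ (Q : Subgroup G) : Subgroup G) : Set G)) ∧ ¬ p ∣ ((Q : Subgroup G) ⊓ Subgroup.normalizer (((P : Subgroup G) ⊓ (Q : Subgroup G) : Subgroup G) : Set G)).relIndex (Subgroup.normalizer (((P : Subgroup G) ⊓ (Q : Subgroup G) : Subgroup G) : Set G))) →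
      IsPGroup p (Subgroup.normalizer (((P : Subgroup G) ⊓ (Q : Subgroup G) : Subgroup G) : Set G) ⧸
        (Subgroup.centralizer (((P : Subgroup G) ⊓ (Q : Subgroup G) : Subgroup G) : Set G)).subgroupOf
          (Subgroup.normalizer (((P : Subgroup G) ⊓ (Q : Subgroup G) : Subgroup G) : Set G))))
    (A : Set G) (g : G) (hch : RChain (TameStep P) A g) :
    A ⊆ ((P : Subgroup G) : Set G) → (∃ a ∈ A, a ≠ 1) →
      ∃ u ∈ (P : Subgroup G), ∀ a ∈ A, g⁻¹ * a * g = u⁻¹ * a * u := by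
  induction hch with
  | nil A =>
    intro _ _
    exact ⟨1, one_mem _, fun a _ => by group⟩
  | cons A T x g hR hAT _ ih =>
    intro hAP hne
    obtain ⟨Q, hT, hxN, ht1, ht2, -⟩ := hR
    have hTne : T ≠ ⊥ := by
      obtain ⟨a, ha, ha1⟩ := hne
      intro hbot
      have h1 : a ∈ T := hAT ha
      rw [hbot, Subgroup.mem_bot] at h1
      exact ha1 h1
    have hpg := h Q (hT ▸ hTne) (by rw [← hT]; exact ⟨ht1, ht2⟩)
    rw [← hT] at hpg
    obtain ⟨u, huP, hu⟩ := local_step p (P : Subgroup G) T ht1 hpg x hxN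
    have h1 : conjR x A ⊆ ((P : Subgroup G) : Set G) := by
      rintro _ ⟨a, ha, rfl⟩
      show x⁻¹ * a * x ∈ (P : Subgroup G)
      rw [hu a (hAT ha)]
      exact mul_mem (mul_mem (inv_mem huP) (hAP ha)) huP
    have h2 : ∃ b ∈ conjR x A, b ≠ 1 := by
      obtain ⟨a, ha, ha1⟩ := hne
      refine ⟨x⁻¹ * a * x, mem_conjR_of_mem ha, ?_⟩
      intro h3
      apply ha1
      have : a = x * (x⁻¹ * a * x) * x⁻¹ := by group
      rw [this, h3]
      group
    obtain ⟨u', hu'P, hu'⟩ := ih h1 h2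
    refine ⟨u * u', mul_mem huP hu'P, ?_⟩
    intro a ha
    have h3 := hu' (x⁻¹ * a * x) (mem_conjR_of_mem ha)
    calc (x * g)⁻¹ * a * (x * g) = g⁻¹ * (x⁻¹ * a * x) * g := by group
      _ = u'⁻¹ * (x⁻¹ * a * x) * u' := h3
      _ = u'⁻¹ * (u⁻¹ * a * u) * u' := by rw [hu a (hAT ha)]
      _ = (u * u')⁻¹ * a * (u * u') := by group

/-- Let P be a Sylow p-subgroup of a finite group G. Call an intersection H = P ∩ Q with a Sylow p-subgroup Q tame when N_P(H) and N_Q(H) are Sylow p-subgroups of N_G(H). If N_G(H)/C_G(H) is a p-group for every nontrivial tame intersection H = P ∩ Q, then G has a normal p-complement. -/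
theorem result {G : Type*} [Group G] [Finite G] (p : ℕ) [Fact p.Prime] (P : Sylow p G)
    (h : ∀ Q : Sylow p G, (P : Subgroup G) ⊓ (Q : Subgroup G) ≠ ⊥ → (¬ p ∣ ((P : Subgroup G) ⊓ Subgroup.normalizer (((P : Subgroup G) ⊓ (Q : Subgroup G) : Subgroup G) : Set G)).relIndex (Subgroup.normalizer (((P : Subgroup G) ⊓ (Q : Subgroup G) : Subgroup G) : Set G)) ∧ ¬ p ∣ ((Q : Subgroup G) ⊓ Subgroup.normalizer (((P : Subgroup G) ⊓ (Q : Subgroup G) : Subgroup G) : Set G)).relIndex (Subgroup.normalizer (((P : Subgroup G) ⊓ (Q : Subgroup G) : Subgroup G) : Set G))) →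
      IsPGroup p (Subgroup.normalizer (((P : Subgroup G) ⊓ (Q : Subgroup G) : Subgroup G) : Set G) ⧸
        (Subgroup.centralizer (((P : Subgroup G) ⊓ (Q : Subgroup G) : Subgroup G) : Set G)).subgroupOf
          (Subgroup.normalizer (((P : Subgroup G) ⊓ (Q : Subgroup G) : Subgroup G) : Set G)))) :
    Cfsg.HasNormalPComplement p G := by
  rw [hasNormalPComplement_iff_frobCond]
  apply frobCond_of_sylow P
  intro Q hQP g hg hcop
  by_cases hQbot : Q = ⊥
  · rw [hQbot, Subgroup.mem_centralizer_iff]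
    intro q hq
    have hq1 : q = 1 := by simpa using hq
    rw [hq1, one_mul, mul_one]
  have hginv : ∀ a ∈ Q, g⁻¹ * a * g ∈ Q := by
    intro a ha
    exact (Subgroup.mem_normalizer_iff''.mp hg a).mp ha
  have hmap : Q.map (MulAut.conj g⁻¹).toMonoidHom ≤ (P : Subgroup G) := by
    rintro _ ⟨a, ha, rfl⟩
    apply hQP
    have := hginv a ha
    simpa using this
  have hch := rchain_tame P _ Q g rfl hQP hmap
  have hne : ∃ a ∈ (Q : Set G), a ≠ 1 := by
    by_contra hcon
    apply hQbot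
    rw [eq_bot_iff]
    intro a ha
    by_contra ha1
    exact hcon ⟨a, ha, fun h1 => ha1 (by rw [h1]; exact Subgroup.mem_bot.mpr rfl)⟩
  obtain ⟨u, huP, hu⟩ := chain_ctl p P h (Q : Set G) g hch hQP hne
  have hpow : ∀ j : ℕ, ∀ a ∈ Q, (g ^ j)⁻¹ * a * g ^ j = (u ^ j)⁻¹ * a * u ^ j := by
    intro j
    induction j with
    | zero => intro a _; simp
    | succ j ih =>
      intro a ha
      have h1 := ih (g⁻¹ * a * g) (hginv a ha)
      calc (g ^ (j + 1))⁻¹ * a * g ^ (j + 1) = (g ^ j)⁻¹ * (g⁻¹ * a * g) * g ^ j := by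
            rw [pow_succ']; group
        _ = (u ^ j)⁻¹ * (g⁻¹ * a * g) * u ^ j := h1
        _ = (u ^ j)⁻¹ * (u⁻¹ * a * u) * u ^ j := by rw [hu a ha]
        _ = (u ^ (j + 1))⁻¹ * a * u ^ (j + 1) := by rw [pow_succ']; group
  obtain ⟨k, hk⟩ := P.isPGroup' ⟨u, huP⟩
  have huk : u ^ p ^ k = 1 := congrArg Subtype.val hk
  have hgk : g ^ p ^ k ∈ Subgroup.centralizer (Q : Set G) := by
    rw [Subgroup.mem_centralizer_iff]
    intro a ha
    have h1 := hpow (p ^ k) a ha
    rw [huk, inv_one, one_mul, mul_one] at h1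
    calc a * g ^ p ^ k = g ^ p ^ k * ((g ^ p ^ k)⁻¹ * a * g ^ p ^ k) := by group
      _ = g ^ p ^ k * a := by rw [h1]
  exact mem_of_pow_mem_of_coprime hgk (Nat.Coprime.pow_right k hcop)

end Cfsg.Agent.S4251
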