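import Cfsg.Statements.S4271
import Mathlib
import Cfsg.Agent.Lib.Helper23.Pron

set_option autoImplicit false
open Cfsg

namespace Cfsg.Agent.S4271

open Cfsg.Agent.Lib.Helper21 Cfsg.Agent.Lib.Helper23.Pron

theorem fwd {G : Type*} [Group G] [Finite G] {p : ℕ} [Fact p.Prime] (N : Subgroup G)
    (T' : Subgroup N) [T'.Normal] (hNi : ¬ p ∣ N.index)
    (hG : ∀ K : Subgroup G, ¬ p ∣ K.index → Cfsg.IsPronormal K) (Kbar : Subgroup (N ⧸ T'))
    (hK : ¬ p ∣ Kbar.index) : Cfsg.IsPronormal Kbar := by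
  have hsurj := QuotientGroup.mk'_surjective T'
  have hK'i : (Kbar.comap (QuotientGroup.mk' T')).index = Kbar.index :=
    Subgroup.index_comap_of_surjective Kbar hsurj
  have hKi := Subgroup.index_map_subtype (Kbar.comap (QuotientGroup.mk' T'))
  have hKp := hG ((Kbar.comap (QuotientGroup.mk' T')).map N.subtype) (by
    rw [hKi, hK'i]; exact Nat.Prime.not_dvd_mul Fact.out hK hNi)
  have h1 := pron_subgroupOf (Subgroup.map_subtype_le (Kbar.comap (QuotientGroup.mk' T'))) hKp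
  have h2 : ((Kbar.comap (QuotientGroup.mk' T')).map N.subtype).subgroupOf N =
      Kbar.comap (QuotientGroup.mk' T') :=
    Subgroup.comap_map_eq_self_of_injective N.subtype_injective _
  rw [h2] at h1
  have h3 := pron_map hsurj h1
  rwa [Subgroup.map_comap_eq_self_of_surjective hsurj] at h3

theorem bwdN {G : Type*} [Group G] [Finite G] {p : ℕ} [Fact p.Prime] (N : Subgroup G)
    (T' : Subgroup N) [T'.Normal]
    (hNQ : ∀ Kbar : Subgroup (N ⧸ T'), ¬ p ∣ Kbar.index → Cfsg.IsPronormal Kbar)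
    (L : Subgroup G) (hTL : T'.map N.subtype ≤ L) (hLN : L ≤ N) (hLi : ¬ p ∣ L.index)
    (c : G) (hc : c ∈ N) :
    ∃ x ∈ L ⊔ L.map (MulAut.conj c).toMonoidHom,
      L.map (MulAut.conj c).toMonoidHom = L.map (MulAut.conj x).toMonoidHom := by
  have hsurj := QuotientGroup.mk'_surjective T'
  have hi : ¬ p ∣ ((L.subgroupOf N).map (QuotientGroup.mk' T')).index := fun hd =>
    hLi ((hd.trans (Subgroup.index_map_dvd (L.subgroupOf N) hsurj)).trans
      (Subgroup.relIndex_dvd_index_of_le hLN))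
  have h1 := hNQ _ hi
  have hker : (QuotientGroup.mk' T').ker ≤ L.subgroupOf N := by
    rw [QuotientGroup.ker_mk']
    intro t ht
    rw [Subgroup.mem_subgroupOf]
    exact hTL ⟨t, ht, rfl⟩
  have h2 := pron_of_map hker h1
  obtain ⟨x, hx, hEq⟩ := pron_of_subgroup h2 ⟨c, hc⟩
  rw [Subgroup.map_subgroupOf_eq_of_le hLN] at hx hEq
  exact ⟨x, hx, hEq⟩

theorem bwdA {G : Type*} [Group G] (A : Subgroup G) (p : ℕ) [Fact p.Prime] (PA : Sylow p A)
    (hA : ∀ K : Subgroup A, (∃ P : Sylow p A, (P : Subgroup A) ≤ K) → Cfsg.IsPronormal K)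
    (D : Subgroup G) (hTD : (PA : Subgroup A).map A.subtype ≤ D) (hDA : D ≤ A) (a : G)
    (ha : a ∈ A) :
    ∃ b ∈ D ⊔ D.map (MulAut.conj a).toMonoidHom,
      D.map (MulAut.conj a).toMonoidHom = D.map (MulAut.conj b).toMonoidHom := by
  have h1 : Cfsg.IsPronormal (D.subgroupOf A) := hA _ ⟨PA, fun t ht => by
    rw [Subgroup.mem_subgroupOf]; exact hTD ⟨t, ht, rfl⟩⟩
  obtain ⟨x, hx, hEq⟩ := pron_of_subgroup h1 ⟨a, ha⟩
  rw [Subgroup.map_subgroupOf_eq_of_le hDA] at hx hEq
  exact ⟨x, hx, hEq⟩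

theorem selfnorm {G : Type*} [Group G] [Finite G] {p : ℕ} [Fact p.Prime] (A : Subgroup G)
    [A.Normal]
    (hQ : ∀ P : Sylow p (G ⧸ A),
      Subgroup.normalizer ((P : Subgroup (G ⧸ A)) : Set (G ⧸ A)) = P)
    (S : Subgroup G) (hSp : IsPGroup p S) (hSi : ¬ p ∣ S.index) (g : G)
    (hg : g ∈ Subgroup.normalizer (S : Set G)) :
    ∃ s ∈ S, g * s⁻¹ ∈ A := by
  have hsurj := QuotientGroup.mk'_surjective A
  have h1 := hQ ((hSp.toSylow hSi).mapSurjective hsurj)
  rw [Sylow.coe_mapSurjective, IsPGroup.toSylow_coe] at h1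
  have h2 : QuotientGroup.mk' A g ∈ Subgroup.normalizer
      ((S.map (QuotientGroup.mk' A) : Subgroup (G ⧸ A)) : Set (G ⧸ A)) := by
    rw [mem_normalizer_iff_map, ← map_conj_map, (mem_normalizer_iff_map S g).mp hg]
  rw [h1] at h2
  obtain ⟨s, hs, hsg⟩ := h2
  refine ⟨s, hs, ?_⟩
  have h3 : (QuotientGroup.mk' A) (g * s⁻¹) = 1 := by
    rw [map_mul, map_inv, hsg]; exact mul_inv_cancel _
  exact (QuotientGroup.eq_one_iff _).mp h3

theorem sylow_data {G : Type*} [Group G] [Finite G] {p : ℕ} [Fact p.Prime] (A : Subgroup G)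
    [A.Normal] (T : Subgroup G) (PA : Sylow p A) (hPA : (PA : Subgroup A).map A.subtype = T) :
    IsPGroup p T ∧ T ≤ A ∧ ¬ p ∣ T.relIndex A ∧
      ¬ p ∣ (Subgroup.normalizer (T : Set G)).index := by
  have hTp : IsPGroup p T := hPA ▸ PA.2.map A.subtype
  have hTA : T ≤ A := hPA ▸ Subgroup.map_subtype_le _
  have hTidx : ¬ p ∣ T.relIndex A := by
    have e : T.subgroupOf A = PA := by
      rw [← hPA]; exact Subgroup.comap_map_eq_self_of_injective A.subtype_injective _
    have e2 : T.relIndex A = (T.subgroupOf A).index := rfl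
    rw [e2, e]; exact PA.not_dvd_index
  refine ⟨hTp, hTA, hTidx, ?_⟩
  obtain ⟨S, hSp, hSi, hTS, -⟩ := exists_sylow_between hTp (le_top : T ≤ ⊤) (by
    rw [Subgroup.index_top]; exact (Fact.out : p.Prime).not_dvd_one)
  have hSN := Subgroup.le_normalizer.trans (normalizer_le_of_sylow A hTA hTidx hSp hTS)
  exact fun hd => hSi (hd.trans (Subgroup.index_dvd_of_le hSN))

/-- Let p be a prime and G a finite group with a normal subgroup A such that every subgroup of A containing a Sylow p-subgroup of A is pronormal in A, and the Sylow p-subgroups of G/A are self-normalizing. Let T be a Sylow p-subgroup of A. Then every subgroup of G containing a Sylow p-subgroup of G is pronormal in G if and only if every subgroup of N_G(T)/T containing a Sylow p-subgroup of N_G(T)/T is pronormal in N_G(T)/T. (Pronormal: H and gHg⁻¹ are conjugate inside the subgroup they generate, for every g.) -/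
theorem result {G : Type*} [Group G] [Finite G] {p : ℕ} [Fact p.Prime]
    (A : Subgroup G) [A.Normal] (hA : (∀ K : Subgroup ↥A, (∃ P : Sylow p ↥A, (P : Subgroup ↥A) ≤ K) → Cfsg.IsPronormal K))
    (hQ : ∀ P : Sylow p (G ⧸ A), Subgroup.normalizer ((P : Subgroup (G ⧸ A)) : Set (G ⧸ A)) = P)
    (T : Subgroup G) (hT : ∃ P : Sylow p ↥A, (P : Subgroup ↥A).map A.subtype = T) [(T.subgroupOf (Subgroup.normalizer (T : Set G))).Normal] :
    (∀ K : Subgroup G, (∃ P : Sylow p G, (P : Subgroup G) ≤ K) → Cfsg.IsPronormal K) ↔ (∀ K : Subgroup (↥(Subgroup.normalizer (T : Set G)) ⧸ T.subgroupOf (Subgroup.normalizer (T : Set G))), (∃ P : Sylow p (↥(Subgroup.normalizer (T : Set G)) ⧸ T.subgroupOf (Subgroup.normalizer (T : Set G))), (P : Subgroup (↥(Subgroup.normalizer (T : Set G)) ⧸ T.subgroupOf (Subgroup.normalizer (T : Set G)))) ≤ K) → Cfsg.IsPronormal K) := by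
  obtain ⟨PA, hPA⟩ := hT
  obtain ⟨hTp, hTA, hTidx, hNi⟩ := sylow_data A T PA hPA
  have hT'map : (T.subgroupOf (Subgroup.normalizer (T : Set G))).map
      (Subgroup.normalizer (T : Set G)).subtype = T :=
    Subgroup.map_subgroupOf_eq_of_le Subgroup.le_normalizer
  constructor
  · intro hG Kbar hKbar
    rw [exists_sylow_le_iff] at hKbar
    exact fwd _ _ hNi (fun K hK => hG K ((exists_sylow_le_iff K).mpr hK)) Kbar hKbar
  · intro hNQ K hK
    rw [exists_sylow_le_iff] at hK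
    have hA' : ∀ D : Subgroup G, T ≤ D → D ≤ A → ∀ a ∈ A,
        ∃ b ∈ D ⊔ D.map (MulAut.conj a).toMonoidHom,
          D.map (MulAut.conj a).toMonoidHom = D.map (MulAut.conj b).toMonoidHom :=
      fun D hTD hDA a ha => bwdA A p PA hA D (hPA ▸ hTD) hDA a ha
    have hN' : ∀ L : Subgroup G, T ≤ L → L ≤ Subgroup.normalizer (T : Set G) → ¬ p ∣ L.index →
        ∀ c ∈ Subgroup.normalizer (T : Set G), ∃ x ∈ L ⊔ L.map (MulAut.conj c).toMonoidHom,
          L.map (MulAut.conj c).toMonoidHom = L.map (MulAut.conj x).toMonoidHom :=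
      fun L hTL hLN hLi c hc => bwdN _ _
        (fun Kbar h => hNQ Kbar ((exists_sylow_le_iff Kbar).mpr h)) L (hT'map.le.trans hTL)
        hLN hLi c hc
    obtain ⟨S0, hS0p, hS0i, -, hS0K⟩ := exists_sylow_between (T := ⊥) IsPGroup.of_bot bot_le hK
    obtain ⟨u, hu⟩ := exists_conj_le_of_index hS0p hTp hS0i
    have hTK1 : T ≤ K.map (MulAut.conj u).toMonoidHom := hu.trans (map_conj_mono hS0K u)
    have hK1 : ¬ p ∣ (K.map (MulAut.conj u).toMonoidHom).index := by rwa [index_map_conj]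
    suffices h : Cfsg.IsPronormal (K.map (MulAut.conj u).toMonoidHom) by
      have h' := pron_conj h u⁻¹
      rwa [map_conj_map_conj_inv] at h'
    obtain ⟨K1, hK1def⟩ : ∃ K1 : Subgroup G, K1 = K.map (MulAut.conj u).toMonoidHom := ⟨_, rfl⟩
    rw [← hK1def] at hTK1 hK1 ⊢
    obtain ⟨S, hSp, hSi, hTS, hSK⟩ := exists_sylow_between hTp hTK1 hK1
    rw [Cfsg.Agent.S3820.result S K1 hSK (pron_of_index hSp hSi)]
    intro g hg
    obtain ⟨s, hs, hgs⟩ := selfnorm A hQ S hSp hSi g hg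
    obtain ⟨w, hw, hwEq⟩ := coreA A T hTp hTA hTidx hA' hN' K1 hK1 hTK1 (g * s⁻¹) hgs
    have e : K1.map (MulAut.conj g).toMonoidHom =
        K1.map (MulAut.conj (g * s⁻¹)).toMonoidHom := by
      have e1 : g = (g * s⁻¹) * s := by group
      conv_lhs => rw [e1, map_conj_mul, map_conj_of_mem (hSK hs)]
    rw [e]
    exact ⟨w, hw, hwEq⟩

end Cfsg.Agent.S4271
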