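import Cfsg.Statements.S4270
import Mathlib
import Cfsg.Agent.Lib.Helper23.Pron
import Cfsg.Agent.S4271

set_option autoImplicit false
open Cfsg

namespace Cfsg.Agent.S4270

open Cfsg.Agent.Lib.Helper21 Cfsg.Agent.Lib.Helper23.Pron

theorem normalizer_map_of_pron {G : Type*} [Group G] (A : Subgroup G) [A.Normal]
    {K : Subgroup G} (hK : Cfsg.IsPronormal K) :
    (Subgroup.normalizer (K : Set G)).map (QuotientGroup.mk' A) =
      Subgroup.normalizer ((K.map (QuotientGroup.mk' A) : Subgroup (G ⧸ A)) : Set (G ⧸ A)) := by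
  ext y
  constructor
  · rintro ⟨g, hg, rfl⟩
    rw [mem_normalizer_iff_map, ← map_conj_map, (mem_normalizer_iff_map K g).mp hg]
  · intro hy
    obtain ⟨g, rfl⟩ := QuotientGroup.mk'_surjective A y
    rw [mem_normalizer_iff_map, ← map_conj_map, Subgroup.map_eq_map_iff,
      QuotientGroup.ker_mk'] at hy
    obtain ⟨x, hx, hEq⟩ := hK g
    have hxKA : x ∈ K ⊔ A := (sup_le le_sup_left (le_sup_left.trans hy.le)) hx
    have hx' : x ∈ ((K ⊔ A : Subgroup G) : Set G) := hxKA
    rw [Subgroup.mul_normal] at hx'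
    obtain ⟨k, hk, a', ha', rfl⟩ := Set.mem_mul.mp hx'
    have hn : (k * a')⁻¹ * g ∈ Subgroup.normalizer (K : Set G) := by
      rw [mem_normalizer_iff_map, map_conj_mul, hEq, map_conj_map_conj_inv]
    refine ⟨k * ((k * a')⁻¹ * g), Subgroup.mul_mem _ (Subgroup.le_normalizer hk) hn, ?_⟩
    have ha1 : QuotientGroup.mk' A a' = 1 := (QuotientGroup.eq_one_iff a').mpr ha'
    simp only [map_mul, map_inv, ha1, mul_one, mul_inv_cancel_left]

/-- Let p be a prime and G a finite group with a normal subgroup A such that, both in A and in G/A, every subgroup containing a Sylow p-subgroup of that group is pronormal in that group. Let T be a Sylow p-subgroup of A. Then every subgroup of G containing a Sylow p-subgroup of G is pronormal in G if and only if (i) every subgroup of N_G(T)/T containing a Sylow p-subgroup of N_G(T)/T is pronormal there, and (ii) for every subgroup H of G containing a Sylow p-subgroup of G, the image of N_G(H) in G/A is the full normalizer of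 the image of H. (Pronormal: H and gHg⁻¹ are conjugate inside the subgroup they generate, for every g.) -/
theorem result {G : Type*} [Group G] [Finite G] {p : ℕ} [Fact p.Prime]
    (A : Subgroup G) [A.Normal] (hA : (∀ K : Subgroup ↥A, (∃ P : Sylow p ↥A, (P : Subgroup ↥A) ≤ K) → Cfsg.IsPronormal K)) (hQ : (∀ K : Subgroup (G ⧸ A), (∃ P : Sylow p (G ⧸ A), (P : Subgroup (G ⧸ A)) ≤ K) → Cfsg.IsPronormal K))
    (T : Subgroup G) (hT : ∃ P : Sylow p ↥A, (P : Subgroup ↥A).map A.subtype = T) [(T.subgroupOf (Subgroup.normalizer (T : Set G))).Normal] :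
    (∀ K : Subgroup G, (∃ P : Sylow p G, (P : Subgroup G) ≤ K) → Cfsg.IsPronormal K) ↔
      ((∀ K : Subgroup (↥(Subgroup.normalizer (T : Set G)) ⧸ T.subgroupOf (Subgroup.normalizer (T : Set G))), (∃ P : Sylow p (↥(Subgroup.normalizer (T : Set G)) ⧸ T.subgroupOf (Subgroup.normalizer (T : Set G))), (P : Subgroup (↥(Subgroup.normalizer (T : Set G)) ⧸ T.subgroupOf (Subgroup.normalizer (T : Set G)))) ≤ K) → Cfsg.IsPronormal K) ∧
        ∀ K : Subgroup G, (∃ P : Sylow p G, (P : Subgroup G) ≤ K) →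
          (Subgroup.normalizer (K : Set G)).map (QuotientGroup.mk' A) = Subgroup.normalizer ((K.map (QuotientGroup.mk' A) : Subgroup (G ⧸ A)) : Set (G ⧸ A))) := by
  obtain ⟨PA, hPA⟩ := hT
  obtain ⟨hTp, hTA, hTidx, hNi⟩ := Cfsg.Agent.S4271.sylow_data A T PA hPA
  have hT'map : (T.subgroupOf (Subgroup.normalizer (T : Set G))).map
      (Subgroup.normalizer (T : Set G)).subtype = T :=
    Subgroup.map_subgroupOf_eq_of_le Subgroup.le_normalizer
  constructor
  · intro hG
    refine ⟨?_, ?_⟩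
    · intro Kbar hKbar
      rw [exists_sylow_le_iff] at hKbar
      exact Cfsg.Agent.S4271.fwd _ _ hNi (fun K hK => hG K ((exists_sylow_le_iff K).mpr hK))
        Kbar hKbar
    · intro K hK
      exact normalizer_map_of_pron A (hG K hK)
  · rintro ⟨hNQ, hNorm⟩ K hK
    rw [exists_sylow_le_iff] at hK
    have hA' : ∀ D : Subgroup G, T ≤ D → D ≤ A → ∀ a ∈ A,
        ∃ b ∈ D ⊔ D.map (MulAut.conj a).toMonoidHom,
          D.map (MulAut.conj a).toMonoidHom = D.map (MulAut.conj b).toMonoidHom :=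
      fun D hTD hDA a ha => Cfsg.Agent.S4271.bwdA A p PA hA D (hPA ▸ hTD) hDA a ha
    have hN' : ∀ L : Subgroup G, T ≤ L → L ≤ Subgroup.normalizer (T : Set G) → ¬ p ∣ L.index →
        ∀ c ∈ Subgroup.normalizer (T : Set G), ∃ x ∈ L ⊔ L.map (MulAut.conj c).toMonoidHom,
          L.map (MulAut.conj c).toMonoidHom = L.map (MulAut.conj x).toMonoidHom :=
      fun L hTL hLN hLi c hc => Cfsg.Agent.S4271.bwdN _ _
        (fun Kbar h => hNQ Kbar ((exists_sylow_le_iff Kbar).mpr h)) L (hT'map.le.trans hTL)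
        hLN hLi c hc
    obtain ⟨S0, hS0p, hS0i, -, hS0K⟩ := exists_sylow_between (T := ⊥) IsPGroup.of_bot bot_le hK
    obtain ⟨u, hu⟩ := exists_conj_le_of_index hS0p hTp hS0i
    have hTK1 : T ≤ K.map (MulAut.conj u).toMonoidHom := hu.trans (map_conj_mono hS0K u)
    have hK1 : ¬ p ∣ (K.map (MulAut.conj u).toMonoidHom).index := by rwa [index_map_conj]
    suffices h : Cfsg.IsPronormal (K.map (MulAut.conj u).toMonoidHom) by
      have h' := pron_conj h u⁻¹
      rwa [map_conj_map_conj_inv] at h'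
    obtain ⟨K1, hK1def⟩ : ∃ K1 : Subgroup G, K1 = K.map (MulAut.conj u).toMonoidHom := ⟨_, rfl⟩
    rw [← hK1def] at hTK1 hK1 ⊢
    have hsurj := QuotientGroup.mk'_surjective A
    have hKbar : Cfsg.IsPronormal (K1.map (QuotientGroup.mk' A)) :=
      hQ _ ((exists_sylow_le_iff _).mpr
        (fun hd => hK1 (hd.trans (Subgroup.index_map_dvd K1 hsurj))))
    intro g
    obtain ⟨y, hy, hEqbar⟩ := hKbar (QuotientGroup.mk' A g)
    rw [← map_conj_map, ← Subgroup.map_sup] at hy
    obtain ⟨x, hxJ, rfl⟩ := hy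
    rw [← map_conj_map, ← map_conj_map] at hEqbar
    have e1 : (K1.map (MulAut.conj (x⁻¹ * g)).toMonoidHom).map (QuotientGroup.mk' A) =
        K1.map (QuotientGroup.mk' A) := by
      rw [map_conj_mul]
      rw [map_conj_map (QuotientGroup.mk' A) (K1.map (MulAut.conj g).toMonoidHom) x⁻¹]
      rw [hEqbar]
      rw [← map_conj_map (QuotientGroup.mk' A) (K1.map (MulAut.conj x).toMonoidHom) x⁻¹,
        map_conj_map_conj_inv]
    have hnorm : QuotientGroup.mk' A (x⁻¹ * g) ∈ Subgroup.normalizer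
        ((K1.map (QuotientGroup.mk' A) : Subgroup (G ⧸ A)) : Set (G ⧸ A)) := by
      rw [mem_normalizer_iff_map, ← map_conj_map]
      exact e1
    rw [← hNorm K1 ((exists_sylow_le_iff K1).mpr hK1)] at hnorm
    obtain ⟨n, hn, hnEq⟩ := hnorm
    have ha1 : (x⁻¹ * g) * n⁻¹ ∈ A := by
      have h3 : (QuotientGroup.mk' A) ((x⁻¹ * g) * n⁻¹) = 1 := by
        rw [map_mul (QuotientGroup.mk' A) (x⁻¹ * g) n⁻¹, map_inv, hnEq]
        exact mul_inv_cancel _
      exact (QuotientGroup.eq_one_iff _).mp h3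
    obtain ⟨w, hw, hwEq⟩ := coreA A T hTp hTA hTidx hA' hN' K1 hK1 hTK1 ((x⁻¹ * g) * n⁻¹) ha1
    have ha1K : K1.map (MulAut.conj ((x⁻¹ * g) * n⁻¹)).toMonoidHom =
        (K1.map (MulAut.conj g).toMonoidHom).map (MulAut.conj x⁻¹).toMonoidHom := by
      rw [map_conj_mul K1 (x⁻¹ * g) n⁻¹,
        (mem_normalizer_iff_map K1 n⁻¹).mp (Subgroup.inv_mem _ hn), map_conj_mul]
    have hwJ : w ∈ K1 ⊔ K1.map (MulAut.conj g).toMonoidHom := by
      have hle : K1 ⊔ K1.map (MulAut.conj ((x⁻¹ * g) * n⁻¹)).toMonoidHom ≤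
          K1 ⊔ K1.map (MulAut.conj g).toMonoidHom := by
        apply sup_le le_sup_left
        rw [ha1K]
        exact map_conj_le_of_mem' le_sup_right (Subgroup.inv_mem _ hxJ)
      exact hle hw
    refine ⟨x * w, Subgroup.mul_mem _ hxJ hwJ, ?_⟩
    rw [map_conj_mul K1 x w, ← hwEq, ha1K, map_conj_inv_map_conj]

end Cfsg.Agent.S4270
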