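import Cfsg.Statements.S4314
-- import your own Cfsg.Agent.* helpers here

set_option autoImplicit false
open Cfsg

namespace Cfsg.Agent.S4314

variable {G : Type*} [Group G]

theorem cent_pow_le (x : G) (n : ℕ) :
    Subgroup.centralizer ({x} : Set G) ≤ Subgroup.centralizer ({x ^ n} : Set G) := by
  intro g hg
  rw [Subgroup.mem_centralizer_singleton_iff] at hg ⊢
  exact ((Commute.pow_right (show Commute g x from hg) n)).eq

theorem cent_le_of_mem_zpowers {x y : G} (hy : y ∈ Subgroup.zpowers x) :
    Subgroup.centralizer ({x} : Set G) ≤ Subgroup.centralizer ({y} : Set G) := by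
  obtain ⟨j, rfl⟩ := Subgroup.mem_zpowers_iff.mp hy
  intro g hg
  rw [Subgroup.mem_centralizer_singleton_iff] at hg ⊢
  exact ((Commute.zpow_right (show Commute g x from hg) j)).eq

theorem cent_ne_top {x : G} (hx : x ∉ Subgroup.center G) :
    Subgroup.centralizer ({x} : Set G) ≠ ⊤ := by
  intro h
  rw [Subgroup.centralizer_eq_top_iff_subset] at h
  exact hx (h rfl)

theorem eq_of_le_prime [Finite G] {H K : Subgroup G} (hHK : H ≤ K) (hH : H.index.Prime) (hK : K ≠ ⊤) :
    H = K := by
  have h1 := Subgroup.relIndex_mul_index hHK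
  rw [← h1] at hH
  have hK1 : K.index ≠ 1 := fun h => hK (Subgroup.index_eq_one.mp h)
  rcases (Nat.prime_mul_iff.mp hH) with ⟨_, h2⟩ | ⟨_, h2⟩
  · exact absurd h2 hK1
  · exact le_antisymm hHK (Subgroup.relIndex_eq_one.mp h2)

theorem cent_index_prime
    (h : ∀ x : G, (Subgroup.centralizer ({x} : Set G)).index = 1 ∨ ((Subgroup.centralizer ({x} : Set G)).index).Prime)
    {x : G} (hx : x ∉ Subgroup.center G) : ((Subgroup.centralizer ({x} : Set G)).index).Prime := by
  rcases h x with h1 | h1
  · exact absurd (Subgroup.index_eq_one.mp h1) (cent_ne_top hx)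
  · exact h1

/-- Splitting an element into its `r`-part and `r'`-part. -/
theorem split_elt [Finite G] (z : G) (r : ℕ) (hr : r.Prime) :
    ∃ (z1 z2 : G) (u v : ℤ), z = z1 ^ u * z2 ^ v ∧ z1 ∈ Subgroup.zpowers z ∧ z2 ∈ Subgroup.zpowers z ∧
      (∃ k : ℕ, orderOf z1 = r ^ k) ∧ (orderOf z2).Coprime r := by
  have hn : orderOf z ≠ 0 := (orderOf_pos z).ne'
  obtain ⟨e, n', hn', hne⟩ := Nat.exists_eq_pow_mul_and_not_dvd hn r hr.ne_one
  have hn'0 : n' ≠ 0 := by
    rintro rfl
    exact hn' (dvd_zero r)
  have hre0 : r ^ e ≠ 0 := pow_ne_zero _ hr.ne_zero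
  have ho1 : orderOf (z ^ n') = r ^ e := by
    rw [orderOf_pow_of_dvd hn'0 (by rw [hne]; exact dvd_mul_left _ _), hne]
    exact Nat.mul_div_cancel _ (Nat.pos_of_ne_zero hn'0)
  have ho2 : orderOf (z ^ (r ^ e)) = n' := by
    rw [orderOf_pow_of_dvd hre0 (by rw [hne]; exact dvd_mul_right _ _), hne]
    exact Nat.mul_div_cancel_left _ (Nat.pos_of_ne_zero hre0)
  have hcop : Nat.Coprime n' (r ^ e) :=
    Nat.Coprime.pow_right _ ((Nat.Prime.coprime_iff_not_dvd hr).mpr hn').symm
  obtain ⟨u, v, huv⟩ := (Nat.isCoprime_iff_coprime.mpr hcop)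
  refine ⟨z ^ n', z ^ (r ^ e), u, v, ?_, ?_, ?_, ⟨e, ho1⟩, ?_⟩
  · rw [← zpow_natCast z n', ← zpow_natCast z (r ^ e), ← zpow_mul, ← zpow_mul, ← zpow_add,
      mul_comm (n' : ℤ) u, mul_comm ((r ^ e : ℕ) : ℤ) v, huv, zpow_one]
  · exact Subgroup.pow_mem _ (Subgroup.mem_zpowers z) _
  · exact Subgroup.pow_mem _ (Subgroup.mem_zpowers z) _
  · rw [ho2]
    exact ((Nat.Prime.coprime_iff_not_dvd hr).mpr hn').symm

theorem pow_mem_of_split {K : Subgroup G} {z z1 z2 : G} {u v : ℤ} (hz : z = z1 ^ u * z2 ^ v)
    (hz1 : z1 ∈ Subgroup.zpowers z) (hz2 : z2 ∈ Subgroup.zpowers z) (h1 : z1 ∈ K) :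
    z ^ orderOf z2 ∈ K := by
  have hcomm : Commute (z1 ^ u) (z2 ^ v) := by
    have : Commute z1 z2 := by
      obtain ⟨i, rfl⟩ := Subgroup.mem_zpowers_iff.mp hz1
      obtain ⟨i', rfl⟩ := Subgroup.mem_zpowers_iff.mp hz2
      exact (Commute.refl z).zpow_zpow i i'
    exact this.zpow_zpow u v
  have h2 : (z2 ^ v) ^ orderOf z2 = 1 := by
    rw [← zpow_natCast, ← zpow_mul, mul_comm, zpow_mul, zpow_natCast, pow_orderOf_eq_one, one_zpow]
  have h3 : z ^ orderOf z2 = (z1 ^ u) ^ orderOf z2 := by
    conv_lhs => rw [hz]
    rw [hcomm.mul_pow, h2, mul_one]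
  rw [h3]
  exact Subgroup.pow_mem _ (Subgroup.zpow_mem _ h1 _) _

/-- Commuting elements of coprime orders, the first one non-central. -/
theorem lemmaA [Finite G]
    (h : ∀ x : G, (Subgroup.centralizer ({x} : Set G)).index = 1 ∨ ((Subgroup.centralizer ({x} : Set G)).index).Prime)
    {x y : G} (hx : x ∉ Subgroup.center G) (hxy : x * y = y * x) (hcop : (orderOf x).Coprime (orderOf y)) :
    Subgroup.centralizer ({x} : Set G) ≤ Subgroup.centralizer ({y} : Set G) := by
  have hc : Commute x y := hxy
  obtain ⟨m1, hm1⟩ := exists_pow_eq_self_of_coprime (x := x) hcop.symm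
  obtain ⟨m2, hm2⟩ := exists_pow_eq_self_of_coprime (x := y) hcop
  have h1 : (x * y) ^ (orderOf y * m1) = x := by
    rw [pow_mul, hc.mul_pow, pow_orderOf_eq_one, mul_one, hm1]
  have h2 : (x * y) ^ (orderOf x * m2) = y := by
    rw [pow_mul, hc.mul_pow, pow_orderOf_eq_one, one_mul, hm2]
  have hle1 : Subgroup.centralizer ({x * y} : Set G) ≤ Subgroup.centralizer ({x} : Set G) := by
    have := cent_pow_le (x * y) (orderOf y * m1)
    rwa [h1] at this
  have hle2 : Subgroup.centralizer ({x * y} : Set G) ≤ Subgroup.centralizer ({y} : Set G) := by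
    have := cent_pow_le (x * y) (orderOf x * m2)
    rwa [h2] at this
  have hne : Subgroup.centralizer ({x * y} : Set G) ≠ ⊤ := by
    intro htop
    rw [htop] at hle1
    exact cent_ne_top hx (top_le_iff.mp hle1)
  have hpr : ((Subgroup.centralizer ({x * y} : Set G)).index).Prime := by
    rcases h (x * y) with h1 | h1
    · exact absurd (Subgroup.index_eq_one.mp h1) hne
    · exact h1
  have heq := eq_of_le_prime hle1 hpr (cent_ne_top hx)
  rw [← heq]
  exact hle2

/-- Reduction to an element of prime power order with the same centralizer. -/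
theorem primary [Finite G]
    (h : ∀ x : G, (Subgroup.centralizer ({x} : Set G)).index = 1 ∨ ((Subgroup.centralizer ({x} : Set G)).index).Prime) :
    ∀ (n : ℕ) (x : G), orderOf x = n → x ∉ Subgroup.center G →
      ∃ (y : G) (r k : ℕ), r.Prime ∧ orderOf y = r ^ k ∧ y ∉ Subgroup.center G ∧ y ∈ Subgroup.zpowers x ∧
        Subgroup.centralizer ({y} : Set G) = Subgroup.centralizer ({x} : Set G) := by
  intro n
  induction n using Nat.strong_induction_on with
  | _ n ih =>
    intro x hxn hx
    have hx1 : x ≠ 1 := fun h1 => hx (h1 ▸ Subgroup.one_mem _)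
    have hn1 : n ≠ 1 := by
      rw [← hxn]
      exact fun h1 => hx1 (orderOf_eq_one_iff.mp h1)
    have hr : (n.minFac).Prime := Nat.minFac_prime hn1
    obtain ⟨z1, z2, u, v, hz, hz1, hz2, ⟨k, hk⟩, hcop⟩ := split_elt x n.minFac hr
    by_cases hc1 : z1 ∈ Subgroup.center G
    · have hc2 : z2 ∉ Subgroup.center G := by
        intro hc2
        apply hx
        rw [hz]
        exact Subgroup.mul_mem _ (Subgroup.zpow_mem _ hc1 _) (Subgroup.zpow_mem _ hc2 _)
      have hle := cent_le_of_mem_zpowers hz2
      have heq := eq_of_le_prime hle (cent_index_prime h hx) (cent_ne_top hc2)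
      have hdvd : orderOf z2 ∣ n := hxn ▸ orderOf_dvd_of_mem_zpowers hz2
      have hlt : orderOf z2 < n := by
        have hn0 : 0 < n := hxn ▸ orderOf_pos x
        refine lt_of_le_of_ne (Nat.le_of_dvd hn0 hdvd) ?_
        intro he
        rw [he] at hcop
        have : n.minFac ∣ 1 := by
          have := Nat.Coprime.gcd_eq_one hcop
          rw [← this]
          exact Nat.dvd_gcd (Nat.minFac_dvd n) dvd_rfl
        exact hr.one_lt.ne' (Nat.dvd_one.mp this)
      obtain ⟨y, r, k', hrp, hy, hyc, hyz, hyC⟩ := ih (orderOf z2) hlt z2 rfl hc2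
      refine ⟨y, r, k', hrp, hy, hyc, ?_, ?_⟩
      · obtain ⟨j, rfl⟩ := Subgroup.mem_zpowers_iff.mp hyz
        exact Subgroup.zpow_mem _ hz2 _
      · rw [hyC, ← heq]
    · have hle := cent_le_of_mem_zpowers hz1
      have heq := eq_of_le_prime hle (cent_index_prime h hx) (cent_ne_top hc1)
      exact ⟨z1, n.minFac, k, hr, hk, hc1, hz1, heq.symm⟩

theorem mem_normalizer_of_conj_mem [Finite G] (M : Subgroup G) (g : G) (hg : ∀ m ∈ M, g * m * g⁻¹ ∈ M) :
    g ∈ Subgroup.normalizer (M : Set G) := by
  rw [Subgroup.mem_normalizer_iff]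
  intro x
  refine ⟨hg x, fun hx => ?_⟩
  let φ : M → M := fun m => ⟨g * m * g⁻¹, hg m m.2⟩
  have hinj : Function.Injective φ := by
    intro a b hab
    have : g * (a : G) * g⁻¹ = g * (b : G) * g⁻¹ := congrArg Subtype.val hab
    exact Subtype.ext (mul_left_cancel (mul_right_cancel this))
  obtain ⟨m, hm⟩ := (Finite.injective_iff_surjective.mp hinj) ⟨g * x * g⁻¹, hx⟩
  have : g * (m : G) * g⁻¹ = g * x * g⁻¹ := congrArg Subtype.val hm
  have hmx : (m : G) = x := mul_left_cancel (mul_right_cancel this)
  rw [← hmx]
  exact m.2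

theorem not_comm_quot (M : Subgroup G) (hZM : Subgroup.center G ≤ M) (hMn : ¬ M.Normal) :
    ¬ IsMulCommutative (G ⧸ Subgroup.center G) := by
  intro hcomm
  apply hMn
  refine ⟨fun m hm g => ?_⟩
  have h1 : ((g * m * g⁻¹ * m⁻¹ : G) : G ⧸ Subgroup.center G) = 1 := by
    have hc := (isMulCommutative_iff.mp hcomm) ((g : G) : G ⧸ Subgroup.center G) (m : G ⧸ Subgroup.center G)
    rw [QuotientGroup.mk_mul, QuotientGroup.mk_mul, QuotientGroup.mk_mul, hc]
    simp
  have h2 : g * m * g⁻¹ * m⁻¹ ∈ Subgroup.center G := (QuotientGroup.eq_one_iff _).mp h1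
  have h3 := M.mul_mem (hZM h2) hm
  simpa using h3

/-- An abelian non-normal subgroup of prime index. -/
theorem lemmaB [Finite G]
    (h : ∀ x : G, (Subgroup.centralizer ({x} : Set G)).index = 1 ∨ ((Subgroup.centralizer ({x} : Set G)).index).Prime)
    (M : Subgroup G) (hMab : ∀ a ∈ M, ∀ b ∈ M, a * b = b * a) (hMi : M.index.Prime) (hMn : ¬ M.Normal) :
    ∃ q : ℕ, q.Prime ∧ q ≠ M.index ∧ Nat.card (G ⧸ Subgroup.center G) = M.index * q ∧
      ¬ IsMulCommutative (G ⧸ Subgroup.center G) := by
  classical
  have hMtop : M ≠ ⊤ := by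
    intro ht
    rw [ht, Subgroup.index_top] at hMi
    exact Nat.not_prime_one hMi
  have hNM : Subgroup.normalizer (M : Set G) = M :=
    (eq_of_le_prime Subgroup.le_normalizer hMi (fun ht => hMn (Subgroup.normalizer_eq_top_iff.mp ht))).symm
  have hZM : Subgroup.center G ≤ M := by
    intro z hz
    rw [← hNM, Subgroup.mem_normalizer_iff]
    intro x
    have hzx : z * x * z⁻¹ = x := by
      rw [Subgroup.mem_center_iff] at hz
      rw [← hz x, mul_inv_cancel_right]
    rw [hzx]
  -- centralizers of non-central elements of M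
  have hCM : ∀ u ∈ M, u ∉ Subgroup.center G → Subgroup.centralizer ({u} : Set G) = M := by
    intro u hu huZ
    refine (eq_of_le_prime ?_ hMi (cent_ne_top huZ)).symm
    intro m hm
    rw [Subgroup.mem_centralizer_singleton_iff]
    exact hMab m hm u hu
  have hclaim : ∀ u ∈ M, u ∉ Subgroup.center G → ∀ g : G, g * u * g⁻¹ ∈ M → g ∈ M := by
    intro u hu huZ g hgu
    have huZ' : g * u * g⁻¹ ∉ Subgroup.center G := by
      intro hc
      apply huZ
      have := (inferInstance : (Subgroup.center G).Normal).conj_mem _ hc g⁻¹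
      simpa [mul_assoc] using this
    have h1 := hCM u hu huZ
    have h2 := hCM _ hgu huZ'
    have hginv : g⁻¹ ∈ Subgroup.normalizer (M : Set G) := by
      apply mem_normalizer_of_conj_mem
      intro m hm
      rw [inv_inv, ← h1, Subgroup.mem_centralizer_singleton_iff]
      have hm2 : m ∈ Subgroup.centralizer ({g * u * g⁻¹} : Set G) := by rw [h2]; exact hm
      rw [Subgroup.mem_centralizer_singleton_iff] at hm2
      calc g⁻¹ * m * g * u = g⁻¹ * (m * (g * u * g⁻¹)) * g := by group
        _ = g⁻¹ * ((g * u * g⁻¹) * m) * g := by rw [hm2]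
        _ = u * (g⁻¹ * m * g) := by group
    rw [hNM] at hginv
    simpa using M.inv_mem hginv
  have hcore : M.normalCore = Subgroup.center G := by
    apply le_antisymm
    · intro u hu
      by_contra huZ
      have huM : u ∈ M := Subgroup.normalCore_le M hu
      apply hMtop
      rw [eq_top_iff]
      intro g _
      exact hclaim u huM huZ g (hu g)
    · exact Subgroup.normal_le_normalCore.mpr hZM
  have hdvd : (Subgroup.center G).index ∣ (M.index).factorial := by
    rw [← hcore, Subgroup.normalCore_eq_ker, Subgroup.index_ker, Subgroup.index_eq_card, ← Nat.card_perm]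
    exact Subgroup.card_subgroup_dvd_card (MulAction.toPermHom G (G ⧸ M)).range
  set p := M.index with hp
  set m := (Subgroup.center G).relIndex M with hm
  have hmp : m * p = (Subgroup.center G).index := Subgroup.relIndex_mul_index hZM
  have hpm : ¬ p ∣ m := by
    intro hpm
    have h1 : m * p ∣ (p - 1).factorial * p := by
      rw [hmp, mul_comm, Nat.mul_factorial_pred hMi.pos.ne']
      exact hdvd
    have h2 : m ∣ (p - 1).factorial := Nat.dvd_of_mul_dvd_mul_right hMi.pos h1
    have h3 : p ≤ p - 1 := (Nat.Prime.dvd_factorial hMi).mp (hpm.trans h2)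
    have := hMi.pos
    omega
  have hFp : Fact p.Prime := ⟨hMi⟩
  have hpQ : p ∣ Nat.card (G ⧸ Subgroup.center G) := by
    rw [← Subgroup.index_eq_card, ← hmp]
    exact dvd_mul_left _ _
  obtain ⟨kb, hkb⟩ := exists_prime_orderOf_dvd_card' (G := G ⧸ Subgroup.center G) p hpQ
  obtain ⟨k, rfl⟩ := QuotientGroup.mk_surjective kb
  have hkZ : k ∉ Subgroup.center G := by
    intro hk
    have : ((k : G) : G ⧸ Subgroup.center G) = 1 := (QuotientGroup.eq_one_iff _).mpr hk
    rw [this, orderOf_one] at hkb
    exact hMi.one_lt.ne hkb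
  have hkM : k ∉ M := by
    intro hkM
    have h1 : k ^ m ∈ Subgroup.center G := Subgroup.pow_relIndex_mem _ hkM
    have h2 : ((k : G) : G ⧸ Subgroup.center G) ^ m = 1 := by
      rw [← QuotientGroup.mk_pow]
      exact (QuotientGroup.eq_one_iff _).mpr h1
    exact hpm (hkb ▸ orderOf_dvd_of_pow_eq_one h2)
  set N := Subgroup.centralizer ({k} : Set G) with hN
  have hNpr : N.index.Prime := cent_index_prime h hkZ
  have hinf : M ⊓ N = Subgroup.center G := by
    apply le_antisymm
    · intro u ⟨huM, huN⟩
      by_contra huZ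
      have h1 := hCM u huM huZ
      apply hkM
      rw [← h1, Subgroup.mem_centralizer_singleton_iff]
      have huN' : u ∈ Subgroup.centralizer ({k} : Set G) := huN
      rw [Subgroup.mem_centralizer_singleton_iff] at huN'
      exact huN'.symm
    · exact le_inf hZM (Subgroup.center_le_centralizer _)
  set c := (Subgroup.center G).relIndex N with hc
  have hcq : c * N.index = (Subgroup.center G).index :=
    Subgroup.relIndex_mul_index (Subgroup.center_le_centralizer _)
  have hcle : c ≤ p := by
    rw [hc, ← hinf, Subgroup.inf_relIndex_right]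
    have := Subgroup.relIndex_le_of_le_right (H := M) (le_top : N ≤ ⊤)
      (by rw [Subgroup.relIndex_top_right]; exact hMi.pos.ne')
    rwa [Subgroup.relIndex_top_right] at this
  have hkN : k ∈ N := by
    rw [hN, Subgroup.mem_centralizer_singleton_iff]
  have hpc : p ∣ c := by
    have h1 : k ^ c ∈ Subgroup.center G := Subgroup.pow_relIndex_mem _ hkN
    have h2 : ((k : G) : G ⧸ Subgroup.center G) ^ c = 1 := by
      rw [← QuotientGroup.mk_pow]
      exact (QuotientGroup.eq_one_iff _).mpr h1
    exact hkb ▸ orderOf_dvd_of_pow_eq_one h2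
  have hc0 : c ≠ 0 := by
    intro h0
    rw [h0, zero_mul] at hcq
    exact (Subgroup.index_ne_zero_of_finite (H := Subgroup.center G)) hcq.symm
  have hcp : c = p := le_antisymm hcle (Nat.le_of_dvd (Nat.pos_of_ne_zero hc0) hpc)
  have hqm : N.index = m := by
    have : p * N.index = m * p := by rw [← hcp, hcq, hcp, hmp]
    rw [mul_comm m p] at this
    exact Nat.eq_of_mul_eq_mul_left hMi.pos this
  refine ⟨N.index, hNpr, ?_, ?_, not_comm_quot M hZM hMn⟩
  · intro he
    apply hpm
    rw [← hqm, he]
  · rw [← Subgroup.index_eq_card, ← hmp, hqm, mul_comm]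


/-- Let `G` be a finite group every conjugacy class of which has size 1 or a prime. Then either `G` is nilpotent of class at most 2, or `G/Z(G)` is a non-abelian group of order `pq` for distinct primes `p, q` (a Frobenius group of order `pq`). -/
theorem result {G : Type*} [Group G] [Finite G]
    (h : ∀ x : G, (Subgroup.centralizer ({x} : Set G)).index = 1 ∨ ((Subgroup.centralizer ({x} : Set G)).index).Prime) :
    Subgroup.upperCentralSeries G 2 = ⊤ ∨
      ∃ p q : ℕ, p.Prime ∧ q.Prime ∧ p ≠ q ∧ Nat.card (G ⧸ Subgroup.center G) = p * q ∧ ¬ IsMulCommutative (G ⧸ Subgroup.center G) := by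
  classical
  by_cases hall : ∀ x : G, x ∉ Subgroup.center G → (Subgroup.centralizer ({x} : Set G)).Normal
  · left
    rw [eq_top_iff]
    intro x _
    rw [Subgroup.mem_upperCentralSeries_succ_iff]
    intro y
    rw [Subgroup.upperCentralSeries_one, Subgroup.mem_center_iff]
    intro z
    by_cases hz : z ∈ Subgroup.center G
    · exact Subgroup.mem_center_iff.mp hz _ |>.symm
    · have hn := hall z hz
      have hpr := cent_index_prime h hz
      have hFp : Fact ((Subgroup.centralizer ({z} : Set G)).index).Prime := ⟨hpr⟩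
      have hcyc : IsCyclic (G ⧸ Subgroup.centralizer ({z} : Set G)) :=
        isCyclic_of_prime_card (p := (Subgroup.centralizer ({z} : Set G)).index)
          (Subgroup.index_eq_card _).symm
      have hmem : x * y * x⁻¹ * y⁻¹ ∈ Subgroup.centralizer ({z} : Set G) := by
        rw [← QuotientGroup.eq_one_iff]
        have hc := (isMulCommutative_iff.mp (inferInstance : IsMulCommutative (G ⧸ Subgroup.centralizer ({z} : Set G))))
          ((x : G) : G ⧸ Subgroup.centralizer ({z} : Set G)) (y : G ⧸ Subgroup.centralizer ({z} : Set G))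
        rw [QuotientGroup.mk_mul, QuotientGroup.mk_mul, QuotientGroup.mk_mul, hc]
        simp
      rw [Subgroup.mem_centralizer_singleton_iff] at hmem
      exact hmem.symm
  · right
    simp only [not_forall] at hall
    obtain ⟨x0, hx0, hx0n⟩ := hall
    obtain ⟨y, r, k, hr, hyo, hyZ, -, hyC⟩ := primary h (orderOf x0) x0 rfl hx0
    set M := Subgroup.centralizer ({y} : Set G) with hM
    have hMn : ¬ M.Normal := by rw [hyC]; exact hx0n
    have hMpr : M.index.Prime := cent_index_prime h hyZ
    have hMtop : M ≠ ⊤ := cent_ne_top hyZ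
    have hZM : Subgroup.center G ≤ M := Subgroup.center_le_centralizer _
    have hyM : y ∈ M := by rw [hM, Subgroup.mem_centralizer_singleton_iff]
    -- elements of M whose order is coprime to r are central in M
    have hA1 : ∀ z ∈ M, (orderOf z).Coprime r → M ≤ Subgroup.centralizer ({z} : Set G) := by
      intro z hz hcop
      have hz' : z * y = y * z := Subgroup.mem_centralizer_singleton_iff.mp hz
      refine lemmaA h hyZ hz'.symm ?_
      rw [hyo]
      exact Nat.Coprime.pow_left _ hcop.symm
    by_cases hb : ∃ b ∈ M, b ∉ Subgroup.center G ∧ (orderOf b).Coprime r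
    · -- Case 1: M is abelian
      obtain ⟨b, hbM, hbZ, hbcop⟩ := hb
      have hCb : Subgroup.centralizer ({b} : Set G) = M :=
        (eq_of_le_prime (hA1 b hbM hbcop) hMpr (cent_ne_top hbZ)).symm
      obtain ⟨b', s, j, hs, hb'o, hb'Z, hb'z, hb'C⟩ := primary h (orderOf b) b rfl hbZ
      rw [hCb] at hb'C
      have hb'cop : (orderOf b').Coprime r :=
        Nat.Coprime.coprime_dvd_left (orderOf_dvd_of_mem_zpowers hb'z) hbcop
      have hA2 : ∀ z ∈ M, (∃ e : ℕ, orderOf z = r ^ e) → M ≤ Subgroup.centralizer ({z} : Set G) := by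
        intro z hz ⟨e, he⟩
        have hz' : z * b' = b' * z := by
          rw [← hb'C] at hz
          exact Subgroup.mem_centralizer_singleton_iff.mp hz
        have := lemmaA h hb'Z hz'.symm (by rw [he]; exact Nat.Coprime.pow_right _ hb'cop)
        rwa [hb'C] at this
      have hMab : ∀ a ∈ M, ∀ c ∈ M, a * c = c * a := by
        intro a ha c hc
        obtain ⟨z1, z2, u, v, hz, hz1, hz2, hk1, hcop2⟩ := split_elt a r hr
        have hz1M : z1 ∈ M := by
          obtain ⟨i, rfl⟩ := Subgroup.mem_zpowers_iff.mp hz1
          exact Subgroup.zpow_mem _ ha _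
        have hz2M : z2 ∈ M := by
          obtain ⟨i, rfl⟩ := Subgroup.mem_zpowers_iff.mp hz2
          exact Subgroup.zpow_mem _ ha _
        have h1 : Commute c z1 := Subgroup.mem_centralizer_singleton_iff.mp (hA2 z1 hz1M hk1 hc)
        have h2 : Commute c z2 := Subgroup.mem_centralizer_singleton_iff.mp (hA1 z2 hz2M hcop2 hc)
        have h3 : Commute c a := by
          rw [hz]
          exact (h1.zpow_right u).mul_right (h2.zpow_right v)
        exact h3.eq.symm
      obtain ⟨q, hq, hqp, hcard, hnc⟩ := lemmaB h M hMab hMpr hMn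
      exact ⟨M.index, q, hMpr, hq, hqp.symm, hcard, hnc⟩
    · -- Case 2: M / Z is an r-group
      simp only [not_exists, not_and] at hb
      have hb' : ∀ b ∈ M, (orderOf b).Coprime r → b ∈ Subgroup.center G := by
        intro b hbM hcop
        by_contra hbZ
        exact hb b hbM hbZ hcop
      have hFr : Fact r.Prime := ⟨hr⟩
      -- every element of M has an r-power lying in the center
      have hpowZ : ∀ a ∈ M, ∃ e : ℕ, a ^ (r ^ e) ∈ Subgroup.center G := by
        intro a ha
        obtain ⟨z1, z2, u, v, hz, hz1, hz2, ⟨e, he⟩, hcop2⟩ := split_elt a r hr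
        have hz2M : z2 ∈ M := by
          obtain ⟨i, rfl⟩ := Subgroup.mem_zpowers_iff.mp hz2
          exact Subgroup.zpow_mem _ ha _
        have hz2Z := hb' z2 hz2M hcop2
        refine ⟨e, ?_⟩
        have hcomm : Commute (z1 ^ u) (z2 ^ v) := by
          have : Commute z1 z2 := by
            obtain ⟨i, rfl⟩ := Subgroup.mem_zpowers_iff.mp hz1
            obtain ⟨i', rfl⟩ := Subgroup.mem_zpowers_iff.mp hz2
            exact (Commute.refl a).zpow_zpow i i'
          exact this.zpow_zpow u v
        rw [hz, hcomm.mul_pow]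
        have h1 : (z1 ^ u) ^ (r ^ e) = 1 := by
          rw [← zpow_natCast, ← zpow_mul, mul_comm, zpow_mul, zpow_natCast, ← he, pow_orderOf_eq_one, one_zpow]
        rw [h1, one_mul]
        exact Subgroup.pow_mem _ (Subgroup.zpow_mem _ hz2Z _) _
      have hPG : IsPGroup r (↥M ⧸ (Subgroup.center G).subgroupOf M) := by
        intro gb
        obtain ⟨g, rfl⟩ := QuotientGroup.mk_surjective gb
        obtain ⟨e, he⟩ := hpowZ (g : G) g.2
        refine ⟨e, ?_⟩
        rw [← QuotientGroup.mk_pow, QuotientGroup.eq_one_iff, Subgroup.mem_subgroupOf]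
        simpa using he
      obtain ⟨a, ha⟩ := IsPGroup.iff_card.mp hPG
      have hma : (Subgroup.center G).relIndex M = r ^ a := by
        rw [← ha]
        exact Subgroup.index_eq_card _
      set p := M.index with hp
      have hidx : r ^ a * p = (Subgroup.center G).index := by
        rw [← hma]
        exact Subgroup.relIndex_mul_index hZM
      have ha1 : a ≠ 0 := by
        rintro rfl
        rw [pow_zero] at hma
        exact hyZ (Subgroup.relIndex_eq_one.mp hma hyM)
      have hNM : Subgroup.normalizer (M : Set G) = M :=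
        (eq_of_le_prime Subgroup.le_normalizer hMpr (fun ht => hMn (Subgroup.normalizer_eq_top_iff.mp ht))).symm
      have hpr : p ≠ r := by
        intro hpr
        have hcardQ : Nat.card (G ⧸ Subgroup.center G) = r ^ (a + 1) := by
          rw [← Subgroup.index_eq_card, ← hidx, hpr, pow_succ]
        have hQP : IsPGroup r (G ⧸ Subgroup.center G) := IsPGroup.of_card hcardQ
        have hQnil : Group.IsNilpotent (G ⧸ Subgroup.center G) := hQP.isNilpotent
        have hGnil : Group.IsNilpotent G :=
          Subgroup.isNilpotent_of_ker_le_center (QuotientGroup.mk' (Subgroup.center G))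
            (by rw [QuotientGroup.ker_mk'])
        have hnc := Group.normalizerCondition_of_isNilpotent (G := G)
        have := hnc M (lt_top_iff_ne_top.mpr hMtop)
        rw [hNM] at this
        exact lt_irrefl _ this
      -- a non-central p-element
      have hFp : Fact p.Prime := ⟨hMpr⟩
      have hpQ : p ∣ Nat.card (G ⧸ Subgroup.center G) := by
        rw [← Subgroup.index_eq_card, ← hidx]
        exact dvd_mul_left _ _
      obtain ⟨tb, htb⟩ := exists_prime_orderOf_dvd_card' (G := G ⧸ Subgroup.center G) p hpQ
      obtain ⟨t0, rfl⟩ := QuotientGroup.mk_surjective tb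
      obtain ⟨t, t2, u, v, ht0, ht1, ht2, ⟨e, hte⟩, hcopt⟩ := split_elt t0 p hMpr
      have htZ : t ∉ Subgroup.center G := by
        intro htZ
        have h2 : ((t0 : G) : G ⧸ Subgroup.center G) ^ orderOf t2 = 1 := by
          rw [← QuotientGroup.mk_pow]
          exact (QuotientGroup.eq_one_iff _).mpr (pow_mem_of_split ht0 ht1 ht2 htZ)
        have h3 : p ∣ orderOf t2 := htb ▸ orderOf_dvd_of_pow_eq_one h2
        have h4 : p ∣ 1 := by
          have := Nat.Coprime.gcd_eq_one hcopt
          rw [← this]
          exact Nat.dvd_gcd h3 dvd_rfl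
        exact hMpr.one_lt.ne' (Nat.dvd_one.mp h4)
      set N := Subgroup.centralizer ({t} : Set G) with hN
      have hNpr : N.index.Prime := cent_index_prime h htZ
      have hZN : Subgroup.center G ≤ N := Subgroup.center_le_centralizer _
      have htN : t ∈ N := by rw [hN, Subgroup.mem_centralizer_singleton_iff]
      have hNidx : (Subgroup.center G).relIndex N * N.index = r ^ a * p := by
        rw [hidx]
        exact Subgroup.relIndex_mul_index hZN
      have hNr : N.index = r := by
        have hdvd : N.index ∣ r ^ a * p := hNidx ▸ dvd_mul_left _ _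
        rcases (Nat.Prime.dvd_mul hNpr).mp hdvd with h1 | h1
        · exact (Nat.prime_dvd_prime_iff_eq hNpr hr).mp (hNpr.dvd_of_dvd_pow h1)
        · exfalso
          have hNp : N.index = p := (Nat.prime_dvd_prime_iff_eq hNpr hMpr).mp h1
          rw [hNp] at hNidx
          have hrel : (Subgroup.center G).relIndex N = r ^ a :=
            Nat.eq_of_mul_eq_mul_right hMpr.pos hNidx
          have h2 : t ^ (r ^ a) ∈ Subgroup.center G := by
            rw [← hrel]
            exact Subgroup.pow_relIndex_mem _ htN
          -- t has p-power order, so t is a power of t ^ (r ^ a)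
          have hcop : (r ^ a).Coprime (orderOf t) := by
            rw [hte]
            exact Nat.Coprime.pow _ _ ((Nat.coprime_primes hr hMpr).mpr (Ne.symm hpr))
          obtain ⟨m', hm'⟩ := exists_pow_eq_self_of_coprime hcop
          apply htZ
          rw [← hm']
          exact Subgroup.pow_mem _ h2 _
      have hNrel : (Subgroup.center G).relIndex N = r ^ (a - 1) * p := by
        rw [hNr] at hNidx
        have : r ^ a = r ^ (a - 1) * r := by
          rw [← pow_succ]
          congr 1
          omega
        rw [this] at hNidx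
        have h3 : (Subgroup.center G).relIndex N * r = r ^ (a - 1) * p * r := by
          rw [hNidx]; ring
        exact Nat.eq_of_mul_eq_mul_right hr.pos h3
      by_cases ha2 : a = 1
      · -- |G/Z| = p * r
        refine ⟨p, r, hMpr, hr, hpr, ?_, not_comm_quot M hZM hMn⟩
        rw [← Subgroup.index_eq_card, ← hidx, ha2, pow_one, mul_comm]
      · exfalso
        have ha2' : 2 ≤ a := by omega
        -- a non-central r-element of N
        have hrdvd : r ∣ Nat.card (↥N ⧸ (Subgroup.center G).subgroupOf N) := by
          rw [← Subgroup.index_eq_card]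
          change r ∣ (Subgroup.center G).relIndex N
          rw [hNrel]
          exact Dvd.dvd.mul_right (dvd_pow_self r (by omega)) p
        obtain ⟨wb, hwb⟩ := exists_prime_orderOf_dvd_card' (G := ↥N ⧸ (Subgroup.center G).subgroupOf N) r hrdvd
        obtain ⟨w0, rfl⟩ := QuotientGroup.mk_surjective wb
        obtain ⟨w, w2, u', v', hw0, hw1, hw2, ⟨e', hwe⟩, hcopw⟩ := split_elt (w0 : G) r hr
        have hwN : w ∈ N := by
          obtain ⟨i, rfl⟩ := Subgroup.mem_zpowers_iff.mp hw1
          exact Subgroup.zpow_mem _ w0.2 _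
        have hw2N : w2 ∈ N := by
          obtain ⟨i, rfl⟩ := Subgroup.mem_zpowers_iff.mp hw2
          exact Subgroup.zpow_mem _ w0.2 _
        have hwZ : w ∉ Subgroup.center G := by
          intro hwZ
          have h2 : (w0 : ↥N ⧸ (Subgroup.center G).subgroupOf N) ^ orderOf w2 = 1 := by
            rw [← QuotientGroup.mk_pow, QuotientGroup.eq_one_iff, Subgroup.mem_subgroupOf, Subgroup.coe_pow]
            exact pow_mem_of_split hw0 hw1 hw2 hwZ
          have h3 : r ∣ orderOf w2 := hwb ▸ orderOf_dvd_of_pow_eq_one h2
          have h4 : r ∣ 1 := by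
            have := Nat.Coprime.gcd_eq_one hcopw
            rw [← this]
            exact Nat.dvd_gcd h3 dvd_rfl
          exact hr.one_lt.ne' (Nat.dvd_one.mp h4)
        -- centralizer of w is N
        have hwt : w * t = t * w := Subgroup.mem_centralizer_singleton_iff.mp hwN
        have hcoptw : (orderOf t).Coprime (orderOf w) := by
          rw [hte, hwe]
          exact Nat.Coprime.pow _ _ ((Nat.coprime_primes hMpr hr).mpr hpr)
        have hCw : Subgroup.centralizer ({w} : Set G) = N :=
          (eq_of_le_prime (lemmaA h htZ hwt.symm hcoptw) hNpr (cent_ne_top hwZ)).symm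
        -- N is abelian
        have hNab : ∀ a' ∈ N, ∀ c ∈ N, a' * c = c * a' := by
          intro a' ha' c hc
          obtain ⟨z1, z2, u2, v2, hz, hz1, hz2, ⟨e2, he2⟩, hcop2⟩ := split_elt a' r hr
          have hz1N : z1 ∈ N := by
            obtain ⟨i, rfl⟩ := Subgroup.mem_zpowers_iff.mp hz1
            exact Subgroup.zpow_mem _ ha' _
          have hz2N : z2 ∈ N := by
            obtain ⟨i, rfl⟩ := Subgroup.mem_zpowers_iff.mp hz2
            exact Subgroup.zpow_mem _ ha' _
          have hc1 : N ≤ Subgroup.centralizer ({z1} : Set G) := by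
            have hz1t : z1 * t = t * z1 := Subgroup.mem_centralizer_singleton_iff.mp hz1N
            refine lemmaA h htZ hz1t.symm ?_
            rw [hte, he2]
            exact Nat.Coprime.pow _ _ ((Nat.coprime_primes hMpr hr).mpr hpr)
          have hc2 : N ≤ Subgroup.centralizer ({z2} : Set G) := by
            have hz2w : z2 * w = w * z2 := by
              rw [← hCw] at hz2N
              exact Subgroup.mem_centralizer_singleton_iff.mp hz2N
            have := lemmaA h hwZ hz2w.symm (by rw [hwe]; exact Nat.Coprime.pow_left _ hcop2.symm)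
            rwa [hCw] at this
          have h1 : Commute c z1 := Subgroup.mem_centralizer_singleton_iff.mp (hc1 hc)
          have h2 : Commute c z2 := Subgroup.mem_centralizer_singleton_iff.mp (hc2 hc)
          have h3 : Commute c a' := by
            rw [hz]
            exact (h1.zpow_right u2).mul_right (h2.zpow_right v2)
          exact h3.eq.symm
        by_cases hNn : N.Normal
        · -- N normal: M ⊓ N = Z, contradiction with a ≥ 2
          have hyN : y ∉ N := by
            intro hyN
            have hle : N ≤ M := by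
              intro c hc
              rw [hM, Subgroup.mem_centralizer_singleton_iff]
              exact hNab c hc y hyN
            have hNM' := eq_of_le_prime hle hNpr hMtop
            exact hMn (hNM' ▸ hNn)
          have hinf : N ⊓ M = Subgroup.center G := by
            apply le_antisymm
            · intro u' ⟨huN, huM⟩
              by_contra huZ
              have hle : N ≤ Subgroup.centralizer ({u'} : Set G) := by
                intro c hc
                rw [Subgroup.mem_centralizer_singleton_iff]
                exact hNab c hc u' huN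
              have hCu := eq_of_le_prime hle hNpr (cent_ne_top huZ)
              apply hyN
              rw [hCu, Subgroup.mem_centralizer_singleton_iff]
              have huM' : u' ∈ Subgroup.centralizer ({y} : Set G) := huM
              exact (Subgroup.mem_centralizer_singleton_iff.mp huM').symm
            · exact le_inf hZN hZM
          have hle : r ^ a ≤ r := by
            rw [← hma, ← hinf, Subgroup.inf_relIndex_right, ← hNr]
            have := Subgroup.relIndex_le_of_le_right (H := N) (le_top : M ≤ ⊤)
              (by rw [Subgroup.relIndex_top_right]; exact hNpr.pos.ne')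
            rwa [Subgroup.relIndex_top_right] at this
          have hlt : r ^ 1 < r ^ a := Nat.pow_lt_pow_right hr.one_lt (by omega)
          rw [pow_one] at hlt
          omega
        · -- N not normal: lemma B
          obtain ⟨q, hq, hqr, hcard, -⟩ := lemmaB h N hNab hNpr hNn
          rw [← Subgroup.index_eq_card, ← hidx, hNr] at hcard
          rw [hNr] at hqr
          have h1 : r ^ a = r ^ (a - 1) * r := by
            rw [← pow_succ]
            congr 1
            omega
          rw [h1] at hcard
          have h2 : r * (r ^ (a - 1) * p) = r * q := by rw [← hcard]; ring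
          have h3 : r ^ (a - 1) * p = q := Nat.eq_of_mul_eq_mul_left hr.pos h2
          have h4 : r ∣ q := by
            rw [← h3]
            exact Dvd.dvd.mul_right (dvd_pow_self r (by omega)) p
          exact hqr ((Nat.prime_dvd_prime_iff_eq hr hq).mp h4).symm

end Cfsg.Agent.S4314
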