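import Cfsg.Statements.S4347
-- import your own Cfsg.Agent.* helpers here

set_option autoImplicit false
open Cfsg

namespace Cfsg.Agent.S4347

open scoped Pointwise

/-- Let G be a finite group and p a prime. Say a Sylow p-subgroup Q is redundant when every element of p-power order lies in some Sylow p-subgroup other than Q. Then G has no redundant Sylow p-subgroup if and only if some element of p-power order lies in exactly one Sylow p-subgroup. -/
theorem result {G : Type*} [Group G] [Finite G]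
    (p : ℕ) [Fact p.Prime] :
    (¬ ∃ Q : Sylow p G, ∀ x : G, (∃ k : ℕ, orderOf x = p ^ k) → ∃ P : Sylow p G, P ≠ Q ∧ x ∈ P) ↔
      ∃ x : G, (∃ k : ℕ, orderOf x = p ^ k) ∧ ∃! P : Sylow p G, x ∈ P := by
  constructor
  · intro h
    obtain ⟨Q0⟩ := (Sylow.nonempty : Nonempty (Sylow p G))
    have h2 : ∃ x : G, (∃ k : ℕ, orderOf x = p ^ k) ∧ ∀ P : Sylow p G, P ≠ Q0 → x ∉ P := by
      by_contra hc
      apply h
      refine ⟨Q0, fun x hx => ?_⟩
      by_contra hc2
      apply hc
      exact ⟨x, hx, fun P hP hxP => hc2 ⟨P, hP, hxP⟩⟩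
    obtain ⟨x, hx, hxu⟩ := h2
    refine ⟨x, hx, ?_⟩
    have hpg : IsPGroup p (Subgroup.zpowers x) := by
      obtain ⟨k, hk⟩ := hx
      apply IsPGroup.of_card (n := k)
      rw [Nat.card_zpowers, hk]
    obtain ⟨P1, hP1⟩ := hpg.exists_le_sylow
    have hxP1 : x ∈ P1 := hP1 (Subgroup.mem_zpowers x)
    have hPQ : P1 = Q0 := by
      by_contra hne
      exact hxu P1 hne hxP1
    refine ⟨Q0, hPQ ▸ hxP1, fun P hP => ?_⟩
    by_contra hne
    exact hxu P hne hP
  · rintro ⟨x, ⟨k, hk⟩, P0, hxP0, huniq⟩ ⟨Q, hQ⟩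
    obtain ⟨g, hg⟩ := MulAction.exists_smul_eq G P0 Q
    have hy : ∃ k : ℕ, orderOf (g * x * g⁻¹) = p ^ k := by
      refine ⟨k, ?_⟩
      rw [← hk]
      have hs : SemiconjBy g x (g * x * g⁻¹) := by
        unfold SemiconjBy; group
      exact (hs.orderOf_eq).symm
    obtain ⟨P, hPQ, hyP⟩ := hQ (g * x * g⁻¹) hy
    have hmem : x ∈ (g⁻¹ • P : Sylow p G) := by
      have h1 : x ∈ ((g⁻¹ • P : Sylow p G) : Subgroup G) := by
        rw [Sylow.coe_subgroup_smul, Subgroup.mem_pointwise_smul_iff_inv_smul_mem]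
        have : (MulAut.conj g⁻¹)⁻¹ • x = g * x * g⁻¹ := by
          rw [MulAut.smul_def, MulAut.conj_inv_apply]; group
        rw [this]; exact hyP
      exact h1
    have h3 := huniq _ hmem
    apply hPQ
    rw [← hg, ← h3, smul_smul, mul_inv_cancel, one_smul]

end Cfsg.Agent.S4347
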