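import Cfsg.Statements.S4348
-- import your own Cfsg.Agent.* helpers here

set_option autoImplicit false
open Cfsg

namespace Cfsg.Agent.S4348

open scoped Pointwise

/-- Let G be a finite group, p a prime and P a Sylow p-subgroup of G, and let O_p(G) be the largest normal p-subgroup of G. If P/O_p(G) is cyclic, then some element of p-power order of G lies in exactly one Sylow p-subgroup. -/
theorem result {G : Type*} [Group G] [Finite G]
    (p : ℕ) [Fact p.Prime] (P : Sylow p G)
    [hn : ((Cfsg.pCore p G).subgroupOf (P : Subgroup G)).Normal]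
    (hc : IsCyclic ((P : Subgroup G) ⧸ (Cfsg.pCore p G).subgroupOf (P : Subgroup G))) :
    ∃ x : G, (∃ k : ℕ, orderOf x = p ^ k) ∧ ∃! Q : Sylow p G, x ∈ Q := by
  obtain ⟨gbar, hgbar⟩ := hc.exists_generator
  obtain ⟨y, rfl⟩ := QuotientGroup.mk_surjective gbar
  refine ⟨(y : G), ?_, ?_⟩
  · obtain ⟨k, hk⟩ := (IsPGroup.iff_orderOf.mp P.isPGroup') y
    exact ⟨k, by rw [Subgroup.orderOf_coe]; exact hk⟩
  · have hcore : ∀ Q : Sylow p G, Cfsg.pCore p G ≤ (Q : Subgroup G) := by
      intro Q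
      unfold Cfsg.pCore
      apply sSup_le
      rintro N ⟨hN1, hN2⟩
      haveI := hN1
      exact hN2.le_sylow_of_normal Q
    refine ⟨P, y.2, ?_⟩
    intro Q hQ
    have hle : (P : Subgroup G) ≤ (Q : Subgroup G) := by
      intro z hz
      obtain ⟨n, hn⟩ := Subgroup.mem_zpowers_iff.mp (hgbar (QuotientGroup.mk ⟨z, hz⟩))
      have h1 : (y ^ n)⁻¹ * ⟨z, hz⟩ ∈ (Cfsg.pCore p G).subgroupOf (P : Subgroup G) := by
        rw [← QuotientGroup.eq, ← hn]; rfl
      rw [Subgroup.mem_subgroupOf] at h1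
      have h2 : ((y : G) ^ n)⁻¹ * z ∈ (Q : Subgroup G) := by
        have := hcore Q h1
        simpa using this
      have h3 : (y : G) ^ n ∈ (Q : Subgroup G) := Subgroup.zpow_mem _ hQ n
      have : z = (y : G) ^ n * (((y : G) ^ n)⁻¹ * z) := by group
      rw [this]
      exact Subgroup.mul_mem _ h3 h2
    exact Sylow.ext (P.is_maximal' Q.isPGroup' hle)

end Cfsg.Agent.S4348
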