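import Cfsg.Statements.S4398
import Cfsg.Agent.S4143
import Cfsg.Agent.S0115
import Cfsg.Agent.S4399

set_option autoImplicit false
open Cfsg

namespace Cfsg.Agent.S4398

set_option maxRecDepth 100000 in
theorem d8_a : ∀ u v : DihedralGroup 4, u * u * v = v * (u * u) := by decide +kernel

set_option maxRecDepth 100000 in
theorem d8_b : ∀ u v w : DihedralGroup 4,
    u * v * u⁻¹ * v⁻¹ * w = w * (u * v * u⁻¹ * v⁻¹) := by decide +kernel

set_option maxRecDepth 100000 in
theorem d8_c : ∀ u : DihedralGroup 4, (∀ v, u * v = v * u) → u = 1 ∨ u = DihedralGroup.r 2 := by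
  decide +kernel

theorem d8_d : ∃ u v : DihedralGroup 4, u * v ≠ v * u :=
  ⟨DihedralGroup.r 1, DihedralGroup.sr 0, by decide⟩

set_option maxRecDepth 100000 in
theorem q8_a : ∀ u v : QuaternionGroup 2, u * u * v = v * (u * u) := by decide +kernel

set_option maxRecDepth 100000 in
theorem q8_b : ∀ u v w : QuaternionGroup 2,
    u * v * u⁻¹ * v⁻¹ * w = w * (u * v * u⁻¹ * v⁻¹) := by decide +kernel

set_option maxRecDepth 100000 in
theorem q8_c : ∀ u : QuaternionGroup 2, (∀ v, u * v = v * u) → u = 1 ∨ u = QuaternionGroup.a 2 := by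
  decide +kernel

theorem q8_d : ∃ u v : QuaternionGroup 2, u * v ≠ v * u :=
  ⟨QuaternionGroup.a 1, QuaternionGroup.xa 0, by decide⟩

/-- Transport of the laws of a model group `D` to a subgroup `B` isomorphic to it. -/
theorem facts_of_equiv {S D : Type*} [Group S] [Group D] (B : Subgroup S) (e : ↥B ≃* D)
    (h1 : ∀ u v : D, u * u * v = v * (u * u))
    (h2 : ∀ u v w : D, u * v * u⁻¹ * v⁻¹ * w = w * (u * v * u⁻¹ * v⁻¹))
    (c : D) (h3 : ∀ u : D, (∀ v, u * v = v * u) → u = 1 ∨ u = c)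
    (h4 : ∃ u v : D, u * v ≠ v * u) :
    (∀ x ∈ B, ∀ y ∈ B, x * x * y = y * (x * x)) ∧
    (∀ x ∈ B, ∀ y ∈ B, ∀ z ∈ B, x * y * x⁻¹ * y⁻¹ * z = z * (x * y * x⁻¹ * y⁻¹)) ∧
    (∃ c' ∈ B, ∀ x ∈ B, (∀ y ∈ B, x * y = y * x) → x = 1 ∨ x = c') ∧
    ¬ IsMulCommutative B := by
  refine ⟨?_, ?_, ?_, ?_⟩
  · intro x hx y hy
    have h := h1 (e ⟨x, hx⟩) (e ⟨y, hy⟩)
    simp only [← map_mul] at h
    exact congrArg Subtype.val (e.injective h)
  · intro x hx y hy z hz
    have h := h2 (e ⟨x, hx⟩) (e ⟨y, hy⟩) (e ⟨z, hz⟩)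
    simp only [← map_mul, ← map_inv] at h
    exact congrArg Subtype.val (e.injective h)
  · refine ⟨(e.symm c : S), (e.symm c).2, ?_⟩
    intro x hx hxy
    have h := h3 (e ⟨x, hx⟩) (fun v => by
      have h5 := hxy (e.symm v : S) (e.symm v).2
      have h6 : (⟨x, hx⟩ : B) * e.symm v = e.symm v * ⟨x, hx⟩ := Subtype.ext h5
      have h7 := congrArg e h6
      rwa [map_mul, map_mul, e.apply_symm_apply] at h7)
    rcases h with h | h
    · left
      have h8 : (⟨x, hx⟩ : B) = 1 := e.injective (by rw [h, map_one])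
      exact congrArg Subtype.val h8
    · right
      have h8 : (⟨x, hx⟩ : B) = e.symm c := by rw [← h, e.symm_apply_apply]
      exact congrArg Subtype.val h8
  · intro hc
    obtain ⟨u, v, huv⟩ := h4
    apply huv
    have h := hc.is_comm.comm (e.symm u) (e.symm v)
    have h7 := congrArg e h
    rwa [map_mul, map_mul, e.apply_symm_apply, e.apply_symm_apply] at h7

/-- A subgroup of order 8 with central squares and commutators and centre of order at most 2
is self-centralizing in a 2-group of sectional rank at most 2. -/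
theorem centralizer_le_of_rank {S : Type*} [Group S] [Finite S] (h2 : IsPGroup 2 S)
    (hr : Cfsg.SectionalPRankLE 2 2 S) (B : Subgroup S) (hB8 : Nat.card B = 8)
    (hsq : ∀ x ∈ B, ∀ y ∈ B, x * x * y = y * (x * x))
    (hcm : ∀ x ∈ B, ∀ y ∈ B, ∀ z ∈ B, x * y * x⁻¹ * y⁻¹ * z = z * (x * y * x⁻¹ * y⁻¹))
    (hZ : ∃ c ∈ B, ∀ x ∈ B, (∀ y ∈ B, x * y = y * x) → x = 1 ∨ x = c) :
    Subgroup.centralizer (B : Set S) ≤ B := by
  classical
  by_contra hnot
  obtain ⟨x, hxC, hxB⟩ := SetLike.not_le_iff_exists.mp hnot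
  have key : ∀ k : ℕ, ∀ x : S, x ∈ Subgroup.centralizer (B : Set S) → x ∉ B → x ^ (2 ^ k) = 1 →
      ∃ y : S, y ∈ Subgroup.centralizer (B : Set S) ∧ y ∉ B ∧ y * y ∈ B := by
    intro k
    induction k with
    | zero =>
      intro x _ hxB hx
      rw [pow_zero, pow_one] at hx
      exact absurd (hx ▸ B.one_mem) hxB
    | succ k ih =>
      intro x hxC hxB hx
      by_cases h : x * x ∈ B
      · exact ⟨x, hxC, hxB, h⟩
      · apply ih (x * x) (Subgroup.mul_mem _ hxC hxC) h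
        rw [← pow_two, ← pow_mul, ← pow_succ']; exact hx
  obtain ⟨k, hk⟩ := (IsPGroup.iff_orderOf.mp h2) x
  obtain ⟨y, hyC, hyB, hyy⟩ := key k x hxC hxB (by rw [← hk]; exact pow_orderOf_eq_one x)
  obtain ⟨Z, hZdef⟩ : ∃ Z : Subgroup S, Z = B ⊓ Subgroup.centralizer (B : Set S) := ⟨_, rfl⟩
  obtain ⟨H, hHdef⟩ : ∃ H : Subgroup S, H = B ⊔ Subgroup.zpowers y := ⟨_, rfl⟩
  have hBH : B ≤ H := by rw [hHdef]; exact le_sup_left
  have hyH : y ∈ H := by rw [hHdef]; exact (le_sup_right : Subgroup.zpowers y ≤ _) (Subgroup.mem_zpowers y)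
  have hZB : Z ≤ B := by rw [hZdef]; exact inf_le_left
  have hZC : Z ≤ Subgroup.centralizer (B : Set S) := by rw [hZdef]; exact inf_le_right
  have hZH : Z ≤ H := hZB.trans hBH
  have hyz : Subgroup.zpowers y ≤ Subgroup.centralizer (B : Set S) := Subgroup.zpowers_le.mpr hyC
  -- elements of `H`
  have hHel : ∀ h ∈ H, ∃ b ∈ B, ∃ w ∈ Subgroup.zpowers y, h = b * w := by
    intro h hh
    have h1 : (h : S) ∈ ((B ⊔ Subgroup.zpowers y : Subgroup S) : Set S) := by
      rw [← hHdef]; exact hh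
    rw [Subgroup.coe_mul_of_right_le_normalizer_left B (Subgroup.zpowers y)
      (hyz.trans (Subgroup.centralizer_le_normalizer (B : Set S)))] at h1
    obtain ⟨b, hb, w, hw, rfl⟩ := Set.mem_mul.mp h1
    exact ⟨b, hb, w, hw, rfl⟩
  have hcomm : ∀ b ∈ B, ∀ w ∈ Subgroup.centralizer (B : Set S), b * w = w * b := by
    intro b hb w hw
    exact Subgroup.mem_centralizer_iff.mp hw b hb
  have hZel : ∀ g : S, g ∈ B → (∀ b ∈ B, g * b = b * g) → g ∈ Z := by
    intro g hg hgc
    rw [hZdef]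
    exact ⟨hg, Subgroup.mem_centralizer_iff.mpr (fun b hb => (hgc b hb).symm)⟩
  have hsqZ : ∀ b ∈ B, b * b ∈ Z := fun b hb =>
    hZel _ (B.mul_mem hb hb) (fun b' hb' => hsq b hb b' hb')
  have hcmZ : ∀ b ∈ B, ∀ b' ∈ B, b * b' * b⁻¹ * b'⁻¹ ∈ Z := fun b hb b' hb' =>
    hZel _ (B.mul_mem (B.mul_mem (B.mul_mem hb hb') (B.inv_mem hb)) (B.inv_mem hb'))
      (fun b'' hb'' => hcm b hb b' hb' b'' hb'')
  have hwwZ : ∀ w ∈ Subgroup.zpowers y, w * w ∈ Z := by
    intro w hw
    obtain ⟨i, rfl⟩ := Subgroup.mem_zpowers_iff.mp hw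
    have h1 : y ^ i * y ^ i = (y * y) ^ i := by
      rw [← zpow_add, ← two_mul, zpow_mul, zpow_ofNat, pow_two]
    rw [h1]
    apply Subgroup.zpow_mem
    rw [hZdef]
    exact ⟨hyy, Subgroup.mul_mem _ hyC hyC⟩
  have hHsq : ∀ h ∈ H, h * h ∈ Z := by
    intro h hh
    obtain ⟨b, hb, w, hw, rfl⟩ := hHel h hh
    have h1 : b * w * (b * w) = (b * b) * (w * w) := by
      have := hcomm b hb w (hyz hw)
      calc b * w * (b * w) = b * (w * b) * w := by group
        _ = b * (b * w) * w := by rw [this]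
        _ = (b * b) * (w * w) := by group
    rw [h1]
    exact Z.mul_mem (hsqZ b hb) (hwwZ w hw)
  have hHcm : ∀ h ∈ H, ∀ h' ∈ H, h * h' * h⁻¹ * h'⁻¹ ∈ Z := by
    intro h hh h' hh'
    obtain ⟨b, hb, w, hw, rfl⟩ := hHel h hh
    obtain ⟨b', hb', w', hw', rfl⟩ := hHel h' hh'
    have e1 := hcomm b hb w (hyz hw)
    have e2 := hcomm b' hb' w (hyz hw)
    have e3 := hcomm b hb w' (hyz hw')
    have e4 := hcomm b' hb' w' (hyz hw')
    have e5 : w * w' = w' * w := by
      obtain ⟨i, rfl⟩ := Subgroup.mem_zpowers_iff.mp hw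
      obtain ⟨j, rfl⟩ := Subgroup.mem_zpowers_iff.mp hw'
      rw [← zpow_add, ← zpow_add, add_comm]
    have h1 : b * w * (b' * w') * (b * w)⁻¹ * (b' * w')⁻¹ = b * b' * b⁻¹ * b'⁻¹ := by
      have f1 : b * w * (b' * w') = b * b' * (w * w') := by
        calc b * w * (b' * w') = b * (w * b') * w' := by group
          _ = b * (b' * w) * w' := by rw [e2]
          _ = b * b' * (w * w') := by group
      have f3 : b' * w' * (b * w) = b' * b * (w * w') := by
        calc b' * w' * (b * w) = b' * (w' * b) * w := by group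
          _ = b' * (b * w') * w := by rw [e3]
          _ = b' * b * (w' * w) := by group
          _ = b' * b * (w * w') := by rw [e5]
      calc b * w * (b' * w') * (b * w)⁻¹ * (b' * w')⁻¹
          = (b * w * (b' * w')) * (b' * w' * (b * w))⁻¹ := by group
        _ = (b * b' * (w * w')) * (b' * b * (w * w'))⁻¹ := by rw [f1, f3]
        _ = b * b' * b⁻¹ * b'⁻¹ := by group
    rw [h1]
    exact hcmZ b hb b' hb'
  -- `Z` is central in `H`
  have hZcent : ∀ z ∈ Z, ∀ h ∈ H, h * z = z * h := by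
    intro z hz h hh
    obtain ⟨b, hb, w, hw, rfl⟩ := hHel h hh
    have e1 : b * z = z * b := (hcomm b hb z (hZC hz))
    have e2 : z * w = w * z := hcomm z (hZB hz) w (hyz hw)
    calc b * w * z = b * (w * z) := by group
      _ = b * (z * w) := by rw [e2]
      _ = (b * z) * w := by group
      _ = z * b * w := by rw [e1]
      _ = z * (b * w) := by group
  have hNn : (Z.subgroupOf H).Normal := by
    constructor
    intro n hn g
    rw [Subgroup.mem_subgroupOf] at hn ⊢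
    have h1 : ((g * n * g⁻¹ : H) : S) = (n : S) := by
      rw [Subgroup.coe_mul, Subgroup.coe_mul, Subgroup.coe_inv, hZcent _ hn _ g.2]
      group
    rw [h1]; exact hn
  have hrank := @hr H (Z.subgroupOf H) hNn ⊤
  have hA1 : IsMulCommutative (⊤ : Subgroup (↥H ⧸ Z.subgroupOf H)) := by
    refine ⟨⟨fun a b => Subtype.ext ?_⟩⟩
    rw [Subgroup.coe_mul, Subgroup.coe_mul]
    obtain ⟨g, hg⟩ := QuotientGroup.mk_surjective (a : ↥H ⧸ Z.subgroupOf H)
    obtain ⟨g', hg'⟩ := QuotientGroup.mk_surjective (b : ↥H ⧸ Z.subgroupOf H)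
    rw [← hg, ← hg', ← QuotientGroup.mk_mul, ← QuotientGroup.mk_mul]
    apply QuotientGroup.eq.mpr
    rw [Subgroup.mem_subgroupOf]
    have h1 := hHcm (g'⁻¹ : H) (g'⁻¹ : H).2 (g⁻¹ : H) (g⁻¹ : H).2
    have h2 : (((g * g')⁻¹ * (g' * g) : H) : S)
        = ((g'⁻¹ : H) : S) * ((g⁻¹ : H) : S) * ((g'⁻¹ : H) : S)⁻¹ * ((g⁻¹ : H) : S)⁻¹ := by
      simp only [Subgroup.coe_mul, Subgroup.coe_inv]
      group
    rw [h2]; exact h1
  have hA2 : ∀ a ∈ (⊤ : Subgroup (↥H ⧸ Z.subgroupOf H)), a ^ 2 = 1 := by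
    intro a _
    obtain ⟨g, hg⟩ := QuotientGroup.mk_surjective a
    rw [← hg, ← QuotientGroup.mk_pow]
    apply (QuotientGroup.eq_one_iff _).mpr
    rw [Subgroup.mem_subgroupOf, pow_two, Subgroup.coe_mul]
    exact hHsq _ g.2
  have hle := hrank hA1 hA2
  rw [Subgroup.card_top] at hle
  -- cardinalities
  have hZcard : Nat.card Z ≤ 2 := by
    obtain ⟨c, hcB, hc⟩ := hZ
    have hsub : (Z : Set S) ⊆ {1, c} := by
      intro z hz
      have := hc z (hZB hz) (fun b hb => (hcomm b hb z (hZC hz)).symm)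
      rcases this with h | h
      · left; exact h
      · right; exact h
    calc Nat.card Z = (Z : Set S).ncard := (Nat.card_coe_set_eq (Z : Set S))
      _ ≤ ({1, c} : Set S).ncard := Set.ncard_le_ncard hsub (Set.toFinite _)
      _ ≤ 2 := Set.ncard_insert_le _ _ |>.trans (by simp)
  have hNcard : Nat.card (Z.subgroupOf H) ≤ 2 := by
    rw [Nat.card_congr (Subgroup.subgroupOfEquivOfLe hZH).toEquiv]; exact hZcard
  have hHcard : 16 ≤ Nat.card H := by
    have hdvd : Nat.card B ∣ Nat.card H := Subgroup.card_dvd_of_le hBH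
    have hne : Nat.card B ≠ Nat.card H := by
      intro heq
      have : B = H := Subgroup.eq_of_le_of_card_ge hBH (by rw [heq])
      exact hyB (this ▸ hyH)
    rw [hB8] at hdvd hne
    obtain ⟨m, hm⟩ := hdvd
    have hpos : 0 < Nat.card H := Nat.card_pos
    have hm2 : 2 ≤ m := by
      by_contra hlt
      interval_cases m
      · omega
      · omega
    omega
  have hmul := Subgroup.card_eq_card_quotient_mul_card_subgroup (Z.subgroupOf H)
  have hNpos : 0 < Nat.card (Z.subgroupOf H) := Nat.card_pos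
  have : Nat.card H ≤ 4 * 2 := by
    rw [hmul]
    have h4 : (2 : ℕ) ^ 2 = 4 := by norm_num
    rw [h4] at hle
    exact Nat.mul_le_mul hle hNcard
  omega

/-- Let S be a finite 2-group of sectional 2-rank at most 2 that contains a subgroup isomorphic to the dihedral group of order 8 or to the quaternion group of order 8. Then S is dihedral of order at least 8, semidihedral of order at least 16 (order 2^(k+4) with an element a of order 2^(k+3) and an involution b with b a b⁻¹ = a^(2^(k+2)−1)), or generalized quaternion of order at least 8. -/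
theorem result {S : Type*} [Group S] [Finite S] (h2 : IsPGroup 2 S) (hr : Cfsg.SectionalPRankLE 2 2 S)
    (hsub : ∃ H : Subgroup S, Nonempty (↥H ≃* DihedralGroup 4) ∨ Nonempty (↥H ≃* QuaternionGroup 2)) :
    ((∃ k : ℕ, Nonempty (S ≃* DihedralGroup (2 ^ (k + 2)))) ∨
      (∃ k : ℕ, Nat.card S = 2 ^ (k + 4) ∧ ∃ a b : S, orderOf a = 2 ^ (k + 3) ∧ orderOf b = 2 ∧ b * a * b⁻¹ = a ^ (2 ^ (k + 2) - 1)) ∨
      (∃ k : ℕ, Nonempty (S ≃* QuaternionGroup (2 ^ (k + 1))))) := by
  obtain ⟨B, hB⟩ := hsub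
  have facts : Nat.card B = 8 ∧
      (∀ x ∈ B, ∀ y ∈ B, x * x * y = y * (x * x)) ∧
      (∀ x ∈ B, ∀ y ∈ B, ∀ z ∈ B, x * y * x⁻¹ * y⁻¹ * z = z * (x * y * x⁻¹ * y⁻¹)) ∧
      (∃ c' ∈ B, ∀ x ∈ B, (∀ y ∈ B, x * y = y * x) → x = 1 ∨ x = c') ∧
      ¬ IsMulCommutative B := by
    rcases hB with ⟨⟨e⟩⟩ | ⟨⟨e⟩⟩
    · refine ⟨?_, facts_of_equiv B e d8_a d8_b _ d8_c d8_d⟩
      rw [Nat.card_congr e.toEquiv, DihedralGroup.nat_card]
    · refine ⟨?_, facts_of_equiv B e q8_a q8_b _ q8_c q8_d⟩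
      rw [Nat.card_congr e.toEquiv, Nat.card_eq_fintype_card, QuaternionGroup.card]
  obtain ⟨hB8, hsq, hcm, hZ, hBna⟩ := facts
  obtain ⟨n, hn⟩ := IsPGroup.iff_card.mp h2
  have hC := centralizer_le_of_rank h2 hr B hB8 hsq hcm hZ
  have hclass := Cfsg.Agent.S4143.result (p := 2) n hn B (by rw [hB8]; norm_num) hBna hC
  have hdvd : (8 : ℕ) ∣ Nat.card S := hB8 ▸ Subgroup.card_subgroup_dvd_card B
  have hn3 : 3 ≤ n := by
    by_contra hlt
    rw [hn] at hdvd
    have h1 : (2 : ℕ) ^ n ≤ 2 ^ 2 := Nat.pow_le_pow_right (by norm_num) (by omega)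
    have h2' := Nat.le_of_dvd (by positivity) hdvd
    omega
  have hK := (Cfsg.Agent.S0115.result n hn3 hn).mp hclass
  have hab : Nat.card (Abelianization S) = 4 := hK.card_four
  have hexp : ∀ x : Abelianization S, x ^ 2 = 1 := by
    intro x
    have h1 : Monoid.exponent (Abelianization S) = 2 := hK.exponent_two
    have h3 : x ^ Monoid.exponent (Abelianization S) = 1 := Monoid.pow_exponent_eq_one x
    rw [h1] at h3
    exact h3
  rcases Cfsg.Agent.S4399.result h2 hab hexp with h4 | h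
  · exfalso
    rw [h4] at hdvd
    norm_num at hdvd
  · exact h

end Cfsg.Agent.S4398
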