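import Cfsg.Statements.S4425
import Cfsg.Agent.S0164
import Cfsg.Agent.Lib.Helper2.CharDecomp
import Cfsg.Agent.Lib.Helper2.CharExpand
import Cfsg.Agent.Lib.Helper2.CharIntegral
import Cfsg.Agent.Lib.Helper2.CharLinear
import Cfsg.Agent.Lib.Helper12.ZSpan

set_option autoImplicit false
open Cfsg

namespace Cfsg.Agent.S4425

section struct

variable {G : Type*} [Group G] [Finite G]

/-- central subgroups are normal -/
theorem normal_of_le_center' {E : Type*} [Group E] (H : Subgroup E) (h : H ≤ Subgroup.center E) :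
    H.Normal := by
  refine ⟨fun n hn g => ?_⟩
  have h1 := Subgroup.mem_center_iff.mp (h hn) g
  have h2 : g * n * g⁻¹ = n := by rw [h1]; group
  rw [h2]; exact hn

/-- structure of the `p`-regular elements of an elementary subgroup -/
theorem exists_reg_subgroup (E : Subgroup G) (p' : ℕ) (hp' : p'.Prime)
    (hE : Cfsg.IsElementary p' E) (p : ℕ) [Fact p.Prime] :
    ∃ (Q : Subgroup E) (k : ℕ), (∀ e : E, ¬ p ∣ orderOf e ↔ e ∈ Q) ∧
      Nat.card E = p ^ k * Nat.card Q ∧
      ∀ q ∈ Q, p ^ k ∣ Nat.card (Subgroup.centralizer ({((q : E) : G)} : Set G)) := by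
  have hp : p.Prime := Fact.out
  obtain ⟨x, hxc, hxcop, k, hk⟩ := hE
  have hzc : Subgroup.zpowers x ≤ Subgroup.center E := Subgroup.zpowers_le.mpr hxc
  by_cases hpp : p' = p
  · subst hpp
    haveI : (Subgroup.zpowers x).Normal := normal_of_le_center' _ hzc
    refine ⟨Subgroup.zpowers x, k, ?_, ?_, ?_⟩
    · intro e
      constructor
      · intro he
        have h1 : (QuotientGroup.mk e : E ⧸ Subgroup.zpowers x) ^ (p' ^ k) = 1 := by
          have := pow_card_eq_one' (x := (QuotientGroup.mk e : E ⧸ Subgroup.zpowers x))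
          rwa [← Subgroup.index_eq_card, hk] at this
        have h2 : (QuotientGroup.mk e : E ⧸ Subgroup.zpowers x) ^ (orderOf e) = 1 := by
          rw [← QuotientGroup.mk_pow, pow_orderOf_eq_one]; rfl
        have h3 : orderOf (QuotientGroup.mk e : E ⧸ Subgroup.zpowers x) ∣
            Nat.gcd (p' ^ k) (orderOf e) :=
          Nat.dvd_gcd (orderOf_dvd_of_pow_eq_one h1) (orderOf_dvd_of_pow_eq_one h2)
        have h4 : Nat.gcd (p' ^ k) (orderOf e) = 1 :=
          Nat.Coprime.pow_left k ((Nat.Prime.coprime_iff_not_dvd hp).mpr he)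
        rw [h4, Nat.dvd_one, orderOf_eq_one_iff] at h3
        exact (QuotientGroup.eq_one_iff e).mp h3
      · intro he hdvd
        have h1 := orderOf_dvd_of_mem_zpowers he
        exact (Nat.Prime.coprime_iff_not_dvd hp).mp hxcop.symm (hdvd.trans h1)
    · rw [← hk, mul_comm]; exact (Subgroup.card_mul_index _).symm
    · intro q hq
      have hqc := hzc hq
      have hle : E ≤ Subgroup.centralizer ({((q : E) : G)} : Set G) := by
        intro e he
        rw [Subgroup.mem_centralizer_singleton_iff]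
        have := Subgroup.mem_center_iff.mp hqc ⟨e, he⟩
        exact congrArg Subtype.val this
      have h1 : Nat.card E ∣ Nat.card (Subgroup.centralizer ({((q : E) : G)} : Set G)) :=
        Subgroup.card_dvd_of_le hle
      have h2 : p' ^ k ∣ Nat.card E := by
        rw [← hk]; exact Subgroup.index_dvd_card _
      exact h2.trans h1
  · have hx0 : orderOf x ≠ 0 := (orderOf_pos x).ne'
    obtain ⟨c, m', hm', hxm⟩ := Nat.exists_eq_pow_mul_and_not_dvd hx0 p hp.ne_one
    have hm'0 : m' ≠ 0 := by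
      rintro rfl
      rw [mul_zero] at hxm
      exact hx0 hxm
    set z₀ : E := x ^ m' with hz₀
    have hz₀o : orderOf z₀ = p ^ c := by
      rw [hz₀, orderOf_pow_of_dvd hm'0 (by rw [hxm]; exact dvd_mul_left _ _), hxm]
      exact Nat.mul_div_cancel _ (Nat.pos_of_ne_zero hm'0)
    set Z : Subgroup E := Subgroup.zpowers z₀ with hZ
    have hZc : Z ≤ Subgroup.center E :=
      Subgroup.zpowers_le.mpr ((Subgroup.center E).pow_mem hxc m')
    haveI : Z.Normal := normal_of_le_center' _ hZc
    have hZcard : Nat.card Z = p ^ c := by rw [hZ, Nat.card_zpowers, hz₀o]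
    have hEcard : Nat.card E = p ^ c * (m' * p' ^ k) := by
      rw [← Subgroup.card_mul_index (Subgroup.zpowers x), hk, Nat.card_zpowers, hxm]; ring
    have hZidx : Z.index = m' * p' ^ k := by
      have h1 := Subgroup.card_mul_index Z
      rw [hZcard, hEcard] at h1
      exact Nat.eq_of_mul_eq_mul_left (pow_pos hp.pos c) h1
    have hcopidx : Nat.Coprime p (m' * p' ^ k) := by
      refine Nat.Coprime.mul_right ((Nat.Prime.coprime_iff_not_dvd hp).mpr hm') ?_
      exact Nat.Coprime.pow_right k ((Nat.coprime_primes hp hp').mpr (fun h => hpp h.symm))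
    have hcop : Nat.Coprime (Nat.card Z) Z.index := by
      rw [hZcard, hZidx]
      exact Nat.Coprime.pow_left c hcopidx
    obtain ⟨Q, hQ⟩ := Subgroup.exists_right_complement'_of_coprime hcop
    have hQcard : Nat.card Q = m' * p' ^ k := by
      have h1 := hQ.card_mul_card
      rw [hZcard, hEcard] at h1
      exact Nat.eq_of_mul_eq_mul_left (pow_pos hp.pos c) h1
    refine ⟨Q, c, ?_, ?_, ?_⟩
    · intro e
      constructor
      · intro he
        obtain ⟨⟨⟨z, hz⟩, ⟨q, hq⟩⟩, hzq⟩ := hQ.2 e
        simp only at hzq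
        have hzc := Subgroup.mem_center_iff.mp (hZc hz)
        have hcomm : Commute z q := (hzc q).symm
        have hq1 : q ^ Nat.card Q = 1 := by
          have := pow_card_eq_one' (x := (⟨q, hq⟩ : Q))
          exact congrArg Subtype.val this
        have h1 : e ^ Nat.card Q = z ^ Nat.card Q := by
          rw [← hzq, hcomm.mul_pow, hq1, mul_one]
        have h2 : orderOf (z ^ Nat.card Q) ∣ orderOf e := by
          rw [← h1]; exact orderOf_pow_dvd _
        have h3 : orderOf (z ^ Nat.card Q) ∣ p ^ c := by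
          have h4 : (z ^ Nat.card Q) ^ (p ^ c) = 1 := by
            have h5 : z ^ (p ^ c) = 1 := by
              have := pow_card_eq_one' (x := (⟨z, hz⟩ : Z))
              rw [hZcard] at this
              exact congrArg Subtype.val this
            rw [← pow_mul, mul_comm, pow_mul, h5, one_pow]
          exact orderOf_dvd_of_pow_eq_one h4
        have h6 : orderOf (z ^ Nat.card Q) ∣ Nat.gcd (p ^ c) (orderOf e) := Nat.dvd_gcd h3 h2
        have h7 : Nat.gcd (p ^ c) (orderOf e) = 1 :=
          Nat.Coprime.pow_left c ((Nat.Prime.coprime_iff_not_dvd hp).mpr he)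
        rw [h7, Nat.dvd_one, orderOf_eq_one_iff] at h6
        have h8 : orderOf z ∣ Nat.gcd (p ^ c) (Nat.card Q) := by
          refine Nat.dvd_gcd ?_ (orderOf_dvd_of_pow_eq_one h6)
          have := orderOf_dvd_natCard (⟨z, hz⟩ : Z)
          rw [hZcard, Subgroup.orderOf_mk] at this
          exact this
        have h9 : Nat.gcd (p ^ c) (Nat.card Q) = 1 := by
          rw [hQcard]; exact Nat.Coprime.pow_left c hcopidx
        rw [h9, Nat.dvd_one, orderOf_eq_one_iff] at h8
        rw [h8, one_mul] at hzq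
        rw [← hzq]; exact hq
      · intro he hdvd
        have h1 := orderOf_dvd_natCard (⟨e, he⟩ : Q)
        rw [Subgroup.orderOf_mk, hQcard] at h1
        exact (Nat.Prime.coprime_iff_not_dvd hp).mp hcopidx (hdvd.trans h1)
    · rw [hEcard, hQcard]
    · intro q hq
      have hle : Z.map E.subtype ≤ Subgroup.centralizer ({((q : E) : G)} : Set G) := by
        rintro _ ⟨z, hz, rfl⟩
        rw [Subgroup.mem_centralizer_singleton_iff]
        have := Subgroup.mem_center_iff.mp (hZc hz) q
        exact (congrArg Subtype.val this).symm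
      have h1 := Subgroup.card_dvd_of_le hle
      rw [Subgroup.card_map_of_injective E.subtype_injective, hZcard] at h1
      exact h1

end struct

section analytic

open Cfsg.Agent.Lib.Helper2
open scoped ComplexConjugate

/-- a class function all of whose inner products with irreducible characters are integers
is a generalized character -/
theorem genChar_of_int {E : Type*} [Group E] [Fintype E] (f : E → ℂ)
    (hf : Cfsg.IsClassFunction E f)
    (h : ∀ ξ : Cfsg.IrrCharacter E, ∃ z : ℤ, Cfsg.classInner f (ξ : E → ℂ) = (z : ℂ)) :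
    Cfsg.IsGeneralizedCharacter E f := by
  classical
  haveI := Fintype.ofFinite (Cfsg.IrrCharacter E)
  have hexp := class_fun_expand f hf
  have key : Cfsg.IsGeneralizedCharacter E
      (∑ ξ : Cfsg.IrrCharacter E, Cfsg.classInner f (ξ : E → ℂ) • (ξ : E → ℂ)) := by
    apply Cfsg.Agent.Lib.Helper12.genChar_sum
    intro ξ _
    obtain ⟨z, hz⟩ := h ξ
    rw [hz]
    have h1 : ((z : ℂ) • (ξ : E → ℂ)) = z • (ξ : E → ℂ) := by
      funext e
      simp
    rw [h1]
    exact Cfsg.Agent.Lib.Helper12.genChar_zsmul z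
      (Cfsg.Agent.Lib.Helper12.isGeneralizedCharacter_of_isCharacter
        (isCharacter_of_isIrrCharacter ξ.2))
  rw [hexp]
  exact key

/-- sum over a group of a function supported on a subgroup -/
theorem sum_ite_mem_subgroup {E : Type*} [Group E] [Fintype E] (Q : Subgroup E) [Fintype Q]
    [DecidablePred (· ∈ Q)] (F : E → ℂ) :
    ∑ e : E, (if e ∈ Q then F e else 0) = ∑ q : Q, F q := by
  rw [← Finset.sum_filter]
  exact Finset.sum_subtype (p := fun e => e ∈ Q) (Finset.univ.filter (· ∈ Q)) (fun x => by simp) F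

theorem isIntegral_natCast' (t : ℕ) : IsIntegral ℤ (t : ℂ) := by
  have := isIntegral_algebraMap (R := ℤ) (A := ℂ) (x := (t : ℤ))
  simpa using this

/-- integrality of the inner products on an elementary subgroup -/
theorem inner_int {G : Type*} [Group G] [Finite G] (p : ℕ) [Fact p.Prime]
    (χ : Cfsg.IrrCharacter G) (E : Subgroup G) [Fintype E] (Q : Subgroup E) (k : ℕ)
    (hQ1 : ∀ e : E, ¬ p ∣ orderOf e ↔ e ∈ Q) (hQ2 : Nat.card E = p ^ k * Nat.card Q)
    (hQ3 : ∀ q ∈ Q, p ^ k ∣ Nat.card (Subgroup.centralizer ({((q : E) : G)} : Set G)))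
    (ξ : E → ℂ) (hξ : Cfsg.IsCharacter E ξ) :
    ∃ z : ℤ, Cfsg.classInner (fun e : E => if p ∣ orderOf (e : G) then (0 : ℂ) else
      ((p ^ ((Nat.card G).factorization p - (Cfsg.charDegree (χ : G → ℂ)).factorization p) : ℕ) : ℂ) *
        (χ : G → ℂ) e) ξ = (z : ℂ) := by
  classical
  haveI : Fintype G := Fintype.ofFinite G
  have hp : p.Prime := Fact.out
  have hp0 : (p : ℂ) ≠ 0 := by exact_mod_cast hp.ne_zero
  obtain ⟨n, ρ, hρ, hρχ⟩ := χ.2
  haveI := hρ
  have hχ1 : (χ : G → ℂ) 1 = (n : ℂ) := by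
    rw [← hρχ, Representation.char_one]; simp
  have hdeg : Cfsg.charDegree (χ : G → ℂ) = n := by
    simp [Cfsg.charDegree, hχ1]
  have hfin : Module.finrank ℂ (Fin n → ℂ) = n := by simp
  have hn_dvd : n ∣ Nat.card G := by
    have := irr_degree_dvd_card ρ
    rwa [hfin] at this
  have hn0 : n ≠ 0 := by
    have := irr_finrank_pos ρ
    rw [hfin] at this; omega
  rw [hdeg]
  set a := (Nat.card G).factorization p with ha
  set b := n.factorization p with hb
  have hcard0 : Nat.card G ≠ 0 := Nat.card_pos.ne'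
  have hba : b ≤ a := (Nat.factorization_le_iff_dvd hn0 hcard0).mpr hn_dvd p
  set g' := Nat.card G / p ^ a with hg'def
  have hg' : p ^ a * g' = Nat.card G := Nat.ordProj_mul_ordCompl_eq_self (Nat.card G) p
  have hg'p : ¬ p ∣ g' := Nat.not_dvd_ordCompl hp hcard0
  set d := n / p ^ b with hddef
  have hd : p ^ b * d = n := Nat.ordProj_mul_ordCompl_eq_self n p
  haveI : Fintype Q := Fintype.ofFinite Q
  have hQp : ¬ p ∣ Nat.card Q := by
    intro hdvd
    obtain ⟨q, hq⟩ := exists_prime_orderOf_dvd_card' p hdvd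
    have h1 : ¬ p ∣ orderOf (q : E) := (hQ1 q).mpr q.2
    rw [Subgroup.orderOf_coe, hq] at h1
    exact h1 dvd_rfl
  have hχQ : Cfsg.IsCharacter Q (fun q : Q => (χ : G → ℂ) ((q : E) : G)) :=
    IsCharacter.restrict (IsCharacter.restrict (isCharacter_of_isIrrCharacter χ.2) E) Q
  have hξQ : Cfsg.IsCharacter Q (fun q : Q => ξ (q : E)) := IsCharacter.restrict hξ Q
  obtain ⟨N, hN⟩ := classInner_isCharacter_nat hχQ hξQ
  have hQ0 : (Nat.card Q : ℂ) ≠ 0 := by exact_mod_cast Nat.card_pos.ne'
  have hsumQ : ∑ q : Q, (χ : G → ℂ) ((q : E) : G) * conj (ξ (q : E)) = (Nat.card Q : ℂ) * N := by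
    rw [classInner_def] at hN
    rw [← hN]
    field_simp
  have hsumE : ∑ e : E, (if p ∣ orderOf (e : G) then (0 : ℂ) else
      ((p ^ (a - b) : ℕ) : ℂ) * (χ : G → ℂ) e) * conj (ξ e)
      = ((p ^ (a - b) : ℕ) : ℂ) * ((Nat.card Q : ℂ) * N) := by
    rw [← hsumQ, Finset.mul_sum, ← sum_ite_mem_subgroup Q
      (fun e => ((p ^ (a - b) : ℕ) : ℂ) * ((χ : G → ℂ) e * conj (ξ e)))]
    apply Finset.sum_congr rfl
    intro e _
    by_cases he : e ∈ Q
    · have h1 : ¬ p ∣ orderOf (e : G) := by rw [Subgroup.orderOf_coe]; exact (hQ1 e).mpr he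
      rw [if_neg h1, if_pos he]; ring
    · have h1 : p ∣ orderOf (e : G) := by
        rw [Subgroup.orderOf_coe]; by_contra h; exact he ((hQ1 e).mp h)
      rw [if_pos h1, if_neg he]; ring
  have hpk : ((p ^ k : ℕ) : ℂ) ≠ 0 := by exact_mod_cast (pow_pos hp.pos k).ne'
  have hinner : Cfsg.classInner (fun e : E => if p ∣ orderOf (e : G) then (0 : ℂ) else
      ((p ^ (a - b) : ℕ) : ℂ) * (χ : G → ℂ) e) ξ
      = ((p ^ (a - b) : ℕ) : ℂ) * N / ((p ^ k : ℕ) : ℂ) := by
    rw [classInner_def, hsumE, hQ2]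
    push_cast
    push_cast at hpk
    field_simp
  rw [hinner]
  by_cases hk : k ≤ a - b
  · refine ⟨((p ^ (a - b - k) * N : ℕ) : ℤ), ?_⟩
    have h1 : p ^ (a - b) = p ^ (a - b - k) * p ^ k := by
      rw [← pow_add]; congr 1; omega
    rw [h1]
    push_cast
    push_cast at hpk
    field_simp
  · set j := k - (a - b) with hj
    have hjk : j + (a - b) = k := by omega
    have hjab : j + a = k + b := by omega
    have hkey : ∀ q : Q, (g' : ℂ) * (χ : G → ℂ) ((q : E) : G) = (p : ℂ) ^ j *
        (((Subgroup.centralizer ({((q : E) : G)} : Set G)).index : ℂ) * ρ.character ((q : E) : G)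
          / (Module.finrank ℂ (Fin n → ℂ) : ℂ) *
          ((Nat.card (Subgroup.centralizer ({((q : E) : G)} : Set G)) / p ^ k : ℕ) : ℂ) * (d : ℂ)) := by
      intro q
      set gq : G := ((q : E) : G) with hgq
      set I := (Subgroup.centralizer ({gq} : Set G)).index with hI
      set C := Nat.card (Subgroup.centralizer ({gq} : Set G)) with hC
      have hCI : C * I = Nat.card G := Subgroup.card_mul_index _
      have hCk : p ^ k ∣ C := hQ3 q q.2
      set t := C / p ^ k with ht
      have htC : p ^ k * t = C := Nat.mul_div_cancel' hCk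
      have h1n : p ^ k * t * I = p ^ a * g' := by rw [htC, hCI, hg']
      have h1 : (p : ℂ) ^ k * (t : ℂ) * (I : ℂ) = (p : ℂ) ^ a * (g' : ℂ) := by exact_mod_cast h1n
      have h3 : (p : ℂ) ^ j * (p : ℂ) ^ a = (p : ℂ) ^ k * (p : ℂ) ^ b := by
        rw [← pow_add, ← pow_add, hjab]
      have hnc : (n : ℂ) = (p : ℂ) ^ b * (d : ℂ) := by exact_mod_cast hd.symm
      have hn0c : (n : ℂ) ≠ 0 := by exact_mod_cast hn0
      rw [hρχ, hfin]
      set X := (χ : G → ℂ) gq with hX
      have h5 : (p : ℂ) ^ k * ((g' : ℂ) * X * (n : ℂ)) =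
          (p : ℂ) ^ k * ((p : ℂ) ^ j * ((I : ℂ) * X * (t : ℂ) * (d : ℂ))) := by
        rw [hnc]
        linear_combination (-((p : ℂ) ^ j * X * (d : ℂ))) * h1 + (-(X * (d : ℂ) * (g' : ℂ))) * h3
      have h6 := mul_left_cancel₀ (pow_ne_zero k hp0) h5
      field_simp
      linear_combination h6
    have hdvdN : p ^ j ∣ N := by
      have hpj : ((p ^ j : ℕ) : ℂ) ≠ 0 := by exact_mod_cast (pow_pos hp.pos j).ne'
      have hint : IsIntegral ℤ (((g' * Nat.card Q * N : ℕ) : ℂ) / ((p ^ j : ℕ) : ℂ)) := by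
        have heq : ((g' * Nat.card Q * N : ℕ) : ℂ) / ((p ^ j : ℕ) : ℂ) =
            ∑ q : Q, (((Subgroup.centralizer ({((q : E) : G)} : Set G)).index : ℂ) *
              ρ.character ((q : E) : G) / (Module.finrank ℂ (Fin n → ℂ) : ℂ) *
              ((Nat.card (Subgroup.centralizer ({((q : E) : G)} : Set G)) / p ^ k : ℕ) : ℂ) *
              (d : ℂ)) * conj (ξ (q : E)) := by
          rw [div_eq_iff hpj, Finset.sum_mul]
          push_cast
          have h2 : (g' : ℂ) * (Nat.card Q : ℂ) * (N : ℂ) =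
              ∑ q : Q, (g' : ℂ) * (χ : G → ℂ) ((q : E) : G) * conj (ξ (q : E)) := by
            rw [mul_assoc, ← hsumQ, Finset.mul_sum]
            apply Finset.sum_congr rfl
            intro q _
            ring
          rw [h2]
          apply Finset.sum_congr rfl
          intro q _
          rw [hkey q]
          ring
        rw [heq]
        apply IsIntegral.sum
        intro q _
        apply IsIntegral.mul
        · apply IsIntegral.mul
          · apply IsIntegral.mul
            · exact class_scalar_isIntegral ρ _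
            · exact isIntegral_natCast' _
          · exact isIntegral_natCast' _
        · obtain ⟨m, σ, hσ⟩ := hξ
          rw [← hσ, ← char_inv]
          exact char_isIntegral σ _
      have h1 := nat_dvd_of_isIntegral_div (pow_pos hp.pos j).ne' hint
      have hc1 : Nat.Coprime (p ^ j) (g' * Nat.card Q) :=
        Nat.Coprime.pow_left j (Nat.Coprime.mul_right
          ((Nat.Prime.coprime_iff_not_dvd hp).mpr hg'p)
          ((Nat.Prime.coprime_iff_not_dvd hp).mpr hQp))
      exact hc1.dvd_of_dvd_mul_left h1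
    obtain ⟨N', hN'⟩ := hdvdN
    refine ⟨(N' : ℤ), ?_⟩
    have h1 : p ^ k = p ^ j * p ^ (a - b) := by rw [← pow_add, hjk]
    rw [hN', h1]
    push_cast
    have hpj : ((p : ℂ) ^ j) ≠ 0 := pow_ne_zero j hp0
    have hpab : ((p : ℂ) ^ (a - b)) ≠ 0 := pow_ne_zero _ hp0
    field_simp

/-- the second half: one more power of `p` is too much -/
theorem not_genChar {G : Type*} [Group G] [Finite G] (p : ℕ) [Fact p.Prime]
    (χ : Cfsg.IrrCharacter G) :
    ¬ Cfsg.IsGeneralizedCharacter G (fun x : G => if p ∣ orderOf x then (0 : ℂ) else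
      ((p ^ (Nat.card G).factorization p : ℕ) : ℂ) /
        ((p ^ ((Cfsg.charDegree (χ : G → ℂ)).factorization p + 1) : ℕ) : ℂ) * (χ : G → ℂ) x) := by
  classical
  intro hgen
  have hp : p.Prime := Fact.out
  have hp0 : (p : ℂ) ≠ 0 := by exact_mod_cast hp.ne_zero
  obtain ⟨n, hn0, hχ1⟩ := irr_apply_one χ.2
  have hdeg : Cfsg.charDegree (χ : G → ℂ) = n := by
    simp [Cfsg.charDegree, hχ1]
  rw [hdeg] at hgen
  obtain ⟨P⟩ : Nonempty (Sylow p G) := inferInstance
  haveI : Fintype (P : Subgroup G) := Fintype.ofFinite _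
  set a := (Nat.card G).factorization p with ha
  set b := n.factorization p with hb
  have hres : Cfsg.IsGeneralizedCharacter (P : Subgroup G) (fun x : (P : Subgroup G) =>
      if p ∣ orderOf (x : G) then (0 : ℂ) else
        ((p ^ a : ℕ) : ℂ) / ((p ^ (b + 1) : ℕ) : ℂ) * (χ : G → ℂ) x) := by
    obtain ⟨α, β, hα, hβ, heq⟩ := hgen
    refine ⟨fun x => α x, fun x => β x, IsCharacter.restrict hα _, IsCharacter.restrict hβ _, ?_⟩
    funext x
    have := congrFun heq (x : G)
    simpa using this
  have hone : Cfsg.IsGeneralizedCharacter (P : Subgroup G) (fun _ => (1 : ℂ)) :=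
    Cfsg.Agent.Lib.Helper12.isGeneralizedCharacter_of_isCharacter
      (isCharacter_of_isIrrCharacter isIrrCharacter_one)
  obtain ⟨z, hz⟩ := Cfsg.Agent.Lib.Helper12.genChar_inner_int hres hone
  have hcardP : Nat.card (P : Subgroup G) = p ^ a := P.card_eq_multiplicity
  have hsum : ∑ x : (P : Subgroup G), (if p ∣ orderOf (x : G) then (0 : ℂ) else
        ((p ^ a : ℕ) : ℂ) / ((p ^ (b + 1) : ℕ) : ℂ) * (χ : G → ℂ) x) * conj ((1 : ℂ))
      = ((p ^ a : ℕ) : ℂ) / ((p ^ (b + 1) : ℕ) : ℂ) * (n : ℂ) := by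
    rw [Finset.sum_eq_single (1 : (P : Subgroup G))]
    · have h1 : ¬ p ∣ orderOf (((1 : (P : Subgroup G)) : G)) := by
        rw [Subgroup.coe_one, orderOf_one]
        exact hp.one_lt.ne' ∘ Nat.dvd_one.mp
      rw [if_neg h1, Subgroup.coe_one, hχ1]
      simp
    · intro x _ hx
      have h1 : p ∣ orderOf (x : G) := by
        obtain ⟨m, hm⟩ := (IsPGroup.iff_orderOf.mp P.isPGroup') x
        rw [Subgroup.orderOf_coe, hm]
        have hm0 : m ≠ 0 := by
          rintro rfl
          rw [pow_zero, orderOf_eq_one_iff] at hm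
          exact hx hm
        exact dvd_pow_self p hm0
      rw [if_pos h1, zero_mul]
    · intro h
      exact absurd (Finset.mem_univ _) h
  rw [classInner_def, hsum, hcardP] at hz
  have hpa : ((p ^ a : ℕ) : ℂ) ≠ 0 := by exact_mod_cast (pow_pos hp.pos a).ne'
  have hpb : ((p ^ (b + 1) : ℕ) : ℂ) ≠ 0 := by exact_mod_cast (pow_pos hp.pos (b + 1)).ne'
  have h2 : (n : ℂ) = (z : ℂ) * ((p ^ (b + 1) : ℕ) : ℂ) := by
    rw [← hz]
    field_simp
  have h3 : (n : ℤ) = z * ((p ^ (b + 1) : ℕ) : ℤ) := by exact_mod_cast h2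
  have h4 : p ^ (b + 1) ∣ n := by
    apply Int.natCast_dvd_natCast.mp
    exact ⟨z, by rw [h3]; ring⟩
  exact Nat.pow_succ_factorization_not_dvd (Nat.pos_iff_ne_zero.mp hn0) hp h4

end analytic

/-- Let χ be an irreducible character of the finite group G, p a prime, p^a the p-part of the order of G and p^b the p-part of the degree χ(1). Let χ̃ be the class function equal to p^a · χ on p-regular elements and zero on p-singular elements. Then p^(−b) · χ̃ is a generalized character of G, while p^(−(b+1)) · χ̃ is not. -/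
theorem result {G : Type*} [Group G] [Finite G] (p : ℕ) [Fact p.Prime] (χ : Cfsg.IrrCharacter G) : Cfsg.IsGeneralizedCharacter G (fun x : G => if p ∣ orderOf x then (0 : ℂ) else ((p ^ ((Nat.card G).factorization p - (Cfsg.charDegree (χ : G → ℂ)).factorization p) : ℕ) : ℂ) * (χ : G → ℂ) x) ∧ ¬ Cfsg.IsGeneralizedCharacter G (fun x : G => if p ∣ orderOf x then (0 : ℂ) else ((p ^ (Nat.card G).factorization p : ℕ) : ℂ) / ((p ^ ((Cfsg.charDegree (χ : G → ℂ)).factorization p + 1) : ℕ) : ℂ) * (χ : G → ℂ) x) := by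
  refine ⟨?_, not_genChar p χ⟩
  have hcl : Cfsg.IsClassFunction G (χ : G → ℂ) :=
    Cfsg.Agent.Lib.Helper2.isClassFunction_of_isIrrCharacter χ.2
  apply Cfsg.Agent.S0164.result
  · intro g h
    have h1 : orderOf (h * g * h⁻¹) = orderOf g := by
      rw [← MulAut.conj_apply]
      exact MulEquiv.orderOf_eq _ g
    simp only [h1]
    rw [hcl g h]
  · intro E p' hp' hE
    classical
    haveI : Fintype E := Fintype.ofFinite E
    obtain ⟨Q, k, hQ1, hQ2, hQ3⟩ := exists_reg_subgroup E p' hp' hE p
    apply genChar_of_int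
    · intro g h
      have h1 : orderOf (((h * g * h⁻¹ : E) : G)) = orderOf (g : G) := by
        rw [Subgroup.orderOf_coe, Subgroup.orderOf_coe, ← MulAut.conj_apply]
        exact MulEquiv.orderOf_eq _ g
      have h2 : (χ : G → ℂ) ((h * g * h⁻¹ : E) : G) = (χ : G → ℂ) (g : G) := hcl (g : G) (h : G)
      simp only [h1, h2]
    · intro ξ
      exact inner_int p χ E Q k hQ1 hQ2 hQ3 ξ
        (Cfsg.Agent.Lib.Helper2.isCharacter_of_isIrrCharacter ξ.2)

end Cfsg.Agent.S4425
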