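import Cfsg.Statements.S4424
import Cfsg.Agent.S4425
import Cfsg.Agent.Lib.Helper25.WeakOrth

set_option autoImplicit false
open Cfsg

namespace Cfsg.Agent.S4424

section aux

open Cfsg.Agent.Lib.Helper2
open scoped ComplexConjugate

/-- projection to a set of irreducible characters, written with the kernel
`∑ ψ ∈ B, ψ x * conj (ψ y)` -/
theorem block_proj_eq {G : Type*} [Group G] [Fintype G] [Fintype (Cfsg.IrrCharacter G)]
    (B : Set (Cfsg.IrrCharacter G)) [DecidablePred (· ∈ B)] (f : G → ℂ) (x : G) :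
    ∑ ψ : Cfsg.IrrCharacter G, (if ψ ∈ B then (1 : ℂ) else 0) *
        Cfsg.classInner f (ψ : G → ℂ) * (ψ : G → ℂ) x
      = (Nat.card G : ℂ)⁻¹ * ∑ y : G, f y * ∑ ψ : Cfsg.IrrCharacter G,
          (if ψ ∈ B then (1 : ℂ) else 0) * ((ψ : G → ℂ) x * conj ((ψ : G → ℂ) y)) := by
  simp only [classInner_def, Finset.mul_sum, Finset.sum_mul]
  rw [Finset.sum_comm]
  apply Finset.sum_congr rfl
  intro y _
  apply Finset.sum_congr rfl
  intro ψ _
  ring

/-- the degree of an irreducible character divides the group order -/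
theorem degree_facts {G : Type*} [Group G] [Finite G] (χ : Cfsg.IrrCharacter G) :
    Cfsg.charDegree (χ : G → ℂ) ≠ 0 ∧ Cfsg.charDegree (χ : G → ℂ) ∣ Nat.card G := by
  obtain ⟨n, ρ, hρ, hρχ⟩ := χ.2
  haveI := hρ
  have hχ1 : (χ : G → ℂ) 1 = (n : ℂ) := by
    rw [← hρχ, Representation.char_one]; simp
  have hdeg : Cfsg.charDegree (χ : G → ℂ) = n := by
    simp [Cfsg.charDegree, hχ1]
  have hfin : Module.finrank ℂ (Fin n → ℂ) = n := by simp
  rw [hdeg]
  constructor
  · have := irr_finrank_pos ρ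
    rw [hfin] at this; omega
  · have := irr_degree_dvd_card ρ
    rwa [hfin] at this

end aux

open Cfsg.Agent.Lib.Helper2 in
open scoped ComplexConjugate in
/-- Let χ be an irreducible character of the finite group G lying in the p-block B (relative to a maximal ideal M of the algebraic integers containing p), and let p^a be the p-part of the order of G. Then the class function that equals p^a · χ on the p-regular elements and vanishes on the p-singular elements is an integer combination of the irreducible characters in B: there are integers a_ψ, zero for ψ outside B, with that function equal to Σ a_ψ ψ. -/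
theorem result {G : Type*} [Group G] [Finite G] (p : ℕ) [Fact p.Prime] (M : Ideal Cfsg.AlgInt) (hM : Cfsg.IsPModular p M) (B : Set (Cfsg.IrrCharacter G)) (hB : Cfsg.IsPBlock M B) (χ : Cfsg.IrrCharacter G) (hχ : χ ∈ B) : ∃ a : Cfsg.IrrCharacter G → ℤ, (∀ ψ, ψ ∉ B → a ψ = 0) ∧ (fun x : G => if p ∣ orderOf x then (0 : ℂ) else ((p ^ (Nat.card G).factorization p : ℕ) : ℂ) * (χ : G → ℂ) x) = fun x => ∑ᶠ ψ : Cfsg.IrrCharacter G, (a ψ : ℂ) * (ψ : G → ℂ) x := by
  classical
  haveI : Fintype G := Fintype.ofFinite G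
  haveI : Fintype (Cfsg.IrrCharacter G) := Fintype.ofFinite _
  have hp : p.Prime := Fact.out
  set a := (Nat.card G).factorization p with ha
  set θ : G → ℂ := fun x => if p ∣ orderOf x then (0 : ℂ) else ((p ^ a : ℕ) : ℂ) * (χ : G → ℂ) x
    with hθ
  have hgen : Cfsg.IsGeneralizedCharacter G θ := by
    obtain ⟨h1, -⟩ := Cfsg.Agent.S4425.result p χ
    obtain ⟨hd0, hdd⟩ := degree_facts χ
    set b := (Cfsg.charDegree (χ : G → ℂ)).factorization p with hb
    have hba : b ≤ a := (Nat.factorization_le_iff_dvd hd0 Nat.card_pos.ne').mpr hdd p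
    have h2 := Cfsg.Agent.Lib.Helper12.genChar_nsmul (p ^ b) h1
    convert h2 using 1
    funext x
    simp only [hθ, Pi.smul_apply, nsmul_eq_mul]
    split_ifs
    · simp
    · have h3 : p ^ a = p ^ b * p ^ (a - b) := by rw [← pow_add]; congr 1; omega
      rw [h3]; push_cast; ring
  have hint : ∀ ψ : Cfsg.IrrCharacter G, ∃ z : ℤ, Cfsg.classInner θ (ψ : G → ℂ) = (z : ℂ) :=
    fun ψ => Cfsg.Agent.Lib.Helper12.genChar_inner_int hgen
      (Cfsg.Agent.Lib.Helper12.isGeneralizedCharacter_of_isCharacter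
        (isCharacter_of_isIrrCharacter ψ.2))
  choose z hz using hint
  refine ⟨fun ψ => if ψ ∈ B then z ψ else 0, fun ψ hψ => if_neg hψ, ?_⟩
  haveI := Cfsg.Agent.Lib.Helper25.isPrime_of_isPModular hM
  have hBc : Cfsg.Agent.Lib.Helper25.BlockClosed M B := by
    obtain ⟨χ₀, rfl⟩ := hB
    intro χ₁ h1 ψ h2
    exact Cfsg.Agent.Lib.Helper25.sameBlock_trans M h1 h2
  have hF1 : ∀ x y : G, ¬ p ∣ orderOf x → p ∣ orderOf y →
      ∑ ψ : Cfsg.IrrCharacter G, (if ψ ∈ B then (1 : ℂ) else 0) *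
        ((ψ : G → ℂ) x * conj ((ψ : G → ℂ) y)) = 0 :=
    fun x y hx hy => Cfsg.Agent.Lib.Helper25.block_orth hM B hBc x y hx hy
  have hF2 : ∀ x y : G, p ∣ orderOf x → ¬ p ∣ orderOf y →
      ∑ ψ : Cfsg.IrrCharacter G, (if ψ ∈ B then (1 : ℂ) else 0) *
        ((ψ : G → ℂ) x * conj ((ψ : G → ℂ) y)) = 0 := by
    intro x y hx hy
    have h := congrArg conj (hF1 y x hy hx)
    rw [map_sum, map_zero] at h
    refine Eq.trans ?_ h
    apply Finset.sum_congr rfl
    intro ψ _
    rw [map_mul, map_mul, Complex.conj_conj]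
    split_ifs <;> simp [mul_comm]
  funext x
  beta_reduce
  rw [finsum_eq_sum_of_fintype]
  have hrew : ∑ ψ : Cfsg.IrrCharacter G, (((if ψ ∈ B then z ψ else 0 : ℤ)) : ℂ) * (ψ : G → ℂ) x
      = ∑ ψ : Cfsg.IrrCharacter G, (if ψ ∈ B then (1 : ℂ) else 0) *
        Cfsg.classInner θ (ψ : G → ℂ) * (ψ : G → ℂ) x := by
    apply Finset.sum_congr rfl
    intro ψ _
    rw [hz ψ]
    split_ifs <;> simp
  rw [hrew, block_proj_eq B θ x]
  by_cases hx : p ∣ orderOf x
  · have hθx : θ x = 0 := by simp [hθ, hx]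
    rw [hθx]
    symm
    rw [Finset.sum_eq_zero, mul_zero]
    intro y _
    by_cases hy : p ∣ orderOf y
    · simp [hθ, hy]
    · rw [hF2 x y hx hy, mul_zero]
  · have hθx : θ x = ((p ^ a : ℕ) : ℂ) * (χ : G → ℂ) x := by simp [hθ, hx]
    rw [hθx]
    have h1 : ∑ y : G, θ y * ∑ ψ : Cfsg.IrrCharacter G, (if ψ ∈ B then (1 : ℂ) else 0) *
          ((ψ : G → ℂ) x * conj ((ψ : G → ℂ) y))
        = ((p ^ a : ℕ) : ℂ) * ∑ y : G, (χ : G → ℂ) y * ∑ ψ : Cfsg.IrrCharacter G,
          (if ψ ∈ B then (1 : ℂ) else 0) * ((ψ : G → ℂ) x * conj ((ψ : G → ℂ) y)) := by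
      rw [Finset.mul_sum]
      apply Finset.sum_congr rfl
      intro y _
      by_cases hy : p ∣ orderOf y
      · rw [hF1 x y hx hy]; simp
      · simp only [hθ, if_neg hy]; ring
    rw [h1]
    have h2 := block_proj_eq B (χ : G → ℂ) x
    have h3 : ∑ ψ : Cfsg.IrrCharacter G, (if ψ ∈ B then (1 : ℂ) else 0) *
        Cfsg.classInner (χ : G → ℂ) (ψ : G → ℂ) * (ψ : G → ℂ) x = (χ : G → ℂ) x := by
      rw [Finset.sum_eq_single χ]
      · rw [if_pos hχ, classInner_irr_self χ.2]; ring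
      · intro ψ _ hne
        rw [classInner_irr_ne χ.2 ψ.2 (fun h => hne (Subtype.ext h).symm)]; ring
      · intro h; exact absurd (Finset.mem_univ _) h
    rw [h3] at h2
    rw [h2]; ring

end Cfsg.Agent.S4424
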