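import Cfsg.Statements.S4426
import Cfsg.Agent.S4424
import Cfsg.Agent.Lib.Helper25.Defect0
import Cfsg.Agent.Lib.Helper25.MinMax

set_option autoImplicit false
open Cfsg

namespace Cfsg.Agent.S4426

section aux

open Cfsg.Agent.Lib.Helper2 Cfsg.Agent.Lib.Helper25
open scoped ComplexConjugate

variable {G : Type*} [Group G] [Fintype G]

/-- the class function equal to `p ^ a * χ` on `p`-regular elements and zero elsewhere -/
noncomputable def trunc (p : ℕ) (χ : G → ℂ) : G → ℂ :=
  fun x => if p ∣ orderOf x then (0 : ℂ) else ((p ^ (Nat.card G).factorization p : ℕ) : ℂ) * χ x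

/-- the coefficient function used for the central characters -/
noncomputable def rfun (p : ℕ) (χ : G → ℂ) : G → ℂ :=
  fun x => if p ∣ orderOf x then (0 : ℂ) else χ x⁻¹

omit [Fintype G] in
theorem orderOf_conj' (g h : G) : orderOf (h * g * h⁻¹) = orderOf g := by
  have := orderOf_injective (MulAut.conj h).toMonoidHom (MulAut.conj h).injective g
  simpa using this

omit [Fintype G] in
theorem trunc_isClassFunction (p : ℕ) {χ : G → ℂ} (hχ : IsClassFunction G χ) :
    IsClassFunction G (trunc p χ) := by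
  intro g h
  simp only [trunc]
  rw [orderOf_conj', hχ]

omit [Fintype G] in
theorem rfun_isClassFunction (p : ℕ) {χ : G → ℂ} (hχ : IsClassFunction G χ) :
    IsClassFunction G (rfun p χ) := by
  intro g h
  simp only [rfun]
  rw [orderOf_conj']
  have : (h * g * h⁻¹)⁻¹ = h * g⁻¹ * h⁻¹ := by group
  rw [this, hχ]

/-- the inner products of the truncation with irreducible characters are integers -/
theorem trunc_int (p : ℕ) [Fact p.Prime] (χ ξ : IrrCharacter G) :
    ∃ z : ℤ, classInner (trunc p (χ : G → ℂ)) (ξ : G → ℂ) = (z : ℂ) := by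
  have hgen : IsGeneralizedCharacter G (trunc p (χ : G → ℂ)) := by
    obtain ⟨h1, -⟩ := Cfsg.Agent.S4425.result p χ
    obtain ⟨hd0, hdd⟩ := Cfsg.Agent.S4424.degree_facts χ
    set a := (Nat.card G).factorization p with ha
    set b := (charDegree (χ : G → ℂ)).factorization p with hb
    have hba : b ≤ a := (Nat.factorization_le_iff_dvd hd0 Nat.card_pos.ne').mpr hdd p
    have h2 := Cfsg.Agent.Lib.Helper12.genChar_nsmul (p ^ b) h1
    convert h2 using 1
    funext x
    simp only [trunc, Pi.smul_apply, nsmul_eq_mul]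
    split_ifs
    · simp
    · have h3 : p ^ a = p ^ b * p ^ (a - b) := by rw [← pow_add]; congr 1; omega
      rw [← ha, h3]; push_cast; ring
  exact Cfsg.Agent.Lib.Helper12.genChar_inner_int hgen
      (Cfsg.Agent.Lib.Helper12.isGeneralizedCharacter_of_isCharacter
        (isCharacter_of_isIrrCharacter ξ.2))

/-- symmetry of the truncated inner products -/
theorem trunc_symm (p : ℕ) (χ ξ : G → ℂ) :
    classInner (trunc p χ) ξ = conj (classInner (trunc p ξ) χ) := by
  simp only [classInner_def, map_mul, map_sum, map_inv₀, Complex.conj_natCast]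
  congr 1
  apply Finset.sum_congr rfl
  intro y _
  simp only [trunc]
  split_ifs
  · simp
  · simp only [map_mul, Complex.conj_natCast, Complex.conj_conj]
    ring

/-- symmetry for integer values -/
theorem trunc_symm_int (p : ℕ) (χ ξ : G → ℂ) (n : ℤ) (h : classInner (trunc p χ) ξ = (n : ℂ)) :
    classInner (trunc p ξ) χ = (n : ℂ) := by
  rw [trunc_symm, h]
  simp

/-- the central character sum in terms of the truncated inner product -/
theorem omega_eq (p : ℕ) (χ : G → ℂ) (ξ : IrrCharacter G) :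
    ((p ^ (Nat.card G).factorization p : ℕ) : ℂ) * ∑ g : G, rfun p χ g * (ξ : G → ℂ) g
      = (Nat.card G : ℂ) * classInner (trunc p χ) (ξ : G → ℂ) := by
  have hne : (Nat.card G : ℂ) ≠ 0 := by
    exact_mod_cast Nat.card_pos.ne'
  rw [classInner_def, ← mul_assoc, mul_inv_cancel₀ hne, one_mul, Finset.mul_sum]
  rw [← Equiv.sum_comp (Equiv.inv G)]
  apply Finset.sum_congr rfl
  intro y _
  simp only [Equiv.inv_apply, rfun, trunc, orderOf_inv, inv_inv]
  split_ifs
  · simp
  · rw [irr_conj_eq_inv]; ring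

/-- the central character sum is an algebraic integer -/
theorem omega_integral (p : ℕ) (χ ξ : IrrCharacter G) :
    IsIntegral ℤ (omegaFun (ξ : G → ℂ) (rfun p (χ : G → ℂ))) := by
  classical
  haveI : Fintype (ConjClasses G) := Fintype.ofFinite _
  rw [omegaFun_eq_sum_classes' ξ _
    (rfun_isClassFunction p (isClassFunction_of_isIrrCharacter χ.2))]
  apply IsIntegral.sum
  intro c _
  apply IsIntegral.mul
  · simp only [rfun]
    split_ifs
    · exact isIntegral_zero
    · exact irr_isIntegral χ _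
  · exact centralChar_isIntegral ξ _

/-- the key integer -/
theorem exists_t (p : ℕ) [Fact p.Prime] (χ ξ : IrrCharacter G) (z : ℤ)
    (hz : classInner (trunc p (χ : G → ℂ)) (ξ : G → ℂ) = (z : ℂ)) :
    ∃ t : ℤ, omegaFun (ξ : G → ℂ) (rfun p (χ : G → ℂ)) = (t : ℂ) ∧
      ((Nat.card G / p ^ (Nat.card G).factorization p : ℕ) : ℤ) * z
        = (charDegree (ξ : G → ℂ) : ℤ) * t := by
  have hp : p.Prime := Fact.out
  obtain ⟨d, hd1, hdpos, hddvd, hdeg⟩ := irr_degree ξ
  set a := (Nat.card G).factorization p with ha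
  set N := Nat.card G / p ^ a with hN
  have hcard : p ^ a * N = Nat.card G := Nat.ordProj_mul_ordCompl_eq_self (Nat.card G) p
  have hpa : ((p ^ a : ℕ) : ℂ) ≠ 0 := by
    exact_mod_cast (pow_pos hp.pos a).ne'
  have hd0 : (d : ℂ) ≠ 0 := by exact_mod_cast hdpos.ne'
  have hsum : ∑ g : G, rfun p (χ : G → ℂ) g * (ξ : G → ℂ) g = (N : ℂ) * (z : ℂ) := by
    have h1 := omega_eq p (χ : G → ℂ) ξ
    rw [hz, ← ha, ← hcard] at h1
    push_cast at h1
    have h2 : ((p : ℂ) ^ a) ≠ 0 := by
      have := hpa; push_cast at this; exact this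
    apply mul_left_cancel₀ h2
    rw [h1]; ring
  have hom : omegaFun (ξ : G → ℂ) (rfun p (χ : G → ℂ)) = (N : ℂ) * (z : ℂ) / (d : ℂ) := by
    unfold omegaFun
    rw [hsum, hd1]
  have hint := omega_integral p χ ξ
  rw [hom] at hint
  have h1 : ((N : ℂ) * (z : ℂ) / (d : ℂ)) = algebraMap ℚ ℂ (((N : ℚ) * (z : ℚ)) / (d : ℚ)) := by
    simp
  rw [h1, isIntegral_algebraMap_iff (algebraMap ℚ ℂ).injective] at hint
  obtain ⟨t, ht⟩ := IsIntegrallyClosed.isIntegral_iff.mp hint
  have hd' : (d : ℚ) ≠ 0 := by exact_mod_cast hdpos.ne'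
  have ht' : (t : ℚ) = (N : ℚ) * (z : ℚ) / (d : ℚ) := by
    rw [← ht]; rfl
  have hrel : (N : ℤ) * z = (d : ℤ) * t := by
    have : ((N : ℤ) : ℚ) * (z : ℚ) = ((d : ℤ) : ℚ) * (t : ℚ) := by
      rw [ht']; push_cast; field_simp
    exact_mod_cast this
  refine ⟨t, ?_, ?_⟩
  · rw [hom]
    have : (t : ℂ) = ((t : ℚ) : ℂ) := by simp
    rw [this, ht']; push_cast; rfl
  · rw [hdeg]; exact hrel

/-- arithmetic: the valuation condition in terms of the key integer -/
theorem cond_iff (p : ℕ) [Fact p.Prime] {N d : ℕ} {z t : ℤ} (hN : ¬ p ∣ N) (hd : 0 < d)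
    (h : (N : ℤ) * z = (d : ℤ) * t) :
    (z ≠ 0 ∧ padicValInt p z = d.factorization p) ↔ ¬ (p : ℤ) ∣ t := by
  have hp : p.Prime := Fact.out
  have hN0 : (N : ℤ) ≠ 0 := by
    intro h0
    apply hN
    have : N = 0 := by exact_mod_cast h0
    rw [this]; exact dvd_zero p
  have hd0 : (d : ℤ) ≠ 0 := by exact_mod_cast hd.ne'
  by_cases hz : z = 0
  · subst hz
    have ht : t = 0 := by
      rw [mul_zero] at h
      rcases mul_eq_zero.mp h.symm with h' | h'
      · exact absurd h' hd0
      · exact h'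
    subst ht
    constructor
    · rintro ⟨h1, -⟩; exact absurd rfl h1
    · intro h1; exact absurd (dvd_zero _) h1
  · have ht : t ≠ 0 := by
      rintro rfl
      rw [mul_zero] at h
      rcases mul_eq_zero.mp h with h' | h'
      · exact hN0 h'
      · exact hz h'
    have e1 : padicValInt p ((N : ℤ) * z) = padicValInt p z := by
      rw [padicValInt.mul hN0 hz, padicValInt.of_nat, padicValNat.eq_zero_of_not_dvd hN, zero_add]
    have e2 : padicValInt p ((d : ℤ) * t) = d.factorization p + padicValInt p t := by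
      rw [padicValInt.mul hd0 ht, padicValInt.of_nat, Nat.factorization_def d hp]
    rw [h, e2] at e1
    have e3 : (p : ℤ) ∣ t ↔ 1 ≤ padicValInt p t := by
      have := padicValInt_dvd_iff (p := p) 1 t
      rw [pow_one] at this
      rw [this]
      constructor
      · rintro (h' | h')
        · exact absurd h' ht
        · exact h'
      · intro h'; exact Or.inr h'
    rw [e3]
    constructor
    · rintro ⟨-, h1⟩; omega
    · intro h1; exact ⟨hz, by omega⟩

/-- arithmetic: the lower bound for the valuation -/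
theorem le_padic (p : ℕ) [Fact p.Prime] {N d : ℕ} {z t : ℤ} (hN : ¬ p ∣ N) (hd : 0 < d)
    (h : (N : ℤ) * z = (d : ℤ) * t) (hz : z ≠ 0) : d.factorization p ≤ padicValInt p z := by
  have hp : p.Prime := Fact.out
  have hN0 : (N : ℤ) ≠ 0 := by
    intro h0
    apply hN
    have : N = 0 := by exact_mod_cast h0
    rw [this]; exact dvd_zero p
  have hd0 : (d : ℤ) ≠ 0 := by exact_mod_cast hd.ne'
  have ht : t ≠ 0 := by
    rintro rfl
    rw [mul_zero] at h
    rcases mul_eq_zero.mp h with h' | h'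
    · exact hN0 h'
    · exact hz h'
  have e1 : padicValInt p ((N : ℤ) * z) = padicValInt p z := by
    rw [padicValInt.mul hN0 hz, padicValInt.of_nat, padicValNat.eq_zero_of_not_dvd hN, zero_add]
  have e2 : padicValInt p ((d : ℤ) * t) = d.factorization p + padicValInt p t := by
    rw [padicValInt.mul hd0 ht, padicValInt.of_nat, Nat.factorization_def d hp]
  rw [h, e2] at e1
  omega

/-- an integer lies in the local ideal iff it is divisible by `p` -/
theorem memLocalIdeal_intCast_iff {p : ℕ} {M : Ideal AlgInt} (hM : IsPModular p M) (t : ℤ) :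
    MemLocalIdeal M (t : ℂ) ↔ (p : ℤ) ∣ t := by
  haveI := isPrime_of_isPModular hM
  obtain ⟨n, rfl | rfl⟩ := Int.eq_nat_or_neg t
  · rw [Int.natCast_dvd_natCast, ← memLocalIdeal_natCast_iff hM]
    simp
  · rw [dvd_neg, Int.natCast_dvd_natCast, ← memLocalIdeal_natCast_iff hM]
    constructor
    · intro h
      have := MemLocalIdeal.neg M h
      simpa using this
    · intro h
      have := MemLocalIdeal.neg M h
      simpa using this

/-- the condition of the statement -/
def Cond (p : ℕ) (χ ξ : IrrCharacter G) : Prop :=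
  ∃ n : ℤ, classInner (trunc p (χ : G → ℂ)) (ξ : G → ℂ) = (n : ℂ) ∧ n ≠ 0 ∧
    padicValInt p n = (charDegree (ξ : G → ℂ)).factorization p

theorem not_dvd_compl (p : ℕ) [Fact p.Prime] :
    ¬ p ∣ Nat.card G / p ^ (Nat.card G).factorization p :=
  Nat.not_dvd_ordCompl Fact.out Nat.card_pos.ne'

theorem degree_pos (ξ : IrrCharacter G) : 0 < charDegree (ξ : G → ℂ) :=
  Nat.pos_of_ne_zero (Cfsg.Agent.S4424.degree_facts ξ).1

/-- the lower bound for the valuations of the truncated inner products -/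
theorem le_padic_of (p : ℕ) [Fact p.Prime] (χ ξ : IrrCharacter G) (n : ℤ)
    (hn : classInner (trunc p (χ : G → ℂ)) (ξ : G → ℂ) = (n : ℂ)) (hn0 : n ≠ 0) :
    (charDegree (ξ : G → ℂ)).factorization p ≤ padicValInt p n := by
  obtain ⟨t, -, hrel⟩ := exists_t p χ ξ n hn
  exact le_padic p (not_dvd_compl p) (degree_pos ξ) hrel hn0

/-- the condition only depends on the block of the second character -/
theorem cond_congr {p : ℕ} [Fact p.Prime] {M : Ideal AlgInt} (hM : IsPModular p M)
    (χ ξ ξ' : IrrCharacter G) (h : SameBlock M (ξ : G → ℂ) (ξ' : G → ℂ)) :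
    Cond p χ ξ → Cond p χ ξ' := by
  haveI := isPrime_of_isPModular hM
  rintro ⟨n, hn, hn0, hnv⟩
  obtain ⟨t, ht, hrel⟩ := exists_t p χ ξ n hn
  obtain ⟨n', hn'⟩ := trunc_int p χ ξ'
  obtain ⟨t', ht', hrel'⟩ := exists_t p χ ξ' n' hn'
  have hpt : ¬ (p : ℤ) ∣ t := (cond_iff p (not_dvd_compl p) (degree_pos ξ) hrel).mp ⟨hn0, hnv⟩
  have hloc := sameBlock_omegaFun ξ ξ' h (rfun p (χ : G → ℂ))
    (rfun_isClassFunction p (isClassFunction_of_isIrrCharacter χ.2))
    (by
      intro g
      simp only [rfun]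
      split_ifs
      · exact memLocalRing_zero M
      · exact memLocalRing_of_isIntegral M (irr_isIntegral χ _))
  rw [ht, ht'] at hloc
  have hpt' : ¬ (p : ℤ) ∣ t' := by
    intro hdvd
    apply hpt
    rw [← memLocalIdeal_intCast_iff hM] at hdvd ⊢
    have := MemLocalIdeal.add M hloc hdvd
    simpa using this
  exact ⟨n', hn', (cond_iff p (not_dvd_compl p) (degree_pos ξ') hrel').mpr hpt'⟩

/-- a character with nonzero truncated inner product lies in the same block -/
theorem mem_of_inner_ne_zero {p : ℕ} [Fact p.Prime] {M : Ideal AlgInt} (hM : IsPModular p M)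
    (B : Set (IrrCharacter G)) (hB : IsPBlock M B) (ξ : IrrCharacter G) (hξ : ξ ∈ B)
    (χ : IrrCharacter G) (h : classInner (trunc p (ξ : G → ℂ)) (χ : G → ℂ) ≠ 0) : χ ∈ B := by
  classical
  haveI : Fintype (IrrCharacter G) := Fintype.ofFinite _
  obtain ⟨a, ha0, haeq⟩ := Cfsg.Agent.S4424.result p M hM B hB ξ hξ
  by_contra hχ
  apply h
  have h1 : trunc p (ξ : G → ℂ)
      = ∑ ψ : IrrCharacter G, (a ψ : ℂ) • (ψ : G → ℂ) := by
    have : trunc p (ξ : G → ℂ) = fun x => ∑ᶠ ψ : IrrCharacter G, (a ψ : ℂ) * (ψ : G → ℂ) x :=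
      haeq
    rw [this]
    funext x
    rw [finsum_eq_sum_of_fintype]
    simp [Finset.sum_apply]
  rw [h1, classInner_sum_left]
  apply Finset.sum_eq_zero
  intro ψ _
  rw [classInner_smul_left]
  by_cases hψ : ψ = χ
  · subst hψ
    rw [ha0 ψ hχ]; simp
  · rw [classInner_irr_ne ψ.2 χ.2 (fun h => hψ (Subtype.ext h))]; simp

/-- every character of the block satisfies the condition with some character of the block -/
theorem exists_cond {p : ℕ} [Fact p.Prime] {M : Ideal AlgInt} (hM : IsPModular p M)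
    (B : Set (IrrCharacter G)) (hB : IsPBlock M B) (ξ : IrrCharacter G) (hξ : ξ ∈ B) :
    ∃ χ ∈ B, Cond p χ ξ := by
  classical
  have hp : p.Prime := Fact.out
  by_contra hno
  set b := (charDegree (ξ : G → ℂ)).factorization p with hb
  have hall : ∀ χ : IrrCharacter G, ∃ z : ℤ,
      classInner (trunc p (ξ : G → ℂ)) (χ : G → ℂ) = ((p ^ (b + 1) : ℕ) : ℂ) * (z : ℂ) := by
    intro χ
    obtain ⟨n, hn⟩ := trunc_int p ξ χ
    by_cases hn0 : n = 0
    · exact ⟨0, by rw [hn, hn0]; simp⟩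
    · have hχB : χ ∈ B := by
        apply mem_of_inner_ne_zero hM B hB ξ hξ χ
        rw [hn]
        exact_mod_cast hn0
      have hsym := trunc_symm_int p (ξ : G → ℂ) (χ : G → ℂ) n hn
      have h1 := le_padic_of p χ ξ n hsym hn0
      have h2 : padicValInt p n ≠ b := by
        intro h2
        exact hno ⟨χ, hχB, n, hsym, hn0, h2⟩
      have h3 : ((p : ℤ) ^ (b + 1)) ∣ n := by
        rw [padicValInt_dvd_iff]
        right
        omega
      obtain ⟨z, hz⟩ := h3
      refine ⟨z, ?_⟩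
      rw [hn, hz]; push_cast; ring
  have hgen : IsGeneralizedCharacter G (fun x : G => if p ∣ orderOf x then (0 : ℂ) else
      ((p ^ (Nat.card G).factorization p : ℕ) : ℂ) / ((p ^ (b + 1) : ℕ) : ℂ) * (ξ : G → ℂ) x) := by
    have hpb : ((p ^ (b + 1) : ℕ) : ℂ) ≠ 0 := by
      exact_mod_cast (pow_pos hp.pos (b + 1)).ne'
    have hfun : (fun x : G => if p ∣ orderOf x then (0 : ℂ) else
        ((p ^ (Nat.card G).factorization p : ℕ) : ℂ) / ((p ^ (b + 1) : ℕ) : ℂ) * (ξ : G → ℂ) x)
        = (((p ^ (b + 1) : ℕ) : ℂ))⁻¹ • trunc p (ξ : G → ℂ) := by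
      funext x
      simp only [trunc, Pi.smul_apply, smul_eq_mul]
      split_ifs
      · simp
      · ring
    rw [hfun]
    apply Cfsg.Agent.S4425.genChar_of_int
    · intro g h
      simp only [Pi.smul_apply, smul_eq_mul]
      rw [trunc_isClassFunction p (isClassFunction_of_isIrrCharacter ξ.2)]
    · intro χ
      obtain ⟨z, hz⟩ := hall χ
      refine ⟨z, ?_⟩
      rw [classInner_smul_left, hz, ← mul_assoc, inv_mul_cancel₀ hpb, one_mul]
  exact (Cfsg.Agent.S4425.result p ξ).2 hgen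

end aux

open Cfsg.Agent.Lib.Helper2 Cfsg.Agent.Lib.Helper25 in
/-- Let χ be an irreducible character in the p-block B of the finite group G (relative to a maximal ideal M of the algebraic integers containing p), let p^a be the p-part of the order of G, and let χ̃ be the class function equal to p^a · χ on p-regular elements and zero elsewhere. For ξ ∈ B the inner product [χ̃, ξ] is an integer. The following are equivalent: (a) χ has height zero in B; (b) for some ξ ∈ B the integer [χ̃, ξ] is nonzero and the exact power of p dividing it equals the exact power of p dividing ξ(1); (c) the same holds for every ξ ∈ B. -/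
theorem result {G : Type*} [Group G] [Fintype G] (p : ℕ) [Fact p.Prime] (M : Ideal Cfsg.AlgInt) (hM : Cfsg.IsPModular p M) (B : Set (Cfsg.IrrCharacter G)) (hB : Cfsg.IsPBlock M B) (χ : Cfsg.IrrCharacter G) (hχ : χ ∈ B) : (Cfsg.blockHeight p B (χ : G → ℂ) = 0 ↔ ∃ ξ ∈ B, ∃ n : ℤ, Cfsg.classInner (fun x : G => if p ∣ orderOf x then (0 : ℂ) else ((p ^ (Nat.card G).factorization p : ℕ) : ℂ) * (χ : G → ℂ) x) (ξ : G → ℂ) = (n : ℂ) ∧ n ≠ 0 ∧ padicValInt p n = (Cfsg.charDegree (ξ : G → ℂ)).factorization p) ∧ (Cfsg.blockHeight p B (χ : G → ℂ) = 0 ↔ ∀ ξ ∈ B, ∃ n : ℤ, Cfsg.classInner (fun x : G => if p ∣ orderOf x then (0 : ℂ) else ((p ^ (Nat.card G).factorization p : ℕ) : ℂ) * (χ : G → ℂ) x) (ξ : G → ℂ) = (n : ℂ) ∧ n ≠ 0 ∧ padicValInt p n = (Cfsg.charDegree (ξ : G → ℂ)).factorization p) := by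
  have hsame := isPBlock_sameBlock hM hB
  have hSne : ((fun ψ : IrrCharacter G => (charDegree (ψ : G → ℂ)).factorization p) '' B).Nonempty :=
    ⟨_, χ, hχ, rfl⟩
  have hcongr : ∀ χ₁ : IrrCharacter G, ∀ ξ ∈ B, ∀ ξ' ∈ B, Cond p χ₁ ξ → Cond p χ₁ ξ' :=
    fun χ₁ ξ hξ ξ' hξ' => cond_congr hM χ₁ ξ ξ' (hsame ξ hξ ξ' hξ')
  have hba : (∃ ξ ∈ B, Cond p χ ξ) → Cfsg.blockHeight p B (χ : G → ℂ) = 0 := by
    rintro ⟨ξ, hξ, hc⟩
    unfold blockHeight
    apply Nat.sub_eq_zero_of_le
    apply le_csInf hSne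
    rintro _ ⟨ξ', hξ', rfl⟩
    obtain ⟨n, hn, hn0, hnv⟩ := hcongr χ ξ hξ ξ' hξ' hc
    have hsym := trunc_symm_int p (χ : G → ℂ) (ξ' : G → ℂ) n hn
    have h1 := le_padic_of p ξ' χ n hsym hn0
    rw [hnv] at h1
    exact h1
  have hab : Cfsg.blockHeight p B (χ : G → ℂ) = 0 → ∃ ξ ∈ B, Cond p χ ξ := by
    intro h0
    have hmin : ∀ ξ' ∈ B, (charDegree (χ : G → ℂ)).factorization p
        ≤ (charDegree (ξ' : G → ℂ)).factorization p := by
      intro ξ' hξ'
      unfold blockHeight at h0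
      have h1 := Nat.sub_eq_zero_iff_le.mp h0
      exact h1.trans (Nat.sInf_le ⟨ξ', hξ', rfl⟩)
    obtain ⟨χ₁, hχ₁, n, hn, hn0, hnv⟩ := exists_cond hM B hB χ hχ
    have hsym := trunc_symm_int p (χ₁ : G → ℂ) (χ : G → ℂ) n hn
    refine ⟨χ₁, hχ₁, n, hsym, hn0, ?_⟩
    have h1 := le_padic_of p χ χ₁ n hsym hn0
    have h2 := hmin χ₁ hχ₁
    omega
  refine ⟨⟨hab, hba⟩, ⟨fun h0 ξ hξ => ?_, fun hall => hba ⟨χ, hχ, hall χ hχ⟩⟩⟩
  obtain ⟨ξ₀, hξ₀, hc⟩ := hab h0
  exact hcongr χ ξ₀ hξ₀ ξ hξ hc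

end Cfsg.Agent.S4426
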