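import Mathlib
import Cfsg.Statements.S4446
import Cfsg.Agent.Lib.Helper2.CycCorr

set_option autoImplicit false

open Cfsg

namespace Cfsg.Agent.S4446

open Cfsg.Agent.Lib.Helper2

/-- Let the finite group Γ be generated by a normal subgroup G and a cyclic subgroup S of coprime orders, C = G ⊓ C(S), and let χ be an S-invariant irreducible character of G with canonical extension χ̂ to Γ (the extension whose determinantal order is coprime to the order of S). Then there are exactly one irreducible character β of C and one sign ε such that χ̂(c s) = ε β(c) for every c ∈ C and every generator s of S; this β is a constituent of the restriction of χ to C; distinct S-invariant χ give distinct β; and every irreducible character of C arises in this way. -/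
theorem result {Γ : Type*} [Group Γ] [Fintype Γ] (G S : Subgroup Γ) [Fintype G] (hnorm : ∀ s ∈ S, ∀ g ∈ G, s * g * s⁻¹ ∈ G) (hcop : (Nat.card G).Coprime (Nat.card S)) (htop : G ⊔ S = ⊤) (hcyc : IsCyclic S) (C : Subgroup Γ) [Fintype C] (hC : C = G ⊓ Subgroup.centralizer (S : Set Γ)) (hCG : C ≤ G) : (∀ (χ : Cfsg.IrrCharacter G) (χh : Cfsg.IrrCharacter Γ), (∀ s ∈ S, ∀ g g' : G, (g' : Γ) = s * g * s⁻¹ → (χ : G → ℂ) g' = (χ : G → ℂ) g) → (∀ g : G, (χh : Γ → ℂ) g = (χ : G → ℂ) g) → (Cfsg.detOrder (χh : Γ → ℂ)).Coprime (Nat.card S) → (∃! βε : Cfsg.IrrCharacter C × ℤ, (βε.2 = 1 ∨ βε.2 = -1) ∧ ∀ c : C, ∀ s : Γ, Subgroup.zpowers s = S → (χh : Γ → ℂ) ((c : Γ) * s) = (βε.2 : ℂ) * (βε.1 : C → ℂ) c) ∧ ∀ β : Cfsg.IrrCharacter C, ∀ ε : ℤ, (ε = 1 ∨ ε = -1) → (∀ c : C, ∀ s : Γ, Subgroup.zpowers s = S → (χh : Γ → ℂ) ((c : Γ) * s) = (ε : ℂ) * (β : C → ℂ) c) → Cfsg.classInner (fun c : C => (χ : G → ℂ) ⟨c,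 hCG c.2⟩) (β : C → ℂ) ≠ 0) ∧ (∀ (χ χ' : Cfsg.IrrCharacter G) (χh χh' : Cfsg.IrrCharacter Γ), (∀ s ∈ S, ∀ g g' : G, (g' : Γ) = s * g * s⁻¹ → (χ : G → ℂ) g' = (χ : G → ℂ) g) → (∀ s ∈ S, ∀ g g' : G, (g' : Γ) = s * g * s⁻¹ → (χ' : G → ℂ) g' = (χ' : G → ℂ) g) → (∀ g : G, (χh : Γ → ℂ) g = (χ : G → ℂ) g) → (∀ g : G, (χh' : Γ → ℂ) g = (χ' : G → ℂ) g) → (Cfsg.detOrder (χh : Γ → ℂ)).Coprime (Nat.card S) → (Cfsg.detOrder (χh' : Γ → ℂ)).Coprime (Nat.card S) → ∀ β : Cfsg.IrrCharacter C, ∀ ε ε' : ℤ, (ε = 1 ∨ ε = -1) → (ε' = 1 ∨ ε' = -1) → (∀ c : C, ∀ s : Γ, Subgroup.zpowers s = S → (χh : Γ → ℂ) ((c : Γ) * s) = (ε : ℂ) * (β : C → ℂ) c) → (∀ c : C, ∀ s : Γ, Subgroup.zpowers s = S → (χh' : Γ → ℂ) ((c : Γ) * s) = (ε' : ℂ) * (β : C → ℂ) c) → χ = χ') ∧ (∀ β : Cfsg.IrrCharacter C, ∃ (χ : Cfsg.IrrCharacter G) (χh : Cfsg.IrrCharacter Γ) (ε : ℤ), (∀ s ∈ S, ∀ g g' : G, (g' : Γ) = s * g * s⁻¹ → (χ : G → ℂ) g'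 = (χ : G → ℂ) g) ∧ (∀ g : G, (χh : Γ → ℂ) g = (χ : G → ℂ) g) ∧ (Cfsg.detOrder (χh : Γ → ℂ)).Coprime (Nat.card S) ∧ (ε = 1 ∨ ε = -1) ∧ ∀ c : C, ∀ s : Γ, Subgroup.zpowers s = S → (χh : Γ → ℂ) ((c : Γ) * s) = (ε : ℂ) * (β : C → ℂ) c) := by
  classical
  obtain ⟨g₀, hg₀⟩ := hcyc.exists_generator
  have hs₀ : Subgroup.zpowers (g₀ : Γ) = S := by
    ext x
    constructor
    · intro hx
      obtain ⟨k, rfl⟩ := Subgroup.mem_zpowers_iff.mp hx
      exact S.zpow_mem g₀.2 k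
    · intro hx
      obtain ⟨k, hk⟩ := Subgroup.mem_zpowers_iff.mp (hg₀ ⟨x, hx⟩)
      rw [Subgroup.mem_zpowers_iff]
      refine ⟨k, ?_⟩
      have h1 := congrArg Subtype.val hk
      simpa using h1
  have hsolv : Group.IsSolvable S := by
    apply Group.isSolvable_of_comm
    intro a b
    obtain ⟨i, hi⟩ := Subgroup.mem_zpowers_iff.mp (hg₀ a)
    obtain ⟨j, hj⟩ := Subgroup.mem_zpowers_iff.mp (hg₀ b)
    rw [← hi, ← hj, ← zpow_add, ← zpow_add, add_comm]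
  refine ⟨?_, ?_, ?_⟩
  · intro χ χh hinv hext hdet
    have hres : Cfsg.IsIrrCharacter G (fun n : G => (χh : Γ → ℂ) n) := by
      have h1 : (fun n : G => (χh : Γ → ℂ) n) = (χ : G → ℂ) := funext hext
      rw [h1]
      exact χ.2
    have hall := cyc_all_gens G S C hnorm hcop htop hC _ hs₀ χh.1 χh.2 hres hdet
    obtain ⟨β, ε, hε, hval⟩ := cyc_exists G S C hnorm hcop htop hC _ hs₀ χh.1 χh.2 hres hdet
    constructor
    · refine ⟨(β, ε), ⟨hε, fun c s hs => by rw [hall c s hs]; exact hval c⟩, ?_⟩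
      rintro ⟨β', ε'⟩ ⟨hε', hval'⟩
      have h := cyc_unique C β' β ε' ε hε' hε (fun c => by
        rw [← hval' c _ hs₀]
        exact hval c)
      exact Prod.ext h.1 h.2
    · intro β' ε' hε' hval'
      have h := cyc_constituent G S C hC _ hs₀ χh.1 χh.2 β' ε' hε' (fun c => hval' c _ hs₀)
      have e : (fun c : C => (χ : G → ℂ) ⟨c, hCG c.2⟩) = fun c : C => (χh : Γ → ℂ) (c : Γ) := by
        funext c
        exact (hext ⟨c, hCG c.2⟩).symm
      rw [e]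
      exact h
  · intro χ χ' χh χh' hinv hinv' hext hext' hdet hdet' β ε ε' hε hε' hval hval'
    by_contra hne
    have e1 : (fun n : G => (χh : Γ → ℂ) n) = (χ : G → ℂ) := funext hext
    have e2 : (fun n : G => (χh' : Γ → ℂ) n) = (χ' : G → ℂ) := funext hext'
    have hres : Cfsg.IsIrrCharacter G (fun n : G => (χh : Γ → ℂ) n) := by
      rw [e1]
      exact χ.2
    have h0 : Cfsg.classInner (fun n : G => (χh' : Γ → ℂ) n) (fun n : G => (χh : Γ → ℂ) n)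
        = 0 := by
      rw [e1, e2]
      exact classInner_irr_ne χ'.2 χ.2 (fun h => hne (Subtype.ext h.symm))
    exact cyc_inj G S C hnorm hcop htop hC _ hs₀ χh.1 χh'.1 χh.2 χh'.2 hres h0 β ε ε' hε hε'
      (fun c => hval c _ hs₀) (fun c => hval' c _ hs₀)
  · intro β
    obtain ⟨χ, χh, ε, hinv, hext, hdet, hε, hval⟩ :=
      cyc_surj G S C hnorm hcop htop hC _ hs₀ hsolv β
    have hres : Cfsg.IsIrrCharacter G (fun n : G => (χh : Γ → ℂ) n) := by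
      have h1 : (fun n : G => (χh : Γ → ℂ) n) = (χ : G → ℂ) := funext hext
      rw [h1]
      exact χ.2
    refine ⟨χ, χh, ε, hinv, hext, hdet, hε, fun c s hs => ?_⟩
    rw [cyc_all_gens G S C hnorm hcop htop hC _ hs₀ χh.1 χh.2 hres hdet c s hs]
    exact hval c

end Cfsg.Agent.S4446
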