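import Mathlib
import Cfsg.Statements.S4451
import Cfsg.Agent.Lib.Helper2.CycFix

set_option autoImplicit false

open Cfsg

namespace Cfsg.Agent.S4451

open Cfsg.Agent.Lib.Helper2

/-- Let the finite group Γ be generated by a normal subgroup G and a cyclic subgroup S of coprime orders such that every non-identity element of S has the same centraliser C = G ⊓ C(S) in G. Let χ be an S-invariant irreducible character of G, χ̂ its canonical extension to Γ (determinantal order coprime to the order of S), and β the irreducible character of C with χ̂(c s) = ε₀ β(c) for c ∈ C and generators s of S (ε₀ = ±1). Then there are a sign ε = ±1, which may differ from ε₀, and a linear character μ of S with μ² = 1, such that: (a) χ̂(c x) = ε β(c) μ(x) for all c ∈ C and all x ∈ S other than 1; (b) the restriction of χ to C equals |S|·ϑ + ε β for some character ϑ of C or ϑ = 0; (c) |S| divides χ(1) −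 ε β(1). -/
theorem result {Γ : Type*} [Group Γ] [Fintype Γ] (G S : Subgroup Γ) [Fintype G] (hnorm : ∀ s ∈ S, ∀ g ∈ G, s * g * s⁻¹ ∈ G) (hcop : (Nat.card G).Coprime (Nat.card S)) (htop : G ⊔ S = ⊤) (hcyc : IsCyclic S) (C : Subgroup Γ) [Fintype C] (hC : C = G ⊓ Subgroup.centralizer (S : Set Γ)) (hCG : C ≤ G) (hfpf : ∀ x ∈ S, x ≠ 1 → G ⊓ Subgroup.centralizer ({x} : Set Γ) = C) (χ : Cfsg.IrrCharacter G) (hinv : (∀ s ∈ S, ∀ g g' : G, (g' : Γ) = s * g * s⁻¹ → (χ : G → ℂ) g' = (χ : G → ℂ) g)) (χh : Cfsg.IrrCharacter Γ) (hext : (∀ g : G, (χh : Γ → ℂ) g = (χ : G → ℂ) g)) (hdet : (Cfsg.detOrder (χh : Γ → ℂ)).Coprime (Nat.card S)) (β : Cfsg.IrrCharacter C) (ε₀ : ℤ) (hε₀ : ε₀ = 1 ∨ ε₀ = -1) (hβ : ∀ c : C, ∀ s : Γ, Subgroup.zpowers s = S → (χh : Γ → ℂ) ((c : Γ) * s) = (ε₀ : ℂ) * (β : C → ℂ) c) : ∃ ε : ℤ, (ε = 1 ∨ ε = -1) ∧ (∃ μ : S → ℂ, Cfsg.IsCharacter S μ ∧ μ 1 = 1 ∧ (∀ x : S, μ x * μ x = 1)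 ∧ ∀ c : C, ∀ x : S, x ≠ 1 → (χh : Γ → ℂ) ((c : Γ) * x) = (ε : ℂ) * (β : C → ℂ) c * μ x) ∧ (∃ ϑ : C → ℂ, Cfsg.IsCharacter C ϑ ∧ (fun c : C => (χ : G → ℂ) ⟨c, hCG c.2⟩) = fun c => (Nat.card S : ℂ) * ϑ c + (ε : ℂ) * (β : C → ℂ) c) ∧ (Nat.card S : ℤ) ∣ (Cfsg.charDegree (χ : G → ℂ) : ℤ) - ε * (Cfsg.charDegree (β : C → ℂ) : ℤ) := by
  classical
  obtain ⟨g₀, hg₀⟩ := hcyc.exists_generator
  have hs₀ : Subgroup.zpowers (g₀ : Γ) = S := by
    ext x
    constructor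
    · intro hx
      obtain ⟨k, rfl⟩ := Subgroup.mem_zpowers_iff.mp hx
      exact S.zpow_mem g₀.2 k
    · intro hx
      obtain ⟨k, hk⟩ := Subgroup.mem_zpowers_iff.mp (hg₀ ⟨x, hx⟩)
      rw [Subgroup.mem_zpowers_iff]
      refine ⟨k, ?_⟩
      have h1 := congrArg Subtype.val hk
      simpa using h1
  have hres : Cfsg.IsIrrCharacter G (fun n : G => (χh : Γ → ℂ) n) := by
    have h1 : (fun n : G => (χh : Γ → ℂ) n) = (χ : G → ℂ) := funext hext
    rw [h1]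
    exact χ.2
  obtain ⟨ε, hε, hμ, ⟨ϑ, hϑ, hϑeq⟩⟩ := cyc_fpf_main G S C hnorm hcop htop hC _ hs₀ hfpf χh.1
    χh.2 hres hdet β ε₀ hε₀ (fun c => hβ c _ hs₀)
  refine ⟨ε, hε, hμ, ⟨ϑ, hϑ, ?_⟩, ?_⟩
  · funext c
    have h1 := congrFun hϑeq c
    rw [← hext ⟨c, hCG c.2⟩]
    exact h1
  · obtain ⟨d, hd⟩ := char_apply_one hϑ
    obtain ⟨b, -, hb⟩ := irr_apply_one β.2
    obtain ⟨a, -, ha⟩ := irr_apply_one χ.2
    have h1 := congrFun hϑeq 1
    beta_reduce at h1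
    have h2 : (χh : Γ → ℂ) ((1 : C) : Γ) = (χ : G → ℂ) 1 := by
      rw [← hext 1]
      rfl
    rw [h2, ha, hd, hb] at h1
    have hdegχ : Cfsg.charDegree (χ : G → ℂ) = a := by
      unfold Cfsg.charDegree
      rw [ha]
      simp
    have hdegβ : Cfsg.charDegree (β : C → ℂ) = b := by
      unfold Cfsg.charDegree
      rw [hb]
      simp
    rw [hdegχ, hdegβ]
    have h3 : (a : ℤ) = (Nat.card S : ℤ) * d + ε * b := by exact_mod_cast h1
    exact ⟨d, by rw [h3]; ring⟩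

end Cfsg.Agent.S4451
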