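import Mathlib
import Cfsg.Statements.S4452
import Cfsg.Agent.Lib.Helper2.HallDeg2

set_option autoImplicit false

open Cfsg

namespace Cfsg.Agent.S4452

open Cfsg.Agent.Lib.Helper2

/-- Let the finite group G be the product of a normal subgroup K and a solvable subgroup H of coprime orders, and let N = N_G(H). Then the number of irreducible characters of G of degree coprime to the order of H equals the number of irreducible characters of N of degree coprime to the order of H. (The two sets are in fact in a canonical bijection; only the equality of their sizes is stated here.) -/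
theorem result {G : Type*} [Group G] [Finite G] (K H : Subgroup G) [K.Normal] (hKH : K ⊔ H = ⊤) (hcop : (Nat.card K).Coprime (Nat.card H)) (hsolv : Group.IsSolvable H) : Nat.card {χ : Cfsg.IrrCharacter G // (Cfsg.charDegree (χ : G → ℂ)).Coprime (Nat.card H)} = Nat.card {η : Cfsg.IrrCharacter (Subgroup.normalizer (H : Set G)) // (Cfsg.charDegree (η : Subgroup.normalizer (H : Set G) → ℂ)).Coprime (Nat.card H)} := by
  classical
  set N : Subgroup G := Subgroup.normalizer (H : Set G) with hN
  have hHN : H ≤ N := Subgroup.le_normalizer
  have eH : H.subgroupOf N ≃* H := Subgroup.subgroupOfEquivOfLe hHN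
  have hcardH : Nat.card (H.subgroupOf N) = Nat.card H := Nat.card_congr eH.toEquiv
  have hK'H' : K.subgroupOf N ⊔ H.subgroupOf N = ⊤ := by
    rw [eq_top_iff]
    rintro ⟨n, hn⟩ -
    have hg : n ∈ (↑(K ⊔ H) : Set G) := by
      rw [hKH]
      trivial
    rw [Subgroup.normal_mul] at hg
    obtain ⟨k, hk, h, hh, hkh⟩ := hg
    have hkN : k ∈ N := by
      have h1 : k = n * h⁻¹ := by
        rw [← hkh]
        group
      rw [h1]
      exact N.mul_mem hn (N.inv_mem (hHN hh))
    have h2 : (⟨n, hn⟩ : N) = ⟨k, hkN⟩ * ⟨h, hHN hh⟩ := Subtype.ext hkh.symm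
    rw [h2]
    exact Subgroup.mul_mem_sup (Subgroup.mem_subgroupOf.mpr hk) (Subgroup.mem_subgroupOf.mpr hh)
  have hcardK' : Nat.card (K.subgroupOf N) ∣ Nat.card K := by
    have h1 : Nat.card ((K.subgroupOf N).map N.subtype) = Nat.card (K.subgroupOf N) :=
      Subgroup.card_map_of_injective (Subgroup.subtype_injective N)
    rw [← h1, Subgroup.subgroupOf_map_subtype]
    exact Subgroup.card_dvd_of_le inf_le_left
  have hcop' : (Nat.card (K.subgroupOf N)).Coprime (Nat.card (H.subgroupOf N)) := by
    rw [hcardH]
    exact Nat.Coprime.coprime_dvd_left hcardK' hcop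
  have hsolv' : Group.IsSolvable (H.subgroupOf N) :=
    Group.isSolvable_of_isSolvable_injective (f := eH.toMonoidHom) eH.injective
  have hT1 := hall_degree_count K H hKH hcop hsolv
  have hT2 := hall_degree_count (K.subgroupOf N) (H.subgroupOf N) hK'H' hcop' hsolv'
  rw [hcardH] at hT2
  rw [hT1, hT2, card_hom_congr eH]
  congr 1
  have hmap : (K.subgroupOf N ⊓ Subgroup.centralizer ((H.subgroupOf N : Subgroup N) : Set N)).map
      N.subtype = K ⊓ Subgroup.centralizer (H : Set G) := by
    ext g
    constructor
    · rintro ⟨n, hnX, rfl⟩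
      obtain ⟨hn1, hn2⟩ := Subgroup.mem_inf.mp hnX
      refine Subgroup.mem_inf.mpr ⟨Subgroup.mem_subgroupOf.mp hn1, ?_⟩
      rw [Subgroup.mem_centralizer_iff]
      intro h hh
      have h1 := (Subgroup.mem_centralizer_iff.mp hn2) ⟨h, hHN hh⟩
        (Subgroup.mem_subgroupOf.mpr hh)
      exact congrArg Subtype.val h1
    · intro hg
      obtain ⟨hgK, hgC⟩ := Subgroup.mem_inf.mp hg
      have hgN : g ∈ N := by
        rw [hN, Subgroup.mem_normalizer_iff]
        intro x
        have hc := Subgroup.mem_centralizer_iff.mp hgC
        constructor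
        · intro hx
          have h1 : g * x * g⁻¹ = x := by
            rw [← hc x hx]
            group
          rw [h1]
          exact hx
        · intro hx
          have h1 := hc _ hx
          have h2 : x = g * x * g⁻¹ := by
            have h3 : g * x = g * (g * x * g⁻¹) := by
              rw [← h1]
              group
            exact mul_left_cancel h3
          rw [h2]
          exact hx
      refine ⟨⟨g, hgN⟩, Subgroup.mem_inf.mpr ⟨Subgroup.mem_subgroupOf.mpr hgK, ?_⟩, rfl⟩
      rw [Subgroup.mem_centralizer_iff]
      intro h hh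
      apply Subtype.ext
      exact (Subgroup.mem_centralizer_iff.mp hgC) h (Subgroup.mem_subgroupOf.mp hh)
  exact (card_irr_congr (((K.subgroupOf N ⊓ Subgroup.centralizer
    ((H.subgroupOf N : Subgroup N) : Set N)).equivMapOfInjective N.subtype
      (Subgroup.subtype_injective N)).trans (MulEquiv.subgroupCongr hmap))).symm

end Cfsg.Agent.S4452
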