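import Mathlib
import Cfsg.Statements.S4458
import Cfsg.Agent.Lib.Helper2.TwoDegH
import Cfsg.Agent.Lib.Helper2.PResSquares

set_option autoImplicit false

open Cfsg

namespace Cfsg.Agent.S4458

open Cfsg.Agent.Lib.Helper2

/-- If a finite group has exactly two irreducible character degrees, 1 and m with m ≠ 1, then its commutator subgroup is abelian. -/
theorem result {G : Type*} [Group G] [Finite G] (m : ℕ) (hcd : ∀ χ : Cfsg.IrrCharacter G, Cfsg.charDegree (χ : G → ℂ) = 1 ∨ Cfsg.charDegree (χ : G → ℂ) = m) (hm : ∃ χ : Cfsg.IrrCharacter G, Cfsg.charDegree (χ : G → ℂ) = m) (hm1 : m ≠ 1) : ∀ a ∈ commutator G, ∀ b ∈ commutator G, a * b = b * a := by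
  classical
  have := Fintype.ofFinite G
  have hcd' : ∀ χ : G → ℂ, Cfsg.IsIrrCharacter G χ → χ 1 = 1 ∨ χ 1 = (m : ℂ) := by
    intro χ hχ
    rw [irr_apply_one_eq_charDegree hχ]
    rcases hcd ⟨χ, hχ⟩ with h | h
    · left; rw [h]; simp
    · right; rw [h]
  have hexm : ∃ χ : G → ℂ, Cfsg.IsIrrCharacter G χ ∧ χ 1 = (m : ℂ) := by
    obtain ⟨χ, hχ⟩ := hm
    exact ⟨χ.1, χ.2, by rw [irr_apply_one_eq_charDegree χ.2, hχ]⟩
  exact two_deg_commutator_comm m hm1 hcd' hexm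

end Cfsg.Agent.S4458
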