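import Mathlib
import Cfsg.Statements.S4459
import Cfsg.Agent.Lib.Helper2.TwoDegL
import Cfsg.Agent.Lib.Helper2.PResSquares

set_option autoImplicit false

open Cfsg

namespace Cfsg.Agent.S4459

open Cfsg.Agent.Lib.Helper2

/-- Let G be a non-abelian finite group and p a prime. Then the irreducible character degrees of G are exactly 1 and p if and only if either G has an abelian normal subgroup of index p or the centre of G has index p³. -/
theorem result {G : Type*} [Group G] [Finite G] (hG : ∃ a b : G, a * b ≠ b * a) (p : ℕ) (hp : p.Prime) : ((∀ χ : Cfsg.IrrCharacter G, Cfsg.charDegree (χ : G → ℂ) = 1 ∨ Cfsg.charDegree (χ : G → ℂ) = p) ∧ ∃ χ : Cfsg.IrrCharacter G, Cfsg.charDegree (χ : G → ℂ) = p) ↔ ((∃ A : Subgroup G, A.Normal ∧ (∀ a ∈ A, ∀ b ∈ A, a * b = b * a) ∧ A.index = p) ∨ (Subgroup.center G).index = p ^ 3) := by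
  classical
  have := Fintype.ofFinite G
  haveI : Fact p.Prime := ⟨hp⟩
  constructor
  · rintro ⟨hcd, hm⟩
    have hcd' : ∀ χ : G → ℂ, Cfsg.IsIrrCharacter G χ → χ 1 = 1 ∨ χ 1 = (p : ℂ) := by
      intro χ hχ
      rw [irr_apply_one_eq_charDegree hχ]
      rcases hcd ⟨χ, hχ⟩ with h | h
      · left; rw [h]; simp
      · right; rw [h]
    have hexm : ∃ χ : G → ℂ, Cfsg.IsIrrCharacter G χ ∧ χ 1 = (p : ℂ) := by
      obtain ⟨χ, hχ⟩ := hm
      exact ⟨χ.1, χ.2, by rw [irr_apply_one_eq_charDegree χ.2, hχ]⟩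
    exact deg_one_p_forward p hG hcd' hexm
  · intro h
    obtain ⟨hcd, χ, hχ, hχp⟩ := deg_one_p_backward p hG h
    constructor
    · intro ψ
      have h1 := hcd ψ.1 ψ.2
      rw [irr_apply_one_eq_charDegree ψ.2] at h1
      rcases h1 with h1 | h1
      · left; exact_mod_cast h1
      · right; exact_mod_cast h1
    · refine ⟨⟨χ, hχ⟩, ?_⟩
      rw [irr_apply_one_eq_charDegree hχ] at hχp
      exact_mod_cast hχp

end Cfsg.Agent.S4459
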