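import Mathlib
import Cfsg.Statements.S4493
import Cfsg.Agent.Lib.Helper2.ItoConv
import Cfsg.Agent.S4227

set_option autoImplicit false
open Cfsg

namespace Cfsg.Agent.S4493

open Cfsg.Agent.Lib.Helper2 Module

/-- the degree of the character of a representation -/
theorem charDegree_of_apply_one {G : Type*} [Group G] (χ : G → ℂ) (d : ℕ) (h : χ 1 = (d : ℂ)) :
    Cfsg.charDegree χ = d := by
  unfold Cfsg.charDegree
  rw [h]
  simp

/-- Ito: a solvable group has a normal abelian Sylow p-subgroup iff p divides no irreducible character degree. -/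
theorem result {G : Type*} [Group G] [Finite G] (hsolv : Group.IsSolvable G) (p : ℕ) (hp : p.Prime) : (∃ P : Subgroup G, P.Normal ∧ (∀ x ∈ P, ∀ y ∈ P, x * y = y * x) ∧ IsPGroup p P ∧ ¬ p ∣ P.index) ↔ ∀ χ : Cfsg.IrrCharacter G, ¬ p ∣ Cfsg.charDegree (χ : G → ℂ) := by
  have : Fact p.Prime := ⟨hp⟩
  constructor
  · rintro ⟨P, hn, hcomm, -, hidx⟩ χ
    obtain ⟨m, ρ, hρ, hχ⟩ := χ.2
    have := hρ
    have h1 := ito_degree_dvd_index ρ P hcomm
    have h2 : (χ : G → ℂ) 1 = ((finrank ℂ (Fin m → ℂ) : ℕ) : ℂ) := by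
      rw [← hχ]
      exact Representation.char_one ρ
    rw [charDegree_of_apply_one _ _ h2]
    intro hdvd
    exact hidx (hdvd.trans h1)
  · intro h
    have hps : Cfsg.IsPSolvable p G :=
      Cfsg.Agent.S4227.psolv_of_solv p hp (Nat.card G) G hsolv rfl
    let P : Sylow p G := default
    have h1 := ito_conv_aux p (Nat.card G) G le_rfl hps
      (fun χ hχ d hd => by
        have h2 := h ⟨χ, hχ⟩
        rwa [charDegree_of_apply_one _ _ hd] at h2) P
    exact ⟨(P : Subgroup G), h1.1, h1.2, P.isPGroup', P.not_dvd_index⟩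

end Cfsg.Agent.S4493
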