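import Cfsg.Statements.S4584
import Mathlib

set_option autoImplicit false
open Cfsg
open scoped commutatorElement

namespace Cfsg.Agent.S4584

/-- A subgroup of a group of order `p ^ n` has order `p ^ k` with `k ≤ n`. -/
theorem card_sub {P : Type*} [Group P] [Finite P] {p n : ℕ} (hp : p.Prime)
    (hP : Nat.card P = p ^ n) (H : Subgroup P) : ∃ k ≤ n, Nat.card H = p ^ k := by
  have h := Subgroup.card_subgroup_dvd_card H
  rw [hP] at h
  exact (Nat.dvd_prime_pow hp).mp h

/-- Two subgroups of prime order sharing a nontrivial element are equal. -/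
theorem eq_of_prime_card {P : Type*} [Group P] [Finite P] {p : ℕ} (hp : p.Prime)
    (H K : Subgroup P) (hH : Nat.card H = p) (hK : Nat.card K = p) (g : P) (hgH : g ∈ H)
    (hgK : g ∈ K) (hg : g ≠ 1) : H = K := by
  have hne : H ⊓ K ≠ ⊥ := by
    intro h
    have : g ∈ H ⊓ K := ⟨hgH, hgK⟩
    rw [h, Subgroup.mem_bot] at this
    exact hg this
  have h1 : Nat.card (H ⊓ K : Subgroup P) ∣ p := by
    rw [← hH]; exact Subgroup.card_dvd_of_le inf_le_left
  have h2 : Nat.card (H ⊓ K : Subgroup P) ≠ 1 := by
    intro h
    exact hne ((Subgroup.eq_bot_iff_card _).mpr h)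
  have h3 : Nat.card (H ⊓ K : Subgroup P) = p := by
    rcases (Nat.dvd_prime hp).mp h1 with h | h
    · exact absurd h h2
    · exact h
  have e1 : H ⊓ K = H := Subgroup.eq_of_le_of_card_ge inf_le_left (by rw [h3, hH])
  have e2 : H ⊓ K = K := Subgroup.eq_of_le_of_card_ge inf_le_right (by rw [h3, hK])
  rw [← e1, e2]

/-- A normal subgroup of prime order `p` in a finite `p`-group is central. -/
theorem normal_prime_le_center {P : Type*} [Group P] [Finite P] {p : ℕ} [Fact p.Prime]
    (hP : IsPGroup p P) (N : Subgroup P) [N.Normal] (hN : Nat.card N = p) :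
    N ≤ Subgroup.center P := by
  have hp : p.Prime := Fact.out
  have : IsCyclic N := isCyclic_of_prime_card hN
  let f : P →* MulAut N := MulAut.conjNormal
  have h1 : Nat.card f.range ∣ Nat.card (MulAut N) := Subgroup.card_subgroup_dvd_card _
  rw [IsCyclic.card_mulAut, hN, Nat.totient_prime hp] at h1
  obtain ⟨n, hn⟩ := IsPGroup.iff_card.mp hP
  have h2 : Nat.card f.range ∣ p ^ n := by
    rw [← hn]; exact Subgroup.card_range_dvd f
  obtain ⟨k, -, hk⟩ := (Nat.dvd_prime_pow hp).mp h2
  have hk0 : k = 0 := by
    by_contra hk0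
    have : p ∣ p - 1 := by
      have : p ∣ Nat.card f.range := by rw [hk]; exact dvd_pow_self p hk0
      exact this.trans h1
    have hp2 := hp.two_le
    have := Nat.le_of_dvd (by omega) this
    omega
  have hr : f.range = ⊥ := by
    rw [Subgroup.eq_bot_iff_card, hk, hk0, pow_zero]
  intro x hx
  rw [Subgroup.mem_center_iff]
  intro g
  have hg : f g = 1 := by
    have : f g ∈ f.range := ⟨g, rfl⟩
    rw [hr, Subgroup.mem_bot] at this
    exact this
  have h3 : ((f g) ⟨x, hx⟩ : P) = g * x * g⁻¹ := MulAut.conjNormal_apply g ⟨x, hx⟩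
  rw [hg] at h3
  simp only [MulAut.one_apply] at h3
  calc g * x = g * x * g⁻¹ * g := by group
    _ = x * g := by rw [← h3]

/-- In a group of class two, `y ↦ ⁅x, y⁆` is a homomorphism. -/
def commHom {P : Type*} [Group P] (h : commutator P ≤ Subgroup.center P) (x : P) : P →* P where
  toFun y := ⁅x, y⁆
  map_one' := by simp
  map_mul' y z := by
    have hz : ⁅x, z⁆ ∈ Subgroup.center P := by
      apply h
      rw [commutator_eq_closure]
      exact Subgroup.subset_closure ⟨x, z, rfl⟩
    have hc := Subgroup.mem_center_iff.mp hz y⁻¹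
    calc ⁅x, y * z⁆ = x * y * x⁻¹ * ⁅x, z⁆ * y⁻¹ := by
          simp only [commutatorElement_def]; group
      _ = x * y * x⁻¹ * (⁅x, z⁆ * y⁻¹) := by group
      _ = x * y * x⁻¹ * (y⁻¹ * ⁅x, z⁆) := by rw [hc]
      _ = ⁅x, y⁆ * ⁅x, z⁆ := by simp only [commutatorElement_def]; group

theorem commHom_apply {P : Type*} [Group P] (h : commutator P ≤ Subgroup.center P) (x y : P) :
    commHom h x y = ⁅x, y⁆ := rfl

theorem commHom_ker {P : Type*} [Group P] (h : commutator P ≤ Subgroup.center P) (x : P) :
    (commHom h x).ker = Subgroup.centralizer {x} := by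
  ext y
  rw [MonoidHom.mem_ker, commHom_apply, Subgroup.mem_centralizer_iff, commutatorElement_def]
  constructor
  · intro hy z hz
    rw [Set.mem_singleton_iff] at hz
    subst hz
    calc z * y = z * y * z⁻¹ * y⁻¹ * (y * z) := by group
      _ = y * z := by rw [hy, one_mul]
  · intro hy
    have := hy x rfl
    calc x * y * x⁻¹ * y⁻¹ = (x * y) * x⁻¹ * y⁻¹ := by group
      _ = (y * x) * x⁻¹ * y⁻¹ := by rw [this]
      _ = 1 := by group

theorem commHom_range_le {P : Type*} [Group P] (h : commutator P ≤ Subgroup.center P) (x : P) :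
    (commHom h x).range ≤ commutator P := by
  rintro _ ⟨y, rfl⟩
  rw [commutator_eq_closure]
  exact Subgroup.subset_closure ⟨x, y, rfl⟩

theorem commutator_le_of_forall {P : Type*} [Group P] (K : Subgroup P)
    (h : ∀ x y : P, ⁅x, y⁆ ∈ K) : commutator P ≤ K := by
  rw [commutator_eq_closure, Subgroup.closure_le]
  rintro _ ⟨x, y, rfl⟩
  exact h x y

theorem not_mem_center_iff {P : Type*} [Group P] (x : P) :
    x ∉ Subgroup.center P ↔ ∃ y : P, ⁅x, y⁆ ≠ 1 := by
  rw [Subgroup.mem_center_iff]
  push Not
  constructor
  · rintro ⟨g, hg⟩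
    refine ⟨g, fun h => hg ?_⟩
    rw [commutatorElement_def] at h
    calc g * x = (x * g * x⁻¹ * g⁻¹)⁻¹ * (x * g) := by group
      _ = x * g := by rw [h, inv_one, one_mul]
  · rintro ⟨y, hy⟩
    refine ⟨y, fun h => hy ?_⟩
    rw [commutatorElement_def]
    calc x * y * x⁻¹ * y⁻¹ = (y * x)⁻¹⁻¹ * x⁻¹ * y⁻¹ := by rw [h]; group
      _ = 1 := by group


theorem comm_eq_one_of_mem_center {P : Type*} [Group P] (x y : P) (hx : x ∈ Subgroup.center P) :
    ⁅x, y⁆ = 1 := by
  by_contra h
  exact (not_mem_center_iff x).mpr ⟨y, h⟩ hx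

theorem card_centralizer_of_center_sq {P : Type*} [Group P] [Finite P] {p : ℕ} (hp : p.Prime)
    (hP : Nat.card P = p ^ 4) (hZ : Nat.card (Subgroup.center P) = p ^ 2) (x : P)
    (hx : x ∉ Subgroup.center P) : Nat.card (Subgroup.centralizer ({x} : Set P)) = p ^ 3 := by
  obtain ⟨k, hk4, hk⟩ := card_sub hp hP (Subgroup.centralizer ({x} : Set P))
  have hle : Subgroup.center P ≤ Subgroup.centralizer ({x} : Set P) :=
    Subgroup.center_le_centralizer _
  have h2 : 2 ≤ k := by
    have := Subgroup.card_dvd_of_le hle
    rw [hZ, hk] at this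
    exact (Nat.pow_dvd_pow_iff_le_right hp.one_lt).mp this
  have hxC : x ∈ Subgroup.centralizer ({x} : Set P) := by
    rw [Subgroup.mem_centralizer_iff]
    intro h hh
    rw [Set.mem_singleton_iff] at hh
    rw [hh]
  have hk2 : k ≠ 2 := by
    intro h
    have : Subgroup.center P = Subgroup.centralizer ({x} : Set P) :=
      Subgroup.eq_of_le_of_card_ge hle (by rw [hk, h, hZ])
    exact hx (this ▸ hxC)
  have hk4' : k ≠ 4 := by
    intro h
    have : Subgroup.centralizer ({x} : Set P) = ⊤ := by
      rw [← Subgroup.card_eq_iff_eq_top, hk, h, hP]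
    apply hx
    rw [Subgroup.mem_center_iff]
    intro g
    have hg : g ∈ Subgroup.centralizer ({x} : Set P) := by rw [this]; trivial
    exact ((Subgroup.mem_centralizer_iff.mp hg) x rfl).symm
  have : k = 3 := by omega
  rw [hk, this]

/-- In a class-two group, the images of two noncentral commutator maps with a nontrivial
common value coincide when they have prime order. -/
theorem range_eq_of_comm_ne {P : Type*} [Group P] [Finite P] {p : ℕ} (hp : p.Prime)
    (h : commutator P ≤ Subgroup.center P) (x y : P)
    (hx : Nat.card (commHom h x).range = p) (hy : Nat.card (commHom h y).range = p)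
    (hxy : ⁅x, y⁆ ≠ 1) : (commHom h x).range = (commHom h y).range := by
  refine eq_of_prime_card hp _ _ hx hy ⁅x, y⁆ ⟨y, rfl⟩ ?_ hxy
  have : ⁅x, y⁆ = (commHom h y x)⁻¹ := by
    rw [commHom_apply, commutatorElement_inv]
  rw [this]
  exact inv_mem ⟨x, rfl⟩

theorem backward {P : Type*} [Group P] [Finite P] (p : ℕ) [Fact p.Prime]
    (hP : Nat.card P = p ^ 4) (hZ : (Subgroup.center P).index = p ^ 2) :
    Nat.card (commutator P) = p := by
  have hp : p.Prime := Fact.out
  have hcZ : Nat.card (Subgroup.center P) = p ^ 2 := by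
    have := Subgroup.card_mul_index (Subgroup.center P)
    rw [hZ, hP] at this
    have h4 : p ^ 4 = p ^ 2 * p ^ 2 := by ring
    rw [h4] at this
    exact Nat.eq_of_mul_eq_mul_right (pow_pos hp.pos 2) this
  have hQ : Nat.card (P ⧸ Subgroup.center P) = p ^ 2 := by
    rw [← Subgroup.index_eq_card]; exact hZ
  have hcomm := (IsPGroup.isMulCommutative_of_card_eq_prime_sq hQ).is_comm.comm
  have h2 : commutator P ≤ Subgroup.center P := by
    apply commutator_le_of_forall
    intro x y
    rw [← QuotientGroup.eq_one_iff, commutatorElement_def]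
    simp only [QuotientGroup.mk_mul, QuotientGroup.mk_inv]
    rw [hcomm (x : P ⧸ Subgroup.center P) y]
    group
  have hZtop : Subgroup.center P ≠ ⊤ := by
    intro h
    have := (Subgroup.card_eq_iff_eq_top _).mpr h
    rw [hcZ, hP] at this
    have := Nat.pow_right_injective hp.two_le this
    omega
  obtain ⟨x₀, hx₀⟩ : ∃ x₀ : P, x₀ ∉ Subgroup.center P := by
    by_contra hall
    push Not at hall
    exact hZtop (eq_top_iff.mpr fun x _ => hall x)
  have hrange : ∀ x : P, x ∉ Subgroup.center P → Nat.card (commHom h2 x).range = p := by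
    intro x hx
    rw [← Subgroup.index_ker, commHom_ker]
    have h1 := Subgroup.card_mul_index (Subgroup.centralizer ({x} : Set P))
    rw [card_centralizer_of_center_sq hp hP hcZ x hx, hP] at h1
    have h4 : p ^ 4 = p ^ 3 * p := by ring
    rw [h4] at h1
    exact Nat.eq_of_mul_eq_mul_left (pow_pos hp.pos 3) h1
  have hall : ∀ y : P, y ∉ Subgroup.center P →
      (commHom h2 y).range = (commHom h2 x₀).range := by
    intro y hy
    by_cases hxy : ⁅x₀, y⁆ = 1
    · obtain ⟨u, hu⟩ := (not_mem_center_iff x₀).mp hx₀
      obtain ⟨v, hv⟩ := (not_mem_center_iff y).mp hy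
      have key : ∃ w : P, ⁅x₀, w⁆ ≠ 1 ∧ ⁅y, w⁆ ≠ 1 := by
        by_cases h1 : ⁅y, u⁆ = 1
        · by_cases h3 : ⁅x₀, v⁆ = 1
          · refine ⟨u * v, ?_, ?_⟩
            · have := (commHom h2 x₀).map_mul u v
              simp only [commHom_apply] at this
              rw [this, h3, mul_one]; exact hu
            · have := (commHom h2 y).map_mul u v
              simp only [commHom_apply] at this
              rw [this, h1, one_mul]; exact hv
          · exact ⟨v, h3, hv⟩
        · exact ⟨u, hu, h1⟩
      obtain ⟨w, hw1, hw2⟩ := key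
      have hwZ : w ∉ Subgroup.center P := by
        rw [not_mem_center_iff]
        refine ⟨y, ?_⟩
        intro h
        apply hw2
        rw [← commutatorElement_inv, h, inv_one]
      have e1 := range_eq_of_comm_ne hp h2 x₀ w (hrange x₀ hx₀) (hrange w hwZ) hw1
      have e2 := range_eq_of_comm_ne hp h2 y w (hrange y hy) (hrange w hwZ) hw2
      rw [e2, e1]
    · exact (range_eq_of_comm_ne hp h2 x₀ y (hrange x₀ hx₀) (hrange y hy) hxy).symm
  have hle : commutator P ≤ (commHom h2 x₀).range := by
    apply commutator_le_of_forall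
    intro x y
    by_cases hx : x ∈ Subgroup.center P
    · rw [comm_eq_one_of_mem_center x y hx]; exact one_mem _
    · rw [← hall x hx]; exact ⟨y, rfl⟩
  have heq : commutator P = (commHom h2 x₀).range :=
    le_antisymm hle (commHom_range_le h2 x₀)
  rw [heq, hrange x₀ hx₀]


/-- A group is commutative as soon as the index of its centre is `1` or a prime. -/
theorem comm_of_center_index {A : Type*} [Group A] [Finite A] {p : ℕ} [Fact p.Prime]
    (h : (Subgroup.center A).index = 1 ∨ (Subgroup.center A).index = p) :
    ∀ a b : A, a * b = b * a := by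
  have hcyc : IsCyclic (A ⧸ Subgroup.center A) := by
    rcases h with h | h
    · have : Nat.card (A ⧸ Subgroup.center A) = 1 := by rw [← Subgroup.index_eq_card]; exact h
      have := (Nat.card_eq_one_iff_unique.mp this).1
      exact isCyclic_of_subsingleton
    · have : Nat.card (A ⧸ Subgroup.center A) = p := by rw [← Subgroup.index_eq_card]; exact h
      exact isCyclic_of_prime_card this
  exact (isMulCommutative_of_isCyclic_quotient_center_self A).is_comm.comm

theorem forward {P : Type*} [Group P] [Finite P] (p : ℕ) [Fact p.Prime]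
    (hP : Nat.card P = p ^ 4) (hc : Nat.card (commutator P) = p) :
    (Subgroup.center P).index = p ^ 2 := by
  have hp : p.Prime := Fact.out
  have hPG : IsPGroup p P := IsPGroup.of_card hP
  have h2 : commutator P ≤ Subgroup.center P := normal_prime_le_center hPG (commutator P) hc
  have hne : commutator P ≠ ⊥ := by
    intro h
    rw [Subgroup.eq_bot_iff_card, hc] at h
    exact hp.one_lt.ne' h
  have hZtop : Subgroup.center P ≠ ⊤ := by
    intro h
    apply hne
    rw [eq_bot_iff]
    apply commutator_le_of_forall
    intro x y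
    rw [comm_eq_one_of_mem_center x y (by rw [h]; trivial)]
    exact one_mem _
  have hrange : ∀ x : P, x ∉ Subgroup.center P → Nat.card (commHom h2 x).range = p := by
    intro x hx
    have h1 : Nat.card (commHom h2 x).range ∣ p := by
      rw [← hc]; exact Subgroup.card_dvd_of_le (commHom_range_le h2 x)
    rcases (Nat.dvd_prime hp).mp h1 with h | h
    · exfalso
      obtain ⟨y, hy⟩ := (not_mem_center_iff x).mp hx
      have hb := (Subgroup.eq_bot_iff_card _).mpr h
      have : ⁅x, y⁆ ∈ (commHom h2 x).range := ⟨y, rfl⟩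
      rw [hb, Subgroup.mem_bot] at this
      exact hy this
    · exact h
  have hcent : ∀ x : P, x ∉ Subgroup.center P →
      Nat.card (Subgroup.centralizer ({x} : Set P)) = p ^ 3 := by
    intro x hx
    have h1 := Subgroup.card_mul_index (Subgroup.centralizer ({x} : Set P))
    rw [← commHom_ker h2 x, Subgroup.index_ker, hrange x hx, hP] at h1
    have h4 : p ^ 4 = p ^ 3 * p := by ring
    rw [h4] at h1
    rw [← commHom_ker h2 x]
    exact Nat.eq_of_mul_eq_mul_right hp.pos h1
  obtain ⟨k, hk4, hk⟩ := card_sub hp hP (Subgroup.center P)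
  have hidx : (Subgroup.center P).index * p ^ k = p ^ 4 := by
    have := Subgroup.card_mul_index (Subgroup.center P)
    rw [hk, hP] at this
    rw [mul_comm]; exact this
  have hk0 : k ≠ 0 := by
    intro h
    have : Nontrivial P := by
      rw [← Finite.one_lt_card_iff_nontrivial, hP]
      exact Nat.one_lt_pow (by norm_num) hp.one_lt
    have hnt := IsPGroup.center_nontrivial hPG
    rw [Subgroup.nontrivial_iff_ne_bot] at hnt
    apply hnt
    rw [Subgroup.eq_bot_iff_card, hk, h, pow_zero]
  have hk4' : k ≠ 4 := by
    intro h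
    apply hZtop
    rw [← Subgroup.card_eq_iff_eq_top, hk, h, hP]
  have hk3 : k ≠ 3 := by
    intro h
    rw [h] at hidx
    have h4 : p ^ 4 = p * p ^ 3 := by ring
    rw [h4] at hidx
    have hi : (Subgroup.center P).index = p := Nat.eq_of_mul_eq_mul_right (pow_pos hp.pos 3) hidx
    have hcomm := comm_of_center_index (A := P) (p := p) (Or.inr hi)
    apply hZtop
    rw [eq_top_iff]
    intro x _
    rw [Subgroup.mem_center_iff]
    intro g
    exact hcomm g x
  have hk1 : k ≠ 1 := by
    intro h
    rw [h, pow_one] at hk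
    obtain ⟨x, hx⟩ : ∃ x : P, x ∉ Subgroup.center P := by
      by_contra hall
      push Not at hall
      exact hZtop (eq_top_iff.mpr fun x _ => hall x)
    set A : Subgroup P := Subgroup.centralizer ({x} : Set P) with hA
    have hAc : Nat.card A = p ^ 3 := hcent x hx
    have hZA : Subgroup.center P ≤ A := Subgroup.center_le_centralizer _
    have hxA : x ∈ A := by
      rw [hA, Subgroup.mem_centralizer_iff]
      intro h hh
      rw [Set.mem_singleton_iff] at hh
      rw [hh]
    -- A is commutative
    have hAcomm : ∀ a b : A, a * b = b * a := by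
      apply comm_of_center_index (p := p)
      have hle : (Subgroup.center P).subgroupOf A ≤ Subgroup.center A := by
        intro a ha
        rw [Subgroup.mem_subgroupOf] at ha
        rw [Subgroup.mem_center_iff]
        intro g
        apply Subtype.ext
        exact (Subgroup.mem_center_iff.mp ha) (g : P)
      have hcs : Nat.card ((Subgroup.center P).subgroupOf A) = p := by
        rw [← hk]
        exact Nat.card_congr (Subgroup.subgroupOfEquivOfLe hZA).toEquiv
      have hxc : (⟨x, hxA⟩ : A) ∈ Subgroup.center A := by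
        rw [Subgroup.mem_center_iff]
        intro g
        apply Subtype.ext
        have := (Subgroup.mem_centralizer_iff.mp g.2) x rfl
        exact this.symm
      obtain ⟨j, hj3, hj⟩ := card_sub hp hAc (Subgroup.center A)
      have hj0 : j ≠ 0 := by
        intro h0
        have := Subgroup.card_dvd_of_le hle
        rw [hcs, hj, h0, pow_zero] at this
        exact hp.one_lt.ne' (Nat.dvd_one.mp this)
      have hj1 : j ≠ 1 := by
        intro h1
        have : (Subgroup.center P).subgroupOf A = Subgroup.center A :=
          Subgroup.eq_of_le_of_card_ge hle (by rw [hj, h1, pow_one, hcs])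
        rw [← this, Subgroup.mem_subgroupOf] at hxc
        exact hx hxc
      have hidxA := Subgroup.card_mul_index (Subgroup.center A)
      rw [hj, hAc] at hidxA
      have hj23 : j = 2 ∨ j = 3 := by omega
      rcases hj23 with rfl | rfl
      · right
        have h3 : p ^ 3 = p ^ 2 * p := by ring
        rw [h3] at hidxA
        exact Nat.eq_of_mul_eq_mul_left (pow_pos hp.pos 2) hidxA
      · left
        have h3 : p ^ 3 = p ^ 3 * 1 := by ring
        nth_rewrite 2 [h3] at hidxA
        exact Nat.eq_of_mul_eq_mul_left (pow_pos hp.pos 3) hidxA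
    -- pick w outside A
    have hAtop : A ≠ ⊤ := by
      intro h
      have := (Subgroup.card_eq_iff_eq_top _).mpr h
      rw [hAc, hP] at this
      have := Nat.pow_right_injective hp.two_le this
      omega
    obtain ⟨w, hw⟩ : ∃ w : P, w ∉ A := by
      by_contra hall
      push Not at hall
      exact hAtop (eq_top_iff.mpr fun x _ => hall x)
    have hsup : A ⊔ Subgroup.zpowers w = ⊤ := by
      obtain ⟨j, hj4, hj⟩ := card_sub hp hP (A ⊔ Subgroup.zpowers w)
      have hle : A ≤ A ⊔ Subgroup.zpowers w := le_sup_left
      have h3 : 3 ≤ j := by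
        have := Subgroup.card_dvd_of_le hle
        rw [hAc, hj] at this
        exact (Nat.pow_dvd_pow_iff_le_right hp.one_lt).mp this
      have hj3 : j ≠ 3 := by
        intro h
        have : A = A ⊔ Subgroup.zpowers w :=
          Subgroup.eq_of_le_of_card_ge hle (by rw [hj, h, hAc])
        apply hw
        rw [this]
        exact (le_sup_right : Subgroup.zpowers w ≤ A ⊔ Subgroup.zpowers w)
          (Subgroup.mem_zpowers w)
      have : j = 4 := by omega
      rw [← Subgroup.card_eq_iff_eq_top, hj, this, hP]
    set K : Subgroup P := A ⊓ Subgroup.centralizer ({w} : Set P) with hK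
    have hKZ : K ≤ Subgroup.center P := by
      intro k hk'
      have hkA : k ∈ A := hk'.1
      have hkw : k ∈ Subgroup.centralizer ({w} : Set P) := hk'.2
      have hcent : A ⊔ Subgroup.zpowers w ≤ Subgroup.centralizer ({k} : Set P) := by
        apply sup_le
        · intro a ha
          rw [Subgroup.mem_centralizer_iff]
          intro h hh
          rw [Set.mem_singleton_iff] at hh
          rw [hh]
          have := hAcomm ⟨k, hkA⟩ ⟨a, ha⟩
          exact congrArg Subtype.val this
        · rw [Subgroup.zpowers_le, Subgroup.mem_centralizer_iff]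
          intro h hh
          rw [Set.mem_singleton_iff] at hh
          rw [hh]
          exact ((Subgroup.mem_centralizer_iff.mp hkw) w rfl).symm
      rw [hsup] at hcent
      rw [Subgroup.mem_center_iff]
      intro g
      have hg : g ∈ Subgroup.centralizer ({k} : Set P) := hcent trivial
      exact ((Subgroup.mem_centralizer_iff.mp hg) k rfl).symm
    let ψ : A →* P := (commHom h2 w).comp A.subtype
    have hψr : Nat.card ψ.range ≤ p := by
      have hle : ψ.range ≤ commutator P := by
        rintro _ ⟨a, rfl⟩
        exact commHom_range_le h2 w ⟨(a : P), rfl⟩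
      have := Subgroup.card_dvd_of_le hle
      rw [hc] at this
      exact Nat.le_of_dvd hp.pos this
    have hψk : p ^ 2 ≤ Nat.card ψ.ker := by
      have h1 := Subgroup.card_mul_index ψ.ker
      rw [Subgroup.index_ker, hAc] at h1
      by_contra hlt
      push Not at hlt
      have : Nat.card ψ.ker * Nat.card ψ.range < p ^ 2 * p := by
        calc Nat.card ψ.ker * Nat.card ψ.range ≤ Nat.card ψ.ker * p :=
              Nat.mul_le_mul_left _ hψr
          _ < p ^ 2 * p := Nat.mul_lt_mul_of_pos_right hlt hp.pos
      rw [h1] at this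
      have h3 : p ^ 3 = p ^ 2 * p := by ring
      omega
    have hmap : ψ.ker.map A.subtype ≤ K := by
      rintro _ ⟨a, ha, rfl⟩
      refine ⟨a.2, ?_⟩
      have ha' : ⁅w, (a : P)⁆ = 1 := ha
      have : (a : P) ∈ (commHom h2 w).ker := ha'
      rw [commHom_ker] at this
      exact this
    have hcardmap : Nat.card (ψ.ker.map A.subtype) = Nat.card ψ.ker :=
      Subgroup.card_map_of_injective A.subtype_injective
    have h5 : Nat.card ψ.ker ≤ p := by
      rw [← hcardmap, ← hk]
      exact Subgroup.card_le_of_le (hmap.trans hKZ)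
    have hp2 := hp.two_le
    nlinarith
  have hk2 : k = 2 := by omega
  rw [hk2] at hidx
  have h4 : p ^ 4 = p ^ 2 * p ^ 2 := by ring
  rw [h4] at hidx
  exact Nat.eq_of_mul_eq_mul_right (pow_pos hp.pos 2) hidx

/-- Let p be a prime and P a group of order p^4. Then the derived subgroup P' has order p if and only if the centre Z(P) has index p^2 in P. -/
theorem result {P : Type*} [Group P] [Finite P] (p : ℕ) [Fact p.Prime] (hP : Nat.card P = p ^ 4) :
    Nat.card (commutator P) = p ↔ (Subgroup.center P).index = p ^ 2 := by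
  exact ⟨forward p hP, backward p hP⟩

end Cfsg.Agent.S4584
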