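import Cfsg.Statements.S4496
import Mathlib
import Cfsg.Agent.S4584

set_option autoImplicit false
open Cfsg
open scoped commutatorElement

namespace Cfsg.Agent.S4496

open Cfsg.Agent.S4584

variable {G : Type*} [Group G] [Finite G]

theorem zpowers_eq_of_mem {p : ℕ} (hp : p.Prime) {x z : G} (hx : orderOf x = p)
    (hz : z ∈ Subgroup.zpowers x) (hz1 : z ≠ 1) : Subgroup.zpowers z = Subgroup.zpowers x := by
  have hoz : orderOf z = p := by
    have hd : orderOf z ∣ p := hx ▸ orderOf_dvd_of_mem_zpowers hz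
    rcases (Nat.dvd_prime hp).mp hd with h | h
    · exact absurd (orderOf_eq_one_iff.mp h) hz1
    · exact h
  refine eq_of_prime_card hp _ _ ?_ ?_ z (Subgroup.mem_zpowers z) hz hz1
  · rw [Nat.card_zpowers, hoz]
  · rw [Nat.card_zpowers, hx]

omit [Finite G] in
theorem ne_one_of_order {p : ℕ} (hp : p.Prime) {x : G} (hx : orderOf x = p) : x ≠ 1 := by
  intro h
  rw [h, orderOf_one] at hx
  exact hp.one_lt.ne hx

omit [Finite G] in
theorem mem_zpowers_of_comm {x : G}
    (hC : Subgroup.centralizer ({x} : Set G) = Subgroup.zpowers x) {g : G}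
    (h : x * g = g * x) : g ∈ Subgroup.zpowers x := by
  rw [← hC, Subgroup.mem_centralizer_iff]
  intro y hy
  rw [Set.mem_singleton_iff] at hy
  rw [hy]; exact h

omit [Finite G] in
theorem comm_of_mem_zpowers {x g : G} (h : g ∈ Subgroup.zpowers x) : x * g = g * x := by
  obtain ⟨k, rfl⟩ := Subgroup.mem_zpowers_iff.mp h
  exact (Commute.zpow_right (Commute.refl x) k).eq

theorem sylow_eq {p : ℕ} [Fact p.Prime] {x : G} (hx : orderOf x = p)
    (hC : Subgroup.centralizer ({x} : Set G) = Subgroup.zpowers x) (Q : Sylow p G)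
    (hQ : Subgroup.zpowers x ≤ Q) : (Q : Subgroup G) = Subgroup.zpowers x := by
  have hp : p.Prime := Fact.out
  apply le_antisymm _ hQ
  have hxQ : x ∈ (Q : Subgroup G) := hQ (Subgroup.mem_zpowers x)
  have hx1 : x ≠ 1 := ne_one_of_order hp hx
  have hnt : Nontrivial (Q : Subgroup G) :=
    ⟨⟨⟨x, hxQ⟩, 1, fun h => hx1 (congrArg Subtype.val h)⟩⟩
  have hcn := IsPGroup.center_nontrivial Q.isPGroup'
  obtain ⟨⟨z, hzc⟩, hz1⟩ := exists_ne (1 : Subgroup.center (Q : Subgroup G))
  have hzx : x * (z : G) = (z : G) * x := by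
    have := Subgroup.mem_center_iff.mp hzc ⟨x, hxQ⟩
    exact congrArg Subtype.val this
  have hzmem : (z : G) ∈ Subgroup.zpowers x := mem_zpowers_of_comm hC hzx
  have hzne : (z : G) ≠ 1 := by
    intro h
    apply hz1
    apply Subtype.ext
    apply Subtype.ext
    exact h
  have heq := zpowers_eq_of_mem hp hx hzmem hzne
  have hxz : x ∈ Subgroup.zpowers (z : G) := by rw [heq]; exact Subgroup.mem_zpowers x
  obtain ⟨k, hk⟩ := Subgroup.mem_zpowers_iff.mp hxz
  intro q hq
  apply mem_zpowers_of_comm hC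
  have hqz : (z : G) * q = q * (z : G) := by
    have := Subgroup.mem_center_iff.mp hzc ⟨q, hq⟩
    exact (congrArg Subtype.val this).symm
  rw [← hk]
  exact ((Commute.zpow_left (show Commute (z : G) q from hqz) k)).eq

theorem exists_sylow {p : ℕ} [Fact p.Prime] {x : G} (hx : orderOf x = p)
    (hC : Subgroup.centralizer ({x} : Set G) = Subgroup.zpowers x) :
    ∃ Q : Sylow p G, (Q : Subgroup G) = Subgroup.zpowers x := by
  have hpg : IsPGroup p (Subgroup.zpowers x) :=
    IsPGroup.of_card (n := 1) (by rw [Nat.card_zpowers, hx, pow_one])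
  obtain ⟨Q, hQ⟩ := hpg.exists_le_sylow
  exact ⟨Q, sylow_eq hx hC Q hQ⟩

theorem factorization_eq_one {p : ℕ} [Fact p.Prime] {x : G} (hx : orderOf x = p)
    (hC : Subgroup.centralizer ({x} : Set G) = Subgroup.zpowers x) :
    (Nat.card G).factorization p = 1 := by
  have hp : p.Prime := Fact.out
  obtain ⟨Q, hQ⟩ := exists_sylow hx hC
  have h := Q.card_eq_multiplicity
  have hc : Nat.card (Q : Subgroup G) = p := by rw [hQ, Nat.card_zpowers, hx]
  rw [hc] at h
  have h' : p ^ 1 = p ^ (Nat.card G).factorization p := by rw [pow_one]; exact h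
  exact (Nat.pow_right_injective hp.two_le h').symm

omit [Finite G] in
theorem inf_eq_bot {p : ℕ} (hp : p.Prime) {x : G} (hx : orderOf x = p)
    (S : Subgroup G) (hS : ¬ p ∣ Nat.card S) : Subgroup.zpowers x ⊓ S = ⊥ := by
  apply disjoint_iff.mp
  apply Subgroup.disjoint_of_coprime_natCard
  rw [Nat.card_zpowers, hx]
  exact (Nat.Prime.coprime_iff_not_dvd hp).mpr hS

omit [Finite G] in
theorem mem_inf_eq_one {p : ℕ} (hp : p.Prime) {x : G} (hx : orderOf x = p)
    (S : Subgroup G) (hS : ¬ p ∣ Nat.card S) {g : G} (h1 : g ∈ Subgroup.zpowers x)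
    (h2 : g ∈ S) : g = 1 := by
  have : g ∈ Subgroup.zpowers x ⊓ S := ⟨h1, h2⟩
  rw [inf_eq_bot hp hx S hS] at this
  exact Subgroup.mem_bot.mp this

/-- the conjugation action of `x` on the coset `g S`, transported to `S` -/
def tau (x g : G) (S : Subgroup G) [S.Normal] (hc : g⁻¹ * x * g * x⁻¹ ∈ S) : S → S :=
  fun s => ⟨g⁻¹ * x * g * s * x⁻¹, by
    have h1 : x * (s : G) * x⁻¹ ∈ S := Subgroup.Normal.conj_mem inferInstance _ s.2 x
    have : g⁻¹ * x * g * s * x⁻¹ = (g⁻¹ * x * g * x⁻¹) * (x * s * x⁻¹) := by group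
    rw [this]
    exact S.mul_mem hc h1⟩

omit [Finite G] in
theorem tau_iterate (x g : G) (S : Subgroup G) [S.Normal] (hc : g⁻¹ * x * g * x⁻¹ ∈ S)
    (k : ℕ) (s : S) :
    (((tau x g S hc)^[k] s : S) : G) = g⁻¹ * x ^ k * g * s * (x ^ k)⁻¹ := by
  induction k with
  | zero => simp
  | succ k ih =>
    rw [Function.iterate_succ_apply']
    change g⁻¹ * x * g * (((tau x g S hc)^[k] s : S) : G) * x⁻¹ = _
    rw [ih, pow_succ']
    group

/-- `tau` as an element of the monoid of self-maps -/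
def tauE (x g : G) (S : Subgroup G) [S.Normal] (hc : g⁻¹ * x * g * x⁻¹ ∈ S) : Function.End S :=
  tau x g S hc

omit [Finite G] in
theorem tau_pow {p : ℕ} (x g : G) (hx : orderOf x = p) (S : Subgroup G) [S.Normal]
    (hc : g⁻¹ * x * g * x⁻¹ ∈ S) :
    (tauE x g S hc) ^ p ^ 1 = 1 := by
  have h := hom_coe_pow (fun f : Function.End S ↦ (f : S → S)) rfl (fun _ _ ↦ rfl)
    (tauE x g S hc) (p ^ 1)
  funext s
  have h2 : (tauE x g S hc ^ p ^ 1) s = (tau x g S hc)^[p ^ 1] s := congrFun h s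
  rw [h2]
  apply Subtype.ext
  rw [tau_iterate, pow_one, ← hx, pow_orderOf_eq_one]
  change g⁻¹ * 1 * g * (s : G) * 1⁻¹ = (s : G)
  group

theorem card_mod {p : ℕ} (hp : p.Prime) {x : G} (hx : orderOf x = p)
    (hC : Subgroup.centralizer ({x} : Set G) = Subgroup.zpowers x)
    (S : Subgroup G) [S.Normal] (hS : ¬ p ∣ Nat.card S) : Nat.card S % p = 1 := by
  have : Fact p.Prime := ⟨hp⟩
  have : Fintype S := Fintype.ofFinite S
  have : DecidableEq S := Classical.decEq S
  have hc : (1 : G)⁻¹ * x * 1 * x⁻¹ ∈ S := by simp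
  have h0 := Equiv.Perm.card_fixedPoints_modEq (tau_pow x 1 hx S hc)
  have h : Nat.card S ≡ Nat.card (Function.fixedPoints (tauE x 1 S hc)) [MOD p] := by
    rw [Fintype.card_eq_nat_card, Fintype.card_eq_nat_card] at h0
    exact h0
  have hfix : Nat.card (Function.fixedPoints (tauE x 1 S hc)) = 1 := by
    rw [Nat.card_eq_one_iff_unique]
    constructor
    · constructor
      rintro ⟨s, hs⟩ ⟨t, ht⟩
      have key : ∀ s : S, tau x 1 S hc s = s → s = 1 := by
        intro s hs
        apply Subtype.ext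
        have hs' : ((tau x 1 S hc s : S) : G) = s := congrArg Subtype.val hs
        have hs2 : x * (s : G) * x⁻¹ = s := by
          have : ((tau x 1 S hc s : S) : G) = x * (s : G) * x⁻¹ := by simp [tau]
          rw [← this]; exact hs'
        have hcomm : x * (s : G) = (s : G) * x := by
          calc x * (s : G) = x * (s : G) * x⁻¹ * x := by group
            _ = (s : G) * x := by rw [hs2]
        exact mem_inf_eq_one hp hx S hS (mem_zpowers_of_comm hC hcomm) s.2
      exact Subtype.ext ((key s hs).trans (key t ht).symm)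
    · refine ⟨⟨1, ?_⟩⟩
      change tau x 1 S hc 1 = 1
      apply Subtype.ext
      simp [tau]
  rw [hfix] at h
  have := h
  unfold Nat.ModEq at this
  rw [this, Nat.mod_eq_of_lt hp.one_lt]

theorem exists_fixed {p : ℕ} (hp : p.Prime) {x : G} (hx : orderOf x = p)
    (S : Subgroup G) [S.Normal] (hS : ¬ p ∣ Nat.card S) (g : G)
    (hc : g⁻¹ * x * g * x⁻¹ ∈ S) : ∃ s : S, x * (g * s) = (g * s) * x := by
  have : Fact p.Prime := ⟨hp⟩
  have : Fintype S := Fintype.ofFinite S
  have : DecidableEq S := Classical.decEq S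
  have h0 := Equiv.Perm.card_fixedPoints_modEq (tau_pow x g hx S hc)
  have h : Nat.card S ≡ Nat.card (Function.fixedPoints (tauE x g S hc)) [MOD p] := by
    rw [Fintype.card_eq_nat_card, Fintype.card_eq_nat_card] at h0
    exact h0
  have hne : Nonempty (Function.fixedPoints (tauE x g S hc)) := by
    by_contra hemp
    rw [not_nonempty_iff] at hemp
    have hz : Nat.card (Function.fixedPoints (tauE x g S hc)) = 0 := Nat.card_of_isEmpty
    rw [hz] at h
    exact hS ((Nat.modEq_zero_iff_dvd).mp h)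
  obtain ⟨⟨s, hs⟩⟩ := hne
  refine ⟨s, ?_⟩
  have hs' : ((tau x g S hc s : S) : G) = s := congrArg Subtype.val hs
  have hs2 : g⁻¹ * x * g * (s : G) * x⁻¹ = s := hs'
  calc x * (g * s) = g * (g⁻¹ * x * g * (s : G) * x⁻¹) * x := by group
    _ = g * s * x := by rw [hs2]

theorem card_dvd {p : ℕ} (hp : p.Prime) {x : G} (hx : orderOf x = p)
    (hC : Subgroup.centralizer ({x} : Set G) = Subgroup.zpowers x)
    (S : Subgroup G) [S.Normal] (hS : ¬ p ∣ Nat.card S) :
    Nat.card S ∣ Nat.card {H : Subgroup G // Nat.card H = p} := by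
  have : Fact p.Prime := ⟨hp⟩
  obtain ⟨Q, hQ⟩ := exists_sylow hx hC
  have hfac := factorization_eq_one hx hC
  let e : {H : Subgroup G // Nat.card H = p} ≃ Sylow p G :=
    { toFun := fun H => Sylow.ofCard H.1 (by rw [H.2, hfac, pow_one])
      invFun := fun P => ⟨P, by rw [P.card_eq_multiplicity, hfac, pow_one]⟩
      left_inv := fun H => by apply Subtype.ext; rfl
      right_inv := fun P => by apply Sylow.ext; rfl }
  rw [Nat.card_congr e, Sylow.card_eq_index_normalizer Q]
  set Nm : Subgroup G := Subgroup.normalizer ((Q : Subgroup G) : Set G) with hNm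
  have hinf : ∀ s : G, s ∈ Nm → s ∈ S → s = 1 := by
    intro s hsN hsS
    have hxQ : x ∈ (Q : Subgroup G) := by rw [hQ]; exact Subgroup.mem_zpowers x
    have h1 : s * x * s⁻¹ ∈ (Q : Subgroup G) := (Subgroup.mem_normalizer_iff.mp hsN x).mp hxQ
    have h2 : s * x * s⁻¹ * x⁻¹ ∈ Subgroup.zpowers x := by
      rw [← hQ]; exact (Q : Subgroup G).mul_mem h1 ((Q : Subgroup G).inv_mem hxQ)
    have h3 : s * x * s⁻¹ * x⁻¹ ∈ S := by
      have h4 : x * s⁻¹ * x⁻¹ ∈ S := Subgroup.Normal.conj_mem inferInstance _ (S.inv_mem hsS) x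
      have : s * x * s⁻¹ * x⁻¹ = s * (x * s⁻¹ * x⁻¹) := by group
      rw [this]; exact S.mul_mem hsS h4
    have h5 := mem_inf_eq_one hp hx S hS h2 h3
    have hcomm : x * s = s * x := by
      calc x * s = (s * x * s⁻¹ * x⁻¹)⁻¹ * (s * x) := by group
        _ = s * x := by rw [h5]; simp
    exact mem_inf_eq_one hp hx S hS (mem_zpowers_of_comm hC hcomm) hsS
  let f : Nm →* G ⧸ S := (QuotientGroup.mk' S).comp Nm.subtype
  have hf : Function.Injective f := by
    rw [injective_iff_map_eq_one]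
    intro n hn
    have : (n : G) ∈ S := by
      have : ((n : G) : G ⧸ S) = 1 := hn
      exact (QuotientGroup.eq_one_iff _).mp this
    apply Subtype.ext
    exact hinf n n.2 this
  obtain ⟨k, hk⟩ := Subgroup.card_dvd_of_injective f hf
  have e1 := Subgroup.card_eq_card_quotient_mul_card_subgroup S
  have e2 := Subgroup.index_mul_card Nm
  refine ⟨k, ?_⟩
  have hpos : 0 < Nat.card Nm := Nat.card_pos
  have : Nm.index * Nat.card Nm = (Nat.card S * k) * Nat.card Nm := by
    rw [e2, e1, hk]; ring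
  exact Nat.eq_of_mul_eq_mul_right hpos this

omit [Finite G] in
theorem normalizer_comm {x : G} {n n' : G}
    (hn : n ∈ Subgroup.normalizer ((Subgroup.zpowers x : Subgroup G) : Set G))
    (hn' : n' ∈ Subgroup.normalizer ((Subgroup.zpowers x : Subgroup G) : Set G)) :
    x * ((n' * n)⁻¹ * (n * n')) = ((n' * n)⁻¹ * (n * n')) * x := by
  have h1 : n * x * n⁻¹ ∈ Subgroup.zpowers x :=
    (Subgroup.mem_normalizer_iff.mp hn x).mp (Subgroup.mem_zpowers x)
  have h2 : n' * x * n'⁻¹ ∈ Subgroup.zpowers x :=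
    (Subgroup.mem_normalizer_iff.mp hn' x).mp (Subgroup.mem_zpowers x)
  obtain ⟨a, ha⟩ := Subgroup.mem_zpowers_iff.mp h1
  obtain ⟨b, hb⟩ := Subgroup.mem_zpowers_iff.mp h2
  have e1 : (n * n') * x * (n * n')⁻¹ = x ^ (a * b) := by
    calc (n * n') * x * (n * n')⁻¹ = n * (n' * x * n'⁻¹) * n⁻¹ := by group
      _ = n * x ^ b * n⁻¹ := by rw [hb]
      _ = (n * x * n⁻¹) ^ b := by rw [conj_zpow]
      _ = x ^ (a * b) := by rw [← ha, zpow_mul]
  have e2 : (n' * n) * x * (n' * n)⁻¹ = x ^ (a * b) := by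
    calc (n' * n) * x * (n' * n)⁻¹ = n' * (n * x * n⁻¹) * n'⁻¹ := by group
      _ = n' * x ^ a * n'⁻¹ := by rw [ha]
      _ = (n' * x * n'⁻¹) ^ a := by rw [conj_zpow]
      _ = x ^ (a * b) := by rw [← hb, mul_comm a b, zpow_mul]
  have h : (n * n') * x * (n * n')⁻¹ = (n' * n) * x * (n' * n)⁻¹ := by rw [e1, e2]
  symm
  calc (n' * n)⁻¹ * (n * n') * x = (n' * n)⁻¹ * ((n * n') * x * (n * n')⁻¹) * (n * n') := by
        group
    _ = (n' * n)⁻¹ * ((n' * n) * x * (n' * n)⁻¹) * (n * n') := by rw [h]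
    _ = x * ((n' * n)⁻¹ * (n * n')) := by group

theorem part_a {p : ℕ} (hp : p.Prime) {x : G} (hx : orderOf x = p)
    (hC : Subgroup.centralizer ({x} : Set G) = Subgroup.zpowers x)
    (S : Subgroup G) [S.Normal] (hS : p ∣ Nat.card S) : commutator G ≤ S := by
  have : Fact p.Prime := ⟨hp⟩
  obtain ⟨Q, hQ⟩ := exists_sylow hx hC
  have hfac := factorization_eq_one hx hC
  -- `x ∈ S`
  have hxS : x ∈ S := by
    rw [← QuotientGroup.eq_one_iff, ← orderOf_eq_one_iff]
    have hd : orderOf (x : G ⧸ S) ∣ p := by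
      apply orderOf_dvd_of_pow_eq_one
      rw [← QuotientGroup.mk_pow, ← hx, pow_orderOf_eq_one]
      rfl
    rcases (Nat.dvd_prime hp).mp hd with h | h
    · exact h
    · exfalso
      have h1 : p ∣ Nat.card (G ⧸ S) := h ▸ orderOf_dvd_natCard (x : G ⧸ S)
      have h2 : p ^ 2 ∣ Nat.card G := by
        rw [Subgroup.card_eq_card_quotient_mul_card_subgroup S, pow_two]
        exact Nat.mul_dvd_mul h1 hS
      have h3 := (hp.pow_dvd_iff_le_factorization (Nat.card_pos (α := G)).ne').mp h2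
      omega
  have hQS : (Q : Subgroup G) ≤ S := by
    rw [hQ, Subgroup.zpowers_le]; exact hxS
  have hfr0 := Sylow.normalizer_sup_eq_top' Q hQS
  have hfr : Subgroup.normalizer ((Subgroup.zpowers x : Subgroup G) : Set G) ⊔ S = ⊤ := by
    rw [← hQ]; exact hfr0
  have hdecomp : ∀ g : G, ∃ n ∈ Subgroup.normalizer ((Subgroup.zpowers x : Subgroup G) : Set G),
      ∃ s ∈ S, n * s = g := by
    intro g
    have hg : g ∈ ((Subgroup.normalizer ((Subgroup.zpowers x : Subgroup G) : Set G) ⊔ S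
        : Subgroup G) : Set G) := by
      rw [hfr]; trivial
    rw [Subgroup.mul_normal] at hg
    obtain ⟨n, hn, s, hs, hns⟩ := Set.mem_mul.mp hg
    exact ⟨n, hn, s, hs, hns⟩
  apply commutator_le_of_forall
  intro a b
  obtain ⟨n, hn, s, hs, rfl⟩ := hdecomp a
  obtain ⟨n', hn', s', hs', rfl⟩ := hdecomp b
  rw [← QuotientGroup.eq_one_iff]
  have ea : ((n * s : G) : G ⧸ S) = (n : G ⧸ S) := by
    rw [QuotientGroup.eq]
    have : (n * s)⁻¹ * n = s⁻¹ := by group
    rw [this]; exact S.inv_mem hs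
  have eb : ((n' * s' : G) : G ⧸ S) = (n' : G ⧸ S) := by
    rw [QuotientGroup.eq]
    have : (n' * s')⁻¹ * n' = s'⁻¹ := by group
    rw [this]; exact S.inv_mem hs'
  have ecomm : (n : G ⧸ S) * (n' : G ⧸ S) = (n' : G ⧸ S) * (n : G ⧸ S) := by
    rw [← QuotientGroup.mk_mul, ← QuotientGroup.mk_mul, eq_comm, QuotientGroup.eq]
    have := mem_zpowers_of_comm hC (normalizer_comm hn hn')
    exact (Subgroup.zpowers_le.mpr hxS) this
  have : ((⁅n * s, n' * s'⁆ : G) : G ⧸ S) = ⁅((n * s : G) : G ⧸ S), ((n' * s' : G) : G ⧸ S)⁆ := by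
    simp [commutatorElement_def]
  rw [this, ea, eb, commutatorElement_eq_one_iff_mul_comm]
  exact ecomm

/-- Let the finite group G contain an element x of prime order p with C_G(x) = ⟨x⟩. Then: (a) every normal subgroup of order divisible by p contains the commutator subgroup; (b) every normal subgroup S of order prime to p has order dividing the number of subgroups of order p of G and congruent to 1 modulo p, and in G/S the image of x again has prime order p and commutes only with its own powers. -/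
theorem result {G : Type*} [Group G] [Finite G] (p : ℕ) (hp : p.Prime) (x : G) (hx : orderOf x = p) (hC : Subgroup.centralizer ({x} : Set G) = Subgroup.zpowers x) (S : Subgroup G) [S.Normal] : (p ∣ Nat.card S → commutator G ≤ S) ∧ (¬ p ∣ Nat.card S → Nat.card S ∣ Nat.card {H : Subgroup G // Nat.card H = p} ∧ Nat.card S % p = 1 ∧ orderOf (QuotientGroup.mk x : G ⧸ S) = p ∧ Subgroup.centralizer ({(QuotientGroup.mk x : G ⧸ S)} : Set (G ⧸ S)) = Subgroup.zpowers (QuotientGroup.mk x : G ⧸ S)) := by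
  have : Fact p.Prime := ⟨hp⟩
  refine ⟨part_a hp hx hC S, fun hS => ⟨card_dvd hp hx hC S hS, card_mod hp hx hC S hS, ?_, ?_⟩⟩
  · apply orderOf_eq_prime
    · rw [← QuotientGroup.mk_pow, ← hx, pow_orderOf_eq_one]
      rfl
    · intro h
      have hxS : x ∈ S := (QuotientGroup.eq_one_iff x).mp h
      exact ne_one_of_order hp hx (mem_inf_eq_one hp hx S hS (Subgroup.mem_zpowers x) hxS)
  · apply le_antisymm
    · intro q hq
      obtain ⟨g, rfl⟩ := QuotientGroup.mk_surjective q
      have hcomm : (x : G ⧸ S) * (g : G ⧸ S) = (g : G ⧸ S) * (x : G ⧸ S) :=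
        Subgroup.mem_centralizer_iff.mp hq _ rfl
      have hc : g⁻¹ * x * g * x⁻¹ ∈ S := by
        rw [← QuotientGroup.mk_mul, ← QuotientGroup.mk_mul, eq_comm, QuotientGroup.eq] at hcomm
        have h1 := Subgroup.Normal.conj_mem (inferInstance : S.Normal) _ hcomm x
        have : x * ((g * x)⁻¹ * (x * g)) * x⁻¹ = g⁻¹ * x * g * x⁻¹ := by group
        rw [this] at h1
        exact h1
      obtain ⟨s, hs⟩ := exists_fixed hp hx S hS g hc
      have hmem := mem_zpowers_of_comm hC hs
      obtain ⟨k, hk⟩ := Subgroup.mem_zpowers_iff.mp hmem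
      rw [Subgroup.mem_zpowers_iff]
      refine ⟨k, ?_⟩
      rw [← QuotientGroup.mk_zpow, hk, QuotientGroup.eq]
      have : (g * (s : G))⁻¹ * g = (s : G)⁻¹ := by group
      rw [this]
      exact S.inv_mem s.2
    · rw [Subgroup.zpowers_le, Subgroup.mem_centralizer_iff]
      intro y hy
      rw [Set.mem_singleton_iff] at hy
      rw [hy]

end Cfsg.Agent.S4496
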