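import Cfsg.Statements.S4508
import Mathlib
import Cfsg.Agent.Lib.Helper24.DegPm1

set_option autoImplicit false
open Cfsg

namespace Cfsg.Agent.S4508

open Cfsg.Agent.Lib.Helper24 in
/-- the case `p = 2`: Burnside's transfer gives a subgroup of index two -/
theorem two_case {G : Type*} [Group G] [Finite G] (x : G) (hx : orderOf x = 2)
    (hC : Subgroup.centralizer ({x} : Set G) = Subgroup.zpowers x) :
    Even (commutator G).index := by
  have h2 : Fact (Nat.Prime 2) := ⟨Nat.prime_two⟩
  obtain ⟨P, hP⟩ := sylow_of_self_centralizing (p := 2) x hx hC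
  have hcard : Nat.card (P : Subgroup G) = 2 := by rw [hP, Nat.card_zpowers, hx]
  have hxP : x ∈ (P : Subgroup G) := by rw [hP]; exact Subgroup.mem_zpowers x
  have hx1 : x ≠ 1 := by
    intro h
    rw [h, orderOf_one] at hx
    omega
  have hcent : ∀ y ∈ (P : Subgroup G), y ≠ 1 →
      Subgroup.centralizer ({y} : Set G) = (P : Subgroup G) := by
    intro y hy hy1
    rw [hP] at hy ⊢
    exact cent_of_self_centralizing (p := 2) x hx hC y hy hy1
  have hcomm : ∀ a b : (P : Subgroup G), a * b = b * a := by
    intro a b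
    by_cases ha : (a : G) = 1
    · have ha' : a = 1 := Subtype.ext ha
      rw [ha', one_mul, mul_one]
    · have h1 : (b : G) ∈ Subgroup.centralizer ({(a : G)} : Set G) := by
        rw [hcent a a.2 ha]
        exact b.2
      have h3 := Subgroup.mem_centralizer_singleton_iff.mp h1
      exact Subtype.ext h3.symm
  have hN : Subgroup.normalizer ((P : Subgroup G) : Set G)
      ≤ Subgroup.centralizer ((P : Subgroup G) : Set G) := by
    intro n hn
    have h1 : n * x * n⁻¹ ∈ (P : Subgroup G) := (Subgroup.mem_normalizer_iff.mp hn x).mp hxP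
    have h3 : n * x * n⁻¹ ≠ 1 := by
      intro h
      apply hx1
      have h4 : x = n⁻¹ * (n * x * n⁻¹) * n := by group
      rw [h4, h]
      group
    have h4 : n * x * n⁻¹ = x := by
      obtain ⟨y, hy, hyu⟩ := (Nat.card_eq_two_iff' (1 : (P : Subgroup G))).mp hcard
      have e1 := hyu ⟨n * x * n⁻¹, h1⟩ (fun h => h3 (congrArg Subtype.val h))
      have e2 := hyu ⟨x, hxP⟩ (fun h => hx1 (congrArg Subtype.val h))
      exact congrArg Subtype.val (e1.trans e2.symm)
    have h5 : n ∈ Subgroup.centralizer ({x} : Set G) := by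
      rw [Subgroup.mem_centralizer_singleton_iff]
      calc n * x = (n * x * n⁻¹) * n := by group
        _ = x * n := by rw [h4]
    rw [hC, ← hP] at h5
    rw [Subgroup.mem_centralizer_iff]
    intro h hh
    exact congrArg Subtype.val (hcomm ⟨h, hh⟩ ⟨n, h5⟩)
  obtain ⟨φ, hφ⟩ : ∃ φ : G →* (P : Subgroup G), φ = MonoidHom.transferSylow P hN := ⟨_, rfl⟩
  have hφx : ((φ x : (P : Subgroup G)) : G) = x := by
    rw [hφ, MonoidHom.transferSylow_eq_pow P hN x hxP]
    show x ^ (P : Subgroup G).index = x
    have hodd : ¬ 2 ∣ (P : Subgroup G).index := P.not_dvd_index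
    obtain ⟨j, hj⟩ : Odd (P : Subgroup G).index :=
      Nat.not_even_iff_odd.mp (fun h => hodd (even_iff_two_dvd.mp h))
    rw [hj, pow_succ, pow_mul, ← hx, pow_orderOf_eq_one, one_pow, one_mul]
  apply even_index_of_hom hcomm φ x
  · intro h
    apply hx1
    rw [← hφx, h]
    rfl
  · apply Subtype.ext
    rw [Subgroup.coe_pow, hφx, Subgroup.coe_one]
    have h6 := pow_orderOf_eq_one x
    rwa [hx] at h6

/-- Let the finite group G contain an element x of prime order p with C_G(x) = ⟨x⟩, and let t be the number of conjugacy classes of elements of order p. If G has an irreducible character of degree p − 1, then t is even or the commutator subgroup has even index. -/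
theorem result {G : Type*} [Group G] [Finite G] (p : ℕ) (hp : p.Prime) (x : G) (hx : orderOf x = p) (hC : Subgroup.centralizer ({x} : Set G) = Subgroup.zpowers x) (t : ℕ) (ht : Nat.card {C : ConjClasses G // ∃ g ∈ C.carrier, orderOf g = p} = t) (χ : Cfsg.IrrCharacter G) (hχ : Cfsg.charDegree (χ : G → ℂ) + 1 = p) : Even t ∨ Even (commutator G).index := by
  classical
  have : Fact p.Prime := ⟨hp⟩
  by_cases hte : Even t
  · exact Or.inl hte
  · right
    have htodd : Odd t := Nat.not_even_iff_odd.mp hte
    by_cases hp2 : p = 2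
    · rw [hp2] at hx
      exact two_case x hx hC
    · exact Cfsg.Agent.Lib.Helper24.deg_pm1_main p hp2 x hx hC t ht χ hχ htodd

end Cfsg.Agent.S4508
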