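import Cfsg.Statements.S4518
import Cfsg.Agent.Lib.Helper2.CharClifford
import Cfsg.Agent.Lib.Helper2.CharRatio
import Cfsg.Agent.Lib.Helper2.CharDecomp
import Cfsg.Agent.Lib.Helper12.GaloisTwist
import Cfsg.Agent.Lib.Helper25.Defect0

set_option autoImplicit false
open Cfsg

namespace Cfsg.Agent.S4518

open Cfsg.Agent.Lib.Helper2 Cfsg.Agent.Lib.Helper25

open scoped ComplexConjugate

/-- Let N be a normal subgroup of the finite group G whose index is not divisible by the prime p, and let k be coprime to the order of G with k ^ (p ^ e) ≡ 1 modulo the order of G for some e (so g ↦ g ^ k induces a field automorphism of p-power order on character values). If an irreducible character χ of G satisfies χ (g ^ k) = χ g for all g, then every irreducible constituent θ of the restriction of χ to N satisfies θ (n ^ k) = θ n for all n. -/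
theorem result {G : Type*} [Group G] [Fintype G] (p : ℕ) [Fact p.Prime] (N : Subgroup G) [N.Normal] [Fintype N] (hidx : ¬ p ∣ N.index) (k e : ℕ) (hk : Nat.Coprime k (Nat.card G)) (hke : k ^ (p ^ e) ≡ 1 [MOD Nat.card G]) (χ : Cfsg.IrrCharacter G) (hχ : ∀ g : G, (χ : G → ℂ) (g ^ k) = (χ : G → ℂ) g) (θ : Cfsg.IrrCharacter N) (hθ : Cfsg.classInner (fun n : N => (χ : G → ℂ) n) (θ : N → ℂ) ≠ 0) : ∀ n : N, (θ : N → ℂ) (n ^ k) = (θ : N → ℂ) n := by
  classical
  have hp : p.Prime := Fact.out
  have := Fintype.ofFinite (IrrCharacter N)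
  have hkN : Nat.Coprime k (Nat.card N) :=
    Nat.Coprime.coprime_dvd_right (Subgroup.card_subgroup_dvd_card N) hk
  set R : N → ℂ := fun n : N => (χ : G → ℂ) n with hR
  have hRc : IsCharacter N R :=
    Cfsg.Agent.Lib.Helper2.IsCharacter.restrict (isCharacter_of_isIrrCharacter χ.2) N
  have hRcf : IsClassFunction N R := isClassFunction_of_isCharacter hRc
  have htw : ∀ φ : N → ℂ, classInner R (fun n => φ (n ^ k)) = classInner R φ := by
    intro φ
    rw [classInner_def, classInner_def]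
    congr 1
    apply Fintype.sum_equiv (powCoprime hkN.symm)
    intro n
    show R n * conj (φ (n ^ k)) = R (n ^ k) * conj (φ (n ^ k))
    have h1 : R (n ^ k) = R n := by
      show (χ : G → ℂ) ((n ^ k : N) : G) = (χ : G → ℂ) (n : G)
      rw [Subgroup.coe_pow]
      exact hχ n
    rw [h1]
  have hconj : ∀ φ ψ : IrrCharacter N, classInner R (φ : N → ℂ) ≠ 0 →
      classInner R (ψ : N → ℂ) ≠ 0 → ∃ g : G, (ψ : N → ℂ) = Cfsg.Agent.Lib.Helper2.conjFun N (φ : N → ℂ) g := by
    intro φ ψ hφ hψ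
    by_contra hno
    push Not at hno
    exact hψ (clifford_conj N χ.2 φ.2 hφ ψ.2 hno)
  let F : Function.End {φ : IrrCharacter N // classInner R (φ : N → ℂ) ≠ 0} := fun φ =>
    ⟨⟨fun n => (φ.1 : N → ℂ) (n ^ k),
      Cfsg.Agent.Lib.Helper12.isIrrCharacter_pow_coprime k hkN φ.1.2⟩, by
        show classInner R (fun n => (φ.1 : N → ℂ) (n ^ k)) ≠ 0
        rw [htw]
        exact φ.2⟩
  have hFpow : ∀ j : ℕ, ∀ φ : {φ : IrrCharacter N // classInner R (φ : N → ℂ) ≠ 0}, ∀ n : N,
      (((F ^ j) φ).1 : N → ℂ) n = (φ.1 : N → ℂ) (n ^ (k ^ j)) := by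
    intro j
    induction j with
    | zero =>
      intro φ n
      rw [pow_zero, pow_zero, pow_one]
      rfl
    | succ j ih =>
      intro φ n
      have h1 : (F ^ (j + 1)) φ = (F ^ j) (F φ) := by
        rw [pow_succ]
        rfl
      rw [h1, ih (F φ) n]
      show (φ.1 : N → ℂ) ((n ^ (k ^ j)) ^ k) = _
      rw [← pow_mul, ← pow_succ]
  have hFone : F ^ (p ^ e) = 1 := by
    funext φ
    apply Subtype.ext
    apply Subtype.ext
    funext n
    rw [hFpow]
    have h1 : n ^ (k ^ (p ^ e)) = n := by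
      have h2 : k ^ (p ^ e) ≡ 1 [MOD orderOf n] :=
        hke.of_dvd ((orderOf_dvd_natCard n).trans (Subgroup.card_subgroup_dvd_card N))
      have h3 := (pow_eq_pow_iff_modEq).mpr h2
      rw [h3, pow_one]
    rw [h1]
    rfl
  have hmod := Equiv.Perm.card_fixedPoints_modEq (f := F) (p := p) (n := e) hFone
  have hcardΩ : ¬ p ∣ Fintype.card {φ : IrrCharacter N // classInner R (φ : N → ℂ) ≠ 0} := by
    obtain ⟨b, hb1, hbdvd⟩ := degree_ratio N χ.2 θ.2 hθ
    obtain ⟨m, hm⟩ := classInner_isCharacter_nat hRc (isCharacter_of_isIrrCharacter θ.2)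
    have hexp := congrFun (class_fun_expand R hRcf) 1
    rw [Finset.sum_apply] at hexp
    have hterm : ∀ φ : IrrCharacter N, (classInner R (φ : N → ℂ) • (φ : N → ℂ)) 1
        = if classInner R (φ : N → ℂ) ≠ 0 then (m : ℂ) * (θ : N → ℂ) 1 else 0 := by
      intro φ
      split_ifs with h
      · obtain ⟨g, hg⟩ := hconj θ φ hθ h
        rw [Pi.smul_apply, smul_eq_mul, hg,
          classInner_restrict_conjFun N (isClassFunction_of_isIrrCharacter χ.2), Cfsg.Agent.Lib.Helper2.conjFun_apply]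
        have e1 : (⟨g * ((1 : N) : G) * g⁻¹, (inferInstance : N.Normal).conj_mem _ (1 : N).2 g⟩ : N)
            = 1 := by
          apply Subtype.ext
          simp
        rw [e1]
        have e2 : classInner (fun n : N => (χ : G → ℂ) n) (θ : N → ℂ) = (m : ℂ) := hm
        rw [e2]
      · push Not at h
        rw [Pi.smul_apply, h, zero_smul]
    rw [Finset.sum_congr rfl (fun φ _ => hterm φ), ← Finset.sum_filter, Finset.sum_const,
      nsmul_eq_mul] at hexp
    have hcard : (Finset.univ.filter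
        (fun φ : IrrCharacter N => classInner R (φ : N → ℂ) ≠ 0)).card
        = Fintype.card {φ : IrrCharacter N // classInner R (φ : N → ℂ) ≠ 0} :=
      (Fintype.card_subtype _).symm
    obtain ⟨d, hd1, hdpos, _, _⟩ := irr_degree θ
    have hθ1 : (θ : N → ℂ) 1 ≠ 0 := by
      rw [hd1]
      exact_mod_cast hdpos.ne'
    have hbeq : b = Fintype.card {φ : IrrCharacter N // classInner R (φ : N → ℂ) ≠ 0} * m := by
      have h1 : (b : ℂ) * (θ : N → ℂ) 1
          = ((Fintype.card {φ : IrrCharacter N // classInner R (φ : N → ℂ) ≠ 0} * m : ℕ) : ℂ)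
            * (θ : N → ℂ) 1 := by
        rw [← hb1]
        have h2 : (χ : G → ℂ) 1 = R 1 := rfl
        rw [h2, hexp, hcard]
        push_cast
        ring
      exact_mod_cast mul_right_cancel₀ hθ1 h1
    intro hdvd
    exact hidx (Dvd.dvd.trans (hdvd.trans (Dvd.intro _ hbeq.symm)) hbdvd)
  have hfix : ∃ φ : {φ : IrrCharacter N // classInner R (φ : N → ℂ) ≠ 0}, F φ = φ := by
    by_contra hno
    push Not at hno
    have hemp : IsEmpty (Function.fixedPoints F) := ⟨fun x => hno x.1 x.2⟩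
    have h0 : Fintype.card (Function.fixedPoints F) = 0 := Fintype.card_eq_zero
    rw [h0] at hmod
    exact hcardΩ ((Nat.modEq_zero_iff_dvd).mp hmod)
  obtain ⟨φ₀, hφ₀⟩ := hfix
  have hφ₀' : ∀ n : N, (φ₀.1 : N → ℂ) (n ^ k) = (φ₀.1 : N → ℂ) n := by
    intro n
    have h1 := congrArg (fun ψ : {φ : IrrCharacter N // classInner R (φ : N → ℂ) ≠ 0} =>
      (ψ.1 : N → ℂ) n) hφ₀
    exact h1
  obtain ⟨g, hg⟩ := hconj φ₀.1 θ φ₀.2 hθ
  intro n
  rw [hg, Cfsg.Agent.Lib.Helper2.conjFun_apply, Cfsg.Agent.Lib.Helper2.conjFun_apply]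
  have e3 : (⟨g * ((n ^ k : N) : G) * g⁻¹,
      (inferInstance : N.Normal).conj_mem _ (n ^ k).2 g⟩ : N)
      = (⟨g * (n : G) * g⁻¹, (inferInstance : N.Normal).conj_mem _ n.2 g⟩ : N) ^ k := by
    apply Subtype.ext
    simp [conj_pow]
  rw [e3, hφ₀']

end Cfsg.Agent.S4518
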