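import Cfsg.Statements.S4520
import Cfsg.Agent.Lib.Helper26.RealTwo

set_option autoImplicit false
open Cfsg

namespace Cfsg.Agent.S4520

open Cfsg Cfsg.Agent.Lib.Helper2 Cfsg.Agent.Lib.Helper25 Cfsg.Agent.Lib.Helper8 Cfsg.Agent.Lib.Helper26

open scoped ComplexConjugate

/-- Let N be a normal subgroup of odd index in the finite group G, M a maximal ideal of the algebraic integers containing 2, and k coprime to the order of G with k ^ (2 ^ e) ≡ 1 modulo the order of G for some e and g ^ k = g⁻¹ for every element g of odd order. Let θ be an irreducible character of N and χ an irreducible character of G over θ, both unchanged by composing with g ↦ g ^ k. Then χ lies in the principal 2-block of G if and only if θ lies in the principal 2-block of N. -/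
theorem result {G : Type*} [Group G] [Fintype G] (M : Ideal Cfsg.AlgInt) (hM : Cfsg.IsPModular 2 M) (N : Subgroup G) [N.Normal] [Fintype N] (hidx : Odd N.index) (k e : ℕ) (hk : Nat.Coprime k (Nat.card G)) (hke : k ^ (2 ^ e) ≡ 1 [MOD Nat.card G]) (hk₂ : ∀ g : G, Odd (orderOf g) → g ^ k = g⁻¹) (θ : Cfsg.IrrCharacter N) (hθ : ∀ n : N, (θ : N → ℂ) (n ^ k) = (θ : N → ℂ) n) (χ : Cfsg.IrrCharacter G) (hχ : ∀ g : G, (χ : G → ℂ) (g ^ k) = (χ : G → ℂ) g) (hover : Cfsg.classInner (fun n : N => (χ : G → ℂ) n) (θ : N → ℂ) ≠ 0) : χ ∈ Cfsg.principalBlock M G ↔ θ ∈ Cfsg.principalBlock M N := by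
  classical
  have hpr := isPrime_of_isPModular hM
  have hp2 : Fact (Nat.Prime 2) := ⟨Nat.prime_two⟩
  have hoddG : ∀ g : G, ¬ 2 ∣ orderOf g → Odd (orderOf g) := by
    intro g hg
    rw [← Nat.not_even_iff_odd]
    intro he
    exact hg (even_iff_two_dvd.mp he)
  have hχreal : ∀ g : G, ¬ 2 ∣ orderOf g → (χ : G → ℂ) g⁻¹ = (χ : G → ℂ) g := by
    intro g hg
    rw [← hk₂ g (hoddG g hg), hχ]
  have hθreal : ∀ n : N, ¬ 2 ∣ orderOf n → (θ : N → ℂ) n⁻¹ = (θ : N → ℂ) n := by
    intro n hn
    have h1 : n ^ k = n⁻¹ := by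
      apply Subtype.ext
      rw [Subgroup.coe_pow, Subgroup.coe_inv]
      apply hk₂
      apply hoddG
      rw [Subgroup.orderOf_coe]
      exact hn
    rw [← h1, hθ]
  have hA := omegaFun_regInd_sub_realInd_mem M hM χ hχreal
  have hB := omegaFun_regInd_sub_realInd_mem M hM θ hθreal
  have hC := omegaFun_realInd_eq N hidx χ θ hover
  rw [hC] at hA
  have hD : MemLocalIdeal M (omegaFun (χ : G → ℂ) (regInd 2 G)
      - omegaFun (θ : N → ℂ) (regInd 2 N)) := by
    have := MemLocalIdeal.sub M hA hB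
    rwa [sub_sub_sub_cancel_right] at this
  constructor
  · intro h
    by_contra hθ0
    have h1 := omegaFun_regInd_not_mem hM χ h
    have h2 := omegaFun_regInd_eq_zero hM θ hθ0
    rw [h2, sub_zero] at hD
    exact h1 hD
  · intro h
    by_contra hχ0
    have h1 := omegaFun_regInd_not_mem hM θ h
    have h2 := omegaFun_regInd_eq_zero hM χ hχ0
    rw [h2, zero_sub] at hD
    have h3 := MemLocalIdeal.neg M hD
    rw [neg_neg] at h3
    exact h1 h3

end Cfsg.Agent.S4520
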