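import Mathlib
import Cfsg.Statements.S4521
import Cfsg.Agent.Lib.Helper8.CentralProdPrincipal

set_option autoImplicit false
open Cfsg

namespace Cfsg.Agent.S4521

open Cfsg.Agent.Lib.Helper8 Cfsg.Agent.Lib.Helper2 Cfsg.Agent.Lib.Helper25

/-- Let the finite group G be generated by subgroups U₁ and U₂ that commute elementwise and whose intersection is a p-group, and let M be a maximal ideal of the algebraic integers containing the prime p. If the irreducible character χ of G has the irreducible constituents ψ₁ on U₁ and ψ₂ on U₂, then χ lies in the principal block of G if and only if ψ₁ and ψ₂ lie in the principal blocks of U₁ and U₂. -/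
theorem result {G : Type*} [Group G] [Fintype G] (p : ℕ) [Fact p.Prime] (M : Ideal Cfsg.AlgInt) (hM : Cfsg.IsPModular p M) (U₁ U₂ : Subgroup G) [Fintype U₁] [Fintype U₂] (hcomm : ∀ u ∈ U₁, ∀ v ∈ U₂, u * v = v * u) (hgen : U₁ ⊔ U₂ = ⊤) (hZ : IsPGroup p ↥(U₁ ⊓ U₂)) (χ : Cfsg.IrrCharacter G) (ψ₁ : Cfsg.IrrCharacter U₁) (ψ₂ : Cfsg.IrrCharacter U₂) (h₁ : Cfsg.classInner (fun u : U₁ => (χ : G → ℂ) u) (ψ₁ : U₁ → ℂ) ≠ 0) (h₂ : Cfsg.classInner (fun u : U₂ => (χ : G → ℂ) u) (ψ₂ : U₂ → ℂ) ≠ 0) : χ ∈ Cfsg.principalBlock M G ↔ (ψ₁ ∈ Cfsg.principalBlock M U₁ ∧ ψ₂ ∈ Cfsg.principalBlock M U₂) := by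
  classical
  have hpr := isPrime_of_isPModular hM
  have hcomm' : ∀ u ∈ U₂, ∀ v ∈ U₁, u * v = v * u := fun u hu v hv => (hcomm v hv u hu).symm
  have hgen' : U₂ ⊔ U₁ = ⊤ := by rw [sup_comm]; exact hgen
  have hZ' : IsPGroup p ↥(U₂ ⊓ U₁) := by rw [inf_comm]; exact hZ
  constructor
  · intro hχ
    have hχ' : ∀ g : G, MemLocalIdeal M
        (centralChar (fun _ : G => (1 : ℂ)) g - centralChar (χ : G → ℂ) g) := hχ
    constructor
    · intro u
      have h := hχ' (u : G)
      rw [cpp_centralChar_one U₁ U₂ hcomm hgen u, cpp_centralChar U₁ U₂ hcomm hgen χ ψ₁ h₁ u] at h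
      exact h
    · intro u
      have h := hχ' (u : G)
      rw [cpp_centralChar_one U₂ U₁ hcomm' hgen' u,
        cpp_centralChar U₂ U₁ hcomm' hgen' χ ψ₂ h₂ u] at h
      exact h
  · rintro ⟨hp1, hp2⟩
    have hp1' : ∀ u : U₁, MemLocalIdeal M
        (centralChar (fun _ : U₁ => (1 : ℂ)) u - centralChar (ψ₁ : U₁ → ℂ) u) := hp1
    have hp2' : ∀ u : U₂, MemLocalIdeal M
        (centralChar (fun _ : U₂ => (1 : ℂ)) u - centralChar (ψ₂ : U₂ → ℂ) u) := hp2
    have key : SameBlock M ((⟨fun _ => 1, isIrrCharacter_one⟩ : IrrCharacter G) : G → ℂ)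
        (χ : G → ℂ) := by
      apply sameBlock_of_regular hM
      intro g hg
      obtain ⟨a, ha, b, hb, rfl, hra, hrb⟩ := cpp_regular_decomp U₁ U₂ hcomm hgen g hg
      rw [cpp_centralChar_mul U₁ U₂ hcomm hgen hZ _ a b ha hb hra,
        cpp_centralChar_mul U₁ U₂ hcomm hgen hZ χ a b ha hb hra]
      have e1 : MemLocalIdeal M
          (centralChar (fun _ : G => (1 : ℂ)) a - centralChar (χ : G → ℂ) a) := by
        have h := hp1' ⟨a, ha⟩
        rw [← cpp_centralChar_one U₁ U₂ hcomm hgen ⟨a, ha⟩,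
          ← cpp_centralChar U₁ U₂ hcomm hgen χ ψ₁ h₁ ⟨a, ha⟩] at h
        exact h
      have e2 : MemLocalIdeal M
          (centralChar (fun _ : G => (1 : ℂ)) b - centralChar (χ : G → ℂ) b) := by
        have h := hp2' ⟨b, hb⟩
        rw [← cpp_centralChar_one U₂ U₁ hcomm' hgen' ⟨b, hb⟩,
          ← cpp_centralChar U₂ U₁ hcomm' hgen' χ ψ₂ h₂ ⟨b, hb⟩] at h
        exact h
      have r1 : MemLocalRing M (centralChar (fun _ : G => (1 : ℂ)) a) := by
        unfold centralChar
        rw [mul_one, div_one]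
        exact memLocalRing_natCast M _
      have r2 : MemLocalRing M (centralChar (χ : G → ℂ) b) :=
        memLocalRing_of_isIntegral M (centralChar_isIntegral χ b)
      have e3 := MemLocalIdeal.add M (MemLocalIdeal.mul_left M r1 e2)
        (MemLocalIdeal.mul_right M e1 r2)
      have e4 : centralChar (fun _ : G => (1 : ℂ)) a *
            (centralChar (fun _ : G => (1 : ℂ)) b - centralChar (χ : G → ℂ) b) +
          (centralChar (fun _ : G => (1 : ℂ)) a - centralChar (χ : G → ℂ) a) *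
            centralChar (χ : G → ℂ) b
          = centralChar (fun _ : G => (1 : ℂ)) a * centralChar (fun _ : G => (1 : ℂ)) b
            - centralChar (χ : G → ℂ) a * centralChar (χ : G → ℂ) b := by ring
      rw [e4] at e3
      exact e3
    exact key

end Cfsg.Agent.S4521
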