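import Cfsg.Statements.S4550
import Cfsg.Agent.Lib.Helper12.GaloisTwist
import Cfsg.Agent.Lib.Helper25.SecondSum2
import Cfsg.Agent.Lib.Helper25.WeakOrth
import Cfsg.Agent.Lib.Helper8.DefectNum
import Cfsg.Agent.Lib.Helper26.GaloisAvg

set_option autoImplicit false
open Cfsg

namespace Cfsg.Agent.S4550


open Cfsg.Agent.Lib.Helper2 Cfsg.Agent.Lib.Helper25 Cfsg.Agent.Lib.Helper8 Cfsg.Agent.Lib.Helper12 Cfsg.Agent.Lib.Helper26

open scoped ComplexConjugate

theorem coprime_of_pow {G : Type*} [Group G] [Finite G] (k : ℕ)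
    (hk₁ : ∀ g : G, (∃ j : ℕ, orderOf g = 2 ^ j) → g ^ k = g ^ 3)
    (hk₂ : ∀ g : G, Odd (orderOf g) → g ^ k = g) : k.Coprime (Nat.card G) := by
  by_contra h
  obtain ⟨q, hq, hqk, hqG⟩ := Nat.Prime.not_coprime_iff_dvd.mp h
  haveI := Fact.mk hq
  obtain ⟨g, hg⟩ := exists_prime_orderOf_dvd_card' q hqG
  have h1 : g ^ k = 1 := by
    obtain ⟨c, rfl⟩ := hqk
    rw [pow_mul, ← hg, pow_orderOf_eq_one, one_pow]
  have hg1 : g ≠ 1 := by
    intro h0
    rw [h0, orderOf_one] at hg
    exact hq.one_lt.ne hg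
  rcases hq.eq_two_or_odd' with h2 | hodd
  · have h3 := hk₁ g ⟨1, by rw [hg, h2, pow_one]⟩
    rw [h1] at h3
    have h4 : g ^ 2 = 1 := by
      rw [← h2, ← hg]
      exact pow_orderOf_eq_one g
    apply hg1
    have h5 : g ^ 3 = g := by rw [pow_succ, h4, one_mul]
    rw [← h5, ← h3]
  · have h3 := hk₂ g (by rw [hg]; exact hodd)
    apply hg1
    rw [← h3, h1]

theorem pow_iter {G : Type*} [Group G] [Finite G] (k : ℕ)
    (hk₁ : ∀ g : G, (∃ j : ℕ, orderOf g = 2 ^ j) → g ^ k = g ^ 3)
    (hk₂ : ∀ g : G, Odd (orderOf g) → g ^ k = g) (g : G) :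
    g ^ (k ^ (2 ^ Nat.card G)) = g := by
  haveI : Fact (Nat.Prime 2) := ⟨Nat.prime_two⟩
  obtain ⟨e, e', h1, h2, h3, -⟩ := exists_ppart_exp (G := G) (p := 2)
  have hab : g ^ e * g ^ e' = g := h3 g
  have hcomm : Commute (g ^ e) (g ^ e') := (Commute.refl g).pow_pow e e'
  have hbodd : Odd (orderOf (g ^ e')) := Nat.odd_iff.mpr (Nat.two_dvd_ne_zero.mp (h2 g))
  obtain ⟨i, hi⟩ := h1 g
  have key : ∀ j : ℕ, g ^ (k ^ j) = (g ^ e) ^ (3 ^ j) * g ^ e' := by
    intro j
    induction j with
    | zero => rw [pow_zero, pow_zero, pow_one, pow_one, hab]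
    | succ j ih =>
      rw [pow_succ, pow_mul, ih]
      have hc : Commute ((g ^ e) ^ 3 ^ j) (g ^ e') := hcomm.pow_left _
      rw [hc.mul_pow, hk₂ _ hbodd]
      have h2elt : ∃ i' : ℕ, orderOf ((g ^ e) ^ 3 ^ j) = 2 ^ i' := by
        have hd : orderOf ((g ^ e) ^ 3 ^ j) ∣ 2 ^ i := by
          rw [← hi]
          exact orderOf_pow_dvd _
        obtain ⟨i', -, hi'⟩ := (Nat.dvd_prime_pow Nat.prime_two).mp hd
        exact ⟨i', hi'⟩
      rw [hk₁ _ h2elt, ← pow_mul, ← pow_succ]
  rw [key]
  have hile : i ≤ Nat.card G := by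
    have h4 : 2 ^ i ≤ Nat.card G := by
      rw [← hi]
      exact Nat.le_of_dvd Nat.card_pos (orderOf_dvd_natCard _)
    exact (Nat.lt_two_pow_self).le.trans h4
  have hdvd : ((2 : ℕ) : ℤ) ^ (Nat.card G + 1) ∣ (3 : ℤ) ^ 2 ^ Nat.card G - 1 ^ 2 ^ Nat.card G :=
    dvd_sub_pow_of_dvd_sub (by norm_num) _
  have h5 : (g ^ e) ^ (3 ^ (2 ^ Nat.card G)) = (g ^ e) ^ 1 := by
    rw [pow_eq_pow_iff_modEq, hi]
    apply Nat.ModEq.symm
    rw [Nat.modEq_iff_dvd]
    push_cast
    rw [one_pow] at hdvd
    refine dvd_trans ?_ hdvd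
    exact pow_dvd_pow _ (by omega)
  rw [h5, pow_one, hab]

/-- Let G be a finite group of even order and M a maximal ideal of the algebraic integers containing 2. Let k be a natural number with g ^ k = g ^ 3 for every 2-element g and g ^ k = g for every element g of odd order (such k exist); an irreducible character χ is unchanged by g ↦ g ^ k exactly when it is fixed by the field automorphism that cubes the 2-power roots of unity and fixes the roots of unity of odd order. Then the number of members χ of the principal 2-block of odd degree with χ (g ^ k) = χ g for all g is even. -/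
theorem result {G : Type*} [Group G] [Finite G] (M : Ideal Cfsg.AlgInt) (hM : Cfsg.IsPModular 2 M) (hev : Even (Nat.card G)) (k : ℕ) (hk₁ : ∀ g : G, (∃ j : ℕ, orderOf g = 2 ^ j) → g ^ k = g ^ 3) (hk₂ : ∀ g : G, Odd (orderOf g) → g ^ k = g) : Even (Nat.card {χ : Cfsg.IrrCharacter G // χ ∈ Cfsg.principalBlock M G ∧ Odd (Cfsg.charDegree (χ : G → ℂ)) ∧ ∀ g : G, (χ : G → ℂ) (g ^ k) = (χ : G → ℂ) g}) := by
  classical
  haveI : Fact (Nat.Prime 2) := ⟨Nat.prime_two⟩
  have hpr := isPrime_of_isPModular hM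
  have : Fintype G := Fintype.ofFinite G
  have : Fintype (IrrCharacter G) := Fintype.ofFinite _
  have hkc := coprime_of_pow k hk₁ hk₂
  -- the twist
  let tw : IrrCharacter G → IrrCharacter G := fun χ =>
    ⟨fun g => (χ : G → ℂ) (g ^ k), isIrrCharacter_pow_coprime k hkc χ.2⟩
  have htw_deg : ∀ χ, charDegree (tw χ : G → ℂ) = charDegree (χ : G → ℂ) := by
    intro χ
    unfold charDegree
    show ⌊((χ : G → ℂ) (1 ^ k)).re⌋₊ = _
    rw [one_pow]
  have htw_pr : ∀ χ, χ ∈ principalBlock M G → tw χ ∈ principalBlock M G := by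
    intro χ hχ g
    have h1 := hχ (g ^ k)
    have hcg : Subgroup.centralizer ({g ^ k} : Set G) = Subgroup.centralizer ({g} : Set G) :=
      centralizer_pow_of_coprime g k (Nat.Coprime.coprime_dvd_right (orderOf_dvd_natCard g) hkc)
    unfold centralChar at h1 ⊢
    rw [hcg] at h1
    show MemLocalIdeal M (_ - _ * (χ : G → ℂ) (g ^ k) / (χ : G → ℂ) (1 ^ k))
    rw [one_pow]
    exact h1
  -- the action on the odd-degree members of the principal block
  let f : Function.End {χ : IrrCharacter G // χ ∈ principalBlock M G ∧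
      Odd (charDegree (χ : G → ℂ))} :=
    fun a => ⟨tw a.1, htw_pr a.1 a.2.1, by rw [htw_deg]; exact a.2.2⟩
  have hiter : ∀ (j : ℕ) (a : {χ : IrrCharacter G // χ ∈ principalBlock M G ∧
      Odd (charDegree (χ : G → ℂ))}) (g : G),
      (((f ^ j) a).1 : G → ℂ) g = (a.1 : G → ℂ) (g ^ (k ^ j)) := by
    intro j
    induction j with
    | zero =>
      intro a g
      rw [pow_zero, pow_zero, pow_one]
      rfl
    | succ j ih =>
      intro a g
      rw [pow_succ]
      show (((f ^ j) (f a)).1 : G → ℂ) g = _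
      rw [ih]
      show (a.1 : G → ℂ) ((g ^ k ^ j) ^ k) = _
      rw [← pow_mul, ← pow_succ]
  have hf : f ^ 2 ^ (Nat.card G) = 1 := by
    funext a
    apply Subtype.ext
    apply Subtype.ext
    funext g
    rw [hiter, pow_iter k hk₁ hk₂ g]
    rfl
  have hmod := Equiv.Perm.card_fixedPoints_modEq (p := 2) (n := Nat.card G) hf
  -- the number of odd-degree members of the principal block is even
  obtain ⟨t, ht⟩ := exists_prime_orderOf_dvd_card' (G := G) 2 hev.two_dvd
  have horth := block_orth hM (principalBlock M G) (blockClosed_principal M) (1 : G) t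
    (by rw [orderOf_one]; norm_num) (by rw [ht])
  have hd : ∀ χ : IrrCharacter G, (χ : G → ℂ) 1 = (charDegree (χ : G → ℂ) : ℂ) := by
    intro χ
    obtain ⟨d, hd1, hd2, -⟩ := Cfsg.Agent.S0914.irr_degree_data χ
    rw [hd1, hd2]
  have hsum : MemLocalIdeal M (((∑ χ : IrrCharacter G, if χ ∈ principalBlock M G then
      charDegree (χ : G → ℂ) ^ 2 else 0 : ℕ) : ℂ)) := by
    have e1 : ((∑ χ : IrrCharacter G, if χ ∈ principalBlock M G then
        charDegree (χ : G → ℂ) ^ 2 else 0 : ℕ) : ℂ)
        = ∑ χ : IrrCharacter G, (if χ ∈ principalBlock M G then (1 : ℂ) else 0)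
          * ((χ : G → ℂ) 1 * ((χ : G → ℂ) 1 - conj ((χ : G → ℂ) t))) := by
      have e2 : ∑ χ : IrrCharacter G, (if χ ∈ principalBlock M G then (1 : ℂ) else 0)
          * ((χ : G → ℂ) 1 * ((χ : G → ℂ) 1 - conj ((χ : G → ℂ) t)))
          = ∑ χ : IrrCharacter G, (if χ ∈ principalBlock M G then (1 : ℂ) else 0)
            * ((χ : G → ℂ) 1 * (χ : G → ℂ) 1)
            - ∑ χ : IrrCharacter G, (if χ ∈ principalBlock M G then (1 : ℂ) else 0)
            * ((χ : G → ℂ) 1 * conj ((χ : G → ℂ) t)) := by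
        rw [← Finset.sum_sub_distrib]
        apply Finset.sum_congr rfl
        intro χ _
        ring
      rw [e2, horth, sub_zero]
      push_cast
      apply Finset.sum_congr rfl
      intro χ _
      rw [hd χ]
      split_ifs <;> simp [pow_two]
    rw [e1]
    apply memLocalIdeal_sum
    intro χ _
    apply MemLocalIdeal.mul_left M
    · split_ifs
      · exact memLocalRing_one M
      · exact memLocalRing_zero M
    · apply MemLocalIdeal.mul_left M
      · rw [hd χ]
        exact memLocalRing_natCast M _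
      · have h2 := char_mul_sub_mem hM χ t 1 1 (by rw [pow_one, ← ht]; exact pow_orderOf_eq_one t)
          (by rw [mul_one, one_mul])
        rw [mul_one] at h2
        have h3 : t⁻¹ = t := by
          rw [inv_eq_iff_mul_eq_one, ← pow_two, ← ht]
          exact pow_orderOf_eq_one t
        rw [irr_conj_eq_inv χ t, h3]
        have h4 := MemLocalIdeal.neg M h2
        rwa [neg_sub] at h4
  have h2dvd := (memLocalIdeal_natCast_iff hM _).mp hsum
  have hAeven : Even (Fintype.card {χ : IrrCharacter G // χ ∈ principalBlock M G ∧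
      Odd (charDegree (χ : G → ℂ))}) := by
    rw [Fintype.card_subtype, Finset.card_filter]
    rw [Nat.even_iff]
    have h5 : (∑ χ : IrrCharacter G, if χ ∈ principalBlock M G ∧ Odd (charDegree (χ : G → ℂ))
        then 1 else 0) % 2 = (∑ χ : IrrCharacter G, if χ ∈ principalBlock M G then
        charDegree (χ : G → ℂ) ^ 2 else 0) % 2 := by
      rw [Finset.sum_nat_mod, Finset.sum_nat_mod (f := fun χ : IrrCharacter G =>
        if χ ∈ principalBlock M G then charDegree (χ : G → ℂ) ^ 2 else 0)]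
      congr 1
      apply Finset.sum_congr rfl
      intro χ _
      by_cases hχ : χ ∈ principalBlock M G
      · rcases Nat.even_or_odd (charDegree (χ : G → ℂ)) with he | ho
        · have hno : ¬ Odd (charDegree (χ : G → ℂ)) := Nat.not_odd_iff_even.mpr he
          rw [if_neg (fun h => hno h.2), if_pos hχ]
          have : Even (charDegree (χ : G → ℂ) ^ 2) := Nat.even_pow.mpr ⟨he, by norm_num⟩
          rw [Nat.even_iff.mp this]
        · rw [if_pos ⟨hχ, ho⟩, if_pos hχ]
          have : Odd (charDegree (χ : G → ℂ) ^ 2) := ho.pow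
          rw [Nat.odd_iff.mp this]
      · rw [if_neg (fun h => hχ h.1), if_neg hχ]
    rw [h5]
    exact Nat.eq_zero_of_dvd_of_lt ((Nat.dvd_mod_iff (dvd_refl 2)).mpr h2dvd) (Nat.mod_lt _ (by norm_num))
  -- fixed points
  have hfixeven : Even (Fintype.card (Function.fixedPoints f)) := by
    rw [Nat.even_iff] at hAeven ⊢
    rw [← hmod, hAeven]
  have hequiv : {χ : IrrCharacter G // χ ∈ principalBlock M G ∧
      Odd (charDegree (χ : G → ℂ)) ∧ ∀ g : G, (χ : G → ℂ) (g ^ k) = (χ : G → ℂ) g}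
      ≃ Function.fixedPoints f :=
    { toFun := fun x => ⟨⟨x.1, x.2.1, x.2.2.1⟩, by
        show f _ = _
        apply Subtype.ext
        apply Subtype.ext
        funext g
        exact x.2.2.2 g⟩
      invFun := fun y => ⟨y.1.1, y.1.2.1, y.1.2.2, fun g => by
        have h6 : f y.1 = y.1 := y.2
        exact congrFun (congrArg Subtype.val (congrArg Subtype.val h6)) g⟩
      left_inv := fun x => rfl
      right_inv := fun y => rfl }
  rw [Nat.card_congr hequiv, Nat.card_eq_fintype_card]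
  exact hfixeven

end Cfsg.Agent.S4550
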