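import Mathlib
import Cfsg.Statements.S4567
import Cfsg.Agent.Lib.Helper2.SpecialClasses

set_option autoImplicit false
open Cfsg

namespace Cfsg.Agent.S4567

open Cfsg.Agent.Lib.Helper2

/-- For N ≤ Z(G) and faithful ψ ∈ Irr(N): the number of irreducible characters of G lying over ψ equals the number of classes of G/N of 'special' cosets gN (every x with [x, g] ∈ N commutes with g). -/
theorem result {G : Type*} [Group G] [Fintype G] (N : Subgroup G) [N.Normal] [Fintype N] (hN : N ≤ Subgroup.center G) (ψ : Cfsg.IrrCharacter ↥N) (hfaith : ∀ n : ↥N, (ψ : ↥N → ℂ) n = (ψ : ↥N → ℂ) 1 → n = 1) : Nat.card {χ : Cfsg.IrrCharacter G // Cfsg.classInner (fun n : ↥N => (χ : G → ℂ) n) (ψ : ↥N → ℂ) ≠ 0} = Nat.card {C : ConjClasses (G ⧸ N) // ∃ g : G, ConjClasses.mk (g : G ⧸ N) = C ∧ ∀ x : G, x⁻¹ * g⁻¹ * x * g ∈ N → x * g = g * x} := by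
  rw [card_over_central N hN ψ.2 hfaith]
  apply Nat.card_congr
  apply Equiv.subtypeEquivRight
  intro C
  have hout : (QuotientGroup.mk (Quotient.out (Quotient.out C)) : G ⧸ N) = Quotient.out C :=
    QuotientGroup.out_eq' _
  constructor
  · intro h
    refine ⟨Quotient.out (Quotient.out C), ?_, h⟩
    rw [hout]
    exact Quotient.out_eq C
  · rintro ⟨g, hg, hsp⟩
    have hsp' : IsSp N g := hsp
    apply hsp'.of_isConj_mk hN
    rw [hout, ← ConjClasses.mk_eq_mk_iff_isConj, hg]
    exact (Quotient.out_eq C).symm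

end Cfsg.Agent.S4567
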