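import Cfsg.Statements.S4591
-- import your own Cfsg.Agent.* helpers here
import Mathlib
import Cfsg.Agent.Lib.Helper25.KerPd3
import Cfsg.Agent.Lib.Helper25.KerPd4
import Cfsg.Agent.Lib.Helper26.TwoClass
import Cfsg.Agent.Lib.Helper2.PResSquares

set_option autoImplicit false
open Cfsg

namespace Cfsg.Agent.S4591

open Cfsg.Agent.Lib.Helper25 in
/-- Let G be a finite group, p a prime and P a Sylow p-subgroup, and let N be the largest normal subgroup of G in which P has trivial centralizer (N is normal with C_N(P) = 1 and contains every normal subgroup with that property). Then the intersection of the kernels of the irreducible characters of G of degree prime to p is the normal core in G of the subgroup N·P' (P' the derived subgroup of P). In particular, when G has no nontrivial normal subgroup of order prime to p, that intersection is the normal core of P'. -/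
theorem result {G : Type*} [Group G] [Finite G] (p : ℕ) [Fact p.Prime] (P : Sylow p G) (N : Subgroup G) [N.Normal]
    (hN : N ⊓ Subgroup.centralizer ((P : Subgroup G) : Set G) = ⊥)
    (hmax : ∀ L : Subgroup G, L.Normal → L ⊓ Subgroup.centralizer ((P : Subgroup G) : Set G) = ⊥ → L ≤ N) :
    {g : G | ∀ χ : Cfsg.IrrCharacter G, ¬ p ∣ Cfsg.charDegree (χ : G → ℂ) → (χ : G → ℂ) g = (χ : G → ℂ) 1} =
      ((N ⊔ ⁅(P : Subgroup G), (P : Subgroup G)⁆).normalCore : Set G) := by
  classical
  have : Fintype G := Fintype.ofFinite G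
  ext g
  simp only [Set.mem_ofPred_eq, SetLike.mem_coe]
  constructor
  · intro hg
    let L : Subgroup G :=
      { carrier := {g | ∀ χ : Cfsg.IrrCharacter G, ¬ p ∣ Cfsg.charDegree (χ : G → ℂ) →
          (χ : G → ℂ) g = (χ : G → ℂ) 1}
        one_mem' := fun _ _ => rfl
        mul_mem' := by
          intro a b ha hb χ hχ
          show (χ : G → ℂ) (a * b) = (χ : G → ℂ) 1
          rw [Cfsg.Agent.Lib.Helper26.char_mul_of_eq_one
            (Cfsg.Agent.Lib.Helper2.isCharacter_of_isIrrCharacter χ.2) (hb χ hχ)]
          exact ha χ hχ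
        inv_mem' := by
          intro a ha χ hχ
          exact Cfsg.Agent.Lib.Helper26.char_inv_of_eq_one
            (Cfsg.Agent.Lib.Helper2.isCharacter_of_isIrrCharacter χ.2) (ha χ hχ) }
    have hLn : L.Normal := by
      constructor
      intro n hn x χ hχ
      show (χ : G → ℂ) (x * n * x⁻¹) = (χ : G → ℂ) 1
      rw [Cfsg.Agent.Lib.Helper2.isClassFunction_of_isIrrCharacter χ.2 n x]
      exact hn χ hχ
    have hLle : L ≤ N ⊔ ⁅(P : Subgroup G), (P : Subgroup G)⁆ := by
      apply kerpd_le p P N hmax L
      intro y hy χ hχ d hd hpd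
      apply hy ⟨χ, hχ⟩
      rw [Cfsg.Agent.Lib.Helper2.charDegree_eq_of_apply_one χ d hd]
      exact hpd
    exact (Subgroup.normal_le_normalCore.mpr hLle) hg
  · intro hg χ hpd
    obtain ⟨d, -, hd⟩ := Cfsg.Agent.Lib.Helper2.irr_apply_one χ.2
    rw [Cfsg.Agent.Lib.Helper2.charDegree_eq_of_apply_one (χ : G → ℂ) d hd] at hpd
    exact kerpd_ge p P N hN χ χ.2 d hd hpd g hg

end Cfsg.Agent.S4591
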