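import Cfsg.Statements.S4611
import Mathlib
import Cfsg.Agent.Lib.Helper8.PrincipalQuot2
import Cfsg.Agent.S0942
import Cfsg.Agent.S0915
import Cfsg.Agent.S4227
import Cfsg.Agent.Lib.Helper1.Cores
import Cfsg.Agent.Lib.Helper6.PSolv3
import Cfsg.Agent.Lib.Helper2.PResSquares
import Cfsg.Agent.Lib.Helper26.TwoClass

set_option autoImplicit false
open Cfsg

namespace Cfsg.Agent.S4611

open Cfsg.Agent.Lib.Helper2 Cfsg.Agent.Lib.Helper25 Cfsg.Agent.Lib.Helper8 Cfsg.Agent.Lib.Helper1
  Cfsg.Agent.Lib.Helper6 Cfsg.Agent.Lib.Helper26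

/-- the kernel of an irreducible character, as a subgroup -/
def kerS {G : Type*} [Group G] [Finite G] (χ : IrrCharacter G) : Subgroup G where
  carrier := {g | (χ : G → ℂ) g = (χ : G → ℂ) 1}
  one_mem' := rfl
  mul_mem' := by
    intro a b ha hb
    show (χ : G → ℂ) (a * b) = (χ : G → ℂ) 1
    rw [char_mul_of_eq_one (isCharacter_of_isIrrCharacter χ.2) hb]
    exact ha
  inv_mem' := by
    intro a ha
    exact char_inv_of_eq_one (isCharacter_of_isIrrCharacter χ.2) ha

theorem mem_kerS {G : Type*} [Group G] [Finite G] (χ : IrrCharacter G) (g : G) :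
    g ∈ kerS χ ↔ (χ : G → ℂ) g = (χ : G → ℂ) 1 := Iff.rfl

/-- in a `p`-solvable group the principal block consists of the characters with the `p'`-core in
their kernel -/
theorem mem_principal_iff {G : Type*} [Group G] [Finite G] (p : ℕ) [Fact p.Prime]
    (M : Ideal AlgInt) (hM : IsPModular p M) (hsolv : IsPSolvable p G) (χ : IrrCharacter G) :
    χ ∈ principalBlock M G ↔ pPrimeCore p G ≤ kerS χ := by
  classical
  have hp : p.Prime := Fact.out
  have hpr := isPrime_of_isPModular hM
  have hN : ¬ p ∣ Nat.card (pPrimeCore p G) := by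
    have h1 := Cfsg.Agent.Lib.Helper1.pPrimeCore_coprime (G := G) p
    intro hdvd
    have h2 := Nat.Coprime.eq_one_of_dvd h1.symm hdvd
    exact hp.one_lt.ne' h2
  have hker : ∀ χ ∈ principalBlock M G, ∀ n ∈ pPrimeCore p G,
      (χ : G → ℂ) n = (χ : G → ℂ) 1 :=
    fun χ hχ => Cfsg.Agent.S0942.principal_kernel p M hM χ hχ
  constructor
  · intro hχ n hn
    exact hker χ hχ n hn
  · intro hle
    have hbij := principal_bijOn hM (pPrimeCore p G) hN hker
    have hsolv' : IsPSolvable p (G ⧸ pPrimeCore p G) := isPSolvable_quotient hp _ hsolv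
    have hcore' : pPrimeCore p (G ⧸ pPrimeCore p G) = ⊥ := pPrimeCore_quotient_pPrimeCore_eq_bot
    have hall : ∀ ψ : IrrCharacter (G ⧸ pPrimeCore p G),
        ψ ∈ principalBlock M (G ⧸ pPrimeCore p G) := fun ψ =>
      Cfsg.Agent.S0915.result p M hM hsolv' hcore' ⟨fun _ => 1, isIrrCharacter_one⟩ ψ
    have hχ' : ∀ n ∈ pPrimeCore p G, (χ : G → ℂ) n = (χ : G → ℂ) 1 := fun n hn => hle hn
    have h1 := hbij.1 (hall ((irrQuotEquiv (pPrimeCore p G)).symm ⟨χ, hχ'⟩))
    have e : (irrQuotEquiv (pPrimeCore p G)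
        ((irrQuotEquiv (pPrimeCore p G)).symm ⟨χ, hχ'⟩)).1 = χ := by
      rw [Equiv.apply_symm_apply]
    rw [← e]
    exact h1

/-- an irreducible character that is constant is the principal character -/
theorem eq_one_of_const {G : Type*} [Group G] [Finite G] (χ : IrrCharacter G)
    (h : ∀ g : G, (χ : G → ℂ) g = (χ : G → ℂ) 1) : (χ : G → ℂ) = fun _ => 1 := by
  classical
  have : Fintype G := Fintype.ofFinite G
  obtain ⟨d, hd0, hd⟩ := irr_apply_one χ.2
  have h1 := classInner_irr_self χ.2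
  rw [classInner_def] at h1
  have h2 : ∀ g : G, (χ : G → ℂ) g * (starRingEnd ℂ) ((χ : G → ℂ) g) = (d : ℂ) * (d : ℂ) := by
    intro g
    rw [h g, hd]
    simp
  rw [Finset.sum_congr rfl (fun g _ => h2 g), Finset.sum_const, Finset.card_univ,
    ← Nat.card_eq_fintype_card, nsmul_eq_mul, ← mul_assoc,
    inv_mul_cancel₀ (by exact_mod_cast (Nat.card_pos (α := G)).ne'), one_mul] at h1
  have h3 : d * d = 1 := by exact_mod_cast h1
  have h4 : d = 1 := by nlinarith
  funext g
  rw [h g, hd, h4]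
  simp

/-- Let G be a finite solvable group and π a nonempty set of primes, each dividing the order of G; fix for each p in π a maximal ideal M p of the algebraic integers containing p. Then the only irreducible character lying in the principal p-block for every p in π is the principal character if and only if G is generated by the subgroups O_{p'}(G), p in π (the largest normal subgroups of order prime to p). -/
theorem result {G : Type*} [Group G] [Finite G] [Group.IsSolvable G] (π : Set ℕ) (hπ : ∀ p ∈ π, p.Prime ∧ p ∣ Nat.card G) (hne : π.Nonempty) (M : ℕ → Ideal Cfsg.AlgInt) (hM : ∀ p ∈ π, Cfsg.IsPModular p (M p)) :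
    (∀ χ : Cfsg.IrrCharacter G, (∀ p ∈ π, χ ∈ Cfsg.principalBlock (M p) G) → (χ : G → ℂ) = fun _ => 1) ↔
      ⨆ p ∈ π, Cfsg.pPrimeCore p G = ⊤ := by
  classical
  have hmem : ∀ χ : IrrCharacter G, (∀ p ∈ π, χ ∈ principalBlock (M p) G)
      ↔ (⨆ p ∈ π, pPrimeCore p G) ≤ kerS χ := by
    intro χ
    rw [iSup₂_le_iff]
    constructor
    · intro h p hp
      haveI : Fact p.Prime := ⟨(hπ p hp).1⟩
      exact (mem_principal_iff p (M p) (hM p hp)
        (Cfsg.Agent.S4227.psolv_of_solv p (hπ p hp).1 _ G inferInstance rfl) χ).mp (h p hp)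
    · intro h p hp
      haveI : Fact p.Prime := ⟨(hπ p hp).1⟩
      exact (mem_principal_iff p (M p) (hM p hp)
        (Cfsg.Agent.S4227.psolv_of_solv p (hπ p hp).1 _ G inferInstance rfl) χ).mpr (h p hp)
  constructor
  · intro h
    by_contra hK
    have hKn : (⨆ p ∈ π, pPrimeCore p G).Normal := inferInstance
    have : Fintype (G ⧸ (⨆ p ∈ π, pPrimeCore p G)) := Fintype.ofFinite _
    have : Fintype (IrrCharacter (G ⧸ (⨆ p ∈ π, pPrimeCore p G))) := Fintype.ofFinite _
    have hex : ∃ ψ : IrrCharacter (G ⧸ (⨆ p ∈ π, pPrimeCore p G)),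
        (ψ : G ⧸ (⨆ p ∈ π, pPrimeCore p G) → ℂ) ≠ fun _ => 1 := by
      by_contra hcon
      have hall : ∀ ψ : IrrCharacter (G ⧸ (⨆ p ∈ π, pPrimeCore p G)),
          ψ = ⟨fun _ => 1, isIrrCharacter_one⟩ := by
        intro ψ
        apply Subtype.ext
        by_contra hne'
        exact hcon ⟨ψ, hne'⟩
      have hsum := sum_charDegree_sq (G ⧸ (⨆ p ∈ π, pPrimeCore p G))
      have huniv : (Finset.univ : Finset (IrrCharacter (G ⧸ (⨆ p ∈ π, pPrimeCore p G))))
          = {⟨fun _ => 1, isIrrCharacter_one⟩} := by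
        ext ψ
        simp [hall ψ]
      rw [huniv, Finset.sum_singleton] at hsum
      have hdeg : charDegree (fun _ : G ⧸ (⨆ p ∈ π, pPrimeCore p G) => (1 : ℂ)) = 1 := by
        simp [charDegree]
      have hcard : Nat.card (G ⧸ (⨆ p ∈ π, pPrimeCore p G)) = 1 := by
        rw [← hsum]
        show charDegree (fun _ : G ⧸ (⨆ p ∈ π, pPrimeCore p G) => (1 : ℂ)) ^ 2 = 1
        rw [hdeg, one_pow]
      apply hK
      rw [← Subgroup.index_eq_one, Subgroup.index_eq_card]
      exact hcard
    obtain ⟨ψ, hψ⟩ := hex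
    have h1 := h (irrQuotEquiv (⨆ p ∈ π, pPrimeCore p G) ψ).1
      ((hmem _).mpr (fun n hn => (irrQuotEquiv (⨆ p ∈ π, pPrimeCore p G) ψ).2 n hn))
    apply hψ
    funext q
    obtain ⟨g, rfl⟩ := QuotientGroup.mk_surjective q
    have h2 := congrFun h1 g
    exact h2
  · intro hK χ hχ
    have hle := (hmem χ).mp hχ
    rw [hK] at hle
    exact eq_one_of_const χ (fun g => hle (Subgroup.mem_top g))

end Cfsg.Agent.S4611
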