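import Cfsg.Statements.S4637
-- import your own Cfsg.Agent.* helpers here
import Mathlib
import Cfsg.Agent.Lib.Helper25.KleinBlock4

set_option autoImplicit false
open Cfsg

namespace Cfsg.Agent.S4637

open Cfsg.Agent.Lib.Helper2 Cfsg.Agent.Lib.Helper25 Cfsg.Agent.Lib.Helper8 in
/-- Let B be a block of the finite group G relative to a maximal ideal M of the algebraic integers containing 2, with a Klein four defect group P. Let c be a block of C_G(P) inducing B, T the stabilizer of c in N_G(P) and e the index of C_G(P) in T (the inertial index). Then e is 1 or 3, B contains exactly four irreducible characters, and the 2-regular rank of B (its number of irreducible Brauer characters) equals e. -/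
theorem result {G : Type*} [Group G] [Finite G] (M : Ideal Cfsg.AlgInt) (hM : Cfsg.IsPModular 2 M) (B : Set (Cfsg.IrrCharacter G)) (hB : Cfsg.IsPBlock M B) (P : Subgroup G) (hPD : Cfsg.IsDefectGroup 2 M B P) (hV : IsKleinFour P) (c : Set (Cfsg.IrrCharacter (Subgroup.centralizer (P : Set G)))) (hc : Cfsg.IsInducedBlock M (Subgroup.centralizer (P : Set G)) c B) (T : Subgroup G) (hT : ∀ g : G, g ∈ T ↔ (g ∈ Subgroup.normalizer (P : Set G) ∧ Cfsg.StabilizesBlock (Subgroup.centralizer (P : Set G)) c g)) (e : ℕ) (he : (Subgroup.centralizer (P : Set G)).relIndex T = e) : (e = 1 ∨ e = 3) ∧ Nat.card B = 4 ∧ Cfsg.blockRank 2 B = e := by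
  classical
  have : Fintype G := Fintype.ofFinite G
  have : Fact (Nat.Prime 2) := ⟨Nat.prime_two⟩
  have hcard : Nat.card P = 4 := hV.card_four
  have hexp : ∀ x ∈ P, x * x = 1 := by
    intro x hx
    have h1 : (⟨x, hx⟩ : P) ^ 2 = 1 := by
      rw [← hV.exponent_two]
      exact Monoid.pow_exponent_eq_one _
    have h2 := congrArg Subtype.val h1
    simpa [pow_two] using h2
  have hab : ∀ x ∈ P, ∀ y ∈ P, x * y = y * x := fun x hx y hy =>
    commute_of_sq_eq_one P (fun z => Subtype.ext (hexp z z.2)) x y hx hy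
  have hPC : P ≤ Subgroup.centralizer (P : Set G) := by
    intro u hu
    rw [Subgroup.mem_centralizer_iff]
    intro v hv
    exact hab v hv u hu
  have hPp : IsPGroup 2 P := IsPGroup.of_card (n := 2) (by rw [hcard]; norm_num)
  have hpair : IsBrauerPairOf 2 M B P c := isBrauerPairOf_of_isInducedBlock hM B P hPp hPC c hc
  have hmax : IsMaximalBrauerPair 2 M B P c := isMaximal_of_defectGroup hM hpair hPD
  have hodd := stab_relIndex_not_dvd hM hmax hPC T hT
  have hTN : T ≤ Subgroup.normalizer (P : Set G) := fun t ht => ((hT t).mp ht).1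
  have hdvd := relIndex_centralizer_dvd P T hTN
  rw [hcard, he] at hdvd
  rw [he] at hodd
  have h24 : e ∣ 24 := by simpa [Nat.factorial] using hdvd
  have hpos : 0 < e := Nat.pos_of_dvd_of_pos h24 (by norm_num)
  have hle : e ≤ 24 := Nat.le_of_dvd (by norm_num) h24
  have he13 : e = 1 ∨ e = 3 := by
    clear he hdvd
    interval_cases e <;> omega
  have hdef : blockDefect 2 B = 2 := by
    have h1 := card_of_isDefectGroup hM B hB P hPD
    rw [hcard] at h1
    have h2 : 2 ^ blockDefect 2 B = 2 ^ 2 := by
      rw [← h1]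
      norm_num
    exact Nat.pow_right_injective (le_refl 2) h2
  have hk : Nat.card B = 4 := card_block_of_defect_two hM B hB hdef
  refine ⟨he13, hk, ?_⟩
  rcases he13 with h1 | h3
  · rw [h1]
    apply klein_rank_one hM hmax hcard hexp
    intro t htN htS
    have htT : t ∈ T := (hT t).mpr ⟨htN, htS⟩
    have hTC : T ≤ Subgroup.centralizer (P : Set G) := Subgroup.relIndex_eq_one.mp (he.trans h1)
    exact hTC htT
  · rw [h3]
    have hnot : ¬ T ≤ Subgroup.centralizer (P : Set G) := fun h => by
      have h4 := Subgroup.relIndex_eq_one.mpr h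
      omega
    obtain ⟨t₀, ht₀T, ht₀C⟩ := SetLike.not_le_iff_exists.mp hnot
    exact klein_rank_three hM hmax hcard hexp t₀ ((hT t₀).mp ht₀T).1 ((hT t₀).mp ht₀T).2 ht₀C

end Cfsg.Agent.S4637
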