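import Cfsg.Statements.S4709
import Mathlib
import Cfsg.Agent.Lib.Helper24.BLLattice

set_option autoImplicit false
open Cfsg

namespace Cfsg.Agent.S4709

open Cfsg.Agent.Lib.Helper2 Cfsg.Agent.Lib.Helper8 Cfsg.Agent.Lib.Helper25 Cfsg.Agent.Lib.Helper24 in
/-- Let p be a prime, M a maximal ideal of the algebraic integers containing p, and G a finite group with a nontrivial abelian Sylow p-subgroup P; put N = N_G(P), C = C_G(P). Suppose N/C is cyclic of order m with 1 < m < #P − 1 (C has index m in N and N is generated by C and one element), and C_G(y) ∩ N = C for every non-identity y ∈ P. Put r = (#P − 1)/m. Then there is s ≤ m such that the principal p-block is the disjoint union of a set X of s characters containing the principal character and a set Y of r characters, with integers a_χ ≠ 0 (χ ∈ X), d and a sign δ = ±1, such that: every χ ∈ X takes the value a_χ at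 every element whose p-part is a non-identity element of P; there is a map ζ from the non-principal linear characters ψ of P onto Y, constant on N-conjugacy classes, with ζ_ψ(z) = d + δ·Σ ψ'(y) for every z whose p-part y is a non-identity element of P, the sum running over the N-conjugates ψ' of ψ; (d − δ)^2 + (r − 1) d^2 + Σ_{χ ∈ X} a_χ^2 = m + 1; all members of Y agree on p-regular elements; and (r d − δ) η(g) + Σ_{χ ∈ X} a_χ χ(g) = 0 for every η ∈ Y and every p-regular g. -/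
theorem result {G : Type*} [Group G] [Finite G] (p : ℕ) [Fact p.Prime] (M : Ideal Cfsg.AlgInt) (hM : Cfsg.IsPModular p M) (P : Sylow p G) (hab : IsMulCommutative P) (hP1 : Nat.card P ≠ 1) (m : ℕ) (hm1 : 1 < m) (hm2 : m + 1 < Nat.card P) (hCN : (Subgroup.centralizer ((P : Subgroup G) : Set G)).relIndex (Subgroup.normalizer ((P : Subgroup G) : Set G)) = m) (hcyc : ∃ g : G, g ∈ Subgroup.normalizer ((P : Subgroup G) : Set G) ∧ Subgroup.centralizer ((P : Subgroup G) : Set G) ⊔ Subgroup.zpowers g = Subgroup.normalizer ((P : Subgroup G) : Set G)) (hfrob : ∀ y : G, y ∈ (P : Subgroup G) → y ≠ 1 → Subgroup.centralizer ({y} : Set G) ⊓ Subgroup.normalizer ((P : Subgroup G) : Set G) = Subgroup.centralizer ((P : Subgroup G) : Set G)) : ∃ (s : ℕ) (X Y : Set (Cfsg.IrrCharacter G)), s ≤ m ∧ Cfsg.principalBlock M G = X ∪ Y ∧ Disjoint X Y ∧ Nat.card X = s ∧ Nat.card Y = (Nat.card P -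 1) / m ∧ (∃ χ₁ ∈ X, (χ₁ : G → ℂ) = fun _ => 1) ∧ ∃ (a : Cfsg.IrrCharacter G → ℤ) (d δ : ℤ) (ζ : (↥(P : Subgroup G) →* ℂˣ) → Cfsg.IrrCharacter G), (δ = 1 ∨ δ = -1) ∧ (∀ χ ∈ X, a χ ≠ 0 ∧ ∀ z y : G, Cfsg.IsPPart p z y → y ∈ (P : Subgroup G) → y ≠ 1 → (χ : G → ℂ) z = (a χ : ℂ)) ∧ (∀ ψ : ↥(P : Subgroup G) →* ℂˣ, ψ ≠ 1 → ζ ψ ∈ Y) ∧ (∀ η ∈ Y, ∃ ψ : ↥(P : Subgroup G) →* ℂˣ, ψ ≠ 1 ∧ ζ ψ = η) ∧ (∀ ψ ψ' : ↥(P : Subgroup G) →* ℂˣ, ψ ≠ 1 → (∃ n : G, n ∈ Subgroup.normalizer ((P : Subgroup G) : Set G) ∧ ∀ w w' : ↥(P : Subgroup G), (w' : G) = n * w * n⁻¹ → ψ' w' = ψ w) → ζ ψ' = ζ ψ) ∧ (∀ ψ : ↥(P : Subgroup G) →* ℂˣ, ψ ≠ 1 → ∀ (z : G) (y : ↥(P : Subgroup G)), Cfsg.IsPPart p z (y : G) → (y : G) ≠ 1 → (ζ ψ : G → ℂ) z = (d : ℂ) + (δ : ℂ) * ∑ᶠ ψ' ∈ {ψ' : ↥(P : Subgroup G) →* ℂˣ | ∃ n : G, n ∈ Subgroup.normalizer ((P : Subgroup G) : Set G) ∧ ∀ w w' : ↥(P : Subgroup G), (w' : G) = n * w *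 n⁻¹ → ψ' w' = ψ w}, ((ψ' y : ℂˣ) : ℂ)) ∧ ((d - δ) ^ 2 + ((Nat.card P - 1) / m - 1 : ℤ) * d ^ 2 + ∑ᶠ χ ∈ X, a χ ^ 2 = (m : ℤ) + 1) ∧ (∀ η ∈ Y, ∀ η' ∈ Y, ∀ g : G, ¬ p ∣ orderOf g → (η : G → ℂ) g = (η' : G → ℂ) g) ∧ (∀ η ∈ Y, ∀ g : G, ¬ p ∣ orderOf g → ((((Nat.card P - 1) / m : ℕ) : ℂ) * d - δ) * (η : G → ℂ) g + ∑ᶠ χ ∈ X, (a χ : ℂ) * (χ : G → ℂ) g = 0) := by
  classical
  have hp : p.Prime := Fact.out
  have : Fintype G := Fintype.ofFinite G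
  have := hab
  have hpr := isPrime_of_isPModular hM
  have : Fintype (P : Subgroup G) := Fintype.ofFinite _
  have : Fintype ((P : Subgroup G) →* ℂˣ) := Fintype.ofFinite _
  have : Fintype (IrrCharacter G) := Fintype.ofFinite _
  have hfix := hfix_of_hfrob P hfrob
  have hcomm := sylow_comm P
  obtain ⟨δ, d₀, C₀, ζ, hδ, hc, hζB, hζR, hd₀, hnorm, hex⟩ :=
    bl_lattice hM P m hm2 hCN hfrob
  have hδ2 : δ ^ 2 = 1 := by
    rcases hδ with rfl | rfl <;> norm_num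
  have hδ0 : (δ : ℂ) ≠ 0 := by
    rcases hδ with rfl | rfl <;> norm_num
  obtain ⟨Bf, hBf⟩ : ∃ Bf : Finset (IrrCharacter G), ∀ χ, χ ∈ Bf ↔ χ ∈ principalBlock M G :=
    ⟨Finset.univ.filter (fun χ => χ ∈ principalBlock M G), fun χ => by simp⟩
  obtain ⟨Yf, hYf⟩ : ∃ Yf : Finset (IrrCharacter G), ∀ η, η ∈ Yf ↔
      ∃ ψ : (P : Subgroup G) →* ℂˣ, ψ ≠ 1 ∧ ζ ψ = η :=
    ⟨(Finset.univ.filter (fun ψ : (P : Subgroup G) →* ℂˣ => ψ ≠ 1)).image ζ, fun η => by simp⟩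
  have hYB : Yf ⊆ Bf := by
    intro η hη
    obtain ⟨ψ, hψ, rfl⟩ := (hYf η).mp hη
    exact (hBf _).mpr (hζB ψ hψ)
  have hBcoe : principalBlock M G = (Bf : Set (IrrCharacter G)) := by
    ext χ
    rw [Finset.mem_coe, hBf]
  have hYcard : Yf.card * m = Nat.card P - 1 := by
    have hS : (Finset.univ.filter (fun ψ : (P : Subgroup G) →* ℂˣ => ψ ≠ 1)).card
        = Nat.card P - 1 := by
      rw [Finset.filter_ne' Finset.univ (1 : (P : Subgroup G) →* ℂˣ),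
        Finset.card_erase_of_mem (Finset.mem_univ _), Finset.card_univ,
        ← Nat.card_eq_fintype_card, card_hom_eq]
    rw [← hS, Finset.card_eq_sum_card_fiberwise (f := ζ) (t := Yf)
      (fun ψ hψ => (hYf _).mpr ⟨ψ, (Finset.mem_filter.mp hψ).2, rfl⟩)]
    rw [Finset.sum_const_nat]
    intro b hb
    obtain ⟨ψ₁, hψ₁, rfl⟩ := (hYf b).mp hb
    rw [← hCN, ← card_orbit (P : Subgroup G) hfix ψ₁ hψ₁]
    symm
    apply Nat.subtype_card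
    intro ψ'
    rw [Finset.mem_filter, Finset.mem_filter]
    constructor
    · rintro ⟨⟨-, h1⟩, h2⟩
      exact (hζR ψ₁ ψ' hψ₁ h1).mp h2.symm
    · rintro ⟨x, rfl⟩
      have h1 := dualConj_ne_one (P : Subgroup G) x ψ₁ hψ₁
      exact ⟨⟨Finset.mem_univ _, h1⟩, ((hζR ψ₁ _ hψ₁ h1).mpr ⟨x, rfl⟩).symm⟩
  have hm0 : 0 < m := by omega
  have hr : (Nat.card P - 1) / m = Yf.card := by
    rw [← hYcard]
    exact Nat.mul_div_cancel _ hm0
  have hr2 : 2 ≤ Yf.card := by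
    by_contra h
    have h1 : Yf.card ≤ 1 := by omega
    have h2 : Yf.card * m ≤ m := by simpa using Nat.mul_le_mul_right m h1
    rw [hYcard] at h2
    omega
  have hval : ∀ χ ∈ principalBlock M G, ∀ y : (P : Subgroup G), y ≠ 1 →
      (χ : G → ℂ) (y : G) = -(C₀ χ : ℂ) + (δ : ℂ) * ∑ ψ : (P : Subgroup G) →* ℂˣ,
        if (ψ ≠ 1 ∧ χ = ζ ψ) then ((ψ y : ℂˣ) : ℂ) else 0 := by
    intro χ hχ y hy
    rw [cpsi_value (P : Subgroup G) (χ : G → ℂ) y hy, finsum_eq_sum_of_fintype]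
    have e : ∀ ψ : (P : Subgroup G) →* ℂˣ,
        cpsi (P : Subgroup G) (χ : G → ℂ) ψ * ((ψ y : ℂˣ) : ℂ)
        = (C₀ χ : ℂ) * ((ψ y : ℂˣ) : ℂ) - (if ψ = 1 then (C₀ χ : ℂ) else 0)
          + (δ : ℂ) * (if (ψ ≠ 1 ∧ χ = ζ ψ) then ((ψ y : ℂˣ) : ℂ) else 0) := by
      intro ψ
      by_cases hψ : ψ = 1
      · rw [hψ, cpsi_one, if_pos rfl, if_neg (fun h => h.1 rfl)]
        simp
      · rw [hc ψ hψ χ hχ, if_neg hψ]
        by_cases h2 : χ = ζ ψ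
        · rw [if_pos h2, if_pos ⟨hψ, h2⟩]
          ring
        · rw [if_neg h2, if_neg (fun h => h2 h.2)]
          ring
    rw [Finset.sum_congr rfl (fun ψ _ => e ψ), Finset.sum_add_distrib, Finset.sum_sub_distrib,
      ← Finset.mul_sum, ← Finset.mul_sum, sum_hom_apply, if_neg hy,
      Finset.sum_ite_eq' Finset.univ (1 : (P : Subgroup G) →* ℂˣ) (fun _ => (C₀ χ : ℂ)),
      if_pos (Finset.mem_univ _)]
    ring
  have hsec : ∀ χ ∈ principalBlock M G, ∀ z y : G, IsPPart p z y → y ∈ (P : Subgroup G) →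
      y ≠ 1 → (χ : G → ℂ) z = (χ : G → ℂ) y := by
    intro χ hχ z y hzy hyP hy1
    obtain ⟨y', rfl, hcm, hk, hreg⟩ := hzy
    obtain ⟨k', hk'⟩ := index_core_p P hcomm hfix hyP hy1
    have hmem : y' ∈ Subgroup.centralizer ({y} : Set G) := by
      rw [Subgroup.mem_centralizer_singleton_iff]
      exact hcm.eq.symm
    exact principal_section_const hM y hk k' hk' χ hχ ⟨y', hmem⟩
      (by rwa [Subgroup.orderOf_mk])
  have hreg : ∀ ψ : (P : Subgroup G) →* ℂˣ, ψ ≠ 1 → ∀ g : G, ¬ p ∣ orderOf g →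
      ∑ χ ∈ Bf, (C₀ χ : ℂ) * (χ : G → ℂ) g + (δ : ℂ) * (ζ ψ : G → ℂ) g = 0 := by
    intro ψ hψ g hg
    have h := cpsi_regular hM (P : Subgroup G) P.isPGroup' ψ g hg
    rw [hBcoe, finsum_mem_coe_finset] at h
    have e : ∀ χ ∈ Bf, cpsi (P : Subgroup G) (χ : G → ℂ) ψ * (χ : G → ℂ) g
        = (C₀ χ : ℂ) * (χ : G → ℂ) g
          + (if χ = ζ ψ then (δ : ℂ) * (χ : G → ℂ) g else 0) := by
      intro χ hχ
      rw [hc ψ hψ χ ((hBf χ).mp hχ)]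
      split_ifs <;> ring
    rw [Finset.sum_congr rfl e, Finset.sum_add_distrib,
      Finset.sum_ite_eq' Bf (ζ ψ) (fun χ => (δ : ℂ) * (χ : G → ℂ) g),
      if_pos ((hBf _).mpr (hζB ψ hψ))] at h
    exact h
  have hYreg : ∀ η ∈ Yf, ∀ η' ∈ Yf, ∀ g : G, ¬ p ∣ orderOf g →
      (η : G → ℂ) g = (η' : G → ℂ) g := by
    intro η hη η' hη' g hg
    obtain ⟨ψ, hψ, rfl⟩ := (hYf η).mp hη
    obtain ⟨ψ', hψ', rfl⟩ := (hYf η').mp hη'
    have h1 := hreg ψ hψ g hg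
    have h2 := hreg ψ' hψ' g hg
    apply mul_left_cancel₀ hδ0
    linear_combination h1 - h2
  have hXne : ∀ χ ∈ Bf \ Yf, C₀ χ ≠ 0 := by
    intro χ hχ h0
    obtain ⟨hχB, hχY⟩ := Finset.mem_sdiff.mp hχ
    have hχB' := (hBf χ).mp hχB
    obtain ⟨ψ, hψ⟩ := cpsi_exists_ne hM P hP1 χ hχB'
    apply hψ
    by_cases h1 : ψ = 1
    · rw [h1, cpsi_one]
    · rw [hc ψ h1 χ hχB', h0, if_neg (fun h => hχY ((hYf χ).mpr ⟨ψ, h1, h.symm⟩))]
      simp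
  have htriv : Cfsg.Agent.Lib.Helper8.trivIrr G ∈ Bf \ Yf := by
    have hB : Cfsg.Agent.Lib.Helper8.trivIrr G ∈ principalBlock M G := by
      show SameBlock M (fun _ : G => (1 : ℂ)) (fun _ : G => (1 : ℂ))
      exact sameBlock_refl M _
    refine Finset.mem_sdiff.mpr ⟨(hBf _).mpr hB, ?_⟩
    intro hY
    obtain ⟨ψ, hψ, hζψ⟩ := (hYf _).mp hY
    obtain ⟨ψ', hψ', hne⟩ := hex ψ hψ
    have h1 := hc ψ hψ _ hB
    have h2 := hc ψ' hψ' _ hB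
    rw [if_pos hζψ.symm] at h1
    rw [if_neg (fun h => hne (h.symm.trans hζψ.symm))] at h2
    have h3 : cpsi (P : Subgroup G)
        ((Cfsg.Agent.Lib.Helper8.trivIrr G : IrrCharacter G) : G → ℂ) ψ = -1 :=
      cpsi_triv (P : Subgroup G) ψ hψ
    have h4 : cpsi (P : Subgroup G)
        ((Cfsg.Agent.Lib.Helper8.trivIrr G : IrrCharacter G) : G → ℂ) ψ' = -1 :=
      cpsi_triv (P : Subgroup G) ψ' hψ'
    rw [h3] at h1
    rw [h4] at h2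
    apply hδ0
    linear_combination h2 - h1
  have hC₀Y : ∀ χ ∈ Yf, C₀ χ = d₀ := by
    intro χ hχ
    obtain ⟨ψ, hψ, rfl⟩ := (hYf χ).mp hχ
    exact hd₀ ψ hψ
  have hnorm' : ∑ χ ∈ Bf \ Yf, C₀ χ ^ 2 + (Yf.card : ℤ) * d₀ ^ 2 + 2 * δ * d₀ = (m : ℤ) := by
    rw [hBcoe, finsum_mem_coe_finset, ← Finset.sum_sdiff hYB,
      Finset.sum_congr rfl (fun χ hχ => by rw [hC₀Y χ hχ] : ∀ χ ∈ Yf, C₀ χ ^ 2 = d₀ ^ 2),
      Finset.sum_const, nsmul_eq_mul] at hnorm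
    exact hnorm
  have hs : (Bf \ Yf).card ≤ m := by
    have h1 : ((Bf \ Yf).card : ℤ) ≤ ∑ χ ∈ Bf \ Yf, C₀ χ ^ 2 := by
      have h := Finset.card_nsmul_le_sum (Bf \ Yf) (fun χ => C₀ χ ^ 2) 1 (fun χ hχ => by
        have h2 : 0 < C₀ χ ^ 2 :=
          lt_of_le_of_ne (sq_nonneg _) (Ne.symm (pow_ne_zero 2 (hXne χ hχ)))
        linarith)
      simpa using h
    have h2 : 0 ≤ (Yf.card : ℤ) * d₀ ^ 2 + 2 * δ * d₀ := by
      by_cases h0 : d₀ = 0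
      · rw [h0]
        simp
      · have h3 : 1 ≤ d₀ ^ 2 := by
          have : 0 < d₀ ^ 2 := lt_of_le_of_ne (sq_nonneg _) (Ne.symm (pow_ne_zero 2 h0))
          linarith
        have h4 : (2 : ℤ) ≤ Yf.card := by exact_mod_cast hr2
        have h5 : 0 ≤ (d₀ + δ) ^ 2 := sq_nonneg _
        nlinarith [mul_le_mul_of_nonneg_right h4 (sq_nonneg d₀), h3, h5, hδ2]
    have h3 : ((Bf \ Yf).card : ℤ) ≤ (m : ℤ) := by linarith
    exact_mod_cast h3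
  refine ⟨(Bf \ Yf).card, ((Bf \ Yf : Finset (IrrCharacter G)) : Set (IrrCharacter G)),
    (Yf : Set (IrrCharacter G)), hs, ?_, ?_, ?_, ?_,
    ⟨Cfsg.Agent.Lib.Helper8.trivIrr G, Finset.mem_coe.mpr htriv, rfl⟩,
    fun χ => -C₀ χ, -d₀, δ, ζ, hδ, ?_, ?_, ?_, ?_, ?_, ?_, ?_, ?_⟩
  · rw [hBcoe, ← Finset.coe_union, Finset.sdiff_union_of_subset hYB]
  · exact Finset.disjoint_coe.mpr Finset.sdiff_disjoint
  · rw [Nat.card_coe_set_eq, Set.ncard_coe_finset]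
  · rw [Nat.card_coe_set_eq, Set.ncard_coe_finset, hr]
  · intro χ hχ
    have hχ' := Finset.mem_coe.mp hχ
    obtain ⟨hχB, hχY⟩ := Finset.mem_sdiff.mp hχ'
    have hχB' := (hBf χ).mp hχB
    refine ⟨neg_ne_zero.mpr (hXne χ hχ'), ?_⟩
    intro z y hzy hyP hy1
    have h : (χ : G → ℂ) y = _ :=
      hval χ hχB' ⟨y, hyP⟩ (fun h => hy1 (congrArg Subtype.val h))
    have hz : ∑ ψ : (P : Subgroup G) →* ℂˣ, (if (ψ ≠ 1 ∧ χ = ζ ψ)
        then ((ψ (⟨y, hyP⟩ : (P : Subgroup G)) : ℂˣ) : ℂ) else 0) = 0 := by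
      apply Finset.sum_eq_zero
      intro ψ _
      exact if_neg (fun h => hχY ((hYf χ).mpr ⟨ψ, h.1, h.2.symm⟩))
    rw [hsec χ hχB' z y hzy hyP hy1, h, hz]
    push_cast
    ring
  · intro ψ hψ
    exact Finset.mem_coe.mpr ((hYf _).mpr ⟨ψ, hψ, rfl⟩)
  · intro η hη
    exact (hYf η).mp (Finset.mem_coe.mp hη)
  · intro ψ ψ' hψ hrel
    obtain ⟨x, hx⟩ := (rel_iff (P : Subgroup G) ψ ψ').mp hrel
    have hψ' : ψ' ≠ 1 := by
      rw [hx]
      exact dualConj_ne_one (P : Subgroup G) x ψ hψ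
    exact ((hζR ψ ψ' hψ hψ').mpr ⟨x, hx⟩).symm
  · intro ψ hψ z y hzy hy1
    have hy1' : y ≠ 1 := fun h => hy1 (by rw [h]; rfl)
    rw [hsec (ζ ψ) (hζB ψ hψ) z y hzy y.2 hy1, hval (ζ ψ) (hζB ψ hψ) y hy1', hd₀ ψ hψ,
      finsum_mem_eq_sum_indicator]
    push_cast
    congr 2
    apply Finset.sum_congr rfl
    intro ψ' _
    rw [Set.indicator_apply]
    have hiff : (ψ' ≠ 1 ∧ ζ ψ = ζ ψ') ↔ ψ' ∈ {ψ' : ↥(P : Subgroup G) →* ℂˣ |
        ∃ n : G, n ∈ Subgroup.normalizer ((P : Subgroup G) : Set G) ∧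
          ∀ w w' : ↥(P : Subgroup G), (w' : G) = n * w * n⁻¹ → ψ' w' = ψ w} := by
      rw [Set.mem_ofPred_eq, rel_iff]
      constructor
      · rintro ⟨h1, h2⟩
        exact (hζR ψ ψ' hψ h1).mp h2
      · rintro ⟨x, hx⟩
        have hψ' : ψ' ≠ 1 := by
          rw [hx]
          exact dualConj_ne_one (P : Subgroup G) x ψ hψ
        exact ⟨hψ', (hζR ψ ψ' hψ hψ').mpr ⟨x, hx⟩⟩
    by_cases h : ψ' ∈ {ψ' : ↥(P : Subgroup G) →* ℂˣ |
        ∃ n : G, n ∈ Subgroup.normalizer ((P : Subgroup G) : Set G) ∧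
          ∀ w w' : ↥(P : Subgroup G), (w' : G) = n * w * n⁻¹ → ψ' w' = ψ w}
    · rw [if_pos h, if_pos (hiff.mpr h)]
    · rw [if_neg h, if_neg (fun h' => h (hiff.mp h'))]
  · rw [finsum_mem_coe_finset]
    have hcast : ((Nat.card P : ℤ) - 1) / (m : ℤ) = (Yf.card : ℤ) := by
      have h1 : ((Nat.card P : ℤ) - 1) = (Yf.card : ℤ) * (m : ℤ) := by
        have h2 : 1 ≤ Nat.card P := by omega
        have h3 : ((Yf.card * m : ℕ) : ℤ) = ((Nat.card P - 1 : ℕ) : ℤ) := by rw [hYcard]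
        rw [Nat.cast_sub h2] at h3
        push_cast at h3
        linarith
      rw [h1]
      exact Int.mul_ediv_cancel _ (by exact_mod_cast hm0.ne')
    rw [hcast]
    simp only [neg_sq]
    linear_combination hnorm' + hδ2
  · exact fun η hη η' hη' g hg => hYreg η (Finset.mem_coe.mp hη) η' (Finset.mem_coe.mp hη') g hg
  · intro η hη g hg
    have hη' := Finset.mem_coe.mp hη
    obtain ⟨ψ, hψ, rfl⟩ := (hYf η).mp hη'
    have h := hreg ψ hψ g hg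
    rw [← Finset.sum_sdiff hYB, Finset.sum_congr rfl (fun χ hχ => by
        rw [hC₀Y χ hχ, hYreg χ hχ (ζ ψ) hη' g hg] :
        ∀ χ ∈ Yf, (C₀ χ : ℂ) * (χ : G → ℂ) g = (d₀ : ℂ) * (ζ ψ : G → ℂ) g),
      Finset.sum_const, nsmul_eq_mul] at h
    rw [finsum_mem_coe_finset, hr]
    push_cast
    simp only [neg_mul, Finset.sum_neg_distrib]
    linear_combination -h

end Cfsg.Agent.S4709
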