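import Mathlib
import Cfsg.Statements.S4713
import Cfsg.Agent.Lib.Helper2.ItoConv

set_option autoImplicit false
open Cfsg

namespace Cfsg.Agent.S4713

open Cfsg.Agent.Lib.Helper2 Module

/-- the degree of the character of a representation -/
theorem charDegree_of_apply_one {G : Type*} [Group G] (χ : G → ℂ) (d : ℕ) (h : χ 1 = (d : ℂ)) :
    Cfsg.charDegree χ = d := by
  unfold Cfsg.charDegree
  rw [h]
  simp

/-- A p-solvable group has a normal abelian Sylow p-subgroup if and only if p divides no irreducible character degree. -/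
theorem result {G : Type*} [Group G] [Finite G] (p : ℕ) [Fact p.Prime] (hsolv : Cfsg.IsPSolvable p G) (P : Sylow p G) : ((P : Subgroup G).Normal ∧ IsMulCommutative P) ↔ ∀ χ : Cfsg.IrrCharacter G, ¬ p ∣ Cfsg.charDegree (χ : G → ℂ) := by
  constructor
  · rintro ⟨hn, hc⟩ χ
    obtain ⟨m, ρ, hρ, hχ⟩ := χ.2
    have := hρ
    have hcomm : ∀ a ∈ (P : Subgroup G), ∀ b ∈ (P : Subgroup G), a * b = b * a := by
      intro a ha b hb
      have h1 := hc.is_comm.comm (⟨a, ha⟩ : P) ⟨b, hb⟩
      exact congrArg Subtype.val h1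
    have h1 := ito_degree_dvd_index ρ (P : Subgroup G) hcomm
    have h2 : (χ : G → ℂ) 1 = ((finrank ℂ (Fin m → ℂ) : ℕ) : ℂ) := by
      rw [← hχ]
      exact Representation.char_one ρ
    rw [charDegree_of_apply_one _ _ h2]
    intro hdvd
    exact P.not_dvd_index (hdvd.trans h1)
  · intro h
    have h1 := ito_conv_aux p (Nat.card G) G le_rfl hsolv
      (fun χ hχ d hd => by
        have h2 := h ⟨χ, hχ⟩
        rwa [charDegree_of_apply_one _ _ hd] at h2) P
    refine ⟨h1.1, ⟨⟨fun a b => Subtype.ext (h1.2 a a.2 b b.2)⟩⟩⟩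

end Cfsg.Agent.S4713
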