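import Cfsg.Statements.S4721
import Mathlib
import Cfsg.Agent.Lib.Helper24.BLTwo

set_option autoImplicit false
open Cfsg

namespace Cfsg.Agent.S4721

open Cfsg.Agent.Lib.Helper2 Cfsg.Agent.Lib.Helper8 Cfsg.Agent.Lib.Helper25 Cfsg.Agent.Lib.Helper24 in
/-- Let p be a prime, M a maximal ideal of the algebraic integers containing p, and G a finite group with a nontrivial abelian Sylow p-subgroup P, N = N_G(P), C = C_G(P), such that N/C is cyclic of order 3, #P > 4, and C_G(y) ∩ N = C for every non-identity y ∈ P. Then the principal p-block is the disjoint union of a set X of exactly 3 characters containing the principal character and a set Y of (#P − 1)/3 characters, with signs a_χ = ±1 (χ ∈ X, a = 1 at the principal character) and δ = ±1 such that every χ ∈ X takes the value a_χ at every element whose p-part is a non-identity element of P, and there is a map ζ from the non-principal linear characters of P onto Y,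 constant on N-conjugacy classes, with ζ_ψ(z) = δ·Σ ψ'(y) over the N-orbit of ψ, for z with p-part y ≠ 1 in P. If moreover G has an involution lying in no proper normal subgroup of G, then exactly two of the three numbers −δ and a_χ (χ ∈ X non-principal) equal −1, and the product of the degrees of the two non-principal members of X and of any member of Y is a perfect square. -/
theorem result {G : Type*} [Group G] [Finite G] (p : ℕ) [Fact p.Prime] (M : Ideal Cfsg.AlgInt) (hM : Cfsg.IsPModular p M) (P : Sylow p G) (hab : IsMulCommutative P) (hP1 : Nat.card P ≠ 1) (hCN : (Subgroup.centralizer ((P : Subgroup G) : Set G)).relIndex (Subgroup.normalizer ((P : Subgroup G) : Set G)) = 3) (hcyc : ∃ g : G, g ∈ Subgroup.normalizer ((P : Subgroup G) : Set G) ∧ Subgroup.centralizer ((P : Subgroup G) : Set G) ⊔ Subgroup.zpowers g = Subgroup.normalizer ((P : Subgroup G) : Set G)) (hm2 : 3 + 1 < Nat.card P) (hfrob : ∀ y : G, y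 ∈ (P : Subgroup G) → y ≠ 1 → Subgroup.centralizer ({y} : Set G) ⊓ Subgroup.normalizer ((P : Subgroup G) : Set G) = Subgroup.centralizer ((P : Subgroup G) : Set G)) : ∃ (X Y : Set (Cfsg.IrrCharacter G)), Cfsg.principalBlock M G = X ∪ Y ∧ Disjoint X Y ∧ Nat.card X = 3 ∧ Nat.card Y = (Nat.card P - 1) / 3 ∧ (∃ χ₁ ∈ X, (χ₁ : G → ℂ) = fun _ => 1) ∧ ∃ (a : Cfsg.IrrCharacter G → ℤ) (δ : ℤ) (ζ : (↥(P : Subgroup G) →* ℂˣ) → Cfsg.IrrCharacter G), (δ = 1 ∨ δ = -1) ∧ (∀ χ ∈ X, (a χ = 1 ∨ a χ = -1) ∧ ∀ z y : G, Cfsg.IsPPart p z y → y ∈ (P : Subgroup G) → y ≠ 1 → (χ : G → ℂ) z = (a χ : ℂ)) ∧ (∀ ψ : ↥(P : Subgroup G) →* ℂˣ, ψ ≠ 1 → ζ ψ ∈ Y) ∧ (∀ η ∈ Y, ∃ ψ : ↥(P : Subgroup G) →* ℂˣ, ψ ≠ 1 ∧ ζ ψ = η) ∧ (∀ ψ ψ' : ↥(P : Subgroup G) →* ℂˣ, ψ ≠ 1 → (∃ n : G, n ∈ Subgroup.normalizer ((P : Subgroup G) : Set G) ∧ ∀ w w' : ↥(P : Subgroup G), (w' : G) = n * w * n⁻¹ → ψ' w' = ψ w) → ζ ψ' = ζ ψ) ∧ (∀ ψ : ↥(P : Subgroup G) →* ℂˣ, ψ ≠ 1 →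 ∀ (z : G) (y : ↥(P : Subgroup G)), Cfsg.IsPPart p z (y : G) → (y : G) ≠ 1 → (ζ ψ : G → ℂ) z = (δ : ℂ) * ∑ᶠ ψ' ∈ {ψ' : ↥(P : Subgroup G) →* ℂˣ | ∃ n : G, n ∈ Subgroup.normalizer ((P : Subgroup G) : Set G) ∧ ∀ w w' : ↥(P : Subgroup G), (w' : G) = n * w * n⁻¹ → ψ' w' = ψ w}, ((ψ' y : ℂˣ) : ℂ)) ∧ ((∃ t : G, orderOf t = 2 ∧ ∀ K : Subgroup G, K.Normal → t ∈ K → K = ⊤) → Nat.card {χ : Cfsg.IrrCharacter G // χ ∈ X ∧ (χ : G → ℂ) ≠ (fun _ => 1) ∧ a χ = -1} + (if δ = 1 then 1 else 0) = 2 ∧ ∀ η ∈ Y, IsSquare (Cfsg.charDegree (η : G → ℂ) * ∏ᶠ χ ∈ {χ : Cfsg.IrrCharacter G | χ ∈ X ∧ (χ : G → ℂ) ≠ fun _ => 1}, Cfsg.charDegree (χ : G → ℂ))) := by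
  classical
  have hp : p.Prime := Fact.out
  have : Fintype G := Fintype.ofFinite G
  have := hab
  have : Fintype (P : Subgroup G) := Fintype.ofFinite _
  have : Fintype ((P : Subgroup G) →* ℂˣ) := Fintype.ofFinite _
  have : Fintype (IrrCharacter G) := Fintype.ofFinite _
  obtain ⟨δ, a, ζ, Yf, χ₂, χ₃, hδ, hBmem, htY, h2Y, h3Y, h2t, h3t, h23, hYcard, hat, ha₂, ha₃,
    hYf, hζR, hvalX, hvalY, hsec, hreg⟩ := bl_three hM P hP1 hm2 hCN hfrob
  have hnt : Nontrivial (P : Subgroup G) := by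
    rw [← Finite.one_lt_card_iff_nontrivial]
    have h4 : 3 + 1 < Nat.card (P : Subgroup G) := hm2
    omega
  obtain ⟨y₀, hy₀⟩ := exists_ne (1 : (P : Subgroup G))
  obtain ⟨Xf, hXf⟩ : ∃ Xf : Finset (IrrCharacter G),
      Xf = {Cfsg.Agent.Lib.Helper8.trivIrr G, χ₂, χ₃} := ⟨_, rfl⟩
  have hXmem : ∀ χ, χ ∈ Xf ↔ (χ = Cfsg.Agent.Lib.Helper8.trivIrr G ∨ χ = χ₂ ∨ χ = χ₃) := by
    intro χ
    rw [hXf]
    simp only [Finset.mem_insert, Finset.mem_singleton]
  have hXcard : Xf.card = 3 := by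
    rw [hXf, Finset.card_insert_of_notMem, Finset.card_insert_of_notMem, Finset.card_singleton]
    · simpa using h23
    · simp only [Finset.mem_insert, Finset.mem_singleton, not_or]
      exact ⟨Ne.symm h2t, Ne.symm h3t⟩
  have hdisj : Disjoint Xf Yf := by
    rw [Finset.disjoint_left]
    intro χ hχ hY
    rcases (hXmem χ).mp hχ with rfl | rfl | rfl
    · exact htY hY
    · exact h2Y hY
    · exact h3Y hY
  have hr : (Nat.card P - 1) / 3 = Yf.card := by
    rw [← hYcard]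
    exact Nat.mul_div_cancel _ (by norm_num)
  have hXnt : ∀ χ : IrrCharacter G,
      (χ ∈ (Xf : Set (IrrCharacter G)) ∧ (χ : G → ℂ) ≠ fun _ => 1) ↔ (χ = χ₂ ∨ χ = χ₃) := by
    intro χ
    rw [Finset.mem_coe, hXmem]
    constructor
    · rintro ⟨h | h | h, hne⟩
      · exact absurd (congrArg Subtype.val h) hne
      · exact Or.inl h
      · exact Or.inr h
    · rintro (h | h)
      · exact ⟨Or.inr (Or.inl h), fun hc => h2t (Subtype.ext (by rw [← h]; exact hc))⟩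
      · exact ⟨Or.inr (Or.inr h), fun hc => h3t (Subtype.ext (by rw [← h]; exact hc))⟩
  refine ⟨(Xf : Set (IrrCharacter G)), (Yf : Set (IrrCharacter G)), ?_, ?_, ?_, ?_,
    ⟨Cfsg.Agent.Lib.Helper8.trivIrr G, Finset.mem_coe.mpr ((hXmem _).mpr (Or.inl rfl)), rfl⟩,
    a, δ, ζ, hδ, ?_, ?_, ?_, ?_, ?_, ?_⟩
  · ext χ
    rw [Set.mem_union, Finset.mem_coe, Finset.mem_coe, hBmem, hXmem]
    simp only [or_assoc]
  · exact Finset.disjoint_coe.mpr hdisj
  · rw [Nat.card_coe_set_eq, Set.ncard_coe_finset]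
    exact hXcard
  · rw [Nat.card_coe_set_eq, Set.ncard_coe_finset, hr]
  · intro χ hχ
    have hχ' := (hXmem χ).mp (Finset.mem_coe.mp hχ)
    refine ⟨?_, ?_⟩
    · rcases hχ' with h | h | h
      · rw [h]
        exact Or.inl hat
      · rw [h]
        exact ha₂
      · rw [h]
        exact ha₃
    · intro z y hzy hyP hy1
      have hχB : χ ∈ principalBlock M G := by
        rw [hBmem]
        rcases hχ' with h | h | h
        · exact Or.inl h
        · exact Or.inr (Or.inl h)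
        · exact Or.inr (Or.inr (Or.inl h))
      rw [hsec χ hχB z y hzy hyP hy1]
      exact hvalX χ hχ' ⟨y, hyP⟩ (fun h => hy1 (congrArg Subtype.val h))
  · intro ψ hψ
    exact Finset.mem_coe.mpr ((hYf _).mpr ⟨ψ, hψ, rfl⟩)
  · intro η hη
    exact (hYf η).mp (Finset.mem_coe.mp hη)
  · intro ψ ψ' hψ hrel
    obtain ⟨x, hx⟩ := (rel_iff (P : Subgroup G) ψ ψ').mp hrel
    have hψ' : ψ' ≠ 1 := by
      rw [hx]
      exact dualConj_ne_one (P : Subgroup G) x ψ hψ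
    exact ((hζR ψ ψ' hψ hψ').mpr ⟨x, hx⟩).symm
  · intro ψ hψ z y hzy hy1
    have hy1' : y ≠ 1 := fun h => hy1 (by rw [h]; rfl)
    have hζB : ζ ψ ∈ principalBlock M G :=
      (hBmem _).mpr (Or.inr (Or.inr (Or.inr ((hYf _).mpr ⟨ψ, hψ, rfl⟩))))
    rw [hsec (ζ ψ) hζB z y hzy y.2 hy1, hvalY ψ hψ y hy1']
    have hset : {ψ' : (P : Subgroup G) →* ℂˣ | ψ' ≠ 1 ∧ ζ ψ = ζ ψ'}
        = {ψ' : ↥(P : Subgroup G) →* ℂˣ |
          ∃ n : G, n ∈ Subgroup.normalizer ((P : Subgroup G) : Set G) ∧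
            ∀ w w' : ↥(P : Subgroup G), (w' : G) = n * w * n⁻¹ → ψ' w' = ψ w} := by
      ext ψ'
      rw [Set.mem_ofPred_eq, Set.mem_ofPred_eq, rel_iff]
      constructor
      · rintro ⟨h1, h2⟩
        exact (hζR ψ ψ' hψ h1).mp h2
      · rintro ⟨x, hx⟩
        have hψ' : ψ' ≠ 1 := by
          rw [hx]
          exact dualConj_ne_one (P : Subgroup G) x ψ hψ
        exact ⟨hψ', (hζR ψ ψ' hψ hψ').mpr ⟨x, hx⟩⟩
    rw [hset]
  · rintro ⟨t, ht, hK⟩
    have hYne : Yf.Nonempty := by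
      apply Finset.card_pos.mp
      have h4 : 3 + 1 < Nat.card (P : Subgroup G) := hm2
      have h5 : Yf.card * 3 = Nat.card (P : Subgroup G) - 1 := hYcard
      omega
    by_cases hp2 : p = 2
    · exact (bl_three_two hM P hp2 hm2 hCN hfrob δ (a χ₂) (a χ₃) ζ Yf χ₂ χ₃ hδ ha₂ ha₃ hBmem
        htY h2Y h3Y h2t h3t h23 hYcard hYf hζR (hvalX χ₂ (Or.inr (Or.inl rfl)))
        (hvalX χ₃ (Or.inr (Or.inr rfl))) hvalY hreg t ht hK).elim
    · obtain ⟨hcount, hsq⟩ := bl_three_odd hM P hp2 hCN hfrob δ (a χ₂) (a χ₃) Yf χ₂ χ₃ hδ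
        ha₂ ha₃ hBmem htY h2Y h3Y h2t h3t h23 (hvalX χ₂ (Or.inr (Or.inl rfl)))
        (hvalX χ₃ (Or.inr (Or.inr rfl))) hreg hYne y₀ hy₀ t ht hK
      refine ⟨?_, ?_⟩
      · have hcardS : Nat.card {χ : IrrCharacter G // χ ∈ (Xf : Set (IrrCharacter G)) ∧
              (χ : G → ℂ) ≠ (fun _ => 1) ∧ a χ = -1}
            = (if a χ₂ = -1 then 1 else 0) + (if a χ₃ = -1 then 1 else 0) := by
          rw [Nat.subtype_card (({χ₂, χ₃} : Finset (IrrCharacter G)).filter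
            (fun χ => a χ = -1)) (by
              intro χ
              rw [Finset.mem_filter, Finset.mem_insert, Finset.mem_singleton, ← hXnt χ,
                and_assoc])]
          rw [Finset.filter_insert, Finset.filter_singleton]
          by_cases h2 : a χ₂ = -1 <;> by_cases h3 : a χ₃ = -1 <;> simp [h2, h3, h23]
        rw [hcardS]
        exact hcount
      · intro η hη
        have hset : {χ : IrrCharacter G | χ ∈ (Xf : Set (IrrCharacter G)) ∧
            (χ : G → ℂ) ≠ fun _ => 1} = {χ₂, χ₃} := by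
          ext χ
          rw [Set.mem_ofPred_eq, hXnt χ]
          simp only [Set.mem_insert_iff, Set.mem_singleton_iff]
        rw [hset, finprod_mem_pair h23]
        exact hsq η (Finset.mem_coe.mp hη)

end Cfsg.Agent.S4721
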