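import Cfsg.Statements.S4723
import Cfsg.Agent.Lib.Helper24.StableHeight

set_option autoImplicit false
open Cfsg

namespace Cfsg.Agent.S4723

open Cfsg.Agent.Lib.Helper2 Cfsg.Agent.Lib.Helper8 Cfsg.Agent.Lib.Helper25 Cfsg.Agent.Lib.Helper24 in
/-- Let p be a prime, M a maximal ideal of the algebraic integers containing p, H a normal subgroup of the finite group G and b a p-block of H. Let T be the stabilizer of b in G. Then b contains a character θ of height zero whose own stabilizer in G (the elements g with θ(g h g⁻¹) = θ(h) for all h ∈ H) has index prime to p in T, i.e. contains a Sylow p-subgroup of T. -/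
theorem result {G : Type*} [Group G] [Finite G] (p : ℕ) [Fact p.Prime] (M : Ideal Cfsg.AlgInt) (hM : Cfsg.IsPModular p M) (H : Subgroup G) [H.Normal] (b : Set (Cfsg.IrrCharacter ↥H)) (hb : Cfsg.IsPBlock M b) (T : Subgroup G) (hT : (∀ g : G, g ∈ T ↔ ∀ θ ∈ b, ∀ θ' : Cfsg.IrrCharacter ↥H, (∀ h h' : ↥H, (h' : G) = g * h * g⁻¹ → (θ' : ↥H → ℂ) h' = (θ : ↥H → ℂ) h) → θ' ∈ b)) : ∃ θ ∈ b, Cfsg.blockHeight p b (θ : ↥H → ℂ) = 0 ∧ ∃ S : Subgroup G, S ≤ T ∧ (∀ g : G, g ∈ S ↔ (g ∈ T ∧ ∀ h h' : ↥H, (h' : G) = g * h * g⁻¹ → (θ : ↥H → ℂ) h' = (θ : ↥H → ℂ) h)) ∧ ¬ p ∣ S.relIndex T := by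
  classical
  haveI : Fintype G := Fintype.ofFinite G
  haveI : Fintype H := Fintype.ofFinite H
  have hp : p.Prime := Fact.out
  have hHn : H.Normal := inferInstance
  -- the stabilizer in terms of conjugate characters
  have hconjeq : ∀ (g : G) (θ θ' : IrrCharacter H),
      (∀ h h' : H, (h' : G) = g * h * g⁻¹ → (θ' : H → ℂ) h' = (θ : H → ℂ) h)
        ↔ θ' = conjIrr H θ g⁻¹ := by
    intro g θ θ'
    constructor
    · intro h
      apply Subtype.ext
      funext k
      rw [conjIrr_apply]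
      have h1 := h ⟨g⁻¹ * k * g⁻¹⁻¹, hHn.conj_mem k k.2 g⁻¹⟩ k (by simp [mul_assoc])
      exact h1
    · rintro rfl k k' hk
      rw [conjIrr_apply]
      exact congrArg (θ : H → ℂ) (Subtype.ext (by simp [hk, mul_assoc]))
  have hT' : ∀ g : G, g ∈ T ↔ ∀ θ ∈ b, conjIrr H θ g ∈ b := by
    intro g
    rw [← T.inv_mem_iff, hT g⁻¹]
    constructor
    · intro h θ hθ
      have h1 := h θ hθ (conjIrr H θ g⁻¹⁻¹) ((hconjeq g⁻¹ θ _).mpr rfl)
      rwa [inv_inv] at h1
    · intro h θ hθ θ' hθ'
      rw [(hconjeq g⁻¹ θ θ').mp hθ', inv_inv]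
      exact h θ hθ
  have hHT : H ≤ T := by
    intro x hx
    rw [hT']
    intro θ hθ
    have e : conjIrr H θ x = θ := by
      apply Subtype.ext
      funext m
      rw [conjIrr_apply]
      have h1 := isClassFunction_of_isIrrCharacter θ.2 m ⟨x, hx⟩
      rw [← h1]
      rfl
    rw [e]
    exact hθ
  -- a Sylow subgroup of the stabilizer
  obtain ⟨P⟩ : Nonempty (Sylow p T) := inferInstance
  set P' : Subgroup G := (P : Subgroup T).map T.subtype with hP'
  have hP'T : P' ≤ T := by
    rintro _ ⟨y, -, rfl⟩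
    exact y.2
  have hP'p : IsPGroup p P' := P.isPGroup'.map _
  set Q : Subgroup G := H ⊔ P' with hQ
  have hHQ : H ≤ Q := le_sup_left
  have hQT : Q ≤ T := sup_le hHT hP'T
  haveI : Fintype Q := Fintype.ofFinite Q
  set L : Subgroup Q := H.subgroupOf Q with hL
  haveI hLn : L.Normal := Subgroup.normal_subgroupOf
  haveI : Fintype L := Fintype.ofFinite L
  let φ : L ≃* H := Subgroup.subgroupOfEquivOfLe hHQ
  set c : Set (IrrCharacter L) := isoIrr φ.symm '' b with hc
  have hcb : IsPBlock M c := isPBlock_image_isoIrr φ.symm hb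
  -- the index is a power of `p`
  have hidx : ∃ k : ℕ, L.index = p ^ k := by
    have h1 : L.index = H.relIndex P' := by
      change H.relIndex Q = _
      rw [hQ, Subgroup.relIndex_sup_left]
    have h2 : H.relIndex P' ∣ Nat.card P' := Subgroup.relIndex_dvd_card H P'
    obtain ⟨n, hn⟩ := IsPGroup.iff_card.mp hP'p
    rw [hn] at h2
    obtain ⟨j, -, hj⟩ := (Nat.dvd_prime_pow hp).mp h2
    exact ⟨j, by rw [h1, hj]⟩
  -- conjugation in `Q` and in `G`
  have hconj : ∀ (x : Q) (η : IrrCharacter H),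
      conjIrr L (isoIrr φ.symm η) x = isoIrr φ.symm (conjIrr H η (x : G)) := by
    intro x η
    apply Subtype.ext
    funext n'
    rw [conjIrr_apply]
    rfl
  have hst : ∀ x : Q, StabilizesBlock L c x := by
    intro x
    refine ⟨?_, ?_⟩
    · rw [Subgroup.normalizer_eq_top]
      exact Subgroup.mem_top x
    · rintro χ ⟨η, hη, rfl⟩
      refine ⟨conjIrr L (isoIrr φ.symm η) x⁻¹, ?_, ?_⟩
      · rw [hconj]
        exact ⟨_, (hT' _).mp (hQT (x⁻¹).2) η hη, rfl⟩
      · intro k k' hk
        rw [conjIrr_apply]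
        exact congrArg (isoIrr φ.symm η : L → ℂ) (Subtype.ext (by simp [hk, mul_assoc]))
  obtain ⟨θ', ⟨θ, hθ, rfl⟩, hθ0, hfix⟩ := exists_invariant_height_zero hM L hidx c hcb hst
  refine ⟨θ, hθ, ?_, ?_⟩
  · -- height zero
    have hdeg : ∀ η : IrrCharacter H,
        charDegree (isoIrr φ.symm η : L → ℂ) = charDegree (η : H → ℂ) := by
      intro η
      unfold charDegree
      rw [isoIrr_apply, map_one]
    unfold blockHeight at hθ0 ⊢
    rw [hc, Set.image_image] at hθ0
    simp only [hdeg] at hθ0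
    exact hθ0
  · -- the stabilizer of `θ`
    have hfixG : ∀ g ∈ Q, conjIrr H θ g = θ := by
      intro g hg
      have h1 := hfix ⟨g, hg⟩
      rw [hconj] at h1
      exact (isoIrr φ.symm).injective h1
    refine ⟨T ⊓ inertia H (θ : H → ℂ), inf_le_left, ?_, ?_⟩
    · intro g
      rw [Subgroup.mem_inf, mem_inertia]
      apply and_congr Iff.rfl
      constructor
      · intro h k k' hk
        have h1 := congrFun h k
        rw [Cfsg.Agent.Lib.Helper2.conjFun_apply] at h1
        have e : k' = ⟨g * k * g⁻¹, hHn.conj_mem k k.2 g⟩ := Subtype.ext hk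
        rw [e]
        exact h1
      · intro h
        funext k
        rw [Cfsg.Agent.Lib.Helper2.conjFun_apply]
        exact h k ⟨g * k * g⁻¹, hHn.conj_mem k k.2 g⟩ rfl
    · have hP'S : P' ≤ T ⊓ inertia H (θ : H → ℂ) := by
        refine le_inf hP'T ?_
        intro g hg
        rw [mem_inertia]
        have h1 := hfixG g ((le_sup_right : P' ≤ Q) hg)
        exact congrArg Subtype.val h1
      have h2 := Subgroup.relIndex_dvd_of_le_left T hP'S
      have h3 : P'.relIndex T = (P : Subgroup T).index := by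
        unfold Subgroup.relIndex
        congr 1
        rw [hP']
        exact Subgroup.comap_map_eq_self_of_injective T.subtype_injective _
      rw [h3] at h2
      intro hdvd
      exact P.not_dvd_index (hdvd.trans h2)

end Cfsg.Agent.S4723
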