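import Cfsg.Statements.S4736
import Mathlib
import Cfsg.Agent.Lib.Helper8.PrincipalQuot2
import Cfsg.Agent.S0942
import Cfsg.Agent.S0915
import Cfsg.Agent.S4713
import Cfsg.Agent.Lib.Helper1.Cores
import Cfsg.Agent.Lib.Helper6.PSolv3
import Cfsg.Agent.Lib.Helper2.PResSquares

set_option autoImplicit false
open Cfsg

namespace Cfsg.Agent.S4736

open Cfsg.Agent.Lib.Helper2 Cfsg.Agent.Lib.Helper25 Cfsg.Agent.Lib.Helper8 Cfsg.Agent.Lib.Helper1 Cfsg.Agent.Lib.Helper6 in
/-- Let p be a prime, M a maximal ideal of the algebraic integers containing p, and G a finite p-solvable group with Sylow p-subgroup P. Then P is abelian if and only if every irreducible character in the principal p-block of G has height zero. -/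
theorem result {G : Type*} [Group G] [Finite G] (p : ℕ) [Fact p.Prime] (M : Ideal Cfsg.AlgInt) (hM : Cfsg.IsPModular p M) (hsolv : Cfsg.IsPSolvable p G) (P : Sylow p G) : IsMulCommutative P ↔ ∀ χ ∈ Cfsg.principalBlock M G, Cfsg.blockHeight p (Cfsg.principalBlock M G) (χ : G → ℂ) = 0 := by
  classical
  have hp : p.Prime := Fact.out
  have hpr := isPrime_of_isPModular hM
  have hN : ¬ p ∣ Nat.card (pPrimeCore p G) := by
    have h1 := Cfsg.Agent.Lib.Helper1.pPrimeCore_coprime (G := G) p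
    intro hdvd
    have h2 := Nat.Coprime.eq_one_of_dvd h1.symm hdvd
    exact hp.one_lt.ne' h2
  have hker : ∀ χ ∈ principalBlock M G, ∀ n ∈ pPrimeCore p G,
      (χ : G → ℂ) n = (χ : G → ℂ) 1 :=
    fun χ hχ => Cfsg.Agent.S0942.principal_kernel p M hM χ hχ
  have hbij := principal_bijOn hM (pPrimeCore p G) hN hker
  have hsolv' : IsPSolvable p (G ⧸ pPrimeCore p G) := isPSolvable_quotient hp _ hsolv
  have hcore' : pPrimeCore p (G ⧸ pPrimeCore p G) = ⊥ := pPrimeCore_quotient_pPrimeCore_eq_bot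
  have hall : ∀ ψ : IrrCharacter (G ⧸ pPrimeCore p G),
      ψ ∈ principalBlock M (G ⧸ pPrimeCore p G) := fun ψ =>
    Cfsg.Agent.S0915.result p M hM hsolv' hcore' ⟨fun _ => 1, isIrrCharacter_one⟩ ψ
  have hone : (⟨fun _ => 1, isIrrCharacter_one⟩ : IrrCharacter G) ∈ principalBlock M G :=
    sameBlock_refl M _
  have hinf : sInf ((fun χ : IrrCharacter G => (charDegree (χ : G → ℂ)).factorization p)
      '' principalBlock M G) = 0 := by
    apply Nat.eq_zero_of_le_zero
    apply Nat.sInf_le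
    refine ⟨⟨fun _ => 1, isIrrCharacter_one⟩, hone, ?_⟩
    show (charDegree (fun _ : G => (1 : ℂ))).factorization p = 0
    have h1 : charDegree (fun _ : G => (1 : ℂ)) = 1 := by simp [charDegree]
    rw [h1]
    simp
  have hheight : ∀ χ : IrrCharacter G,
      blockHeight p (principalBlock M G) (χ : G → ℂ) = 0 ↔ ¬ p ∣ charDegree (χ : G → ℂ) := by
    intro χ
    unfold blockHeight
    rw [hinf, Nat.sub_zero]
    obtain ⟨d, hd0, hd⟩ := irr_apply_one χ.2
    have hdeg : charDegree (χ : G → ℂ) = d := charDegree_eq_of_apply_one _ d hd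
    rw [hdeg, Nat.factorization_eq_zero_iff]
    constructor
    · rintro (h | h | h)
      · exact absurd hp h
      · exact h
      · omega
    · intro h
      exact Or.inr (Or.inl h)
  have hπ : Function.Surjective (QuotientGroup.mk' (pPrimeCore p G)) :=
    QuotientGroup.mk'_surjective _
  have hPb : ((P.mapSurjective hπ : Sylow p (G ⧸ pPrimeCore p G)) :
      Subgroup (G ⧸ pPrimeCore p G)) = (P : Subgroup G).map (QuotientGroup.mk' (pPrimeCore p G)) :=
    Sylow.coe_mapSurjective hπ P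
  have h13 := Cfsg.Agent.S4713.result p hsolv' (P.mapSurjective hπ)
  have hR : (∀ χ ∈ principalBlock M G, blockHeight p (principalBlock M G) (χ : G → ℂ) = 0)
      ↔ ∀ ψ : IrrCharacter (G ⧸ pPrimeCore p G),
        ¬ p ∣ charDegree (ψ : G ⧸ pPrimeCore p G → ℂ) := by
    constructor
    · intro h ψ
      have h1 := h _ (hbij.1 (hall ψ))
      rw [hheight] at h1
      exact h1
    · intro h χ hχ
      obtain ⟨ψ, -, rfl⟩ := hbij.2.2 hχ
      rw [hheight]
      exact h ψ
  rw [hR, ← h13]
  constructor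
  · intro hc
    have hcb : ∀ a ∈ ((P.mapSurjective hπ : Sylow p (G ⧸ pPrimeCore p G)) :
        Subgroup (G ⧸ pPrimeCore p G)), ∀ b ∈ ((P.mapSurjective hπ :
        Sylow p (G ⧸ pPrimeCore p G)) : Subgroup (G ⧸ pPrimeCore p G)), a * b = b * a := by
      intro a ha b hb
      rw [hPb] at ha hb
      obtain ⟨a', ha', rfl⟩ := ha
      obtain ⟨b', hb', rfl⟩ := hb
      have h1 := congrArg Subtype.val (hc.is_comm.comm (⟨a', ha'⟩ : P) ⟨b', hb'⟩)
      have h2 : a' * b' = b' * a' := h1
      rw [← map_mul, ← map_mul, h2]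
    have hHH := centralizer_pCore_le_of_isPSolvable hsolv' hcore'
    have hle : pCore p (G ⧸ pPrimeCore p G)
        ≤ ((P.mapSurjective hπ : Sylow p (G ⧸ pPrimeCore p G)) :
          Subgroup (G ⧸ pPrimeCore p G)) := pCore_le_sylow _
    have hPle : ((P.mapSurjective hπ : Sylow p (G ⧸ pPrimeCore p G)) :
        Subgroup (G ⧸ pPrimeCore p G)) ≤ pCore p (G ⧸ pPrimeCore p G) := by
      intro x hx
      apply hHH
      rw [Subgroup.mem_centralizer_iff]
      intro y hy
      exact hcb y (hle hy) x hx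
    have heq := le_antisymm hPle hle
    refine ⟨?_, ⟨⟨fun a b => Subtype.ext (hcb a a.2 b b.2)⟩⟩⟩
    rw [heq]
    exact Cfsg.Agent.Lib.Helper1.pCore_normal p
  · rintro ⟨-, hc⟩
    refine ⟨⟨fun a b => ?_⟩⟩
    apply Subtype.ext
    have hab : (QuotientGroup.mk' (pPrimeCore p G)) ((a : G) * b)
        = (QuotientGroup.mk' (pPrimeCore p G)) ((b : G) * a) := by
      rw [map_mul, map_mul]
      have ha : (QuotientGroup.mk' (pPrimeCore p G)) (a : G)
          ∈ ((P.mapSurjective hπ : Sylow p (G ⧸ pPrimeCore p G)) :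
            Subgroup (G ⧸ pPrimeCore p G)) := by
        rw [hPb]
        exact Subgroup.mem_map_of_mem _ a.2
      have hb : (QuotientGroup.mk' (pPrimeCore p G)) (b : G)
          ∈ ((P.mapSurjective hπ : Sylow p (G ⧸ pPrimeCore p G)) :
            Subgroup (G ⧸ pPrimeCore p G)) := by
        rw [hPb]
        exact Subgroup.mem_map_of_mem _ b.2
      exact congrArg Subtype.val (hc.is_comm.comm
        (⟨_, ha⟩ : (P.mapSurjective hπ : Sylow p (G ⧸ pPrimeCore p G))) ⟨_, hb⟩)
    have hmem : ((a : G) * b)⁻¹ * ((b : G) * a) ∈ pPrimeCore p G :=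
      (QuotientGroup.eq (s := pPrimeCore p G)).mp hab
    have hmemP : ((a : G) * b)⁻¹ * ((b : G) * a) ∈ (P : Subgroup G) :=
      mul_mem (inv_mem (mul_mem a.2 b.2)) (mul_mem b.2 a.2)
    have hdisj : (P : Subgroup G) ⊓ pPrimeCore p G = ⊥ := by
      apply disjoint_iff.mp
      apply Subgroup.disjoint_of_coprime_natCard
      obtain ⟨n, hn⟩ := IsPGroup.iff_card.mp P.isPGroup'
      rw [hn]
      exact Nat.Coprime.pow_left n ((Nat.Prime.coprime_iff_not_dvd hp).mpr hN)
    have h1 : ((a : G) * b)⁻¹ * ((b : G) * a) = 1 := by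
      have h2 : ((a : G) * b)⁻¹ * ((b : G) * a) ∈ (P : Subgroup G) ⊓ pPrimeCore p G :=
        ⟨hmemP, hmem⟩
      rw [hdisj] at h2
      exact Subgroup.mem_bot.mp h2
    exact inv_mul_eq_one.mp h1

end Cfsg.Agent.S4736
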