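import Mathlib
import Cfsg.Statements.S4762
import Cfsg.Agent.Lib.Helper2.OneNonlin

set_option autoImplicit false

open Cfsg

namespace Cfsg.Agent.S4762

open Cfsg.Agent.Lib.Helper2

/-- Let p be a prime and G a finite nilpotent group. Then G has exactly one irreducible complex character of degree divisible by p if and only if p = 2 and G is an extraspecial 2-group. -/
theorem result {G : Type*} [Group G] [Finite G] [Group.IsNilpotent G] (p : ℕ) [Fact p.Prime] : Nat.card {χ : Cfsg.IrrCharacter G // p ∣ Cfsg.charDegree (χ : G → ℂ)} = 1 ↔ (p = 2 ∧ Cfsg.IsExtraspecial 2 G) := by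
  classical
  haveI := Fintype.ofFinite G
  have hdeg : ∀ (χ : Cfsg.IrrCharacter G) (d : ℕ), (χ : G → ℂ) 1 = (d : ℂ) →
      Cfsg.charDegree (χ : G → ℂ) = d := by
    intro χ d hd
    unfold Cfsg.charDegree
    rw [hd]
    simp
  have hpp : p.Prime := Fact.out
  constructor
  · intro hcard
    rw [Nat.card_eq_one_iff_unique] at hcard
    obtain ⟨hsub, ⟨⟨χ₀, hχ₀⟩⟩⟩ := hcard
    obtain ⟨d₀, hd₀pos, hd₀⟩ := irr_apply_one χ₀.2
    have hχ₀' : p ∣ d₀ := by
      rw [hdeg χ₀ d₀ hd₀] at hχ₀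
      exact hχ₀
    have huniq : ∀ (ψ : Cfsg.IrrCharacter G) (d : ℕ), (ψ : G → ℂ) 1 = (d : ℂ) → p ∣ d →
        ψ = χ₀ := by
      intro ψ d hd hpd
      have h1 : (⟨ψ, by rw [hdeg ψ d hd]; exact hpd⟩ :
          {χ : Cfsg.IrrCharacter G // p ∣ Cfsg.charDegree (χ : G → ℂ)}) = ⟨χ₀, hχ₀⟩ :=
        Subsingleton.elim _ _
      exact congrArg Subtype.val h1
    have hPG := isPGroup_of_unique_pdiv p χ₀ d₀ hd₀ hχ₀' huniq
    obtain ⟨n, hn⟩ := IsPGroup.iff_card.mp hPG
    apply extraspecial_of_unique_nonlinear p hPG χ₀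
    · rw [hd₀]
      intro h
      have h2 : d₀ = 1 := by exact_mod_cast h
      rw [h2] at hχ₀'
      exact hpp.one_lt.ne' (Nat.dvd_one.mp hχ₀')
    · intro ψ hψ1
      obtain ⟨d, hdpos, hd⟩ := irr_apply_one ψ.2
      apply huniq ψ d hd
      have hdvd : d ∣ p ^ n := by
        rw [← hn]
        exact irr_deg_dvd_card' ψ.2 d hd
      obtain ⟨j, hj, rfl⟩ := (Nat.dvd_prime_pow hpp).mp hdvd
      rcases Nat.eq_zero_or_pos j with h0 | hjpos
      · exfalso
        rw [h0, pow_zero] at hd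
        apply hψ1
        rw [hd]
        simp
      · exact dvd_pow_self p hjpos.ne'
  · rintro ⟨rfl, ⟨⟨hPG, -, hcomm⟩, hZ2⟩⟩
    obtain ⟨χ₀, hχ₀1, huniq⟩ := unique_nonlinear_of_extraspecial hcomm hZ2
    rw [Nat.card_eq_one_iff_unique]
    obtain ⟨n, hn⟩ := IsPGroup.iff_card.mp hPG
    have h1 : ∀ (ψ : Cfsg.IrrCharacter G), 2 ∣ Cfsg.charDegree (ψ : G → ℂ) → ψ = χ₀ := by
      intro ψ hψ
      apply huniq
      intro h
      rw [hdeg ψ 1 (by rw [h]; simp)] at hψ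
      omega
    constructor
    · constructor
      rintro ⟨a, ha⟩ ⟨b, hb⟩
      apply Subtype.ext
      exact (h1 a ha).trans (h1 b hb).symm
    · obtain ⟨d, hdpos, hd⟩ := irr_apply_one χ₀.2
      refine ⟨⟨χ₀, ?_⟩⟩
      rw [hdeg χ₀ d hd]
      have hdvd : d ∣ 2 ^ n := by
        rw [← hn]
        exact irr_deg_dvd_card' χ₀.2 d hd
      obtain ⟨j, hj, rfl⟩ := (Nat.dvd_prime_pow Nat.prime_two).mp hdvd
      rcases Nat.eq_zero_or_pos j with h0 | hjpos
      · exfalso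
        apply hχ₀1
        rw [hd, h0]
        simp
      · exact dvd_pow_self 2 hjpos.ne'

end Cfsg.Agent.S4762
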