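import Mathlib
import Cfsg.Statements.S4763
import Cfsg.Agent.Lib.Helper2.PSing2

set_option autoImplicit false

open Cfsg

namespace Cfsg.Agent.S4763

open Cfsg.Agent.Lib.Helper2

/-- Let p be a prime and G a finite group that is not nilpotent and has a normal p-complement (a normal subgroup of order prime to p and index a power of p). If G has exactly one irreducible complex character of degree divisible by p, then G has exactly one conjugacy class whose size is divisible by p. -/
theorem result {G : Type*} [Group G] [Finite G] (p : ℕ) [Fact p.Prime] (hnil : ¬ Group.IsNilpotent G) (N : Subgroup G) [N.Normal] (hN : (Nat.card N).Coprime p) (hidx : ∃ k : ℕ, N.index = p ^ k) (hone : Nat.card {χ : Cfsg.IrrCharacter G // p ∣ Cfsg.charDegree (χ : G → ℂ)} = 1) : Nat.card {C : ConjClasses G // p ∣ Nat.card C.carrier} = 1 := by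
  classical
  have hp : p.Prime := Fact.out
  obtain ⟨k, hk⟩ := hidx
  obtain ⟨P⟩ := (inferInstance : Nonempty (Sylow p G))
  have hP : IsPGroup p (P : Subgroup G) := P.isPGroup'
  have hpN : ¬ p ∣ Nat.card N := by
    intro h
    have h1 := Nat.dvd_gcd h (dvd_refl p)
    rw [Nat.Coprime.gcd_eq_one hN] at h1
    exact hp.one_lt.ne' (Nat.dvd_one.mp h1)
  have hcardG : Nat.card G = Nat.card N * p ^ k := by
    rw [← Subgroup.card_mul_index N, hk]
  have hPcard : Nat.card (P : Subgroup G) = p ^ k := by
    rw [Sylow.card_eq_multiplicity, hcardG,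
      Nat.factorization_mul Nat.card_pos.ne' (pow_pos hp.pos k).ne']
    congr 1
    rw [Finsupp.add_apply, Nat.factorization_eq_zero_of_not_dvd hpN, zero_add,
      Nat.Prime.factorization_pow hp, Finsupp.single_eq_same]
  have hcopNP : (Nat.card N).Coprime (Nat.card (P : Subgroup G)) := by
    rw [hPcard]
    exact Nat.Coprime.pow_right k hN
  have hsup : N ⊔ (P : Subgroup G) = ⊤ := by
    apply Subgroup.eq_top_of_le_card
    have h1 : Nat.card N ∣ Nat.card ↥(N ⊔ (P : Subgroup G)) := Subgroup.card_dvd_of_le le_sup_left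
    have h2 : Nat.card (P : Subgroup G) ∣ Nat.card ↥(N ⊔ (P : Subgroup G)) :=
      Subgroup.card_dvd_of_le le_sup_right
    have h3 := Nat.Coprime.mul_dvd_of_dvd_of_dvd hcopNP h1 h2
    rw [hPcard, ← hcardG] at h3
    exact Nat.le_of_dvd Nat.card_pos h3
  have hNbot : N ≠ ⊥ := by
    rintro rfl
    apply hnil
    rw [bot_sup_eq] at hsup
    have hG : IsPGroup p G := by
      intro g
      obtain ⟨j, hj⟩ := hP ⟨g, hsup ▸ Subgroup.mem_top g⟩
      exact ⟨j, congrArg Subtype.val hj⟩
    exact hG.isNilpotent
  exact Cfsg.Agent.Lib.Helper2.unique_psing_class p N (P : Subgroup G) hsup hP hN hNbot hone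

end Cfsg.Agent.S4763
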