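import Cfsg.Statements.S4765
import Cfsg.Agent.S2299
import Cfsg.Agent.S2300
import Cfsg.Agent.Lib.Helper25.Quot
import Cfsg.Agent.Lib.Helper15.SL2Chars


set_option autoImplicit false
open Cfsg

namespace Cfsg.Agent.S4765

open Cfsg.Agent.Lib.Helper15 Cfsg.Agent.Lib.Helper25

theorem stS_center {F : Type*} [Field F] [Fintype F] [DecidableEq F]
    (z : Matrix.SpecialLinearGroup (Fin 2) F)
    (hz : z ∈ Subgroup.center (Matrix.SpecialLinearGroup (Fin 2) F)) :
    stS (F := F) z = stS (F := F) 1 := by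
  rw [stS_one]
  obtain ⟨r, hr, hrz⟩ := Matrix.SpecialLinearGroup.mem_center_iff.mp hz
  have hr0 : r ≠ 0 := by
    intro h
    rw [h] at hr
    simp at hr
  have h00 : (z : Matrix (Fin 2) (Fin 2) F) 0 0 = r := by rw [← hrz]; simp
  have h01 : (z : Matrix (Fin 2) (Fin 2) F) 0 1 = 0 := by rw [← hrz]; simp
  have h10 : (z : Matrix (Fin 2) (Fin 2) F) 1 0 = 0 := by rw [← hrz]; simp
  have h11 : (z : Matrix (Fin 2) (Fin 2) F) 1 1 = r := by rw [← hrz]; simp
  unfold stS
  rw [Pi.sub_apply, piS_apply, indVal_eq, h00, h01, h10, h11]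
  simp [MulChar.one_apply (isUnit_iff_ne_zero.mpr hr0)]

theorem deg_nat {G : Type*} [Group G] (ψ : G → ℂ) (m : ℕ) (h : ψ 1 = (m : ℂ)) :
    Cfsg.charDegree ψ = m := by
  unfold Cfsg.charDegree
  rw [h, Complex.natCast_re, Nat.floor_natCast]

theorem not_dvd_one {p : ℕ} (hp : p.Prime) (h : p ∣ 1) : False :=
  absurd (Nat.dvd_one.mp h) hp.one_lt.ne'

theorem key {p : ℕ} [Fact p.Prime] {F : Type*} [Field F] [Fintype F] [CharP F p]
    (hF : 4 ≤ Fintype.card F) :
    (∀ ψ : Matrix.SpecialLinearGroup (Fin 2) F → ℂ,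
      Cfsg.IsIrrCharacter (Matrix.SpecialLinearGroup (Fin 2) F) ψ → p ∣ Cfsg.charDegree ψ →
        ψ 1 = (Fintype.card F : ℂ)) ∧
    Nat.card {χ : Cfsg.IrrCharacter (Matrix.SpecialLinearGroup (Fin 2) F) //
      (χ : Matrix.SpecialLinearGroup (Fin 2) F → ℂ) 1 = (Fintype.card F : ℂ)} = 1 := by
  have hp : p.Prime := Fact.out
  obtain ⟨n, -, hq⟩ := FiniteField.card F p
  have hpq : p ∣ Fintype.card F := by rw [hq]; exact dvd_pow_self p n.ne_zero
  have hsub : ((Fintype.card F : ℂ) - 1) = ((Fintype.card F - 1 : ℕ) : ℂ) := by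
    rw [Nat.cast_sub (by omega)]; simp
  have hadd : ((Fintype.card F : ℂ) + 1) = ((Fintype.card F + 1 : ℕ) : ℂ) := by
    push_cast; ring
  have hm1 : ∀ ψ : Matrix.SpecialLinearGroup (Fin 2) F → ℂ, ψ 1 = (Fintype.card F : ℂ) - 1 →
      p ∣ Cfsg.charDegree ψ → False := by
    intro ψ h hd
    rw [deg_nat ψ (Fintype.card F - 1) (by rw [h, hsub])] at hd
    have h3 : p ∣ (Fintype.card F - 1) + 1 := by
      rw [Nat.sub_add_cancel (by omega)]; exact hpq
    exact not_dvd_one hp ((Nat.dvd_add_right hd).mp h3)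
  have hp1 : ∀ ψ : Matrix.SpecialLinearGroup (Fin 2) F → ℂ, ψ 1 = (Fintype.card F : ℂ) + 1 →
      p ∣ Cfsg.charDegree ψ → False := by
    intro ψ h hd
    rw [deg_nat ψ (Fintype.card F + 1) (by rw [h, hadd])] at hd
    exact not_dvd_one hp ((Nat.dvd_add_right hpq).mp hd)
  have h1 : ∀ ψ : Matrix.SpecialLinearGroup (Fin 2) F → ℂ, ψ 1 = 1 →
      p ∣ Cfsg.charDegree ψ → False := by
    intro ψ h hd
    rw [deg_nat ψ 1 (by rw [h]; simp)] at hd
    exact not_dvd_one hp hd
  by_cases h2 : p = 2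
  · subst h2
    obtain ⟨hdeg, hcnt⟩ := Cfsg.Agent.S2300.result (F := F)
    refine ⟨fun ψ hψ hd => ?_, (hcnt hF).2.1⟩
    rcases hdeg ψ hψ with h | h | h | h
    · exact (h1 ψ h hd).elim
    · exact (hm1 ψ h hd).elim
    · exact h
    · exact (hp1 ψ h hd).elim
  · have hoddp : Odd p := hp.odd_of_ne_two h2
    have hoddq : Odd (Fintype.card F) := by rw [hq]; exact hoddp.pow
    have h5 : 5 ≤ Fintype.card F := by
      obtain ⟨k, hk⟩ := hoddq
      omega
    obtain ⟨hdeg, hcnt⟩ := Cfsg.Agent.S2299.result (F := F) hoddq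
    refine ⟨fun ψ hψ hd => ?_, (hcnt h5).2.1⟩
    rcases hdeg ψ hψ with h | h | h | h | h | h
    · exact (h1 ψ h hd).elim
    · exact h
    · exact (hp1 ψ h hd).elim
    · exact (hm1 ψ h hd).elim
    · exfalso
      rw [deg_nat ψ _ h] at hd
      have h3 : Fintype.card F + 1 = 2 * ((Fintype.card F + 1) / 2) := by
        obtain ⟨k, hk⟩ := hoddq
        omega
      have h4 : p ∣ Fintype.card F + 1 := by rw [h3]; exact Dvd.dvd.mul_left hd 2
      exact not_dvd_one hp ((Nat.dvd_add_right hpq).mp h4)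
    · exfalso
      rw [deg_nat ψ _ h] at hd
      have h3 : Fintype.card F - 1 = 2 * ((Fintype.card F - 1) / 2) := by
        obtain ⟨k, hk⟩ := hoddq
        omega
      have h4 : p ∣ Fintype.card F - 1 := by rw [h3]; exact Dvd.dvd.mul_left hd 2
      have h6 : p ∣ (Fintype.card F - 1) + 1 := by
        rw [Nat.sub_add_cancel (by omega)]; exact hpq
      exact not_dvd_one hp ((Nat.dvd_add_right h4).mp h6)

/-- Let F be a finite field of characteristic p with at least 4 elements. Then PSL(2,F) has exactly one irreducible complex character of degree divisible by p, and its degree is the order of F. -/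
theorem result (p : ℕ) [Fact p.Prime] (F : Type*) [Field F] [Fintype F] [CharP F p] (hF : 4 ≤ Fintype.card F) : Nat.card {χ : Cfsg.IrrCharacter (Matrix.ProjectiveSpecialLinearGroup (Fin 2) F) // p ∣ Cfsg.charDegree (χ : Matrix.ProjectiveSpecialLinearGroup (Fin 2) F → ℂ)} = 1 ∧ ∀ χ : Cfsg.IrrCharacter (Matrix.ProjectiveSpecialLinearGroup (Fin 2) F), p ∣ Cfsg.charDegree (χ : Matrix.ProjectiveSpecialLinearGroup (Fin 2) F → ℂ) → Cfsg.charDegree (χ : Matrix.ProjectiveSpecialLinearGroup (Fin 2) F → ℂ) = Fintype.card F := by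
  classical
  obtain ⟨hkey, hcnt⟩ := key (p := p) (F := F) hF
  obtain ⟨n, -, hq⟩ := FiniteField.card F p
  have hpq : p ∣ Fintype.card F := by rw [hq]; exact dvd_pow_self p n.ne_zero
  have hfin : Finite (Matrix.SpecialLinearGroup (Fin 2) F) := inferInstance
  have hinf : ∀ χ : Cfsg.IrrCharacter (Matrix.ProjectiveSpecialLinearGroup (Fin 2) F),
      p ∣ Cfsg.charDegree (χ : Matrix.ProjectiveSpecialLinearGroup (Fin 2) F → ℂ) →
      (χ : Matrix.ProjectiveSpecialLinearGroup (Fin 2) F → ℂ) 1 = (Fintype.card F : ℂ) := by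
    intro χ hd
    have h1 := inflate_irr (Subgroup.center (Matrix.SpecialLinearGroup (Fin 2) F)) χ.2
    exact hkey _ h1 hd
  refine ⟨Nat.card_eq_one_iff_unique.mpr ⟨⟨fun a b => ?_⟩, ?_⟩, fun χ hd => deg_nat _ _ (hinf χ hd)⟩
  · obtain ⟨hsub, -⟩ := Nat.card_eq_one_iff_unique.mp hcnt
    have hAB := hsub.elim
      (⟨⟨fun g : Matrix.SpecialLinearGroup (Fin 2) F =>
          (a.1 : Matrix.ProjectiveSpecialLinearGroup (Fin 2) F → ℂ) (g : Matrix.ProjectiveSpecialLinearGroup (Fin 2) F),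
          inflate_irr (Subgroup.center (Matrix.SpecialLinearGroup (Fin 2) F)) a.1.2⟩, hinf a.1 a.2⟩ :
        {χ : Cfsg.IrrCharacter (Matrix.SpecialLinearGroup (Fin 2) F) //
          (χ : Matrix.SpecialLinearGroup (Fin 2) F → ℂ) 1 = (Fintype.card F : ℂ)})
      ⟨⟨fun g : Matrix.SpecialLinearGroup (Fin 2) F =>
          (b.1 : Matrix.ProjectiveSpecialLinearGroup (Fin 2) F → ℂ) (g : Matrix.ProjectiveSpecialLinearGroup (Fin 2) F),
          inflate_irr (Subgroup.center (Matrix.SpecialLinearGroup (Fin 2) F)) b.1.2⟩, hinf b.1 b.2⟩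
    have h3 := congrArg (fun x => (x.1 : Matrix.SpecialLinearGroup (Fin 2) F → ℂ)) hAB
    apply Subtype.ext
    apply Subtype.ext
    funext x
    obtain ⟨g, rfl⟩ := QuotientGroup.mk_surjective x
    exact congrFun h3 g
  · obtain ⟨ψ, hψ, hψv⟩ := deflate_irr (Subgroup.center (Matrix.SpecialLinearGroup (Fin 2) F))
      (stS_irr (F := F)) (fun z hz => stS_center z hz)
    have h1 : ψ 1 = (Fintype.card F : ℂ) := by
      have h := hψv 1
      rw [stS_one] at h
      exact h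
    refine ⟨⟨⟨ψ, hψ⟩, ?_⟩⟩
    rw [deg_nat ψ _ h1]
    exact hpq

end Cfsg.Agent.S4765
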