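import Cfsg.Statements.S4774
import Mathlib
import Cfsg.Agent.S2299
import Cfsg.Agent.S4765
import Cfsg.Agent.Lib.Helper25.Quot
import Cfsg.Agent.Lib.Helper15.GL2Count
import Cfsg.Agent.Lib.Helper15.GL2Centralizer
import Cfsg.Agent.Lib.Helper2.CharLinear
import Cfsg.Agent.Lib.Helper2.CharBridge
import Cfsg.Agent.Lib.Helper2.CharDecomp
import Cfsg.Agent.Lib.Helper24.PSLCount

set_option autoImplicit false
open Cfsg

namespace Cfsg.Agent.S4774

open Cfsg.Agent.Lib.Helper2 Cfsg.Agent.Lib.Helper25 Cfsg.Agent.Lib.Helper15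
open scoped ComplexConjugate

theorem irr_comp_iso {K H : Type*} [Group K] [Group H] [Finite K] [Finite H] {χ : H → ℂ}
    (hχ : Cfsg.IsIrrCharacter H χ) (φ : K ≃* H) : Cfsg.IsIrrCharacter K (χ ∘ φ) := by
  classical
  have : Fintype K := Fintype.ofFinite K
  have : Fintype H := Fintype.ofFinite H
  have h1 := classInner_irr_self hχ
  obtain ⟨n, ρ, hρ, rfl⟩ := hχ
  have hc : Cfsg.IsCharacter K (ρ.character ∘ φ) := ⟨n, ρ.comp φ.toMonoidHom, rfl⟩
  apply isIrrCharacter_of_norm_one hc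
  rw [← h1, classInner_def, classInner_def]
  have hcard : Nat.card K = Nat.card H := Nat.card_congr φ.toEquiv
  rw [hcard]
  congr 1
  exact Fintype.sum_equiv φ.toEquiv _ _ (fun g => rfl)

theorem charDegrees_congr {K H : Type*} [Group K] [Group H] [Finite K] [Finite H] (φ : K ≃* H) :
    Cfsg.charDegrees K = Cfsg.charDegrees H := by
  ext d
  constructor
  · rintro ⟨χ, rfl⟩
    refine ⟨⟨(χ : K → ℂ) ∘ φ.symm, irr_comp_iso χ.2 φ.symm⟩, ?_⟩
    unfold Cfsg.charDegree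
    simp
  · rintro ⟨χ, rfl⟩
    refine ⟨⟨(χ : H → ℂ) ∘ φ, irr_comp_iso χ.2 φ⟩, ?_⟩
    unfold Cfsg.charDegree
    simp

theorem deg_nat' {G : Type*} [Group G] (ψ : G → ℂ) (m : ℕ) (h : ψ 1 = (m : ℂ)) :
    Cfsg.charDegree ψ = m := by
  unfold Cfsg.charDegree
  rw [h, Complex.natCast_re, Nat.floor_natCast]

theorem sq_sub_one (q : ℕ) (hq : 1 ≤ q) : q ^ 2 - 1 = (q - 1) * (q + 1) := by
  obtain ⟨k, rfl⟩ := Nat.exists_eq_add_of_le hq
  have h1 : (1 + k) ^ 2 = k * (1 + k + 1) + 1 := by ring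
  have h2 : 1 + k - 1 = k := by omega
  rw [h2, h1]
  omega

theorem graph_of_degrees {S : Type*} [Group S] (q t n : ℕ) (ht : t.Prime) (hqt : q = t ^ n)
    (hodd : Odd q) (h5 : 5 < q)
    (hsub : ∀ d ∈ Cfsg.charDegrees S, d = 1 ∨ d = q ∨ d = q + 1 ∨ d = q - 1 ∨ d = (q + 1) / 2 ∨
      d = (q - 1) / 2)
    (hq : q ∈ Cfsg.charDegrees S) (hq1 : q + 1 ∈ Cfsg.charDegrees S)
    (hq2 : q - 1 ∈ Cfsg.charDegrees S) :
    Cfsg.degreePrimes S = {r : ℕ | r.Prime ∧ r ∣ q * (q ^ 2 - 1)} ∧ ∀ r s : ℕ,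
      (Cfsg.degreeGraph S).Adj r s ↔ (r ≠ s ∧ r.Prime ∧ s.Prime ∧ r ∣ q ^ 2 - 1 ∧ s ∣ q ^ 2 - 1 ∧
        (r = 2 ∨ s = 2 ∨ (r ∣ q + 1 ∧ s ∣ q + 1) ∨ (r ∣ q - 1 ∧ s ∣ q - 1))) := by
  have hfac : q ^ 2 - 1 = (q - 1) * (q + 1) := sq_sub_one q (by omega)
  have hhalf1 : q + 1 = 2 * ((q + 1) / 2) := by
    obtain ⟨k, hk⟩ := hodd
    omega
  have hhalf2 : q - 1 = 2 * ((q - 1) / 2) := by
    obtain ⟨k, hk⟩ := hodd
    omega
  have hp1 : ∀ r : ℕ, r ∣ q + 1 → r ∣ q ^ 2 - 1 := fun r h => by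
    rw [hfac]
    exact Dvd.dvd.mul_left h _
  have hm1 : ∀ r : ℕ, r ∣ q - 1 → r ∣ q ^ 2 - 1 := fun r h => by
    rw [hfac]
    exact Dvd.dvd.mul_right h _
  have hh1 : ∀ r : ℕ, r ∣ (q + 1) / 2 → r ∣ q + 1 := fun r h => by
    rw [hhalf1]
    exact Dvd.dvd.mul_left h _
  have hh2 : ∀ r : ℕ, r ∣ (q - 1) / 2 → r ∣ q - 1 := fun r h => by
    rw [hhalf2]
    exact Dvd.dvd.mul_left h _
  have h2p : 2 ∣ q + 1 := by
    rw [hhalf1]
    exact Dvd.intro _ rfl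
  have h2m : 2 ∣ q - 1 := by
    rw [hhalf2]
    exact Dvd.intro _ rfl
  have hprimeq : ∀ r : ℕ, r.Prime → r ∣ q → r = t := by
    intro r hr hrq
    rw [hqt] at hrq
    exact (Nat.prime_dvd_prime_iff_eq hr ht).1 (hr.dvd_of_dvd_pow hrq)
  constructor
  · ext r
    constructor
    · rintro ⟨hr, d, hd, hrd⟩
      refine ⟨hr, ?_⟩
      rcases hsub d hd with h | h | h | h | h | h
      · rw [h] at hrd
        exact absurd (Nat.dvd_one.1 hrd) hr.one_lt.ne'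
      · rw [h] at hrd
        exact Dvd.dvd.mul_right hrd _
      · rw [h] at hrd
        exact Dvd.dvd.mul_left (hp1 r hrd) _
      · rw [h] at hrd
        exact Dvd.dvd.mul_left (hm1 r hrd) _
      · rw [h] at hrd
        exact Dvd.dvd.mul_left (hp1 r (hh1 r hrd)) _
      · rw [h] at hrd
        exact Dvd.dvd.mul_left (hm1 r (hh2 r hrd)) _
    · rintro ⟨hr, hrd⟩
      refine ⟨hr, ?_⟩
      rw [hfac] at hrd
      rcases (Nat.Prime.dvd_mul hr).1 hrd with h | h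
      · exact ⟨q, hq, h⟩
      · rcases (Nat.Prime.dvd_mul hr).1 h with h' | h'
        · exact ⟨q - 1, hq2, h'⟩
        · exact ⟨q + 1, hq1, h'⟩
  · intro r s
    constructor
    · rintro ⟨hne, hr, hs, d, hd, hrs⟩
      have hrd : r ∣ d := Dvd.dvd.trans (Dvd.intro _ rfl) hrs
      have hsd : s ∣ d := Dvd.dvd.trans (Dvd.intro_left _ rfl) hrs
      rcases hsub d hd with h | h | h | h | h | h
      · rw [h] at hrd
        exact absurd (Nat.dvd_one.1 hrd) hr.one_lt.ne'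
      · rw [h] at hrd hsd
        exact absurd ((hprimeq r hr hrd).trans (hprimeq s hs hsd).symm) hne
      · rw [h] at hrd hsd
        exact ⟨hne, hr, hs, hp1 r hrd, hp1 s hsd, Or.inr (Or.inr (Or.inl ⟨hrd, hsd⟩))⟩
      · rw [h] at hrd hsd
        exact ⟨hne, hr, hs, hm1 r hrd, hm1 s hsd, Or.inr (Or.inr (Or.inr ⟨hrd, hsd⟩))⟩
      · rw [h] at hrd hsd
        exact ⟨hne, hr, hs, hp1 r (hh1 r hrd), hp1 s (hh1 s hsd),
          Or.inr (Or.inr (Or.inl ⟨hh1 r hrd, hh1 s hsd⟩))⟩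
      · rw [h] at hrd hsd
        exact ⟨hne, hr, hs, hm1 r (hh2 r hrd), hm1 s (hh2 s hsd),
          Or.inr (Or.inr (Or.inr ⟨hh2 r hrd, hh2 s hsd⟩))⟩
    · rintro ⟨hne, hr, hs, hr1, hs1, hcases⟩
      refine ⟨hne, hr, hs, ?_⟩
      have hcop : Nat.Coprime r s := (Nat.coprime_primes hr hs).2 hne
      have hsplit : ∀ x : ℕ, x.Prime → x ∣ q ^ 2 - 1 → x ∣ q - 1 ∨ x ∣ q + 1 := by
        intro x hx hxd
        rw [hfac] at hxd
        exact (Nat.Prime.dvd_mul hx).1 hxd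
      have hplus : r ∣ q + 1 → s ∣ q + 1 → ∃ d ∈ Cfsg.charDegrees S, r * s ∣ d :=
        fun h1 h2 => ⟨q + 1, hq1, Nat.Coprime.mul_dvd_of_dvd_of_dvd hcop h1 h2⟩
      have hminus : r ∣ q - 1 → s ∣ q - 1 → ∃ d ∈ Cfsg.charDegrees S, r * s ∣ d :=
        fun h1 h2 => ⟨q - 1, hq2, Nat.Coprime.mul_dvd_of_dvd_of_dvd hcop h1 h2⟩
      rcases hcases with h | h | h | h
      · rcases hsplit s hs hs1 with h' | h'
        · exact hminus (h ▸ h2m) h'
        · exact hplus (h ▸ h2p) h'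
      · rcases hsplit r hr hr1 with h' | h'
        · exact hminus h' (h ▸ h2m)
        · exact hplus h' (h ▸ h2p)
      · exact hplus h.1 h.2
      · exact hminus h.1 h.2

theorem sl2_vals {F : Type*} [Field F] [Fintype F] (hodd : Odd (Fintype.card F))
    (χ : Matrix.SpecialLinearGroup (Fin 2) F → ℂ)
    (hχ : Cfsg.IsIrrCharacter (Matrix.SpecialLinearGroup (Fin 2) F) χ) :
    ∃ n : ℕ, χ 1 = (n : ℂ) ∧ (n = 1 ∨ n = Fintype.card F ∨ n = Fintype.card F + 1 ∨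
      n = Fintype.card F - 1 ∨ n = (Fintype.card F + 1) / 2 ∨ n = (Fintype.card F - 1) / 2) := by
  have hq1 : 1 ≤ Fintype.card F := Fintype.card_pos
  rcases (Cfsg.Agent.S2299.result (F := F) hodd).1 χ hχ with h | h | h | h | h | h
  · exact ⟨1, by rw [h]; simp, Or.inl rfl⟩
  · exact ⟨Fintype.card F, h, Or.inr (Or.inl rfl)⟩
  · exact ⟨Fintype.card F + 1, by rw [h]; push_cast; ring, Or.inr (Or.inr (Or.inl rfl))⟩
  · exact ⟨Fintype.card F - 1, by rw [h, Nat.cast_sub hq1]; simp,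
      Or.inr (Or.inr (Or.inr (Or.inl rfl)))⟩
  · exact ⟨_, h, Or.inr (Or.inr (Or.inr (Or.inr (Or.inl rfl))))⟩
  · exact ⟨_, h, Or.inr (Or.inr (Or.inr (Or.inr (Or.inr rfl))))⟩

theorem sl2_case {F : Type*} [Field F] [Fintype F] (hodd : Odd (Fintype.card F))
    (h5 : 5 < Fintype.card F) :
    (∀ d ∈ Cfsg.charDegrees (Matrix.SpecialLinearGroup (Fin 2) F), d = 1 ∨ d = Fintype.card F ∨
      d = Fintype.card F + 1 ∨ d = Fintype.card F - 1 ∨ d = (Fintype.card F + 1) / 2 ∨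
      d = (Fintype.card F - 1) / 2) ∧
    Fintype.card F ∈ Cfsg.charDegrees (Matrix.SpecialLinearGroup (Fin 2) F) ∧
    Fintype.card F + 1 ∈ Cfsg.charDegrees (Matrix.SpecialLinearGroup (Fin 2) F) ∧
    Fintype.card F - 1 ∈ Cfsg.charDegrees (Matrix.SpecialLinearGroup (Fin 2) F) := by
  have hq1 : 1 ≤ Fintype.card F := Fintype.card_pos
  obtain ⟨k, hk⟩ := hodd
  have hodd' : Odd (Fintype.card F) := ⟨k, hk⟩
  obtain ⟨-, c2, c3, c4, -, -⟩ := (Cfsg.Agent.S2299.result (F := F) hodd').2 (by omega)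
  refine ⟨?_, ?_, ?_, ?_⟩
  · rintro d ⟨χ, rfl⟩
    obtain ⟨n, hn, hcases⟩ := sl2_vals hodd' χ.1 χ.2
    rw [deg_nat' _ n hn]
    exact hcases
  · obtain ⟨⟨χ, hχ⟩⟩ := (Nat.card_pos_iff.1 (by rw [c2]; norm_num)).1
    exact ⟨χ, deg_nat' _ _ hχ⟩
  · obtain ⟨⟨χ, hχ⟩⟩ := (Nat.card_pos_iff.1 (by rw [c3]; omega)).1
    exact ⟨χ, deg_nat' _ _ (by rw [hχ]; push_cast; ring)⟩
  · obtain ⟨⟨χ, hχ⟩⟩ := (Nat.card_pos_iff.1 (by rw [c4]; omega)).1
    exact ⟨χ, deg_nat' _ _ (by rw [hχ, Nat.cast_sub hq1]; simp)⟩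

theorem card_center_two {F : Type*} [Field F] [Fintype F] (t : ℕ) [Fact t.Prime] [CharP F t]
    (ht : t ≠ 2) : Nat.card (Subgroup.center (Matrix.SpecialLinearGroup (Fin 2) F)) = 2 := by
  rw [Nat.card_congr
    (Matrix.SpecialLinearGroup.center_equiv_rootsOfUnity' (R := F) (0 : Fin 2)).toEquiv,
    Fintype.card_fin]
  exact (IsPrimitiveRoot.neg_one (R := F) t ht).card_rootsOfUnity

theorem psl_vals {F : Type*} [Field F] [Fintype F] (hodd : Odd (Fintype.card F))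
    (ψ : Cfsg.IrrCharacter (Matrix.ProjectiveSpecialLinearGroup (Fin 2) F)) :
    ∃ n : ℕ, (ψ : Matrix.ProjectiveSpecialLinearGroup (Fin 2) F → ℂ) 1 = (n : ℂ) ∧
      (n = 1 ∨ n = Fintype.card F ∨ n = Fintype.card F + 1 ∨
      n = Fintype.card F - 1 ∨ n = (Fintype.card F + 1) / 2 ∨ n = (Fintype.card F - 1) / 2) := by
  have h1 := inflate_irr (Subgroup.center (Matrix.SpecialLinearGroup (Fin 2) F)) ψ.2
  exact sl2_vals hodd _ h1

theorem filter_le {F : Type*} [Field F] [Fintype F]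
    [Fintype (Cfsg.IrrCharacter (Matrix.ProjectiveSpecialLinearGroup (Fin 2) F))]
    (hval : ∀ ψ : Cfsg.IrrCharacter (Matrix.ProjectiveSpecialLinearGroup (Fin 2) F),
      (ψ : Matrix.ProjectiveSpecialLinearGroup (Fin 2) F → ℂ) 1 =
        (Cfsg.charDegree (ψ : Matrix.ProjectiveSpecialLinearGroup (Fin 2) F → ℂ) : ℂ))
    (v : ℕ) (z : ℂ) (hz : z = (v : ℂ)) :
    (Finset.univ.filter (fun ψ : Cfsg.IrrCharacter (Matrix.ProjectiveSpecialLinearGroup (Fin 2) F) =>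
      Cfsg.charDegree (ψ : Matrix.ProjectiveSpecialLinearGroup (Fin 2) F → ℂ) = v)).card ≤
    Nat.card {χ : Cfsg.IrrCharacter (Matrix.SpecialLinearGroup (Fin 2) F) //
      (χ : Matrix.SpecialLinearGroup (Fin 2) F → ℂ) 1 = z} := by
  classical
  rw [← Fintype.card_subtype, ← Nat.card_eq_fintype_card]
  apply Nat.card_le_card_of_injective
    (fun ψ : {ψ : Cfsg.IrrCharacter (Matrix.ProjectiveSpecialLinearGroup (Fin 2) F) //
      Cfsg.charDegree (ψ : Matrix.ProjectiveSpecialLinearGroup (Fin 2) F → ℂ) = v} =>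
      (⟨⟨fun g : Matrix.SpecialLinearGroup (Fin 2) F =>
          (ψ.1 : Matrix.ProjectiveSpecialLinearGroup (Fin 2) F → ℂ)
            (g : Matrix.ProjectiveSpecialLinearGroup (Fin 2) F),
          inflate_irr (Subgroup.center (Matrix.SpecialLinearGroup (Fin 2) F)) ψ.1.2⟩, by
        show (ψ.1 : Matrix.ProjectiveSpecialLinearGroup (Fin 2) F → ℂ) 1 = z
        rw [hval ψ.1, ψ.2, hz]⟩ :
        {χ : Cfsg.IrrCharacter (Matrix.SpecialLinearGroup (Fin 2) F) //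
          (χ : Matrix.SpecialLinearGroup (Fin 2) F → ℂ) 1 = z}))
  intro a b hab
  have h3 := congrArg (fun x : {χ : Cfsg.IrrCharacter (Matrix.SpecialLinearGroup (Fin 2) F) //
          (χ : Matrix.SpecialLinearGroup (Fin 2) F → ℂ) 1 = z} =>
      (x.1 : Matrix.SpecialLinearGroup (Fin 2) F → ℂ)) hab
  apply Subtype.ext
  apply Subtype.ext
  funext x
  obtain ⟨g, rfl⟩ := QuotientGroup.mk_surjective x
  exact congrFun h3 g

theorem psl2_case {F : Type*} [Field F] [Fintype F] (t : ℕ) [Fact t.Prime] [CharP F t]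
    (ht : t ≠ 2) (hodd : Odd (Fintype.card F)) (h5 : 5 < Fintype.card F) :
    (∀ d ∈ Cfsg.charDegrees (Matrix.ProjectiveSpecialLinearGroup (Fin 2) F), d = 1 ∨
      d = Fintype.card F ∨
      d = Fintype.card F + 1 ∨ d = Fintype.card F - 1 ∨ d = (Fintype.card F + 1) / 2 ∨
      d = (Fintype.card F - 1) / 2) ∧
    Fintype.card F ∈ Cfsg.charDegrees (Matrix.ProjectiveSpecialLinearGroup (Fin 2) F) ∧
    Fintype.card F + 1 ∈ Cfsg.charDegrees (Matrix.ProjectiveSpecialLinearGroup (Fin 2) F) ∧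
    Fintype.card F - 1 ∈ Cfsg.charDegrees (Matrix.ProjectiveSpecialLinearGroup (Fin 2) F) := by
  classical
  have hq1 : 1 ≤ Fintype.card F := Fintype.card_pos
  obtain ⟨m, hm⟩ := hodd
  have hodd' : Odd (Fintype.card F) := ⟨m, hm⟩
  have hm3 : 3 ≤ m := by omega
  haveI : Fintype (Matrix.ProjectiveSpecialLinearGroup (Fin 2) F) := Fintype.ofFinite _
  haveI : Fintype (Cfsg.IrrCharacter (Matrix.ProjectiveSpecialLinearGroup (Fin 2) F)) :=
    Fintype.ofFinite _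
  -- values
  have hval : ∀ ψ : Cfsg.IrrCharacter (Matrix.ProjectiveSpecialLinearGroup (Fin 2) F),
      (ψ : Matrix.ProjectiveSpecialLinearGroup (Fin 2) F → ℂ) 1 =
        (Cfsg.charDegree (ψ : Matrix.ProjectiveSpecialLinearGroup (Fin 2) F → ℂ) : ℂ) := by
    intro ψ
    obtain ⟨n, hn, -⟩ := psl_vals hodd' ψ
    rw [deg_nat' _ n hn, hn]
  have hD : ∀ ψ : Cfsg.IrrCharacter (Matrix.ProjectiveSpecialLinearGroup (Fin 2) F),
      Cfsg.charDegree (ψ : Matrix.ProjectiveSpecialLinearGroup (Fin 2) F → ℂ) = 1 ∨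
      Cfsg.charDegree (ψ : Matrix.ProjectiveSpecialLinearGroup (Fin 2) F → ℂ) = 2 * m + 1 ∨
      Cfsg.charDegree (ψ : Matrix.ProjectiveSpecialLinearGroup (Fin 2) F → ℂ) = 2 * m + 2 ∨
      Cfsg.charDegree (ψ : Matrix.ProjectiveSpecialLinearGroup (Fin 2) F → ℂ) = 2 * m ∨
      Cfsg.charDegree (ψ : Matrix.ProjectiveSpecialLinearGroup (Fin 2) F → ℂ) = m + 1 ∨
      Cfsg.charDegree (ψ : Matrix.ProjectiveSpecialLinearGroup (Fin 2) F → ℂ) = m := by
    intro ψ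
    obtain ⟨n, hn, hcases⟩ := psl_vals hodd' ψ
    rw [deg_nat' _ n hn]
    rcases hcases with h | h | h | h | h | h <;> omega
  -- the trivial character and the Steinberg character
  have hstq := Cfsg.Agent.S4765.result t F (by omega)
  obtain ⟨⟨ψq, hψq⟩⟩ := (Nat.card_pos_iff.1 (by rw [hstq.1]; norm_num)).1
  have hψq' : Cfsg.charDegree (ψq : Matrix.ProjectiveSpecialLinearGroup (Fin 2) F → ℂ) =
      2 * m + 1 := by
    rw [hstq.2 ψq hψq, hm]
  -- counts from SL2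
  obtain ⟨c1, c2, c3, c4, c5, c6⟩ := (Cfsg.Agent.S2299.result (F := F) hodd').2 (by omega)
  have b1 := filter_le hval 1 1 (by simp)
  have b2 := filter_le hval (2 * m + 1) (Fintype.card F : ℂ) (by rw [hm])
  have b3 := filter_le hval (2 * m + 2) ((Fintype.card F : ℂ) + 1) (by rw [hm]; push_cast; ring)
  have b4 := filter_le hval (2 * m) ((Fintype.card F : ℂ) - 1) (by rw [hm]; push_cast; ring)
  have b5 := filter_le hval (m + 1) (((Fintype.card F + 1) / 2 : ℕ) : ℂ) (by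
    have : (Fintype.card F + 1) / 2 = m + 1 := by omega
    rw [this])
  have b6 := filter_le hval m (((Fintype.card F - 1) / 2 : ℕ) : ℂ) (by
    have : (Fintype.card F - 1) / 2 = m := by omega
    rw [this])
  rw [c1] at b1
  rw [c2] at b2
  rw [c3] at b3
  rw [c4] at b4
  rw [c5] at b5
  rw [c6] at b6
  have a1 : (Finset.univ.filter (fun ψ : Cfsg.IrrCharacter
      (Matrix.ProjectiveSpecialLinearGroup (Fin 2) F) =>
      Cfsg.charDegree (ψ : Matrix.ProjectiveSpecialLinearGroup (Fin 2) F → ℂ) = 1)).card = 1 := by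
    apply le_antisymm b1
    apply Finset.card_pos.2
    refine ⟨⟨fun _ => (1 : ℂ), isIrrCharacter_one⟩, ?_⟩
    rw [Finset.mem_filter]
    refine ⟨Finset.mem_univ _, ?_⟩
    exact deg_nat' _ 1 (by simp)
  have a2 : (Finset.univ.filter (fun ψ : Cfsg.IrrCharacter
      (Matrix.ProjectiveSpecialLinearGroup (Fin 2) F) =>
      Cfsg.charDegree (ψ : Matrix.ProjectiveSpecialLinearGroup (Fin 2) F → ℂ) = 2 * m + 1)).card
      = 1 := by
    apply le_antisymm b2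
    apply Finset.card_pos.2
    exact ⟨ψq, Finset.mem_filter.2 ⟨Finset.mem_univ _, hψq'⟩⟩
  -- the square sum
  have hcardP : Nat.card (Matrix.ProjectiveSpecialLinearGroup (Fin 2) F) =
      2 * m * (m + 1) * (2 * m + 1) := by
    have e1 := Subgroup.card_eq_card_quotient_mul_card_subgroup
      (Subgroup.center (Matrix.SpecialLinearGroup (Fin 2) F))
    rw [card_center_two t ht, card_SL2, hm] at e1
    have e2 : (2 * m + 1) ^ 2 - 1 = 4 * m * (m + 1) := by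
      have : (2 * m + 1) ^ 2 = 4 * m * (m + 1) + 1 := by ring
      omega
    rw [e2] at e1
    have e3 : (2 * m + 1) * (4 * m * (m + 1)) = (2 * m * (m + 1) * (2 * m + 1)) * 2 := by ring
    rw [e3] at e1
    exact (Nat.eq_of_mul_eq_mul_right (by norm_num) e1).symm
  have hsum : ∑ ψ : Cfsg.IrrCharacter (Matrix.ProjectiveSpecialLinearGroup (Fin 2) F),
      Cfsg.charDegree (ψ : Matrix.ProjectiveSpecialLinearGroup (Fin 2) F → ℂ) ^ 2 =
      2 * m * (m + 1) * (2 * m + 1) := by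
    have e1 := sum_deg_sq (G := Matrix.ProjectiveSpecialLinearGroup (Fin 2) F)
    rw [hcardP] at e1
    have e2 : ∀ ψ : Cfsg.IrrCharacter (Matrix.ProjectiveSpecialLinearGroup (Fin 2) F),
        (ψ : Matrix.ProjectiveSpecialLinearGroup (Fin 2) F → ℂ) 1 *
          conj ((ψ : Matrix.ProjectiveSpecialLinearGroup (Fin 2) F → ℂ) 1) =
        ((Cfsg.charDegree (ψ : Matrix.ProjectiveSpecialLinearGroup (Fin 2) F → ℂ) ^ 2 : ℕ) : ℂ) := by
      intro ψ
      rw [hval ψ, Complex.conj_natCast]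
      push_cast
      ring
    rw [Finset.sum_congr rfl (fun ψ _ => e2 ψ), ← Nat.cast_sum] at e1
    exact_mod_cast e1
  obtain ⟨⟨ψa, hψa⟩, ⟨ψb, hψb⟩⟩ := Cfsg.Agent.Lib.Helper24.PSLCount.count_core
    (fun ψ : Cfsg.IrrCharacter (Matrix.ProjectiveSpecialLinearGroup (Fin 2) F) =>
      Cfsg.charDegree (ψ : Matrix.ProjectiveSpecialLinearGroup (Fin 2) F → ℂ)) m hm3 hD hsum a1 a2
    (by omega) (by omega) b5 b6
  refine ⟨?_, ?_, ?_, ?_⟩
  · rintro d ⟨ψ, rfl⟩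
    obtain ⟨n, hn, hcases⟩ := psl_vals hodd' ψ
    rw [deg_nat' _ n hn]
    exact hcases
  · exact ⟨ψq, by rw [hψq', hm]⟩
  · exact ⟨ψa, by rw [hψa, hm]⟩
  · exact ⟨ψb, by rw [hψb, hm]; omega⟩

/-- Let F be a finite field of odd characteristic t with q > 5 elements and let S be isomorphic to PSL(2,F) or to SL(2,F). Then the vertices of the character degree graph of S are the primes dividing q(q²−1); the prime t is adjacent to no vertex; two distinct primes dividing q² − 1 are adjacent exactly when one of them is 2, or both divide q + 1, or both divide q − 1. -/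
theorem result (F : Type*) [Field F] [Fintype F] (t : ℕ) [Fact t.Prime] [CharP F t] (ht : t ≠ 2) (q : ℕ) (hq : Fintype.card F = q) (h5 : 5 < q) {S : Type*} [Group S] [Finite S] (hS : Nonempty (S ≃* Matrix.ProjectiveSpecialLinearGroup (Fin 2) F) ∨ Nonempty (S ≃* Matrix.SpecialLinearGroup (Fin 2) F)) : Cfsg.degreePrimes S = {r : ℕ | r.Prime ∧ r ∣ q * (q ^ 2 - 1)} ∧ ∀ r s : ℕ, (Cfsg.degreeGraph S).Adj r s ↔ (r ≠ s ∧ r.Prime ∧ s.Prime ∧ r ∣ q ^ 2 - 1 ∧ s ∣ q ^ 2 - 1 ∧ (r = 2 ∨ s = 2 ∨ (r ∣ q + 1 ∧ s ∣ q + 1) ∨ (r ∣ q - 1 ∧ s ∣ q - 1))) := by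
  obtain ⟨n, -, hcard⟩ := FiniteField.card F t
  have ht' : t.Prime := Fact.out
  have hoddq : Odd (Fintype.card F) := by
    rw [hcard]
    exact (ht'.odd_of_ne_two ht).pow
  subst hq
  rcases hS with ⟨⟨e⟩⟩ | ⟨⟨e⟩⟩
  · obtain ⟨hsub, hq0, hq1, hq2⟩ := psl2_case (F := F) t ht hoddq h5
    rw [← charDegrees_congr e] at hsub hq0 hq1 hq2
    exact graph_of_degrees (Fintype.card F) t n ht' hcard hoddq h5 hsub hq0 hq1 hq2
  · obtain ⟨hsub, hq0, hq1, hq2⟩ := sl2_case (F := F) hoddq h5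
    rw [← charDegrees_congr e] at hsub hq0 hq1 hq2
    exact graph_of_degrees (Fintype.card F) t n ht' hcard hoddq h5 hsub hq0 hq1 hq2

end Cfsg.Agent.S4774
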