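import Cfsg.Statements.S4796
import Cfsg.Agent.Lib.Helper2.CharMore
import Cfsg.Agent.Lib.Helper2.CharRatio
import Cfsg.Agent.Lib.Helper2.CharLinear
import Cfsg.Agent.Lib.Helper25.Defect0
import Cfsg.Agent.Lib.Helper25.Central
import Cfsg.Agent.Lib.Helper26.GaloisAvg
import Cfsg.Agent.S0191

set_option autoImplicit false
open Cfsg

namespace Cfsg.Agent.S4796

open Cfsg.Agent.Lib.Helper2 Cfsg.Agent.Lib.Helper25 Cfsg.Agent.Lib.Helper26

open scoped ComplexConjugate Pointwise

theorem card_mul_degree_sq_le {K : Type*} [Group K] [Finite K] (ψ : IrrCharacter K) (e : ℕ)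
    (he : (ψ : K → ℂ) 1 = e) (A : Subgroup K) (hA : ∀ z ∈ A, ∀ g : K, z * g = g * z) :
    Nat.card A * (e * e) ≤ Nat.card K := by
  classical
  have := Fintype.ofFinite K
  obtain ⟨n, ρ, hρ, hψρ⟩ := ψ.2
  have := hρ
  have hsum := Cfsg.Agent.S0191.sum_norm_sq ρ
  have hn : 0 < Module.finrank ℂ (Fin n → ℂ) := irr_finrank_pos ρ
  have hnt : Nontrivial (Fin n → ℂ) := Module.finrank_pos_iff.mp hn
  have hz : ∀ z ∈ A, ‖ρ.character z‖ ^ 2 = ((e * e : ℕ) : ℝ) := by
    intro z hzA
    obtain ⟨ω, hω⟩ := central_scalar ρ hρ z (Subgroup.mem_center_iff.mpr (fun g => (hA z hzA g).symm))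
    have h1 := char_scalar_mul ρ hω 1
    rw [mul_one] at h1
    rw [h1, norm_mul, scalar_norm ρ hω, one_mul, hψρ, he, Complex.norm_natCast]
    push_cast
    ring
  have h2 : ∑ g ∈ Finset.univ.filter (fun g : K => g ∈ A), ‖ρ.character g‖ ^ 2
      ≤ ∑ g : K, ‖ρ.character g‖ ^ 2 :=
    Finset.sum_le_sum_of_subset_of_nonneg (Finset.subset_univ _) (fun _ _ _ => by positivity)
  have h3 : ∑ g ∈ Finset.univ.filter (fun g : K => g ∈ A), ‖ρ.character g‖ ^ 2
      = ((Nat.card A * (e * e) : ℕ) : ℝ) := by
    rw [Finset.sum_congr rfl (fun g hg => hz g (Finset.mem_filter.mp hg).2), Finset.sum_const,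
      nsmul_eq_mul]
    have hc : (Finset.univ.filter (fun g : K => g ∈ A)).card = Nat.card A := by
      rw [Nat.card_eq_fintype_card, Fintype.card_subtype]
    rw [hc]
    push_cast
    ring
  rw [h3, hsum] at h2
  exact_mod_cast h2

theorem frob_of_prime_normal {G : Type*} [Group G] [Finite G] (p : ℕ) [Fact p.Prime]
    (P : Subgroup G) [hPn : P.Normal] (hPc : Nat.card P = p)
    (hcent : ∀ g : G, (∀ x ∈ P, x * g = g * x) → g ∈ P) (H : Subgroup G)
    (hH : Subgroup.IsComplement' P H) (hH1 : H ≠ ⊥) :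
    IsFrobeniusComplement H ∧ frobeniusKernel H = (P : Set G) := by
  have hp : p.Prime := Fact.out
  have hdisj : ∀ x : G, x ∈ P → x ∈ H → x = 1 := by
    intro x hxP hxH
    exact Subgroup.disjoint_def.mp hH.disjoint hxP hxH
  have hgen : ∀ u ∈ P, u ≠ 1 → ∀ g : G, u * g = g * u → g ∈ P := by
    intro u hu hu1 g hug
    apply hcent
    intro x hx
    have h1 : Subgroup.zpowers (⟨u, hu⟩ : P) = ⊤ :=
      zpowers_eq_top_of_prime_card hPc (by intro e; exact hu1 (congrArg Subtype.val e))
    have h2 : (⟨x, hx⟩ : P) ∈ Subgroup.zpowers (⟨u, hu⟩ : P) := by rw [h1]; trivial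
    obtain ⟨k, hk⟩ := Subgroup.mem_zpowers_iff.mp h2
    have h3 : x = u ^ k := by
      have := congrArg Subtype.val hk
      simpa using this.symm
    rw [h3]
    exact (Commute.zpow_left (show Commute u g from hug) k).eq
  have hdec : ∀ g : G, ∃ u ∈ P, ∃ h ∈ H, g = u * h := by
    intro g
    obtain ⟨⟨u, h⟩, hg⟩ := hH.2 g
    exact ⟨u, u.2, h, h.2, hg.symm⟩
  refine ⟨⟨hH1, ?_, ?_⟩, ?_⟩
  · intro e
    have h1 := hH.disjoint
    rw [e] at h1
    have hP : P = ⊥ := disjoint_top.mp h1
    rw [hP, Subgroup.card_bot] at hPc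
    exact hp.one_lt.ne hPc
  · intro g hg
    rw [eq_bot_iff]
    intro y hy
    obtain ⟨hyH, hyg⟩ := Subgroup.mem_inf.mp hy
    obtain ⟨h, hh, rfl⟩ := (Subgroup.mem_smul_pointwise_iff_exists _ _ _).mp hyg
    rw [MulAut.smul_def, MulAut.conj_apply] at hyH ⊢
    obtain ⟨u, hu, h', hh', rfl⟩ := hdec g
    have hu1 : u ≠ 1 := by
      intro e
      apply hg
      rw [e, one_mul]
      exact hh'
    set h₁ := h' * h * h'⁻¹ with hh₁
    have hh₁H : h₁ ∈ H := H.mul_mem (H.mul_mem hh' hh) (H.inv_mem hh')
    have hy' : u * h' * h * (u * h')⁻¹ = u * h₁ * u⁻¹ := by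
      rw [hh₁]
      group
    rw [hy'] at hyH ⊢
    have h2 : u * h₁ * u⁻¹ * h₁⁻¹ ∈ P := by
      have : u * h₁ * u⁻¹ * h₁⁻¹ = u * (h₁ * u⁻¹ * h₁⁻¹) := by group
      rw [this]
      exact P.mul_mem hu (hPn.conj_mem _ (P.inv_mem hu) _)
    have h3 : u * h₁ * u⁻¹ * h₁⁻¹ = 1 := hdisj _ h2 (H.mul_mem hyH (H.inv_mem hh₁H))
    have h4 : u * h₁ = h₁ * u := by
      have : u * h₁ = (u * h₁ * u⁻¹ * h₁⁻¹) * (h₁ * u) := by group
      rw [this, h3, one_mul]
    have h5 : h₁ = 1 := hdisj _ (hgen u hu hu1 h₁ h4) hh₁H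
    rw [h5]
    rw [Subgroup.mem_bot]
    group
  · ext x
    constructor
    · rintro (rfl | hx)
      · exact P.one_mem
      · by_contra hxP
        obtain ⟨u, hu, h, hh, rfl⟩ := hdec x
        have hh1 : h ≠ 1 := by
          intro e
          apply hxP
          rw [e, mul_one]
          exact hu
        let f : P → P := fun v => ⟨(v : G) * (h * (v : G)⁻¹ * h⁻¹),
          P.mul_mem v.2 (hPn.conj_mem _ (P.inv_mem v.2) _)⟩
        have hinj : Function.Injective f := by
          intro v w hvw
          have h1 : (v : G) * (h * (v : G)⁻¹ * h⁻¹) = (w : G) * (h * (w : G)⁻¹ * h⁻¹) :=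
            congrArg Subtype.val hvw
          have h2 : ((w : G)⁻¹ * (v : G)) * h = h * ((w : G)⁻¹ * (v : G)) := by
            have e1 : ((w : G)⁻¹ * (v : G)) * h
                = (w : G)⁻¹ * ((v : G) * (h * (v : G)⁻¹ * h⁻¹)) * h * (v : G) := by group
            rw [e1, h1]
            group
          by_cases ht : (w : G)⁻¹ * (v : G) = 1
          · apply Subtype.ext
            have : (v : G) = (w : G) * ((w : G)⁻¹ * (v : G)) := by group
            rw [this, ht, mul_one]
          · exfalso
            apply hh1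
            exact hdisj _ (hgen _ (P.mul_mem (P.inv_mem w.2) v.2) ht h h2) hh
        obtain ⟨v, hv⟩ := (Finite.injective_iff_surjective.mp hinj) ⟨u, hu⟩
        have hv' : (v : G) * (h * (v : G)⁻¹ * h⁻¹) = u := congrArg Subtype.val hv
        apply hx (v : G)
        rw [Subgroup.mem_smul_pointwise_iff_exists]
        refine ⟨h, hh, ?_⟩
        rw [MulAut.smul_def, MulAut.conj_apply, ← hv']
        group
    · intro hxP
      by_cases hx1 : x = 1
      · exact Or.inl hx1
      · right
        intro g hxg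
        obtain ⟨h, hh, hxh⟩ := (Subgroup.mem_smul_pointwise_iff_exists _ _ _).mp hxg
        rw [MulAut.smul_def, MulAut.conj_apply] at hxh
        have h1 : h = g⁻¹ * x * g := by
          rw [← hxh]
          group
        have h2 : h ∈ P := by
          rw [h1]
          have := hPn.conj_mem x hxP g⁻¹
          simpa using this
        have h3 : h = 1 := hdisj h h2 hh
        apply hx1
        rw [← hxh, h3]
        group

/-- Let G be a finite group with a faithful irreducible complex character χ whose codegree #G / χ(1) is a prime p (for a faithful character the kernel is trivial, so the codegree is #G / χ(1)). Then either G is cyclic of order p, or G is a Frobenius group whose Frobenius kernel has order p: some proper non-trivial subgroup H satisfies H ∩ gHg⁻¹ = 1 for every element g outside H, and the set of elements lying in no conjugate of H, together with the identity, has exactly p elements. -/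
theorem result {G : Type*} [Group G] [Finite G] (χ : Cfsg.IrrCharacter G) (hfaith : ∀ g : G, (χ : G → ℂ) g = (χ : G → ℂ) 1 → g = 1) (p : ℕ) (hp : p.Prime) (hcod : Nat.card G = p * Cfsg.charDegree (χ : G → ℂ)) : (IsCyclic G ∧ Nat.card G = p) ∨ ∃ H : Subgroup G, Cfsg.IsFrobeniusComplement H ∧ Nat.card ↥(Cfsg.frobeniusKernel H) = p := by
  classical
  have := Fintype.ofFinite G
  have := Fintype.ofFinite (IrrCharacter G)
  have : Fact p.Prime := ⟨hp⟩
  obtain ⟨d, hd1, hdpos, hddvd, hdeg⟩ := irr_degree χ
  rw [hdeg] at hcod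
  -- d < p
  have hdp : d < p := by
    let one : IrrCharacter G := ⟨fun _ => 1, isIrrCharacter_one⟩
    have hne : χ ≠ one := by
      intro e
      have h1 : ∀ g : G, g = 1 := fun g => hfaith g (by rw [e])
      have h2 : Nat.card G = 1 :=
        Nat.card_eq_one_iff_unique.mpr ⟨⟨fun a b => by rw [h1 a, h1 b]⟩, ⟨1⟩⟩
      rw [h2] at hcod
      have h3 : p ∣ 1 := Dvd.intro d hcod.symm
      exact hp.one_lt.ne' (Nat.dvd_one.mp h3)
    have hsum := sum_irr_norm_sq (G := G) 1
    have hcent : Nat.card (Subgroup.centralizer ({1} : Set G)) = Nat.card G := by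
      have : Subgroup.centralizer ({1} : Set G) = ⊤ := by
        ext h
        simp [Subgroup.mem_centralizer_iff]
      rw [this, Subgroup.card_top]
    have h2 : ∑ ψ ∈ ({χ, one} : Finset (IrrCharacter G)), ‖(ψ : G → ℂ) 1‖ ^ 2
        ≤ ∑ ψ : IrrCharacter G, ‖(ψ : G → ℂ) 1‖ ^ 2 :=
      Finset.sum_le_sum_of_subset_of_nonneg (Finset.subset_univ _) (fun _ _ _ => by positivity)
    rw [Finset.sum_pair hne, hsum, hcent, hd1, hcod] at h2
    have h3 : ‖((one : IrrCharacter G) : G → ℂ) 1‖ ^ 2 = 1 := by simp [one]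
    rw [h3, Complex.norm_natCast] at h2
    have h4 : ((d * d + 1 : ℕ) : ℝ) ≤ ((p * d : ℕ) : ℝ) := by
      push_cast
      push_cast at h2
      nlinarith
    have h5 : d * d + 1 ≤ p * d := by exact_mod_cast h4
    by_contra hge
    push Not at hge
    nlinarith
  have hpd : ¬ p ∣ d := fun h => absurd (Nat.le_of_dvd hdpos h) (not_le.mpr hdp)
  obtain ⟨P⟩ := (inferInstance : Nonempty (Sylow p G))
  have hfac : (Nat.card G).factorization p = 1 := by
    rw [hcod, Nat.factorization_mul hp.ne_zero hdpos.ne', Finsupp.add_apply,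
      hp.factorization_self, Nat.factorization_eq_zero_of_not_dvd hpd]
  have hPc : Nat.card (P : Subgroup G) = p := by
    rw [P.card_eq_multiplicity, hfac, pow_one]
  have hPidx : (P : Subgroup G).index = d := by
    have h1 := (P : Subgroup G).card_mul_index
    rw [hPc, hcod] at h1
    exact Nat.eq_of_mul_eq_mul_left hp.pos h1
  have hPn : (P : Subgroup G).Normal := by
    have h1 : Nat.card (Sylow p G) ≡ 1 [MOD p] := card_sylow_modEq_one p G
    have h2 : Nat.card (Sylow p G) ∣ d := by
      rw [← hPidx]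
      exact P.card_dvd_index
    have h3 : Nat.card (Sylow p G) ≤ d := Nat.le_of_dvd hdpos h2
    have h4 : Nat.card (Sylow p G) = 1 := by
      have h5 : Nat.card (Sylow p G) < p := lt_of_le_of_lt h3 hdp
      have h6 := h1
      unfold Nat.ModEq at h6
      rw [Nat.mod_eq_of_lt h5, Nat.mod_eq_of_lt hp.one_lt] at h6
      exact h6
    have : Subsingleton (Sylow p G) := (Nat.card_eq_one_iff_unique.mp h4).1
    exact Sylow.normal_of_subsingleton P
  -- the centralizer of P is P
  have hcentP : ∀ g : G, (∀ x ∈ (P : Subgroup G), x * g = g * x) → g ∈ (P : Subgroup G) := by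
    set C : Subgroup G := Subgroup.centralizer ((P : Subgroup G) : Set G) with hC
    have : C.Normal := Subgroup.normal_centralizer
    have := Fintype.ofFinite C
    have := isCyclic_of_prime_card hPc
    have hPC : (P : Subgroup G) ≤ C := by
      intro a ha
      rw [hC, Subgroup.mem_centralizer_iff]
      intro x hx
      have h1 := (IsCyclic.commGroup (α := ↥(P : Subgroup G))).mul_comm ⟨x, hx⟩ ⟨a, ha⟩
      exact congrArg Subtype.val h1
    have hres : IsCharacter C (fun c : C => (χ : G → ℂ) c) :=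
      Cfsg.Agent.Lib.Helper2.IsCharacter.restrict (isCharacter_of_isIrrCharacter χ.2) C
    have hres0 : (fun c : C => (χ : G → ℂ) c) ≠ 0 := by
      intro e
      have h1 := congrFun e 1
      have h2 : (χ : G → ℂ) 1 = 0 := h1
      rw [hd1] at h2
      exact hdpos.ne' (by exact_mod_cast h2)
    obtain ⟨ψ, hψ, hψc⟩ := exists_irr_constituent hres hres0
    obtain ⟨b, hb1, hbdvd⟩ := degree_ratio C χ.2 hψ hψc
    obtain ⟨e, he1, hepos, _, _⟩ := irr_degree (⟨ψ, hψ⟩ : IrrCharacter C)
    have hdbe : d = b * e := by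
      have h1 : (d : ℂ) = ((b * e : ℕ) : ℂ) := by
        rw [← hd1, hb1]
        have : ψ 1 = (e : ℂ) := he1
        rw [this]
        push_cast
        ring
      exact_mod_cast h1
    have hsq := card_mul_degree_sq_le (⟨ψ, hψ⟩ : IrrCharacter C) e he1
      ((P : Subgroup G).subgroupOf C) (by
        intro z hz g
        have h1 := Subgroup.mem_centralizer_iff.mp g.2 (z : G) (Subgroup.mem_subgroupOf.mp hz)
        exact Subtype.ext h1)
    have hcardsub : Nat.card ((P : Subgroup G).subgroupOf C) = p := by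
      rw [Nat.card_congr (Subgroup.subgroupOfEquivOfLe hPC).toEquiv, hPc]
    rw [hcardsub] at hsq
    have hCcard : p * (P : Subgroup G).relIndex C = Nat.card C := by
      have h1 := ((P : Subgroup G).subgroupOf C).card_mul_index
      rw [hcardsub] at h1
      exact h1
    have hrc : (P : Subgroup G).relIndex C * C.index = d := by
      rw [Subgroup.relIndex_mul_index hPC, hPidx]
    set r := (P : Subgroup G).relIndex C with hr
    have hcpos : 0 < C.index := Nat.pos_of_ne_zero (Subgroup.index_ne_zero_of_finite)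
    have hble : b ≤ C.index := Nat.le_of_dvd hcpos hbdvd
    have h1 : e * e ≤ r := by
      rw [← hCcard] at hsq
      exact Nat.le_of_mul_le_mul_left hsq hp.pos
    have h2 : r ≤ e := by
      have h3 : r * C.index ≤ C.index * e := by
        rw [hrc, hdbe]
        exact Nat.mul_le_mul_right e hble
      rw [mul_comm r] at h3
      exact Nat.le_of_mul_le_mul_left h3 hcpos
    have hr1 : r = 1 := by
      have hrpos : 0 < r := by
        rcases Nat.eq_zero_or_pos r with h0 | h0
        · rw [h0, zero_mul] at hrc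
          omega
        · exact h0
      have he1' : e ≤ 1 := by
        by_contra hgt
        push Not at hgt
        nlinarith
      omega
    have hCP : C ≤ (P : Subgroup G) := Subgroup.relIndex_eq_one.mp hr1
    intro g hg
    apply hCP
    rw [hC, Subgroup.mem_centralizer_iff]
    intro x hx
    exact hg x hx
  obtain ⟨H, hH⟩ := Subgroup.exists_right_complement'_of_coprime (N := (P : Subgroup G)) (by
    rw [hPc, hPidx]
    exact (Nat.Prime.coprime_iff_not_dvd hp).mpr hpd)
  have hHc : Nat.card H = d := by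
    have h1 := hH.card_mul_card
    rw [hPc, hcod] at h1
    exact Nat.eq_of_mul_eq_mul_left hp.pos h1
  by_cases hd1' : d = 1
  · left
    rw [hd1', mul_one] at hcod
    exact ⟨isCyclic_of_prime_card hcod, hcod⟩
  · right
    have hH1 : H ≠ ⊥ := by
      intro e
      rw [e, Subgroup.card_bot] at hHc
      exact hd1' hHc.symm
    obtain ⟨hF, hK⟩ := frob_of_prime_normal p (P : Subgroup G) hPc hcentP H hH hH1
    refine ⟨H, hF, ?_⟩
    rw [hK]
    exact hPc

end Cfsg.Agent.S4796
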