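import Cfsg.Statements.S4801
-- import your own Cfsg.Agent.* helpers here
import Mathlib
import Cfsg.Agent.Lib.Helper25.CharKernel

set_option autoImplicit false
open Cfsg

namespace Cfsg.Agent.S4801

open Cfsg.Agent.Lib.Helper2 Cfsg.Agent.Lib.Helper25 Cfsg.Agent.Lib.Helper8 in
/-- The codegree of an irreducible complex character χ of a finite group G is [G : ker χ] / χ(1), where ker χ is the set of elements at which χ takes the value χ(1). Let S be a finite simple group and G a finite group such that every codegree of an irreducible character of S is a codegree of an irreducible character of G. Then the order of S divides the order of G. -/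
theorem result {S : Type*} [Group S] [Finite S] (hS : IsSimpleGroup S) {G : Type*} [Group G] [Finite G] (hsub : ∀ χ : Cfsg.IrrCharacter S, ∃ ψ : Cfsg.IrrCharacter G, (Nat.card S / (Nat.card {g : S // (χ : S → ℂ) g = (χ : S → ℂ) 1} * Cfsg.charDegree (χ : S → ℂ))) = (Nat.card G / (Nat.card {g : G // (ψ : G → ℂ) g = (ψ : G → ℂ) 1} * Cfsg.charDegree (ψ : G → ℂ)))) : Nat.card S ∣ Nat.card G := by
  classical
  have hS0 : Nat.card S ≠ 0 := Nat.card_pos.ne'
  have hG0 : Nat.card G ≠ 0 := Nat.card_pos.ne'
  rw [← Nat.factorization_prime_le_iff_dvd hS0 hG0]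
  intro p hp
  by_cases hpS : p ∣ Nat.card S
  · obtain ⟨χ, hfaith, hpd⟩ := exists_faithful_pprime_degree hS p hp hpS
    obtain ⟨ψ, hψ⟩ := hsub χ
    have hk1 : Nat.card {g : S // (χ : S → ℂ) g = (χ : S → ℂ) 1} = 1 := by
      rw [Nat.card_eq_one_iff_unique]
      exact ⟨⟨fun a b => Subtype.ext ((hfaith a a.2).trans (hfaith b b.2).symm)⟩, ⟨⟨1, rfl⟩⟩⟩
    rw [hk1, one_mul] at hψ
    obtain ⟨d, -, hd0, hdS, hdeg⟩ := irr_degree χ
    obtain ⟨K, -, hKmem, hKdvd⟩ := exists_charKernel ψ
    have hKcard : Nat.card {g : G // (ψ : G → ℂ) g = (ψ : G → ℂ) 1} = Nat.card K :=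
      Nat.card_congr (Equiv.subtypeEquivRight (fun g => (hKmem g).symm))
    rw [hKcard] at hψ
    have h1 : Nat.card S / Cfsg.charDegree (χ : S → ℂ) ∣ Nat.card G := by
      rw [hψ]
      exact Nat.div_dvd_of_dvd hKdvd
    rw [hdeg] at h1 hpd
    have hne : Nat.card S / d ≠ 0 := by
      intro h0
      rcases (Nat.div_eq_zero_iff).mp h0 with h | h
      · exact hd0.ne' h
      · exact absurd (Nat.le_of_dvd (Nat.card_pos) hdS) (not_le.mpr h)
    have h2 : (Nat.card S / d).factorization p = (Nat.card S).factorization p := by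
      rw [Nat.factorization_div hdS, Finsupp.coe_tsub, Pi.sub_apply,
        Nat.factorization_eq_zero_of_not_dvd hpd, Nat.sub_zero]
    rw [← h2]
    exact (Nat.factorization_le_iff_dvd hne hG0).mpr h1 p
  · rw [Nat.factorization_eq_zero_of_not_dvd hpS]
    exact Nat.zero_le _

end Cfsg.Agent.S4801
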