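import Cfsg.Statements.S4856
import Cfsg.Agent.Lib.Helper2.CharOrtho
import Cfsg.Agent.Lib.Helper2.CharComplete
import Cfsg.Agent.Lib.Helper2.CharBridge
import Cfsg.Agent.Lib.Helper2.CharBasic

set_option autoImplicit false
open Cfsg

namespace Cfsg.Agent.S4856

open scoped ComplexConjugate

open Cfsg.Agent.Lib.Helper2 in
theorem conj_sum {G : Type*} [Group G] [Fintype G] {V : Type*} [AddCommGroup V] [Module ℂ V]
    [FiniteDimensional ℂ V] (ρ : Representation ℂ G V) [ρ.IsIrreducible] (y : G) :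
    ∑ x : G, ρ (x * y * x⁻¹) =
      ((Nat.card G : ℂ) * ρ.character y / ρ.character 1) • (LinearMap.id : V →ₗ[ℂ] V) := by
  have hT : ∀ h : G, (∑ x : G, ρ (x * y * x⁻¹)) ∘ₗ ρ h = ρ h ∘ₗ (∑ x : G, ρ (x * y * x⁻¹)) := by
    intro h
    change (∑ x : G, ρ (x * y * x⁻¹)) * ρ h = ρ h * (∑ x : G, ρ (x * y * x⁻¹))
    rw [Finset.sum_mul, Finset.mul_sum]
    refine (Fintype.sum_equiv (Equiv.mulLeft h) (fun x => ρ h * ρ (x * y * x⁻¹))
      (fun x => ρ (x * y * x⁻¹) * ρ h) (fun x => ?_)).symm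
    show ρ h * ρ (x * y * x⁻¹) = ρ (h * x * y * (h * x)⁻¹) * ρ h
    rw [← map_mul, ← map_mul]
    congr 1
    group
  obtain ⟨c, hc⟩ := schur_scalar ρ _ hT
  have htr : LinearMap.trace ℂ V (∑ x : G, ρ (x * y * x⁻¹)) = (Nat.card G : ℂ) * ρ.character y := by
    rw [map_sum]
    have : ∀ x : G, LinearMap.trace ℂ V (ρ (x * y * x⁻¹)) = ρ.character y := by
      intro x
      exact Representation.char_conj ρ y x
    rw [Finset.sum_congr rfl (fun x _ => this x), Finset.sum_const, Finset.card_univ,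
      nsmul_eq_mul, Nat.card_eq_fintype_card]
  rw [hc] at htr ⊢
  rw [map_smul, LinearMap.trace_id, smul_eq_mul] at htr
  have hpos := irr_finrank_pos ρ
  have hne : ((Module.finrank ℂ V : ℕ) : ℂ) ≠ 0 := by exact_mod_cast hpos.ne'
  rw [Representation.char_one]
  congr 1
  rw [← htr]
  field_simp

open Cfsg.Agent.Lib.Helper2 in
theorem comm_sum {G : Type*} [Group G] [Fintype G] {V : Type*} [AddCommGroup V] [Module ℂ V]
    [FiniteDimensional ℂ V] (ρ : Representation ℂ G V) [ρ.IsIrreducible] :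
    ∑ y : G, ∑ x : G, ρ.character (x * y * x⁻¹ * y⁻¹) =
      (Nat.card G : ℂ) ^ 2 / ρ.character 1 := by
  have h1 : ∀ y : G, ∑ x : G, ρ.character (x * y * x⁻¹ * y⁻¹) =
      (Nat.card G : ℂ) * ρ.character y / ρ.character 1 * conj (ρ.character y) := by
    intro y
    have h2 : ∑ x : G, ρ.character (x * y * x⁻¹ * y⁻¹) =
        LinearMap.trace ℂ V ((∑ x : G, ρ (x * y * x⁻¹)) * ρ y⁻¹) := by
      rw [Finset.sum_mul, map_sum]
      apply Finset.sum_congr rfl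
      intro x _
      rw [← map_mul]
      rfl
    rw [h2, conj_sum ρ y, smul_mul_assoc, map_smul, smul_eq_mul]
    congr 1
    rw [← char_inv]
    change LinearMap.trace ℂ V (LinearMap.id ∘ₗ ρ y⁻¹) = _
    rw [LinearMap.id_comp]
    rfl
  rw [Finset.sum_congr rfl (fun y _ => h1 y)]
  have h3 := classInner_irr_self (isIrrCharacter_of_rep ρ)
  rw [classInner_def] at h3
  have hG : (Nat.card G : ℂ) ≠ 0 := by
    have : 0 < Nat.card G := Nat.card_pos
    exact_mod_cast this.ne'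
  have h4 : ∑ g : G, ρ.character g * conj (ρ.character g) = (Nat.card G : ℂ) := by
    field_simp at h3
    rw [h3]
  have h5 : ∑ y : G, (Nat.card G : ℂ) * ρ.character y / ρ.character 1 * conj (ρ.character y) =
      (Nat.card G : ℂ) / ρ.character 1 * ∑ y : G, ρ.character y * conj (ρ.character y) := by
    rw [Finset.mul_sum]
    apply Finset.sum_congr rfl
    intro y _
    ring
  rw [h5, h4]
  ring

/-- For an element z of a finite group G, the number of pairs (x, y) of elements with x y x⁻¹ y⁻¹ = z equals the order of G times the sum over the irreducible characters χ of χ(z)/χ(1). -/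
theorem result {G : Type*} [Group G] [Finite G] (z : G) : (Nat.card {xy : G × G // xy.1 * xy.2 * xy.1⁻¹ * xy.2⁻¹ = z} : ℂ) = (Nat.card G : ℂ) * ∑ᶠ χ : Cfsg.IrrCharacter G, (χ : G → ℂ) z / (χ : G → ℂ) 1 := by
  classical
  have hGf : Fintype G := Fintype.ofFinite G
  have hfin : Fintype (Cfsg.IrrCharacter G) := Fintype.ofFinite _
  let Nf : G → ℂ := fun z => ∑ xy : G × G, if xy.1 * xy.2 * xy.1⁻¹ * xy.2⁻¹ = z then 1 else 0
  have hN : ∀ z : G,
      (Nat.card {xy : G × G // xy.1 * xy.2 * xy.1⁻¹ * xy.2⁻¹ = z} : ℂ) = Nf z := by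
    intro z
    rw [Nat.card_eq_fintype_card, Fintype.card_subtype]
    show _ = ∑ xy : G × G, if xy.1 * xy.2 * xy.1⁻¹ * xy.2⁻¹ = z then (1 : ℂ) else 0
    rw [Finset.sum_boole]
  have hcf : IsClassFunction G Nf := by
    intro g h
    show (∑ xy : G × G, if xy.1 * xy.2 * xy.1⁻¹ * xy.2⁻¹ = h * g * h⁻¹ then (1 : ℂ) else 0) =
      ∑ xy : G × G, if xy.1 * xy.2 * xy.1⁻¹ * xy.2⁻¹ = g then (1 : ℂ) else 0
    refine Fintype.sum_equiv
      ((MulAut.conj h⁻¹).toEquiv.prodCongr (MulAut.conj h⁻¹).toEquiv) _ _ (fun xy => ?_)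
    have hiff : (xy.1 * xy.2 * xy.1⁻¹ * xy.2⁻¹ = h * g * h⁻¹) ↔
        ((h⁻¹ * xy.1 * h⁻¹⁻¹) * (h⁻¹ * xy.2 * h⁻¹⁻¹) * (h⁻¹ * xy.1 * h⁻¹⁻¹)⁻¹ *
          (h⁻¹ * xy.2 * h⁻¹⁻¹)⁻¹ = g) := by
      have e1 : (h⁻¹ * xy.1 * h⁻¹⁻¹) * (h⁻¹ * xy.2 * h⁻¹⁻¹) * (h⁻¹ * xy.1 * h⁻¹⁻¹)⁻¹ *
          (h⁻¹ * xy.2 * h⁻¹⁻¹)⁻¹ = h⁻¹ * (xy.1 * xy.2 * xy.1⁻¹ * xy.2⁻¹) * h := by group
      rw [e1]
      constructor
      · intro hh
        rw [hh]
        group
      · intro hh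
        rw [← hh]
        group
    show (if xy.1 * xy.2 * xy.1⁻¹ * xy.2⁻¹ = h * g * h⁻¹ then (1 : ℂ) else 0) =
      if (h⁻¹ * xy.1 * h⁻¹⁻¹) * (h⁻¹ * xy.2 * h⁻¹⁻¹) * (h⁻¹ * xy.1 * h⁻¹⁻¹)⁻¹ *
          (h⁻¹ * xy.2 * h⁻¹⁻¹)⁻¹ = g then (1 : ℂ) else 0
    simp only [hiff]
  have hinner : ∀ χ : Cfsg.IrrCharacter G,
      classInner Nf χ = (Nat.card G : ℂ) / (χ : G → ℂ) 1 := by
    intro χ
    obtain ⟨n, ρ, hρ, hχ⟩ := χ.2
    rw [Cfsg.Agent.Lib.Helper2.classInner_def]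
    have h1 : ∑ g : G, Nf g * (starRingEnd ℂ) ((χ : G → ℂ) g) =
        ∑ xy : G × G, (starRingEnd ℂ) ((χ : G → ℂ) (xy.1 * xy.2 * xy.1⁻¹ * xy.2⁻¹)) := by
      simp only [Nf, Finset.sum_mul]
      rw [Finset.sum_comm]
      apply Finset.sum_congr rfl
      intro xy _
      simp
    rw [h1, ← hχ, ← map_sum, Fintype.sum_prod_type, Finset.sum_comm, comm_sum ρ,
      Representation.char_one]
    have hG : (Nat.card G : ℂ) ≠ 0 := by
      have : 0 < Nat.card G := Nat.card_pos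
      exact_mod_cast this.ne'
    have hpos := Cfsg.Agent.Lib.Helper2.irr_finrank_pos ρ
    have hne : ((Module.finrank ℂ (Fin n → ℂ) : ℕ) : ℂ) ≠ 0 := by exact_mod_cast hpos.ne'
    rw [map_div₀, map_pow, Complex.conj_natCast, Complex.conj_natCast]
    field_simp
  rw [hN z]
  have hexp := congrFun (Cfsg.Agent.Lib.Helper2.class_fun_expand Nf hcf) z
  rw [hexp, Finset.sum_apply, finsum_eq_sum_of_fintype, Finset.mul_sum]
  apply Finset.sum_congr rfl
  intro χ _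
  rw [Pi.smul_apply, smul_eq_mul, hinner χ]
  ring

end Cfsg.Agent.S4856
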