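import Cfsg.Statements.S4814
import Cfsg.Agent.S4856
import Cfsg.Agent.Lib.Helper2.CharLinear

set_option autoImplicit false
open Cfsg

namespace Cfsg.Agent.S4814

open scoped ComplexConjugate

/-- the commutator of a pair -/
def cm {G : Type*} [Group G] (p : G × G) : G := p.1 * p.2 * p.1⁻¹ * p.2⁻¹

open Cfsg.Agent.Lib.Helper2 in
theorem comm_op {G : Type*} [Group G] [Fintype G] {V : Type*} [AddCommGroup V] [Module ℂ V]
    [FiniteDimensional ℂ V] (ρ : Representation ℂ G V) [ρ.IsIrreducible] :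
    ∑ p : G × G, ρ (cm p) =
      ((Nat.card G : ℂ) ^ 2 / ρ.character 1 ^ 2) • (LinearMap.id : V →ₗ[ℂ] V) := by
  have hG : (Nat.card G : ℂ) ≠ 0 := by
    have : 0 < Nat.card G := Nat.card_pos
    exact_mod_cast this.ne'
  have hpos := irr_finrank_pos ρ
  have hne : ((Module.finrank ℂ V : ℕ) : ℂ) ≠ 0 := by exact_mod_cast hpos.ne'
  rw [Fintype.sum_prod_type, Finset.sum_comm]
  have h1 : ∀ y : G, ∑ x : G, ρ (cm (x, y)) =
      ((Nat.card G : ℂ) / ρ.character 1) • (ρ.character y • ρ y⁻¹) := by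
    intro y
    have h2 : ∑ x : G, ρ (cm (x, y)) = (∑ x : G, ρ (x * y * x⁻¹)) * ρ y⁻¹ := by
      rw [Finset.sum_mul]
      apply Finset.sum_congr rfl
      intro x _
      rw [← map_mul]
      rfl
    rw [h2, Cfsg.Agent.S4856.conj_sum ρ y, smul_mul_assoc, smul_smul]
    congr 1
    · ring
  rw [Finset.sum_congr rfl (fun y _ => h1 y), ← Finset.smul_sum]
  have h3 : ∑ y : G, ρ.character y • ρ y⁻¹ = classOp ρ (fun y => ρ.character y⁻¹) := by
    unfold classOp
    refine Fintype.sum_equiv (Equiv.inv G) _ _ (fun y => ?_)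
    show ρ.character y • ρ y⁻¹ = ρ.character (y⁻¹)⁻¹ • ρ y⁻¹
    rw [inv_inv]
  have hcf : Cfsg.IsClassFunction G (fun y => ρ.character y⁻¹) := by
    intro g h
    show ρ.character (h * g * h⁻¹)⁻¹ = ρ.character g⁻¹
    have : (h * g * h⁻¹)⁻¹ = h * g⁻¹ * h⁻¹ := by group
    rw [this, Representation.char_conj]
  rw [h3, classOp_eq ρ _ hcf, smul_smul]
  congr 1
  have h4 := classInner_irr_self (isIrrCharacter_of_rep ρ)
  rw [classInner_def] at h4
  have h5 : ∑ g : G, ρ.character g⁻¹ * ρ.character g = (Nat.card G : ℂ) := by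
    have h6 : ∑ g : G, ρ.character g⁻¹ * ρ.character g =
        ∑ g : G, ρ.character g * conj (ρ.character g) := by
      apply Finset.sum_congr rfl
      intro g _
      rw [char_inv, mul_comm]
    rw [h6]
    field_simp at h4
    rw [h4]
  rw [h5, Representation.char_one]
  field_simp

open Cfsg.Agent.Lib.Helper2 in
theorem two_comm_sum {G : Type*} [Group G] [Fintype G] {V : Type*} [AddCommGroup V] [Module ℂ V]
    [FiniteDimensional ℂ V] (ρ : Representation ℂ G V) [ρ.IsIrreducible] :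
    ∑ p : G × G, ∑ q : G × G, ρ.character (cm p * cm q) =
      (Nat.card G : ℂ) ^ 4 / ρ.character 1 ^ 3 := by
  have hpos := irr_finrank_pos ρ
  have hne : ((Module.finrank ℂ V : ℕ) : ℂ) ≠ 0 := by exact_mod_cast hpos.ne'
  have h1 : ∑ p : G × G, ∑ q : G × G, ρ.character (cm p * cm q) =
      LinearMap.trace ℂ V ((∑ p : G × G, ρ (cm p)) * (∑ q : G × G, ρ (cm q))) := by
    rw [Finset.sum_mul, map_sum]
    apply Finset.sum_congr rfl
    intro p _
    rw [Finset.mul_sum, map_sum]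
    apply Finset.sum_congr rfl
    intro q _
    rw [← map_mul]
    rfl
  rw [h1, comm_op ρ, smul_mul_smul_comm, map_smul]
  change _ * LinearMap.trace ℂ V (LinearMap.id ∘ₗ LinearMap.id) = _
  rw [LinearMap.id_comp, LinearMap.trace_id, Representation.char_one]
  field_simp

/-- Let G be a finite group such that the sum, over the irreducible complex characters χ of G, of 1/χ(1)² is less than 2. Then every element of G is a product of two commutators. -/
theorem result {G : Type*} [Group G] [Finite G]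
    (h : ∑ᶠ χ : Cfsg.IrrCharacter G, 1 / ‖(χ : G → ℂ) 1‖ ^ 2 < (2 : ℝ)) (g : G) :
    ∃ a b c d : G, (a * b * a⁻¹ * b⁻¹) * (c * d * c⁻¹ * d⁻¹) = g := by
  classical
  have hGf : Fintype G := Fintype.ofFinite G
  have hfin : Fintype (Cfsg.IrrCharacter G) := Fintype.ofFinite _
  have hG : (Nat.card G : ℂ) ≠ 0 := by
    have : 0 < Nat.card G := Nat.card_pos
    exact_mod_cast this.ne'
  let Mf : G → ℂ := fun z => ∑ pq : (G × G) × (G × G), if cm pq.1 * cm pq.2 = z then 1 else 0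
  have hcf : IsClassFunction G Mf := by
    intro g' h'
    show (∑ pq : (G × G) × (G × G), if cm pq.1 * cm pq.2 = h' * g' * h'⁻¹ then (1 : ℂ) else 0) =
      ∑ pq : (G × G) × (G × G), if cm pq.1 * cm pq.2 = g' then (1 : ℂ) else 0
    let e : G × G ≃ G × G :=
      (MulAut.conj h'⁻¹).toEquiv.prodCongr (MulAut.conj h'⁻¹).toEquiv
    have he : ∀ p : G × G, cm (e p) = h'⁻¹ * cm p * h' := by
      intro p
      show (h'⁻¹ * p.1 * h'⁻¹⁻¹) * (h'⁻¹ * p.2 * h'⁻¹⁻¹) * (h'⁻¹ * p.1 * h'⁻¹⁻¹)⁻¹ *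
          (h'⁻¹ * p.2 * h'⁻¹⁻¹)⁻¹ = h'⁻¹ * (p.1 * p.2 * p.1⁻¹ * p.2⁻¹) * h'
      group
    refine Fintype.sum_equiv (e.prodCongr e) _ _ (fun pq => ?_)
    have hiff : (cm pq.1 * cm pq.2 = h' * g' * h'⁻¹) ↔ (cm (e pq.1) * cm (e pq.2) = g') := by
      rw [he, he]
      have e1 : h'⁻¹ * cm pq.1 * h' * (h'⁻¹ * cm pq.2 * h') = h'⁻¹ * (cm pq.1 * cm pq.2) * h' := by
        group
      rw [e1]
      constructor
      · intro hh
        rw [hh]
        group
      · intro hh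
        rw [← hh]
        group
    show (if cm pq.1 * cm pq.2 = h' * g' * h'⁻¹ then (1 : ℂ) else 0) =
      if cm (e pq.1) * cm (e pq.2) = g' then (1 : ℂ) else 0
    simp only [hiff]
  have hinner : ∀ χ : Cfsg.IrrCharacter G,
      classInner Mf χ = (Nat.card G : ℂ) ^ 3 / (χ : G → ℂ) 1 ^ 3 := by
    intro χ
    obtain ⟨n, ρ, hρ, hχ⟩ := χ.2
    rw [Cfsg.Agent.Lib.Helper2.classInner_def]
    have h1 : ∑ z : G, Mf z * (starRingEnd ℂ) ((χ : G → ℂ) z) =
        ∑ pq : (G × G) × (G × G), (starRingEnd ℂ) ((χ : G → ℂ) (cm pq.1 * cm pq.2)) := by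
      simp only [Mf, Finset.sum_mul]
      rw [Finset.sum_comm]
      apply Finset.sum_congr rfl
      intro pq _
      simp
    rw [h1, ← hχ, ← map_sum, Fintype.sum_prod_type, two_comm_sum ρ, Representation.char_one]
    have hpos := Cfsg.Agent.Lib.Helper2.irr_finrank_pos ρ
    have hne : ((Module.finrank ℂ (Fin n → ℂ) : ℕ) : ℂ) ≠ 0 := by exact_mod_cast hpos.ne'
    rw [map_div₀, map_pow, map_pow, Complex.conj_natCast, Complex.conj_natCast]
    field_simp
  have hexp := congrFun (Cfsg.Agent.Lib.Helper2.class_fun_expand Mf hcf) g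
  rw [Finset.sum_apply] at hexp
  -- nonvanishing
  have hMne : Mf g ≠ 0 := by
    rw [hexp]
    let triv : Cfsg.IrrCharacter G := ⟨fun _ => 1, Cfsg.Agent.Lib.Helper2.isIrrCharacter_one⟩
    have hterm : ∀ χ : Cfsg.IrrCharacter G, (classInner Mf χ • (χ : G → ℂ)) g =
        (Nat.card G : ℂ) ^ 3 * ((χ : G → ℂ) g / (χ : G → ℂ) 1 ^ 3) := by
      intro χ
      rw [Pi.smul_apply, smul_eq_mul, hinner χ]
      ring
    rw [Finset.sum_congr rfl (fun χ _ => hterm χ), ← Finset.mul_sum]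
    apply mul_ne_zero (pow_ne_zero 3 hG)
    rw [← Finset.add_sum_erase Finset.univ _ (Finset.mem_univ triv)]
    have ht : (triv : G → ℂ) g / (triv : G → ℂ) 1 ^ 3 = 1 := by
      show (1 : ℂ) / 1 ^ 3 = 1
      norm_num
    rw [ht]
    intro h0
    have hbound : ∀ χ : Cfsg.IrrCharacter G,
        ‖(χ : G → ℂ) g / (χ : G → ℂ) 1 ^ 3‖ ≤ 1 / ‖(χ : G → ℂ) 1‖ ^ 2 := by
      intro χ
      obtain ⟨n, ρ, hρ, hχ⟩ := χ.2
      have hle := Cfsg.Agent.Lib.Helper2.norm_char_le ρ g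
      have hpos := Cfsg.Agent.Lib.Helper2.irr_finrank_pos ρ
      have h1 : ‖(χ : G → ℂ) 1‖ = (Module.finrank ℂ (Fin n → ℂ) : ℝ) := by
        rw [← hχ, Representation.char_one]
        simp
      have hd : (0 : ℝ) < (Module.finrank ℂ (Fin n → ℂ) : ℝ) := by exact_mod_cast hpos
      rw [norm_div, norm_pow, h1, ← hχ]
      rw [div_le_div_iff₀ (pow_pos hd 3) (pow_pos hd 2)]
      calc ‖ρ.character g‖ * (Module.finrank ℂ (Fin n → ℂ) : ℝ) ^ 2
          ≤ (Module.finrank ℂ (Fin n → ℂ) : ℝ) * (Module.finrank ℂ (Fin n → ℂ) : ℝ) ^ 2 :=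
            mul_le_mul_of_nonneg_right hle (by positivity)
        _ = 1 * (Module.finrank ℂ (Fin n → ℂ) : ℝ) ^ 3 := by ring
    have hsum : ‖∑ χ ∈ Finset.univ.erase triv, (χ : G → ℂ) g / (χ : G → ℂ) 1 ^ 3‖ < 1 := by
      calc ‖∑ χ ∈ Finset.univ.erase triv, (χ : G → ℂ) g / (χ : G → ℂ) 1 ^ 3‖
          ≤ ∑ χ ∈ Finset.univ.erase triv, ‖(χ : G → ℂ) g / (χ : G → ℂ) 1 ^ 3‖ :=
            norm_sum_le _ _
        _ ≤ ∑ χ ∈ Finset.univ.erase triv, 1 / ‖(χ : G → ℂ) 1‖ ^ 2 :=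
            Finset.sum_le_sum (fun χ _ => hbound χ)
        _ < 1 := by
            rw [finsum_eq_sum_of_fintype,
              ← Finset.add_sum_erase Finset.univ _ (Finset.mem_univ triv)] at h
            have ht2 : (1 : ℝ) / ‖(triv : G → ℂ) 1‖ ^ 2 = 1 := by
              show (1 : ℝ) / ‖(1 : ℂ)‖ ^ 2 = 1
              norm_num
            rw [ht2] at h
            linarith
    have h7 : ∑ χ ∈ Finset.univ.erase triv, (χ : G → ℂ) g / (χ : G → ℂ) 1 ^ 3 = -1 := by
      linear_combination h0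
    rw [h7] at hsum
    simp at hsum
  by_contra hcon
  apply hMne
  show (∑ pq : (G × G) × (G × G), if cm pq.1 * cm pq.2 = g then (1 : ℂ) else 0) = 0
  apply Finset.sum_eq_zero
  intro pq _
  rw [if_neg]
  intro hpq
  exact hcon ⟨pq.1.1, pq.1.2, pq.2.1, pq.2.2, hpq⟩

end Cfsg.Agent.S4814
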