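import Cfsg.Statements.S4825
import Cfsg.Agent.Lib.Helper2.CharClifford
import Cfsg.Agent.Lib.Helper2.CharExpand
import Cfsg.Agent.Lib.Helper25.SecondSum2
import Cfsg.Agent.Lib.Helper25.WeakOrth
import Cfsg.Agent.Lib.Helper8.DefectNum
import Cfsg.Agent.S0925
import Cfsg.Agent.S0914

set_option autoImplicit false
open Cfsg

namespace Cfsg.Agent.S4825


open Cfsg.Agent.Lib.Helper2 Cfsg.Agent.Lib.Helper25 Cfsg.Agent.Lib.Helper8

open scoped ComplexConjugate

/-- Let p be a prime, G a finite group with Sylow p-subgroup P, M a maximal ideal of the algebraic integers containing p, and B a p-block of G with defect group P. Let N be a normal subgroup of G not containing P and θ an irreducible character of N. Then the number of irreducible characters in B of degree prime to p lying over θ (having θ as a constituent on restriction to N) is either 0 or at least 2, and when p ≤ 3 it is divisible by p. -/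
theorem result {G : Type*} [Group G] [Fintype G] (p : ℕ) [Fact p.Prime] (P : Sylow p G) (M : Ideal Cfsg.AlgInt) (hM : Cfsg.IsPModular p M) (B : Set (Cfsg.IrrCharacter G)) (hB : Cfsg.IsPBlock M B) (hBP : Cfsg.IsDefectGroup p M B P) (N : Subgroup G) [N.Normal] [Fintype N] (hPN : ¬ (P : Subgroup G) ≤ N) (θ : Cfsg.IrrCharacter N) :
    (Nat.card {χ : Cfsg.IrrCharacter G // χ ∈ B ∧ ¬ p ∣ Cfsg.charDegree (χ : G → ℂ) ∧ Cfsg.classInner (fun n : N => (χ : G → ℂ) n) (θ : N → ℂ) ≠ 0} = 0 ∨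
      2 ≤ Nat.card {χ : Cfsg.IrrCharacter G // χ ∈ B ∧ ¬ p ∣ Cfsg.charDegree (χ : G → ℂ) ∧ Cfsg.classInner (fun n : N => (χ : G → ℂ) n) (θ : N → ℂ) ≠ 0}) ∧
    (p ≤ 3 → p ∣ Nat.card {χ : Cfsg.IrrCharacter G // χ ∈ B ∧ ¬ p ∣ Cfsg.charDegree (χ : G → ℂ) ∧ Cfsg.classInner (fun n : N => (χ : G → ℂ) n) (θ : N → ℂ) ≠ 0}) := by
  classical
  have hp : p.Prime := Fact.out
  have hpr := isPrime_of_isPModular hM
  have hNn : N.Normal := inferInstance
  have : Fintype (IrrCharacter G) := Fintype.ofFinite _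
  have : Fintype (IrrCharacter N) := Fintype.ofFinite _
  obtain ⟨x, hxP, hxN⟩ := SetLike.not_le_iff_exists.mp hPN
  obtain ⟨k, hk⟩ := (IsPGroup.iff_orderOf.mp P.isPGroup') ⟨x, hxP⟩
  have hxk : orderOf x = p ^ k := by rw [← hk, Subgroup.orderOf_mk]
  have hclass := indFun_isClassFunction N (θ : N → ℂ)
  obtain ⟨e₀, e₀', -, -, -, hpp⟩ := exists_ppart_exp (G := G) (p := p)
  have hvan : ∀ u z : G, IsPPart p u z → IsConj x z → indFun N (θ : N → ℂ) u = 0 := by
    rintro u z ⟨y, hzy, hcomm, hzp, hyp⟩ hconj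
    have hz : u ^ e₀ = z := by
      rw [← hzy]
      exact hpp z y hcomm hzp hyp
    have huN : u ∉ N := by
      intro hu
      have hzN : z ∈ N := by
        rw [← hz]
        exact N.pow_mem hu e₀
      obtain ⟨c, hc⟩ := isConj_iff.mp hconj
      apply hxN
      have e1 : x = c⁻¹ * z * c⁻¹⁻¹ := by
        rw [← hc]
        group
      rw [e1]
      exact hNn.conj_mem z hzN c⁻¹
    rw [indFun_apply]
    have h0 : ∀ w : G, extendByZero N (θ : N → ℂ) (w⁻¹ * u * w) = 0 := by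
      intro w
      apply extendByZero_of_not_mem
      intro hmem
      apply huN
      have h1 := hNn.conj_mem _ hmem w
      have e2 : w * (w⁻¹ * u * w) * w⁻¹ = u := by group
      rwa [e2] at h1
    rw [Finset.sum_eq_zero (fun w _ => h0 w), mul_zero]
  have h0 := (Cfsg.Agent.S0925.result p M hM).1 _ hclass x ⟨k, hxk⟩ hvan B hB x x
    ⟨1, mul_one x, Commute.one_right x, ⟨k, hxk⟩, by rw [orderOf_one]; exact hp.not_dvd_one⟩
    (IsConj.refl x)
  -- multiplicities
  have hex : ∀ χ : IrrCharacter G, ∃ n : ℕ,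
      classInner (fun n : N => (χ : G → ℂ) n) (θ : N → ℂ) = (n : ℂ) := fun χ =>
    classInner_isCharacter_nat (IsCharacter.restrict (isCharacter_of_isIrrCharacter χ.2) N)
      (isCharacter_of_isIrrCharacter θ.2)
  choose e he using hex
  have hfrob : ∀ χ : IrrCharacter G,
      classInner (indFun N (θ : N → ℂ)) (χ : G → ℂ) = (e χ : ℂ) := by
    intro χ
    rw [frobenius_reciprocity N (θ : N → ℂ) (χ : G → ℂ) (isClassFunction_of_isIrrCharacter χ.2),
      ← classInner_conj_symm, he χ, Complex.conj_natCast]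
  have h0' : ∑ χ : IrrCharacter G, (if χ ∈ B then (e χ : ℂ) * (χ : G → ℂ) x else 0) = 0 := by
    have h1 := h0
    rw [blockPart_eq_sum_irr] at h1
    refine Eq.trans ?_ h1
    apply Finset.sum_congr rfl
    intro χ _
    rw [hfrob]
  have hd : ∀ χ : IrrCharacter G, (χ : G → ℂ) 1 = (charDegree (χ : G → ℂ) : ℂ) := by
    intro χ
    obtain ⟨d, hd1, hd2, -⟩ := Cfsg.Agent.S0914.irr_degree_data χ
    rw [hd1, hd2]
  have hdN : ∀ ψ : IrrCharacter N, (ψ : N → ℂ) 1 = (charDegree (ψ : N → ℂ) : ℂ) := by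
    intro ψ
    obtain ⟨d, hd1, hd2, -⟩ := Cfsg.Agent.S0914.irr_degree_data ψ
    rw [hd1, hd2]
  have hS1 : MemLocalIdeal M (((∑ χ : IrrCharacter G,
      if χ ∈ B then e χ * charDegree (χ : G → ℂ) else 0 : ℕ) : ℂ)) := by
    have e1 : ((∑ χ : IrrCharacter G, if χ ∈ B then e χ * charDegree (χ : G → ℂ) else 0 : ℕ) : ℂ)
        = ∑ χ : IrrCharacter G, (if χ ∈ B then (1 : ℂ) else 0)
          * ((e χ : ℂ) * ((χ : G → ℂ) 1 - (χ : G → ℂ) x)) := by
      have e2 : ∑ χ : IrrCharacter G, (if χ ∈ B then (1 : ℂ) else 0)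
          * ((e χ : ℂ) * ((χ : G → ℂ) 1 - (χ : G → ℂ) x))
          = ∑ χ : IrrCharacter G, (if χ ∈ B then (e χ : ℂ) * (χ : G → ℂ) 1 else 0)
            - ∑ χ : IrrCharacter G, (if χ ∈ B then (e χ : ℂ) * (χ : G → ℂ) x else 0) := by
        rw [← Finset.sum_sub_distrib]
        apply Finset.sum_congr rfl
        intro χ _
        split_ifs <;> ring
      rw [e2, h0', sub_zero]
      push_cast
      apply Finset.sum_congr rfl
      intro χ _
      rw [hd χ]
    rw [e1]
    apply memLocalIdeal_sum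
    intro χ _
    apply MemLocalIdeal.mul_left M
    · split_ifs
      · exact memLocalRing_one M
      · exact memLocalRing_zero M
    · apply MemLocalIdeal.mul_left M
      · exact memLocalRing_natCast M _
      · have h2 := char_mul_sub_mem hM χ x 1 k (by rw [← hxk]; exact pow_orderOf_eq_one x)
          (by rw [mul_one, one_mul])
        rw [mul_one] at h2
        have h4 := MemLocalIdeal.neg M h2
        rwa [neg_sub] at h4
  have hS1dvd := (memLocalIdeal_natCast_iff hM _).mp hS1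
  -- Clifford
  obtain ⟨c, hcdef⟩ : ∃ c : ℕ, c = ∑ ψ : IrrCharacter N,
      if (∃ g : G, (ψ : N → ℂ) = Cfsg.Agent.Lib.Helper2.conjFun N (θ : N → ℂ) g) then charDegree (ψ : N → ℂ) else 0 :=
    ⟨_, rfl⟩
  have hcliff : ∀ χ : IrrCharacter G, e χ ≠ 0 → charDegree (χ : G → ℂ) = e χ * c := by
    intro χ heχ
    have hclsχ := isClassFunction_of_isIrrCharacter χ.2
    have hclsN : IsClassFunction N (fun n : N => (χ : G → ℂ) n) :=
      isClassFunction_of_isCharacter (IsCharacter.restrict (isCharacter_of_isIrrCharacter χ.2) N)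
    have hexp := class_fun_expand (fun n : N => (χ : G → ℂ) n) hclsN
    have h1 := congrFun hexp 1
    simp only [Finset.sum_apply, Pi.smul_apply, smul_eq_mul] at h1
    have hconst : classInner (fun n : N => (χ : G → ℂ) n) (θ : N → ℂ) ≠ 0 := by
      rw [he χ]
      exact_mod_cast heχ
    have h2 : ∀ ψ : IrrCharacter N,
        classInner (fun n : N => (χ : G → ℂ) n) (ψ : N → ℂ) * (ψ : N → ℂ) 1
        = ((if (∃ g : G, (ψ : N → ℂ) = Cfsg.Agent.Lib.Helper2.conjFun N (θ : N → ℂ) g)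
            then e χ * charDegree (ψ : N → ℂ) else 0 : ℕ) : ℂ) := by
      intro ψ
      split_ifs with hψ
      · obtain ⟨g, hg⟩ := hψ
        have e1 : classInner (fun n : N => (χ : G → ℂ) n) (ψ : N → ℂ) = (e χ : ℂ) := by
          rw [hg, classInner_restrict_conjFun N hclsχ (θ : N → ℂ) g, he χ]
        rw [e1, hdN ψ]
        push_cast
        rfl
      · push Not at hψ
        rw [clifford_conj N χ.2 θ.2 hconst ψ.2 hψ, zero_mul]
        simp
    have h3 : ((charDegree (χ : G → ℂ) : ℕ) : ℂ) = ((e χ * c : ℕ) : ℂ) := by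
      rw [← hd χ]
      have e5 : (χ : G → ℂ) 1 = (χ : G → ℂ) ((1 : N) : G) := by simp
      rw [e5, h1, Finset.sum_congr rfl (fun ψ _ => h2 ψ), ← Nat.cast_sum]
      congr 1
      rw [hcdef, Finset.mul_sum]
      apply Finset.sum_congr rfl
      intro ψ _
      split_ifs <;> simp
    exact_mod_cast h3
  have hS2 : p ∣ ∑ χ : IrrCharacter G,
      if (χ ∈ B ∧ e χ ≠ 0) then charDegree (χ : G → ℂ) ^ 2 else 0 := by
    have e3 : (∑ χ : IrrCharacter G,
        if (χ ∈ B ∧ e χ ≠ 0) then charDegree (χ : G → ℂ) ^ 2 else 0)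
        = c * ∑ χ : IrrCharacter G, if χ ∈ B then e χ * charDegree (χ : G → ℂ) else 0 := by
      rw [Finset.mul_sum]
      apply Finset.sum_congr rfl
      intro χ _
      by_cases hχB : χ ∈ B
      · by_cases heχ : e χ = 0
        · rw [if_neg (fun h => h.2 heχ), if_pos hχB, heχ]
          simp
        · rw [if_pos ⟨hχB, heχ⟩, if_pos hχB]
          have h6 := hcliff χ heχ
          rw [pow_two]
          nth_rewrite 1 [h6]
          ring
      · rw [if_neg (fun h => hχB h.1), if_neg hχB, mul_zero]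
    rw [e3]
    exact Dvd.dvd.mul_left hS1dvd c
  have hS3 : p ∣ ∑ χ ∈ Finset.univ.filter (fun χ : IrrCharacter G =>
      χ ∈ B ∧ ¬ p ∣ charDegree (χ : G → ℂ) ∧ e χ ≠ 0), charDegree (χ : G → ℂ) ^ 2 := by
    rw [Finset.sum_filter]
    have e4 : ∀ χ : IrrCharacter G,
        (if (χ ∈ B ∧ e χ ≠ 0) then charDegree (χ : G → ℂ) ^ 2 else 0)
        = (if (χ ∈ B ∧ ¬ p ∣ charDegree (χ : G → ℂ) ∧ e χ ≠ 0)
            then charDegree (χ : G → ℂ) ^ 2 else 0)
          + (if (χ ∈ B ∧ p ∣ charDegree (χ : G → ℂ) ∧ e χ ≠ 0)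
            then charDegree (χ : G → ℂ) ^ 2 else 0) := by
      intro χ
      by_cases h1 : χ ∈ B <;> by_cases h2 : e χ = 0 <;>
        by_cases h3 : p ∣ charDegree (χ : G → ℂ) <;> simp [h1, h2, h3]
    rw [Finset.sum_congr rfl (fun χ _ => e4 χ), Finset.sum_add_distrib] at hS2
    have h5 : p ∣ ∑ χ : IrrCharacter G, (if (χ ∈ B ∧ p ∣ charDegree (χ : G → ℂ) ∧ e χ ≠ 0)
        then charDegree (χ : G → ℂ) ^ 2 else 0) := by
      apply Finset.dvd_sum
      intro χ _
      split_ifs with h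
      · exact Dvd.dvd.pow h.2.1 (by norm_num)
      · exact dvd_zero p
    exact (Nat.dvd_add_iff_left h5).mpr hS2
  have hcard : Nat.card {χ : IrrCharacter G // χ ∈ B ∧ ¬ p ∣ charDegree (χ : G → ℂ) ∧
      classInner (fun n : N => (χ : G → ℂ) n) (θ : N → ℂ) ≠ 0}
      = (Finset.univ.filter (fun χ : IrrCharacter G =>
      χ ∈ B ∧ ¬ p ∣ charDegree (χ : G → ℂ) ∧ e χ ≠ 0)).card := by
    rw [Nat.card_eq_fintype_card, Fintype.card_subtype]
    congr 1
    apply Finset.filter_congr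
    intro χ _
    rw [he χ, Nat.cast_ne_zero]
  rw [hcard]
  have hdeg : ∀ χ ∈ Finset.univ.filter (fun χ : IrrCharacter G =>
      χ ∈ B ∧ ¬ p ∣ charDegree (χ : G → ℂ) ∧ e χ ≠ 0), ¬ p ∣ charDegree (χ : G → ℂ) :=
    fun χ hχ => (Finset.mem_filter.mp hχ).2.2.1
  constructor
  · by_contra hcon
    push Not at hcon
    have h1 : (Finset.univ.filter (fun χ : IrrCharacter G =>
      χ ∈ B ∧ ¬ p ∣ charDegree (χ : G → ℂ) ∧ e χ ≠ 0)).card = 1 := by omega
    obtain ⟨χ, hχ⟩ := Finset.card_eq_one.mp h1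
    have hχmem : χ ∈ Finset.univ.filter (fun χ : IrrCharacter G =>
      χ ∈ B ∧ ¬ p ∣ charDegree (χ : G → ℂ) ∧ e χ ≠ 0) := by
      rw [hχ]
      exact Finset.mem_singleton_self χ
    rw [hχ, Finset.sum_singleton] at hS3
    exact hdeg χ hχmem (hp.dvd_of_dvd_pow hS3)
  · intro hp3
    have hsq : ∀ χ ∈ Finset.univ.filter (fun χ : IrrCharacter G =>
        χ ∈ B ∧ ¬ p ∣ charDegree (χ : G → ℂ) ∧ e χ ≠ 0),
        charDegree (χ : G → ℂ) ^ 2 % p = 1 % p := by
      intro χ hχ
      have h1 := hdeg χ hχ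
      have hp2 : p = 2 ∨ p = 3 := by
        have := hp.two_le
        omega
      rcases hp2 with h2 | h2
      · rw [h2] at h1 ⊢
        rw [Nat.pow_mod]
        have h7 : charDegree (χ : G → ℂ) % 2 = 1 := by omega
        rw [h7]
      · rw [h2] at h1 ⊢
        rw [Nat.pow_mod]
        have h7 : charDegree (χ : G → ℂ) % 3 = 1 ∨ charDegree (χ : G → ℂ) % 3 = 2 := by omega
        rcases h7 with h | h <;> rw [h]
    rw [Nat.dvd_iff_mod_eq_zero] at hS3 ⊢
    rw [Finset.sum_nat_mod, Finset.sum_congr rfl hsq, ← Finset.sum_nat_mod] at hS3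
    simpa using hS3

end Cfsg.Agent.S4825
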