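import Mathlib
import Cfsg.Statements.S4845
import Cfsg.Agent.Lib.Helper2.GalC
import Cfsg.Agent.Lib.Helper2.PResSquares

set_option autoImplicit false

open Cfsg

namespace Cfsg.Agent.S4845

open Cfsg.Agent.Lib.Helper2

/-- Let p be a prime and P a finite non-commutative p-group. Then every two irreducible characters of P of the same degree greater than 1 are Galois conjugate (one is obtained from the other by composing with g ↦ g^k for some k prime to the order of P) if and only if the centre of P is cyclic and the derived subgroup of P has order p. -/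
theorem result {P : Type*} [Group P] [Finite P] (p : ℕ) [Fact p.Prime] (hP : IsPGroup p P) (hna : ¬ IsMulCommutative P) :
    (∀ χ ψ : Cfsg.IrrCharacter P, Cfsg.charDegree (χ : P → ℂ) ≠ 1 → Cfsg.charDegree (χ : P → ℂ) = Cfsg.charDegree (ψ : P → ℂ) → ∃ k : ℕ, Nat.Coprime k (Nat.card P) ∧ ∀ g : P, (ψ : P → ℂ) g = (χ : P → ℂ) (g ^ k)) ↔
      (IsCyclic (Subgroup.center P) ∧ Nat.card (commutator P) = p) := by
  classical
  constructor
  · intro h
    apply gal_forward p hP hna
    intro χ ψ hχ hψ hnl hdeg
    have e1 := irr_apply_one_eq_charDegree hχ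
    have e2 := irr_apply_one_eq_charDegree hψ
    refine h ⟨χ, hχ⟩ ⟨ψ, hψ⟩ ?_ ?_
    · intro h1
      apply hnl
      rw [e1]
      have h2 : Cfsg.charDegree χ = 1 := h1
      rw [h2]
      simp
    · have h2 : ((Cfsg.charDegree χ : ℕ) : ℂ) = (Cfsg.charDegree ψ : ℂ) := by
        rw [← e1, ← e2, hdeg]
      exact_mod_cast h2
  · rintro ⟨hcyc, hc⟩ χ ψ hnl hdeg
    have hH := gal_backward p hP hcyc hc
    have e1 := irr_apply_one_eq_charDegree χ.2
    have e2 := irr_apply_one_eq_charDegree ψ.2
    refine hH χ.1 ψ.1 χ.2 ψ.2 ?_ ?_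
    · intro h1
      apply hnl
      rw [e1] at h1
      exact_mod_cast h1
    · rw [e1, e2, hdeg]

end Cfsg.Agent.S4845
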