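import Cfsg.Statements.S4871
import Mathlib
import Cfsg.Agent.Lib.Helper24.FSCount
import Cfsg.Agent.Lib.Helper24.FSInv
import Cfsg.Agent.Lib.Helper2.TwoDegA

set_option autoImplicit false
open Cfsg

namespace Cfsg.Agent.S4871

open Cfsg.Agent.Lib.Helper2 Cfsg.Agent.Lib.Helper25 Cfsg.Agent.Lib.Helper26
open Cfsg.Agent.Lib.Helper24

/-- the arithmetic behind the average-degree bound -/
theorem avg_bound {ι : Type*} [Finite ι] (deg : ι → ℕ) (r : ι → Prop) (m : ℕ) (hm : 2 ≤ m)
    (hm2 : 2 ∣ m) (hpos : ∀ x, 0 < deg x)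
    (hcount : Nat.card {x : ι // deg x = 1 ∧ r x} ≤ m * Nat.card {x : ι // deg x = m ∧ r x}) :
    4 * Nat.card {x : ι // (deg x = 1 ∨ 2 ∣ deg x) ∧ r x}
      ≤ 3 * ∑ᶠ x : {x : ι // (deg x = 1 ∨ 2 ∣ deg x) ∧ r x}, deg x.1 := by
  classical
  have := Fintype.ofFinite ι
  have := Fintype.ofFinite {x : ι // (deg x = 1 ∨ 2 ∣ deg x) ∧ r x}
  rw [finsum_eq_sum_of_fintype]
  have hpt : ∀ x : {x : ι // (deg x = 1 ∨ 2 ∣ deg x) ∧ r x},
      4 + (if deg x.1 = m then m else 0) ≤ 3 * deg x.1 + (if deg x.1 = 1 then 1 else 0) := by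
    intro x
    have hp := hpos x.1
    rcases x.2.1 with h1 | h2
    · have h3 : deg x.1 ≠ m := by omega
      rw [if_neg h3, if_pos h1]
      omega
    · obtain ⟨t, ht⟩ := h2
      by_cases hxm : deg x.1 = m
      · have h1 : deg x.1 ≠ 1 := by omega
        rw [if_pos hxm, if_neg h1]
        omega
      · have h1 : deg x.1 ≠ 1 := by omega
        rw [if_neg hxm, if_neg h1]
        omega
  have hsum := Finset.sum_le_sum (fun x (_ : x ∈ (Finset.univ : Finset
    {x : ι // (deg x = 1 ∨ 2 ∣ deg x) ∧ r x})) => hpt x)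
  rw [Finset.sum_add_distrib, Finset.sum_add_distrib, Finset.sum_const, Finset.card_univ,
    smul_eq_mul, ← Finset.mul_sum, ← Finset.sum_filter, ← Finset.sum_filter, Finset.sum_const,
    Finset.sum_const, smul_eq_mul, smul_eq_mul, mul_one, ← Fintype.card_subtype,
    ← Fintype.card_subtype] at hsum
  have e1 : {x : {x : ι // (deg x = 1 ∨ 2 ∣ deg x) ∧ r x} // deg x.1 = 1}
      ≃ {x : ι // deg x = 1 ∧ r x} :=
    { toFun := fun x => ⟨x.1.1, x.2, x.1.2.2⟩
      invFun := fun y => ⟨⟨y.1, Or.inl y.2.1, y.2.2⟩, y.2.1⟩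
      left_inv := fun x => rfl
      right_inv := fun y => rfl }
  have em : {x : {x : ι // (deg x = 1 ∨ 2 ∣ deg x) ∧ r x} // deg x.1 = m}
      ≃ {x : ι // deg x = m ∧ r x} :=
    { toFun := fun x => ⟨x.1.1, x.2, x.1.2.2⟩
      invFun := fun y => ⟨⟨y.1, Or.inr (by rw [y.2.1]; exact hm2), y.2.2⟩, y.2.1⟩
      left_inv := fun x => rfl
      right_inv := fun y => rfl }
  have h1 := Nat.card_congr e1
  have h2 := Nat.card_congr em
  rw [Nat.card_eq_fintype_card] at h1 h2
  rw [← h1, ← h2] at hcount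
  have hX : Nat.card {x : ι // (deg x = 1 ∨ 2 ∣ deg x) ∧ r x}
      = Fintype.card {x : ι // (deg x = 1 ∨ 2 ∣ deg x) ∧ r x} := Nat.card_eq_fintype_card
  rw [hX]
  have hmm : Fintype.card {x : {x : ι // (deg x = 1 ∨ 2 ∣ deg x) ∧ r x} // deg x.1 = m} * m
      = m * Fintype.card {x : {x : ι // (deg x = 1 ∨ 2 ∣ deg x) ∧ r x} // deg x.1 = m} :=
    mul_comm _ _
  omega

/-- a central involution of the complement inverts the minimal normal subgroup -/
theorem exists_inverting {G : Type*} [Group G] [Finite G] (N P : Subgroup G) (hN : N.Normal)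
    (q : ℕ) [Fact q.Prime] (hq : q ≠ 2) (hNel : Cfsg.IsElementaryAbelian q N)
    (hP : IsPGroup 2 ↥P) (hP1 : P ≠ ⊥) (hprod : N ⊔ P = ⊤)
    (hmin : N ≠ ⊥ ∧ ∀ M : Subgroup G, M.Normal → M ≠ ⊥ → N ≤ M) :
    ∃ z : G, z * z = 1 ∧ ∀ n : N, z * (n : G) * z⁻¹ = (n : G)⁻¹ := by
  classical
  have hNab : ∀ a ∈ N, ∀ b ∈ N, a * b = b * a := by
    intro a ha b hb
    exact congrArg Subtype.val (hNel.1.is_comm.comm (⟨a, ha⟩ : N) ⟨b, hb⟩)
  have hqodd : Odd q := (Nat.Prime.eq_two_or_odd' (Fact.out : q.Prime)).resolve_left hq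
  have : Nontrivial P := (Subgroup.nontrivial_iff_ne_bot P).mpr hP1
  have : Nontrivial (Subgroup.center P) := hP.center_nontrivial
  have hcp : IsPGroup 2 (Subgroup.center P) := hP.to_subgroup _
  obtain ⟨k, hk⟩ := hcp.exists_card_eq
  have hk0 : k ≠ 0 := by
    intro h0
    rw [h0, pow_zero] at hk
    have := Finite.one_lt_card (α := Subgroup.center P)
    omega
  have h2dvd : 2 ∣ Nat.card (Subgroup.center P) := by
    rw [hk]
    exact dvd_pow_self 2 hk0
  obtain ⟨x, hx⟩ := exists_prime_orderOf_dvd_card' 2 h2dvd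
  obtain ⟨z, hzdef⟩ : ∃ z : G, z = ((x : P) : G) := ⟨_, rfl⟩
  have hz2 : z * z = 1 := by
    have h1 : x ^ 2 = 1 := by rw [← hx]; exact pow_orderOf_eq_one x
    have h2 := congrArg (fun y : Subgroup.center P => ((y : P) : G)) h1
    simp only [Subgroup.coe_pow, Subgroup.coe_one] at h2
    rw [hzdef, ← pow_two]
    exact h2
  have hz1 : z ≠ 1 := by
    intro h
    have h1 : x = 1 := by
      apply Subtype.ext
      apply Subtype.ext
      rw [← hzdef, h]
      rfl
    rw [h1, orderOf_one] at hx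
    omega
  have hzi : z⁻¹ = z := inv_eq_of_mul_eq_one_right hz2
  have hzP : ∀ p ∈ P, z * p = p * z := by
    intro p hp
    have h1 := Subgroup.mem_center_iff.mp x.2 ⟨p, hp⟩
    have h2 := congrArg (Subtype.val) h1
    simp only [Subgroup.coe_mul] at h2
    rw [hzdef]
    exact h2.symm
  obtain ⟨C, hCdef⟩ : ∃ C : Subgroup G, C = N ⊓ Subgroup.centralizer {z} := ⟨_, rfl⟩
  have hCmem : ∀ h : G, h ∈ C ↔ h ∈ N ∧ z * h = h * z := by
    intro h
    rw [hCdef, Subgroup.mem_inf, Subgroup.mem_centralizer_iff]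
    constructor
    · intro hh; exact ⟨hh.1, hh.2 z rfl⟩
    · intro hh; exact ⟨hh.1, fun y hy => by rw [Set.mem_singleton_iff.mp hy]; exact hh.2⟩
  have hfwd : ∀ g : G, (g ∈ N ∨ g ∈ P) → ∀ h ∈ C, g * h * g⁻¹ ∈ C := by
    intro g hg h hh
    have hh' := (hCmem h).mp hh
    rcases hg with hg | hg
    · have h1 : g * h * g⁻¹ = h := by
        rw [hNab g hg h hh'.1]; group
      rw [h1]; exact hh
    · rw [hCmem]
      refine ⟨hN.conj_mem h hh'.1 g, ?_⟩
      have h1 := hzP g hg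
      have h2 := hzP g⁻¹ (P.inv_mem hg)
      calc z * (g * h * g⁻¹) = (z * g) * h * g⁻¹ := by group
        _ = g * (z * h) * g⁻¹ := by rw [h1]; group
        _ = g * h * (z * g⁻¹) := by rw [hh'.2]; group
        _ = g * h * g⁻¹ * z := by rw [h2]; group
  have hCn : C.Normal := by
    apply Subgroup.normalizer_eq_top_iff.mp
    apply top_le_iff.mp
    rw [← hprod]
    apply sup_le
    · intro g hg
      rw [Subgroup.mem_normalizer_iff]
      intro h
      constructor
      · exact hfwd g (Or.inl hg) h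
      · intro hh
        have := hfwd g⁻¹ (Or.inl (N.inv_mem hg)) _ hh
        simpa [mul_assoc] using this
    · intro g hg
      rw [Subgroup.mem_normalizer_iff]
      intro h
      constructor
      · exact hfwd g (Or.inr hg) h
      · intro hh
        have := hfwd g⁻¹ (Or.inr (P.inv_mem hg)) _ hh
        simpa [mul_assoc] using this
  refine ⟨z, hz2, ?_⟩
  by_cases hC : C = ⊥
  · intro n
    have hzn : z * (n : G) * z⁻¹ ∈ N := hN.conj_mem n n.2 z
    have hc : (n : G) * (z * (n : G) * z⁻¹) ∈ C := by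
      rw [hCmem]
      refine ⟨N.mul_mem n.2 hzn, ?_⟩
      have h1 := hNab _ n.2 _ hzn
      calc z * ((n : G) * (z * (n : G) * z⁻¹))
          = (z * (n : G) * z⁻¹) * (z * z) * (n : G) * z⁻¹ := by group
        _ = (z * (n : G) * z⁻¹) * (n : G) * z⁻¹ := by rw [hz2, mul_one]
        _ = ((n : G) * (z * (n : G) * z⁻¹)) * z⁻¹ := by rw [h1]
        _ = (n : G) * (z * (n : G) * z⁻¹) * z := by rw [hzi]
    rw [hC, Subgroup.mem_bot] at hc
    exact eq_inv_of_mul_eq_one_right hc
  · exfalso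
    have hNC := hmin.2 C hCn hC
    have hzG : ∀ g : G, z * g = g * z := by
      intro g
      have hg : g ∈ N ⊔ P := by rw [hprod]; exact Subgroup.mem_top g
      have hle : N ⊔ P ≤ Subgroup.centralizer {z} := by
        apply sup_le
        · intro a ha
          rw [Subgroup.mem_centralizer_iff]
          intro y hy
          rw [Set.mem_singleton_iff.mp hy]
          exact ((hCmem a).mp (hNC ha)).2
        · intro a ha
          rw [Subgroup.mem_centralizer_iff]
          intro y hy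
          rw [Set.mem_singleton_iff.mp hy]
          exact hzP a ha
      exact Subgroup.mem_centralizer_iff.mp (hle hg) z rfl
    have hZn : (Subgroup.zpowers z).Normal := by
      refine ⟨fun y hy g => ?_⟩
      obtain ⟨i, rfl⟩ := Subgroup.mem_zpowers_iff.mp hy
      have hcomm : Commute (z ^ i) g := Commute.zpow_left (hzG g) i
      have h1 : g * z ^ i * g⁻¹ = z ^ i := by
        rw [← hcomm.eq]; group
      rw [h1]
      exact Subgroup.zpow_mem_zpowers z i
    have hZ1 : Subgroup.zpowers z ≠ ⊥ := by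
      intro h
      apply hz1
      have := Subgroup.mem_zpowers z
      rw [h, Subgroup.mem_bot] at this
      exact this
    have hNZ := hmin.2 _ hZn hZ1
    obtain ⟨n, hn1⟩ := (Subgroup.ne_bot_iff_exists_ne_one).mp hmin.1
    obtain ⟨i, hi⟩ := Subgroup.mem_zpowers_iff.mp (hNZ n.2)
    have hnn : (n : G) * (n : G) = 1 := by
      rw [← hi, ← zpow_add, ← two_mul, zpow_mul, zpow_two, hz2, one_zpow]
    have hnq := hNel.2 _ n.2
    obtain ⟨t, ht⟩ := hqodd
    rw [ht, pow_succ, pow_mul, pow_two, hnn, one_pow, one_mul] at hnq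
    exact hn1 (Subtype.ext hnq)


/-- Let G be a finite group that is the semidirect product of a normal elementary abelian subgroup N of odd order by a non-trivial 2-subgroup P, with N the unique minimal normal subgroup of G. Consider the strongly real irreducible complex characters of G (Frobenius–Schur indicator +1) whose degree is 1 or even. Then their average degree is at least 4/3: four times their number is at most three times the sum of their degrees. -/
theorem result {G : Type*} [Group G] [Finite G] (N P : Subgroup G) (hN : N.Normal) (q : ℕ) [Fact q.Prime] (hq : q ≠ 2) (hNel : Cfsg.IsElementaryAbelian q N) (hP : IsPGroup 2 ↥P) (hP1 : P ≠ ⊥) (hdisj : N ⊓ P = ⊥) (hprod : N ⊔ P = ⊤) (hmin : N ≠ ⊥ ∧ ∀ M : Subgroup G, M.Normal → M ≠ ⊥ → N ≤ M) : 4 * Nat.card {χ : Cfsg.IrrCharacter G // (Cfsg.charDegree (χ : G → ℂ) = 1 ∨ 2 ∣ Cfsg.charDegree (χ : G → ℂ)) ∧ (Nat.card G : ℂ)⁻¹ * ∑ᶠ g : G, (χ : G → ℂ) (g * g) = 1} ≤ 3 * (∑ᶠ χ : {χ : Cfsg.IrrCharacter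 G // (Cfsg.charDegree (χ : G → ℂ) = 1 ∨ 2 ∣ Cfsg.charDegree (χ : G → ℂ)) ∧ (Nat.card G : ℂ)⁻¹ * ∑ᶠ g : G, (χ : G → ℂ) (g * g) = 1}, Cfsg.charDegree (χ.1 : G → ℂ)) := by
  classical
  have := Fintype.ofFinite G
  have := hN
  obtain ⟨z, hz2, hzinv⟩ := exists_inverting N P hN q hq hNel hP hP1 hprod hmin
  have hNab : ∀ a ∈ N, ∀ b ∈ N, a * b = b * a := by
    intro a ha b hb
    exact congrArg Subtype.val (hNel.1.is_comm.comm (⟨a, ha⟩ : N) ⟨b, hb⟩)
  have hqodd : Odd q := (Nat.Prime.eq_two_or_odd' (Fact.out : q.Prime)).resolve_left hq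
  have hNp : IsPGroup q N := by
    intro a
    refine ⟨1, ?_⟩
    rw [pow_one]
    apply Subtype.ext
    simpa using hNel.2 a a.2
  obtain ⟨j, hj⟩ := hNp.exists_card_eq
  have hcompl : Subgroup.IsComplement' P N := by
    apply Subgroup.isComplement'_of_disjoint_and_mul_eq_univ
    · rw [disjoint_iff, inf_comm]; exact hdisj
    · rw [← Subgroup.mul_normal P N, sup_comm, hprod]; rfl
  obtain ⟨k, hk⟩ := hP.exists_card_eq
  have hidx : N.index = 2 ^ k := by rw [hcompl.index_eq_card, hk]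
  have hodd : Odd (Nat.card N) := by rw [hj]; exact hqodd.pow
  have hcop : Nat.Coprime (Nat.card N) N.index := by
    rw [hidx]
    exact Nat.Coprime.pow_right _ (Nat.coprime_two_right.mpr hodd)
  have hodd1 : ∀ u : ℂˣ, u ^ 2 = 1 → u ^ Nat.card N = 1 → u = 1 := by
    intro u h1 h2
    have h3 : orderOf u ∣ Nat.gcd 2 (Nat.card N) :=
      Nat.dvd_gcd (orderOf_dvd_of_pow_eq_one h1) (orderOf_dvd_of_pow_eq_one h2)
    have h4 : Nat.gcd 2 (Nat.card N) = 1 := Nat.coprime_two_left.mpr hodd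
    rw [h4] at h3
    exact orderOf_eq_one_iff.mp (Nat.dvd_one.mp h3)
  have hpowN : ∀ n : N, (n : G) ^ Nat.card N = 1 := by
    intro n
    have h1 : n ^ Nat.card N = 1 := pow_card_eq_one'
    have h2 : ((n ^ Nat.card N : N) : G) = ((1 : N) : G) := congrArg Subtype.val h1
    rw [Subgroup.coe_pow, Subgroup.coe_one] at h2
    exact h2
  obtain ⟨n₀, hn₀⟩ : ∃ n₀ : N, n₀ ≠ 1 := by
    obtain ⟨n, hn1⟩ := (Subgroup.ne_bot_iff_exists_ne_one).mp hmin.1
    exact ⟨n, hn1⟩
  obtain ⟨lam, hlam⟩ := exists_hom_ne_one_of_comm (B := N)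
    (fun a b => Subtype.ext (hNab a a.2 b b.2)) hn₀
  have hNI : N ≤ linStab N lam := le_linStab_of_comm N hNab lam
  obtain ⟨μ, hμ, hδ⟩ := exists_ext_inverted N hcop lam hNI z hzinv
  have hΘν := indicator_of_inverting N lam hNI μ hμ z hz2 hzinv hδ
  obtain ⟨φ, hφ⟩ : ∃ φ : IrrCharacter N, (φ : N → ℂ) = fun n => ((lam n : ℂˣ) : ℂ) :=
    ⟨⟨_, isIrrCharacter_of_hom lam⟩, rfl⟩
  obtain ⟨ψ, hψdef⟩ : ∃ ψ : IrrCharacter (linStab N lam),
      (ψ : linStab N lam → ℂ) = fun s => ((μ s : ℂˣ) : ℂ) :=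
    ⟨⟨_, isIrrCharacter_of_hom μ⟩, rfl⟩
  have hI' : ∀ g : G, g ∈ linStab N lam
      ↔ Cfsg.Agent.Lib.Helper2.conjFun N (φ : N → ℂ) g = (φ : N → ℂ) := by
    intro g
    rw [mem_linStab_iff, hφ]
    constructor
    · intro h
      funext a
      rw [Cfsg.Agent.Lib.Helper2.conjFun_apply]
      exact congrArg Units.val (h a)
    · intro h a
      have h1 := congrFun h a
      rw [Cfsg.Agent.Lib.Helper2.conjFun_apply] at h1
      exact Units.ext h1
  have hψ : ∀ n : N, (ψ : linStab N lam → ℂ) (Subgroup.inclusion hNI n) = (φ : N → ℂ) n := by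
    intro n
    rw [hψdef, hφ]
    exact congrArg Units.val (hμ n)
  have hlamN : ∀ lam' : G →* ℂˣ, (∀ g : G, ((lam' g : ℂˣ) : ℂ) * (lam' g : ℂ) = 1) →
      ∀ n : N, lam' (n : G) = 1 := by
    intro lam' hsq n
    apply hodd1
    · apply Units.ext
      rw [Units.val_pow_eq_pow_val, pow_two, hsq, Units.val_one]
    · rw [← map_pow, hpowN, map_one]
  rw [← hψdef] at hΘν
  have hcount := real_linear_count N φ (linStab N lam) hI' hNI ψ hψ hΘν hlamN
  have hφdeg : charDegree (φ : N → ℂ) = 1 := by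
    unfold charDegree
    rw [hφ]
    show ⌊(((lam 1 : ℂˣ) : ℂ)).re⌋₊ = 1
    rw [map_one, Units.val_one, Complex.one_re, Nat.floor_one]
  rw [hφdeg, one_mul] at hcount
  -- the index of the stabilizer is even
  have hzI : z ∉ linStab N lam := by
    intro hmem
    have h1 := (mem_linStab_iff N lam z).mp hmem n₀
    have h2 : (⟨z * (n₀ : G) * z⁻¹, hN.conj_mem n₀ n₀.2 z⟩ : N) = n₀⁻¹ :=
      Subtype.ext (hzinv n₀)
    rw [h2, map_inv] at h1
    apply hlam
    apply hodd1
    · rw [pow_two]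
      nth_rewrite 1 [← h1]
      exact inv_mul_cancel _
    · rw [← map_pow, pow_card_eq_one', map_one]
  have hm1 : (linStab N lam).index ≠ 1 := by
    intro h
    rw [Subgroup.index_eq_one] at h
    exact hzI (h ▸ Subgroup.mem_top z)
  have hmdvd : (linStab N lam).index ∣ 2 ^ k := by
    rw [← hidx]
    exact Subgroup.index_dvd_of_le hNI
  obtain ⟨i, -, hi⟩ := (Nat.dvd_prime_pow Nat.prime_two).mp hmdvd
  have hi0 : i ≠ 0 := by
    intro h0
    rw [h0, pow_zero] at hi
    exact hm1 hi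
  have hm2 : 2 ∣ (linStab N lam).index := by
    rw [hi]
    exact dvd_pow_self 2 hi0
  have hmge : 2 ≤ (linStab N lam).index := Nat.le_of_dvd (Nat.pos_of_ne_zero
    Subgroup.index_ne_zero_of_finite) hm2
  have hpos : ∀ χ : IrrCharacter G, 0 < charDegree (χ : G → ℂ) := by
    intro χ
    obtain ⟨d, _, hd0, _, hd⟩ := irr_degree χ
    rw [hd]
    exact hd0
  exact avg_bound (fun χ : IrrCharacter G => charDegree (χ : G → ℂ))
    (fun χ : IrrCharacter G => (Nat.card G : ℂ)⁻¹ * ∑ᶠ g : G, (χ : G → ℂ) (g * g) = 1)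
    (linStab N lam).index hmge hm2 hpos hcount

end Cfsg.Agent.S4871
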