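import Cfsg.Statements.S4873
import Cfsg.Agent.S4058
import Cfsg.Agent.Lib.Helper26.OddIndex

set_option autoImplicit false
open Cfsg

namespace Cfsg.Agent.S4873

open Cfsg.Agent.Lib.Helper2 Cfsg.Agent.Lib.Helper25 Cfsg.Agent.Lib.Helper26
open scoped ComplexConjugate

/-- Let N be a normal subgroup of odd index in the finite group G. Then every irreducible complex character of N with Frobenius–Schur indicator +1 lies under exactly one irreducible character of G with Frobenius–Schur indicator +1. -/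
theorem result {G : Type*} [Group G] [Finite G] (N : Subgroup G) [N.Normal] (hodd : Odd N.index) (φ : Cfsg.IrrCharacter ↥N) (hφ : (Nat.card ↥N : ℂ)⁻¹ * ∑ᶠ g : ↥N, (φ : ↥N → ℂ) (g * g) = 1) : ∃! χ : Cfsg.IrrCharacter G, (Nat.card G : ℂ)⁻¹ * ∑ᶠ g : G, (χ : G → ℂ) (g * g) = 1 ∧ (∑ᶠ n : ↥N, (χ : G → ℂ) n * (starRingEnd ℂ) ((φ : ↥N → ℂ) n)) ≠ 0 := by
  classical
  have : Fintype G := Fintype.ofFinite G
  have : Fintype (IrrCharacter G) := Fintype.ofFinite _
  rw [finsum_eq_sum_of_fintype] at hφ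
  have hN0 : (Nat.card N : ℂ) ≠ 0 := card_ne_zero_complex N
  have hx2 : ∀ x : G, x * x ∈ N → x ∈ N := by
    intro x hx
    rw [← QuotientGroup.eq_one_iff] at hx ⊢
    have h1 : ((x : G ⧸ N)) ^ 2 = 1 := by
      rw [pow_two]
      exact hx
    have h2 : ((x : G ⧸ N)) ^ N.index = 1 := by
      rw [Subgroup.index]
      exact pow_card_eq_one'
    obtain ⟨k, hk⟩ := hodd
    rw [hk, pow_succ, pow_mul, h1, one_pow, one_mul] at h2
    exact h2
  have hkey : ∑ χ : IrrCharacter G, Cfsg.Agent.S4058.fsInd (χ : G → ℂ) *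
      ∑ n : N, (χ : G → ℂ) n * conj ((φ : N → ℂ) n) = (Nat.card N : ℂ) := by
    have hexp := class_fun_expand (Cfsg.Agent.S4058.sqCount (G := G))
      Cfsg.Agent.S4058.sqCount_classFun
    have hsq : ∀ n : N, Cfsg.Agent.S4058.sqCount (n : G)
        = ∑ χ : IrrCharacter G, Cfsg.Agent.S4058.fsInd (χ : G → ℂ) * (χ : G → ℂ) n := by
      intro n
      have h := congrFun hexp (n : G)
      rw [Finset.sum_apply] at h
      rw [h]
      apply Finset.sum_congr rfl
      intro χ _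
      rw [Pi.smul_apply, smul_eq_mul, Cfsg.Agent.S4058.classInner_sqCount χ.2]
    have h1 : ∑ n : N, Cfsg.Agent.S4058.sqCount (n : G) * conj ((φ : N → ℂ) n)
        = ∑ χ : IrrCharacter G, Cfsg.Agent.S4058.fsInd (χ : G → ℂ) *
            ∑ n : N, (χ : G → ℂ) n * conj ((φ : N → ℂ) n) := by
      simp only [hsq, Finset.sum_mul, Finset.mul_sum]
      rw [Finset.sum_comm]
      apply Finset.sum_congr rfl
      intro χ _
      apply Finset.sum_congr rfl
      intro n _
      ring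
    rw [← h1]
    unfold Cfsg.Agent.S4058.sqCount
    simp only [Finset.sum_mul]
    rw [Finset.sum_comm]
    have h2 : ∀ x : G, ∑ n : N, (if x * x = (n : G) then (1 : ℂ) else 0) * conj ((φ : N → ℂ) n)
        = if h : x ∈ N then conj ((φ : N → ℂ) (⟨x, h⟩ * ⟨x, h⟩)) else 0 := by
      intro x
      by_cases hx : x ∈ N
      · rw [dif_pos hx]
        rw [Finset.sum_eq_single (⟨x, hx⟩ * ⟨x, hx⟩ : N)]
        · rw [if_pos (show x * x = ((⟨x, hx⟩ * ⟨x, hx⟩ : N) : G) from rfl), one_mul]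
        · intro n _ hn
          rw [if_neg, zero_mul]
          intro h
          apply hn
          apply Subtype.ext
          exact h.symm
        · intro h
          exact absurd (Finset.mem_univ _) h
      · rw [dif_neg hx]
        apply Finset.sum_eq_zero
        intro n _
        rw [if_neg, zero_mul]
        intro h
        exact hx (hx2 x (by rw [h]; exact n.2))
    rw [Finset.sum_congr rfl (fun x _ => h2 x)]
    have h3 : ∑ x : G, (if h : x ∈ N then conj ((φ : N → ℂ) (⟨x, h⟩ * ⟨x, h⟩)) else 0)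
        = ∑ y : N, conj ((φ : N → ℂ) (y * y)) := by
      have hF : ∀ x : G, (if h : x ∈ N then conj ((φ : N → ℂ) (⟨x, h⟩ * ⟨x, h⟩)) else 0)
          = if x ∈ N then (if h : x ∈ N then conj ((φ : N → ℂ) (⟨x, h⟩ * ⟨x, h⟩)) else 0)
            else 0 := by
        intro x
        by_cases hx : x ∈ N
        · rw [if_pos hx]
        · rw [if_neg hx, dif_neg hx]
      rw [Finset.sum_congr rfl (fun x _ => hF x), sum_ite_mem_subgroup N
        (fun x => if h : x ∈ N then conj ((φ : N → ℂ) (⟨x, h⟩ * ⟨x, h⟩)) else 0)]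
      apply Finset.sum_congr rfl
      intro y _
      rw [dif_pos y.2]
    rw [h3, ← map_sum]
    have h4 : ∑ y : N, (φ : N → ℂ) (y * y) = (Nat.card N : ℂ) := by
      have h5 : (Nat.card N : ℂ) * ((Nat.card N : ℂ)⁻¹ * ∑ y : N, (φ : N → ℂ) (y * y))
          = (Nat.card N : ℂ) * 1 := by rw [hφ]
      rw [← mul_assoc, mul_inv_cancel₀ hN0, one_mul, mul_one] at h5
      exact h5
    rw [h4, Complex.conj_natCast]
  have hex : ∃ χ : IrrCharacter G, Cfsg.Agent.S4058.fsInd (χ : G → ℂ) ≠ 0 ∧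
      ∑ n : N, (χ : G → ℂ) n * conj ((φ : N → ℂ) n) ≠ 0 := by
    by_contra hcon
    push Not at hcon
    have h0 : ∑ χ : IrrCharacter G, Cfsg.Agent.S4058.fsInd (χ : G → ℂ) *
        ∑ n : N, (χ : G → ℂ) n * conj ((φ : N → ℂ) n) = 0 := by
      apply Finset.sum_eq_zero
      intro χ _
      by_cases h : Cfsg.Agent.S4058.fsInd (χ : G → ℂ) = 0
      · rw [h, zero_mul]
      · rw [hcon χ h, mul_zero]
    rw [h0] at hkey
    exact hN0 hkey.symm
  obtain ⟨χ, hχfs, hχS⟩ := hex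
  have hreal_of_fs : ∀ χ' : IrrCharacter G, Cfsg.Agent.S4058.fsInd (χ' : G → ℂ) ≠ 0 →
      ∀ g, conj ((χ' : G → ℂ) g) = (χ' : G → ℂ) g := by
    intro χ' h g
    obtain ⟨n, ρ, hρ, hχ'⟩ := χ'.2
    have := hρ
    have h2 := (frobenius_schur ρ).2
    by_contra hne
    apply h
    unfold Cfsg.Agent.S4058.fsInd
    rw [← hχ']
    apply h2.mpr
    refine ⟨g, ?_⟩
    intro him
    apply hne
    rw [← hχ']
    exact Complex.conj_eq_iff_im.mpr him
  have hS : ∀ χ' : IrrCharacter G, ∑ n : N, (χ' : G → ℂ) n * conj ((φ : N → ℂ) n)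
      = (Nat.card N : ℂ) * classInner (fun n : N => (χ' : G → ℂ) n) (φ : N → ℂ) := by
    intro χ'
    rw [classInner_def, ← mul_assoc, mul_inv_cancel₀ hN0, one_mul]
  have huniq : ∀ χ' : IrrCharacter G, Cfsg.Agent.S4058.fsInd (χ' : G → ℂ) ≠ 0 →
      ∑ n : N, (χ' : G → ℂ) n * conj ((φ : N → ℂ) n) ≠ 0 → χ' = χ := by
    intro χ' h1 h2
    apply real_over_unique N hodd φ χ' χ (hreal_of_fs χ' h1) (hreal_of_fs χ hχfs)
    · intro h0
      apply h2
      rw [hS, h0, mul_zero]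
    · intro h0
      apply hχS
      rw [hS, h0, mul_zero]
  rw [Finset.sum_eq_single χ] at hkey
  rotate_left
  · intro χ' _ hne
    by_cases h1 : Cfsg.Agent.S4058.fsInd (χ' : G → ℂ) = 0
    · rw [h1, zero_mul]
    · by_cases h2 : ∑ n : N, (χ' : G → ℂ) n * conj ((φ : N → ℂ) n) = 0
      · rw [h2, mul_zero]
      · exact absurd (huniq χ' h1 h2) hne
  · intro h
    exact absurd (Finset.mem_univ _) h
  obtain ⟨e, he⟩ := classInner_isCharacter_nat
    (IsCharacter.restrict (isCharacter_of_isIrrCharacter χ.2) N)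
    (isCharacter_of_isIrrCharacter φ.2)
  rw [hS, he] at hkey
  have hfe : Cfsg.Agent.S4058.fsInd (χ : G → ℂ) * (e : ℂ) = 1 := by
    have h6 : (Nat.card N : ℂ) * (Cfsg.Agent.S4058.fsInd (χ : G → ℂ) * (e : ℂ))
        = (Nat.card N : ℂ) * 1 := by
      calc (Nat.card N : ℂ) * (Cfsg.Agent.S4058.fsInd (χ : G → ℂ) * (e : ℂ))
          = Cfsg.Agent.S4058.fsInd (χ : G → ℂ) * ((Nat.card N : ℂ) * (e : ℂ)) := by ring
        _ = (Nat.card N : ℂ) := hkey
        _ = (Nat.card N : ℂ) * 1 := (mul_one _).symm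
    exact mul_left_cancel₀ hN0 h6
  have hfs1 : Cfsg.Agent.S4058.fsInd (χ : G → ℂ) = 1 := by
    rcases Cfsg.Agent.S4058.fsInd_cases χ.2 with h | h | h
    · exact absurd h hχfs
    · exact h
    · rw [h] at hfe
      exfalso
      have h7 := congrArg Complex.re hfe
      simp at h7
      have he0 : (0 : ℝ) ≤ e := Nat.cast_nonneg e
      linarith
  refine ⟨χ, ⟨?_, ?_⟩, ?_⟩
  · rw [finsum_eq_sum_of_fintype]
    exact hfs1
  · rw [finsum_eq_sum_of_fintype]
    exact hχS
  · rintro χ' ⟨h1, h2⟩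
    rw [finsum_eq_sum_of_fintype] at h1 h2
    apply huniq χ' _ h2
    show Cfsg.Agent.S4058.fsInd (χ' : G → ℂ) ≠ 0
    unfold Cfsg.Agent.S4058.fsInd
    rw [h1]
    exact one_ne_zero

end Cfsg.Agent.S4873
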