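import Mathlib
import Cfsg.Statements.S4911
import Cfsg.Agent.Lib.Helper2.RealInv

set_option autoImplicit false

open Cfsg

namespace Cfsg.Agent.S4911

open Cfsg.Agent.Lib.Helper2

open scoped ComplexConjugate

/-- Let P and K be subgroups of a finite group with P a p-group normalizing K and K of order prime to p. Then the number of P-invariant real-valued irreducible complex characters of K equals the number of conjugacy classes of K that are real (closed under inversion) and P-invariant. Moreover, if every real-valued irreducible character of K is P-invariant, then every real element of K (one conjugate in K to its inverse) is conjugate in K to an element centralized by P. -/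
theorem result {G : Type*} [Group G] [Finite G] (p : ℕ) [Fact p.Prime] (P K : Subgroup G) (hP : IsPGroup p ↥P) (hK : ¬ p ∣ Nat.card ↥K) (hPK : P ≤ Subgroup.normalizer (K : Set G)) : Nat.card {θ : Cfsg.IrrCharacter ↥K // (∀ k : ↥K, ((θ : ↥K → ℂ) k).im = 0) ∧ (∀ x ∈ P, ∀ k k' : ↥K, (k' : G) = x * (k : G) * x⁻¹ → (θ : ↥K → ℂ) k' = (θ : ↥K → ℂ) k)} = Nat.card {c : ConjClasses ↥K // (∀ k : ↥K, ConjClasses.mk k = c → IsConj k k⁻¹) ∧ ∀ k : ↥K, ConjClasses.mk k = c → ∀ x ∈ P, ∀ k' : ↥K, (k' : G) = x * (k : G) * x⁻¹ → ConjClasses.mk k' = c} ∧ ((∀ θ : Cfsg.IrrCharacter ↥K, (∀ k : ↥K, ((θ : ↥K → ℂ) k).im = 0) → (∀ x ∈ P, ∀ k k' : ↥K, (k' : G) = x * (k : G) * x⁻¹ → (θ : ↥K → ℂ) k' = (θ : ↥K → ℂ) k)) → ∀ k : ↥K, IsConj k k⁻¹ → ∃ k' : ↥K, IsConj k k' ∧ ∀ x ∈ P, x * (k' : G) * x⁻¹ = (k' : G)) := by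
  classical
  haveI := Fintype.ofFinite K
  have hpp : p.Prime := Fact.out
  have hnormP : ∀ s ∈ P, ∀ g ∈ K, s * g * s⁻¹ ∈ K := by
    intro s hs g hg
    exact (Subgroup.mem_normalizer_iff.mp (hPK hs) g).mp hg
  obtain ⟨n, hn⟩ := IsPGroup.iff_card.mp hP
  have hcop : (Nat.card K).Coprime (Nat.card P) := by
    rw [hn]
    exact Nat.Coprime.pow_right n ((Nat.Prime.coprime_iff_not_dvd hpp).mpr hK).symm
  obtain ⟨C, hC⟩ : ∃ C : Subgroup G, C = K ⊓ Subgroup.centralizer (P : Set G) := ⟨_, rfl⟩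
  have hCK : C ≤ K := by
    rw [hC]
    exact inf_le_left
  haveI := Fintype.ofFinite C
  obtain ⟨k, -, hrel⟩ : ∃ k, k ≤ n ∧
      (P ⊓ Subgroup.centralizer (K : Set G)).relIndex P = p ^ k := by
    have h1 : (P ⊓ Subgroup.centralizer (K : Set G)).relIndex P ∣ p ^ n := by
      rw [← hn]
      exact Subgroup.relIndex_dvd_card _ _
    exact (Nat.dvd_prime_pow hpp).mp h1
  have hglaub := glaub_pgroup p K P C hnormP hP hcop hC hCK
  have hA := card_real_of_isGlaub p hpp (Subgroup.inclusion hCK) (SInv K P) (by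
    intro χ hχ s hs g g' hgg'
    show conj (χ g') = conj (χ g)
    rw [hχ s hs g g' hgg']) hglaub
  have hB := card_real_irr (H := C)
  have hCl := card_real_cl p k K P C hnormP hrel hK hC hCK
  have part1 := (hA.trans hB).trans hCl
  refine ⟨part1, ?_⟩
  intro hall k₁ hk₁
  have e1 : Nat.card {θ : Cfsg.IrrCharacter K // ∀ a : K, ((θ : K → ℂ) a).im = 0}
      = Nat.card {θ : Cfsg.IrrCharacter K //
          (∀ a : K, ((θ : K → ℂ) a).im = 0) ∧ SInv K P (θ : K → ℂ)} :=
    Nat.card_congr (Equiv.subtypeEquivRight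
      (fun θ => ⟨fun h => ⟨h, hall θ h⟩, fun h => h.1⟩))
  have e2 := card_real_irr (H := K)
  have hcardeq : Nat.card {c : ConjClasses K //
      (∀ a : K, ConjClasses.mk a = c → IsConj a a⁻¹) ∧
        ∀ a : K, ConjClasses.mk a = c → ∀ x ∈ P, ∀ a' : K,
          (a' : G) = x * (a : G) * x⁻¹ → ConjClasses.mk a' = c}
      = Nat.card {c : ConjClasses K // ∀ a : K, ConjClasses.mk a = c → IsConj a a⁻¹} := by
    rw [← part1, ← e1, e2]
  have hincl : Function.Injective
      (fun c : {c : ConjClasses K // (∀ a : K, ConjClasses.mk a = c → IsConj a a⁻¹) ∧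
        ∀ a : K, ConjClasses.mk a = c → ∀ x ∈ P, ∀ a' : K,
          (a' : G) = x * (a : G) * x⁻¹ → ConjClasses.mk a' = c} =>
        (⟨c.1, c.2.1⟩ : {c : ConjClasses K //
          ∀ a : K, ConjClasses.mk a = c → IsConj a a⁻¹})) :=
    fun a b h => by
      have h2 := congrArg Subtype.val h
      exact Subtype.ext h2
  have hbij := hincl.bijective_of_nat_card_le (le_of_eq hcardeq.symm)
  obtain ⟨⟨c, hc1, hc2⟩, hc⟩ := hbij.2 ⟨ConjClasses.mk k₁, fun a ha => by
    have h1 : IsConj a k₁ := ConjClasses.mk_eq_mk_iff_isConj.mp ha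
    exact h1.trans (hk₁.trans (isConj_inv_inv h1).symm)⟩
  have hceq : c = ConjClasses.mk k₁ := congrArg Subtype.val hc
  subst hceq
  obtain ⟨c₀, hc₀C, hc₀⟩ := cl_exists_fixed p k K P C hnormP hrel hK hC k₁ (by
    intro x hx
    have h2 := hc2 k₁ rfl x hx ⟨x * k₁ * x⁻¹, hnormP x hx k₁ k₁.2⟩ rfl
    exact ConjClasses.mk_eq_mk_iff_isConj.mp h2)
  refine ⟨c₀, hc₀.symm, fun x hx => ?_⟩
  have h1 : (c₀ : G) ∈ K ⊓ Subgroup.centralizer (P : Set G) := by
    rw [← hC]
    exact hc₀C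
  have h2 := (Subgroup.mem_centralizer_iff.mp h1.2) x hx
  rw [h2]
  group

end Cfsg.Agent.S4911
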