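import Mathlib
import Cfsg.Statements.S4914
import Cfsg.Agent.Lib.Helper2.RelG9

set_option autoImplicit false

open Cfsg

namespace Cfsg.Agent.S4914

open Cfsg.Agent.Lib.Helper2

/-- Let P and K be subgroups of a finite group G with P a p-group normalizing K, and suppose K has a normal Sylow p-subgroup Q. Let C be the subgroup of those k ∈ K whose commutator with every element of P lies in Q (so that C/Q is the fixed-point subgroup of P on K/Q). Then there is a bijection f from the P-invariant irreducible complex characters of K onto the P-invariant irreducible complex characters of C such that, for every P-invariant irreducible character χ of K, the multiplicity of f(χ) in the restriction of χ to C is a natural number congruent to 1 or to −1 modulo p, every other P-invariant irreducible character of C occurs in that restriction with multiplicity divisible by p, and the degrees of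 χ and f(χ) are congruent modulo p up to sign. -/
theorem result {G : Type*} [Group G] [Finite G] (p : ℕ) [Fact p.Prime] (P K Q C : Subgroup G) (hP : IsPGroup p ↥P) (hPK : P ≤ Subgroup.normalizer (K : Set G)) (hQK : Q ≤ K) (hQn : ∀ k ∈ K, ∀ q ∈ Q, k * q * k⁻¹ ∈ Q) (hQp : ∃ a : ℕ, Nat.card ↥Q = p ^ a) (hQsyl : ¬ p ∣ Q.relIndex K) (hCK : C ≤ K) (hC : ∀ k : G, k ∈ C ↔ (k ∈ K ∧ ∀ x ∈ P, x * k * x⁻¹ * k⁻¹ ∈ Q)) : ∃ f : {χ : Cfsg.IrrCharacter ↥K // (∀ x ∈ P, ∀ k k' : ↥K, (k' : G) = x * (k : G) * x⁻¹ → (χ : ↥K → ℂ) k' = (χ : ↥K → ℂ) k)} → {ξ : Cfsg.IrrCharacter ↥C // (∀ x ∈ P, ∀ k k' : ↥C, (k' : G) = x * (k : G) * x⁻¹ → (ξ : ↥C → ℂ) k' = (ξ : ↥C → ℂ) k)}, Function.Bijective f ∧ ∀ χ, (∀ ξ : {ξ : Cfsg.IrrCharacter ↥C // (∀ x ∈ P, ∀ k k' : ↥C, (k' : G) = x * (k : G) * x⁻¹ → (ξ : ↥C → ℂ) k' = (ξ : ↥C → ℂ) k)}, ∃ m : ℕ, (Nat.card ↥C : ℂ)⁻¹ * ∑ᶠ c : ↥C, (χ.1 : ↥K → ℂ) (Subgroup.inclusion hCK c)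 * (starRingEnd ℂ) ((ξ.1 : ↥C → ℂ) c) = (m : ℂ) ∧ (ξ = f χ → ((m : ZMod p) = 1 ∨ (m : ZMod p) = -1)) ∧ (ξ ≠ f χ → p ∣ m)) ∧ ((Cfsg.charDegree ((f χ).1 : ↥C → ℂ) : ZMod p) = (Cfsg.charDegree (χ.1 : ↥K → ℂ) : ZMod p) ∨ (Cfsg.charDegree ((f χ).1 : ↥C → ℂ) : ZMod p) = -(Cfsg.charDegree (χ.1 : ↥K → ℂ) : ZMod p)) := by
  classical
  haveI := Fintype.ofFinite K
  haveI := Fintype.ofFinite C
  have hPK' : ∀ s ∈ P, ∀ k ∈ K, s * k * s⁻¹ ∈ K := fun s hs k hk =>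
    (Subgroup.mem_normalizer_iff.mp (hPK hs) k).mp hk
  have hPQ := norm_sylow_char p P K Q hPK' hQK hQn hQp hQsyl
  have hPC : ∀ s ∈ P, ∀ c ∈ C, s * c * s⁻¹ ∈ C := by
    intro s hs c hc
    obtain ⟨hcK, hcP⟩ := (hC c).mp hc
    refine (hC _).mpr ⟨hPK' s hs c hcK, fun x hx => ?_⟩
    have hu := hcP (x * s) (P.mul_mem hx hs)
    have hv := hcP s hs
    have e : x * (s * c * s⁻¹) * x⁻¹ * (s * c * s⁻¹)⁻¹
        = ((x * s) * c * (x * s)⁻¹ * c⁻¹) * (s * c * s⁻¹ * c⁻¹)⁻¹ := by group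
    rw [e]
    exact Q.mul_mem hu (Q.inv_mem hv)
  obtain ⟨h1, h2, h3⟩ := main_corr' p P K Q C hP hPK' hQK hQn hPQ hQp hQsyl hCK hC
  exact final_corr p P K C hCK hP hPC h1 h2 h3

end Cfsg.Agent.S4914
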