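import Cfsg.Statements.S5094
import Cfsg.Agent.Lib.Helper26.ZStarGen
import Cfsg.Agent.Lib.Helper27.Basic
import Cfsg.Agent.Lib.Helper27.Grun

set_option autoImplicit false
open Cfsg

namespace Cfsg.Agent.S5094

open Cfsg.Agent.Lib.Helper26 Cfsg.Agent.Lib.Helper27


theorem conj_hom_mem {G : Type*} [Group G] (S P : Subgroup G) (hP : P ≤ S) (g : G)
    (hg : ∀ u ∈ P, g * u * g⁻¹ ∈ S) :
    ((MulAut.conj g).toMonoidHom.comp P.subtype) ∈ (groupFusionSystem S).Hom P :=
  ⟨hP, fun y => hg y y.2, g, fun _ => rfl⟩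

/-- Glauberman's Z*-Theorem in fusion language: for a finite group G with Sylow 2-subgroup S, the centre of the fusion system of G on S is the set of elements of S whose image in G/O(G) is central, O(G) being the largest normal subgroup of odd order. -/
theorem result {G : Type*} [Group G] [Finite G] (S : Sylow 2 G) : (Cfsg.groupFusionSystem (S : Subgroup G)).center = (S : Subgroup G) ⊓ (Subgroup.center (G ⧸ Cfsg.oddCore G)).comap (QuotientGroup.mk' (Cfsg.oddCore G)) := by

  classical
  have hp2 : Fact (Nat.Prime 2) := ⟨Nat.prime_two⟩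
  have hOn : (pPrimeCore 2 G).Normal := Cfsg.Agent.Lib.Helper1.pPrimeCore_normal 2
  have hOodd : (Nat.card (pPrimeCore 2 G)).Coprime 2 :=
    Cfsg.Agent.Lib.Helper1.pPrimeCore_coprime 2
  have hZc := isCentral_center (groupFusionSystem (S : Subgroup G))
  ext x
  rw [Subgroup.mem_inf, Subgroup.mem_comap]
  constructor
  · intro hx
    have hxS : x ∈ (S : Subgroup G) := hZc.1 hx
    refine ⟨hxS, ?_⟩
    apply zstar_general S x
    refine ⟨hxS, fun g hg => ?_⟩
    have hφ : ((MulAut.conj g).toMonoidHom.comp (Subgroup.zpowers x).subtype)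
        ∈ (groupFusionSystem (S : Subgroup G)).Hom (Subgroup.zpowers x) := by
      apply conj_hom_mem _ _ (Subgroup.zpowers_le.2 hxS)
      intro u hu
      obtain ⟨i, rfl⟩ := Subgroup.mem_zpowers_iff.1 hu
      rw [← conj_zpow]
      exact (S : Subgroup G).zpow_mem hg i
    exact apply_eq_of_isCentral _ hZc hφ hx (Subgroup.mem_zpowers x)
  · rintro ⟨hxS, hxc⟩
    have hcomm : ∀ g : G, x * g * x⁻¹ * g⁻¹ ∈ pPrimeCore 2 G := by
      intro g
      apply (QuotientGroup.eq_one_iff _).1
      have := Subgroup.mem_center_iff.1 hxc (g : G ⧸ pPrimeCore 2 G)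
      simp only [QuotientGroup.mk_mul, QuotientGroup.mk_inv]
      have h1 : (QuotientGroup.mk' (pPrimeCore 2 G)) x = (x : G ⧸ pPrimeCore 2 G) := rfl
      rw [h1] at this
      rw [← this]
      group
    have hxs : ∀ s ∈ (S : Subgroup G), x * s = s * x := by
      intro s hs
      have h1 : x * s * x⁻¹ * s⁻¹ = 1 :=
        eq_one_of_mem_two_odd S.isPGroup' hOodd
          ((S : Subgroup G).mul_mem ((S : Subgroup G).mul_mem ((S : Subgroup G).mul_mem hxS hs)
            ((S : Subgroup G).inv_mem hxS)) ((S : Subgroup G).inv_mem hs)) (hcomm s)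
      calc x * s = (x * s * x⁻¹ * s⁻¹) * s * x := by group
        _ = s * x := by rw [h1, one_mul]
    have hcen : (groupFusionSystem (S : Subgroup G)).IsCentral (Subgroup.zpowers x) := by
      refine ⟨Subgroup.zpowers_le.2 hxS, fun P φ hφ => ?_⟩
      obtain ⟨hPS, hφS, g, hg⟩ := hφ
      -- find a conjugating element fixing x
      obtain ⟨g', hg'P, hg'x⟩ : ∃ g' : G, (∀ u ∈ P, g' * u * g'⁻¹ = g * u * g⁻¹) ∧
          g' * x * g'⁻¹ = x := by
        obtain ⟨w, hw⟩ : ∃ w : G, w = g⁻¹ * x * g := ⟨_, rfl⟩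
        have hxC : x ∈ Subgroup.centralizer (P : Set G) := by
          rw [Subgroup.mem_centralizer_iff]
          intro u hu
          exact (hxs u (hPS hu)).symm
        have hwC : w ∈ Subgroup.centralizer (P : Set G) := by
          rw [Subgroup.mem_centralizer_iff]
          intro u hu
          have h1 : g * u * g⁻¹ ∈ (S : Subgroup G) := by
            have := hφS ⟨u, hu⟩
            rw [hg] at this
            exact this
          have h2 := hxs _ h1
          rw [hw]
          calc u * (g⁻¹ * x * g) = g⁻¹ * ((g * u * g⁻¹) * x) * g := by group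
            _ = g⁻¹ * (x * (g * u * g⁻¹)) * g := by rw [h2]
            _ = g⁻¹ * x * g * u := by group
        have hp1 : IsPGroup 2 (Subgroup.zpowers x) := isPGroup_zpowers_of_mem S.isPGroup' hxS
        have hp2' : IsPGroup 2 (Subgroup.zpowers w) := by
          have := isPGroup_zpowers_conj hp1 g⁻¹
          rw [inv_inv] at this
          rw [hw]
          exact this
        obtain ⟨t, ht, R, hR, -, hxR, htR⟩ :=
          Cfsg.Agent.Lib.Helper19.exists_conj_pgroup_le (Subgroup.centralizer (P : Set G))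
            (Subgroup.zpowers_le.2 hxC) (Subgroup.zpowers_le.2 hwC) hp1 hp2'
        have hyR : t * w * t⁻¹ ∈ R := htR w (Subgroup.mem_zpowers w)
        have hxR' : x ∈ R := hxR (Subgroup.mem_zpowers x)
        have hyO : t * w * t⁻¹ * x⁻¹ ∈ pPrimeCore 2 G := by
          have e : t * w * t⁻¹ * x⁻¹ = (x * (t * g⁻¹) * x⁻¹ * (t * g⁻¹)⁻¹)⁻¹ := by
            rw [hw]; group
          rw [e]
          exact (pPrimeCore 2 G).inv_mem (hcomm _)
        have e1 : t * w * t⁻¹ * x⁻¹ = 1 :=
          eq_one_of_mem_two_odd hR hOodd (R.mul_mem hyR (R.inv_mem hxR')) hyO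
        have e2 : t * w * t⁻¹ = x := by
          calc t * w * t⁻¹ = (t * w * t⁻¹ * x⁻¹) * x := by group
            _ = x := by rw [e1, one_mul]
        refine ⟨g * t⁻¹, fun u hu => ?_, ?_⟩
        · have h3 : t * u = u * t := (Subgroup.mem_centralizer_iff.1 ht u hu).symm
          calc g * t⁻¹ * u * (g * t⁻¹)⁻¹ = g * (t⁻¹ * (u * t)) * g⁻¹ := by group
            _ = g * (t⁻¹ * (t * u)) * g⁻¹ := by rw [h3]
            _ = g * u * g⁻¹ := by group
        · have e3 : x = g * t⁻¹ * (t * w * t⁻¹) * (g * t⁻¹)⁻¹ := by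
            rw [hw]; group
          rw [e2] at e3
          exact e3.symm
      have hle : P ⊔ Subgroup.zpowers x ≤ (S : Subgroup G) :=
        sup_le hPS (Subgroup.zpowers_le.2 hxS)
      have hval : ∀ u ∈ P ⊔ Subgroup.zpowers x, g' * u * g'⁻¹ ∈ (S : Subgroup G) := by
        have h1 : P ⊔ Subgroup.zpowers x
            ≤ (S : Subgroup G).comap (MulAut.conj g').toMonoidHom := by
          refine sup_le ?_ ?_
          · intro u hu
            rw [Subgroup.mem_comap]
            show g' * u * g'⁻¹ ∈ (S : Subgroup G)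
            rw [hg'P u hu]
            have := hφS ⟨u, hu⟩
            rw [hg] at this
            exact this
          · rw [Subgroup.zpowers_le, Subgroup.mem_comap]
            show g' * x * g'⁻¹ ∈ (S : Subgroup G)
            rw [hg'x]
            exact hxS
        intro u hu
        exact h1 hu
      refine ⟨(MulAut.conj g').toMonoidHom.comp (P ⊔ Subgroup.zpowers x).subtype,
        conj_hom_mem _ _ hle g' hval, ?_, ?_⟩
      · intro y
        rw [hg y]
        exact hg'P y y.2
      · intro y
        obtain ⟨i, hi⟩ := Subgroup.mem_zpowers_iff.1 y.2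
        show g' * (y : G) * g'⁻¹ = (y : G)
        rw [← hi, ← conj_zpow, hg'x]
    exact (le_sSup hcen : Subgroup.zpowers x ≤ _) (Subgroup.mem_zpowers x)

end Cfsg.Agent.S5094
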