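import Cfsg.Statements.S5164
-- import your own Cfsg.Agent.* helpers here
import Mathlib

set_option autoImplicit false
open Cfsg

namespace Cfsg.Agent.S5164


set_option linter.style.haveILetI false

open scoped Pointwise

/-- a `p`-group of permutations of fewer than `p²` points is abelian -/
theorem comm_of_small (p : ℕ) [Fact p.Prime] (n : ℕ) (hn : n < p ^ 2) {P : Type*} [Group P]
    [Finite P] (hP : IsPGroup p P) (ψ : P →* Equiv.Perm (Fin n)) (hψ : Function.Injective ψ)
    (g h : P) : g * h = h * g := by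
  classical
  have hp : p.Prime := Fact.out
  letI : MulAction P (Fin n) := MulAction.compHom (Fin n) ψ
  have hsmul : ∀ (a : P) (x : Fin n), a • x = ψ a x := fun a x => rfl
  apply hψ
  rw [map_mul, map_mul]
  ext x
  congr 1
  -- the orbit of `x`
  have hfin : Finite ↥(MulAction.orbit P x) := inferInstance
  obtain ⟨k, hk⟩ := hP.index (MulAction.stabilizer P x)
  rw [MulAction.index_stabilizer, ← Nat.card_coe_set_eq] at hk
  have hle : Nat.card ↥(MulAction.orbit P x) ≤ n := by
    have := Nat.card_le_card_of_injective (Subtype.val : ↥(MulAction.orbit P x) → Fin n)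
      Subtype.val_injective
    simpa using this
  have hk1 : k ≤ 1 := by
    by_contra hcon
    have h2 : 2 ≤ k := by omega
    have : p ^ 2 ≤ p ^ k := Nat.pow_le_pow_right hp.pos h2
    omega
  -- the image of `P` in the symmetric group of the orbit
  have hR : IsPGroup p ↥(MulAction.toPermHom P ↥(MulAction.orbit P x)).range :=
    hP.of_surjective (MulAction.toPermHom P ↥(MulAction.orbit P x)).rangeRestrict
      (MonoidHom.rangeRestrict_surjective _)
  obtain ⟨j, hj⟩ := hR.exists_card_eq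
  have hdvd : Nat.card ↥(MulAction.toPermHom P ↥(MulAction.orbit P x)).range ∣
      (Nat.card ↥(MulAction.orbit P x)).factorial := by
    have h1 := Subgroup.card_subgroup_dvd_card
      (MulAction.toPermHom P ↥(MulAction.orbit P x)).range
    have h2 : Nat.card (Equiv.Perm ↥(MulAction.orbit P x)) =
        (Nat.card ↥(MulAction.orbit P x)).factorial := by
      haveI := Fintype.ofFinite ↥(MulAction.orbit P x)
      rw [Nat.card_eq_fintype_card, Fintype.card_perm, Nat.card_eq_fintype_card]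
    rw [h2] at h1
    exact h1
  rw [hj, hk] at hdvd
  have hj1 : j ≤ 1 := by
    by_contra hcon
    have h2 : 2 ≤ j := by omega
    have h3 : p ^ 2 ∣ (p ^ k).factorial := (pow_dvd_pow p h2).trans hdvd
    interval_cases k
    · rw [pow_zero, Nat.factorial_one] at h3
      have := Nat.le_of_dvd Nat.one_pos h3
      have : 2 ≤ p := hp.two_le
      nlinarith
    · rw [pow_one] at h3
      obtain ⟨r, hr⟩ : ∃ r, p = r + 1 := ⟨p - 1, by have := hp.pos; omega⟩
      rw [hr, Nat.factorial_succ, ← hr, pow_two] at h3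
      have h4 : p ∣ r.factorial := Nat.dvd_of_mul_dvd_mul_left hp.pos h3
      have h5 := (hp.dvd_factorial).mp h4
      omega
  have hcomm : ∀ a b : ↥(MulAction.toPermHom P ↥(MulAction.orbit P x)).range, a * b = b * a := by
    interval_cases j
    · rw [pow_zero] at hj
      haveI : Subsingleton ↥(MulAction.toPermHom P ↥(MulAction.orbit P x)).range :=
        (Nat.card_eq_one_iff_unique.mp hj).1
      intro a b
      exact Subsingleton.elim _ _
    · rw [pow_one] at hj
      haveI := isCyclic_of_prime_card hj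
      intro a b
      exact (IsCyclic.isMulCommutative
        (α := ↥(MulAction.toPermHom P ↥(MulAction.orbit P x)).range)).is_comm.comm a b
  have h1 := hcomm ⟨_, MonoidHom.mem_range.mpr ⟨g, rfl⟩⟩ ⟨_, MonoidHom.mem_range.mpr ⟨h, rfl⟩⟩
  have h2 := congrArg Subtype.val h1
  have h3 := congrArg (fun (τ : Equiv.Perm ↥(MulAction.orbit P x)) =>
    ((τ ⟨x, MulAction.mem_orbit_self x⟩ : ↥(MulAction.orbit P x)) : Fin n)) h2
  exact h3

/-- transfer of a non-abelian `p`-group of even permutations into the alternating group -/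
theorem not_comm_of_config (p : ℕ) [Fact p.Prime] (n : ℕ) {X : Type} [Fintype X] [DecidableEq X]
    (hX : Fintype.card X ≤ n) (B : Subgroup (Equiv.Perm X)) (hB : IsPGroup p B)
    (σ : Equiv.Perm X) (k : ℕ) (hσ : σ ^ p ^ k = 1) (hN : ∀ b ∈ B, σ * b * σ⁻¹ ∈ B)
    (b0 : Equiv.Perm X) (hb0 : b0 ∈ B) (hne : σ * b0 ≠ b0 * σ)
    (hev : ∀ b ∈ B, Equiv.Perm.sign b = 1) (hσev : Equiv.Perm.sign σ = 1)
    (S : Sylow p (alternatingGroup (Fin n))) : ¬ IsMulCommutative S := by
  classical
  -- `σ` normalizes `B`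
  have hpow : ∀ j : ℕ, ∀ b ∈ B, σ ^ j * b * (σ ^ j)⁻¹ ∈ B := by
    intro j
    induction j with
    | zero => intro b hb; simpa using hb
    | succ j ih =>
      intro b hb
      have h1 := hN _ (ih b hb)
      have e1 : σ ^ (j + 1) * b * (σ ^ (j + 1))⁻¹ = σ * (σ ^ j * b * (σ ^ j)⁻¹) * σ⁻¹ := by
        rw [pow_succ']; group
      rw [e1]; exact h1
  have hNorm : σ ∈ Subgroup.normalizer (B : Set (Equiv.Perm X)) := by
    rw [Subgroup.mem_normalizer_iff]
    intro b
    refine ⟨hN b, fun hb => ?_⟩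
    have hpos : 0 < p ^ k := pow_pos (Fact.out : p.Prime).pos k
    have h1 := hpow (p ^ k - 1) _ hb
    have e1 : σ ^ (p ^ k - 1) = σ⁻¹ := by
      apply eq_inv_of_mul_eq_one_left
      rw [← pow_succ, Nat.sub_add_cancel hpos, hσ]
    rw [e1] at h1
    have e2 : σ⁻¹ * (σ * b * σ⁻¹) * σ⁻¹⁻¹ = b := by group
    rw [e2] at h1
    exact h1
  have hZ : IsPGroup p (Subgroup.zpowers σ) := by
    rintro ⟨x, hx⟩
    obtain ⟨i, rfl⟩ := Subgroup.mem_zpowers_iff.mp hx
    refine ⟨k, ?_⟩
    apply Subtype.ext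
    show (σ ^ i) ^ p ^ k = 1
    rw [← zpow_natCast, ← zpow_mul, mul_comm, zpow_mul, zpow_natCast, hσ, one_zpow]
  have hH : IsPGroup p ↥(Subgroup.zpowers σ ⊔ B) :=
    IsPGroup.to_sup_of_normal_right' hZ hB (Subgroup.zpowers_le.mpr hNorm)
  have hHalt : ∀ g ∈ Subgroup.zpowers σ ⊔ B, Equiv.Perm.sign g = 1 := by
    have : Subgroup.zpowers σ ⊔ B ≤ alternatingGroup X := by
      apply sup_le
      · exact Subgroup.zpowers_le.mpr (Equiv.Perm.mem_alternatingGroup.mpr hσev)
      · intro b hb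
        exact Equiv.Perm.mem_alternatingGroup.mpr (hev b hb)
    intro g hg
    exact Equiv.Perm.mem_alternatingGroup.mp (this hg)
  obtain ⟨ι⟩ : Nonempty (X ↪ Fin n) :=
    Function.Embedding.nonempty_of_card_le (by simpa using hX)
  have hΨ := Equiv.Perm.extendDomainHom_injective (Equiv.ofInjective ι ι.injective)
  have hsign : ∀ g : Equiv.Perm X, Equiv.Perm.sign
      (Equiv.Perm.extendDomainHom (Equiv.ofInjective ι ι.injective) g) = Equiv.Perm.sign g :=
    fun g => Equiv.Perm.sign_extendDomain g (Equiv.ofInjective ι ι.injective)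
  have hK : IsPGroup p ↥(((Subgroup.zpowers σ ⊔ B).map
      (Equiv.Perm.extendDomainHom (Equiv.ofInjective ι ι.injective))).subgroupOf
        (alternatingGroup (Fin n))) := (hH.map _).comap_subtype
  obtain ⟨S', hS'⟩ := hK.exists_le_sylow
  obtain ⟨c, hc⟩ := MulAction.exists_smul_eq (alternatingGroup (Fin n)) S' S
  intro hcomm
  have comm := isMulCommutative_iff.mp hcomm
  have key : ∀ g ∈ Subgroup.zpowers σ ⊔ B, ∃ a : alternatingGroup (Fin n),
      (a : Equiv.Perm (Fin n)) = Equiv.Perm.extendDomainHom (Equiv.ofInjective ι ι.injective) g ∧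
      c * a * c⁻¹ ∈ (S : Subgroup (alternatingGroup (Fin n))) := by
    intro g hg
    refine ⟨⟨_, Equiv.Perm.mem_alternatingGroup.mpr ((hsign g).trans (hHalt g hg))⟩, rfl, ?_⟩
    rw [← hc]
    show _ ∈ MulAut.conj c • (S' : Subgroup (alternatingGroup (Fin n)))
    rw [Subgroup.mem_pointwise_smul_iff_inv_smul_mem]
    have e1 : ∀ a : alternatingGroup (Fin n), (MulAut.conj c)⁻¹ • (c * a * c⁻¹) = a := by
      intro a
      rw [MulAut.smul_def, ← map_inv, MulAut.conj_apply]
      group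
    rw [e1]
    apply hS'
    rw [Subgroup.mem_subgroupOf]
    exact Subgroup.mem_map.mpr ⟨g, hg, rfl⟩
  obtain ⟨a1, ha1, hm1⟩ := key σ (Subgroup.mem_sup_left (Subgroup.mem_zpowers σ))
  obtain ⟨a2, ha2, hm2⟩ := key b0 (Subgroup.mem_sup_right hb0)
  have h1 := comm ⟨_, hm1⟩ ⟨_, hm2⟩
  have h2 : (c * a1 * c⁻¹) * (c * a2 * c⁻¹) = (c * a2 * c⁻¹) * (c * a1 * c⁻¹) :=
    congrArg Subtype.val h1
  have h3 : a1 * a2 = a2 * a1 := by
    have e1 : a1 * a2 = c⁻¹ * ((c * a1 * c⁻¹) * (c * a2 * c⁻¹)) * c := by group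
    rw [e1, h2]; group
  have h4 : (a1 : Equiv.Perm (Fin n)) * a2 = a2 * a1 := by
    have := congrArg Subtype.val h3
    simpa using this
  rw [ha1, ha2, ← map_mul, ← map_mul] at h4
  exact hne (hΨ h4)

section oddp
variable (p : ℕ)

/-- `(i, j) ↦ (i, j + f i)` -/
def piPerm (f : ZMod p → ZMod p) : Equiv.Perm (ZMod p × ZMod p) where
  toFun x := (x.1, x.2 + f x.1)
  invFun x := (x.1, x.2 - f x.1)
  left_inv x := by simp
  right_inv x := by simp

/-- `(i, j) ↦ (i + 1, j)` -/
def sigPerm : Equiv.Perm (ZMod p × ZMod p) where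
  toFun x := (x.1 + 1, x.2)
  invFun x := (x.1 - 1, x.2)
  left_inv x := by simp
  right_inv x := by simp

theorem piPerm_apply (f : ZMod p → ZMod p) (x : ZMod p × ZMod p) :
    piPerm p f x = (x.1, x.2 + f x.1) := rfl

theorem sigPerm_apply (x : ZMod p × ZMod p) : sigPerm p x = (x.1 + 1, x.2) := rfl

theorem sigPerm_inv_apply (x : ZMod p × ZMod p) : (sigPerm p)⁻¹ x = (x.1 - 1, x.2) := rfl

theorem piPerm_mul (f g : ZMod p → ZMod p) : piPerm p f * piPerm p g = piPerm p (f + g) := by
  ext x <;> simp [piPerm_apply, Equiv.Perm.mul_apply]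
  ring

theorem piPerm_zero : piPerm p 0 = 1 := by
  ext x <;> simp [piPerm_apply]

theorem piPerm_inv (f : ZMod p → ZMod p) : (piPerm p f)⁻¹ = piPerm p (-f) := by
  apply inv_eq_of_mul_eq_one_right
  rw [piPerm_mul, add_neg_cancel, piPerm_zero]

theorem piPerm_pow (f : ZMod p → ZMod p) (j : ℕ) : (piPerm p f) ^ j = piPerm p (j • f) := by
  induction j with
  | zero => rw [pow_zero, zero_smul, piPerm_zero]
  | succ j ih => rw [pow_succ, ih, piPerm_mul, succ_nsmul]

theorem piPerm_pow_p (f : ZMod p → ZMod p) : (piPerm p f) ^ p = 1 := by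
  rw [piPerm_pow]
  have : p • f = 0 := by
    funext i
    simp
  rw [this, piPerm_zero]

theorem sigPerm_pow_apply (j : ℕ) (x : ZMod p × ZMod p) :
    ((sigPerm p) ^ j) x = (x.1 + (j : ZMod p), x.2) := by
  induction j with
  | zero => simp
  | succ j ih =>
    rw [pow_succ', Equiv.Perm.mul_apply, ih, sigPerm_apply]
    simp only [Nat.cast_add, Nat.cast_one]
    ext
    · simp only; ring
    · rfl

theorem sigPerm_pow_p : (sigPerm p) ^ p = 1 := by
  ext x <;> simp [sigPerm_pow_apply]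

/-- the base group -/
def baseGp : Subgroup (Equiv.Perm (ZMod p × ZMod p)) where
  carrier := Set.range (piPerm p)
  mul_mem' := by
    rintro _ _ ⟨f, rfl⟩ ⟨g, rfl⟩
    exact ⟨f + g, (piPerm_mul p f g).symm⟩
  one_mem' := ⟨0, piPerm_zero p⟩
  inv_mem' := by
    rintro _ ⟨f, rfl⟩
    exact ⟨-f, (piPerm_inv p f).symm⟩

theorem mem_baseGp (b : Equiv.Perm (ZMod p × ZMod p)) : b ∈ baseGp p ↔ ∃ f, piPerm p f = b :=
  Iff.rfl

theorem sig_conj (f : ZMod p → ZMod p) :
    sigPerm p * piPerm p f * (sigPerm p)⁻¹ = piPerm p (fun i => f (i - 1)) := by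
  ext x <;> simp [piPerm_apply, sigPerm_apply, sigPerm_inv_apply, Equiv.Perm.mul_apply]

end oddp

section two

/-- `(0 1)(4 5)` -/
def c1 : Equiv.Perm (Fin 6) := Equiv.swap 0 1 * Equiv.swap 4 5
/-- `(2 3)(4 5)` -/
def c2 : Equiv.Perm (Fin 6) := Equiv.swap 2 3 * Equiv.swap 4 5
/-- `(0 2)(1 3)` -/
def s2 : Equiv.Perm (Fin 6) := Equiv.swap 0 2 * Equiv.swap 1 3

/-- the four-group `{1, c1, c2, c1 c2}` -/
def fourGp : Subgroup (Equiv.Perm (Fin 6)) where
  carrier := {b | b = 1 ∨ b = c1 ∨ b = c2 ∨ b = c1 * c2}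
  mul_mem' := by
    rintro _ _ (rfl | rfl | rfl | rfl) (rfl | rfl | rfl | rfl) <;> decide
  one_mem' := Or.inl rfl
  inv_mem' := by
    rintro _ (rfl | rfl | rfl | rfl) <;> decide

theorem mem_fourGp (b : Equiv.Perm (Fin 6)) :
    b ∈ fourGp ↔ b = 1 ∨ b = c1 ∨ b = c2 ∨ b = c1 * c2 := Iff.rfl

end two

theorem sign_eq_one_of_pow {X : Type*} [Fintype X] [DecidableEq X] (g : Equiv.Perm X) (p : ℕ)
    (hodd : Odd p) (h : g ^ p = 1) : Equiv.Perm.sign g = 1 := by
  have h1 : (Equiv.Perm.sign g) ^ p = 1 := by rw [← map_pow, h, map_one]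
  rcases Int.units_eq_one_or (Equiv.Perm.sign g) with h2 | h2
  · exact h2
  · rw [h2, Odd.neg_one_pow hodd] at h1
    exact absurd h1 (by decide)


/-- For n ≥ 6 and a prime p, a nontrivial Sylow p-subgroup of the alternating group of degree n is abelian if and only if n < p². -/
theorem result (n p : ℕ) (hn : 6 ≤ n) [Fact p.Prime] (S : Sylow p (alternatingGroup (Fin n))) (hS : (S : Subgroup (alternatingGroup (Fin n))) ≠ ⊥) : IsMulCommutative S ↔ n < p ^ 2 := by
  classical
  have hp : p.Prime := Fact.out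
  constructor
  · intro hcomm
    by_contra hlt
    have hge : p ^ 2 ≤ n := Nat.le_of_not_gt hlt
    rcases hp.eq_two_or_odd' with h2 | hodd
    · subst h2
      refine not_comm_of_config 2 n (X := Fin 6) (by simpa using hn) fourGp ?_ s2 1 (by decide) ?_
        c1 (Or.inr (Or.inl rfl)) (by decide) ?_ ?_ S hcomm
      · rintro ⟨b, hb⟩
        refine ⟨1, ?_⟩
        apply Subtype.ext
        show b ^ 2 ^ 1 = 1
        rcases hb with rfl | rfl | rfl | rfl <;> decide
      · rintro b (rfl | rfl | rfl | rfl) <;> (rw [mem_fourGp]; decide)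
      · rintro b (rfl | rfl | rfl | rfl) <;> decide
      · decide
    · haveI : NeZero p := ⟨hp.ne_zero⟩
      haveI : Fact (1 < p) := ⟨hp.one_lt⟩
      refine not_comm_of_config p n (X := ZMod p × ZMod p) ?_ (baseGp p) ?_ (sigPerm p) 1
        (by rw [pow_one]; exact sigPerm_pow_p p) ?_ (piPerm p (Pi.single 0 1)) ⟨_, rfl⟩ ?_ ?_ ?_
        S hcomm
      · rw [Fintype.card_prod, ZMod.card]
        rw [pow_two] at hge
        exact hge
      · rintro ⟨b, hb⟩
        obtain ⟨f, rfl⟩ := hb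
        refine ⟨1, ?_⟩
        apply Subtype.ext
        show (piPerm p f) ^ p ^ 1 = 1
        rw [pow_one]
        exact piPerm_pow_p p f
      · rintro b ⟨f, rfl⟩
        exact ⟨_, (sig_conj p f).symm⟩
      · intro h
        have h1 := congrArg (fun τ : Equiv.Perm (ZMod p × ZMod p) => (τ (0, 0)).2) h
        simp [piPerm_apply, sigPerm_apply, Equiv.Perm.mul_apply] at h1
      · rintro b ⟨f, rfl⟩
        exact sign_eq_one_of_pow _ p hodd (piPerm_pow_p p f)
      · exact sign_eq_one_of_pow _ p hodd (sigPerm_pow_p p)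
  · intro hlt
    rw [isMulCommutative_iff]
    intro a b
    exact comm_of_small p n hlt S.isPGroup'
      ((alternatingGroup (Fin n)).subtype.comp
        (S : Subgroup (alternatingGroup (Fin n))).subtype)
      (by intro x y hxy; exact Subtype.ext (Subtype.ext hxy)) a b

end Cfsg.Agent.S5164
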