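import Cfsg.Statements.S5346
import Cfsg.Agent.Lib.Helper16.Width1
import Cfsg.Agent.Lib.Helper1.Cores

set_option autoImplicit false
open Cfsg

namespace Cfsg.Agent.S5346

/-- Let D be a conjugation-invariant generating set of 3-transpositions of a finite group G and d a member of D. Then D has width 1 (no two different members of D commute) if and only if G is the product of the subgroup generated by d with the largest normal 3-subgroup of G. -/
theorem result {G : Type*} [Group G] [Finite G] {D : Set G} (hD : Cfsg.IsThreeTranspositionGroup D) {d : G} (hd : d ∈ D) : Cfsg.commutingWidth D = 1 ↔ Subgroup.zpowers d ⊔ Cfsg.pCore 3 G = ⊤ := by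
  classical
  obtain ⟨⟨h2, h3⟩, hDc, hgen⟩ := hD
  have hdi : d⁻¹ = d := Cfsg.Agent.Lib.Helper16.Width1.inv_of_order_two (h2 d hd)
  have hdd : d * d = 1 := Cfsg.Agent.Lib.Helper16.Width1.mul_self_of_order_two (h2 d hd)
  have hbdd : BddAbove {n : ℕ | ∃ E : Set G, E ⊆ D ∧ E.Finite ∧ (∀ a ∈ E, ∀ b ∈ E, Commute a b) ∧
      E.ncard = n} := by
    refine ⟨Nat.card G, ?_⟩
    rintro n ⟨E, -, -, -, rfl⟩
    exact Set.ncard_le_card E
  have : Fact (Nat.Prime 3) := ⟨Nat.prime_three⟩
  constructor
  · intro hwid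
    have hw : ∀ a ∈ D, ∀ b ∈ D, Commute a b → a = b := by
      intro a ha b hb hcm
      by_contra hne
      have hmem : 2 ∈ {n : ℕ | ∃ E : Set G, E ⊆ D ∧ E.Finite ∧
          (∀ a ∈ E, ∀ b ∈ E, Commute a b) ∧ E.ncard = n} := by
        refine ⟨{a, b}, ?_, Set.toFinite _, ?_, Set.ncard_pair hne⟩
        · rintro x (rfl | rfl)
          · exact ha
          · exact hb
        · rintro x (rfl | rfl) y (rfl | rfl)
          · exact Commute.refl _
          · exact hcm
          · exact hcm.symm
          · exact Commute.refl _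
      have h1 : 2 ≤ Cfsg.commutingWidth D := le_csSup hbdd hmem
      omega
    obtain ⟨R, hR3, hRp, hRn⟩ := Cfsg.Agent.Lib.Helper16.Width1.width1_core D h2 h3
      (fun a _ b hb => hDc a b hb) hw
    have hRnormal : R.Normal := by
      rw [← Subgroup.normalizer_eq_top_iff, eq_top_iff, ← hgen, Subgroup.closure_le]
      intro w hw'
      show w ∈ Subgroup.normalizer (R : Set G)
      rw [Subgroup.mem_normalizer_iff]
      intro r
      constructor
      · exact hRn w hw' r
      · intro hr
        have := hRn w hw' _ hr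
        have hwi : w⁻¹ = w := Cfsg.Agent.Lib.Helper16.Width1.inv_of_order_two (h2 w hw')
        have hww : w * w = 1 := Cfsg.Agent.Lib.Helper16.Width1.mul_self_of_order_two (h2 w hw')
        rw [hwi] at this
        have e : w * (w * r * w) * w = r := by
          calc w * (w * r * w) * w = (w * w) * r * (w * w) := by group
            _ = r := by rw [hww]; group
        rwa [e] at this
    have hRQ : R ≤ Cfsg.pCore 3 G := le_sSup ⟨hRnormal, hR3⟩
    rw [eq_top_iff, ← hgen, Subgroup.closure_le]
    intro e he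
    have h1 : e * d ∈ R := hRp e he d hd
    have h4 : e = (e * d) * d := by rw [mul_assoc, hdd, mul_one]
    show e ∈ Subgroup.zpowers d ⊔ Cfsg.pCore 3 G
    rw [h4]
    exact Subgroup.mul_mem _ (Subgroup.mem_sup_right (hRQ h1))
      (Subgroup.mem_sup_left (Subgroup.mem_zpowers d))
  · intro htop
    have hQn : (Cfsg.pCore 3 G).Normal := Cfsg.Agent.Lib.Helper1.pCore_normal 3
    have hQ3 : IsPGroup 3 (Cfsg.pCore 3 G) := Cfsg.Agent.Lib.Helper1.pCore_isPGroup 3
    -- no involution in the core
    have hnoinv : ∀ t ∈ Cfsg.pCore 3 G, t * t = 1 → t = 1 := by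
      intro t ht htt
      obtain ⟨k, hk⟩ := hQ3 ⟨t, ht⟩
      have hk' : t ^ (3 ^ k) = 1 := by
        have := congrArg Subtype.val hk
        simpa using this
      have h5 : orderOf t ∣ Nat.gcd 2 (3 ^ k) :=
        Nat.dvd_gcd (orderOf_dvd_of_pow_eq_one (by rw [pow_two]; exact htt))
          (orderOf_dvd_of_pow_eq_one hk')
      have hcop : Nat.Coprime 2 (3 ^ k) := Nat.Coprime.pow_right k (by norm_num)
      rw [hcop, Nat.dvd_one, orderOf_eq_one_iff] at h5
      exact h5
    -- every member of D lies in d * core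
    have hcoset : ∀ a ∈ D, d⁻¹ * a ∈ Cfsg.pCore 3 G := by
      intro a ha
      have haa : a * a = 1 := Cfsg.Agent.Lib.Helper16.Width1.mul_self_of_order_two (h2 a ha)
      have hmem : a ∈ Subgroup.zpowers d ⊔ Cfsg.pCore 3 G := by rw [htop]; exact Subgroup.mem_top a
      rw [Subgroup.mem_sup_of_normal_right] at hmem
      obtain ⟨y, hy, z, hz, rfl⟩ := hmem
      obtain ⟨k, rfl⟩ := Subgroup.mem_zpowers_iff.mp hy
      rcases Int.even_or_odd k with ⟨j, hj⟩ | ⟨j, hj⟩
      · exfalso
        have e1 : d ^ k = 1 := by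
          rw [hj, ← two_mul, zpow_mul, zpow_two, hdd, one_zpow]
        rw [e1, one_mul] at haa ha
        have := hnoinv z hz haa
        rw [this] at ha
        have h9 := h2 1 ha
        rw [orderOf_one] at h9
        omega
      · have e1 : d ^ k = d := by
          rw [hj, zpow_add, zpow_mul, zpow_two, hdd, one_zpow, one_mul, zpow_one]
        rw [e1]
        have : d⁻¹ * (d * z) = z := by group
        rw [this]; exact hz
    have hw : ∀ a ∈ D, ∀ b ∈ D, Commute a b → a = b := by
      intro a ha b hb hcm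
      have haa : a * a = 1 := Cfsg.Agent.Lib.Helper16.Width1.mul_self_of_order_two (h2 a ha)
      have hbb : b * b = 1 := Cfsg.Agent.Lib.Helper16.Width1.mul_self_of_order_two (h2 b hb)
      have hai : a⁻¹ = a := Cfsg.Agent.Lib.Helper16.Width1.inv_of_order_two (h2 a ha)
      have h1 : a⁻¹ * b ∈ Cfsg.pCore 3 G := by
        have e : a⁻¹ * b = (d⁻¹ * a)⁻¹ * (d⁻¹ * b) := by group
        rw [e]
        exact Subgroup.mul_mem _ (Subgroup.inv_mem _ (hcoset a ha)) (hcoset b hb)
      have h4 : (a⁻¹ * b) * (a⁻¹ * b) = 1 := by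
        rw [hai]
        calc a * b * (a * b) = a * (b * a) * b := by group
          _ = a * (a * b) * b := by rw [hcm.eq]
          _ = (a * a) * (b * b) := by group
          _ = 1 := by rw [haa, hbb, mul_one]
      have h5 := hnoinv _ h1 h4
      have h6 : a = b := by
        have := inv_mul_eq_one.mp h5
        exact this
      exact h6
    show sSup {n : ℕ | ∃ E : Set G, E ⊆ D ∧ E.Finite ∧ (∀ a ∈ E, ∀ b ∈ E, Commute a b) ∧
      E.ncard = n} = 1
    have h1mem : 1 ∈ {n : ℕ | ∃ E : Set G, E ⊆ D ∧ E.Finite ∧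
        (∀ a ∈ E, ∀ b ∈ E, Commute a b) ∧ E.ncard = n} := by
      refine ⟨{d}, ?_, Set.toFinite _, ?_, Set.ncard_singleton d⟩
      · rintro x rfl; exact hd
      · rintro x rfl y rfl; exact Commute.refl _
    have hle : ∀ n ∈ {n : ℕ | ∃ E : Set G, E ⊆ D ∧ E.Finite ∧
        (∀ a ∈ E, ∀ b ∈ E, Commute a b) ∧ E.ncard = n}, n ≤ 1 := by
      rintro n ⟨E, hED, hEf, hEc, rfl⟩
      rw [Set.ncard_le_one hEf]
      intro a ha b hb
      exact hw a (hED ha) b (hED hb) (hEc a ha b hb)
    exact le_antisymm (csSup_le ⟨1, h1mem⟩ hle) (le_csSup hbdd h1mem)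

end Cfsg.Agent.S5346
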