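import Cfsg.Statements.S5352
import Cfsg.Agent.S5351

set_option autoImplicit false
open Cfsg

namespace Cfsg.Agent.S5352


open Cfsg.Agent.Lib.Helper16.Width1 Cfsg.Agent.Lib.Helper11

open scoped commutatorElement

universe u

/-- in a group of exponent three every element commutes with its conjugates -/
theorem exp3_comm {S : Type*} [Group S] (h : ∀ x : S, x ^ 3 = 1) (x g : S) :
    x * (g * x * g⁻¹) = (g * x * g⁻¹) * x := by
  have h1 : g * x * (g * x) * (g * x) = 1 := by
    have := h (g * x); rwa [pow_succ, pow_two] at this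
  have h2 : g⁻¹ * x * (g⁻¹ * x) * (g⁻¹ * x) = 1 := by
    have := h (g⁻¹ * x); rwa [pow_succ, pow_two] at this
  have h3 : g * g * g = 1 := by
    have := h g; rwa [pow_succ, pow_two] at this
  have e1 : x * g * x = g⁻¹ * x⁻¹ * g⁻¹ := by
    calc x * g * x = g⁻¹ * (g * x * (g * x) * (g * x)) * x⁻¹ * g⁻¹ := by group
      _ = g⁻¹ * x⁻¹ * g⁻¹ := by rw [h1]; group
  have e2 : x * g⁻¹ * x = g * x⁻¹ * g := by
    calc x * g⁻¹ * x = g * (g⁻¹ * x * (g⁻¹ * x) * (g⁻¹ * x)) * x⁻¹ * g := by group
      _ = g * x⁻¹ * g := by rw [h2]; group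
  have e4 : g⁻¹ * g⁻¹ = g := by
    calc g⁻¹ * g⁻¹ = g⁻¹ * g⁻¹ * (g * g * g) := by rw [h3, mul_one]
      _ = g := by group
  have e5 : g⁻¹ * x⁻¹ * g = g * (g * x⁻¹ * g) := by
    calc g⁻¹ * x⁻¹ * g = (g * g * g) * (g⁻¹ * x⁻¹ * g) := by rw [h3, one_mul]
      _ = g * (g * x⁻¹ * g) := by group
  calc x * (g * x * g⁻¹) = (x * g * x) * g⁻¹ := by group
    _ = g⁻¹ * x⁻¹ * g⁻¹ * g⁻¹ := by rw [e1]
    _ = g⁻¹ * x⁻¹ * (g⁻¹ * g⁻¹) := by group
    _ = g⁻¹ * x⁻¹ * g := by rw [e4]
    _ = g * (g * x⁻¹ * g) := e5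
    _ = g * (x * g⁻¹ * x) := by rw [e2]
    _ = (g * x * g⁻¹) * x := by group

/-- three involutions `a, b, c` with `a, b` commuting and both braided with `c`,
whose product has order at most three -/
theorem three_invol {S : Type*} [Group S] {a b c : S} (haa : a * a = 1) (hbb : b * b = 1)
    (hcc : c * c = 1) (hab : a * b = b * a) (hac : a * c * a = c * a * c)
    (hbc : b * c * b = c * b * c)
    (h : (a * b * c) ^ 2 = 1 ∨ (a * b * c) ^ 3 = 1) : a = b ∨ b * c = c * b := by
  have hai : a⁻¹ = a := inv_eq_of_mul_eq_one_right haa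
  have hbi : b⁻¹ = b := inv_eq_of_mul_eq_one_right hbb
  have hci : c⁻¹ = c := inv_eq_of_mul_eq_one_right hcc
  rcases h with h | h
  · left
    have h' : a * b * c * (a * b * c) = 1 := by rwa [pow_two] at h
    have e1 : a * b * c = c * a * b := by
      calc a * b * c = (a * b * c * (a * b * c)) * (c⁻¹ * b⁻¹ * a⁻¹) := by group
        _ = c⁻¹ * b⁻¹ * a⁻¹ := by rw [h', one_mul]
        _ = c * b * a := by rw [hai, hbi, hci]
        _ = c * (b * a) := by group
        _ = c * (a * b) := by rw [hab]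
        _ = c * a * b := by group
    have e2 : b * c * b = a * c * a := by
      calc b * c * b = (a * a) * b * c * b := by rw [haa, one_mul]
        _ = a * (a * b * c) * b := by group
        _ = a * (c * a * b) * b := by rw [e1]
        _ = a * c * a * (b * b) := by group
        _ = a * c * a := by rw [hbb, mul_one]
    rw [hbc, hac] at e2
    have e3 : b = a := by
      calc b = c⁻¹ * (c * b * c) * c⁻¹ := by group
        _ = c⁻¹ * (c * a * c) * c⁻¹ := by rw [e2]
        _ = a := by group
    exact e3.symm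
  · right
    obtain ⟨u, hu⟩ : ∃ u : S, u = a * b := ⟨_, rfl⟩
    have huu : u * u = 1 := by
      rw [hu]
      calc a * b * (a * b) = a * (b * a) * b := by group
        _ = a * (a * b) * b := by rw [hab]
        _ = (a * a) * (b * b) := by group
        _ = 1 := by rw [haa, hbb, mul_one]
    have hui : u⁻¹ = u := inv_eq_of_mul_eq_one_right huu
    have h3 : u * c * (u * c) * (u * c) = 1 := by
      rw [hu]; rwa [pow_succ, pow_two] at h
    have e1 : u * c * u = c * u * c := by
      calc u * c * u = (u * c * (u * c) * (u * c)) * (c⁻¹ * u⁻¹ * c⁻¹) := by group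
        _ = c⁻¹ * u⁻¹ * c⁻¹ := by rw [h3, one_mul]
        _ = c * u * c := by rw [hci, hui]
    have hau : a * u = b := by rw [hu, ← mul_assoc, haa, one_mul]
    have hua : u * a = b := by rw [hu, hab, mul_assoc, haa, mul_one]
    have haua : a * u * a = u := by rw [hau, hu, hab]
    have e2 : a * (u * c * u) * a = b * c * b := by
      calc a * (u * c * u) * a = (a * u) * c * (u * a) := by group
        _ = b * c * b := by rw [hau, hua]
    have e3 : a * (c * u * c) * a = (c * a * c) * u * (c * a * c) := by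
      calc a * (c * u * c) * a = a * c * (a * a) * u * (a * a) * c * a := by rw [haa]; group
        _ = (a * c * a) * (a * u * a) * (a * c * a) := by group
        _ = (c * a * c) * u * (c * a * c) := by rw [hac, haua]
    have e4 : b * c * b = (c * a * c) * u * (c * a * c) := by rw [← e2, e1, e3]
    rw [hbc] at e4
    have e5 : b = a * c * u * c * a := by
      calc b = c⁻¹ * (c * b * c) * c⁻¹ := by group
        _ = c⁻¹ * ((c * a * c) * u * (c * a * c)) * c⁻¹ := by rw [e4]
        _ = a * c * u * c * a := by group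
    have e6 : c * u * c = b := by
      calc c * u * c = (a * a) * (c * u * c) * (a * a) := by rw [haa]; group
        _ = a * (a * c * u * c * a) * a := by group
        _ = a * b * a := by rw [← e5]
        _ = b := by rw [hab, mul_assoc, haa, mul_one]
    have e7 : u = b * c * b := by
      calc u = (c * c) * u * (c * c) := by rw [hcc]; group
        _ = c * (c * u * c) * c := by group
        _ = c * b * c := by rw [e6]
        _ = b * c * b := hbc.symm
    have e8 : a = c * b := by
      have h5 : b * a = b * (c * b) := by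
        rw [← hab, ← hu, e7]; group
      exact mul_left_cancel h5
    have h6 : c * b * (c * b) = 1 := by rw [← e8]; exact haa
    calc b * c = b⁻¹ * c⁻¹ := by rw [hbi, hci]
      _ = (c * b)⁻¹ := by group
      _ = c * b := inv_eq_of_mul_eq_one_right h6

/-- a finite simple group in which every element has order at most three is commutative -/
theorem comm_of_orders_le_three {S : Type*} [Group S] [Finite S] [IsSimpleGroup S]
    (h : ∀ x : S, x ^ 2 = 1 ∨ x ^ 3 = 1) : ∀ a b : S, a * b = b * a := by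
  classical
  have hf2 : Fact (Nat.Prime 2) := ⟨Nat.prime_two⟩
  by_cases hinv : ∃ t : S, t ≠ 1 ∧ t ^ 2 = 1
  · obtain ⟨t, ht1, ht2⟩ := hinv
    have htt : t * t = 1 := by rwa [pow_two] at ht2
    obtain ⟨T, hTdef⟩ : ∃ T : Set S, T = {a : S | ∃ g : S, a = g * t * g⁻¹} := ⟨_, rfl⟩
    have hT2 : ∀ a ∈ T, orderOf a = 2 := by
      intro a ha
      rw [hTdef] at ha
      obtain ⟨g, rfl⟩ := ha
      refine orderOf_eq_prime ?_ ?_
      · rw [pow_two]
        calc g * t * g⁻¹ * (g * t * g⁻¹) = g * (t * t) * g⁻¹ := by group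
          _ = 1 := by rw [htt]; group
      · intro h1
        apply ht1
        calc t = g⁻¹ * (g * t * g⁻¹) * g := by group
          _ = 1 := by rw [h1]; group
    have hT3 : ∀ a ∈ T, ∀ b ∈ T, (a * b) ^ 2 = 1 ∨ (a * b) ^ 3 = 1 := fun a _ b _ => h (a * b)
    have hTS : Cfsg.IsThreeTranspositionSet T := ⟨hT2, hT3⟩
    have hTconj : ∀ g : S, ∀ a ∈ T, g * a * g⁻¹ ∈ T := by
      intro g a ha
      rw [hTdef] at ha ⊢
      obtain ⟨k, rfl⟩ := ha
      exact ⟨g * k, by group⟩
    have hTc : ∀ a ∈ T, ∀ b ∈ T, a * b * a⁻¹ ∈ T := fun a _ b hb => hTconj a b hb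
    have htT : t ∈ T := by rw [hTdef]; exact ⟨1, by group⟩
    have hTN : (Subgroup.closure T).Normal :=
      Cfsg.Agent.Lib.Helper28.closure_normal_of_conj T hTconj
    have hTgen : Subgroup.closure T = ⊤ := by
      rcases hTN.eq_bot_or_eq_top with hb | ht
      · exfalso
        have : t ∈ Subgroup.closure T := Subgroup.subset_closure htT
        rw [hb, Subgroup.mem_bot] at this
        exact ht1 this
      · exact ht
    -- a central member of T forces T = {t}
    have hcentral : ∀ a ∈ T, (∀ c ∈ T, c * a = a * c) → ∀ b ∈ T, a = b := by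
      intro a ha hca b hb
      have hac : a ∈ Subgroup.center S := Cfsg.Agent.S5351.mem_center_of_comm T hTgen a hca
      have hcen : Subgroup.center S = ⊤ := by
        rcases (inferInstance : (Subgroup.center S).Normal).eq_bot_or_eq_top with hb' | ht'
        · exfalso
          rw [hb', Subgroup.mem_bot] at hac
          have h9 := hT2 a ha
          rw [hac, orderOf_one] at h9
          omega
        · exact ht'
      have htc : ∀ g : S, g * t * g⁻¹ = t := by
        intro g
        have : t ∈ Subgroup.center S := by rw [hcen]; trivial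
        have h5 := Subgroup.mem_center_iff.mp this g
        rw [h5]; group
      rw [hTdef] at ha hb
      obtain ⟨g, rfl⟩ := ha
      obtain ⟨k, rfl⟩ := hb
      rw [htc g, htc k]
    have hTw : ∀ a ∈ T, ∀ b ∈ T, Commute a b → a = b := by
      intro a ha b hb hab
      by_contra hne
      have haa : a * a = 1 := mul_self_of_order_two (hT2 a ha)
      have hbb : b * b = 1 := mul_self_of_order_two (hT2 b hb)
      have hex : ∃ c ∈ T, ¬ c * a = a * c := by
        by_contra hno
        push Not at hno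
        exact hne (hcentral a ha hno b hb)
      obtain ⟨c, hc, hca⟩ := hex
      have hcc : c * c = 1 := mul_self_of_order_two (hT2 c hc)
      have hnac : ¬ Commute a c := fun hcm => hca hcm.eq.symm
      have hac3 : (a * c) ^ 3 = 1 := by
        rcases h (a * c) with h2 | h3
        · exact absurd (Cfsg.Agent.Lib.Helper28.commute_of_sq haa hcc h2) hnac
        · exact h3
      have hnbc : ¬ Commute b c := by
        intro hbc
        -- y = b * (a * c)
        have hcomm : Commute b (a * c) := hab.symm.mul_right hbc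
        have hb2 : b ^ 2 = 1 := by rw [pow_two]; exact hbb
        rcases h (b * (a * c)) with h2 | h3
        · rw [hcomm.mul_pow, hb2, one_mul] at h2
          exact hnac (Cfsg.Agent.Lib.Helper28.commute_of_sq haa hcc h2)
        · rw [hcomm.mul_pow, hac3, mul_one] at h3
          have hb1 : b = 1 := by
            calc b = b ^ 3 * (b ^ 2)⁻¹ := by group
              _ = 1 := by rw [h3, hb2]; group
          have h9 := hT2 b hb
          rw [hb1, orderOf_one] at h9
          omega
      have hbr1 : a * c * a = c * a * c := Cfsg.Agent.Lib.Helper28.tt_braid hTS ha hc hnac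
      have hbr2 : b * c * b = c * b * c := Cfsg.Agent.Lib.Helper28.tt_braid hTS hb hc hnbc
      rcases three_invol haa hbb hcc hab.eq hbr1 hbr2 (h (a * b * c)) with h1 | h1
      · exact hne h1
      · exact hnbc h1
    obtain ⟨R, hR3, hRm, hRn⟩ := width1_core T hT2 hT3 hTc hTw
    have hRN : R.Normal := by
      rw [← Subgroup.normalizer_eq_top_iff, eq_top_iff, ← hTgen, Subgroup.closure_le]
      intro w hw'
      show w ∈ Subgroup.normalizer (R : Set S)
      rw [Subgroup.mem_normalizer_iff]
      intro r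
      constructor
      · exact hRn w hw' r
      · intro hr
        have := hRn w hw' _ hr
        have hwi : w⁻¹ = w := inv_of_order_two (hT2 w hw')
        have hww : w * w = 1 := mul_self_of_order_two (hT2 w hw')
        rw [hwi] at this
        have e : w * (w * r * w) * w = r := by
          calc w * (w * r * w) * w = (w * w) * r * (w * w) := by group
            _ = r := by rw [hww]; group
        rwa [e] at this
    rcases hRN.eq_bot_or_eq_top with hb | htop
    · have hTt : ∀ c ∈ T, c * t = t * c := by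
        intro c hc
        have h1 : c * t ∈ R := hRm c hc t htT
        rw [hb, Subgroup.mem_bot] at h1
        have h2 : t * c ∈ R := hRm t htT c hc
        rw [hb, Subgroup.mem_bot] at h2
        rw [h1, h2]
      have hall := hcentral t htT hTt
      have htcen : t ∈ Subgroup.center S := Cfsg.Agent.S5351.mem_center_of_comm T hTgen t hTt
      have hcen : Subgroup.center S = ⊤ := by
        rcases (inferInstance : (Subgroup.center S).Normal).eq_bot_or_eq_top with hb' | ht'
        · exfalso
          rw [hb', Subgroup.mem_bot] at htcen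
          exact ht1 htcen
        · exact ht'
      intro a b
      have ha : a ∈ Subgroup.center S := by rw [hcen]; trivial
      exact (Subgroup.mem_center_iff.mp ha b).symm
    · exfalso
      obtain ⟨k, hk⟩ := hR3 ⟨t, by rw [htop]; trivial⟩
      have hk' : t ^ (3 ^ k) = 1 := by
        have := congrArg Subtype.val hk
        simpa using this
      have h5 : orderOf t ∣ Nat.gcd 2 (3 ^ k) :=
        Nat.dvd_gcd (orderOf_dvd_of_pow_eq_one ht2) (orderOf_dvd_of_pow_eq_one hk')
      have hcop : Nat.Coprime 2 (3 ^ k) := Nat.Coprime.pow_right k (by norm_num)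
      rw [hcop, Nat.dvd_one, orderOf_eq_one_iff] at h5
      exact ht1 h5
  · push Not at hinv
    have h3 : ∀ x : S, x ^ 3 = 1 := by
      intro x
      rcases h x with h2 | h3
      · by_cases hx : x = 1
        · rw [hx, one_pow]
        · exact absurd h2 (hinv x hx)
      · exact h3
    intro a b
    by_cases ha : a = 1
    · rw [ha, one_mul, mul_one]
    · obtain ⟨F, hFdef⟩ : ∃ F : Set S, F = {y : S | ∃ g : S, y = g * a * g⁻¹} := ⟨_, rfl⟩
      have hFc : ∀ x ∈ F, ∀ y ∈ F, x * y = y * x := by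
        intro x hx y hy
        rw [hFdef] at hx hy
        obtain ⟨g, rfl⟩ := hx
        obtain ⟨k, rfl⟩ := hy
        have e := exp3_comm h3 a (g⁻¹ * k)
        calc g * a * g⁻¹ * (k * a * k⁻¹)
            = g * (a * ((g⁻¹ * k) * a * (g⁻¹ * k)⁻¹)) * g⁻¹ := by group
          _ = g * (((g⁻¹ * k) * a * (g⁻¹ * k)⁻¹) * a) * g⁻¹ := by rw [e]
          _ = k * a * k⁻¹ * (g * a * g⁻¹) := by group
      have hN : (Subgroup.closure F).Normal :=
        Cfsg.Agent.Lib.Helper28.closure_normal_of_conj F (by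
          intro g y hy
          rw [hFdef] at hy ⊢
          obtain ⟨k, rfl⟩ := hy
          exact ⟨g * k, by group⟩)
      have haF : a ∈ Subgroup.closure F :=
        Subgroup.subset_closure (by rw [hFdef]; exact ⟨1, by group⟩)
      rcases hN.eq_bot_or_eq_top with hb | ht
      · exfalso; rw [hb, Subgroup.mem_bot] at haF; exact ha haF
      · have hcomm := Subgroup.isMulCommutative_closure hFc
        have hb' : b ∈ Subgroup.closure F := by rw [ht]; trivial
        have h5 := hcomm.is_comm.comm ⟨a, haF⟩ ⟨b, hb'⟩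
        exact congrArg Subtype.val h5

section Aux

variable {G : Type u} [Group G]

/-- a normal subgroup `N` normalizes `[⟨d⟩, N]` -/
theorem comm_normalized (N : Subgroup G) (d : G) :
    N ≤ Subgroup.normalizer ((⁅Subgroup.zpowers d, N⁆ : Subgroup G) : Set G) := by
  have key : ∀ y ∈ N, ⁅Subgroup.zpowers d, N⁆ ≤
      (⁅Subgroup.zpowers d, N⁆).comap (MulAut.conj y).toMonoidHom := by
    intro y hy
    rw [Subgroup.commutator_le]
    intro t ht x hx
    show y * ⁅t, x⁆ * y⁻¹ ∈ ⁅Subgroup.zpowers d, N⁆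
    have e : y * ⁅t, x⁆ * y⁻¹ = ⁅t, y⁆⁻¹ * ⁅t, y * x⁆ := by
      simp only [commutatorElement_def]; group
    rw [e]
    exact Subgroup.mul_mem _ (Subgroup.inv_mem _ (Subgroup.commutator_mem_commutator ht hy))
      (Subgroup.commutator_mem_commutator ht (N.mul_mem hy hx))
  intro y hy
  rw [Subgroup.mem_normalizer_iff]
  intro n
  constructor
  · intro hn; exact key y hy hn
  · intro hn
    have h5 : y⁻¹ * (y * n * y⁻¹) * y⁻¹⁻¹ ∈ ⁅Subgroup.zpowers d, N⁆ :=
      key y⁻¹ (N.inv_mem hy) hn
    have e : y⁻¹ * (y * n * y⁻¹) * y⁻¹⁻¹ = n := by group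
    rwa [e] at h5

/-- generators of `[⟨d⟩, N]` for an involution `d` -/
theorem comm_le_of_gen (N : Subgroup G) (d : G) (hdd : d * d = 1) (B : Subgroup G)
    (hB : ∀ x ∈ N, d * (x * d * x⁻¹) ∈ B) : ⁅Subgroup.zpowers d, N⁆ ≤ B := by
  have hdi : d⁻¹ = d := inv_eq_of_mul_eq_one_right hdd
  rw [Subgroup.commutator_le]
  intro t ht x hx
  obtain ⟨k, rfl⟩ := Subgroup.mem_zpowers_iff.mp ht
  rcases Int.even_or_odd k with ⟨j, hj⟩ | ⟨j, hj⟩
  · have e1 : d ^ k = 1 := by
      rw [hj, ← two_mul, zpow_mul, zpow_two, hdd, one_zpow]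
    rw [e1]
    have e2 : ⁅(1 : G), x⁆ = 1 := by rw [commutatorElement_def]; group
    rw [e2]; exact B.one_mem
  · have e1 : d ^ k = d := by
      rw [hj, zpow_add, zpow_mul, zpow_two, hdd, one_zpow, one_mul, zpow_one]
    rw [e1]
    have e2 : ⁅d, x⁆ = d * (x * d * x⁻¹) := by
      rw [commutatorElement_def]
      calc d * x * d⁻¹ * x⁻¹ = d * (x * d⁻¹ * x⁻¹) := by group
        _ = d * (x * d * x⁻¹) := by rw [hdi]
    rw [e2]; exact hB x hx

/-- a perfect normal subgroup commuting with all solvable subnormal subgroups is centralized by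
an involution whose commutators with it lie in a solvable subgroup -/
theorem comm_of_solvable [Finite G] (N : Subgroup G) [hNN : N.Normal] (hperf : ⁅N, N⁆ = N)
    (hcs : ∀ S : Subgroup G, S.IsSubnormal → Group.IsSolvable ↥S → ⁅N, S⁆ = ⊥)
    (d : G) (hdd : d * d = 1) (B : Subgroup G)
    (hB : ∀ x ∈ N, d * (x * d * x⁻¹) ∈ B) (hsol : Group.IsSolvable ↥B) :
    ∀ x ∈ N, d * x = x * d := by
  classical
  have hAB : ⁅Subgroup.zpowers d, N⁆ ≤ B := comm_le_of_gen N d hdd B hB
  have hAE : ⁅Subgroup.zpowers d, N⁆ ≤ N := Subgroup.commutator_le_right _ _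
  have hnorm := comm_normalized N d
  have hAsub : (⁅Subgroup.zpowers d, N⁆).IsSubnormal :=
    Subgroup.IsSubnormal.step _ N hAE hNN.isSubnormal
      ((Subgroup.normal_subgroupOf_iff_le_normalizer hAE).mpr hnorm)
  have hAsol : Group.IsSolvable ↥(⁅Subgroup.zpowers d, N⁆) :=
    Group.isSolvable_of_isSolvable_injective (Subgroup.inclusion_injective hAB)
  have h1 : ⁅N, ⁅Subgroup.zpowers d, N⁆⁆ = ⊥ := hcs _ hAsub hAsol
  have h2 : ⁅⁅Subgroup.zpowers d, N⁆, N⁆ = ⊥ := by
    rw [Subgroup.commutator_comm]; exact h1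
  have h3 : ⁅N, Subgroup.zpowers d⁆ = ⊥ := perfect_comm_of_triple hperf h2
  intro x hx
  have h4 : ⁅x, d⁆ ∈ ⁅N, Subgroup.zpowers d⁆ :=
    Subgroup.commutator_mem_commutator hx (Subgroup.mem_zpowers d)
  rw [h3, Subgroup.mem_bot, commutatorElement_eq_one_iff_mul_comm] at h4
  exact h4.symm

/-- a member of a generating class does not centralize a normal component -/
theorem not_central [Finite G] (D : Set G) (hgen : Subgroup.closure D = ⊤)
    (hcls : ∀ a ∈ D, ∀ b ∈ D, ∃ g : G, b = g * a * g⁻¹)
    (N : Subgroup G) [hNN : N.Normal] (hN : Cfsg.IsComponent N) (d : G) (hd : d ∈ D) :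
    ¬ ∀ x ∈ N, d * x = x * d := by
  intro hdE
  have hle : N ≤ Subgroup.center G := by
    intro x hx
    apply Cfsg.Agent.S5351.mem_center_of_comm D hgen
    intro a ha
    obtain ⟨g, rfl⟩ := hcls d hd a ha
    have hx' : g⁻¹ * x * g ∈ N := by
      have := hNN.conj_mem x hx g⁻¹
      rwa [inv_inv] at this
    have h5 := hdE _ hx'
    calc g * d * g⁻¹ * x = g * (d * (g⁻¹ * x * g)) * g⁻¹ := by group
      _ = g * ((g⁻¹ * x * g) * d) * g⁻¹ := by rw [h5]
      _ = x * (g * d * g⁻¹) := by group
  have hsol : Group.IsSolvable ↥N := by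
    apply Group.isSolvable_of_comm
    intro a b
    apply Subtype.ext
    have ha := Subgroup.mem_center_iff.mp (hle a.2) b
    exact ha.symm
  exact qs_not_solvable hN.2 hsol

/-- for a normal component `N` and a member `d` of a generating class of 3-transpositions, the
commutators `d * (x d x⁻¹)`, `x ∈ N`, take both orders two and three -/
theorem comp_both [Finite G] (D : Set G) (hTS : Cfsg.IsThreeTranspositionSet D)
    (hconj : ∀ g : G, ∀ x ∈ D, g * x * g⁻¹ ∈ D)
    (hgen : Subgroup.closure D = ⊤)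
    (hcls : ∀ a ∈ D, ∀ b ∈ D, ∃ g : G, b = g * a * g⁻¹)
    (N : Subgroup G) [hNN : N.Normal] (hN : Cfsg.IsComponent N) (d : G) (hd : d ∈ D) :
    (∃ x ∈ N, (d * (x * d * x⁻¹)) ^ 2 ≠ 1) ∧ (∃ y ∈ N, (d * (y * d * y⁻¹)) ^ 3 ≠ 1) := by
  classical
  have hf3 : Fact (Nat.Prime 3) := ⟨Nat.prime_three⟩
  have hdd : d * d = 1 := mul_self_of_order_two (hTS.1 d hd)
  have hperf : ⁅N, N⁆ = N := component_perfect hN
  have hcs : ∀ S : Subgroup G, S.IsSubnormal → Group.IsSolvable ↥S → ⁅N, S⁆ = ⊥ :=
    fun S hS hsol => component_comm_solvable_subnormal hN hS hsol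
  obtain ⟨F, hFdef⟩ : ∃ F : Set G, F = {a : G | ∃ x ∈ N, a = x * d * x⁻¹} := ⟨_, rfl⟩
  have hdF : d ∈ F := by rw [hFdef]; exact ⟨1, N.one_mem, by group⟩
  have hFD : ∀ a ∈ F, a ∈ D := by
    intro a ha
    rw [hFdef] at ha
    obtain ⟨x, hx, rfl⟩ := ha
    exact hconj x d hd
  constructor
  · by_contra hno
    push Not at hno
    have hclaim : ∀ x ∈ N, Commute (x * d * x⁻¹) d := by
      intro x hx
      have hee := mul_self_of_order_two (hTS.1 _ (hconj x d hd))
      exact (Cfsg.Agent.Lib.Helper28.commute_of_sq hdd hee (hno x hx)).symm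
    have hFc : ∀ a ∈ F, ∀ b ∈ F, a * b = b * a := by
      intro a ha b hb
      rw [hFdef] at ha hb
      obtain ⟨x, hx, rfl⟩ := ha
      obtain ⟨y, hy, rfl⟩ := hb
      have h1 := hclaim (x⁻¹ * y) (N.mul_mem (N.inv_mem hx) hy)
      have h2 := Cfsg.Agent.Lib.Helper28.commute_conj x h1
      have e : x * ((x⁻¹ * y) * d * (x⁻¹ * y)⁻¹) * x⁻¹ = y * d * y⁻¹ := by group
      rw [e] at h2
      exact h2.symm.eq
    have hsol : Group.IsSolvable ↥(Subgroup.closure F) := by
      apply Group.isSolvable_of_comm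
      intro a b
      exact (Subgroup.isMulCommutative_closure hFc).is_comm.comm a b
    have hB : ∀ x ∈ N, d * (x * d * x⁻¹) ∈ Subgroup.closure F := by
      intro x hx
      have h2 : x * d * x⁻¹ ∈ F := by rw [hFdef]; exact ⟨x, hx, rfl⟩
      exact Subgroup.mul_mem _ (Subgroup.subset_closure hdF) (Subgroup.subset_closure h2)
    exact not_central D hgen hcls N hN d hd
      (comm_of_solvable N hperf hcs d hdd (Subgroup.closure F) hB hsol)
  · by_contra hno
    push Not at hno
    have hclaim : ∀ x ∈ N, Commute d (x * d * x⁻¹) → x * d * x⁻¹ = d := by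
      intro x hx hcm
      have hee := mul_self_of_order_two (hTS.1 _ (hconj x d hd))
      have h3 := hno x hx
      have h2 : (d * (x * d * x⁻¹)) * (d * (x * d * x⁻¹)) = 1 := by
        calc (d * (x * d * x⁻¹)) * (d * (x * d * x⁻¹))
            = d * ((x * d * x⁻¹) * d) * (x * d * x⁻¹) := by group
          _ = d * (d * (x * d * x⁻¹)) * (x * d * x⁻¹) := by rw [hcm.eq]
          _ = (d * d) * ((x * d * x⁻¹) * (x * d * x⁻¹)) := by group
          _ = 1 := by rw [hdd, hee, mul_one]
      have h1 : d * (x * d * x⁻¹) = 1 := by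
        have h : (d * (x * d * x⁻¹)) ^ 3
            = (d * (x * d * x⁻¹)) * ((d * (x * d * x⁻¹)) * (d * (x * d * x⁻¹))) := by
          rw [pow_succ', pow_two]
        rw [h2, mul_one] at h
        rw [← h]; exact h3
      calc x * d * x⁻¹ = (d * d) * (x * d * x⁻¹) := by rw [hdd, one_mul]
        _ = d * (d * (x * d * x⁻¹)) := by group
        _ = d := by rw [h1, mul_one]
    have hF2 : ∀ a ∈ F, orderOf a = 2 := fun a ha => hTS.1 a (hFD a ha)
    have hF3 : ∀ a ∈ F, ∀ b ∈ F, (a * b) ^ 2 = 1 ∨ (a * b) ^ 3 = 1 :=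
      fun a ha b hb => hTS.2 a (hFD a ha) b (hFD b hb)
    have hFc : ∀ a ∈ F, ∀ b ∈ F, a * b * a⁻¹ ∈ F := by
      intro a ha b hb
      rw [hFdef] at ha hb ⊢
      obtain ⟨x, hx, rfl⟩ := ha
      obtain ⟨y, hy, rfl⟩ := hb
      refine ⟨x * (d * (x⁻¹ * y) * d⁻¹), ?_, by group⟩
      exact N.mul_mem hx (hNN.conj_mem _ (N.mul_mem (N.inv_mem hx) hy) d)
    have hFw : ∀ a ∈ F, ∀ b ∈ F, Commute a b → a = b := by
      intro a ha b hb hcm
      rw [hFdef] at ha hb
      obtain ⟨x, hx, rfl⟩ := ha
      obtain ⟨y, hy, rfl⟩ := hb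
      have h2 := Cfsg.Agent.Lib.Helper28.commute_conj x⁻¹ hcm
      have e1 : x⁻¹ * (x * d * x⁻¹) * x⁻¹⁻¹ = d := by group
      have e2 : x⁻¹ * (y * d * y⁻¹) * x⁻¹⁻¹ = (x⁻¹ * y) * d * (x⁻¹ * y)⁻¹ := by group
      rw [e1, e2] at h2
      have h3 := hclaim (x⁻¹ * y) (N.mul_mem (N.inv_mem hx) hy) h2
      calc x * d * x⁻¹ = x * ((x⁻¹ * y) * d * (x⁻¹ * y)⁻¹) * x⁻¹ := by rw [h3]
        _ = y * d * y⁻¹ := by group
    obtain ⟨R, hR3, hRm, -⟩ := width1_core F hF2 hF3 hFc hFw
    have hnil : Group.IsNilpotent ↥R := hR3.isNilpotent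
    have hsol : Group.IsSolvable ↥R := inferInstance
    have hB : ∀ x ∈ N, d * (x * d * x⁻¹) ∈ R := by
      intro x hx
      have h2 : x * d * x⁻¹ ∈ F := by rw [hFdef]; exact ⟨x, hx, rfl⟩
      exact hRm d hdF _ h2
    exact not_central D hgen hcls N hN d hd (comm_of_solvable N hperf hcs d hdd R hB hsol)

/-- every component is normal -/
theorem component_normal [Finite G] (D : Set G) (hTS : Cfsg.IsThreeTranspositionSet D)
    (hconj : ∀ g : G, ∀ x ∈ D, g * x * g⁻¹ ∈ D)
    (hgen : Subgroup.closure D = ⊤)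
    (L : Subgroup G) (hL : Cfsg.IsComponent L) : L.Normal := by
  classical
  have key : ∀ d ∈ D, L.map (MulAut.conj d).toMonoidHom = L := by
    intro d hd
    by_contra hne
    have hdd : d * d = 1 := mul_self_of_order_two (hTS.1 d hd)
    have hdi : d⁻¹ = d := inv_of_order_two (hTS.1 d hd)
    have hK : Cfsg.IsComponent (L.map (MulAut.conj d).toMonoidHom) :=
      component_map_equiv hL (MulAut.conj d)
    have hcomm : ⁅L, L.map (MulAut.conj d).toMonoidHom⁆ = ⊥ :=
      components_comm hL hK (Ne.symm hne)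
    rw [Subgroup.commutator_eq_bot_iff_le_centralizer] at hcomm
    have hLK : ∀ x ∈ L, ∀ y ∈ L.map (MulAut.conj d).toMonoidHom, y * x = x * y := by
      intro x hx y hy
      exact Subgroup.mem_centralizer_iff.mp (hcomm hx) y hy
    have hpow : ∀ x ∈ L, (∀ z ∈ L, x ^ 2 * z = z * x ^ 2) ∨ (∀ z ∈ L, x ^ 3 * z = z * x ^ 3) := by
      intro x hx
      have hy : d * x * d⁻¹ ∈ L.map (MulAut.conj d).toMonoidHom := ⟨x, hx, rfl⟩
      have hcm : Commute (d * x * d⁻¹) x⁻¹ :=
        Commute.inv_right (show Commute (d * x * d⁻¹) x from hLK x hx _ hy)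
      have hde : d * (x * d * x⁻¹) = (d * x * d⁻¹) * x⁻¹ := by rw [hdi]; group
      have hpk : ∀ k : ℕ, (d * (x * d * x⁻¹)) ^ k = 1 → ∀ z ∈ L, x ^ k * z = z * x ^ k := by
        intro k hk z hz
        rw [hde, hcm.mul_pow] at hk
        have hxk : x ^ k = (d * x * d⁻¹) ^ k := by
          have h5 := mul_eq_one_iff_eq_inv.mp hk
          rw [h5, inv_pow, inv_inv]
        have hmem : x ^ k ∈ L.map (MulAut.conj d).toMonoidHom := by
          rw [hxk]; exact Subgroup.pow_mem _ hy k
        exact hLK z hz _ hmem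
      rcases hTS.2 d hd _ (hconj x d hd) with h2 | h3
      · left; exact hpk 2 h2
      · right; exact hpk 3 h3
    have hquot : ∀ s : ↥L ⧸ Subgroup.center ↥L, s ^ 2 = 1 ∨ s ^ 3 = 1 := by
      intro s
      induction s using QuotientGroup.induction_on with
      | H x =>
        rcases hpow x x.2 with h | h
        · left
          rw [← QuotientGroup.mk_pow, QuotientGroup.eq_one_iff, Subgroup.mem_center_iff]
          intro z
          apply Subtype.ext
          have h5 := h z z.2
          show (z : G) * (x : G) ^ 2 = (x : G) ^ 2 * (z : G)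
          exact h5.symm
        · right
          rw [← QuotientGroup.mk_pow, QuotientGroup.eq_one_iff, Subgroup.mem_center_iff]
          intro z
          apply Subtype.ext
          have h5 := h z z.2
          show (z : G) * (x : G) ^ 3 = (x : G) ^ 3 * (z : G)
          exact h5.symm
    have hsimp : IsSimpleGroup (↥L ⧸ Subgroup.center ↥L) := hL.2.2
    have hcommS := comm_of_orders_le_three hquot
    have hsolS : Group.IsSolvable (↥L ⧸ Subgroup.center ↥L) := Group.isSolvable_of_comm hcommS
    have hsolZ : Group.IsSolvable ↥(Subgroup.center ↥L) :=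
      Group.isSolvable_of_comm (fun a b => Subtype.ext (by
        have h5 := Subgroup.mem_center_iff.mp a.2 (b : ↥L)
        exact h5.symm))
    have hsolL : Group.IsSolvable ↥L :=
      Group.isSolvable_of_ker_le_range (Subgroup.center ↥L).subtype
        (QuotientGroup.mk' (Subgroup.center ↥L))
        (by rw [QuotientGroup.ker_mk', Subgroup.range_subtype])
    exact qs_not_solvable hL.2 hsolL
  rw [← Subgroup.normalizer_eq_top_iff, eq_top_iff, ← hgen, Subgroup.closure_le]
  intro d hd
  show d ∈ Subgroup.normalizer (L : Set G)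
  rw [Subgroup.mem_normalizer_iff]
  intro n
  have hk := key d hd
  constructor
  · intro hn
    have h5 : d * n * d⁻¹ ∈ L.map (MulAut.conj d).toMonoidHom := ⟨n, hn, rfl⟩
    rwa [hk] at h5
  · intro hn
    have h5 : d * n * d⁻¹ ∈ L.map (MulAut.conj d).toMonoidHom := by rw [hk]; exact hn
    obtain ⟨m, hm, hmn⟩ := h5
    have hmn' : d * m * d⁻¹ = d * n * d⁻¹ := hmn
    have e : m = n := by
      calc m = d⁻¹ * (d * m * d⁻¹) * d := by group
        _ = d⁻¹ * (d * n * d⁻¹) * d := by rw [hmn']
        _ = n := by group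
    rw [← e]; exact hm

/-- there is only one component -/
theorem component_unique [Finite G] (D : Set G) (hTS : Cfsg.IsThreeTranspositionSet D)
    (hconj : ∀ g : G, ∀ x ∈ D, g * x * g⁻¹ ∈ D)
    (hgen : Subgroup.closure D = ⊤)
    (hcls : ∀ a ∈ D, ∀ b ∈ D, ∃ g : G, b = g * a * g⁻¹)
    (d : G) (hd : d ∈ D) (L K : Subgroup G) (hL : Cfsg.IsComponent L)
    (hK : Cfsg.IsComponent K) : K = L := by
  classical
  by_contra hne
  have hLN : L.Normal := component_normal D hTS hconj hgen L hL
  have hKN : K.Normal := component_normal D hTS hconj hgen K hK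
  have hdd : d * d = 1 := mul_self_of_order_two (hTS.1 d hd)
  have hdi : d⁻¹ = d := inv_of_order_two (hTS.1 d hd)
  have hcomm : ⁅L, K⁆ = ⊥ := components_comm hL hK (Ne.symm hne)
  rw [Subgroup.commutator_eq_bot_iff_le_centralizer] at hcomm
  obtain ⟨⟨x, hx, hx2⟩, -⟩ := comp_both D hTS hconj hgen hcls L hL d hd
  obtain ⟨-, ⟨y, hy, hy3⟩⟩ := comp_both D hTS hconj hgen hcls K hK d hd
  have hx3 : (d * (x * d * x⁻¹)) ^ 3 = 1 :=
    (hTS.2 d hd _ (hconj x d hd)).resolve_left hx2
  have hy2 : (d * (y * d * y⁻¹)) ^ 2 = 1 :=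
    (hTS.2 d hd _ (hconj y d hd)).resolve_right hy3
  have hcyK : d * (y * d * y⁻¹) ∈ K := by
    have e : d * (y * d * y⁻¹) = (d * y * d⁻¹) * y⁻¹ := by rw [hdi]; group
    rw [e]; exact K.mul_mem (hKN.conj_mem y hy d) (K.inv_mem hy)
  have hcxL : d * (x * d * x⁻¹) ∈ L := by
    have e : d * (x * d * x⁻¹) = (d * x * d⁻¹) * x⁻¹ := by rw [hdi]; group
    rw [e]; exact L.mul_mem (hLN.conj_mem x hx d) (L.inv_mem hx)
  have hxcy : Commute (d * (y * d * y⁻¹)) x :=
    Subgroup.mem_centralizer_iff.mp (hcomm hx) _ hcyK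
  have hcc : Commute (d * (x * d * x⁻¹)) (d * (y * d * y⁻¹)) :=
    (show Commute (d * (y * d * y⁻¹)) (d * (x * d * x⁻¹)) from
      Subgroup.mem_centralizer_iff.mp (hcomm hcxL) _ hcyK).symm
  have hcyx' : (d * (y * d * y⁻¹)) * x⁻¹ = x⁻¹ * (d * (y * d * y⁻¹)) :=
    (Commute.inv_right hxcy).eq
  have hprod : d * ((x * y) * d * (x * y)⁻¹)
      = (d * (x * d * x⁻¹)) * (d * (y * d * y⁻¹)) := by
    calc d * ((x * y) * d * (x * y)⁻¹)
        = d * x * (d * d) * (y * d * y⁻¹) * x⁻¹ := by rw [hdd]; group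
      _ = (d * x * d) * ((d * (y * d * y⁻¹)) * x⁻¹) := by group
      _ = (d * x * d) * (x⁻¹ * (d * (y * d * y⁻¹))) := by rw [hcyx']
      _ = (d * (x * d * x⁻¹)) * (d * (y * d * y⁻¹)) := by group
  rcases hTS.2 d hd _ (hconj (x * y) d hd) with h2 | h3
  · rw [hprod, hcc.mul_pow, hy2, mul_one] at h2
    exact hx2 h2
  · rw [hprod, hcc.mul_pow, hx3, one_mul] at h3
    exact hy3 h3


end Aux

/-- Let D be a conjugacy class of 3-transpositions generating the finite group G, with at least two members, and suppose the largest normal 2-subgroup and the largest normal 3-subgroup of G are both central. Then G has a quasisimple normal subgroup L such that the generalized Fitting subgroup of G is the product of L and the centre; and either L = G or the image of D in G/L has width 1, in the sense that two members of D whose commutator lies in L have the same image modulo L. -/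
theorem result {G : Type*} [Group G] [Finite G] {D : Set G} (hD : Cfsg.IsThreeTranspositionClass D) (hD2 : ∃ a ∈ D, ∃ b ∈ D, a ≠ b) (h2 : Cfsg.pCore 2 G ≤ Subgroup.center G) (h3 : Cfsg.pCore 3 G ≤ Subgroup.center G) : ∃ L : Subgroup G, L.Normal ∧ Cfsg.IsQuasisimple L ∧ Cfsg.generalizedFittingSubgroup G = L ⊔ Subgroup.center G ∧ (L = ⊤ ∨ ∀ a ∈ D, ∀ b ∈ D, a * b * a⁻¹ * b⁻¹ ∈ L → a⁻¹ * b ∈ L) := by
  classical
  have hD' := hD
  have hD2' := hD2
  obtain ⟨hTS, ⟨d0, hd0, hDconj⟩, hgen⟩ := hD
  have hmem : ∀ x : G, x ∈ D ↔ IsConj d0 x := by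
    intro x; rw [hDconj]; rfl
  have hconj : ∀ g : G, ∀ x ∈ D, g * x * g⁻¹ ∈ D := by
    intro g x hx
    rw [hmem] at hx ⊢
    exact hx.trans (isConj_iff.mpr ⟨g, rfl⟩)
  have hcls : ∀ a ∈ D, ∀ b ∈ D, ∃ g : G, b = g * a * g⁻¹ := by
    intro a ha b hb
    have h1 : IsConj a b := ((hmem a).mp ha).symm.trans ((hmem b).mp hb)
    obtain ⟨g, hg⟩ := isConj_iff.mp h1
    exact ⟨g, hg.symm⟩
  obtain ⟨hP1, hP⟩ := Cfsg.Agent.S5351.result hD' hD2'
  have hE : Cfsg.layer G ≠ ⊥ := by
    rcases hP with ⟨hn2, -, -⟩ | ⟨-, hn3, -⟩ | ⟨-, -, hE⟩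
    · exact absurd h2 hn2
    · exact absurd h3 hn3
    · exact hE
  have hex : ∃ L : Subgroup G, Cfsg.IsComponent L := by
    by_contra hno
    apply hE
    have hemp : {K : Subgroup G | Cfsg.IsComponent K} = ∅ := by
      ext K
      simp only [Set.mem_empty_iff_false, iff_false]
      intro hK
      exact hno ⟨K, hK⟩
    unfold Cfsg.layer
    rw [hemp, sSup_empty]
  obtain ⟨L, hL⟩ := hex
  have hLN : L.Normal := component_normal D hTS hconj hgen L hL
  have hlayer : Cfsg.layer G = L := by
    apply le_antisymm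
    · unfold Cfsg.layer
      apply sSup_le
      intro K hK
      exact (component_unique D hTS hconj hgen hcls d0 hd0 L K hL hK).le
    · exact Cfsg.Agent.Lib.Helper11.component_le_layer hL
  have hF : Cfsg.fittingSubgroup G = Subgroup.center G := by
    apply le_antisymm
    · rw [Cfsg.Agent.S0009.result (G := G)]
      apply iSup_le
      intro p
      have hp : (p : ℕ).Prime := p.2
      by_cases hp2 : (p : ℕ) = 2
      · rw [hp2]; exact h2
      · by_cases hp3 : (p : ℕ) = 3
        · rw [hp3]; exact h3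
        · apply hP1 p hp
          have := hp.two_le
          omega
    · unfold Cfsg.fittingSubgroup
      have hnil : Group.IsNilpotent ↥(Subgroup.center G) := by
        apply Subgroup.isNilpotent_of_ker_le_center (1 : ↥(Subgroup.center G) →* Unit)
        intro x _
        rw [Subgroup.mem_center_iff]
        intro g
        apply Subtype.ext
        have h5 := Subgroup.mem_center_iff.mp x.2 (g : G)
        exact h5
      exact le_sSup ⟨inferInstance, hnil⟩
  refine ⟨L, hLN, hL.2, ?_, Or.inr ?_⟩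
  · unfold Cfsg.generalizedFittingSubgroup
    rw [hlayer, hF]
  intro a ha b hb hab
  have haa : a * a = 1 := mul_self_of_order_two (hTS.1 a ha)
  have hai : a⁻¹ = a := inv_of_order_two (hTS.1 a ha)
  have hbb : b * b = 1 := mul_self_of_order_two (hTS.1 b hb)
  have hbi : b⁻¹ = b := inv_of_order_two (hTS.1 b hb)
  rw [hai, hbi] at hab
  rw [hai]
  have hab2 : (a * b) ^ 2 ∈ L := by
    have e : (a * b) ^ 2 = a * b * a * b := by rw [pow_two]; group
    rw [e]; exact hab
  rcases hTS.2 a ha b hb with h2' | h3'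
  swap
  · have e : a * b = ((a * b) ^ 2)⁻¹ := by
      rw [eq_inv_iff_mul_eq_one, ← pow_succ', h3']
    rw [e]; exact L.inv_mem hab2
  have hcab : a * b = b * a := by
    have e : a * b * (a * b) = 1 := by rw [← pow_two]; exact h2'
    calc a * b = a * b * (a * b) * (b⁻¹ * a⁻¹) := by group
      _ = b * a := by rw [e, hai, hbi, one_mul]
  by_contra hnL
  have hclaim : ∀ x ∈ L, b * (x * a * x⁻¹) = (x * a * x⁻¹) * b := by
    intro x hx
    by_contra hnc
    have hxD : x * a * x⁻¹ ∈ D := hconj x a ha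
    have hw3 : (b * (x * a * x⁻¹)) ^ 3 = 1 := by
      rcases hTS.2 b hb _ hxD with h | h
      · exfalso
        apply hnc
        have hxx : (x * a * x⁻¹) * (x * a * x⁻¹) = 1 := mul_self_of_order_two (hTS.1 _ hxD)
        have e : b * (x * a * x⁻¹) * (b * (x * a * x⁻¹)) = 1 := by rw [← pow_two]; exact h
        calc b * (x * a * x⁻¹) = b * (b * (x * a * x⁻¹) * (b * (x * a * x⁻¹))) * (x * a * x⁻¹) := by
              rw [e, mul_one]
          _ = (b * b) * (x * a * x⁻¹) * b * ((x * a * x⁻¹) * (x * a * x⁻¹)) := by group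
          _ = (x * a * x⁻¹) * b := by rw [hbb, hxx, one_mul, mul_one]
      · exact h
    have hq : (QuotientGroup.mk (b * a) : G ⧸ L) = QuotientGroup.mk (b * (x * a * x⁻¹)) := by
      rw [QuotientGroup.eq]
      have e : (b * a)⁻¹ * (b * (x * a * x⁻¹)) = (a⁻¹ * x * a) * x⁻¹ := by group
      rw [e]
      refine L.mul_mem ?_ (L.inv_mem hx)
      have := hLN.conj_mem x hx a⁻¹
      rwa [inv_inv] at this
    have hq3 : (QuotientGroup.mk (b * a) : G ⧸ L) ^ 3 = 1 := by
      rw [hq, ← QuotientGroup.mk_pow, hw3]; rfl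
    have hq2 : (QuotientGroup.mk (b * a) : G ⧸ L) ^ 2 = 1 := by
      rw [← QuotientGroup.mk_pow]
      have e : (b * a) ^ 2 = 1 := by
        rw [pow_two, ← hcab]
        calc a * b * (a * b) = (a * b) ^ 2 := by rw [pow_two]
          _ = 1 := h2'
      rw [e]; rfl
    have hq1 : (QuotientGroup.mk (b * a) : G ⧸ L) = 1 := by
      calc (QuotientGroup.mk (b * a) : G ⧸ L)
          = (QuotientGroup.mk (b * a) : G ⧸ L) ^ 3 * ((QuotientGroup.mk (b * a) : G ⧸ L) ^ 2)⁻¹ := by
            group
        _ = 1 := by rw [hq3, hq2, inv_one, mul_one]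
    rw [QuotientGroup.eq_one_iff] at hq1
    apply hnL
    rw [hcab]; exact hq1
  have hK0b : ⁅Subgroup.zpowers a, L⁆ ≤ Subgroup.centralizer ({b} : Set G) := by
    apply comm_le_of_gen L a haa
    intro x hx
    rw [Subgroup.mem_centralizer_iff]
    intro y hy
    rw [Set.mem_singleton_iff] at hy
    subst hy
    have h5 := hclaim x hx
    calc y * (a * (x * a * x⁻¹)) = (y * a) * (x * a * x⁻¹) := by group
      _ = (a * y) * (x * a * x⁻¹) := by rw [hcab]
      _ = a * (y * (x * a * x⁻¹)) := by group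
      _ = a * ((x * a * x⁻¹) * y) := by rw [h5]
      _ = a * (x * a * x⁻¹) * y := by group
  have hK0L : ⁅Subgroup.zpowers a, L⁆ ≤ L := Subgroup.commutator_le_right _ _
  have hK0N : ((⁅Subgroup.zpowers a, L⁆ : Subgroup G).subgroupOf L).Normal :=
    (Subgroup.normal_subgroupOf_iff_le_normalizer hK0L).mpr (comm_normalized L a)
  by_cases htop : (⁅Subgroup.zpowers a, L⁆ : Subgroup G).subgroupOf L = ⊤
  · rw [Subgroup.subgroupOf_eq_top] at htop
    apply not_central D hgen hcls L hL b hb
    intro x hx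
    have h5 := hK0b (htop hx)
    rw [Subgroup.mem_centralizer_iff] at h5
    exact h5 b (Set.mem_singleton b)
  · have hcen := Cfsg.Agent.Lib.Helper11.qs_normal_le_center hL.2 _ hK0N htop
    have hsol : Group.IsSolvable ↥(⁅Subgroup.zpowers a, L⁆ : Subgroup G) := by
      apply Group.isSolvable_of_comm
      intro u v
      apply Subtype.ext
      have hu : (⟨(u : G), hK0L u.2⟩ : ↥L) ∈
          (⁅Subgroup.zpowers a, L⁆ : Subgroup G).subgroupOf L := by
        rw [Subgroup.mem_subgroupOf]; exact u.2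
      have h5 := Subgroup.mem_center_iff.mp (hcen hu) ⟨(v : G), hK0L v.2⟩
      have h6 := congrArg (Subtype.val) h5
      exact h6.symm
    apply not_central D hgen hcls L hL a ha
    apply comm_of_solvable L (Cfsg.Agent.Lib.Helper11.component_perfect hL)
      (fun S hS hs => Cfsg.Agent.Lib.Helper11.component_comm_solvable_subnormal hL hS hs)
      a haa (⁅Subgroup.zpowers a, L⁆ : Subgroup G) ?_ hsol
    intro x hx
    have e : a * (x * a * x⁻¹) = ⁅a, x⁆ := by
      rw [commutatorElement_def, hai]; group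
    rw [e]
    exact Subgroup.commutator_mem_commutator (Subgroup.mem_zpowers a) hx

end Cfsg.Agent.S5352
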