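import Cfsg.Statements.S5353
import Cfsg.Agent.S5352
import Cfsg.Agent.S1265
import Cfsg.Agent.Lib.Helper28.ThreeTransp

set_option autoImplicit false
open Cfsg

namespace Cfsg.Agent.S5353


open Cfsg.Agent.Lib.Helper16.Width1 Cfsg.Agent.Lib.Helper11 Cfsg.Agent.Lib.Helper28

open scoped commutatorElement

universe u

section Aux

variable {G : Type u} [Group G]

/-- under the hypotheses the Fitting subgroup is the centre -/
theorem fitting_eq_center [Finite G] {D : Set G} (hD : Cfsg.IsThreeTranspositionClass D)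
    (hD2 : ∃ a ∈ D, ∃ b ∈ D, a ≠ b) (h2 : Cfsg.pCore 2 G ≤ Subgroup.center G)
    (h3 : Cfsg.pCore 3 G ≤ Subgroup.center G) :
    Cfsg.fittingSubgroup G = Subgroup.center G := by
  obtain ⟨hP1, -⟩ := Cfsg.Agent.S5351.result hD hD2
  apply le_antisymm
  · rw [Cfsg.Agent.S0009.result (G := G)]
    apply iSup_le
    intro p
    have hp : (p : ℕ).Prime := p.2
    by_cases hp2 : (p : ℕ) = 2
    · rw [hp2]; exact h2
    · by_cases hp3 : (p : ℕ) = 3
      · rw [hp3]; exact h3
      · apply hP1 p hp
        have := hp.two_le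
        omega
  · unfold Cfsg.fittingSubgroup
    have hnil : Group.IsNilpotent ↥(Subgroup.center G) := by
      apply Subgroup.isNilpotent_of_ker_le_center (1 : ↥(Subgroup.center G) →* Unit)
      intro x _
      rw [Subgroup.mem_center_iff]
      intro g
      apply Subtype.ext
      have h5 := Subgroup.mem_center_iff.mp x.2 (g : G)
      exact h5
    exact le_sSup ⟨inferInstance, hnil⟩

/-- the centralizer of `L` is central when `F*(G) = L Z(G)` and `F(G) = Z(G)` -/
theorem centralizer_le_center [Finite G] (L : Subgroup G) [hLN : L.Normal]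
    (hF : Cfsg.generalizedFittingSubgroup G = L ⊔ Subgroup.center G)
    (hFit : Cfsg.fittingSubgroup G = Subgroup.center G) :
    Subgroup.centralizer (L : Set G) ≤ Subgroup.center G := by
  intro k hk
  have hk' : k ∈ Subgroup.centralizer (Cfsg.generalizedFittingSubgroup G : Set G) := by
    rw [hF, Subgroup.mem_centralizer_iff]
    intro y hy
    have hy' : y ∈ ((L ⊔ Subgroup.center G : Subgroup G) : Set G) := hy
    rw [Subgroup.normal_mul] at hy'
    obtain ⟨l, hl, z, hz, rfl⟩ := Set.mem_mul.mp hy'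
    have h1 : l * k = k * l := Subgroup.mem_centralizer_iff.mp hk l hl
    have h2 : k * z = z * k := Subgroup.mem_center_iff.mp hz k
    calc l * z * k = l * (z * k) := by group
      _ = l * (k * z) := by rw [h2]
      _ = (l * k) * z := by group
      _ = k * l * z := by rw [h1]
      _ = k * (l * z) := by group
  have hk2 := Cfsg.Agent.S1265.result hk'
  rw [hF] at hk2
  have hk3 : k ∈ ((L ⊔ Subgroup.center G : Subgroup G) : Set G) := hk2
  rw [Subgroup.normal_mul] at hk3
  obtain ⟨l, hl, z, hz, rfl⟩ := Set.mem_mul.mp hk3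
  have hlc : l ∈ Subgroup.centralizer (L : Set G) := by
    have e : l = (l * z) * z⁻¹ := by group
    rw [e]
    exact Subgroup.mul_mem _ hk (Subgroup.inv_mem _ (Subgroup.center_le_centralizer _ hz))
  have hZL : L ⊓ Subgroup.centralizer (L : Set G) ≤ Cfsg.fittingSubgroup G := by
    unfold Cfsg.fittingSubgroup
    apply le_sSup
    refine ⟨inferInstance, ?_⟩
    apply Subgroup.isNilpotent_of_ker_le_center
      (1 : ↥(L ⊓ Subgroup.centralizer (L : Set G)) →* Unit)
    intro x _
    rw [Subgroup.mem_center_iff]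
    intro g
    apply Subtype.ext
    have hx := x.2.2
    have hg := g.2.1
    exact Subgroup.mem_centralizer_iff.mp hx g hg
  have hl2 : l ∈ Subgroup.center G := by
    rw [← hFit]; exact hZL ⟨hl, hlc⟩
  exact Subgroup.mul_mem _ hl2 hz

/-- the kernel of the conjugation action on the conjugates of a set `B` -/
def blockKer [Finite G] (B : Set G) : Subgroup G where
  carrier := {k | ∀ h v : G, h⁻¹ * v * h ∈ B → h⁻¹ * (k * v * k⁻¹) * h ∈ B}
  one_mem' := by
    intro h v hv
    simpa using hv
  mul_mem' := by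
    intro a b ha hb h v hv
    have h5 := ha h _ (hb h v hv)
    have e : a * b * v * (a * b)⁻¹ = a * (b * v * b⁻¹) * a⁻¹ := by group
    rw [e]; exact h5
  inv_mem' := by
    intro a ha
    have hpow : ∀ n : ℕ, ∀ h v : G, h⁻¹ * v * h ∈ B →
        h⁻¹ * (a ^ n * v * (a ^ n)⁻¹) * h ∈ B := by
      intro n
      induction n with
      | zero => intro h v hv; simpa using hv
      | succ n ih =>
        intro h v hv
        have h5 := ha h _ (ih h v hv)
        have e : a ^ (n + 1) * v * (a ^ (n + 1))⁻¹ = a * (a ^ n * v * (a ^ n)⁻¹) * a⁻¹ := by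
          rw [pow_succ']; group
        rw [e]; exact h5
    intro h v hv
    have hinv : a⁻¹ = a ^ (orderOf a - 1) := by
      have hpos : 0 < orderOf a := orderOf_pos a
      rw [inv_eq_iff_mul_eq_one, ← pow_succ', Nat.sub_add_cancel hpos, pow_orderOf_eq_one]
    rw [hinv]; exact hpow _ h v hv

theorem mem_blockKer [Finite G] (B : Set G) (k : G) :
    k ∈ blockKer B ↔ ∀ h v : G, h⁻¹ * v * h ∈ B → h⁻¹ * (k * v * k⁻¹) * h ∈ B := Iff.rfl

theorem blockKer_normal [Finite G] (B : Set G) : (blockKer B).Normal := by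
  constructor
  intro k hk g
  rw [mem_blockKer] at hk ⊢
  intro h v hv
  have h1 := hk (g⁻¹ * h) (g⁻¹ * v * g) (by
    have e : (g⁻¹ * h)⁻¹ * (g⁻¹ * v * g) * (g⁻¹ * h) = h⁻¹ * v * h := by group
    rw [e]; exact hv)
  have e : h⁻¹ * (g * k * g⁻¹ * v * (g * k * g⁻¹)⁻¹) * h
      = (g⁻¹ * h)⁻¹ * (k * (g⁻¹ * v * g) * k⁻¹) * (g⁻¹ * h) := by group
  rw [e]; exact h1

/-- the product of two members of a block lies in the kernel of the action on the blocks -/
theorem mul_mem_blockKer [Finite G] {D : Set G} (hTS : Cfsg.IsThreeTranspositionSet D)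
    (hconj : ∀ g : G, ∀ x ∈ D, g * x * g⁻¹ ∈ D) (B : Set G) (hBD : B ⊆ D)
    (hBk : ∀ g : G, ∀ x ∈ B, g * x * g⁻¹ ∈ B → ∀ y ∈ B, g * y * g⁻¹ ∈ B)
    (b b' : G) (hb : b ∈ B) (hb' : b' ∈ B) : b' * b ∈ blockKer B := by
  have hsys : ∀ h h' u : G, h⁻¹ * u * h ∈ B → h'⁻¹ * u * h' ∈ B →
      ∀ v : G, h⁻¹ * v * h ∈ B → h'⁻¹ * v * h' ∈ B := by
    intro h h' u hu hu' v hv
    have h1 := hBk (h'⁻¹ * h) (h⁻¹ * u * h) hu (by
      have e : h'⁻¹ * h * (h⁻¹ * u * h) * (h'⁻¹ * h)⁻¹ = h'⁻¹ * u * h' := by group
      rw [e]; exact hu') (h⁻¹ * v * h) hv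
    have e : h'⁻¹ * h * (h⁻¹ * v * h) * (h'⁻¹ * h)⁻¹ = h'⁻¹ * v * h' := by group
    rw [e] at h1; exact h1
  have hself : ∀ c ∈ B, ∀ y ∈ B, c * y * c⁻¹ ∈ B := by
    intro c hc y hy
    exact hBk c c hc (by simpa using hc) y hy
  have hkey : ∀ c ∈ B, ∀ c' ∈ B, ∀ v ∈ D, v ∉ B → Commute c v → Commute c' v := by
    intro c hc c' hc' v hvD hvB hcv
    by_contra hnc
    have hbr := tt_braid hTS (hBD hc') hvD hnc
    have hvi := tt_inv hTS hvD
    have hci := tt_inv hTS (hBD hc')
    have hcc := tt_mul_self hTS (hBD hc')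
    have h1 : v * c' * v⁻¹ ∈ B := hBk v c hc (by
      have e : v * c * v⁻¹ = c := by
        rw [← hcv.eq]; group
      rw [e]; exact hc) c' hc'
    have h2 : c' * v * c'⁻¹ ∈ B := by
      have e : c' * v * c'⁻¹ = v * c' * v⁻¹ := by rw [hvi, hci]; exact hbr
      rw [e]; exact h1
    have h3 := hself c' hc' _ h2
    have e : c' * (c' * v * c'⁻¹) * c'⁻¹ = v := by
      rw [hci]
      calc c' * (c' * v * c') * c' = (c' * c') * v * (c' * c') := by group
        _ = v := by rw [hcc]; group
    rw [e] at h3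
    exact hvB h3
  rw [mem_blockKer]
  intro h v hv
  have hvD : v ∈ D := by
    have h5 := hconj h _ (hBD hv)
    have e : h * (h⁻¹ * v * h) * h⁻¹ = v := by group
    rwa [e] at h5
  have hbi := tt_inv hTS (hBD hb)
  have hbi' := tt_inv hTS (hBD hb')
  have hvi := tt_inv hTS hvD
  have hvv := tt_mul_self hTS hvD
  by_cases hvB : v ∈ B
  · have h1 : b' * (b * v * b⁻¹) * b'⁻¹ ∈ B := hself b' hb' _ (hself b hb v hvB)
    have e : b' * b * v * (b' * b)⁻¹ = b' * (b * v * b⁻¹) * b'⁻¹ := by group
    rw [e]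
    have h5 := hsys 1 h v (by simpa using hvB) hv (b' * (b * v * b⁻¹) * b'⁻¹)
      (by simpa using h1)
    exact h5
  · by_cases hbv : Commute b v
    · have hb'v : Commute b' v := hkey b hb b' hb' v hvD hvB hbv
      have e : b' * b * v * (b' * b)⁻¹ = v := by
        calc b' * b * v * (b' * b)⁻¹ = b' * (b * v) * b⁻¹ * b'⁻¹ := by group
          _ = b' * (v * b) * b⁻¹ * b'⁻¹ := by rw [hbv.eq]
          _ = (b' * v) * b'⁻¹ := by group
          _ = (v * b') * b'⁻¹ := by rw [hb'v.eq]
          _ = v := by group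
      rw [e]; exact hv
    · have hb'v : ¬ Commute b' v := fun hc => hbv (hkey b' hb' b hb v hvD hvB hc)
      have hbr := tt_braid hTS (hBD hb) hvD hbv
      have hbr' := tt_braid hTS (hBD hb') hvD hb'v
      have hu2 : v⁻¹ * (b * v * b⁻¹) * v ∈ B := by
        have e : v⁻¹ * (b * v * b⁻¹) * v = b := by
          rw [hbi, hbr, hvi]
          calc v * (v * b * v) * v = (v * v) * b * (v * v) := by group
            _ = b := by rw [hvv]; group
        rw [e]; exact hb
      have hu1' : (b' * h)⁻¹ * (b' * v * b'⁻¹) * (b' * h) ∈ B := by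
        have e : (b' * h)⁻¹ * (b' * v * b'⁻¹) * (b' * h) = h⁻¹ * v * h := by group
        rw [e]; exact hv
      have hu2' : v⁻¹ * (b' * v * b'⁻¹) * v ∈ B := by
        have e : v⁻¹ * (b' * v * b'⁻¹) * v = b' := by
          rw [hbi', hbr', hvi]
          calc v * (v * b' * v) * v = (v * v) * b' * (v * v) := by group
            _ = b' := by rw [hvv]; group
        rw [e]; exact hb'
      have h5 := hsys v (b' * h) (b' * v * b'⁻¹) hu2' hu1' (b * v * b⁻¹) hu2
      have e1 : (b' * h)⁻¹ * (b * v * b⁻¹) * (b' * h)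
          = h⁻¹ * (b'⁻¹ * b * v * (b'⁻¹ * b)⁻¹) * h := by group
      rw [e1, hbi'] at h5
      exact h5

/-- two distinct members of a generating class of 3-transpositions do not differ by a central
element -/
theorem no_central_prod {D : Set G} (hTS : Cfsg.IsThreeTranspositionSet D)
    (hgen : Subgroup.closure D = ⊤)
    (hcls : ∀ a ∈ D, ∀ b ∈ D, ∃ g : G, b = g * a * g⁻¹)
    (b b' z : G) (hb : b ∈ D) (hb' : b' ∈ D) (hne : b ≠ b') (hzdef : z = b' * b)
    (hz : z ∈ Subgroup.center G) : False := by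
  have hbb := tt_mul_self hTS hb
  have hbb' := tt_mul_self hTS hb'
  have hzc := Subgroup.mem_center_iff.mp hz
  have hex : ∃ a ∈ D, ¬ Commute a b := by
    by_contra hno
    push Not at hno
    have hbc : b ∈ Subgroup.center G := by
      apply Cfsg.Agent.S5351.mem_center_of_comm D hgen
      intro a ha
      exact (hno a ha).eq
    obtain ⟨g, hg⟩ := hcls b hb b' hb'
    apply hne
    rw [hg]
    have h5 := Subgroup.mem_center_iff.mp hbc g
    rw [h5]; group
  obtain ⟨a, ha, hab⟩ := hex
  have haa := tt_mul_self hTS ha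
  have hb'z : b' = z * b := by
    rw [hzdef]
    calc b' = b' * (b * b) := by rw [hbb, mul_one]
      _ = b' * b * b := by group
  have hcomm : b' * b = b * b' := by
    have h5 : b * z = z * b := hzc b
    rw [hzdef] at h5
    calc b' * b = (b * b) * (b' * b) := by rw [hbb, one_mul]
      _ = b * (b * (b' * b)) := by group
      _ = b * ((b' * b) * b) := by rw [h5]
      _ = b * b' * (b * b) := by group
      _ = b * b' := by rw [hbb, mul_one]
  have hz2 : z * z = 1 := by
    rw [hzdef]
    calc b' * b * (b' * b) = b' * (b * b') * b := by group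
      _ = b' * (b' * b) * b := by rw [← hcomm]
      _ = (b' * b') * (b * b) := by group
      _ = 1 := by rw [hbb, hbb', one_mul]
  have h3 : (a * b) ^ 3 = 1 := by
    rcases hTS.2 a ha b hb with h | h
    · exact absurd (commute_of_sq haa hbb h) hab
    · exact h
  have hab' : a * b' = z * (a * b) := by
    rw [hb'z]
    calc a * (z * b) = (a * z) * b := by group
      _ = (z * a) * b := by rw [hzc a]
      _ = z * (a * b) := by group
  have hcz : Commute z (a * b) := (hzc (a * b)).symm
  rcases hTS.2 a ha b' hb' with h | h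
  · rw [hab', hcz.mul_pow, pow_two z, hz2, one_mul] at h
    exact hab (commute_of_sq haa hbb h)
  · rw [hab', hcz.mul_pow, h3, mul_one] at h
    have hz1 : z = 1 := by
      calc z = z ^ 3 * (z * z)⁻¹ := by group
        _ = 1 := by rw [h, hz2]; group
    apply hne
    have e : b' = b := by
      calc b' = (b' * b) * b := by rw [mul_assoc, hbb, mul_one]
        _ = b := by rw [← hzdef, hz1, one_mul]
    exact e.symm

end Aux

section Main

variable {G : Type u} [Group G]

/-- index at most two gives primitivity -/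
theorem prim_of_index [Finite G] {D : Set G} (hD : Cfsg.IsThreeTranspositionClass D)
    (hD2 : ∃ a ∈ D, ∃ b ∈ D, a ≠ b) (h2 : Cfsg.pCore 2 G ≤ Subgroup.center G)
    (h3 : Cfsg.pCore 3 G ≤ Subgroup.center G) (L : Subgroup G) [hLN : L.Normal]
    (hL : Cfsg.IsQuasisimple L)
    (hF : Cfsg.generalizedFittingSubgroup G = L ⊔ Subgroup.center G) (hidx : L.index ≤ 2) :
    Cfsg.IsPrimitiveUnderConj D := by
  classical
  have hD' := hD
  obtain ⟨hTS, ⟨d0, hd0, hDconj⟩, hgen⟩ := hD
  have hmem : ∀ x : G, x ∈ D ↔ IsConj d0 x := by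
    intro x; rw [hDconj]; rfl
  have hconj : ∀ g : G, ∀ x ∈ D, g * x * g⁻¹ ∈ D := by
    intro g x hx
    rw [hmem] at hx ⊢
    exact hx.trans (isConj_iff.mpr ⟨g, rfl⟩)
  have hcls : ∀ a ∈ D, ∀ b ∈ D, ∃ g : G, b = g * a * g⁻¹ := by
    intro a ha b hb
    have h1 : IsConj a b := ((hmem a).mp ha).symm.trans ((hmem b).mp hb)
    obtain ⟨g, hg⟩ := isConj_iff.mp h1
    exact ⟨g, hg.symm⟩
  have hFit := fitting_eq_center hD' hD2 h2 h3
  have hcent := centralizer_le_center L hF hFit
  refine ⟨?_, hD2, ?_⟩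
  · intro a ha b hb
    obtain ⟨g, hg⟩ := hcls a ha b hb
    exact ⟨g, hg.symm⟩
  intro B hBD hB
  by_contra hcon
  push Not at hcon
  obtain ⟨hns, hne⟩ := hcon
  obtain ⟨b, hb, b', hb', hbb'⟩ := hns
  have hBk : ∀ g : G, ∀ x ∈ B, g * x * g⁻¹ ∈ B → ∀ y ∈ B, g * y * g⁻¹ ∈ B := by
    intro g x hx hgx y hy
    rcases hB g with h | h
    · rw [← h]; exact ⟨y, hy, rfl⟩
    · exact (Set.disjoint_left.mp h ⟨x, hx, rfl⟩ hgx).elim
  have hzK : b' * b ∈ blockKer B := mul_mem_blockKer hTS hconj B hBD hBk b b' hb hb'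
  have hKN : (blockKer B).Normal := blockKer_normal B
  have hbD := hBD hb
  have hb'D := hBD hb'
  have hbb : b * b = 1 := tt_mul_self hTS hbD
  have hbi : b⁻¹ = b := tt_inv hTS hbD
  by_cases htop : (blockKer B).subgroupOf L = ⊤
  · rw [Subgroup.subgroupOf_eq_top] at htop
    have hLB : ∀ l ∈ L, ∀ x ∈ B, l * x * l⁻¹ ∈ B := by
      intro l hl x hx
      have h5 := (mem_blockKer B l).mp (htop hl) 1 x (by simpa using hx)
      simpa using h5
    have hall : ∀ g : G, ∀ x ∈ B, g * x * g⁻¹ ∈ B := by
      by_cases hbL : b ∈ L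
      · have hDL : D ⊆ L := by
          intro a ha
          obtain ⟨g, rfl⟩ := hcls b hbD a ha
          exact hLN.conj_mem b hbL g
        have hLtop : L = ⊤ := by
          rw [eq_top_iff, ← hgen, Subgroup.closure_le]; exact hDL
        intro g x hx
        exact hLB g (by rw [hLtop]; exact Subgroup.mem_top g) x hx
      · have hi2 : L.index = 2 := by
          have h0 : L.index ≠ 0 := Subgroup.index_ne_zero_of_finite
          have h1 : L.index ≠ 1 := by
            intro h
            rw [Subgroup.index_eq_one] at h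
            apply hbL; rw [h]; exact Subgroup.mem_top b
          omega
        intro g x hx
        by_cases hgL : g ∈ L
        · exact hLB g hgL x hx
        · have hgb : g * b ∈ L := by
            rw [Subgroup.mul_mem_iff_of_index_two hi2]
            exact ⟨fun h => (hgL h).elim, fun h => (hbL h).elim⟩
          have h1 : b * x * b⁻¹ ∈ B := hBk b b hb (by simpa using hb) x hx
          have h5 := hLB (g * b) hgb _ h1
          have e : g * b * (b * x * b⁻¹) * (g * b)⁻¹ = g * (b * b) * x * (b * b)⁻¹ * g⁻¹ := by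
            group
          rw [e, hbb] at h5
          simpa using h5
    apply hne
    apply Set.Subset.antisymm hBD
    intro a ha
    obtain ⟨g, rfl⟩ := hcls b hbD a ha
    exact hall g b hb
  · have hKL : ((blockKer B).subgroupOf L).Normal := inferInstance
    have hcen := qs_normal_le_center hL _ hKL htop
    have hcomm1 : ⁅⁅blockKer B, L⁆, L⁆ = ⊥ := by
      rw [Subgroup.commutator_eq_bot_iff_le_centralizer, Subgroup.commutator_le]
      intro k hk l hl
      have hmemK : ⁅k, l⁆ ∈ blockKer B := by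
        rw [commutatorElement_def]
        have e : k * l * k⁻¹ * l⁻¹ = k * (l * k⁻¹ * l⁻¹) := by group
        rw [e]
        exact Subgroup.mul_mem _ hk (hKN.conj_mem _ (Subgroup.inv_mem _ hk) l)
      have hmemL : ⁅k, l⁆ ∈ L := by
        rw [commutatorElement_def]
        exact Subgroup.mul_mem _ (hLN.conj_mem l hl k) (Subgroup.inv_mem _ hl)
      have h5 : (⟨⁅k, l⁆, hmemL⟩ : ↥L) ∈ (blockKer B).subgroupOf L := by
        rw [Subgroup.mem_subgroupOf]; exact hmemK
      have h6 := Subgroup.mem_center_iff.mp (hcen h5)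
      rw [Subgroup.mem_centralizer_iff]
      intro y hy
      have h7 := h6 ⟨y, hy⟩
      exact congrArg Subtype.val h7
    have hperf : ⁅L, L⁆ = L := component_perfect ⟨hLN.isSubnormal, hL⟩
    have hcomm2 : ⁅L, blockKer B⁆ = ⊥ := perfect_comm_of_triple hperf hcomm1
    have hz : b' * b ∈ Subgroup.center G := by
      apply hcent
      rw [Subgroup.commutator_comm, Subgroup.commutator_eq_bot_iff_le_centralizer] at hcomm2
      exact hcomm2 hzK
    exact no_central_prod hTS hgen hcls b b' (b' * b) hbD hb'D hbb' rfl hz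

/-- a connected commuting graph forces index at most two -/
theorem index_of_connected [Finite G] {D : Set G} (hD : Cfsg.IsThreeTranspositionClass D)
    (hD2 : ∃ a ∈ D, ∃ b ∈ D, a ≠ b) (h2 : Cfsg.pCore 2 G ≤ Subgroup.center G)
    (h3 : Cfsg.pCore 3 G ≤ Subgroup.center G) (L : Subgroup G) [hLN : L.Normal]
    (hL : Cfsg.IsQuasisimple L)
    (hconn : (Cfsg.commutingGraph D).Connected) : L.index ≤ 2 := by
  classical
  have hD' := hD
  obtain ⟨hTS, ⟨d0, hd0, hDconj⟩, hgen⟩ := hD
  have hmem : ∀ x : G, x ∈ D ↔ IsConj d0 x := by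
    intro x; rw [hDconj]; rfl
  have hconj : ∀ g : G, ∀ x ∈ D, g * x * g⁻¹ ∈ D := by
    intro g x hx
    rw [hmem] at hx ⊢
    exact hx.trans (isConj_iff.mpr ⟨g, rfl⟩)
  have hcls : ∀ a ∈ D, ∀ b ∈ D, ∃ g : G, b = g * a * g⁻¹ := by
    intro a ha b hb
    have h1 : IsConj a b := ((hmem a).mp ha).symm.trans ((hmem b).mp hb)
    obtain ⟨g, hg⟩ := isConj_iff.mp h1
    exact ⟨g, hg.symm⟩
  obtain ⟨L', hL'N, hL'qs, -, hprop⟩ := Cfsg.Agent.S5352.result hD' hD2 h2 h3
  have hLL' : L' = L := Cfsg.Agent.S5352.component_unique D hTS hconj hgen hcls d0 hd0 L L'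
    ⟨hLN.isSubnormal, hL⟩ ⟨hL'N.isSubnormal, hL'qs⟩
  rw [hLL'] at hprop
  rcases hprop with htop | hw
  · rw [htop, Subgroup.index_top]; norm_num
  · have hadj : ∀ a b : D, (Cfsg.commutingGraph D).Adj a b → (a : G)⁻¹ * (b : G) ∈ L := by
      intro a b hab
      have hc : Commute (a : G) (b : G) := by
        have h5 := hab
        rw [Cfsg.commutingGraph, SimpleGraph.fromRel_adj] at h5
        rcases h5.2 with h | h
        · exact h
        · exact h.symm
      apply hw a a.2 b b.2
      have e : (a : G) * b * (a : G)⁻¹ * (b : G)⁻¹ = 1 := by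
        rw [hc.eq]; group
      rw [e]; exact L.one_mem
    have hreach : ∀ a b : D, (a : G)⁻¹ * (b : G) ∈ L := by
      intro a b
      obtain ⟨w⟩ := hconn.preconnected a b
      induction w with
      | nil => simp
      | cons h p ih =>
        have h5 := L.mul_mem (hadj _ _ h) ih
        simpa [mul_assoc] using h5
    have hd0i : d0⁻¹ = d0 := tt_inv hTS hd0
    have hd0d0 : d0 * d0 = 1 := tt_mul_self hTS hd0
    have hall : ∀ g : G, g ∈ L ∨ d0⁻¹ * g ∈ L := by
      intro g
      have hg : g ∈ Subgroup.closure D := by rw [hgen]; exact Subgroup.mem_top g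
      induction hg using Subgroup.closure_induction with
      | mem x hx => right; exact hreach ⟨d0, hd0⟩ ⟨x, hx⟩
      | one => left; exact L.one_mem
      | mul x y _ _ ihx ihy =>
        rcases ihx with hx | hx
        · rcases ihy with hy | hy
          · left; exact L.mul_mem hx hy
          · right
            have e : d0⁻¹ * (x * y) = (d0⁻¹ * x * d0⁻¹⁻¹) * (d0⁻¹ * y) := by group
            rw [e]; exact L.mul_mem (hLN.conj_mem x hx d0⁻¹) hy
        · rcases ihy with hy | hy
          · right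
            have e : d0⁻¹ * (x * y) = (d0⁻¹ * x) * y := by group
            rw [e]; exact L.mul_mem hx hy
          · left
            have e : x * y = (d0 * (d0⁻¹ * x) * d0⁻¹) * (d0⁻¹ * y) := by
              have e2 : (d0 * (d0⁻¹ * x) * d0⁻¹) * (d0⁻¹ * y) = x * (d0⁻¹ * d0⁻¹) * y := by group
              rw [e2, hd0i, hd0d0, mul_one]
            rw [e]; exact L.mul_mem (hLN.conj_mem _ hx d0) hy
      | inv x _ ihx =>
        rcases ihx with hx | hx
        · left; exact L.inv_mem hx
        · right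
          have e : d0⁻¹ * x⁻¹ = d0⁻¹ * (d0⁻¹ * x)⁻¹ * d0⁻¹⁻¹ := by
            have e2 : d0⁻¹ * (d0⁻¹ * x)⁻¹ * d0⁻¹⁻¹ = d0⁻¹ * x⁻¹ * (d0 * d0) := by group
            rw [e2, hd0d0, mul_one]
          rw [e]; exact hLN.conj_mem _ (L.inv_mem hx) d0⁻¹
    have hsurj : Function.Surjective
        (fun t : Bool => if t then (QuotientGroup.mk d0 : G ⧸ L) else 1) := by
      intro q
      induction q using QuotientGroup.induction_on with
      | H g =>
        rcases hall g with hg | hg
        · refine ⟨false, ?_⟩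
          simp only [Bool.false_eq_true, if_false]
          exact ((QuotientGroup.eq_one_iff g).mpr hg).symm
        · refine ⟨true, ?_⟩
          simp only [if_true]
          exact QuotientGroup.eq.mpr hg
    have hcard := Nat.card_le_card_of_surjective _ hsurj
    have hb2 : Nat.card Bool = 2 := by
      rw [Nat.card_eq_fintype_card, Fintype.card_bool]
    rw [hb2] at hcard
    exact hcard

end Main

/-- Let D be a conjugacy class of 3-transpositions generating the finite group G, with at least two members, such that the largest normal 2-subgroup and the largest normal 3-subgroup of G are central, and let L be a quasisimple normal subgroup with generalized Fitting subgroup of G equal to L times the centre. If L has index at most 2 then G acts primitively on D by conjugation; and if the commuting graph of D is connected then L has index at most 2. -/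
theorem result {G : Type*} [Group G] [Finite G] {D : Set G} (hD : Cfsg.IsThreeTranspositionClass D) (hD2 : ∃ a ∈ D, ∃ b ∈ D, a ≠ b) (h2 : Cfsg.pCore 2 G ≤ Subgroup.center G) (h3 : Cfsg.pCore 3 G ≤ Subgroup.center G) (L : Subgroup G) [L.Normal] (hL : Cfsg.IsQuasisimple L) (hF : Cfsg.generalizedFittingSubgroup G = L ⊔ Subgroup.center G) : (L.index ≤ 2 → Cfsg.IsPrimitiveUnderConj D) ∧ ((Cfsg.commutingGraph D).Connected → L.index ≤ 2) := by
  exact ⟨fun hidx => prim_of_index hD hD2 h2 h3 L hL hF hidx,
    fun hconn => index_of_connected hD hD2 h2 h3 L hL hconn⟩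

end Cfsg.Agent.S5353
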