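import Cfsg.Statements.S5361
import Cfsg.Agent.S5353
import Cfsg.Agent.S5349
import Cfsg.Agent.S5350

set_option autoImplicit false
open Cfsg

namespace Cfsg.Agent.S5361


open Cfsg.Agent.Lib.Helper16.Width1 Cfsg.Agent.Lib.Helper11 Cfsg.Agent.Lib.Helper28

open scoped commutatorElement

universe u

section Aux

variable {G : Type u} [Group G]

theorem rtg_symm {α : Type*} {r : α → α → Prop} (hs : ∀ x y, r x y → r y x) {x y : α}
    (h : Relation.ReflTransGen r x y) : Relation.ReflTransGen r y x := by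
  induction h with
  | refl => exact Relation.ReflTransGen.refl
  | tail _ hbc ih => exact Relation.ReflTransGen.head (hs _ _ hbc) ih

theorem rtg_map {α : Type*} {r : α → α → Prop} (f : α → α)
    (hf : ∀ x y, r x y → r (f x) (f y)) {x y : α}
    (h : Relation.ReflTransGen r x y) : Relation.ReflTransGen r (f x) (f y) := by
  induction h with
  | refl => exact Relation.ReflTransGen.refl
  | tail _ hbc ih => exact Relation.ReflTransGen.tail ih (hf _ _ hbc)

/-- classes of a conjugation-invariant equivalence relation are blocks -/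
theorem block_of_rel {D : Set G} (hconj : ∀ g : G, ∀ x ∈ D, g * x * g⁻¹ ∈ D) (R : G → G → Prop)
    (hsymm : ∀ x y, R x y → R y x) (htrans : ∀ x y z, R x y → R y z → R x z)
    (hRconj : ∀ g x y, R x y → R (g * x * g⁻¹) (g * y * g⁻¹)) (d : G) (g : G) :
    (fun x => g * x * g⁻¹) '' {x | x ∈ D ∧ R d x} = {x | x ∈ D ∧ R d x} ∨
      Disjoint ((fun x => g * x * g⁻¹) '' {x | x ∈ D ∧ R d x}) {x | x ∈ D ∧ R d x} := by
  by_cases h : Disjoint ((fun x => g * x * g⁻¹) '' {x | x ∈ D ∧ R d x}) {x | x ∈ D ∧ R d x}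
  · right; exact h
  · left
    rw [Set.not_disjoint_iff] at h
    obtain ⟨y, ⟨x, ⟨hxD, hdx⟩, rfl⟩, ⟨hyD, hdy⟩⟩ := h
    ext u
    constructor
    · rintro ⟨x', ⟨hx'D, hdx'⟩, rfl⟩
      refine ⟨hconj g x' hx'D, ?_⟩
      have h1 : R x x' := htrans _ _ _ (hsymm _ _ hdx) hdx'
      exact htrans _ _ _ hdy (hRconj g x x' h1)
    · rintro ⟨huD, hdu⟩
      refine ⟨g⁻¹ * u * g, ⟨?_, ?_⟩, ?_⟩
      · have h5 := hconj g⁻¹ u huD
        rwa [inv_inv] at h5
      · have h1 : R (g * x * g⁻¹) u := htrans _ _ _ (hsymm _ _ hdy) hdu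
        have h2 := hRconj g⁻¹ _ _ h1
        have e : g⁻¹ * (g * x * g⁻¹) * g⁻¹⁻¹ = x := by group
        rw [e, inv_inv] at h2
        exact htrans _ _ _ hdx h2
      · show g * (g⁻¹ * u * g) * g⁻¹ = u
        group

/-- primitivity forces `O_2(G)` to be central -/
theorem prim_core_two [Finite G] {D : Set G} (hD : Cfsg.IsThreeTranspositionClass D)
    (hprim : Cfsg.IsPrimitiveUnderConj D) : Cfsg.pCore 2 G ≤ Subgroup.center G := by
  have hD' := hD
  obtain ⟨hTS, ⟨d0, hd0, hDconj⟩, hgen⟩ := hD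
  have hmem : ∀ x : G, x ∈ D ↔ IsConj d0 x := by
    intro x; rw [hDconj]; rfl
  have hconj : ∀ g : G, ∀ x ∈ D, g * x * g⁻¹ ∈ D := by
    intro g x hx
    rw [hmem] at hx ⊢
    exact hx.trans (isConj_iff.mpr ⟨g, rfl⟩)
  have hcls : ∀ a ∈ D, ∀ b ∈ D, ∃ g : G, b = g * a * g⁻¹ := by
    intro a ha b hb
    have h1 : IsConj a b := ((hmem a).mp ha).symm.trans ((hmem b).mp hb)
    obtain ⟨g, hg⟩ := isConj_iff.mp h1
    exact ⟨g, hg.symm⟩
  obtain ⟨-, hD2, hblk⟩ := hprim
  have hB : ∀ d ∈ D, ({v : G | v ∈ D ∧ ∀ e ∈ D, Commute v e ↔ Commute d e}).Subsingleton := by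
    intro d hd
    have hb := hblk {v : G | v ∈ D ∧ ∀ e ∈ D, Commute v e ↔ Commute d e} (fun v hv => hv.1)
      (fun g => block_of_rel hconj (fun x y => ∀ e ∈ D, Commute y e ↔ Commute x e)
        (fun x y h e he => (h e he).symm)
        (fun x y z h1 h2 e he => (h2 e he).trans (h1 e he))
        (fun g x y h e he => by
          rw [commute_conj_iff, commute_conj_iff]
          apply h
          have h5 := hconj g⁻¹ e he
          rwa [inv_inv] at h5) d g)
    rcases hb with h | h
    · exact h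
    · exfalso
      have hdc : d ∈ Subgroup.center G := by
        apply Cfsg.Agent.S5351.mem_center_of_comm D hgen
        intro a ha
        have ha' : a ∈ {v : G | v ∈ D ∧ ∀ e ∈ D, Commute v e ↔ Commute d e} := by
          rw [h]; exact ha
        have h5 : Commute d a := (ha'.2 a ha).mp (Commute.refl a)
        exact h5.symm.eq
      obtain ⟨a, ha, b, hb, hab⟩ := hD2
      have hall : ∀ x ∈ D, x = d := by
        intro x hx
        obtain ⟨g, rfl⟩ := hcls d hd x hx
        have h5 := Subgroup.mem_center_iff.mp hdc g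
        rw [h5]; group
      exact hab ((hall a ha).trans (hall b hb).symm)
  intro q hq
  apply Cfsg.Agent.S5351.mem_center_of_comm D hgen
  intro d hd
  obtain ⟨-, e2⟩ := Cfsg.Agent.S5349.result hD' hD2 hd
  have h1 : q * d * q⁻¹ ∈ {v : G | ∃ g ∈ Cfsg.pCore 2 G, v = g * d * g⁻¹} := ⟨q, hq, rfl⟩
  rw [← e2] at h1
  have h2 : d ∈ {v : G | v ∈ D ∧ ∀ e ∈ D, Commute v e ↔ Commute d e} :=
    ⟨hd, fun e _ => Iff.rfl⟩
  have h3 := hB d hd h1 h2
  calc d * q = (q * d * q⁻¹) * q := by rw [h3]
    _ = q * d := by group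

/-- primitivity with a commuting pair forces `O_3(G)` to be central -/
theorem prim_core_three [Finite G] {D : Set G} (hD : Cfsg.IsThreeTranspositionClass D)
    (hprim : Cfsg.IsPrimitiveUnderConj D)
    (hw : ∃ a ∈ D, ∃ b ∈ D, a ≠ b ∧ Commute a b) :
    Cfsg.pCore 3 G ≤ Subgroup.center G := by
  have hD' := hD
  obtain ⟨hTS, ⟨d0, hd0, hDconj⟩, hgen⟩ := hD
  have hmem : ∀ x : G, x ∈ D ↔ IsConj d0 x := by
    intro x; rw [hDconj]; rfl
  have hconj : ∀ g : G, ∀ x ∈ D, g * x * g⁻¹ ∈ D := by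
    intro g x hx
    rw [hmem] at hx ⊢
    exact hx.trans (isConj_iff.mpr ⟨g, rfl⟩)
  have hcls : ∀ a ∈ D, ∀ b ∈ D, ∃ g : G, b = g * a * g⁻¹ := by
    intro a ha b hb
    have h1 : IsConj a b := ((hmem a).mp ha).symm.trans ((hmem b).mp hb)
    obtain ⟨g, hg⟩ := isConj_iff.mp h1
    exact ⟨g, hg.symm⟩
  obtain ⟨-, hD2, hblk⟩ := hprim
  have hshift : ∀ (g x u : G), u ∈ {y : G | y ∈ D ∧ y ≠ g * x * g⁻¹ ∧ Commute (g * x * g⁻¹) y} ↔
      g⁻¹ * u * g ∈ {y : G | y ∈ D ∧ y ≠ x ∧ Commute x y} := by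
    intro g x u
    constructor
    · rintro ⟨huD, hne, hc⟩
      refine ⟨?_, ?_, ?_⟩
      · have h5 := hconj g⁻¹ u huD
        rwa [inv_inv] at h5
      · intro h
        apply hne
        rw [← h]; group
      · exact (commute_conj_iff g x u).mp hc
    · rintro ⟨huD, hne, hc⟩
      refine ⟨?_, ?_, ?_⟩
      · have h5 := hconj g _ huD
        have e : g * (g⁻¹ * u * g) * g⁻¹ = u := by group
        rwa [e] at h5
      · intro h
        apply hne
        rw [h]; group
      · exact (commute_conj_iff g x u).mpr hc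
  have hB : ∀ d ∈ D, ({w : G | w ∈ D ∧ {y : G | y ∈ D ∧ y ≠ d ∧ Commute d y} =
      {y : G | y ∈ D ∧ y ≠ w ∧ Commute w y}}).Subsingleton := by
    intro d hd
    have hb := hblk {w : G | w ∈ D ∧ {y : G | y ∈ D ∧ y ≠ d ∧ Commute d y} =
        {y : G | y ∈ D ∧ y ≠ w ∧ Commute w y}} (fun v hv => hv.1)
      (fun g => block_of_rel hconj (fun x y => {u : G | u ∈ D ∧ u ≠ x ∧ Commute x u} =
          {u : G | u ∈ D ∧ u ≠ y ∧ Commute y u})
        (fun x y h => h.symm)
        (fun x y z h1 h2 => h1.trans h2)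
        (fun g x y h => by
          ext u
          rw [hshift g x u, hshift g y u, h]) d g)
    rcases hb with h | h
    · exact h
    · exfalso
      obtain ⟨a, ha, b, hb, hab, hcab⟩ := hw
      obtain ⟨g, hg⟩ := hcls a ha d hd
      have heD : g * b * g⁻¹ ∈ D := hconj g b hb
      have hne : g * b * g⁻¹ ≠ d := by
        intro h5
        apply hab
        rw [hg] at h5
        have h6 : g⁻¹ * (g * b * g⁻¹) * g = g⁻¹ * (g * a * g⁻¹) * g := by rw [h5]
        have e1 : g⁻¹ * (g * b * g⁻¹) * g = b := by group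
        have e2 : g⁻¹ * (g * a * g⁻¹) * g = a := by group
        rw [e1, e2] at h6
        exact h6.symm
      have hc : Commute d (g * b * g⁻¹) := by
        rw [hg]; exact commute_conj g hcab
      have he' : g * b * g⁻¹ ∈ {w : G | w ∈ D ∧ {y : G | y ∈ D ∧ y ≠ d ∧ Commute d y} =
          {y : G | y ∈ D ∧ y ≠ w ∧ Commute w y}} := by
        rw [h]; exact heD
      have h5 : g * b * g⁻¹ ∈ {y : G | y ∈ D ∧ y ≠ d ∧ Commute d y} := ⟨heD, hne, hc⟩
      rw [he'.2] at h5
      exact h5.2.1 rfl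
  intro q hq
  apply Cfsg.Agent.S5351.mem_center_of_comm D hgen
  intro d hd
  obtain ⟨-, e2⟩ := Cfsg.Agent.S5350.result hD' hD2 hd
  have h1 : q * d * q⁻¹ ∈ {w : G | ∃ g ∈ Cfsg.pCore 3 G, w = g * d * g⁻¹} := ⟨q, hq, rfl⟩
  rw [← e2] at h1
  have h2 : d ∈ {w : G | w ∈ D ∧ {y : G | y ∈ D ∧ y ≠ d ∧ Commute d y} =
      {y : G | y ∈ D ∧ y ≠ w ∧ Commute w y}} := ⟨hd, rfl⟩
  have h3 := hB d hd h1 h2
  calc d * q = (q * d * q⁻¹) * q := by rw [h3]
    _ = q * d := by group

/-- primitivity with a commuting pair forces the commuting graph to be connected -/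
theorem prim_connected {D : Set G} (hD : Cfsg.IsThreeTranspositionClass D)
    (hprim : Cfsg.IsPrimitiveUnderConj D)
    (hw : ∃ a ∈ D, ∃ b ∈ D, a ≠ b ∧ Commute a b) :
    (Cfsg.commutingGraph D).Connected := by
  obtain ⟨hTS, ⟨d0, hd0, hDconj⟩, hgen⟩ := hD
  have hmem : ∀ x : G, x ∈ D ↔ IsConj d0 x := by
    intro x; rw [hDconj]; rfl
  have hconj : ∀ g : G, ∀ x ∈ D, g * x * g⁻¹ ∈ D := by
    intro g x hx
    rw [hmem] at hx ⊢
    exact hx.trans (isConj_iff.mpr ⟨g, rfl⟩)
  obtain ⟨-, hD2, hblk⟩ := hprim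
  obtain ⟨a, ha, b, hb, hab, hcab⟩ := hw
  have hb1 := hblk {x : G | x ∈ D ∧
      Relation.ReflTransGen (fun u v : G => u ∈ D ∧ v ∈ D ∧ Commute u v) a x} (fun v hv => hv.1)
    (fun g => block_of_rel hconj
      (Relation.ReflTransGen (fun u v : G => u ∈ D ∧ v ∈ D ∧ Commute u v))
      (fun x y h => rtg_symm
        (fun u v huv => ⟨huv.2.1, huv.1, huv.2.2.symm⟩) h)
      (fun x y z h1 h2 => h1.trans h2)
      (fun g x y h => rtg_map (fun x => g * x * g⁻¹)
        (fun u v huv => ⟨hconj g u huv.1, hconj g v huv.2.1, commute_conj g huv.2.2⟩) h) a g)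
  have hBD : {x : G | x ∈ D ∧
      Relation.ReflTransGen (fun u v : G => u ∈ D ∧ v ∈ D ∧ Commute u v) a x} = D := by
    rcases hb1 with h | h
    · exfalso
      apply hab
      exact h ⟨ha, Relation.ReflTransGen.refl⟩
        ⟨hb, Relation.ReflTransGen.single ⟨ha, hb, hcab⟩⟩
    · exact h
  have hreach : ∀ x : G, Relation.ReflTransGen (fun u v : G => u ∈ D ∧ v ∈ D ∧ Commute u v) a x →
      ∀ hx : x ∈ D, (Cfsg.commutingGraph D).Reachable ⟨a, ha⟩ ⟨x, hx⟩ := by
    intro x hx
    induction hx with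
    | refl => intro _; exact SimpleGraph.Reachable.refl _
    | @tail y z _ hbc ih =>
      intro hz
      have h1 := ih hbc.1
      by_cases hyz : y = z
      · subst hyz; exact h1
      · refine h1.trans (SimpleGraph.Adj.reachable ?_)
        rw [Cfsg.commutingGraph, SimpleGraph.fromRel_adj]
        refine ⟨?_, Or.inl hbc.2.2⟩
        intro h
        exact hyz (congrArg Subtype.val h)
  have hall : ∀ x : D, (Cfsg.commutingGraph D).Reachable ⟨a, ha⟩ x := by
    intro x
    have hx : (x : G) ∈ {x : G | x ∈ D ∧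
        Relation.ReflTransGen (fun u v : G => u ∈ D ∧ v ∈ D ∧ Commute u v) a x} := by
      rw [hBD]; exact x.2
    exact hreach x hx.2 x.2
  have : Nonempty D := ⟨⟨a, ha⟩⟩
  exact ⟨fun u v => (hall u).symm.trans (hall v)⟩

end Aux

section Main

variable {G : Type u} [Group G]

/-- a normal subgroup containing all `d0⁻¹ * x`, `x ∈ D`, has index at most two -/
theorem index_le_two [Finite G] {D : Set G} (hgen : Subgroup.closure D = ⊤)
    (L : Subgroup G) [hLN : L.Normal] (d0 : G) (hd0d0 : d0 * d0 = 1)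
    (h : ∀ x ∈ D, d0⁻¹ * x ∈ L) : L.index ≤ 2 := by
  have hd0i : d0⁻¹ = d0 := inv_eq_of_mul_eq_one_right hd0d0
  have hall : ∀ g : G, g ∈ L ∨ d0⁻¹ * g ∈ L := by
    intro g
    have hg : g ∈ Subgroup.closure D := by rw [hgen]; exact Subgroup.mem_top g
    induction hg using Subgroup.closure_induction with
    | mem x hx => right; exact h x hx
    | one => left; exact L.one_mem
    | mul x y _ _ ihx ihy =>
      rcases ihx with hx | hx
      · rcases ihy with hy | hy
        · left; exact L.mul_mem hx hy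
        · right
          have e : d0⁻¹ * (x * y) = (d0⁻¹ * x * d0⁻¹⁻¹) * (d0⁻¹ * y) := by group
          rw [e]; exact L.mul_mem (hLN.conj_mem x hx d0⁻¹) hy
      · rcases ihy with hy | hy
        · right
          have e : d0⁻¹ * (x * y) = (d0⁻¹ * x) * y := by group
          rw [e]; exact L.mul_mem hx hy
        · left
          have e : x * y = (d0 * (d0⁻¹ * x) * d0⁻¹) * (d0⁻¹ * y) := by
            have e2 : (d0 * (d0⁻¹ * x) * d0⁻¹) * (d0⁻¹ * y) = x * (d0⁻¹ * d0⁻¹) * y := by group
            rw [e2, hd0i, hd0d0, mul_one]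
          rw [e]; exact L.mul_mem (hLN.conj_mem _ hx d0) hy
    | inv x _ ihx =>
      rcases ihx with hx | hx
      · left; exact L.inv_mem hx
      · right
        have e : d0⁻¹ * x⁻¹ = d0⁻¹ * (d0⁻¹ * x)⁻¹ * d0⁻¹⁻¹ := by
          have e2 : d0⁻¹ * (d0⁻¹ * x)⁻¹ * d0⁻¹⁻¹ = d0⁻¹ * x⁻¹ * (d0 * d0) := by group
          rw [e2, hd0d0, mul_one]
        rw [e]; exact hLN.conj_mem _ (L.inv_mem hx) d0⁻¹
  have hsurj : Function.Surjective
      (fun t : Bool => if t then (QuotientGroup.mk d0 : G ⧸ L) else 1) := by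
    intro q
    induction q using QuotientGroup.induction_on with
    | H g =>
      rcases hall g with hg | hg
      · refine ⟨false, ?_⟩
        simp only [Bool.false_eq_true, if_false]
        exact ((QuotientGroup.eq_one_iff g).mpr hg).symm
      · refine ⟨true, ?_⟩
        simp only [if_true]
        exact QuotientGroup.eq.mpr hg
  have hcard := Nat.card_le_card_of_surjective _ hsurj
  have hb2 : Nat.card Bool = 2 := by
    rw [Nat.card_eq_fintype_card, Fintype.card_bool]
  rw [hb2] at hcard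
  exact hcard

/-- the commutator subgroup has index at most two -/
theorem comm_index [Finite G] {D : Set G} (hTS : Cfsg.IsThreeTranspositionSet D)
    (hgen : Subgroup.closure D = ⊤)
    (hcls : ∀ a ∈ D, ∀ b ∈ D, ∃ g : G, b = g * a * g⁻¹) (d0 : G) (hd0 : d0 ∈ D) :
    (commutator G).index ≤ 2 := by
  apply index_le_two hgen (commutator G) d0 (tt_mul_self hTS hd0)
  intro x hx
  obtain ⟨g, rfl⟩ := hcls d0 hd0 x hx
  have e : d0⁻¹ * (g * d0 * g⁻¹) = ⁅d0⁻¹, g⁆ := by
    rw [commutatorElement_def]; group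
  rw [e, commutator_def]
  exact Subgroup.commutator_mem_commutator (Subgroup.mem_top _) (Subgroup.mem_top _)

/-- a non-commutative simple group is quasisimple -/
theorem qs_of_simple_noncomm {S : Type*} [Group S] (hs : IsSimpleGroup S)
    (hnc : ¬ ∀ x y : S, x * y = y * x) : Cfsg.IsQuasisimple S := by
  have hZ : Subgroup.center S = ⊥ := by
    rcases (inferInstance : (Subgroup.center S).Normal).eq_bot_or_eq_top with h | h
    · exact h
    · exfalso
      apply hnc
      intro x y
      have hy : y ∈ Subgroup.center S := by rw [h]; exact Subgroup.mem_top y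
      exact Subgroup.mem_center_iff.mp hy x
  constructor
  · rw [Group.isPerfect_def]
    rcases (inferInstance : (commutator S).Normal).eq_bot_or_eq_top with h | h
    · exfalso
      apply hnc
      intro x y
      have h5 : ⁅x, y⁆ ∈ commutator S := by
        rw [commutator_def]
        exact Subgroup.commutator_mem_commutator (Subgroup.mem_top _) (Subgroup.mem_top _)
      rw [h, Subgroup.mem_bot, commutatorElement_eq_one_iff_mul_comm] at h5
      exact h5
    · exact h
  · have hnt : Nontrivial (S ⧸ Subgroup.center S) := by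
      rw [QuotientGroup.nontrivial_iff, hZ]
      exact bot_ne_top
    exact IsSimpleGroup.isSimpleGroup_of_surjective (QuotientGroup.mk' (Subgroup.center S))
      (QuotientGroup.mk'_surjective _)

/-- the cores are central when a normal non-commutative simple subgroup contains the
commutator subgroup -/
theorem core_central_of_simple [Finite G] (C : Subgroup G) [C.Normal]
    (hs : IsSimpleGroup ↥C) (hnc : ¬ ∀ x y : ↥C, x * y = y * x) (hCc : commutator G ≤ C)
    (p : ℕ) [hp : Fact p.Prime] : Cfsg.pCore p G ≤ Subgroup.center G := by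
  have hQN : (Cfsg.pCore p G).Normal := Cfsg.Agent.Lib.Helper1.pCore_normal p
  have hQC : ((Cfsg.pCore p G).subgroupOf C).Normal := inferInstance
  rcases hQC.eq_bot_or_eq_top with h | h
  · intro q hq
    rw [Subgroup.mem_center_iff]
    intro g
    have h1 : ⁅q, g⁆ ∈ Cfsg.pCore p G := by
      rw [commutatorElement_def]
      have e : q * g * q⁻¹ * g⁻¹ = q * (g * q⁻¹ * g⁻¹) := by group
      rw [e]
      exact Subgroup.mul_mem _ hq (hQN.conj_mem _ (Subgroup.inv_mem _ hq) g)
    have h2 : ⁅q, g⁆ ∈ C := by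
      apply hCc
      rw [commutator_def]
      exact Subgroup.commutator_mem_commutator (Subgroup.mem_top _) (Subgroup.mem_top _)
    have h3 : (⟨⁅q, g⁆, h2⟩ : ↥C) ∈ (Cfsg.pCore p G).subgroupOf C := by
      rw [Subgroup.mem_subgroupOf]; exact h1
    rw [h, Subgroup.mem_bot] at h3
    have h4 : ⁅q, g⁆ = 1 := congrArg Subtype.val h3
    rw [commutatorElement_eq_one_iff_mul_comm] at h4
    exact h4.symm
  · exfalso
    rw [Subgroup.subgroupOf_eq_top] at h
    have hpC : IsPGroup p ↥C := (Cfsg.Agent.Lib.Helper1.pCore_isPGroup p).to_le h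
    have hnt : Nontrivial ↥C := inferInstance
    have hcn : Nontrivial (Subgroup.center ↥C) := hpC.center_nontrivial
    rcases (inferInstance : (Subgroup.center ↥C).Normal).eq_bot_or_eq_top with h5 | h5
    · rw [Subgroup.nontrivial_iff_ne_bot] at hcn
      exact hcn h5
    · apply hnc
      intro x y
      have hy : y ∈ Subgroup.center ↥C := by rw [h5]; exact Subgroup.mem_top y
      exact Subgroup.mem_center_iff.mp hy x

/-- a simple commutator subgroup gives primitivity -/
theorem prim_of_simple [Finite G] {D : Set G} (hD : Cfsg.IsThreeTranspositionClass D)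
    (hZ : Subgroup.center G = ⊥) (hw : ∃ a ∈ D, ∃ b ∈ D, a ≠ b ∧ Commute a b)
    (hs : IsSimpleGroup ↥(commutator G)) : Cfsg.IsPrimitiveUnderConj D := by
  classical
  have hD' := hD
  obtain ⟨hTS, ⟨d0, hd0, hDconj⟩, hgen⟩ := hD
  have hmem : ∀ x : G, x ∈ D ↔ IsConj d0 x := by
    intro x; rw [hDconj]; rfl
  have hconj : ∀ g : G, ∀ x ∈ D, g * x * g⁻¹ ∈ D := by
    intro g x hx
    rw [hmem] at hx ⊢
    exact hx.trans (isConj_iff.mpr ⟨g, rfl⟩)
  have hcls : ∀ a ∈ D, ∀ b ∈ D, ∃ g : G, b = g * a * g⁻¹ := by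
    intro a ha b hb
    have h1 : IsConj a b := ((hmem a).mp ha).symm.trans ((hmem b).mp hb)
    obtain ⟨g, hg⟩ := isConj_iff.mp h1
    exact ⟨g, hg.symm⟩
  have hD2 : ∃ a ∈ D, ∃ b ∈ D, a ≠ b := by
    obtain ⟨a, ha, b, hb, hab, -⟩ := hw
    exact ⟨a, ha, b, hb, hab⟩
  have hCN : (commutator G).Normal := inferInstance
  have hnc : ¬ ∀ x y : ↥(commutator G), x * y = y * x := by
    intro hcomm
    obtain ⟨a, ha, b, hb, hab, hcab⟩ := hw
    have haa := tt_mul_self hTS ha
    have hbb := tt_mul_self hTS hb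
    have hai := tt_inv hTS ha
    have hzC : a⁻¹ * b ∈ commutator G := by
      obtain ⟨g, rfl⟩ := hcls a ha b hb
      have e : a⁻¹ * (g * a * g⁻¹) = ⁅a⁻¹, g⁆ := by
        rw [commutatorElement_def]; group
      rw [e, commutator_def]
      exact Subgroup.commutator_mem_commutator (Subgroup.mem_top _) (Subgroup.mem_top _)
    have hz1 : a⁻¹ * b ≠ 1 := by
      intro h
      apply hab
      have h5 : b = a := by
        calc b = a * (a⁻¹ * b) := by group
          _ = a := by rw [h, mul_one]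
      exact h5.symm
    have hz2 : (a⁻¹ * b) * (a⁻¹ * b) = 1 := by
      rw [hai]
      calc a * b * (a * b) = a * (b * a) * b := by group
        _ = a * (a * b) * b := by rw [hcab.eq]
        _ = (a * a) * (b * b) := by group
        _ = 1 := by rw [haa, hbb, one_mul]
    have hzN : (Subgroup.zpowers (⟨a⁻¹ * b, hzC⟩ : ↥(commutator G))).Normal :=
      ⟨fun n hn g => by rw [hcomm g n, mul_inv_cancel_right]; exact hn⟩
    rcases hzN.eq_bot_or_eq_top with h | h
    · rw [Subgroup.zpowers_eq_bot] at h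
      exact hz1 (congrArg Subtype.val h)
    · have hall : ∀ x : ↥(commutator G), (x : G) = 1 ∨ (x : G) = a⁻¹ * b := by
        intro x
        have hx : x ∈ Subgroup.zpowers (⟨a⁻¹ * b, hzC⟩ : ↥(commutator G)) := by
          rw [h]; exact Subgroup.mem_top x
        obtain ⟨k, rfl⟩ := Subgroup.mem_zpowers_iff.mp hx
        have hcoe : (((⟨a⁻¹ * b, hzC⟩ : ↥(commutator G)) ^ k : ↥(commutator G)) : G)
            = (a⁻¹ * b) ^ k := by
          rw [Subgroup.coe_zpow]
        rw [hcoe]
        rcases Int.even_or_odd k with ⟨j, hj⟩ | ⟨j, hj⟩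
        · left
          rw [hj, ← two_mul, zpow_mul, zpow_two, hz2, one_zpow]
        · right
          rw [hj, zpow_add, zpow_mul, zpow_two, hz2, one_zpow, one_mul, zpow_one]
      have hzc : a⁻¹ * b ∈ Subgroup.center G := by
        rw [Subgroup.mem_center_iff]
        intro g
        have hg : g * (a⁻¹ * b) * g⁻¹ ∈ commutator G := hCN.conj_mem _ hzC g
        rcases hall ⟨_, hg⟩ with h1 | h1
        · exfalso
          apply hz1
          have h1' : g * (a⁻¹ * b) * g⁻¹ = 1 := h1
          calc a⁻¹ * b = g⁻¹ * (g * (a⁻¹ * b) * g⁻¹) * g := by group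
            _ = 1 := by rw [h1']; group
        · have h1' : g * (a⁻¹ * b) * g⁻¹ = a⁻¹ * b := h1
          calc g * (a⁻¹ * b) = (g * (a⁻¹ * b) * g⁻¹) * g := by group
            _ = a⁻¹ * b * g := by rw [h1']
      rw [hZ, Subgroup.mem_bot] at hzc
      exact hz1 hzc
  have hf2 : Fact (Nat.Prime 2) := ⟨Nat.prime_two⟩
  have hf3 : Fact (Nat.Prime 3) := ⟨Nat.prime_three⟩
  have h2 : Cfsg.pCore 2 G ≤ Subgroup.center G :=
    core_central_of_simple (commutator G) hs hnc le_rfl 2
  have h3 : Cfsg.pCore 3 G ≤ Subgroup.center G :=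
    core_central_of_simple (commutator G) hs hnc le_rfl 3
  have hCqs : Cfsg.IsQuasisimple ↥(commutator G) := qs_of_simple_noncomm hs hnc
  obtain ⟨L', hL'N, hL'qs, hF', -⟩ := Cfsg.Agent.S5352.result hD' hD2 h2 h3
  have hLL' : L' = commutator G :=
    Cfsg.Agent.S5352.component_unique D hTS hconj hgen hcls d0 hd0 (commutator G) L'
      ⟨hCN.isSubnormal, hCqs⟩ ⟨hL'N.isSubnormal, hL'qs⟩
  rw [hLL'] at hF'
  have hidx := comm_index hTS hgen hcls d0 hd0
  exact Cfsg.Agent.S5353.prim_of_index hD' hD2 h2 h3 (commutator G) hCqs hF' hidx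

/-- primitivity gives a simple commutator subgroup -/
theorem simple_of_prim [Finite G] {D : Set G} (hD : Cfsg.IsThreeTranspositionClass D)
    (hZ : Subgroup.center G = ⊥) (hw : ∃ a ∈ D, ∃ b ∈ D, a ≠ b ∧ Commute a b)
    (hprim : Cfsg.IsPrimitiveUnderConj D) : IsSimpleGroup ↥(commutator G) := by
  classical
  have hD' := hD
  obtain ⟨hTS, ⟨d0, hd0, hDconj⟩, hgen⟩ := hD
  have hD2 : ∃ a ∈ D, ∃ b ∈ D, a ≠ b := by
    obtain ⟨a, ha, b, hb, hab, -⟩ := hw
    exact ⟨a, ha, b, hb, hab⟩
  have h2 := prim_core_two hD' hprim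
  have h3 := prim_core_three hD' hprim hw
  have hconn := prim_connected hD' hprim hw
  obtain ⟨L, hLN, hLqs, hF, -⟩ := Cfsg.Agent.S5352.result hD' hD2 h2 h3
  have hidx := Cfsg.Agent.S5353.index_of_connected hD' hD2 h2 h3 L hLqs hconn
  have hFit := Cfsg.Agent.S5353.fitting_eq_center hD' hD2 h2 h3
  have hcent := Cfsg.Agent.S5353.centralizer_le_center L hF hFit
  have hZL : Subgroup.center ↥L = ⊥ := by
    rw [eq_bot_iff]
    intro x hx
    have h5 : (x : G) ∈ Subgroup.centralizer (L : Set G) := by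
      rw [Subgroup.mem_centralizer_iff]
      intro y hy
      have h6 := Subgroup.mem_center_iff.mp hx ⟨y, hy⟩
      exact congrArg Subtype.val h6
    have h7 := hcent h5
    rw [hZ, Subgroup.mem_bot] at h7
    rw [Subgroup.mem_bot]
    exact Subtype.ext h7
  have hLs : IsSimpleGroup ↥L := by
    have hnt : Nontrivial ↥L := qs_nontrivial hLqs
    have hqs : IsSimpleGroup (↥L ⧸ Subgroup.center ↥L) := hLqs.2
    exact IsSimpleGroup.isSimpleGroup_of_surjective
      (QuotientGroup.lift (Subgroup.center ↥L) (MonoidHom.id ↥L)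
        (by rw [hZL]; exact bot_le))
      (fun y => ⟨QuotientGroup.mk y, by simp⟩)
  have hperf : ⁅L, L⁆ = L := component_perfect ⟨hLN.isSubnormal, hLqs⟩
  have hCL : L = commutator G := by
    apply le_antisymm
    · rw [commutator_def, ← hperf]
      exact Subgroup.commutator_mono le_top le_top
    · rw [commutator_def, Subgroup.commutator_le]
      intro g₁ _ g₂ _
      by_cases hLt : L = ⊤
      · rw [hLt]; exact Subgroup.mem_top _
      · have hi2 : L.index = 2 := by
          have h0 : L.index ≠ 0 := Subgroup.index_ne_zero_of_finite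
          have h1 : L.index ≠ 1 := by
            intro h
            rw [Subgroup.index_eq_one] at h
            exact hLt h
          omega
        rw [commutatorElement_def]
        have e : g₁ * g₂ * g₁⁻¹ * g₂⁻¹ = (g₁ * g₂) * (g₂ * g₁)⁻¹ := by group
        rw [e, Subgroup.mul_mem_iff_of_index_two hi2, Subgroup.inv_mem_iff,
          Subgroup.mul_mem_iff_of_index_two hi2, Subgroup.mul_mem_iff_of_index_two hi2]
        tauto
  subst hCL
  exact hLs

end Main

/-- Let D be a conjugacy class of 3-transpositions generating the finite group G, and suppose the centre of G is trivial and some two different members of D commute. Then the following are equivalent: (1) the commutator subgroup of G is simple (possibly of prime order); (2) G acts primitively on D by conjugation; (3) the largest normal 2-subgroup and the largest normal 3-subgroup of G are trivial and the commuting graph of D is connected. -/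
theorem result {G : Type*} [Group G] [Finite G] {D : Set G} (hD : Cfsg.IsThreeTranspositionClass D) (hZ : Subgroup.center G = ⊥) (hw : ∃ a ∈ D, ∃ b ∈ D, a ≠ b ∧ Commute a b) : (IsSimpleGroup (commutator G) ↔ Cfsg.IsPrimitiveUnderConj D) ∧ (Cfsg.IsPrimitiveUnderConj D ↔ (Cfsg.pCore 2 G = ⊥ ∧ Cfsg.pCore 3 G = ⊥ ∧ (Cfsg.commutingGraph D).Connected)) := by
  classical
  have hD2 : ∃ a ∈ D, ∃ b ∈ D, a ≠ b := by
    obtain ⟨a, ha, b, hb, hab, -⟩ := hw
    exact ⟨a, ha, b, hb, hab⟩
  refine ⟨⟨fun hs => prim_of_simple hD hZ hw hs, fun hp => simple_of_prim hD hZ hw hp⟩,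
    ⟨fun hp => ?_, fun h => ?_⟩⟩
  · have h2 := prim_core_two hD hp
    have h3 := prim_core_three hD hp hw
    rw [hZ] at h2 h3
    exact ⟨le_bot_iff.mp h2, le_bot_iff.mp h3, prim_connected hD hp hw⟩
  · obtain ⟨h2, h3, hconn⟩ := h
    have h2' : Cfsg.pCore 2 G ≤ Subgroup.center G := by rw [h2]; exact bot_le
    have h3' : Cfsg.pCore 3 G ≤ Subgroup.center G := by rw [h3]; exact bot_le
    obtain ⟨L, hLN, hLqs, hF, -⟩ := Cfsg.Agent.S5352.result hD hD2 h2' h3'
    have hidx := Cfsg.Agent.S5353.index_of_connected hD hD2 h2' h3' L hLqs hconn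
    exact Cfsg.Agent.S5353.prim_of_index hD hD2 h2' h3' L hLqs hF hidx

end Cfsg.Agent.S5361
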