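import Cfsg.Statements.S5354
import Cfsg.Agent.S5361

set_option autoImplicit false
open Cfsg

namespace Cfsg.Agent.S5354


open Cfsg.Agent.Lib.Helper16.Width1 Cfsg.Agent.Lib.Helper11 Cfsg.Agent.Lib.Helper28

open scoped commutatorElement

universe u

section Aux

variable {G : Type u} [Group G]

/-- a module (homogeneous set) of the commuting graph on `D` -/
def IsMod (D S : Set G) : Prop :=
  ∀ y ∈ D, y ∉ S → (∀ x ∈ S, Commute y x) ∨ (∀ x ∈ S, ¬ Commute y x)

theorem isMod_conj {D : Set G} (hconj : ∀ g : G, ∀ x ∈ D, g * x * g⁻¹ ∈ D) {S : Set G}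
    (hS : IsMod D S) (g : G) : IsMod D ((fun x => g * x * g⁻¹) '' S) := by
  intro y hy hyS
  have hy' : g⁻¹ * y * g ∈ D := by
    have h5 := hconj g⁻¹ y hy
    rwa [inv_inv] at h5
  have hyS' : g⁻¹ * y * g ∉ S := by
    intro h
    apply hyS
    refine ⟨_, h, ?_⟩
    show g * (g⁻¹ * y * g) * g⁻¹ = y
    group
  rcases hS _ hy' hyS' with h | h
  · left
    rintro _ ⟨x, hx, rfl⟩
    have h5 : Commute x (g⁻¹ * y * g) := (h x hx).symm
    exact ((commute_conj_iff g x y).mpr h5).symm
  · right
    rintro _ ⟨x, hx, rfl⟩ hc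
    have h5 : Commute (g * x * g⁻¹) y := hc.symm
    exact h x hx ((commute_conj_iff g x y).mp h5).symm

theorem isMod_inter {D A B : Set G} (hA : IsMod D A) (hB : IsMod D B) : IsMod D (A ∩ B) := by
  intro y hy hyAB
  by_cases hyA : y ∈ A
  · have hyB : y ∉ B := fun h => hyAB ⟨hyA, h⟩
    rcases hB y hy hyB with h | h
    · left; exact fun x hx => h x hx.2
    · right; exact fun x hx => h x hx.2
  · rcases hA y hy hyA with h | h
    · left; exact fun x hx => h x hx.1
    · right; exact fun x hx => h x hx.1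

theorem isMod_diff {D A B : Set G} (hAD : A ⊆ D) (hBD : B ⊆ D) (hA : IsMod D A)
    (hB : IsMod D B) (w : G) (hwB : w ∈ B) (hwA : w ∉ A) : IsMod D (A \ B) := by
  intro y hy hyAB
  by_cases hyA : y ∈ A
  · have hyB : y ∈ B := by
      by_contra h
      exact hyAB ⟨hyA, h⟩
    have key : ∀ x ∈ A \ B, (Commute y x ↔ Commute w y) := by
      intro x hx
      have hxu := hB x (hAD hx.1) hx.2
      have hwu := hA w (hBD hwB) hwA
      constructor
      · intro hc
        rcases hxu with h | h
        · have h1 : Commute x w := h w hwB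
          rcases hwu with h' | h'
          · exact h' y hyA
          · exact absurd h1.symm (h' x hx.1)
        · exact absurd hc.symm (h y hyB)
      · intro hc
        rcases hwu with h' | h'
        · have h1 : Commute w x := h' x hx.1
          rcases hxu with h | h
          · exact (h y hyB).symm
          · exact absurd h1.symm (h w hwB)
        · exact absurd hc (h' y hyA)
    by_cases hc : Commute w y
    · left; exact fun x hx => (key x hx).mpr hc
    · right; exact fun x hx h => hc ((key x hx).mp h)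
  · rcases hA y hy hyA with h | h
    · left; exact fun x hx => h x hx.1
    · right; exact fun x hx => h x hx.1

/-- under primitivity, members with the same commuting sets coincide -/
theorem prim_V {D : Set G} (hconj : ∀ g : G, ∀ x ∈ D, g * x * g⁻¹ ∈ D)
    (hgen : Subgroup.closure D = ⊤)
    (hcls : ∀ a ∈ D, ∀ b ∈ D, ∃ g : G, b = g * a * g⁻¹)
    (hprim : Cfsg.IsPrimitiveUnderConj D) :
    ∀ d ∈ D, ({v : G | v ∈ D ∧ ∀ e ∈ D, Commute v e ↔ Commute d e}).Subsingleton := by
  obtain ⟨-, hD2, hblk⟩ := hprim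
  intro d hd
  have hb := hblk {v : G | v ∈ D ∧ ∀ e ∈ D, Commute v e ↔ Commute d e} (fun v hv => hv.1)
    (fun g => Cfsg.Agent.S5361.block_of_rel hconj
      (fun x y => ∀ e ∈ D, Commute y e ↔ Commute x e)
      (fun x y h e he => (h e he).symm)
      (fun x y z h1 h2 e he => (h2 e he).trans (h1 e he))
      (fun g x y h e he => by
        rw [commute_conj_iff, commute_conj_iff]
        apply h
        have h5 := hconj g⁻¹ e he
        rwa [inv_inv] at h5) d g)
  rcases hb with h | h
  · exact h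
  · exfalso
    have hdc : d ∈ Subgroup.center G := by
      apply Cfsg.Agent.S5351.mem_center_of_comm D hgen
      intro a ha
      have ha' : a ∈ {v : G | v ∈ D ∧ ∀ e ∈ D, Commute v e ↔ Commute d e} := by
        rw [h]; exact ha
      have h5 : Commute d a := (ha'.2 a ha).mp (Commute.refl a)
      exact h5.symm.eq
    obtain ⟨a, ha, b, hb, hab⟩ := hD2
    have hall : ∀ x ∈ D, x = d := by
      intro x hx
      obtain ⟨g, rfl⟩ := hcls d hd x hx
      have h5 := Subgroup.mem_center_iff.mp hdc g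
      rw [h5]; group
    exact hab ((hall a ha).trans (hall b hb).symm)

/-- under primitivity with a commuting pair, members with the same proper commuting sets
coincide -/
theorem prim_W {D : Set G} (hconj : ∀ g : G, ∀ x ∈ D, g * x * g⁻¹ ∈ D)
    (hcls : ∀ a ∈ D, ∀ b ∈ D, ∃ g : G, b = g * a * g⁻¹)
    (hprim : Cfsg.IsPrimitiveUnderConj D)
    (hw : ∃ a ∈ D, ∃ b ∈ D, a ≠ b ∧ Commute a b) :
    ∀ d ∈ D, ({w : G | w ∈ D ∧ {y : G | y ∈ D ∧ y ≠ d ∧ Commute d y} =
      {y : G | y ∈ D ∧ y ≠ w ∧ Commute w y}}).Subsingleton := by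
  obtain ⟨-, hD2, hblk⟩ := hprim
  have hshift : ∀ (g x u : G), u ∈ {y : G | y ∈ D ∧ y ≠ g * x * g⁻¹ ∧ Commute (g * x * g⁻¹) y} ↔
      g⁻¹ * u * g ∈ {y : G | y ∈ D ∧ y ≠ x ∧ Commute x y} := by
    intro g x u
    constructor
    · rintro ⟨huD, hne, hc⟩
      refine ⟨?_, ?_, ?_⟩
      · have h5 := hconj g⁻¹ u huD
        rwa [inv_inv] at h5
      · intro h
        apply hne
        rw [← h]; group
      · exact (commute_conj_iff g x u).mp hc
    · rintro ⟨huD, hne, hc⟩
      refine ⟨?_, ?_, ?_⟩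
      · have h5 := hconj g _ huD
        have e : g * (g⁻¹ * u * g) * g⁻¹ = u := by group
        rwa [e] at h5
      · intro h
        apply hne
        rw [h]; group
      · exact (commute_conj_iff g x u).mpr hc
  intro d hd
  have hb := hblk {w : G | w ∈ D ∧ {y : G | y ∈ D ∧ y ≠ d ∧ Commute d y} =
      {y : G | y ∈ D ∧ y ≠ w ∧ Commute w y}} (fun v hv => hv.1)
    (fun g => Cfsg.Agent.S5361.block_of_rel hconj
      (fun x y => {u : G | u ∈ D ∧ u ≠ x ∧ Commute x u} =
        {u : G | u ∈ D ∧ u ≠ y ∧ Commute y u})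
      (fun x y h => h.symm)
      (fun x y z h1 h2 => h1.trans h2)
      (fun g x y h => by
        ext u
        rw [hshift g x u, hshift g y u, h]) d g)
  rcases hb with h | h
  · exact h
  · exfalso
    obtain ⟨a, ha, b, hb, hab, hcab⟩ := hw
    obtain ⟨g, hg⟩ := hcls a ha d hd
    have heD : g * b * g⁻¹ ∈ D := hconj g b hb
    have hne : g * b * g⁻¹ ≠ d := by
      intro h5
      apply hab
      rw [hg] at h5
      have h6 : g⁻¹ * (g * b * g⁻¹) * g = g⁻¹ * (g * a * g⁻¹) * g := by rw [h5]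
      have e1 : g⁻¹ * (g * b * g⁻¹) * g = b := by group
      have e2 : g⁻¹ * (g * a * g⁻¹) * g = a := by group
      rw [e1, e2] at h6
      exact h6.symm
    have hc : Commute d (g * b * g⁻¹) := by
      rw [hg]; exact commute_conj g hcab
    have he' : g * b * g⁻¹ ∈ {w : G | w ∈ D ∧ {y : G | y ∈ D ∧ y ≠ d ∧ Commute d y} =
        {y : G | y ∈ D ∧ y ≠ w ∧ Commute w y}} := by
      rw [h]; exact heD
    have h5 : g * b * g⁻¹ ∈ {y : G | y ∈ D ∧ y ≠ d ∧ Commute d y} := ⟨heD, hne, hc⟩
    rw [he'.2] at h5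
    exact h5.2.1 rfl

/-- under primitivity the commuting graph has no proper module with at least two members -/
theorem mod_eq_top [Finite G] {D : Set G} (hconj : ∀ g : G, ∀ x ∈ D, g * x * g⁻¹ ∈ D)
    (hprimB : ∀ B : Set G, B ⊆ D → (∀ g : G, (fun x => g * x * g⁻¹) '' B = B ∨
      Disjoint ((fun x => g * x * g⁻¹) '' B) B) → B.Subsingleton ∨ B = D)
    (hV : ∀ d ∈ D, ({v : G | v ∈ D ∧ ∀ e ∈ D, Commute v e ↔ Commute d e}).Subsingleton)
    (hW : ∀ d ∈ D, ({w : G | w ∈ D ∧ {y : G | y ∈ D ∧ y ≠ d ∧ Commute d y} =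
      {y : G | y ∈ D ∧ y ≠ w ∧ Commute w y}}).Subsingleton) :
    ∀ n : ℕ, ∀ S : Set G, S ⊆ D → IsMod D S → S.ncard = n → 2 ≤ n → S = D := by
  intro n
  induction n using Nat.strong_induction_on with
  | _ n ih =>
    intro S hSD hS hn h2
    by_contra hne
    have hnsub : ¬ S.Subsingleton := by
      intro h
      have h5 := (Set.ncard_le_one (Set.toFinite S)).mpr (fun a ha b hb => h ha hb)
      omega
    have hnb : ¬ ∀ g : G, (fun x => g * x * g⁻¹) '' S = S ∨
        Disjoint ((fun x => g * x * g⁻¹) '' S) S := by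
      intro h
      rcases hprimB S hSD h with h' | h'
      · exact hnsub h'
      · exact hne h'
    push Not at hnb
    obtain ⟨g, hgne, hgnd⟩ := hnb
    have hBmod : IsMod D ((fun x => g * x * g⁻¹) '' S) := isMod_conj hconj hS g
    have hBcard : ((fun x => g * x * g⁻¹) '' S).ncard = S.ncard := by
      apply Set.ncard_image_of_injective
      intro x y hxy
      have h5 : g * x * g⁻¹ = g * y * g⁻¹ := hxy
      calc x = g⁻¹ * (g * x * g⁻¹) * g := by group
        _ = g⁻¹ * (g * y * g⁻¹) * g := by rw [h5]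
        _ = y := by group
    obtain ⟨B, hBdef⟩ : ∃ B : Set G, B = (fun x => g * x * g⁻¹) '' S := ⟨_, rfl⟩
    rw [← hBdef] at hgne hgnd hBmod hBcard
    have hBD : B ⊆ D := by
      rw [hBdef]
      rintro _ ⟨x, hx, rfl⟩
      exact hconj g x (hSD hx)
    rw [Set.not_disjoint_iff] at hgnd
    obtain ⟨x0, hx0B, hx0S⟩ := hgnd
    have hSB : ∃ x1, x1 ∈ S ∧ x1 ∉ B := by
      by_contra h
      push Not at h
      have h5 : S = B := Set.eq_of_subset_of_ncard_le h (by rw [hBcard]) (Set.toFinite B)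
      exact hgne h5.symm
    have hBS : ∃ w, w ∈ B ∧ w ∉ S := by
      by_contra h
      push Not at h
      have h5 : B = S := Set.eq_of_subset_of_ncard_le h (by rw [hBcard]) (Set.toFinite S)
      exact hgne h5
    obtain ⟨x1, hx1S, hx1B⟩ := hSB
    obtain ⟨w, hwB, hwS⟩ := hBS
    have hImod : IsMod D (S ∩ B) := isMod_inter hS hBmod
    have hJmod : IsMod D (S \ B) := isMod_diff hSD hBD hS hBmod w hwB hwS
    have hIlt : (S ∩ B).ncard < n := by
      rw [← hn]
      apply Set.ncard_lt_ncard _ (Set.toFinite S)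
      exact ⟨Set.inter_subset_left, fun h => hx1B (h hx1S).2⟩
    have hJlt : (S \ B).ncard < n := by
      rw [← hn]
      apply Set.ncard_lt_ncard _ (Set.toFinite S)
      exact ⟨Set.sdiff_subset, fun h => (h hx0S).2 hx0B⟩
    have hI1 : (S ∩ B).ncard ≤ 1 := by
      by_contra h
      have h2' : 2 ≤ (S ∩ B).ncard := by omega
      have h5 := ih _ hIlt (S ∩ B) (fun x hx => hSD hx.1) hImod rfl h2'
      apply hne
      apply Set.Subset.antisymm hSD
      rw [← h5]; exact Set.inter_subset_left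
    have hJ1 : (S \ B).ncard ≤ 1 := by
      by_contra h
      have h2' : 2 ≤ (S \ B).ncard := by omega
      have h5 := ih _ hJlt (S \ B) (fun x hx => hSD hx.1) hJmod rfl h2'
      apply hne
      apply Set.Subset.antisymm hSD
      rw [← h5]; exact Set.sdiff_subset
    rw [Set.ncard_le_one (Set.toFinite _)] at hI1 hJ1
    have hS2 : ∀ x ∈ S, x = x0 ∨ x = x1 := by
      intro x hx
      by_cases hxB : x ∈ B
      · left; exact hI1 x ⟨hx, hxB⟩ x0 ⟨hx0S, hx0B⟩
      · right; exact hJ1 x ⟨hx, hxB⟩ x1 ⟨hx1S, hx1B⟩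
    have hx01 : x0 ≠ x1 := by
      intro h
      rw [← h] at hx1B
      exact hx1B hx0B
    have hx0D := hSD hx0S
    have hx1D := hSD hx1S
    by_cases hc : Commute x0 x1
    · have h1 : x1 ∈ {v : G | v ∈ D ∧ ∀ e ∈ D, Commute v e ↔ Commute x0 e} := by
        refine ⟨hx1D, ?_⟩
        intro e he
        by_cases heS : e ∈ S
        · rcases hS2 e heS with h | h
          · rw [h]; exact ⟨fun _ => Commute.refl _, fun _ => hc.symm⟩
          · rw [h]; exact ⟨fun _ => hc, fun _ => Commute.refl _⟩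
        · rcases hS e he heS with h | h
          · exact ⟨fun _ => (h x0 hx0S).symm, fun _ => (h x1 hx1S).symm⟩
          · exact ⟨fun h' => absurd h'.symm (h x1 hx1S), fun h' => absurd h'.symm (h x0 hx0S)⟩
      have h0 : x0 ∈ {v : G | v ∈ D ∧ ∀ e ∈ D, Commute v e ↔ Commute x0 e} :=
        ⟨hx0D, fun _ _ => Iff.rfl⟩
      exact hx01 (hV x0 hx0D h0 h1)
    · have h1 : x1 ∈ {w : G | w ∈ D ∧ {y : G | y ∈ D ∧ y ≠ x0 ∧ Commute x0 y} =
          {y : G | y ∈ D ∧ y ≠ w ∧ Commute w y}} := by
        refine ⟨hx1D, ?_⟩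
        ext y
        constructor
        · rintro ⟨hyD, hyne, hyc⟩
          have hyS : y ∉ S := by
            intro h
            rcases hS2 y h with h' | h'
            · exact hyne h'
            · rw [h'] at hyc; exact hc hyc
          refine ⟨hyD, ?_, ?_⟩
          · intro h'
            rw [h'] at hyc; exact hc hyc
          · rcases hS y hyD hyS with h | h
            · exact (h x1 hx1S).symm
            · exact absurd hyc.symm (h x0 hx0S)
        · rintro ⟨hyD, hyne, hyc⟩
          have hyS : y ∉ S := by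
            intro h
            rcases hS2 y h with h' | h'
            · rw [h'] at hyc; exact hc hyc.symm
            · exact hyne h'
          refine ⟨hyD, ?_, ?_⟩
          · intro h'
            rw [h'] at hyc; exact hc hyc.symm
          · rcases hS y hyD hyS with h | h
            · exact (h x0 hx0S).symm
            · exact absurd hyc.symm (h x1 hx1S)
      have h0 : x0 ∈ {w : G | w ∈ D ∧ {y : G | y ∈ D ∧ y ≠ x0 ∧ Commute x0 y} =
          {y : G | y ∈ D ∧ y ≠ w ∧ Commute w y}} := ⟨hx0D, rfl⟩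
      exact hx01 (hW x0 hx0D h0 h1)

/-- maximality of the subgroup generated by the members commuting with `d` -/
theorem max_of_mod {D : Set G} (hTS : Cfsg.IsThreeTranspositionSet D)
    (hconj : ∀ g : G, ∀ x ∈ D, g * x * g⁻¹ ∈ D) (hgen : Subgroup.closure D = ⊤)
    (hmodtop : ∀ S : Set G, S ⊆ D → IsMod D S → 2 ≤ S.ncard → S = D)
    (d : G) (hd : d ∈ D) (H : Subgroup G) (hH : Cfsg.IsDSubgroup D H)
    (hle : Subgroup.closure {y : G | y ∈ D ∧ Commute d y} ≤ H) [Finite G] :
    H = Subgroup.closure {y : G | y ∈ D ∧ Commute d y} ∨ H = ⊤ := by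
  by_cases hsub : ∀ x, x ∈ D → x ∈ H → Commute d x
  · left
    have h1 : Subgroup.closure {x : G | x ∈ D ∧ x ∈ H} ≤
        Subgroup.closure {y : G | y ∈ D ∧ Commute d y} :=
      Subgroup.closure_mono (fun x hx => ⟨hx.1, hsub x hx.1 hx.2⟩)
    have hH' : Subgroup.closure {x : G | x ∈ D ∧ x ∈ H} = H := hH
    rw [hH'] at h1
    exact le_antisymm h1 hle
  · right
    push Not at hsub
    obtain ⟨a, haD, haH, hda⟩ := hsub
    have hdH : d ∈ H := hle (Subgroup.subset_closure ⟨hd, Commute.refl d⟩)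
    have hED : {x : G | ∃ h ∈ H, x = h * d * h⁻¹} ⊆ D := by
      rintro _ ⟨h, -, rfl⟩
      exact hconj h d hd
    have hEH : ∀ x ∈ {x : G | ∃ h ∈ H, x = h * d * h⁻¹}, x ∈ H := by
      rintro _ ⟨h, hh, rfl⟩
      exact H.mul_mem (H.mul_mem hh hdH) (H.inv_mem hh)
    have hdE : d ∈ {x : G | ∃ h ∈ H, x = h * d * h⁻¹} := ⟨1, H.one_mem, by simp⟩
    have hB : ∀ y ∈ D, y ∈ H → ∀ x ∈ {x : G | ∃ h ∈ H, x = h * d * h⁻¹}, ¬ Commute y x →
        y ∈ {x : G | ∃ h ∈ H, x = h * d * h⁻¹} := by
      intro y hyD hyH x hxE hnc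
      have hxH := hEH x hxE
      have hxD := hED hxE
      obtain ⟨h, hh, hxeq⟩ := hxE
      have hbr := tt_braid hTS hyD hxD hnc
      have hxi := tt_inv hTS hxD
      have hyi := tt_inv hTS hyD
      have hxx := tt_mul_self hTS hxD
      refine ⟨x * y * h, H.mul_mem (H.mul_mem hxH hyH) hh, ?_⟩
      have e : x * y * h * d * (x * y * h)⁻¹ = x * y * (h * d * h⁻¹) * y⁻¹ * x⁻¹ := by group
      rw [e, ← hxeq, hyi, hxi]
      calc y = (x * x) * y * (x * x) := by rw [hxx]; group
        _ = x * (x * y * x) * x := by group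
        _ = x * (y * x * y) * x := by rw [hbr]
        _ = x * y * x * y * x := by group
    have hA : ∀ y ∈ D, y ∉ H → ∀ x ∈ {x : G | ∃ h ∈ H, x = h * d * h⁻¹}, ¬ Commute y x := by
      intro y hyD hyH x hxE hc
      obtain ⟨h, hh, rfl⟩ := hxE
      apply hyH
      have h1 : Commute d (h⁻¹ * y * h) := (commute_conj_iff h d y).mp hc.symm
      have h2 : h⁻¹ * y * h ∈ H := by
        apply hle
        apply Subgroup.subset_closure
        refine ⟨?_, h1⟩
        have h5 := hconj h⁻¹ y hyD
        rwa [inv_inv] at h5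
      have e : y = h * (h⁻¹ * y * h) * h⁻¹ := by group
      rw [e]; exact H.mul_mem (H.mul_mem hh h2) (H.inv_mem hh)
    have hEmod : IsMod D {x : G | ∃ h ∈ H, x = h * d * h⁻¹} := by
      intro y hyD hyE
      by_cases hyH : y ∈ H
      · left
        intro x hx
        by_contra hnc
        exact hyE (hB y hyD hyH x hx hnc)
      · right; exact hA y hyD hyH
    have haE : a ∈ {x : G | ∃ h ∈ H, x = h * d * h⁻¹} :=
      hB a haD haH d hdE (fun h => hda h.symm)
    have h2 : 2 ≤ ({x : G | ∃ h ∈ H, x = h * d * h⁻¹}).ncard := by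
      have h5 : 1 < ({x : G | ∃ h ∈ H, x = h * d * h⁻¹}).ncard :=
        (Set.one_lt_ncard_iff (Set.toFinite _)).mpr ⟨d, a, hdE, haE, fun h => by
          rw [← h] at hda; exact hda (Commute.refl d)⟩
      omega
    have hEtop := hmodtop _ hED hEmod h2
    rw [eq_top_iff, ← hgen, Subgroup.closure_le]
    intro x hx
    rw [← hEtop] at hx
    exact hEH x hx

end Aux

/-- Let D be a conjugation-invariant generating set of 3-transpositions of the finite group G on which G acts primitively by conjugation, and suppose two different members of D commute (width at least 2). Then G has a quasisimple normal subgroup L of index at most 2 with the generalized Fitting subgroup of G equal to L times the centre, the commuting graph of D is connected, and for d in D the subgroup generated by the members of D commuting with d is a maximal D-subgroup: it is proper, and every subgroup generated by members of D that contains it is either it or G. -/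
theorem result {G : Type*} [Group G] [Finite G] {D : Set G} (hD : Cfsg.IsThreeTranspositionGroup D) (hprim : Cfsg.IsPrimitiveUnderConj D) (hw : ∃ a ∈ D, ∃ b ∈ D, a ≠ b ∧ Commute a b) : (∃ L : Subgroup G, L.Normal ∧ Cfsg.IsQuasisimple L ∧ L.index ≤ 2 ∧ Cfsg.generalizedFittingSubgroup G = L ⊔ Subgroup.center G) ∧ (Cfsg.commutingGraph D).Connected ∧ ∀ d ∈ D, Subgroup.closure {y : G | y ∈ D ∧ Commute d y} ≠ ⊤ ∧ ∀ H : Subgroup G, Cfsg.IsDSubgroup D H → Subgroup.closure {y : G | y ∈ D ∧ Commute d y} ≤ H → H = Subgroup.closure {y : G | y ∈ D ∧ Commute d y} ∨ H = ⊤ := by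
  classical
  obtain ⟨hTS, hconj, hgen⟩ := hD
  obtain ⟨a0, ha0, b0, hb0, hab0, hcab0⟩ := hw
  have hcls : ∀ a ∈ D, ∀ b ∈ D, ∃ g : G, b = g * a * g⁻¹ := by
    intro a ha b hb
    obtain ⟨g, hg⟩ := hprim.1 a ha b hb
    exact ⟨g, hg.symm⟩
  have hDcls : Cfsg.IsThreeTranspositionClass D := by
    refine ⟨hTS, ⟨a0, ha0, ?_⟩, hgen⟩
    ext x
    constructor
    · intro hx
      obtain ⟨g, hg⟩ := hprim.1 a0 ha0 x hx
      show IsConj a0 x
      exact isConj_iff.mpr ⟨g, hg⟩
    · intro hx
      have hx' : IsConj a0 x := hx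
      obtain ⟨g, hg⟩ := isConj_iff.mp hx'
      rw [← hg]; exact hconj g a0 ha0
  have hw' : ∃ a ∈ D, ∃ b ∈ D, a ≠ b ∧ Commute a b := ⟨a0, ha0, b0, hb0, hab0, hcab0⟩
  have hD2 : ∃ a ∈ D, ∃ b ∈ D, a ≠ b := ⟨a0, ha0, b0, hb0, hab0⟩
  have h2 := Cfsg.Agent.S5361.prim_core_two hDcls hprim
  have h3 := Cfsg.Agent.S5361.prim_core_three hDcls hprim hw'
  have hconn := Cfsg.Agent.S5361.prim_connected hDcls hprim hw'
  obtain ⟨L, hLN, hLqs, hF, -⟩ := Cfsg.Agent.S5352.result hDcls hD2 h2 h3
  have hidx := Cfsg.Agent.S5353.index_of_connected hDcls hD2 h2 h3 L hLqs hconn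
  refine ⟨⟨L, hLN, hLqs, hidx, hF⟩, hconn, ?_⟩
  have hV := prim_V hconj hgen hcls hprim
  have hW := prim_W hconj hcls hprim hw'
  have hmod : ∀ S : Set G, S ⊆ D → IsMod D S → 2 ≤ S.ncard → S = D :=
    fun S hSD hS h2 => mod_eq_top hconj hprim.2.2 hV hW S.ncard S hSD hS rfl h2
  intro d hd
  refine ⟨?_, fun H hH hle => max_of_mod hTS hconj hgen hmod d hd H hH hle⟩
  intro htop
  have hdc : d ∈ Subgroup.center G := by
    have hle : Subgroup.closure {y : G | y ∈ D ∧ Commute d y} ≤
        Subgroup.centralizer ({d} : Set G) := by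
      rw [Subgroup.closure_le]
      intro y hy
      rw [SetLike.mem_coe, Subgroup.mem_centralizer_iff]
      intro z hz
      rw [Set.mem_singleton_iff.mp hz]
      exact hy.2.eq
    rw [htop] at hle
    rw [Subgroup.mem_center_iff]
    intro g
    have h5 := Subgroup.mem_centralizer_iff.mp (hle (Subgroup.mem_top g)) d rfl
    exact h5.symm
  have hall : ∀ x ∈ D, x = d := by
    intro x hx
    obtain ⟨g, rfl⟩ := hcls d hd x hx
    have h5 := Subgroup.mem_center_iff.mp hdc g
    rw [h5]; group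
  exact hab0 ((hall a0 ha0).trans (hall b0 hb0).symm)

end Cfsg.Agent.S5354
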