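import Cfsg.Statements.S5360
import Cfsg.Agent.S5361
import Cfsg.Agent.S5357
import Cfsg.Agent.S5358
import Cfsg.Agent.Lib.Helper3.ReflMod3

set_option autoImplicit false
open scoped MatrixGroups
open Cfsg

namespace Cfsg.Agent.S5360


open Cfsg.Agent.Lib.Helper16 Cfsg.Agent.Lib.Helper3 Matrix

theorem z3_cases : ∀ t : ZMod 3, t = 0 ∨ t = 1 ∨ t = -1 := by decide

theorem z3_key : ∀ c ε : ZMod 3, c ≠ 0 → ε ≠ 0 →
    c + (ε * (2 * c)) * (ε * (2 * c)) * c - (ε * (2 * c)) * ε = 0 := by decide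

theorem z3_key2 : ∀ c ε : ZMod 3, c ≠ 0 → ε ≠ 0 → ε - (ε * (2 * c)) * (2 * c) = 0 := by decide


section Geom

variable {n : ℕ} (Q : QuadraticForm (ZMod 3) (Fin n → ZMod 3))

/-- the projection of `b` off `a` is a nonzero singular vector orthogonal to `a` -/
theorem proj_sing (c : ZMod 3) (hc : c ≠ 0) (a b : Fin n → ZMod 3) (ha : Q a = c) (hb : Q b = c)
    (h1 : b ≠ a) (h2 : b ≠ -a) (hab : QuadraticMap.polar (⇑Q) a b ≠ 0) :
    Q (b - (QuadraticMap.polar (⇑Q) a b * (2 * c)) • a) = 0 ∧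
    QuadraticMap.polar (⇑Q) a (b - (QuadraticMap.polar (⇑Q) a b * (2 * c)) • a) = 0 ∧
    b - (QuadraticMap.polar (⇑Q) a b * (2 * c)) • a ≠ 0 := by
  refine ⟨?_, ?_, ?_⟩
  · rw [quad_sub_smul, ha, hb]
    exact z3_key c _ hc hab
  · rw [QuadraticMap.polar_sub_right, QuadraticMap.polar_smul_right, cd_polar_self, ha,
      smul_eq_mul]
    exact z3_key2 c _ hc hab
  · intro h
    have hb' : b = (QuadraticMap.polar (⇑Q) a b * (2 * c)) • a := sub_eq_zero.mp h
    rcases z3_cases (QuadraticMap.polar (⇑Q) a b * (2 * c)) with h0 | h0 | h0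
    · rw [h0, zero_smul] at hb'
      rw [hb', map_zero] at hb
      exact hc hb.symm
    · rw [h0, one_smul] at hb'
      exact h1 hb'
    · rw [h0, neg_smul, one_smul] at hb'
      exact h2 hb'

/-- a vector of norm `c` orthogonal to `a` but not to `b` -/
theorem exists_sep (hQ : (QuadraticMap.polarBilin Q).Nondegenerate) (hn : 5 ≤ n)
    (c : ZMod 3) (hc : c ≠ 0) (a b : Fin n → ZMod 3) (ha : Q a = c) (hb : Q b = c)
    (h1 : b ≠ a) (h2 : b ≠ -a) :
    ∃ w : Fin n → ZMod 3, Q w = c ∧ QuadraticMap.polar (⇑Q) a w = 0 ∧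
      QuadraticMap.polar (⇑Q) b w ≠ 0 ∧ w ≠ b ∧ w ≠ -b := by
  have h2c : 2 * c ≠ 0 := mul_ne_zero z3_two hc
  have ha0 : Q a ≠ 0 := by rw [ha]; exact hc
  by_cases hab : QuadraticMap.polar (⇑Q) a b = 0
  · have hba : QuadraticMap.polar (⇑Q) b a = 0 := by rw [QuadraticMap.polar_comm, hab]
    -- z1 of norm c orthogonal to a, b
    have hT1 : ∀ x ∈ Submodule.span (ZMod 3) ({a, b} : Set (Fin n → ZMod 3)),
        (∀ t ∈ Submodule.span (ZMod 3) ({a, b} : Set (Fin n → ZMod 3)),
          QuadraticMap.polar (⇑Q) t x = 0) → x = 0 := by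
      intro x hx hall
      rw [Submodule.mem_span_pair] at hx
      obtain ⟨p, q, rfl⟩ := hx
      have e1 := hall a (Submodule.subset_span (by simp))
      have e2 := hall b (Submodule.subset_span (by simp))
      rw [QuadraticMap.polar_add_right, QuadraticMap.polar_smul_right,
        QuadraticMap.polar_smul_right] at e1 e2
      rw [cd_polar_self, hab, ha, smul_zero, add_zero, smul_eq_mul] at e1
      rw [cd_polar_self, hba, hb, smul_zero, zero_add, smul_eq_mul] at e2
      have hp : p = 0 := (mul_eq_zero.1 e1).resolve_right h2c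
      have hq : q = 0 := (mul_eq_zero.1 e2).resolve_right h2c
      rw [hp, hq, zero_smul, zero_smul, add_zero]
    have hdim1 : Module.finrank (ZMod 3)
        (Submodule.span (ZMod 3) ({a, b} : Set (Fin n → ZMod 3))) + 2 ≤ Fintype.card (Fin n) := by
      have e1 := finrank_span_finset_le_card (R := ZMod 3) ({a, b} : Finset (Fin n → ZMod 3))
      unfold Set.finrank at e1
      have e2 : ({a, b} : Finset (Fin n → ZMod 3)).card ≤ 2 := Finset.card_le_two
      rw [Finset.coe_insert, Finset.coe_singleton] at e1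
      rw [Fintype.card_fin]
      omega
    obtain ⟨z1, hz1, hz1T⟩ := exists_perp_rep Q z3_two hQ _ hT1 hdim1 c
    have haz1 : QuadraticMap.polar (⇑Q) a z1 = 0 := hz1T a (Submodule.subset_span (by simp))
    have hbz1 : QuadraticMap.polar (⇑Q) b z1 = 0 := hz1T b (Submodule.subset_span (by simp))
    have hz1a : QuadraticMap.polar (⇑Q) z1 a = 0 := by rw [QuadraticMap.polar_comm, haz1]
    have hz1b : QuadraticMap.polar (⇑Q) z1 b = 0 := by rw [QuadraticMap.polar_comm, hbz1]
    -- z2 of norm -c orthogonal to a, b, z1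
    have hT2 : ∀ x ∈ Submodule.span (ZMod 3) ({a, b, z1} : Set (Fin n → ZMod 3)),
        (∀ t ∈ Submodule.span (ZMod 3) ({a, b, z1} : Set (Fin n → ZMod 3)),
          QuadraticMap.polar (⇑Q) t x = 0) → x = 0 := by
      intro x hx hall
      rw [Submodule.mem_span_triple] at hx
      obtain ⟨p, q, r, rfl⟩ := hx
      have e1 := hall a (Submodule.subset_span (by simp))
      have e2 := hall b (Submodule.subset_span (by simp))
      have e3 := hall z1 (Submodule.subset_span (by simp))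
      rw [QuadraticMap.polar_add_right, QuadraticMap.polar_add_right,
        QuadraticMap.polar_smul_right, QuadraticMap.polar_smul_right,
        QuadraticMap.polar_smul_right] at e1 e2 e3
      rw [cd_polar_self, hab, haz1, ha, smul_zero, smul_zero, add_zero, add_zero,
        smul_eq_mul] at e1
      rw [cd_polar_self, hba, hbz1, hb, smul_zero, smul_zero, zero_add, add_zero,
        smul_eq_mul] at e2
      rw [cd_polar_self, hz1a, hz1b, hz1, smul_zero, smul_zero, zero_add, zero_add,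
        smul_eq_mul] at e3
      have hp : p = 0 := (mul_eq_zero.1 e1).resolve_right h2c
      have hq : q = 0 := (mul_eq_zero.1 e2).resolve_right h2c
      have hr : r = 0 := (mul_eq_zero.1 e3).resolve_right h2c
      rw [hp, hq, hr, zero_smul, zero_smul, zero_smul, add_zero, add_zero]
    have hdim2 : Module.finrank (ZMod 3)
        (Submodule.span (ZMod 3) ({a, b, z1} : Set (Fin n → ZMod 3))) + 2
          ≤ Fintype.card (Fin n) := by
      have e1 := finrank_span_finset_le_card (R := ZMod 3)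
        ({a, b, z1} : Finset (Fin n → ZMod 3))
      unfold Set.finrank at e1
      have e2 : ({a, b, z1} : Finset (Fin n → ZMod 3)).card ≤ 3 := Finset.card_le_three
      rw [Finset.coe_insert, Finset.coe_insert, Finset.coe_singleton] at e1
      rw [Fintype.card_fin]
      omega
    obtain ⟨z2, hz2, hz2T⟩ := exists_perp_rep Q z3_two hQ _ hT2 hdim2 (-c)
    have haz2 : QuadraticMap.polar (⇑Q) a z2 = 0 := hz2T a (Submodule.subset_span (by simp))
    have hbz2 : QuadraticMap.polar (⇑Q) b z2 = 0 := hz2T b (Submodule.subset_span (by simp))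
    have hz1z2 : QuadraticMap.polar (⇑Q) z1 z2 = 0 :=
      hz2T z1 (Submodule.subset_span (by simp))
    have hbw : QuadraticMap.polar (⇑Q) b (b + z1 + z2) = 2 * c := by
      rw [QuadraticMap.polar_add_right, QuadraticMap.polar_add_right, cd_polar_self, hbz1,
        hbz2, hb, add_zero, add_zero]
    refine ⟨b + z1 + z2, ?_, ?_, ?_, ?_, ?_⟩
    · rw [QuadraticMap.map_add (⇑Q), QuadraticMap.map_add (⇑Q), QuadraticMap.polar_add_left,
        hb, hz1, hz2, hbz1, hbz2, hz1z2]
      ring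
    · rw [QuadraticMap.polar_add_right, QuadraticMap.polar_add_right, hab, haz1, haz2]
      ring
    · rw [hbw]; exact h2c
    · intro h
      -- z1 + z2 = 0 → Q z2 = Q z1
      have e1 : z2 = -z1 := by
        have e2 : z1 + z2 = 0 := by
          have e3 : b + z1 + z2 = b + (z1 + z2) := by abel
          rw [e3] at h
          exact add_eq_left.mp h
        exact (neg_eq_of_add_eq_zero_right e2).symm
      rw [e1, QuadraticMap.map_neg, hz1] at hz2
      apply h2c
      linear_combination hz2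
    · intro h
      have e1 : QuadraticMap.polar (⇑Q) b (b + z1 + z2) = -(2 * c) := by
        rw [h, QuadraticMap.polar_neg_right, cd_polar_self, hb]
      rw [hbw] at e1
      apply h2c
      have e2 : (2 : ZMod 3) * (2 * c) = 0 := by linear_combination e1
      exact (mul_eq_zero.1 e2).resolve_left z3_two
  · obtain ⟨hs, has, hs0⟩ := proj_sing Q c hc a b ha hb h1 h2 hab
    obtain ⟨s, hsdef⟩ : ∃ s : Fin n → ZMod 3,
        s = b - (QuadraticMap.polar (⇑Q) a b * (2 * c)) • a := ⟨_, rfl⟩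
    rw [← hsdef] at hs has hs0
    obtain ⟨y, hy, hay, hsy⟩ := exists_hyp_partner' Q z3_two hQ a s ha0 hs0 hs has
    have hbs : b = s + (QuadraticMap.polar (⇑Q) a b * (2 * c)) • a := by
      rw [hsdef]; abel
    have hpw : QuadraticMap.polar (⇑Q) s (s + (c * QuadraticMap.polar (⇑Q) s y) • y) = c := by
      rw [QuadraticMap.polar_add_right, QuadraticMap.polar_smul_right, cd_polar_self, hs,
        smul_eq_mul, mul_zero, zero_add, mul_assoc, z3_sq _ hsy, mul_one]
    have haw : QuadraticMap.polar (⇑Q) a (s + (c * QuadraticMap.polar (⇑Q) s y) • y) = 0 := by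
      rw [QuadraticMap.polar_add_right, QuadraticMap.polar_smul_right, has, hay, smul_zero,
        add_zero]
    have hbw : QuadraticMap.polar (⇑Q) b (s + (c * QuadraticMap.polar (⇑Q) s y) • y) = c := by
      rw [hbs, QuadraticMap.polar_add_left, QuadraticMap.polar_smul_left, hpw, haw,
        smul_zero, add_zero]
    refine ⟨s + (c * QuadraticMap.polar (⇑Q) s y) • y, ?_, haw, ?_, ?_, ?_⟩
    · rw [QuadraticMap.map_add (⇑Q), QuadraticMap.map_smul, hs, hy,
        QuadraticMap.polar_smul_right, smul_eq_mul, smul_eq_mul, mul_zero, zero_add, zero_add,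
        mul_assoc, z3_sq _ hsy, mul_one]
    · rw [hbw]; exact hc
    · intro h
      rw [h] at haw
      exact hab haw
    · intro h
      rw [h, QuadraticMap.polar_neg_right, neg_eq_zero] at haw
      exact hab haw

/-- a vector of norm `c` orthogonal to two non-orthogonal vectors of norm `c` -/
theorem exists_common (hQ : (QuadraticMap.polarBilin Q).Nondegenerate) (hn : 5 ≤ n)
    (c : ZMod 3) (hc : c ≠ 0) (a b : Fin n → ZMod 3) (ha : Q a = c) (hb : Q b = c)
    (h1 : b ≠ a) (h2 : b ≠ -a) (hab : QuadraticMap.polar (⇑Q) a b ≠ 0) :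
    ∃ z : Fin n → ZMod 3, Q z = c ∧ QuadraticMap.polar (⇑Q) a z = 0 ∧
      QuadraticMap.polar (⇑Q) b z = 0 := by
  have h2c : 2 * c ≠ 0 := mul_ne_zero z3_two hc
  have ha0 : Q a ≠ 0 := by rw [ha]; exact hc
  obtain ⟨hs, has, hs0⟩ := proj_sing Q c hc a b ha hb h1 h2 hab
  obtain ⟨s, hsdef⟩ : ∃ s : Fin n → ZMod 3,
      s = b - (QuadraticMap.polar (⇑Q) a b * (2 * c)) • a := ⟨_, rfl⟩
  rw [← hsdef] at hs has hs0
  obtain ⟨y, hy, hay, hsy⟩ := exists_hyp_partner' Q z3_two hQ a s ha0 hs0 hs has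
  have hbs : b = s + (QuadraticMap.polar (⇑Q) a b * (2 * c)) • a := by
    rw [hsdef]; abel
  have hsa : QuadraticMap.polar (⇑Q) s a = 0 := by rw [QuadraticMap.polar_comm, has]
  have hya : QuadraticMap.polar (⇑Q) y a = 0 := by rw [QuadraticMap.polar_comm, hay]
  have hys : QuadraticMap.polar (⇑Q) y s ≠ 0 := by rw [QuadraticMap.polar_comm]; exact hsy
  have hT : ∀ x ∈ Submodule.span (ZMod 3) ({a, s, y} : Set (Fin n → ZMod 3)),
      (∀ t ∈ Submodule.span (ZMod 3) ({a, s, y} : Set (Fin n → ZMod 3)),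
        QuadraticMap.polar (⇑Q) t x = 0) → x = 0 := by
    intro x hx hall
    rw [Submodule.mem_span_triple] at hx
    obtain ⟨p, q, r, rfl⟩ := hx
    have e1 := hall a (Submodule.subset_span (by simp))
    have e2 := hall s (Submodule.subset_span (by simp))
    have e3 := hall y (Submodule.subset_span (by simp))
    rw [QuadraticMap.polar_add_right, QuadraticMap.polar_add_right,
      QuadraticMap.polar_smul_right, QuadraticMap.polar_smul_right,
      QuadraticMap.polar_smul_right] at e1 e2 e3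
    rw [cd_polar_self, has, hay, ha, smul_zero, smul_zero, add_zero, add_zero,
      smul_eq_mul] at e1
    rw [cd_polar_self, hsa, hs, mul_zero, smul_zero, smul_zero, zero_add, zero_add,
      smul_eq_mul] at e2
    have hp : p = 0 := (mul_eq_zero.1 e1).resolve_right h2c
    have hr : r = 0 := (mul_eq_zero.1 e2).resolve_right hsy
    rw [cd_polar_self, hya, hy, mul_zero, smul_zero, smul_zero, zero_add, add_zero,
      smul_eq_mul] at e3
    have hq : q = 0 := (mul_eq_zero.1 e3).resolve_right hys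
    rw [hp, hq, hr, zero_smul, zero_smul, zero_smul, add_zero, add_zero]
  have hdim : Module.finrank (ZMod 3)
      (Submodule.span (ZMod 3) ({a, s, y} : Set (Fin n → ZMod 3))) + 2
        ≤ Fintype.card (Fin n) := by
    have e1 := finrank_span_finset_le_card (R := ZMod 3)
      ({a, s, y} : Finset (Fin n → ZMod 3))
    unfold Set.finrank at e1
    have e2 : ({a, s, y} : Finset (Fin n → ZMod 3)).card ≤ 3 := Finset.card_le_three
    rw [Finset.coe_insert, Finset.coe_insert, Finset.coe_singleton] at e1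
    rw [Fintype.card_fin]
    omega
  obtain ⟨z, hz, hzT⟩ := exists_perp_rep Q z3_two hQ _ hT hdim c
  have haz : QuadraticMap.polar (⇑Q) a z = 0 := hzT a (Submodule.subset_span (by simp))
  have hsz : QuadraticMap.polar (⇑Q) s z = 0 := hzT s (Submodule.subset_span (by simp))
  refine ⟨z, hz, haz, ?_⟩
  rw [hbs, QuadraticMap.polar_add_left, QuadraticMap.polar_smul_left, hsz, haz, smul_zero,
    add_zero]

end Geom

section Grp

variable {n : ℕ} (Q : QuadraticForm (ZMod 3) (Fin n → ZMod 3))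

/-- a vector of norm `c` orthogonal to `a` -/
theorem exists_perp1 (hQ : (QuadraticMap.polarBilin Q).Nondegenerate) (hn : 5 ≤ n)
    (c : ZMod 3) (hc : c ≠ 0) (a : Fin n → ZMod 3) (ha : Q a = c) :
    ∃ z : Fin n → ZMod 3, Q z = c ∧ QuadraticMap.polar (⇑Q) a z = 0 := by
  have h2c : 2 * c ≠ 0 := mul_ne_zero z3_two hc
  have hT : ∀ x ∈ Submodule.span (ZMod 3) ({a} : Set (Fin n → ZMod 3)),
      (∀ t ∈ Submodule.span (ZMod 3) ({a} : Set (Fin n → ZMod 3)),
        QuadraticMap.polar (⇑Q) t x = 0) → x = 0 := by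
    intro x hx hall
    rw [Submodule.mem_span_singleton] at hx
    obtain ⟨p, rfl⟩ := hx
    have e1 := hall a (Submodule.subset_span (by simp))
    rw [QuadraticMap.polar_smul_right, cd_polar_self, ha, smul_eq_mul] at e1
    have hp : p = 0 := (mul_eq_zero.1 e1).resolve_right h2c
    rw [hp, zero_smul]
  have hdim : Module.finrank (ZMod 3)
      (Submodule.span (ZMod 3) ({a} : Set (Fin n → ZMod 3))) + 2 ≤ Fintype.card (Fin n) := by
    have e1 := finrank_span_finset_le_card (R := ZMod 3) ({a} : Finset (Fin n → ZMod 3))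
    unfold Set.finrank at e1
    rw [Finset.coe_singleton, Finset.card_singleton] at e1
    rw [Fintype.card_fin]
    omega
  obtain ⟨z, hz, hzT⟩ := exists_perp_rep Q z3_two hQ _ hT hdim c
  exact ⟨z, hz, hzT a (Submodule.subset_span (by simp))⟩

/-- a vector orthogonal to `a` is not `±a` -/
theorem ne_of_perp (c : ZMod 3) (hc : c ≠ 0) (a w : Fin n → ZMod 3) (ha : Q a = c)
    (haw : QuadraticMap.polar (⇑Q) a w = 0) : w ≠ a ∧ w ≠ -a := by
  have h2c : 2 * c ≠ 0 := mul_ne_zero z3_two hc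
  constructor
  · intro h
    rw [h, cd_polar_self, ha] at haw
    exact h2c haw
  · intro h
    rw [h, QuadraticMap.polar_neg_right, cd_polar_self, ha, neg_eq_zero] at haw
    exact h2c haw

/-- equal reflections have proportional centres -/
theorem refl_eq (c : ZMod 3) (hc : c ≠ 0) (a b : Fin n → ZMod 3) (ha : Q a = c) (hb : Q b = c)
    (h : Cfsg.reflectionMatrix (⇑Q) a = Cfsg.reflectionMatrix (⇑Q) b) : b = a ∨ b = -a := by
  have h1 : Cfsg.reflectionMatrix (⇑Q) a *ᵥ b = Cfsg.reflectionMatrix (⇑Q) b *ᵥ b := by rw [h]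
  rw [refl_mulVec, refl_mulVec, cd_polar_self, ha, hb] at h1
  have h2 : (c⁻¹ * QuadraticMap.polar (⇑Q) a b) • a = (c⁻¹ * (2 * c)) • b :=
    sub_right_injective h1
  have h3 : c⁻¹ * (2 * c) = 2 := by field_simp
  rw [h3] at h2
  have h4 : b = ((2 : ZMod 3) * (c⁻¹ * QuadraticMap.polar (⇑Q) a b)) • a := by
    rw [mul_smul, h2, ← mul_smul]
    have e22 : (2 : ZMod 3) * 2 = 1 := by decide
    rw [e22, one_smul]
  rcases z3_cases ((2 : ZMod 3) * (c⁻¹ * QuadraticMap.polar (⇑Q) a b)) with h0 | h0 | h0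
  · rw [h0, zero_smul] at h4
    rw [h4, map_zero] at hb
    exact absurd hb.symm hc
  · left
    rw [h0, one_smul] at h4
    exact h4
  · right
    rw [h0, neg_smul, one_smul] at h4
    exact h4

theorem refl_neg (a : Fin n → ZMod 3) :
    Cfsg.reflectionMatrix (⇑Q) (-a) = Cfsg.reflectionMatrix (⇑Q) a := by
  apply Matrix.mulVec_injective
  funext x
  rw [refl_mulVec, refl_mulVec, QuadraticMap.map_neg, QuadraticMap.polar_neg_left, mul_neg,
    neg_smul, smul_neg, neg_neg]

/-- the matrix of a member of the reflection subgroup -/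
def mat (c : ZMod 3) (g : ↥(Cfsg.reflectionSubgroup (⇑Q) c)) : Matrix (Fin n) (Fin n) (ZMod 3) :=
  (((g : ↥(Cfsg.isometryGroup (ZMod 3) (⇑Q))) : Matrix.GeneralLinearGroup (Fin n) (ZMod 3)) :
    Matrix (Fin n) (Fin n) (ZMod 3))

theorem mat_mul (c : ZMod 3) (g h : ↥(Cfsg.reflectionSubgroup (⇑Q) c)) :
    mat Q c (g * h) = mat Q c g * mat Q c h := rfl

theorem mat_inj (c : ZMod 3) (g h : ↥(Cfsg.reflectionSubgroup (⇑Q) c))
    (e : mat Q c g = mat Q c h) : g = h :=
  Subtype.ext (isomG_ext Q e)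

theorem commute_iff_mat (c : ZMod 3) (g h : ↥(Cfsg.reflectionSubgroup (⇑Q) c)) :
    Commute g h ↔ Commute (mat Q c g) (mat Q c h) := by
  constructor
  · intro hc
    have h5 := congrArg (mat Q c) hc.eq
    rw [mat_mul, mat_mul] at h5
    exact h5
  · intro hc
    show g * h = h * g
    apply mat_inj
    rw [mat_mul, mat_mul]
    exact hc.eq

theorem comm_iff (hQ : (QuadraticMap.polarBilin Q).Nondegenerate) (c : ZMod 3) (hc : c ≠ 0)
    (g h : ↥(Cfsg.reflectionSubgroup (⇑Q) c)) (a b : Fin n → ZMod 3) (ha : Q a = c)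
    (hb : Q b = c) (hg : mat Q c g = Cfsg.reflectionMatrix (⇑Q) a)
    (hh : mat Q c h = Cfsg.reflectionMatrix (⇑Q) b) (h1 : b ≠ a) (h2 : b ≠ -a) :
    Commute g h ↔ QuadraticMap.polar (⇑Q) a b = 0 := by
  rw [commute_iff_mat, hg, hh]
  exact Cfsg.Agent.S5358.result n Q hQ a b (by rw [ha]; exact hc) (ha.trans hb.symm) h1 h2

theorem eq_of_pm (c : ZMod 3) (g h : ↥(Cfsg.reflectionSubgroup (⇑Q) c)) (a b : Fin n → ZMod 3)
    (hg : mat Q c g = Cfsg.reflectionMatrix (⇑Q) a)
    (hh : mat Q c h = Cfsg.reflectionMatrix (⇑Q) b) (hpm : b = a ∨ b = -a) : h = g := by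
  apply mat_inj
  rw [hg, hh]
  rcases hpm with h0 | h0
  · rw [h0]
  · rw [h0]; exact refl_neg Q a

theorem exists_D (c : ZMod 3) (hc : c ≠ 0) (v : Fin n → ZMod 3) (hv : Q v = c) :
    ∃ g : ↥(Cfsg.reflectionSubgroup (⇑Q) c),
      (g : ↥(Cfsg.isometryGroup (ZMod 3) (⇑Q))) ∈ Cfsg.reflectionsOfNorm (⇑Q) c ∧
      mat Q c g = Cfsg.reflectionMatrix (⇑Q) v := by
  have hv0 : Q v ≠ 0 := by rw [hv]; exact hc
  exact ⟨⟨reflG Q v hv0, Subgroup.subset_closure ⟨v, hv, rfl⟩⟩, ⟨v, hv, rfl⟩, rfl⟩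

end Grp

section Cores

variable {G : Type*} [Group G]

theorem core_two_of_sub [Finite G] {D : Set G} (hD : Cfsg.IsThreeTranspositionClass D)
    (hD2 : ∃ a ∈ D, ∃ b ∈ D, a ≠ b)
    (hB : ∀ d ∈ D, ({v : G | v ∈ D ∧ ∀ e ∈ D, Commute v e ↔ Commute d e}).Subsingleton) :
    Cfsg.pCore 2 G ≤ Subgroup.center G := by
  have hD' := hD
  obtain ⟨hTS, ⟨d0, hd0, hDconj⟩, hgen⟩ := hD
  intro q hq
  apply Cfsg.Agent.S5351.mem_center_of_comm D hgen
  intro d hd
  obtain ⟨-, e2⟩ := Cfsg.Agent.S5349.result hD' hD2 hd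
  have h1 : q * d * q⁻¹ ∈ {v : G | ∃ g ∈ Cfsg.pCore 2 G, v = g * d * g⁻¹} := ⟨q, hq, rfl⟩
  rw [← e2] at h1
  have h2 : d ∈ {v : G | v ∈ D ∧ ∀ e ∈ D, Commute v e ↔ Commute d e} :=
    ⟨hd, fun e _ => Iff.rfl⟩
  have h3 := hB d hd h1 h2
  calc d * q = (q * d * q⁻¹) * q := by rw [h3]
    _ = q * d := by group

theorem core_three_of_sub [Finite G] {D : Set G} (hD : Cfsg.IsThreeTranspositionClass D)
    (hD2 : ∃ a ∈ D, ∃ b ∈ D, a ≠ b)
    (hB : ∀ d ∈ D, ({w : G | w ∈ D ∧ {y : G | y ∈ D ∧ y ≠ d ∧ Commute d y} =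
      {y : G | y ∈ D ∧ y ≠ w ∧ Commute w y}}).Subsingleton) :
    Cfsg.pCore 3 G ≤ Subgroup.center G := by
  have hD' := hD
  obtain ⟨hTS, ⟨d0, hd0, hDconj⟩, hgen⟩ := hD
  intro q hq
  apply Cfsg.Agent.S5351.mem_center_of_comm D hgen
  intro d hd
  obtain ⟨-, e2⟩ := Cfsg.Agent.S5350.result hD' hD2 hd
  have h1 : q * d * q⁻¹ ∈ {w : G | ∃ g ∈ Cfsg.pCore 3 G, w = g * d * g⁻¹} := ⟨q, hq, rfl⟩
  rw [← e2] at h1
  have h2 : d ∈ {w : G | w ∈ D ∧ {y : G | y ∈ D ∧ y ≠ d ∧ Commute d y} =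
      {y : G | y ∈ D ∧ y ≠ w ∧ Commute w y}} := ⟨hd, rfl⟩
  have h3 := hB d hd h1 h2
  calc d * q = (q * d * q⁻¹) * q := by rw [h3]
    _ = q * d := by group

/-- the structure statement from connectivity and central cores -/
theorem struct_of_conn [Finite G] {D : Set G} (hD : Cfsg.IsThreeTranspositionClass D)
    (hD2 : ∃ a ∈ D, ∃ b ∈ D, a ≠ b) (h2 : Cfsg.pCore 2 G ≤ Subgroup.center G)
    (h3 : Cfsg.pCore 3 G ≤ Subgroup.center G)
    (hconn : (Cfsg.commutingGraph D).Connected) :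
    Cfsg.IsQuasisimple (commutator G) ∧ (commutator G).index ≤ 2 ∧
      Cfsg.generalizedFittingSubgroup G = Subgroup.center G ⊔ commutator G ∧
      Cfsg.IsPrimitiveUnderConj D := by
  classical
  obtain ⟨L, hLN, hLqs, hF, -⟩ := Cfsg.Agent.S5352.result hD hD2 h2 h3
  have hidx := Cfsg.Agent.S5353.index_of_connected hD hD2 h2 h3 L hLqs hconn
  have hprim := Cfsg.Agent.S5353.prim_of_index hD hD2 h2 h3 L hLqs hF hidx
  have hperf : ⁅L, L⁆ = L := Cfsg.Agent.Lib.Helper11.component_perfect ⟨hLN.isSubnormal, hLqs⟩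
  have hCL : L = commutator G := by
    apply le_antisymm
    · rw [commutator_def, ← hperf]
      exact Subgroup.commutator_mono le_top le_top
    · rw [commutator_def, Subgroup.commutator_le]
      intro g₁ _ g₂ _
      by_cases hLt : L = ⊤
      · rw [hLt]; exact Subgroup.mem_top _
      · have hi2 : L.index = 2 := by
          have h0 : L.index ≠ 0 := Subgroup.index_ne_zero_of_finite
          have h1 : L.index ≠ 1 := by
            intro h
            rw [Subgroup.index_eq_one] at h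
            exact hLt h
          omega
        rw [commutatorElement_def]
        have e : g₁ * g₂ * g₁⁻¹ * g₂⁻¹ = (g₁ * g₂) * (g₂ * g₁)⁻¹ := by group
        rw [e, Subgroup.mul_mem_iff_of_index_two hi2, Subgroup.inv_mem_iff,
          Subgroup.mul_mem_iff_of_index_two hi2, Subgroup.mul_mem_iff_of_index_two hi2]
        tauto
  subst hCL
  exact ⟨hLqs, hidx, by rw [hF, sup_comm], hprim⟩

end Cores

/-- Let Q be a non-degenerate quadratic form on the n-dimensional coordinate space over the field with three elements, n ≥ 5, c a non-zero scalar, and R the subgroup of the isometry group generated by the reflections of norm c. Then the commutator subgroup of R is quasisimple of index at most 2, the generalized Fitting subgroup of R is the product of the centre and the commutator subgroup, and R acts primitively by conjugation on its reflections of norm c. -/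
theorem result (n : ℕ) (hn : 5 ≤ n) (Q : QuadraticForm (ZMod 3) (Fin n → ZMod 3)) (hQ : (QuadraticMap.polarBilin Q).Nondegenerate) (c : ZMod 3) (hc : c ≠ 0) : Cfsg.IsQuasisimple (commutator ↥(Cfsg.reflectionSubgroup (⇑Q) c)) ∧ (commutator ↥(Cfsg.reflectionSubgroup (⇑Q) c)).index ≤ 2 ∧ Cfsg.generalizedFittingSubgroup ↥(Cfsg.reflectionSubgroup (⇑Q) c) = Subgroup.center ↥(Cfsg.reflectionSubgroup (⇑Q) c) ⊔ commutator ↥(Cfsg.reflectionSubgroup (⇑Q) c) ∧ Cfsg.IsPrimitiveUnderConj {g : ↥(Cfsg.reflectionSubgroup (⇑Q) c) | (g : ↥(Cfsg.isometryGroup (ZMod 3) (⇑Q))) ∈ Cfsg.reflectionsOfNorm (⇑Q) c} := by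
  classical
  have hD := Cfsg.Agent.S5357.result n hn Q hQ c hc
  have hD' := hD
  obtain ⟨hTS, ⟨d0, hd0, hDconj⟩, hgen⟩ := hD
  -- a second member
  have hD2 : ∃ a ∈ {g : ↥(Cfsg.reflectionSubgroup (⇑Q) c) |
      (g : ↥(Cfsg.isometryGroup (ZMod 3) (⇑Q))) ∈ Cfsg.reflectionsOfNorm (⇑Q) c},
      ∃ b ∈ {g : ↥(Cfsg.reflectionSubgroup (⇑Q) c) |
      (g : ↥(Cfsg.isometryGroup (ZMod 3) (⇑Q))) ∈ Cfsg.reflectionsOfNorm (⇑Q) c}, a ≠ b := by
    obtain ⟨a, ha, hda⟩ := hd0
    obtain ⟨z, hz, haz⟩ := exists_perp1 Q hQ hn c hc a ha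
    obtain ⟨e, heD, he⟩ := exists_D Q c hc z hz
    refine ⟨d0, ⟨a, ha, hda⟩, e, heD, ?_⟩
    intro h
    have h5 : Cfsg.reflectionMatrix (⇑Q) a = Cfsg.reflectionMatrix (⇑Q) z := by
      have e1 : mat Q c d0 = mat Q c e := by rw [h]
      exact hda.symm.trans (e1.trans he)
    have h6 := ne_of_perp Q c hc a z ha haz
    rcases refl_eq Q c hc a z ha hz h5 with h7 | h7
    · exact h6.1 h7
    · exact h6.2 h7
  have hV : ∀ d ∈ {g : ↥(Cfsg.reflectionSubgroup (⇑Q) c) |
      (g : ↥(Cfsg.isometryGroup (ZMod 3) (⇑Q))) ∈ Cfsg.reflectionsOfNorm (⇑Q) c},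
      ({v : ↥(Cfsg.reflectionSubgroup (⇑Q) c) | v ∈ {g : ↥(Cfsg.reflectionSubgroup (⇑Q) c) |
      (g : ↥(Cfsg.isometryGroup (ZMod 3) (⇑Q))) ∈ Cfsg.reflectionsOfNorm (⇑Q) c} ∧
        ∀ e ∈ {g : ↥(Cfsg.reflectionSubgroup (⇑Q) c) |
      (g : ↥(Cfsg.isometryGroup (ZMod 3) (⇑Q))) ∈ Cfsg.reflectionsOfNorm (⇑Q) c},
        Commute v e ↔ Commute d e}).Subsingleton := by
    intro d hd
    have key : ∀ v ∈ {v : ↥(Cfsg.reflectionSubgroup (⇑Q) c) |
        v ∈ {g : ↥(Cfsg.reflectionSubgroup (⇑Q) c) |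
        (g : ↥(Cfsg.isometryGroup (ZMod 3) (⇑Q))) ∈ Cfsg.reflectionsOfNorm (⇑Q) c} ∧
        ∀ e ∈ {g : ↥(Cfsg.reflectionSubgroup (⇑Q) c) |
        (g : ↥(Cfsg.isometryGroup (ZMod 3) (⇑Q))) ∈ Cfsg.reflectionsOfNorm (⇑Q) c},
        Commute v e ↔ Commute d e}, v = d := by
      rintro v ⟨hvD, hv⟩
      obtain ⟨a, ha, hda⟩ := hd
      obtain ⟨b, hb, hvb⟩ := hvD
      by_cases hpm : b = a ∨ b = -a
      · exact eq_of_pm Q c d v a b hda hvb hpm
      · exfalso
        rw [not_or] at hpm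
        obtain ⟨h1, h2⟩ := hpm
        by_cases hab : QuadraticMap.polar (⇑Q) a b = 0
        · obtain ⟨w, hw, haw, hbw, hwb1, hwb2⟩ := exists_sep Q hQ hn c hc a b ha hb h1 h2
          obtain ⟨e, heD, he⟩ := exists_D Q c hc w hw
          have hwa := ne_of_perp Q c hc a w ha haw
          have hde : Commute d e :=
            (comm_iff Q hQ c hc d e a w ha hw hda he hwa.1 hwa.2).mpr haw
          have hve : Commute v e := (hv e heD).mpr hde
          exact hbw ((comm_iff Q hQ c hc v e b w hb hw hvb he hwb1 hwb2).mp hve)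
        · have hvd : Commute v d := (hv d ⟨a, ha, hda⟩).mpr (Commute.refl d)
          have h1' : a ≠ b := fun h => h1 h.symm
          have h2' : a ≠ -b := fun h => h2 (by rw [h, neg_neg])
          have h5 := (comm_iff Q hQ c hc v d b a hb ha hvb hda h1' h2').mp hvd
          rw [QuadraticMap.polar_comm] at h5
          exact hab h5
    intro x hx y hy
    rw [key x hx, key y hy]
  have hW : ∀ d ∈ {g : ↥(Cfsg.reflectionSubgroup (⇑Q) c) |
      (g : ↥(Cfsg.isometryGroup (ZMod 3) (⇑Q))) ∈ Cfsg.reflectionsOfNorm (⇑Q) c},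
      ({w : ↥(Cfsg.reflectionSubgroup (⇑Q) c) | w ∈ {g : ↥(Cfsg.reflectionSubgroup (⇑Q) c) |
      (g : ↥(Cfsg.isometryGroup (ZMod 3) (⇑Q))) ∈ Cfsg.reflectionsOfNorm (⇑Q) c} ∧
        {y : ↥(Cfsg.reflectionSubgroup (⇑Q) c) | y ∈ {g : ↥(Cfsg.reflectionSubgroup (⇑Q) c) |
      (g : ↥(Cfsg.isometryGroup (ZMod 3) (⇑Q))) ∈ Cfsg.reflectionsOfNorm (⇑Q) c} ∧ y ≠ d ∧
          Commute d y} =
        {y : ↥(Cfsg.reflectionSubgroup (⇑Q) c) | y ∈ {g : ↥(Cfsg.reflectionSubgroup (⇑Q) c) |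
      (g : ↥(Cfsg.isometryGroup (ZMod 3) (⇑Q))) ∈ Cfsg.reflectionsOfNorm (⇑Q) c} ∧ y ≠ w ∧
          Commute w y}}).Subsingleton := by
    intro d hd
    have key : ∀ v ∈ {w : ↥(Cfsg.reflectionSubgroup (⇑Q) c) |
        w ∈ {g : ↥(Cfsg.reflectionSubgroup (⇑Q) c) |
        (g : ↥(Cfsg.isometryGroup (ZMod 3) (⇑Q))) ∈ Cfsg.reflectionsOfNorm (⇑Q) c} ∧
        {y : ↥(Cfsg.reflectionSubgroup (⇑Q) c) | y ∈ {g : ↥(Cfsg.reflectionSubgroup (⇑Q) c) |
        (g : ↥(Cfsg.isometryGroup (ZMod 3) (⇑Q))) ∈ Cfsg.reflectionsOfNorm (⇑Q) c} ∧ y ≠ d ∧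
          Commute d y} =
        {y : ↥(Cfsg.reflectionSubgroup (⇑Q) c) | y ∈ {g : ↥(Cfsg.reflectionSubgroup (⇑Q) c) |
        (g : ↥(Cfsg.isometryGroup (ZMod 3) (⇑Q))) ∈ Cfsg.reflectionsOfNorm (⇑Q) c} ∧ y ≠ w ∧
          Commute w y}}, v = d := by
      rintro v ⟨hvD, hv⟩
      have hvD' := hvD
      obtain ⟨a, ha, hda⟩ := hd
      obtain ⟨b, hb, hvb⟩ := hvD
      by_cases hpm : b = a ∨ b = -a
      · exact eq_of_pm Q c d v a b hda hvb hpm
      · exfalso
        rw [not_or] at hpm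
        obtain ⟨h1, h2⟩ := hpm
        have hvd : v ≠ d := by
          intro h
          have h5 : Cfsg.reflectionMatrix (⇑Q) a = Cfsg.reflectionMatrix (⇑Q) b := by
            have e1 : mat Q c d = mat Q c v := by rw [h]
            exact hda.symm.trans (e1.trans hvb)
          rcases refl_eq Q c hc a b ha hb h5 with h7 | h7
          · exact h1 h7
          · exact h2 h7
        by_cases hab : QuadraticMap.polar (⇑Q) a b = 0
        · have hdv : Commute d v := (comm_iff Q hQ c hc d v a b ha hb hda hvb h1 h2).mpr hab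
          have h5 : v ∈ {y : ↥(Cfsg.reflectionSubgroup (⇑Q) c) |
              y ∈ {g : ↥(Cfsg.reflectionSubgroup (⇑Q) c) |
              (g : ↥(Cfsg.isometryGroup (ZMod 3) (⇑Q))) ∈ Cfsg.reflectionsOfNorm (⇑Q) c} ∧
              y ≠ d ∧ Commute d y} := ⟨hvD', hvd, hdv⟩
          rw [hv] at h5
          exact h5.2.1 rfl
        · obtain ⟨w, hw, haw, hbw, hwb1, hwb2⟩ := exists_sep Q hQ hn c hc a b ha hb h1 h2
          obtain ⟨e, heD, he⟩ := exists_D Q c hc w hw
          have hwa := ne_of_perp Q c hc a w ha haw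
          have hde : Commute d e :=
            (comm_iff Q hQ c hc d e a w ha hw hda he hwa.1 hwa.2).mpr haw
          have hed : e ≠ d := by
            intro h
            have h5 : Cfsg.reflectionMatrix (⇑Q) a = Cfsg.reflectionMatrix (⇑Q) w := by
              have e1 : mat Q c d = mat Q c e := by rw [h]
              exact hda.symm.trans (e1.trans he)
            rcases refl_eq Q c hc a w ha hw h5 with h7 | h7
            · exact hwa.1 h7
            · exact hwa.2 h7
          have h5 : e ∈ {y : ↥(Cfsg.reflectionSubgroup (⇑Q) c) |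
              y ∈ {g : ↥(Cfsg.reflectionSubgroup (⇑Q) c) |
              (g : ↥(Cfsg.isometryGroup (ZMod 3) (⇑Q))) ∈ Cfsg.reflectionsOfNorm (⇑Q) c} ∧
              y ≠ d ∧ Commute d y} := ⟨heD, hed, hde⟩
          rw [hv] at h5
          exact hbw ((comm_iff Q hQ c hc v e b w hb hw hvb he hwb1 hwb2).mp h5.2.2)
    intro x hx y hy
    rw [key x hx, key y hy]
  have h2 := core_two_of_sub hD' hD2 hV
  have h3 := core_three_of_sub hD' hD2 hW
  have hconn : (Cfsg.commutingGraph {g : ↥(Cfsg.reflectionSubgroup (⇑Q) c) |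
      (g : ↥(Cfsg.isometryGroup (ZMod 3) (⇑Q))) ∈ Cfsg.reflectionsOfNorm (⇑Q) c}).Connected := by
    have hne : Nonempty ↥{g : ↥(Cfsg.reflectionSubgroup (⇑Q) c) |
      (g : ↥(Cfsg.isometryGroup (ZMod 3) (⇑Q))) ∈ Cfsg.reflectionsOfNorm (⇑Q) c} := ⟨⟨d0, hd0⟩⟩
    rw [SimpleGraph.connected_iff]
    refine ⟨?_, hne⟩
    rintro ⟨u, huD⟩ ⟨v, hvD⟩
    have huD' := huD
    have hvD' := hvD
    obtain ⟨a, ha, hua⟩ := huD
    obtain ⟨b, hb, hvb⟩ := hvD
    by_cases hpm : b = a ∨ b = -a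
    · have h5 := eq_of_pm Q c u v a b hua hvb hpm
      subst h5
      exact SimpleGraph.Reachable.refl _
    · rw [not_or] at hpm
      obtain ⟨h1, h2'⟩ := hpm
      have hadj : ∀ (x y : ↥(Cfsg.reflectionSubgroup (⇑Q) c))
          (hx : x ∈ {g : ↥(Cfsg.reflectionSubgroup (⇑Q) c) |
            (g : ↥(Cfsg.isometryGroup (ZMod 3) (⇑Q))) ∈ Cfsg.reflectionsOfNorm (⇑Q) c})
          (hy : y ∈ {g : ↥(Cfsg.reflectionSubgroup (⇑Q) c) |
            (g : ↥(Cfsg.isometryGroup (ZMod 3) (⇑Q))) ∈ Cfsg.reflectionsOfNorm (⇑Q) c})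
          (p q : Fin n → ZMod 3) (hp : Q p = c) (hq : Q q = c)
          (hxp : mat Q c x = Cfsg.reflectionMatrix (⇑Q) p)
          (hyq : mat Q c y = Cfsg.reflectionMatrix (⇑Q) q)
          (hpq : QuadraticMap.polar (⇑Q) p q = 0),
          (Cfsg.commutingGraph {g : ↥(Cfsg.reflectionSubgroup (⇑Q) c) |
            (g : ↥(Cfsg.isometryGroup (ZMod 3) (⇑Q))) ∈ Cfsg.reflectionsOfNorm (⇑Q) c}).Adj
            ⟨x, hx⟩ ⟨y, hy⟩ := by
        intro x y hx hy p q hp hq hxp hyq hpq
        have hqp := ne_of_perp Q c hc p q hp hpq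
        rw [Cfsg.commutingGraph, SimpleGraph.fromRel_adj]
        refine ⟨?_, Or.inl ((comm_iff Q hQ c hc x y p q hp hq hxp hyq hqp.1 hqp.2).mpr hpq)⟩
        intro h
        have h' : x = y := congrArg Subtype.val h
        have h5 : Cfsg.reflectionMatrix (⇑Q) p = Cfsg.reflectionMatrix (⇑Q) q := by
          have e1 : mat Q c x = mat Q c y := by rw [h']
          exact hxp.symm.trans (e1.trans hyq)
        rcases refl_eq Q c hc p q hp hq h5 with h7 | h7
        · exact hqp.1 h7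
        · exact hqp.2 h7
      by_cases hab : QuadraticMap.polar (⇑Q) a b = 0
      · exact (hadj u v huD' hvD' a b ha hb hua hvb hab).reachable
      · obtain ⟨z, hz, haz, hbz⟩ := exists_common Q hQ hn c hc a b ha hb h1 h2' hab
        obtain ⟨e, heD, he⟩ := exists_D Q c hc z hz
        have hzb : QuadraticMap.polar (⇑Q) z b = 0 := by rw [QuadraticMap.polar_comm]; exact hbz
        exact (hadj u e huD' heD a z ha hz hua he haz).reachable.trans
          (hadj e v heD hvD' z b hz hb he hvb hzb).reachable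
  exact struct_of_conn hD' hD2 h2 h3 hconn

end Cfsg.Agent.S5360
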