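import Cfsg.Statements.S5365
import Cfsg.Agent.S5355
import Cfsg.Agent.S5350
import Cfsg.Agent.Lib.Helper28.ThreeTransp
import Cfsg.Agent.Lib.Helper1.Cores

set_option autoImplicit false
open Cfsg

namespace Cfsg.Agent.S5365


set_option linter.unusedSimpArgs false

section Rec

variable {M : Type*} [Group M]

/-- The relations of the symmetric group of degree five on four involutions. -/
structure Rel5 (a b c e : M) : Prop where
  aa : a * a = 1
  bb : b * b = 1
  cc : c * c = 1
  ee : e * e = 1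
  ca : c * a = a * c
  ea : e * a = a * e
  eb : e * b = b * e
  bab : b * a * b = a * b * a
  cbc : c * b * c = b * c * b
  ece : e * c * e = c * e * c

namespace Rel5

variable {a b c e : M}

theorem r1 (h : Rel5 a b c e) (t : M) : a * (a * t) = t := by rw [← mul_assoc, h.aa, one_mul]

theorem r2 (h : Rel5 a b c e) (t : M) : b * (b * t) = t := by rw [← mul_assoc, h.bb, one_mul]

theorem r3 (h : Rel5 a b c e) (t : M) : c * (c * t) = t := by rw [← mul_assoc, h.cc, one_mul]

theorem r4 (h : Rel5 a b c e) (t : M) : e * (e * t) = t := by rw [← mul_assoc, h.ee, one_mul]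

theorem rca (h : Rel5 a b c e) (t : M) : c * (a * t) = a * (c * t) := by
  rw [← mul_assoc, h.ca, mul_assoc]

theorem rea (h : Rel5 a b c e) (t : M) : e * (a * t) = a * (e * t) := by
  rw [← mul_assoc, h.ea, mul_assoc]

theorem reb (h : Rel5 a b c e) (t : M) : e * (b * t) = b * (e * t) := by
  rw [← mul_assoc, h.eb, mul_assoc]

theorem rbab (h : Rel5 a b c e) (t : M) : b * (a * (b * t)) = a * (b * (a * t)) := by
  rw [← mul_assoc, ← mul_assoc, h.bab, mul_assoc, mul_assoc]

theorem rbab' (h : Rel5 a b c e) : b * (a * b) = a * (b * a) := by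
  rw [← mul_assoc, h.bab, mul_assoc]

theorem rcbc (h : Rel5 a b c e) (t : M) : c * (b * (c * t)) = b * (c * (b * t)) := by
  rw [← mul_assoc, ← mul_assoc, h.cbc, mul_assoc, mul_assoc]

theorem rcbc' (h : Rel5 a b c e) : c * (b * c) = b * (c * b) := by
  rw [← mul_assoc, h.cbc, mul_assoc]

theorem rece (h : Rel5 a b c e) (t : M) : e * (c * (e * t)) = c * (e * (c * t)) := by
  rw [← mul_assoc, ← mul_assoc, h.ece, mul_assoc, mul_assoc]

theorem rece' (h : Rel5 a b c e) : e * (c * e) = c * (e * c) := by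
  rw [← mul_assoc, h.ece, mul_assoc]

end Rel5

/-- the four generators -/
def gen (a b c e : M) : Fin 4 → M := ![a, b, c, e]

/-- the five coset representatives -/
def cj (a b c e : M) : Fin 5 → M := ![a * b * c * e, b * c * e, c * e, e, 1]

theorem tab {a b c e : M} (h : Rel5 a b c e) (m : Fin 4) (j : Fin 5) :
    ∃ k ∈ Subgroup.closure ({a, b, c} : Set M),
      gen a b c e m * cj a b c e j = cj a b c e (Equiv.swap m.castSucc m.succ j) * k := by
  have haK : a ∈ Subgroup.closure ({a, b, c} : Set M) := Subgroup.subset_closure (by simp)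
  have hbK : b ∈ Subgroup.closure ({a, b, c} : Set M) := Subgroup.subset_closure (by simp)
  have hcK : c ∈ Subgroup.closure ({a, b, c} : Set M) := Subgroup.subset_closure (by simp)
  fin_cases m <;> fin_cases j
  · exact ⟨1, Subgroup.one_mem _, by
      show a * (a * b * c * e) = (b * c * e) * 1
      simp only [mul_assoc, mul_one, one_mul, h.aa, h.bb, h.cc, h.ee, h.ca, h.ea, h.eb, h.r1, h.r2, h.r3, h.r4, h.rca, h.rea, h.reb, h.rbab, h.rbab', h.rcbc, h.rcbc', h.rece, h.rece']⟩
  · exact ⟨1, Subgroup.one_mem _, by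
      show a * (b * c * e) = (a * b * c * e) * 1
      simp only [mul_assoc, mul_one, one_mul, h.aa, h.bb, h.cc, h.ee, h.ca, h.ea, h.eb, h.r1, h.r2, h.r3, h.r4, h.rca, h.rea, h.reb, h.rbab, h.rbab', h.rcbc, h.rcbc', h.rece, h.rece']⟩
  · exact ⟨a, haK, by
      show a * (c * e) = (c * e) * a
      simp only [mul_assoc, mul_one, one_mul, h.aa, h.bb, h.cc, h.ee, h.ca, h.ea, h.eb, h.r1, h.r2, h.r3, h.r4, h.rca, h.rea, h.reb, h.rbab, h.rbab', h.rcbc, h.rcbc', h.rece, h.rece']⟩
  · exact ⟨a, haK, by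
      show a * (e) = (e) * a
      simp only [mul_assoc, mul_one, one_mul, h.aa, h.bb, h.cc, h.ee, h.ca, h.ea, h.eb, h.r1, h.r2, h.r3, h.r4, h.rca, h.rea, h.reb, h.rbab, h.rbab', h.rcbc, h.rcbc', h.rece, h.rece']⟩
  · exact ⟨a, haK, by
      show a * (1) = (1) * a
      simp only [mul_assoc, mul_one, one_mul, h.aa, h.bb, h.cc, h.ee, h.ca, h.ea, h.eb, h.r1, h.r2, h.r3, h.r4, h.rca, h.rea, h.reb, h.rbab, h.rbab', h.rcbc, h.rcbc', h.rece, h.rece']⟩
  · exact ⟨a, haK, by
      show b * (a * b * c * e) = (a * b * c * e) * a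
      simp only [mul_assoc, mul_one, one_mul, h.aa, h.bb, h.cc, h.ee, h.ca, h.ea, h.eb, h.r1, h.r2, h.r3, h.r4, h.rca, h.rea, h.reb, h.rbab, h.rbab', h.rcbc, h.rcbc', h.rece, h.rece']⟩
  · exact ⟨1, Subgroup.one_mem _, by
      show b * (b * c * e) = (c * e) * 1
      simp only [mul_assoc, mul_one, one_mul, h.aa, h.bb, h.cc, h.ee, h.ca, h.ea, h.eb, h.r1, h.r2, h.r3, h.r4, h.rca, h.rea, h.reb, h.rbab, h.rbab', h.rcbc, h.rcbc', h.rece, h.rece']⟩
  · exact ⟨1, Subgroup.one_mem _, by
      show b * (c * e) = (b * c * e) * 1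
      simp only [mul_assoc, mul_one, one_mul, h.aa, h.bb, h.cc, h.ee, h.ca, h.ea, h.eb, h.r1, h.r2, h.r3, h.r4, h.rca, h.rea, h.reb, h.rbab, h.rbab', h.rcbc, h.rcbc', h.rece, h.rece']⟩
  · exact ⟨b, hbK, by
      show b * (e) = (e) * b
      simp only [mul_assoc, mul_one, one_mul, h.aa, h.bb, h.cc, h.ee, h.ca, h.ea, h.eb, h.r1, h.r2, h.r3, h.r4, h.rca, h.rea, h.reb, h.rbab, h.rbab', h.rcbc, h.rcbc', h.rece, h.rece']⟩
  · exact ⟨b, hbK, by
      show b * (1) = (1) * b
      simp only [mul_assoc, mul_one, one_mul, h.aa, h.bb, h.cc, h.ee, h.ca, h.ea, h.eb, h.r1, h.r2, h.r3, h.r4, h.rca, h.rea, h.reb, h.rbab, h.rbab', h.rcbc, h.rcbc', h.rece, h.rece']⟩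
  · exact ⟨b, hbK, by
      show c * (a * b * c * e) = (a * b * c * e) * b
      simp only [mul_assoc, mul_one, one_mul, h.aa, h.bb, h.cc, h.ee, h.ca, h.ea, h.eb, h.r1, h.r2, h.r3, h.r4, h.rca, h.rea, h.reb, h.rbab, h.rbab', h.rcbc, h.rcbc', h.rece, h.rece']⟩
  · exact ⟨b, hbK, by
      show c * (b * c * e) = (b * c * e) * b
      simp only [mul_assoc, mul_one, one_mul, h.aa, h.bb, h.cc, h.ee, h.ca, h.ea, h.eb, h.r1, h.r2, h.r3, h.r4, h.rca, h.rea, h.reb, h.rbab, h.rbab', h.rcbc, h.rcbc', h.rece, h.rece']⟩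
  · exact ⟨1, Subgroup.one_mem _, by
      show c * (c * e) = (e) * 1
      simp only [mul_assoc, mul_one, one_mul, h.aa, h.bb, h.cc, h.ee, h.ca, h.ea, h.eb, h.r1, h.r2, h.r3, h.r4, h.rca, h.rea, h.reb, h.rbab, h.rbab', h.rcbc, h.rcbc', h.rece, h.rece']⟩
  · exact ⟨1, Subgroup.one_mem _, by
      show c * (e) = (c * e) * 1
      simp only [mul_assoc, mul_one, one_mul, h.aa, h.bb, h.cc, h.ee, h.ca, h.ea, h.eb, h.r1, h.r2, h.r3, h.r4, h.rca, h.rea, h.reb, h.rbab, h.rbab', h.rcbc, h.rcbc', h.rece, h.rece']⟩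
  · exact ⟨c, hcK, by
      show c * (1) = (1) * c
      simp only [mul_assoc, mul_one, one_mul, h.aa, h.bb, h.cc, h.ee, h.ca, h.ea, h.eb, h.r1, h.r2, h.r3, h.r4, h.rca, h.rea, h.reb, h.rbab, h.rbab', h.rcbc, h.rcbc', h.rece, h.rece']⟩
  · exact ⟨c, hcK, by
      show e * (a * b * c * e) = (a * b * c * e) * c
      simp only [mul_assoc, mul_one, one_mul, h.aa, h.bb, h.cc, h.ee, h.ca, h.ea, h.eb, h.r1, h.r2, h.r3, h.r4, h.rca, h.rea, h.reb, h.rbab, h.rbab', h.rcbc, h.rcbc', h.rece, h.rece']⟩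
  · exact ⟨c, hcK, by
      show e * (b * c * e) = (b * c * e) * c
      simp only [mul_assoc, mul_one, one_mul, h.aa, h.bb, h.cc, h.ee, h.ca, h.ea, h.eb, h.r1, h.r2, h.r3, h.r4, h.rca, h.rea, h.reb, h.rbab, h.rbab', h.rcbc, h.rcbc', h.rece, h.rece']⟩
  · exact ⟨c, hcK, by
      show e * (c * e) = (c * e) * c
      simp only [mul_assoc, mul_one, one_mul, h.aa, h.bb, h.cc, h.ee, h.ca, h.ea, h.eb, h.r1, h.r2, h.r3, h.r4, h.rca, h.rea, h.reb, h.rbab, h.rbab', h.rcbc, h.rcbc', h.rece, h.rece']⟩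
  · exact ⟨1, Subgroup.one_mem _, by
      show e * (e) = (1) * 1
      simp only [mul_assoc, mul_one, one_mul, h.aa, h.bb, h.cc, h.ee, h.ca, h.ea, h.eb, h.r1, h.r2, h.r3, h.r4, h.rca, h.rea, h.reb, h.rbab, h.rbab', h.rcbc, h.rcbc', h.rece, h.rece']⟩
  · exact ⟨1, Subgroup.one_mem _, by
      show e * (1) = (e) * 1
      simp only [mul_assoc, mul_one, one_mul, h.aa, h.bb, h.cc, h.ee, h.ca, h.ea, h.eb, h.r1, h.r2, h.r3, h.r4, h.rca, h.rea, h.reb, h.rbab, h.rbab', h.rcbc, h.rcbc', h.rece, h.rece']⟩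

theorem enum {a b c e : M} (h : Rel5 a b c e) (x : M)
    (hx : x ∈ Subgroup.closure ({a, b, c, e} : Set M)) :
    ∃ j : Fin 5, ∃ k ∈ Subgroup.closure ({a, b, c} : Set M), x = cj a b c e j * k := by
  have step : ∀ y : M, (∃ j : Fin 5, ∃ k ∈ Subgroup.closure ({a, b, c} : Set M),
      y = cj a b c e j * k) → ∀ s : M, (s = a ∨ s = b ∨ s = c ∨ s = e) →
      ∃ j : Fin 5, ∃ k ∈ Subgroup.closure ({a, b, c} : Set M), s * y = cj a b c e j * k := by
    rintro y ⟨j, k, hk, hy⟩ s hs
    have hm : ∃ m : Fin 4, s = gen a b c e m := by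
      rcases hs with rfl | rfl | rfl | rfl
      · exact ⟨0, rfl⟩
      · exact ⟨1, rfl⟩
      · exact ⟨2, rfl⟩
      · exact ⟨3, rfl⟩
    obtain ⟨m, rfl⟩ := hm
    obtain ⟨k', hk', e1⟩ := tab h m j
    exact ⟨_, k' * k, Subgroup.mul_mem _ hk' hk, by rw [hy, ← mul_assoc, e1, mul_assoc]⟩
  induction hx using Subgroup.closure_induction_left with
  | one => exact ⟨4, 1, Subgroup.one_mem _, by simp [cj]⟩
  | mul_left s hs y _ ih => exact step y ih s (by simpa using hs)
  | inv_mul_cancel s hs y _ ih =>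
    have hs' : s = a ∨ s = b ∨ s = c ∨ s = e := by simpa using hs
    have e1 : s⁻¹ = s := by
      rcases hs' with rfl | rfl | rfl | rfl
      · exact inv_eq_of_mul_eq_one_right h.aa
      · exact inv_eq_of_mul_eq_one_right h.bb
      · exact inv_eq_of_mul_eq_one_right h.cc
      · exact inv_eq_of_mul_eq_one_right h.ee
    rw [e1]
    exact step y ih s hs'

theorem rel3_of_rel5 {a b c e : M} (h : Rel5 a b c e) : Cfsg.Agent.S5355.Rel a b c :=
  ⟨h.aa, h.bb, h.cc, h.ca, h.bab, h.cbc⟩

theorem card_K {a b c e : M} (h : Rel5 a b c e) :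
    Finite ↥(Subgroup.closure ({a, b, c} : Set M)) ∧
      Nat.card ↥(Subgroup.closure ({a, b, c} : Set M)) ≤ 24 := by
  classical
  have h3 := rel3_of_rel5 h
  let F : Fin 6 × Fin 4 → M := fun p =>
    (![1, a, b, a * b, b * a, a * (b * a)] : Fin 6 → M) p.1 *
      (![1, c, c * b, c * (b * a)] : Fin 4 → M) p.2
  have hF : ∀ x : ↥(Subgroup.closure ({a, b, c} : Set M)), ∃ p : Fin 6 × Fin 4, F p = x := by
    intro x
    obtain ⟨k, hk, hx⟩ := Cfsg.Agent.S5355.coset_enum h3 x.1 x.2
    have hk' := Cfsg.Agent.S5355.mem_H h3 hk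
    have h1 : ∃ i : Fin 6, (![1, a, b, a * b, b * a, a * (b * a)] : Fin 6 → M) i = k := by
      rcases hk' with rfl | rfl | rfl | rfl | rfl | rfl
      · exact ⟨0, rfl⟩
      · exact ⟨1, rfl⟩
      · exact ⟨2, rfl⟩
      · exact ⟨3, rfl⟩
      · exact ⟨4, rfl⟩
      · exact ⟨5, rfl⟩
    obtain ⟨i, hi⟩ := h1
    rcases hx with hx | hx | hx | hx
    · exact ⟨(i, 0), by show _ * (1 : M) = _; rw [hi, mul_one, hx]⟩
    · exact ⟨(i, 1), by show _ * c = _; rw [hi, hx]⟩
    · exact ⟨(i, 2), by show _ * (c * b) = _; rw [hi, hx]⟩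
    · exact ⟨(i, 3), by show _ * (c * (b * a)) = _; rw [hi, hx]⟩
  choose f hf using hF
  have hinj : Function.Injective f := by
    intro x y hxy
    apply Subtype.ext
    rw [← hf x, ← hf y, hxy]
  refine ⟨Finite.of_injective f hinj, ?_⟩
  have h1 := Nat.card_le_card_of_injective f hinj
  rw [Nat.card_prod, Nat.card_fin, Nat.card_fin] at h1
  exact h1

theorem card_M {a b c e : M} (h : Rel5 a b c e)
    (hgen : Subgroup.closure ({a, b, c, e} : Set M) = ⊤) : Finite M ∧ Nat.card M ≤ 120 := by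
  classical
  obtain ⟨hfin, hcard⟩ := card_K h
  have hF : ∀ x : M, ∃ p : Fin 5 × ↥(Subgroup.closure ({a, b, c} : Set M)),
      cj a b c e p.1 * (p.2 : M) = x := by
    intro x
    obtain ⟨j, k, hk, hx⟩ := enum h x (by rw [hgen]; exact Subgroup.mem_top x)
    exact ⟨(j, ⟨k, hk⟩), hx.symm⟩
  choose f hf using hF
  have hinj : Function.Injective f := by
    intro x y hxy
    rw [← hf x, ← hf y, hxy]
  refine ⟨Finite.of_injective f hinj, ?_⟩
  have h1 := Nat.card_le_card_of_injective f hinj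
  rw [Nat.card_prod, Nat.card_fin] at h1
  omega

theorem exists_perm (i j : Fin 5) (hij : i ≠ j) :
    ∃ σ : Equiv.Perm (Fin 5), σ i = 3 ∧ σ j = 4 := by
  refine ⟨Equiv.swap (Equiv.swap i 3 j) 4 * Equiv.swap i 3, ?_, ?_⟩
  · rw [Equiv.Perm.mul_apply, Equiv.swap_apply_left]
    apply Equiv.swap_apply_of_ne_of_ne
    · intro h
      have h2 : Equiv.swap i 3 j = Equiv.swap i 3 i := by rw [Equiv.swap_apply_left]; exact h.symm
      exact hij ((Equiv.swap i 3).injective h2).symm
    · decide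
  · rw [Equiv.Perm.mul_apply, Equiv.swap_apply_left]

/-- recognition of the symmetric group of degree five -/
theorem s5_of_rel {a b c e : M} (h : Rel5 a b c e)
    (hgen : Subgroup.closure ({a, b, c, e} : Set M) = ⊤)
    (he : e ∉ Subgroup.closure ({a, b, c} : Set M)) :
    Nonempty (M ≃* Equiv.Perm (Fin 5)) := by
  classical
  obtain ⟨hfin, hcard⟩ := card_M h hgen
  let x : Fin 5 → M ⧸ Subgroup.closure ({a, b, c} : Set M) :=
    fun j => QuotientGroup.mk (cj a b c e j)
  have hact : ∀ (m : Fin 4) (j : Fin 5),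
      gen a b c e m • x j = x (Equiv.swap m.castSucc m.succ j) := by
    intro m j
    obtain ⟨k, hk, e1⟩ := tab h m j
    show (QuotientGroup.mk (gen a b c e m * cj a b c e j) :
      M ⧸ Subgroup.closure ({a, b, c} : Set M)) = QuotientGroup.mk _
    rw [e1, QuotientGroup.eq]
    have e2 : (cj a b c e (Equiv.swap m.castSucc m.succ j) * k)⁻¹ *
        cj a b c e (Equiv.swap m.castSucc m.succ j) = k⁻¹ := by group
    rw [e2]
    exact Subgroup.inv_mem _ hk
  have hsurj : ∀ y : M ⧸ Subgroup.closure ({a, b, c} : Set M), ∃ j, x j = y := by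
    intro y
    obtain ⟨g, rfl⟩ := QuotientGroup.mk_surjective y
    obtain ⟨j, k, hk, hx⟩ := enum h g (by rw [hgen]; exact Subgroup.mem_top g)
    refine ⟨j, ?_⟩
    show (QuotientGroup.mk (cj a b c e j) : M ⧸ Subgroup.closure ({a, b, c} : Set M)) =
      QuotientGroup.mk g
    rw [QuotientGroup.eq, hx]
    have e2 : (cj a b c e j)⁻¹ * (cj a b c e j * k) = k := by group
    rw [e2]
    exact hk
  have hall : ∀ σ : Equiv.Perm (Fin 5),
      σ ∈ Submonoid.closure (Set.range fun i : Fin 4 => Equiv.swap i.castSucc i.succ) := by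
    intro σ
    rw [Equiv.Perm.mclosure_swap_castSucc_succ]
    exact Submonoid.mem_top σ
  have hperm : ∀ σ : Equiv.Perm (Fin 5), ∀ i j, x i = x j → x (σ i) = x (σ j) := by
    intro σ
    induction hall σ using Submonoid.closure_induction with
    | mem σ hσ =>
      obtain ⟨m, rfl⟩ := hσ
      intro i j hij
      rw [← hact m i, ← hact m j, hij]
    | one => intro i j hij; exact hij
    | mul σ τ _ _ ih1 ih2 => intro i j hij; exact ih1 _ _ (ih2 i j hij)
  have hinj : Function.Injective x := by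
    intro i j hij
    by_contra hne
    obtain ⟨σ, h1, h2⟩ := exists_perm i j hne
    have h3 := hperm σ i j hij
    rw [h1, h2] at h3
    have h4 : (QuotientGroup.mk e : M ⧸ Subgroup.closure ({a, b, c} : Set M)) =
        QuotientGroup.mk 1 := h3
    rw [QuotientGroup.eq, mul_one] at h4
    exact he (by simpa using Subgroup.inv_mem _ h4)
  let ε : Fin 5 ≃ M ⧸ Subgroup.closure ({a, b, c} : Set M) :=
    Equiv.ofBijective x ⟨hinj, hsurj⟩
  let ρ : M →* Equiv.Perm (M ⧸ Subgroup.closure ({a, b, c} : Set M)) :=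
    MulAction.toPermHom M (M ⧸ Subgroup.closure ({a, b, c} : Set M))
  let ρ' : M →* Equiv.Perm (Fin 5) := (ε.symm.permCongrHom.toMonoidHom).comp ρ
  have hρ : ∀ m : Fin 4, ρ' (gen a b c e m) = Equiv.swap m.castSucc m.succ := by
    intro m
    apply Equiv.ext
    intro j
    show ε.symm (gen a b c e m • ε j) = _
    rw [Equiv.symm_apply_eq]
    exact hact m j
  have hsur : Function.Surjective ρ' := by
    intro σ
    have hle : Submonoid.closure (Set.range fun i : Fin 4 => Equiv.swap i.castSucc i.succ) ≤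
        MonoidHom.mrange ρ' := by
      rw [Submonoid.closure_le]
      rintro _ ⟨m, rfl⟩
      exact ⟨gen a b c e m, hρ m⟩
    exact hle (hall σ)
  have hbij : Function.Bijective ρ' := by
    apply hsur.bijective_of_nat_card_le
    rw [Nat.card_perm, Nat.card_fin]
    exact hcard
  exact ⟨MulEquiv.ofBijective ρ' hbij⟩

end Rec

section Main

open Cfsg.Agent.Lib.Helper28 Cfsg.Agent.S5350

variable {G : Type*} [Group G]

theorem p3_nc : ∀ σ τ : Equiv.Perm (Fin 3), σ * σ = 1 → τ * τ = 1 → σ ≠ 1 → τ ≠ 1 → σ ≠ τ →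
    σ * τ ≠ τ * σ := by decide

theorem p3_third : ∀ σ τ ρ : Equiv.Perm (Fin 3), (σ * σ = 1 ∧ τ * τ = 1 ∧ ρ * ρ = 1 ∧ σ ≠ 1 ∧
    τ ≠ 1 ∧ ρ ≠ 1 ∧ σ ≠ τ) → (ρ = σ ∨ ρ = τ ∨ ρ = σ * τ * σ) := by decide

theorem p3_center : ∀ σ : Equiv.Perm (Fin 3), (∀ τ : Equiv.Perm (Fin 3), σ * τ = τ * σ) →
    σ = 1 := by decide

theorem p3_noncomm : (Equiv.swap (0 : Fin 3) 1) * (Equiv.swap (0 : Fin 3) 2) ≠
    (Equiv.swap (0 : Fin 3) 2) * (Equiv.swap (0 : Fin 3) 1) := by decide

/-- the commuting partners of a point form a line -/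
theorem line_struct {D : Set G} (hD : Cfsg.IsThreeTranspositionSet D) {z : G}
    (φ : ↥(Subgroup.closure (Pt D z)) ≃* Equiv.Perm (Fin 3)) {p q : G} (hp : p ∈ Pt D z)
    (hq : q ∈ Pt D z) (hpq : p ≠ q) :
    ¬ Commute p q ∧ ∀ y ∈ Pt D z, y = p ∨ y = q ∨ y = p * q * p := by
  have key : ∀ (y : G) (hy : y ∈ Pt D z),
      φ ⟨y, Subgroup.subset_closure hy⟩ * φ ⟨y, Subgroup.subset_closure hy⟩ = 1 ∧
      φ ⟨y, Subgroup.subset_closure hy⟩ ≠ 1 := by
    intro y hy
    have hyy := tt_mul_self hD hy.1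
    constructor
    · rw [← map_mul]
      have e1 : (⟨y, Subgroup.subset_closure hy⟩ : ↥(Subgroup.closure (Pt D z))) *
          ⟨y, Subgroup.subset_closure hy⟩ = 1 := Subtype.ext hyy
      rw [e1, map_one]
    · intro h
      have h1 : (⟨y, Subgroup.subset_closure hy⟩ : ↥(Subgroup.closure (Pt D z))) = 1 :=
        φ.injective (by rw [h, map_one])
      have h2 : y = 1 := congrArg Subtype.val h1
      have h3 := hD.1 y hy.1
      rw [h2, orderOf_one] at h3
      norm_num at h3
  have hPQ : φ ⟨p, Subgroup.subset_closure hp⟩ ≠ φ ⟨q, Subgroup.subset_closure hq⟩ :=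
    fun h => hpq (congrArg Subtype.val (φ.injective h))
  refine ⟨?_, ?_⟩
  · intro hc
    apply p3_nc _ _ (key p hp).1 (key q hq).1 (key p hp).2 (key q hq).2 hPQ
    rw [← map_mul, ← map_mul]
    congr 1
    exact Subtype.ext hc.eq
  · intro y hy
    rcases p3_third _ _ _ ⟨(key p hp).1, (key q hq).1, (key y hy).1, (key p hp).2, (key q hq).2,
      (key y hy).2, hPQ⟩ with h | h | h
    · left; exact congrArg Subtype.val (φ.injective h)
    · right; left; exact congrArg Subtype.val (φ.injective h)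
    · right; right
      have h' : φ ⟨y, Subgroup.subset_closure hy⟩ =
          φ (⟨p, Subgroup.subset_closure hp⟩ * ⟨q, Subgroup.subset_closure hq⟩ *
            ⟨p, Subgroup.subset_closure hp⟩) := by
        rw [map_mul, map_mul]; exact h
      exact congrArg Subtype.val (φ.injective h')

theorem exists_two {D : Set G} {z : G}
    (φ : ↥(Subgroup.closure (Pt D z)) ≃* Equiv.Perm (Fin 3)) :
    ∃ p q, p ∈ Pt D z ∧ q ∈ Pt D z ∧ p ≠ q := by
  by_contra hcon
  have hall : ∀ p ∈ Pt D z, ∀ q ∈ Pt D z, p * q = q * p := by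
    intro p hp q hq
    by_contra hne
    exact hcon ⟨p, q, hp, hq, fun h => hne (by rw [h])⟩
  have hcomm : ∀ X Y : ↥(Subgroup.closure (Pt D z)), X * Y = Y * X := by
    intro X Y
    have := Subgroup.isMulCommutative_closure hall
    exact mul_comm' X Y
  apply p3_noncomm
  have h1 := hcomm (φ.symm (Equiv.swap (0 : Fin 3) 1)) (φ.symm (Equiv.swap (0 : Fin 3) 2))
  have h2 := congrArg φ h1
  rw [map_mul, map_mul, MulEquiv.apply_symm_apply, MulEquiv.apply_symm_apply] at h2
  exact h2

theorem third_mem {D : Set G} (hD : Cfsg.IsThreeTranspositionSet D)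
    (hconj : ∀ g : G, ∀ d ∈ D, g * d * g⁻¹ ∈ D) {z p q : G} (hp : p ∈ Pt D z)
    (hq : q ∈ Pt D z) : p * q * p ∈ Pt D z := by
  have hpp := tt_mul_self hD hp.1
  have hpi := tt_inv hD hp.1
  refine ⟨?_, ?_, ?_⟩
  · have h1 := hconj p q hq.1
    rwa [hpi] at h1
  · intro h
    apply hq.2.1
    have hzp : z * p = p * z := hp.2.2.eq
    calc q = p * (p * q * p) * p := by
          rw [show p * (p * q * p) * p = (p * p) * q * (p * p) by group, hpp, one_mul, mul_one]
      _ = p * z * p := by rw [h]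
      _ = z * (p * p) := by rw [← hzp, mul_assoc]
      _ = z := by rw [hpp, mul_one]
  · exact (hp.2.2.mul_right hq.2.2).mul_right hp.2.2

/-- an involution commuting with `a * b` and braiding with `a` forces `a`, `b` to commute -/
theorem comm_of_comm_prod {x a b : G} (hxx : x * x = 1) (haa : a * a = 1) (hbb : b * b = 1)
    (hbr : x * a * x = a * x * a) (hxu : Commute x (a * b)) : a * b = b * a := by
  have hinv : (a * b)⁻¹ = b * a := by
    rw [mul_inv_rev, inv_eq_of_mul_eq_one_right haa, inv_eq_of_mul_eq_one_right hbb]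
  have hxu2 : Commute x (b * a) := by rw [← hinv]; exact hxu.inv_right
  have e1 : x * a * x * (a * b) * (x * a * x) = b * a := by
    calc x * a * x * (a * b) * (x * a * x) = x * a * (x * (a * b)) * (x * a * x) := by group
      _ = x * a * ((a * b) * x) * (x * a * x) := by rw [hxu.eq]
      _ = x * (a * a) * b * (x * x) * a * x := by group
      _ = x * (b * a) * x := by rw [haa, hxx]; group
      _ = (b * a) * x * x := by rw [hxu2.eq]
      _ = b * a := by rw [mul_assoc, hxx, mul_one]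
  have e2 : a * x * a * (a * b) * (a * x * a) = a * b := by
    calc a * x * a * (a * b) * (a * x * a) = a * x * (a * a) * b * a * x * a := by group
      _ = a * (x * (b * a)) * x * a := by rw [haa]; group
      _ = a * ((b * a) * x) * x * a := by rw [hxu2.eq]
      _ = a * b * a * (x * x) * a := by group
      _ = a * b * (a * a) := by rw [hxx]; group
      _ = a * b := by rw [haa, mul_one]
  calc a * b = a * x * a * (a * b) * (a * x * a) := e2.symm
    _ = x * a * x * (a * b) * (x * a * x) := by rw [hbr]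
    _ = b * a := e1

theorem F_comm {a b q : G} (hR : Cfsg.Agent.S5355.Rel b a q) :
    Commute a (q * (a * b * a) * q) := by
  have h1 := hR.w_comm
  have e : b * q * a * (b * q) = q * (a * b * a) * q := by
    rw [show b * q * a * (b * q) = (b * q) * a * b * q by group, ← hR.ca, hR.bab]
    group
  rw [e] at h1
  exact h1

theorem F_ncomm {d q c : G} (hdd : d * d = 1) (hqq : q * q = 1)
    (hbr : d * q * d = q * d * q) (hdc : Commute d c) (hqc : ¬ Commute q c) :
    ¬ Commute d (q * c * q) := by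
  intro h
  have h1 : (q * d * q) * c = c * (q * d * q) := by
    calc (q * d * q) * c = q * (d * (q * c * q)) * q := by
          rw [show q * (d * (q * c * q)) * q = q * d * q * c * (q * q) by group, hqq, mul_one]
      _ = q * ((q * c * q) * d) * q := by rw [h.eq]
      _ = (q * q) * c * (q * d * q) := by group
      _ = c * (q * d * q) := by rw [hqq, one_mul]
  have e : d * (q * d * q) * d = q := by
    rw [← hbr, show d * (d * q * d) * d = (d * d) * q * (d * d) by group, hdd, one_mul, mul_one]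
  apply hqc
  show q * c = c * q
  calc q * c = (d * (q * d * q) * d) * c := by rw [e]
    _ = d * (q * d * q) * (d * c) := by group
    _ = d * (q * d * q) * (c * d) := by rw [hdc.eq]
    _ = d * ((q * d * q) * c) * d := by group
    _ = d * (c * (q * d * q)) * d := by rw [h1]
    _ = (d * c) * (q * d * q) * d := by group
    _ = (c * d) * (q * d * q) * d := by rw [hdc.eq]
    _ = c * (d * (q * d * q) * d) := by group
    _ = c * q := by rw [e]

/-- in the absence of twins, a second neighbour of `b` does not commute with `a` -/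
theorem nc {D : Set G} (hD : Cfsg.IsThreeTranspositionSet D)
    (hconj : ∀ g : G, ∀ d ∈ D, g * d * g⁻¹ ∈ D)
    (hφ : ∀ z ∈ D, Nonempty (↥(Subgroup.closure (Pt D z)) ≃* Equiv.Perm (Fin 3)))
    (hW : ∀ x ∈ D, ∀ y ∈ D, Pt D x = Pt D y → x = y) {d a b q : G} (hd : d ∈ D)
    (ha : a ∈ Pt D d) (hb : b ∈ Pt D d) (hab : a ≠ b) (hq : q ∈ Pt D b) (hqd : q ≠ d) :
    ¬ Commute q a := by
  intro hc
  obtain ⟨φd⟩ := hφ d hd
  obtain ⟨φq⟩ := hφ q hq.1
  have ld := line_struct hD φd ha hb hab
  have haq : a ∈ Pt D q := ⟨ha.1, fun h => ld.1 (by rw [h]; exact hq.2.2.symm), hc⟩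
  have hbq : b ∈ Pt D q := ⟨hb.1, fun h => hq.2.1 h.symm, hq.2.2.symm⟩
  have lq := line_struct hD φq haq hbq hab
  have h3d := third_mem hD hconj ha hb
  have h3q := third_mem hD hconj haq hbq
  apply hqd
  apply hW q hq.1 d hd
  ext y
  constructor
  · intro hy
    rcases lq.2 y hy with rfl | rfl | rfl
    · exact ha
    · exact hb
    · exact h3d
  · intro hy
    rcases ld.2 y hy with rfl | rfl | rfl
    · exact haq
    · exact hbq
    · exact h3q

/-- in the absence of twins, every point commutes with a point of the closed neighbourhood -/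
theorem near {D : Set G} (hD : Cfsg.IsThreeTranspositionSet D)
    (hconj : ∀ g : G, ∀ d ∈ D, g * d * g⁻¹ ∈ D)
    (hφ : ∀ z ∈ D, Nonempty (↥(Subgroup.closure (Pt D z)) ≃* Equiv.Perm (Fin 3)))
    (hW : ∀ x ∈ D, ∀ y ∈ D, Pt D x = Pt D y → x = y) {d a b x : G} (hd : d ∈ D)
    (ha : a ∈ Pt D d) (hb : b ∈ Pt D d) (hab : a ≠ b) (hx : x ∈ D) :
    Commute x d ∨ Commute x a ∨ Commute x b ∨ Commute x (a * b * a) := by
  by_contra hcon
  rw [not_or, not_or, not_or] at hcon
  obtain ⟨hxd, hxa, hxb, hxc⟩ := hcon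
  have hDc : ∀ g x : G, x ∈ D → g * x * g⁻¹ ∈ D := fun g x hx => hconj g x hx
  obtain ⟨φd⟩ := hφ d hd
  have ld := line_struct hD φd ha hb hab
  have hc := third_mem hD hconj ha hb
  have hdd := tt_mul_self hD hd
  have haa := tt_mul_self hD ha.1
  have hbb := tt_mul_self hD hb.1
  have hxx := tt_mul_self hD hx
  have hbab : a * b * a = b * a * b := tt_braid hD ha.1 hb.1 ld.1
  have hda : d * a = a * d := ha.2.2.eq
  have hdb : d * b = b * d := hb.2.2.eq
  have hdc : d * (a * b * a) = (a * b * a) * d := hc.2.2.eq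
  have ginv : ∀ p ∈ Pt D d, (d * p) * (d * p) = 1 := by
    intro p hp
    rw [show d * p * (d * p) = d * (p * d) * p by group, ← hp.2.2.eq,
      show d * (d * p) * p = (d * d) * (p * p) by group, hdd, tt_mul_self hD hp.1, one_mul]
  have tmem : ∀ p ∈ Pt D d, ¬ Commute x p → d * p * x * (d * p) ∈ Pt D x := by
    intro p hp hxp
    have hR : Cfsg.Agent.S5355.Rel d x p :=
      ⟨hdd, hxx, tt_mul_self hD hp.1, hp.2.2.eq.symm, tt_braid hD hx hd hxd,
        tt_braid hD hp.1 hx (fun h => hxp h.symm)⟩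
    have hinv : (d * p)⁻¹ = d * p := inv_eq_of_mul_eq_one_right (ginv p hp)
    refine ⟨?_, ?_, ?_⟩
    · have h1 := hconj (d * p) x hx
      rwa [hinv] at h1
    · exact hR.w_ne (fun h => hp.2.1 h.symm)
    · exact hR.w_comm
  have hta := tmem a ha hxa
  have htb := tmem b hb hxb
  have htc := tmem (a * b * a) hc hxc
  have e1 : (d * a) * (d * b) = a * b := by
    rw [hda, show a * d * (d * b) = a * (d * d) * b by group, hdd, mul_one]
  have e2 : (d * b) * (d * a) = b * a := by
    rw [hdb, show b * d * (d * a) = b * (d * d) * a by group, hdd, mul_one]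
  have e3 : (d * b) * (d * (a * b * a)) = a * b := by
    rw [hdb, show b * d * (d * (a * b * a)) = b * (d * d) * (a * b * a) by group, hdd, mul_one,
      show b * (a * b * a) = (b * a * b) * a by group, ← hbab,
      show a * b * a * a = a * b * (a * a) by group, haa, mul_one]
  have e4 : (d * (a * b * a)) * (d * b) = b * a := by
    rw [hdc, show a * b * a * d * (d * b) = a * b * a * (d * d) * b by group, hdd, mul_one,
      show a * b * a * b = a * (b * a * b) by group, ← hbab,
      show a * (a * b * a) = (a * a) * b * a by group, haa, one_mul]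
  have hy1 : (d * a) * (d * b * x * (d * b)) * (d * a) = a * b * x * (b * a) := by
    rw [show (d * a) * (d * b * x * (d * b)) * (d * a) =
      ((d * a) * (d * b)) * x * ((d * b) * (d * a)) by group, e1, e2]
  have hy1' : (d * b) * (d * (a * b * a) * x * (d * (a * b * a))) * (d * b) =
      a * b * x * (b * a) := by
    rw [show (d * b) * (d * (a * b * a) * x * (d * (a * b * a))) * (d * b) =
      ((d * b) * (d * (a * b * a))) * x * ((d * (a * b * a)) * (d * b)) by group, e3, e4]
  have hconjmem : ∀ p ∈ Pt D d, ∀ t y : G, t ∈ Pt D x → (d * p) * t * (d * p) = y →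
      y ∈ Pt D (d * p * x * (d * p)) := by
    intro p hp t y ht hy
    have hinv : (d * p)⁻¹ = d * p := inv_eq_of_mul_eq_one_right (ginv p hp)
    have h1 := (mem_Pt_conj D hDc (d * p) x y).mpr (by
      rw [hinv, ← hy, show d * p * (d * p * t * (d * p)) * (d * p) =
        ((d * p) * (d * p)) * t * ((d * p) * (d * p)) by group, ginv p hp, one_mul, mul_one]
      exact ht)
    rwa [hinv] at h1
  have hy1a : a * b * x * (b * a) ∈ Pt D (d * a * x * (d * a)) :=
    hconjmem a ha _ _ htb hy1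
  have hy1b : a * b * x * (b * a) ∈ Pt D (d * b * x * (d * b)) :=
    hconjmem b hb _ _ htc hy1'
  have hxta : x ∈ Pt D (d * a * x * (d * a)) := ⟨hx, fun h => hta.2.1 h.symm, hta.2.2.symm⟩
  have hxtb : x ∈ Pt D (d * b * x * (d * b)) := ⟨hx, fun h => htb.2.1 h.symm, htb.2.2.symm⟩
  have hne : x ≠ a * b * x * (b * a) := by
    intro h
    apply ld.1
    apply comm_of_comm_prod hxx haa hbb (tt_braid hD hx ha.1 hxa)
    show x * (a * b) = (a * b) * x
    calc x * (a * b) = (a * b * x * (b * a)) * (a * b) := by rw [← h]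
      _ = a * b * x * (b * (a * a) * b) := by group
      _ = a * b * x := by rw [haa, mul_one, hbb, mul_one]
  obtain ⟨φa⟩ := hφ _ hta.1
  obtain ⟨φb⟩ := hφ _ htb.1
  have la := line_struct hD φa hxta hy1a hne
  have lb := line_struct hD φb hxtb hy1b hne
  have h3a := third_mem hD hconj hxta hy1a
  have h3b := third_mem hD hconj hxtb hy1b
  have hPt : Pt D (d * a * x * (d * a)) = Pt D (d * b * x * (d * b)) := by
    ext y
    constructor
    · intro hy
      rcases la.2 y hy with rfl | rfl | rfl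
      · exact hxtb
      · exact hy1b
      · exact h3b
    · intro hy
      rcases lb.2 y hy with rfl | rfl | rfl
      · exact hxta
      · exact hy1a
      · exact h3a
  have heq := hW _ hta.1 _ htb.1 hPt
  apply hne
  calc x = ((d * a) * (d * a)) * x * ((d * a) * (d * a)) := by rw [ginv a ha, one_mul, mul_one]
    _ = (d * a) * (d * a * x * (d * a)) * (d * a) := by group
    _ = (d * a) * (d * b * x * (d * b)) * (d * a) := by rw [heq]
    _ = a * b * x * (b * a) := hy1

theorem inv_of_cube {N : Subgroup G} (hNn : N.Normal) {A B v : G} (hv : v ∈ N)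
    (key : ∀ h ∈ N, B * h * B⁻¹ = (A * h * A⁻¹)⁻¹) (hA : A ^ 3 = 1) (hB : B ^ 3 = 1) :
    v = v⁻¹ := by
  have hA' : A * A * A = 1 := by
    rw [← hA]; simp only [pow_succ, pow_zero, one_mul]
  have hB' : B * B * B = 1 := by
    rw [← hB]; simp only [pow_succ, pow_zero, one_mul]
  have h1N : A * v * A⁻¹ ∈ N := hNn.conj_mem v hv A
  have h2N : A * (A * v * A⁻¹) * A⁻¹ ∈ N := hNn.conj_mem _ h1N A
  have s1 : B * v * B⁻¹ = (A * v * A⁻¹)⁻¹ := key v hv
  have s2 : B * (A * v * A⁻¹)⁻¹ * B⁻¹ = A * (A * v * A⁻¹) * A⁻¹ := by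
    rw [key _ (N.inv_mem h1N)]
    simp only [mul_inv_rev, inv_inv, mul_assoc]
  have s3 : B * (A * (A * v * A⁻¹) * A⁻¹) * B⁻¹ = (A * (A * (A * v * A⁻¹) * A⁻¹) * A⁻¹)⁻¹ :=
    key _ h2N
  have e3A : A * (A * (A * v * A⁻¹) * A⁻¹) * A⁻¹ = (A * A * A) * v * (A * A * A)⁻¹ := by
    simp only [mul_inv_rev, mul_assoc]
  have e3B : B * (B * (B * v * B⁻¹) * B⁻¹) * B⁻¹ = (B * B * B) * v * (B * B * B)⁻¹ := by
    simp only [mul_inv_rev, mul_assoc]
  calc v = (B * B * B) * v * (B * B * B)⁻¹ := by rw [hB', one_mul, inv_one, mul_one]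
    _ = B * (B * (B * v * B⁻¹) * B⁻¹) * B⁻¹ := e3B.symm
    _ = B * (B * (A * v * A⁻¹)⁻¹ * B⁻¹) * B⁻¹ := by rw [s1]
    _ = B * (A * (A * v * A⁻¹) * A⁻¹) * B⁻¹ := by rw [s2]
    _ = (A * (A * (A * v * A⁻¹) * A⁻¹) * A⁻¹)⁻¹ := s3
    _ = ((A * A * A) * v * (A * A * A)⁻¹)⁻¹ := by rw [e3A]
    _ = v⁻¹ := by rw [hA', one_mul, inv_one, mul_one]

/-- twins together with a point far from both lines are impossible -/
theorem twin_contra [Finite G] {D : Set G} (hD : Cfsg.IsThreeTranspositionSet D)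
    (hconj : ∀ g : G, ∀ d ∈ D, g * d * g⁻¹ ∈ D)
    (hφ : ∀ z ∈ D, Nonempty (↥(Subgroup.closure (Pt D z)) ≃* Equiv.Perm (Fin 3)))
    (hO : ∀ d ∈ D, Nat.card (Cfsg.pCore 3 ↥(Subgroup.centralizer ({d} : Set G))) = 3)
    {d e a b x : G} (hd : d ∈ D) (he : e ∈ D) (hde : d ≠ e) (hW : Pt D d = Pt D e)
    (ha : a ∈ Pt D d) (hb : b ∈ Pt D d) (hab : a ≠ b) (hx : x ∈ D) (hxd : ¬ Commute d x)
    (hxa : ¬ Commute a x) : False := by
  have hDc : ∀ g x : G, x ∈ D → g * x * g⁻¹ ∈ D := fun g x hx => hconj g x hx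
  obtain ⟨N, hNn, hN3, hNmem⟩ := Cfsg.Agent.S5350.main D hD.1 hD.2 hDc
  obtain ⟨φd⟩ := hφ d hd
  obtain ⟨φa⟩ := hφ a ha.1
  obtain ⟨φb⟩ := hφ b hb.1
  have ld := line_struct hD φd ha hb hab
  have hae : a ∈ Pt D e := hW ▸ ha
  have hbe : b ∈ Pt D e := hW ▸ hb
  have hda : d ∈ Pt D a := ⟨hd, fun h => ha.2.1 h.symm, ha.2.2.symm⟩
  have hea : e ∈ Pt D a := ⟨he, fun h => hae.2.1 h.symm, hae.2.2.symm⟩
  have hdb : d ∈ Pt D b := ⟨hd, fun h => hb.2.1 h.symm, hb.2.2.symm⟩
  have heb : e ∈ Pt D b := ⟨he, fun h => hbe.2.1 h.symm, hbe.2.2.symm⟩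
  have la := line_struct hD φa hda hea hde
  have lb := line_struct hD φb hdb heb hde
  have h3a := third_mem hD hconj hda hea
  have h3b := third_mem hD hconj hdb heb
  have hPab : Pt D a = Pt D b := by
    ext y
    constructor
    · intro hy
      rcases la.2 y hy with h | h | h
      · rw [h]; exact hdb
      · rw [h]; exact heb
      · rw [h]; exact h3b
    · intro hy
      rcases lb.2 y hy with h | h | h
      · rw [h]; exact hda
      · rw [h]; exact hea
      · rw [h]; exact h3a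
  have huN : a * b ∈ N := hNmem a ha.1 b hb.1 hPab
  have hvN : d * e ∈ N := hNmem d hd e he hW
  have hdd := tt_mul_self hD hd
  have hee := tt_mul_self hD he
  have haa := tt_mul_self hD ha.1
  have hbb := tt_mul_self hD hb.1
  have hxx := tt_mul_self hD hx
  have hda' : d * a = a * d := ha.2.2.eq
  have hdb' : d * b = b * d := hb.2.2.eq
  have hea' : e * a = a * e := hae.2.2.eq
  have hded : d * e * d = e * d * e := tt_braid hD hd he la.1
  -- the centralizer of d in N
  have hZ : ∀ n ∈ N, n * d = d * n → n ∈ Subgroup.zpowers (a * b) := by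
    intro n hn hnd
    have : Fact (Nat.Prime 3) := ⟨Nat.prime_three⟩
    have hNC : (N.subgroupOf (Subgroup.centralizer ({d} : Set G))).Normal :=
      hNn.subgroupOf _
    have hP : IsPGroup 3 ↥(N.subgroupOf (Subgroup.centralizer ({d} : Set G))) :=
      hN3.comap_subtype
    have hle := Cfsg.Agent.Lib.Helper1.le_pCore 3 hNC hP
    have huC : a * b ∈ Subgroup.centralizer ({d} : Set G) := by
      rw [Subgroup.mem_centralizer_iff]
      intro h hh
      rw [Set.mem_singleton_iff] at hh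
      subst hh
      rw [← mul_assoc, hda', mul_assoc, hdb', ← mul_assoc]
    have hu'N : (⟨a * b, huC⟩ : ↥(Subgroup.centralizer ({d} : Set G))) ∈
        N.subgroupOf (Subgroup.centralizer ({d} : Set G)) := by
      rw [Subgroup.mem_subgroupOf]; exact huN
    have hzle : Subgroup.zpowers (⟨a * b, huC⟩ : ↥(Subgroup.centralizer ({d} : Set G))) ≤
        Cfsg.pCore 3 ↥(Subgroup.centralizer ({d} : Set G)) :=
      (Subgroup.zpowers_le.mpr hu'N).trans hle
    have hord : orderOf (⟨a * b, huC⟩ : ↥(Subgroup.centralizer ({d} : Set G))) = 3 := by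
      apply orderOf_eq_prime
      · apply Subtype.ext
        show (a * b) ^ 3 = 1
        rcases hD.2 a ha.1 b hb.1 with h | h
        · exact absurd (Cfsg.Agent.Lib.Helper28.commute_of_sq haa hbb h) ld.1
        · exact h
      · intro h
        have h1 : a * b = 1 := congrArg Subtype.val h
        apply hab
        have h2 : a = b⁻¹ := eq_inv_of_mul_eq_one_left h1
        rw [h2, tt_inv hD hb.1]
    have hcard : Nat.card (Subgroup.zpowers
        (⟨a * b, huC⟩ : ↥(Subgroup.centralizer ({d} : Set G)))) = 3 := by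
      rw [Nat.card_zpowers, hord]
    have heq : Subgroup.zpowers (⟨a * b, huC⟩ : ↥(Subgroup.centralizer ({d} : Set G))) =
        Cfsg.pCore 3 ↥(Subgroup.centralizer ({d} : Set G)) :=
      Subgroup.eq_of_le_of_card_ge hzle (by rw [hcard, hO d hd])
    have hnC : n ∈ Subgroup.centralizer ({d} : Set G) := by
      rw [Subgroup.mem_centralizer_iff]
      intro h hh
      rw [Set.mem_singleton_iff] at hh
      subst hh
      exact hnd.symm
    have h1 : (⟨n, hnC⟩ : ↥(Subgroup.centralizer ({d} : Set G))) ∈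
        Subgroup.zpowers (⟨a * b, huC⟩ : ↥(Subgroup.centralizer ({d} : Set G))) := by
      rw [heq]
      exact hle (by rw [Subgroup.mem_subgroupOf]; exact hn)
    obtain ⟨k, hk⟩ := Subgroup.mem_zpowers_iff.mp h1
    rw [Subgroup.mem_zpowers_iff]
    refine ⟨k, ?_⟩
    have h2 := congrArg Subtype.val hk
    rw [Subgroup.coe_zpow] at h2
    exact h2
  have hinv_ad : (a * d)⁻¹ = a * d := by
    apply inv_eq_of_mul_eq_one_right
    rw [show a * d * (a * d) = a * (d * a) * d by group, hda',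
      show a * (a * d) * d = (a * a) * (d * d) by group, haa, hdd, one_mul]
  have hcu : (a * d) * (a * b) * (a * d)⁻¹ = (a * b)⁻¹ := by
    rw [hinv_ad, mul_inv_rev, tt_inv hD ha.1, tt_inv hD hb.1]
    calc a * d * (a * b) * (a * d) = a * (d * a) * b * (a * d) := by group
      _ = a * (a * d) * b * (a * d) := by rw [hda']
      _ = (a * a) * (d * b) * a * d := by group
      _ = (b * d) * a * d := by rw [haa, one_mul, hdb']
      _ = b * (d * a) * d := by group
      _ = b * (a * d) * d := by rw [hda']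
      _ = b * a * (d * d) := by group
      _ = b * a := by rw [hdd, mul_one]
  have hcv : (a * d) * (d * e) * (a * d)⁻¹ = (d * e)⁻¹ := by
    rw [hinv_ad, mul_inv_rev, tt_inv hD hd, tt_inv hD he]
    calc a * d * (d * e) * (a * d) = a * (d * d) * e * a * d := by group
      _ = (a * e) * a * d := by rw [hdd, mul_one]
      _ = (e * a) * a * d := by rw [hea']
      _ = e * (a * a) * d := by group
      _ = e * d := by rw [haa, mul_one]
  have huv : Commute (d * e) (a * b) := by
    have h1 : Commute d (a * b) := ha.2.2.mul_right hb.2.2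
    have h2 : Commute e (a * b) := hae.2.2.mul_right hbe.2.2
    exact h1.mul_left h2
  have hC : ∀ t ∈ N, (a * d) * t * (a * d)⁻¹ = t⁻¹ := by
    intro t ht
    have hw : t * d * t⁻¹ ∈ D := hconj t d hd
    have hdw : d⁻¹ * (t * d * t⁻¹) ∈ N := by
      have h1 : d⁻¹ * t * d⁻¹⁻¹ ∈ N := hNn.conj_mem t ht d⁻¹
      have h2 : d⁻¹ * (t * d * t⁻¹) = (d⁻¹ * t * d⁻¹⁻¹) * t⁻¹ := by group
      rw [h2]
      exact N.mul_mem h1 (N.inv_mem ht)
    have haw : a ∈ Pt D (t * d * t⁻¹) :=
      Pt_of_mod D hD.1 hD.2 N hNn hN3 d _ hd hw hdw a ha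
    have hwa : t * d * t⁻¹ ∈ Pt D a := ⟨hw, fun h => haw.2.1 h.symm, haw.2.2.symm⟩
    have hs : ∃ s ∈ N, (a * d) * s * (a * d)⁻¹ = s⁻¹ ∧ Commute s (a * b) ∧
        t * d * t⁻¹ = s * d * s⁻¹ := by
      rcases la.2 _ hwa with h | h | h
      · exact ⟨1, N.one_mem, by group, Commute.one_left _, by rw [h]; group⟩
      · refine ⟨d * e, hvN, hcv, huv, ?_⟩
        rw [h, mul_inv_rev, tt_inv hD hd, tt_inv hD he, hded,
          show e * d * e * (e * d) = e * d * (e * e) * d by group, hee, mul_one, mul_assoc, hdd,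
          mul_one]
      · refine ⟨(d * e)⁻¹, N.inv_mem hvN, ?_, huv.inv_left, ?_⟩
        · rw [show (a * d) * (d * e)⁻¹ * (a * d)⁻¹ = ((a * d) * (d * e) * (a * d)⁻¹)⁻¹ by group,
            hcv]
        · rw [h, inv_inv, mul_inv_rev, tt_inv hD hd, tt_inv hD he, hded,
            show e * d * d * (d * e) = e * (d * d) * d * e by group, hdd, mul_one]
    obtain ⟨s, hsN, hs1, hs2, hs3⟩ := hs
    have hn : s⁻¹ * t ∈ N := N.mul_mem (N.inv_mem hsN) ht
    have hnd : (s⁻¹ * t) * d = d * (s⁻¹ * t) := by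
      have e1 : s⁻¹ * t * d = s⁻¹ * (t * d * t⁻¹) * t := by group
      rw [e1, hs3]
      group
    obtain ⟨k, hk⟩ := Subgroup.mem_zpowers_iff.mp (hZ _ hn hnd)
    have ht' : t = s * (a * b) ^ k := by rw [hk]; group
    rw [ht']
    have h1 : (a * d) * (s * (a * b) ^ k) * (a * d)⁻¹ =
        ((a * d) * s * (a * d)⁻¹) * ((a * d) * (a * b) ^ k * (a * d)⁻¹) := by group
    rw [h1, hs1, ← conj_zpow, hcu, inv_zpow, mul_inv_rev]
    exact ((hs2.zpow_right k).inv_inv).eq
  have hA3 : (x * a) ^ 3 = 1 := by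
    rcases hD.2 x hx a ha.1 with h | h
    · exact absurd (Cfsg.Agent.Lib.Helper28.commute_of_sq hxx haa h).symm hxa
    · exact h
  have hB3 : (x * d) ^ 3 = 1 := by
    rcases hD.2 x hx d hd with h | h
    · exact absurd (Cfsg.Agent.Lib.Helper28.commute_of_sq hxx hdd h).symm hxd
    · exact h
  have key : ∀ h ∈ N, (x * d) * h * (x * d)⁻¹ = ((x * a) * h * (x * a)⁻¹)⁻¹ := by
    intro h hh
    have e0 : x * d = (x * a) * (a * d) := by
      rw [show (x * a) * (a * d) = x * (a * a) * d by group, haa, mul_one]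
    have e1 : (x * d) * h * (x * d)⁻¹ = (x * a) * ((a * d) * h * (a * d)⁻¹) * (x * a)⁻¹ := by
      rw [e0]; group
    rw [e1, hC h hh]
    group
  have hv := inv_of_cube hNn hvN key hA3 hB3
  apply la.1
  apply Cfsg.Agent.Lib.Helper28.commute_of_sq hdd hee
  rw [pow_two]
  calc d * e * (d * e) = d * e * (d * e)⁻¹ := by rw [← hv]
    _ = 1 := mul_inv_cancel _

/-- twins whose two lines exhaust `D`: a direct product of two symmetric groups of degree 3 -/
theorem s3s3 {D : Set G} (hD : Cfsg.IsThreeTranspositionSet D)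
    (hφ : ∀ z ∈ D, Nonempty (↥(Subgroup.closure (Pt D z)) ≃* Equiv.Perm (Fin 3)))
    {d e a : G} (hd : d ∈ D) (he : e ∈ D) (hde : d ≠ e) (hW : Pt D d = Pt D e)
    (ha : a ∈ Pt D d) (hall : ∀ x ∈ D, Commute d x ∨ Commute a x) :
    Nonempty (↥(Subgroup.closure D) ≃* Equiv.Perm (Fin 3) × Equiv.Perm (Fin 3)) := by
  obtain ⟨φd⟩ := hφ d hd
  obtain ⟨φa⟩ := hφ a ha.1
  have hae : a ∈ Pt D e := hW ▸ ha
  have hda : d ∈ Pt D a := ⟨hd, fun h => ha.2.1 h.symm, ha.2.2.symm⟩
  have hea : e ∈ Pt D a := ⟨he, fun h => hae.2.1 h.symm, hae.2.2.symm⟩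
  have la := line_struct hD φa hda hea hde
  have hDeq : D = Pt D d ∪ Pt D a := by
    ext x
    constructor
    · intro hx
      rcases hall x hx with h | h
      · by_cases hxd : x = d
        · right; rw [hxd]; exact hda
        · left; exact ⟨hx, hxd, h⟩
      · by_cases hxa : x = a
        · left; rw [hxa]; exact ha
        · right; exact ⟨hx, hxa, h⟩
    · rintro (h | h)
      · exact h.1
      · exact h.1
  have hcomm : ∀ p ∈ Pt D d, ∀ r ∈ Pt D a, Commute p r := by
    intro p hp r hr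
    have hpe : p ∈ Pt D e := hW ▸ hp
    rcases la.2 r hr with h | h | h
    · rw [h]; exact hp.2.2.symm
    · rw [h]; exact hpe.2.2.symm
    · rw [h]; exact (hp.2.2.symm.mul_right hpe.2.2.symm).mul_right hp.2.2.symm
  have hLR : ∀ x ∈ Subgroup.closure (Pt D d), ∀ y ∈ Subgroup.closure (Pt D a),
      Commute x y := by
    intro x hx y hy
    have h1 : ∀ r ∈ Pt D a, Subgroup.closure (Pt D d) ≤ Subgroup.centralizer {r} := by
      intro r hr
      rw [Subgroup.closure_le]
      intro p hp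
      rw [SetLike.mem_coe, Subgroup.mem_centralizer_iff]
      intro h hh
      rw [Set.mem_singleton_iff] at hh
      subst hh
      exact (hcomm p hp h hr).eq.symm
    have h2 : Subgroup.closure (Pt D a) ≤ Subgroup.centralizer {x} := by
      rw [Subgroup.closure_le]
      intro r hr
      rw [SetLike.mem_coe, Subgroup.mem_centralizer_iff]
      intro h hh
      rw [Set.mem_singleton_iff] at hh
      subst hh
      have h3 := h1 r hr hx
      rw [Subgroup.mem_centralizer_iff] at h3
      exact (h3 r rfl).symm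
    have h4 := h2 hy
    rw [Subgroup.mem_centralizer_iff] at h4
    exact h4 x rfl
  have hdisj : ∀ g : G, g ∈ Subgroup.closure (Pt D d) → g ∈ Subgroup.closure (Pt D a) →
      g = 1 := by
    intro g hgL hgR
    have hcen : ∀ τ : Equiv.Perm (Fin 3), φd ⟨g, hgL⟩ * τ = τ * φd ⟨g, hgL⟩ := by
      intro τ
      obtain ⟨⟨y, hy⟩, rfl⟩ := φd.surjective τ
      rw [← map_mul, ← map_mul]
      congr 1
      apply Subtype.ext
      exact (hLR y hy g hgR).eq.symm
    have h0 := p3_center _ hcen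
    have h1 : (⟨g, hgL⟩ : ↥(Subgroup.closure (Pt D d))) = 1 :=
      φd.injective (by rw [h0, map_one])
    exact congrArg Subtype.val h1
  let f : ↥(Subgroup.closure (Pt D d)) × ↥(Subgroup.closure (Pt D a)) →* G :=
    MonoidHom.noncommCoprod (Subgroup.closure (Pt D d)).subtype
      (Subgroup.closure (Pt D a)).subtype (fun x y => hLR x.1 x.2 y.1 y.2)
  have hinj : Function.Injective f := by
    rw [injective_iff_map_eq_one]
    rintro ⟨x, y⟩ hxy
    have h1 : (x : G) * (y : G) = 1 := hxy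
    have h2 : (x : G) = (y : G)⁻¹ := eq_inv_of_mul_eq_one_left h1
    have hx1 : (x : G) = 1 := hdisj x x.2 (by rw [h2]; exact Subgroup.inv_mem _ y.2)
    have hy1 : (y : G) = 1 := by rw [hx1, one_mul] at h1; exact h1
    exact Prod.ext (Subtype.ext hx1) (Subtype.ext hy1)
  have hrange : f.range = Subgroup.closure D := by
    have h1 : f.range = Subgroup.closure (Pt D d) ⊔ Subgroup.closure (Pt D a) :=
      (MonoidHom.noncommCoprod_range _ _ _).trans
        (by rw [Subgroup.range_subtype, Subgroup.range_subtype])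
    rw [h1, ← Subgroup.closure_union]
    exact (congrArg Subgroup.closure hDeq).symm
  exact ⟨(MulEquiv.subgroupCongr hrange.symm).trans
    ((MonoidHom.ofInjective hinj).symm.trans (MulEquiv.prodCongr φd φa))⟩

theorem conj_pair_eq {d c q : G} (hdc : d * c = c * d) (hcq : c * q * c = q * c * q) :
    d * c * q * (d * c) = d * (q * c * q) * d := by
  calc d * c * q * (d * c) = d * c * q * (c * d) := congrArg (fun z => d * c * q * z) hdc
    _ = d * (c * q * c) * d := by group
    _ = d * (q * c * q) * d := by rw [hcq]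

theorem conj_fix {g y : G} (hgg : g * g = 1) (h : Commute g y) : g * y * g = y := by
  rw [h.eq, mul_assoc, hgg, mul_one]

theorem conj_conj {g y : G} (hgg : g * g = 1) : g * (g * y * g) * g = y := by
  rw [show g * (g * y * g) * g = (g * g) * y * (g * g) by group, hgg, one_mul, mul_one]

/-- without twins the group generated by `D` is the symmetric group of degree 5 -/
theorem s5_case {D : Set G} (hD : Cfsg.IsThreeTranspositionSet D)
    (hconj : ∀ g : G, ∀ d ∈ D, g * d * g⁻¹ ∈ D)
    (hφ : ∀ z ∈ D, Nonempty (↥(Subgroup.closure (Pt D z)) ≃* Equiv.Perm (Fin 3)))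
    (hW : ∀ x ∈ D, ∀ y ∈ D, Pt D x = Pt D y → x = y) {d : G} (hd : d ∈ D) :
    Nonempty (↥(Subgroup.closure D) ≃* Equiv.Perm (Fin 5)) := by
  obtain ⟨φd⟩ := hφ d hd
  obtain ⟨a, b, ha, hb, hab⟩ := exists_two φd
  have ld := line_struct hD φd ha hb hab
  have hc := third_mem hD hconj ha hb
  obtain ⟨φb⟩ := hφ b hb.1
  have hdb : d ∈ Pt D b := ⟨hd, fun h => hb.2.1 h.symm, hb.2.2.symm⟩
  obtain ⟨q, hq, hqd⟩ : ∃ q ∈ Pt D b, q ≠ d := by
    obtain ⟨p, p', hp, hp', hpp'⟩ := exists_two φb
    by_cases h : p = d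
    · exact ⟨p', hp', fun h' => hpp' (h.trans h'.symm)⟩
    · exact ⟨p, hp, h⟩
  have lb := line_struct hD φb hdb hq (fun h => hqd h.symm)
  have hdd := tt_mul_self hD hd
  have haa := tt_mul_self hD ha.1
  have hbb := tt_mul_self hD hb.1
  have hqq := tt_mul_self hD hq.1
  have hcc := tt_mul_self hD hc.1
  have hqa : ¬ Commute q a := nc hD hconj hφ hW hd ha hb hab hq hqd
  have hcb : a * b * a ≠ b := by
    intro h
    apply ld.1
    apply Cfsg.Agent.Lib.Helper28.commute_of_sq haa hbb
    rw [pow_two, show a * b * (a * b) = (a * b * a) * b by group, h, hbb]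
  have hqc : ¬ Commute q (a * b * a) := nc hD hconj hφ hW hd hc hb hcb hq hqd
  have hbab : a * b * a = b * a * b := tt_braid hD ha.1 hb.1 ld.1
  have hcbc : (a * b * a) * b * (a * b * a) = a := by
    calc (a * b * a) * b * (a * b * a) = a * b * (a * b * a) * b * a := by group
      _ = a * b * (b * a * b) * b * a := by rw [hbab]
      _ = a * (b * b) * a * (b * b) * a := by group
      _ = a := by rw [hbb, mul_one, mul_one, haa, one_mul]
  have hdqd : d * q * d = q * d * q := tt_braid hD hd hq.1 lb.1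
  have hRbaq : Cfsg.Agent.S5355.Rel b a q :=
    ⟨hbb, haa, hqq, hq.2.2.eq.symm, hbab, tt_braid hD hq.1 ha.1 hqa⟩
  have har : Commute a (q * (a * b * a) * q) := F_comm hRbaq
  have hdr : ¬ Commute d (q * (a * b * a) * q) := F_ncomm hdd hqq hdqd hc.2.2 hqc
  have hncb : ¬ Commute (a * b * a) b := by
    obtain ⟨φd'⟩ := hφ d hd
    exact (line_struct hD φd' hc hb hcb).1
  have hRbcq : Cfsg.Agent.S5355.Rel b (a * b * a) q :=
    ⟨hbb, hcc, hqq, hq.2.2.eq.symm, tt_braid hD hc.1 hb.1 hncb, tt_braid hD hq.1 hc.1 hqc⟩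
  have hcr' : Commute (a * b * a) (q * a * q) := by
    have h1 := F_comm hRbcq
    rw [hcbc] at h1
    exact h1
  have hdr' : ¬ Commute d (q * a * q) := F_ncomm hdd hqq hdqd ha.2.2 hqa
  have hrD : q * (a * b * a) * q ∈ D := by
    have h1 := hconj q _ hc.1
    rwa [tt_inv hD hq.1] at h1
  have hr'D : q * a * q ∈ D := by
    have h1 := hconj q _ ha.1
    rwa [tt_inv hD hq.1] at h1
  have hr : q * (a * b * a) * q ∈ Pt D a :=
    ⟨hrD, fun h => hdr (by rw [h]; exact ha.2.2), har⟩
  have hda : d ∈ Pt D a := ⟨hd, fun h => ha.2.1 h.symm, ha.2.2.symm⟩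
  have hdr_ne : d ≠ q * (a * b * a) * q := fun h => hdr (by rw [← h])
  obtain ⟨φa⟩ := hφ a ha.1
  have la := line_struct hD φa hda hr hdr_ne
  have hr' : q * a * q ∈ Pt D (a * b * a) :=
    ⟨hr'D, fun h => hdr' (by rw [h]; exact hc.2.2), hcr'⟩
  have hdc : d ∈ Pt D (a * b * a) := ⟨hd, fun h => hc.2.1 h.symm, hc.2.2.symm⟩
  have hdr'_ne : d ≠ q * a * q := fun h => hdr' (by rw [← h])
  obtain ⟨φc⟩ := hφ _ hc.1
  have lc := line_struct hD φc hdc hr' hdr'_ne
  have hdS : d ∈ Subgroup.closure ({d, q, a, b} : Set G) := Subgroup.subset_closure (by simp)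
  have hqS : q ∈ Subgroup.closure ({d, q, a, b} : Set G) := Subgroup.subset_closure (by simp)
  have haS : a ∈ Subgroup.closure ({d, q, a, b} : Set G) := Subgroup.subset_closure (by simp)
  have hbS : b ∈ Subgroup.closure ({d, q, a, b} : Set G) := Subgroup.subset_closure (by simp)
  have hcS : a * b * a ∈ Subgroup.closure ({d, q, a, b} : Set G) :=
    Subgroup.mul_mem _ (Subgroup.mul_mem _ haS hbS) haS
  have hDS : D ⊆ Subgroup.closure ({d, q, a, b} : Set G) := by
    intro x hx
    rcases near hD hconj hφ hW hd ha hb hab hx with h | h | h | h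
    · by_cases hxd : x = d
      · rw [hxd]; exact hdS
      · rcases ld.2 x ⟨hx, hxd, h.symm⟩ with h' | h' | h'
        · rw [h']; exact haS
        · rw [h']; exact hbS
        · rw [h']; exact hcS
    · by_cases hxa : x = a
      · rw [hxa]; exact haS
      · rcases la.2 x ⟨hx, hxa, h.symm⟩ with h' | h' | h'
        · rw [h']; exact hdS
        · rw [h']; exact Subgroup.mul_mem _ (Subgroup.mul_mem _ hqS hcS) hqS
        · rw [h']
          exact Subgroup.mul_mem _ (Subgroup.mul_mem _ hdS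
            (Subgroup.mul_mem _ (Subgroup.mul_mem _ hqS hcS) hqS)) hdS
    · by_cases hxb : x = b
      · rw [hxb]; exact hbS
      · rcases lb.2 x ⟨hx, hxb, h.symm⟩ with h' | h' | h'
        · rw [h']; exact hdS
        · rw [h']; exact hqS
        · rw [h']; exact Subgroup.mul_mem _ (Subgroup.mul_mem _ hdS hqS) hdS
    · by_cases hxc : x = a * b * a
      · rw [hxc]; exact hcS
      · rcases lc.2 x ⟨hx, hxc, h.symm⟩ with h' | h' | h'
        · rw [h']; exact hdS
        · rw [h']; exact Subgroup.mul_mem _ (Subgroup.mul_mem _ hqS haS) hqS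
        · rw [h']
          exact Subgroup.mul_mem _ (Subgroup.mul_mem _ hdS
            (Subgroup.mul_mem _ (Subgroup.mul_mem _ hqS haS) hqS)) hdS
  have hSeq : Subgroup.closure D = Subgroup.closure ({d, q, a, b} : Set G) := by
    apply le_antisymm
    · exact (Subgroup.closure_le _).mpr hDS
    · apply (Subgroup.closure_le _).mpr
      intro x hx
      rcases hx with h | h | h | h
      · rw [h]; exact Subgroup.subset_closure hd
      · rw [h]; exact Subgroup.subset_closure hq.1
      · rw [h]; exact Subgroup.subset_closure ha.1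
      · rw [Set.mem_singleton_iff] at h; rw [h]; exact Subgroup.subset_closure hb.1
  -- the fourth generator is not in the subgroup generated by the first three
  have hbK : b ∉ Subgroup.closure ({d, q, a} : Set G) := by
    intro hbK
    have hRdqc : Cfsg.Agent.S5355.Rel d q (a * b * a) :=
      ⟨hdd, hqq, hcc, hc.2.2.eq.symm, hdqd.symm, tt_braid hD hc.1 hq.1 (fun h => hqc h.symm)⟩
    have hF1 : Commute q (d * (q * (a * b * a) * q) * d) := by
      have h1 := hRdqc.w_comm
      have e : d * (a * b * a) * q * (d * (a * b * a)) = d * (q * (a * b * a) * q) * d :=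
        conj_pair_eq hc.2.2.eq (tt_braid hD hc.1 hq.1 (fun h => hqc h.symm))
      rw [e] at h1
      exact h1
    have hY : ∀ g ∈ Subgroup.closure ({d, q, a} : Set G),
        ∀ y ∈ ({b, a * b * a, q * (a * b * a) * q, d * (q * (a * b * a) * q) * d} : Set G),
        g * y * g⁻¹ ∈ ({b, a * b * a, q * (a * b * a) * q, d * (q * (a * b * a) * q) * d} : Set G)
        ∧ g⁻¹ * y * g ∈
          ({b, a * b * a, q * (a * b * a) * q, d * (q * (a * b * a) * q) * d} : Set G) := by
      intro g hg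
      have hgd : ∀ y ∈ ({b, a * b * a, q * (a * b * a) * q,
          d * (q * (a * b * a) * q) * d} : Set G), d * y * d ∈ ({b, a * b * a,
          q * (a * b * a) * q, d * (q * (a * b * a) * q) * d} : Set G) := by
        intro y hy
        rcases hy with h | h | h | h
        · rw [h, conj_fix hdd hb.2.2]; exact Or.inl rfl
        · rw [h, conj_fix hdd hc.2.2]; exact Or.inr (Or.inl rfl)
        · rw [h]; exact Or.inr (Or.inr (Or.inr rfl))
        · rw [Set.mem_singleton_iff] at h
          rw [h, conj_conj hdd]; exact Or.inr (Or.inr (Or.inl rfl))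
      have hgq : ∀ y ∈ ({b, a * b * a, q * (a * b * a) * q,
          d * (q * (a * b * a) * q) * d} : Set G), q * y * q ∈ ({b, a * b * a,
          q * (a * b * a) * q, d * (q * (a * b * a) * q) * d} : Set G) := by
        intro y hy
        rcases hy with h | h | h | h
        · rw [h, conj_fix hqq hq.2.2.symm]; exact Or.inl rfl
        · rw [h]; exact Or.inr (Or.inr (Or.inl rfl))
        · rw [h, conj_conj hqq]; exact Or.inr (Or.inl rfl)
        · rw [Set.mem_singleton_iff] at h
          rw [h, conj_fix hqq hF1]; exact Or.inr (Or.inr (Or.inr rfl))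
      have hga : ∀ y ∈ ({b, a * b * a, q * (a * b * a) * q,
          d * (q * (a * b * a) * q) * d} : Set G), a * y * a ∈ ({b, a * b * a,
          q * (a * b * a) * q, d * (q * (a * b * a) * q) * d} : Set G) := by
        intro y hy
        rcases hy with h | h | h | h
        · rw [h]; exact Or.inr (Or.inl rfl)
        · rw [h, conj_conj haa]; exact Or.inl rfl
        · rw [h, conj_fix haa har]; exact Or.inr (Or.inr (Or.inl rfl))
        · rw [Set.mem_singleton_iff] at h
          have hc1 : Commute a (d * (q * (a * b * a) * q) * d) :=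
            (ha.2.2.symm.mul_right har).mul_right ha.2.2.symm
          rw [h, conj_fix haa hc1]; exact Or.inr (Or.inr (Or.inr rfl))
      induction hg using Subgroup.closure_induction with
      | mem g hg =>
        intro y hy
        rcases hg with h | h | h
        · rw [h, tt_inv hD hd]; exact ⟨hgd y hy, hgd y hy⟩
        · rw [h, tt_inv hD hq.1]; exact ⟨hgq y hy, hgq y hy⟩
        · rw [Set.mem_singleton_iff] at h
          rw [h, tt_inv hD ha.1]; exact ⟨hga y hy, hga y hy⟩
      | one =>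
        intro y hy
        rw [inv_one, one_mul, mul_one]
        exact ⟨hy, hy⟩
      | mul g h _ _ ihg ihh =>
        intro y hy
        constructor
        · have h1 := (ihg _ (ihh y hy).1).1
          rwa [show g * (h * y * h⁻¹) * g⁻¹ = g * h * y * (g * h)⁻¹ by group] at h1
        · have h1 := (ihh _ (ihg y hy).2).2
          rwa [show h⁻¹ * (g⁻¹ * y * g) * h = (g * h)⁻¹ * y * (g * h) by group] at h1
      | inv g _ ih =>
        intro y hy
        constructor
        · have h1 := (ih y hy).2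
          rwa [show g⁻¹ * y * g = g⁻¹ * y * g⁻¹⁻¹ by group] at h1
        · have h1 := (ih y hy).1
          rwa [show g * y * g⁻¹ = g⁻¹⁻¹ * y * g⁻¹ by group] at h1
    have h1 := (hY b hbK (a * b * a) (by simp)).1
    have e : b * (a * b * a) * b⁻¹ = a := by
      rw [tt_inv hD hb.1, hbab, show b * (b * a * b) * b = (b * b) * a * (b * b) by group, hbb,
        one_mul, mul_one]
    rw [e] at h1
    rcases h1 with h | h | h | h
    · exact hab h
    · apply hab
      have h2 : a * b = 1 := by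
        calc a * b = a * b * (a * a) := by rw [haa, mul_one]
          _ = (a * b * a) * a := by group
          _ = a * a := by rw [← h]
          _ = 1 := haa
      have h3 : b = a⁻¹ := (inv_eq_of_mul_eq_one_right h2).symm
      rw [tt_inv hD ha.1] at h3
      exact h3.symm
    · exact hdr (by rw [← h]; exact ha.2.2)
    · rw [Set.mem_singleton_iff] at h
      apply hdr
      have h2 : q * (a * b * a) * q = a := by
        calc q * (a * b * a) * q = (d * d) * (q * (a * b * a) * q) * (d * d) := by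
              rw [hdd, one_mul, mul_one]
          _ = d * (d * (q * (a * b * a) * q) * d) * d := by group
          _ = d * a * d := by rw [← h]
          _ = a * (d * d) := by rw [ha.2.2.eq, mul_assoc]
          _ = a := by rw [hdd, mul_one]
      rw [h2]
      exact ha.2.2
  -- transfer to the subgroup
  have hrel : Rel5 (⟨d, hdS⟩ : ↥(Subgroup.closure ({d, q, a, b} : Set G))) ⟨q, hqS⟩ ⟨a, haS⟩
      ⟨b, hbS⟩ :=
    ⟨Subtype.ext hdd, Subtype.ext hqq, Subtype.ext haa, Subtype.ext hbb,
      Subtype.ext ha.2.2.eq.symm, Subtype.ext hb.2.2.eq.symm, Subtype.ext hq.2.2.eq,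
      Subtype.ext (tt_braid hD hq.1 hd (fun h => lb.1 h.symm)),
      Subtype.ext (tt_braid hD ha.1 hq.1 (fun h => hqa h.symm)), Subtype.ext hbab.symm⟩
  have hgen' : Subgroup.closure ({⟨d, hdS⟩, ⟨q, hqS⟩, ⟨a, haS⟩, ⟨b, hbS⟩} :
      Set ↥(Subgroup.closure ({d, q, a, b} : Set G))) = ⊤ := by
    have h := Subgroup.closure_closure_coe_preimage (k := ({d, q, a, b} : Set G))
    have hset : ({⟨d, hdS⟩, ⟨q, hqS⟩, ⟨a, haS⟩, ⟨b, hbS⟩} :
        Set ↥(Subgroup.closure ({d, q, a, b} : Set G))) =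
        Subtype.val ⁻¹' ({d, q, a, b} : Set G) := by
      ext ⟨g, hg⟩
      simp [Subtype.ext_iff]
    rw [hset]
    exact h
  have he' : (⟨b, hbS⟩ : ↥(Subgroup.closure ({d, q, a, b} : Set G))) ∉
      Subgroup.closure ({⟨d, hdS⟩, ⟨q, hqS⟩, ⟨a, haS⟩} :
        Set ↥(Subgroup.closure ({d, q, a, b} : Set G))) := by
    intro h
    apply hbK
    have h1 : (Subgroup.closure ({d, q, a, b} : Set G)).subtype ⟨b, hbS⟩ ∈
        (Subgroup.closure ({⟨d, hdS⟩, ⟨q, hqS⟩, ⟨a, haS⟩} :
          Set ↥(Subgroup.closure ({d, q, a, b} : Set G)))).map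
          (Subgroup.closure ({d, q, a, b} : Set G)).subtype := Subgroup.mem_map_of_mem _ h
    rw [MonoidHom.map_closure] at h1
    have himg : (Subgroup.closure ({d, q, a, b} : Set G)).subtype ''
        ({⟨d, hdS⟩, ⟨q, hqS⟩, ⟨a, haS⟩} : Set ↥(Subgroup.closure ({d, q, a, b} : Set G))) =
        ({d, q, a} : Set G) := by
      simp [Set.image_insert_eq]
    rw [himg] at h1
    exact h1
  obtain ⟨ψ⟩ := s5_of_rel hrel hgen' he'
  exact ⟨(MulEquiv.subgroupCongr hSeq).trans ψ⟩

end Main

/-- Let D be a non-empty conjugation-invariant set of involutions of a finite group G satisfying the 3-transposition order conditions, and suppose that for every d in D the members of D other than d commuting with d generate a subgroup isomorphic to the symmetric group of degree 3, and the largest normal 3-subgroup of the centralizer of d has order 3. Then the subgroup generated by D is isomorphic to the symmetric group of degree 5 or to the direct product of two symmetric groups of degree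 3. -/
theorem result {G : Type*} [Group G] [Finite G] {D : Set G} (hD : Cfsg.IsThreeTranspositionSet D) (hconj : ∀ g : G, ∀ d ∈ D, g * d * g⁻¹ ∈ D) (hne : D.Nonempty) (hloc : ∀ d ∈ D, Nonempty (↥(Subgroup.closure {y : G | y ∈ D ∧ y ≠ d ∧ Commute d y}) ≃* Equiv.Perm (Fin 3)) ∧ Nat.card (Cfsg.pCore 3 ↥(Subgroup.centralizer ({d} : Set G))) = 3) : Nonempty (↥(Subgroup.closure D) ≃* Equiv.Perm (Fin 5)) ∨ Nonempty (↥(Subgroup.closure D) ≃* Equiv.Perm (Fin 3) × Equiv.Perm (Fin 3)) := by
  classical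
  have hφ : ∀ z ∈ D, Nonempty (↥(Subgroup.closure (Cfsg.Agent.S5350.Pt D z)) ≃*
      Equiv.Perm (Fin 3)) := fun z hz => (hloc z hz).1
  have hO : ∀ z ∈ D, Nat.card (Cfsg.pCore 3 ↥(Subgroup.centralizer ({z} : Set G))) = 3 :=
    fun z hz => (hloc z hz).2
  by_cases hW : ∀ x ∈ D, ∀ y ∈ D, Cfsg.Agent.S5350.Pt D x = Cfsg.Agent.S5350.Pt D y → x = y
  · obtain ⟨d, hd⟩ := hne
    left
    exact s5_case hD hconj hφ hW hd
  · rw [not_forall] at hW
    obtain ⟨d, hW⟩ := hW
    rw [Classical.not_imp] at hW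
    obtain ⟨hd, hW⟩ := hW
    rw [not_forall] at hW
    obtain ⟨e, hW⟩ := hW
    rw [Classical.not_imp] at hW
    obtain ⟨he, hW⟩ := hW
    rw [Classical.not_imp] at hW
    obtain ⟨hP, hde⟩ := hW
    obtain ⟨φd⟩ := hφ d hd
    obtain ⟨a, b, ha, hb, hab⟩ := exists_two φd
    by_cases hx : ∃ x ∈ D, ¬ Commute d x ∧ ¬ Commute a x
    · obtain ⟨x, hx, h1, h2⟩ := hx
      exact (twin_contra hD hconj hφ hO hd he hde hP ha hb hab hx h1 h2).elim
    · right
      apply s3s3 hD hφ hd he hde hP ha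
      intro x hx'
      by_cases h : Commute d x
      · left; exact h
      · right
        by_contra h2
        exact hx ⟨x, hx', h, h2⟩

end Cfsg.Agent.S5365
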