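import Cfsg.Statements.S5552
import Cfsg.Agent.Lib.Helper28.Leech
import Cfsg.Agent.Lib.Helper4.LeechCross
import Cfsg.Agent.Lib.Helper4.Orb2
import Cfsg.Agent.S1567
import Cfsg.Agent.S0400
import Cfsg.Agent.S1575
import Cfsg.Agent.S1576

set_option autoImplicit false
open Cfsg

namespace Cfsg.Agent.S5552

open Cfsg.Agent.Lib.Helper4 Cfsg.Agent.Lib.Helper28

def uL : List ℤ := [2, 2, 2, 2, 2, 0, 0, 2, 0, 0, 2, 0, 2, 0, 0, 0, 0, 0, 0, 0, 0, 0, 0, 0]

theorem uV_chk : Xi.inD (fun k => 2 * Orb.vecL uL k) 0 5279 := by decide +kernel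

def uV : leechLattice := ⟨Orb.vecL uL, Orb.mem_of_double _ 0 5279 uV_chk⟩

def a1L : List ℤ := [-4, 0, 0, 0, 0, 4, 0, 0, 0, 0, 0, 0, 0, 0, 0, 0, 0, 0, 0, 0, 0, 0, 0, 0]

theorem a1V_chk : Xi.inD (fun k => 2 * Orb.vecL a1L k) 0 0 := by decide +kernel

def a1V : leechLattice := ⟨Orb.vecL a1L, Orb.mem_of_double _ 0 0 a1V_chk⟩

def a2L : List ℤ := [0, -4, 0, 0, 0, -4, 0, 0, 0, 0, 0, 0, 0, 0, 0, 0, 0, 0, 0, 0, 0, 0, 0, 0]

theorem a2V_chk : Xi.inD (fun k => 2 * Orb.vecL a2L k) 0 0 := by decide +kernel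

def a2V : leechLattice := ⟨Orb.vecL a2L, Orb.mem_of_double _ 0 0 a2V_chk⟩

def b0L : List ℤ := [4, 4, 0, 0, 0, 0, 0, 0, 0, 0, 0, 0, 0, 0, 0, 0, 0, 0, 0, 0, 0, 0, 0, 0]

theorem b0V_chk : Xi.inD (fun k => 2 * Orb.vecL b0L k) 0 0 := by decide +kernel

def b0V : leechLattice := ⟨Orb.vecL b0L, Orb.mem_of_double _ 0 0 b0V_chk⟩

def b1L : List ℤ := [0, 0, 4, 4, 0, 0, 0, 0, 0, 0, 0, 0, 0, 0, 0, 0, 0, 0, 0, 0, 0, 0, 0, 0]

theorem b1V_chk : Xi.inD (fun k => 2 * Orb.vecL b1L k) 0 0 := by decide +kernel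

def b1V : leechLattice := ⟨Orb.vecL b1L, Orb.mem_of_double _ 0 0 b1V_chk⟩

def b2L : List ℤ := [0, 0, -4, 0, 4, 0, 0, 0, 0, 0, 0, 0, 0, 0, 0, 0, 0, 0, 0, 0, 0, 0, 0, 0]

theorem b2V_chk : Xi.inD (fun k => 2 * Orb.vecL b2L k) 0 0 := by decide +kernel

def b2V : leechLattice := ⟨Orb.vecL b2L, Orb.mem_of_double _ 0 0 b2V_chk⟩

theorem facts32 : sqNorm (Orb.vecL uL) = 32 ∧ sqNorm (Orb.vecL a1L) = 32 ∧ sqNorm (Orb.vecL a2L) = 32 ∧
    sqNorm (Orb.vecL a1L + Orb.vecL a2L) = 32 ∧ sqNorm (Orb.vecL uL + (Orb.vecL a1L + Orb.vecL a2L)) = 32 ∧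
    sqNorm (Orb.vecL b0L) = 32 ∧ sqNorm (Orb.vecL b1L) = 32 ∧ sqNorm (Orb.vecL b2L) = 32 ∧
    sqNorm (Orb.vecL b1L + Orb.vecL b2L) = 32 := by decide +kernel

theorem factsDot : dotInt (Orb.vecL uL) (Orb.vecL a1L) = -8 ∧ dotInt (Orb.vecL uL) (Orb.vecL a2L) = -8 ∧
    dotInt (Orb.vecL b0L) (Orb.vecL b1L) = 0 ∧ dotInt (Orb.vecL b0L) (Orb.vecL b2L) = 0 ∧
    dotInt (Orb.vecL b0L) (Orb.vecL b1L + Orb.vecL b2L) = 0 := by decide +kernel

theorem dotInt_add_right (x y w : GolayPt → ℤ) : dotInt w (x + y) = dotInt w x + dotInt w y := by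
  unfold dotInt
  rw [← Finset.sum_add_distrib]
  apply Finset.sum_congr rfl
  intro i _
  rw [Pi.add_apply]
  ring

theorem dotInt_add_left (x y w : GolayPt → ℤ) : dotInt (x + y) w = dotInt x w + dotInt y w := by
  unfold dotInt
  rw [← Finset.sum_add_distrib]
  apply Finset.sum_congr rfl
  intro i _
  rw [Pi.add_apply]
  ring

theorem dotInt_neg_right (x w : GolayPt → ℤ) : dotInt w (-x) = -dotInt w x := by
  unfold dotInt
  rw [← Finset.sum_neg_distrib]
  apply Finset.sum_congr rfl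
  intro i _
  rw [Pi.neg_apply]
  ring

theorem dotInt_neg_left (x w : GolayPt → ℤ) : dotInt (-x) w = -dotInt x w := by
  unfold dotInt
  rw [← Finset.sum_neg_distrib]
  apply Finset.sum_congr rfl
  intro i _
  rw [Pi.neg_apply]
  ring

theorem dotInt_zero_right (w : GolayPt → ℤ) : dotInt w 0 = 0 := by
  unfold dotInt
  simp

theorem dotInt_zero_left (w : GolayPt → ℤ) : dotInt 0 w = 0 := by
  unfold dotInt
  simp

theorem sqNorm_zero : sqNorm (0 : GolayPt → ℤ) = 0 := by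
  unfold sqNorm
  simp

theorem dot_dvd (x y : GolayPt → ℤ) (hx : x ∈ leechLattice) (hy : y ∈ leechLattice) :
    (8 : ℤ) ∣ dotInt x y := by
  obtain ⟨a, ha⟩ := LeechCross.sqNorm_dvd x hx
  obtain ⟨b, hb⟩ := LeechCross.sqNorm_dvd y hy
  obtain ⟨c, hc⟩ := LeechCross.sqNorm_dvd (x + y) (leechLattice.add_mem hx hy)
  have h := sqNorm_add x y
  exact ⟨c - a - b, by omega⟩

/-- The bilinear form modulo 2. -/
def bet (x y : GolayPt → ℤ) : ZMod 2 := ((dotInt x y / 8 : ℤ) : ZMod 2)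

/-- The quadratic form modulo 2. -/
def qf (x : GolayPt → ℤ) : ZMod 2 := ((sqNorm x / 16 : ℤ) : ZMod 2)

theorem bet_add_right (x y w : GolayPt → ℤ) (hx : x ∈ leechLattice) (hy : y ∈ leechLattice)
    (hw : w ∈ leechLattice) : bet w (x + y) = bet w x + bet w y := by
  unfold bet
  rw [dotInt_add_right, Int.add_ediv_of_dvd_left (dot_dvd w x hw hx), Int.cast_add]

theorem bet_add_left (x y w : GolayPt → ℤ) (hx : x ∈ leechLattice) (hy : y ∈ leechLattice)
    (hw : w ∈ leechLattice) : bet (x + y) w = bet x w + bet y w := by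
  unfold bet
  rw [dotInt_add_left, Int.add_ediv_of_dvd_left (dot_dvd x w hx hw), Int.cast_add]

theorem z2neg (a : ZMod 2) : -a = a := by
  revert a
  decide

theorem bet_neg_right (x w : GolayPt → ℤ) (hx : x ∈ leechLattice) (hw : w ∈ leechLattice) :
    bet w (-x) = bet w x := by
  unfold bet
  rw [dotInt_neg_right, Int.neg_ediv_of_dvd (dot_dvd w x hw hx), Int.cast_neg, z2neg]

theorem bet_neg_left (x w : GolayPt → ℤ) (hx : x ∈ leechLattice) (hw : w ∈ leechLattice) :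
    bet (-x) w = bet x w := by
  unfold bet
  rw [dotInt_neg_left, Int.neg_ediv_of_dvd (dot_dvd x w hx hw), Int.cast_neg, z2neg]

theorem qf_add (x y : GolayPt → ℤ) (hx : x ∈ leechLattice) (hy : y ∈ leechLattice) :
    qf (x + y) = qf x + qf y + bet x y := by
  unfold qf bet
  obtain ⟨a, ha⟩ := LeechCross.sqNorm_dvd x hx
  obtain ⟨b, hb⟩ := LeechCross.sqNorm_dvd y hy
  obtain ⟨d, hd⟩ := dot_dvd x y hx hy
  have h := sqNorm_add x y
  have e1 : sqNorm (x + y) / 16 = a + b + d := by omega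
  have e2 : sqNorm x / 16 = a := by omega
  have e3 : sqNorm y / 16 = b := by omega
  have e4 : dotInt x y / 8 = d := by omega
  rw [e1, e2, e3, e4]
  push_cast
  ring

/-- Dot products of two shortest vectors. -/
theorem min_dots (x y : GolayPt → ℤ) (hx : x ∈ leechLattice) (hy : y ∈ leechLattice)
    (hxn : sqNorm x = 32) (hyn : sqNorm y = 32) :
    dotInt x y = -32 ∨ dotInt x y = -16 ∨ dotInt x y = -8 ∨ dotInt x y = 0 ∨ dotInt x y = 8 ∨
      dotInt x y = 16 ∨ dotInt x y = 32 := by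
  obtain ⟨d, hd⟩ := dot_dvd x y hx hy
  have h1 := sqNorm_add x y
  have h2 := sqNorm_sub x y
  have p1 := LeechCross.sqNorm_nonneg (x + y)
  have p2 := LeechCross.sqNorm_nonneg (x - y)
  have hne1 : d ≠ -3 := by
    intro hd3
    have hz : x + y ≠ 0 := by
      intro h0
      rw [h0, sqNorm_zero] at h1
      omega
    have := leech_min_norm (x + y) (leechLattice.add_mem hx hy) hz
    omega
  have hne2 : d ≠ 3 := by
    intro hd3
    have hz : x - y ≠ 0 := by
      intro h0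
      rw [h0, sqNorm_zero] at h2
      omega
    have := leech_min_norm (x - y) (leechLattice.sub_mem hx hy) hz
    omega
  omega

theorem zf_m32 : ∀ c : ZMod 2, (0 : ZMod 2) + 0 + 0 = c * (((-32 : ℤ) / 8 : ℤ) : ZMod 2) := by decide
theorem zf_m16 : ∀ c : ZMod 2, (0 : ZMod 2) + 0 + 0 = c * (((-16 : ℤ) / 8 : ℤ) : ZMod 2) := by decide
theorem zf_m8 : ∀ c : ZMod 2, c = c * (((-8 : ℤ) / 8 : ℤ) : ZMod 2) := by decide
theorem zf_0 : ∀ c : ZMod 2, (0 : ZMod 2) = c * (((0 : ℤ) / 8 : ℤ) : ZMod 2) := by decide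
theorem zf_8 : ∀ c : ZMod 2, c = c * (((8 : ℤ) / 8 : ℤ) : ZMod 2) := by decide
theorem zf_16 : ∀ c : ZMod 2, (0 : ZMod 2) + 0 + 0 = c * (((16 : ℤ) / 8 : ℤ) : ZMod 2) := by decide
theorem zf_32 : ∀ c : ZMod 2, (0 : ZMod 2) + 0 + 0 = c * (((32 : ℤ) / 8 : ℤ) : ZMod 2) := by decide
theorem zf_q : ∀ c : ZMod 2, (0 : ZMod 2) = c * (((32 : ℤ) / 16 : ℤ) : ZMod 2) := by decide

/-- On the Leech lattice of the definitions, let Q be a function to the field with two elements that is constant on cosets of twice the lattice, is a quadratic form there (Q(u+v+w) + Q(u) + Q(v) + Q(w) = Q(u+v) + Q(u+w) + Q(v+w) for all u, v, w), is invariant under every lattice automorphism, and is not identically zero. Then Q(v) is the squared length of v divided by 16, reduced modulo 2, for every lattice vector v (squared lengths of lattice vectors are multiples of 16). -/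
theorem result (Q : ↥Cfsg.leechLattice → ZMod 2) (hcoset : ∀ v w : ↥Cfsg.leechLattice, Q (v + (w + w)) = Q v) (hquad : ∀ u v w : ↥Cfsg.leechLattice, Q (u + v + w) + Q u + Q v + Q w = Q (u + v) + Q (u + w) + Q (v + w)) (hinv : ∀ (g : ↥Cfsg.Co0) (v : ↥Cfsg.leechLattice), Q (g • v) = Q v) (hne : ∃ v : ↥Cfsg.leechLattice, Q v ≠ 0) (v : ↥Cfsg.leechLattice) : Q v = ((Cfsg.sqNorm (v : Cfsg.GolayPt → ℤ) / 16 : ℤ) : ZMod 2) := by
  obtain ⟨f32a, f32b, f32c, f32d, f32e, f32f, f32g, f32h, f32i⟩ := facts32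
  obtain ⟨fd1, fd2, fd3, fd4, fd5⟩ := factsDot
  have z1 : ∀ a : ZMod 2, a + a = 0 := by decide
  have hQ0 : Q 0 = 0 := by
    have h := hquad 0 0 0
    simp only [add_zero] at h
    have h' : ∀ a : ZMod 2, a + a + a + a = a + a + a → a = 0 := by decide
    exact h' _ h
  have hQneg : ∀ w : ↥leechLattice, Q (-w) = Q w := by
    intro w
    have h := hcoset (-w) w
    have e : -w + (w + w) = w := by abel
    rw [e] at h
    exact h.symm
  obtain ⟨B, hBdef⟩ : ∃ B : ↥leechLattice → ↥leechLattice → ZMod 2,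
      ∀ x y, B x y = Q (x + y) + Q x + Q y := ⟨fun x y => Q (x + y) + Q x + Q y, fun _ _ => rfl⟩
  have hBadd : ∀ x y w, B (x + y) w = B x w + B y w := by
    intro x y w
    rw [hBdef, hBdef, hBdef]
    have h := hquad x y w
    have h' : ∀ a b c d e f g : ZMod 2, a + b + c + d = e + f + g →
        a + e + d = (f + b + d) + (g + c + d) := by decide
    exact h' _ _ _ _ _ _ _ h
  have hBsymm : ∀ x y, B x y = B y x := by
    intro x y
    rw [hBdef, hBdef, add_comm x y]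
    ring
  have hBadd' : ∀ x y w, B w (x + y) = B w x + B w y := by
    intro x y w
    rw [hBsymm w, hBadd, hBsymm x, hBsymm y]
  have hBneg : ∀ x y, B x (-y) = B x y := by
    intro x y
    rw [hBdef, hBdef, hQneg]
    have h := hcoset (x + -y) y
    have e : x + -y + (y + y) = x + y := by abel
    rw [e] at h
    rw [h]
  have hBzero : ∀ x, B x 0 = 0 := by
    intro x
    rw [hBdef, add_zero, hQ0, add_zero]
    exact z1 _
  have hadd : ∀ (g : ↥Co0) (x y : ↥leechLattice), g • (x + y) = g • x + g • y :=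
    fun g x y => g.2.1 x y
  have hnorm : ∀ (g : ↥Co0) (x : ↥leechLattice),
      sqNorm ((g • x : ↥leechLattice) : GolayPt → ℤ) = sqNorm (x : GolayPt → ℤ) :=
    fun g x => g.2.2 x
  have hdotp : ∀ (g : ↥Co0) (x y : ↥leechLattice),
      dotInt ((g • x : ↥leechLattice) : GolayPt → ℤ) ((g • y : ↥leechLattice) : GolayPt → ℤ)
        = dotInt (x : GolayPt → ℤ) (y : GolayPt → ℤ) := by
    intro g x y
    have h1 := hnorm g (x + y)
    rw [hadd] at h1
    have h2 := sqNorm_add ((g • x : ↥leechLattice) : GolayPt → ℤ)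
      ((g • y : ↥leechLattice) : GolayPt → ℤ)
    have h3 := sqNorm_add (x : GolayPt → ℤ) (y : GolayPt → ℤ)
    rw [hnorm, hnorm] at h2
    rw [AddSubgroup.coe_add, AddSubgroup.coe_add] at h1
    omega
  have hBinv : ∀ (g : ↥Co0) x y, B (g • x) (g • y) = B x y := by
    intro g x y
    rw [hBdef, hBdef, ← hadd, hinv, hinv, hinv]
  have hc2 : ∀ u : ↥leechLattice, sqNorm (u : GolayPt → ℤ) = 32 → Q u = Q uV := by
    intro u hu
    obtain ⟨g, hg⟩ := Cfsg.Agent.S0400.result uV u f32a hu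
    rw [← hg, hinv]
  have hc4 : ∀ u w u' w' : ↥leechLattice, sqNorm (u : GolayPt → ℤ) = 32 →
      sqNorm (w : GolayPt → ℤ) = 32 → sqNorm (u' : GolayPt → ℤ) = 32 →
      sqNorm (w' : GolayPt → ℤ) = 32 → dotInt (u : GolayPt → ℤ) (w : GolayPt → ℤ) = 0 →
      dotInt (u' : GolayPt → ℤ) (w' : GolayPt → ℤ) = 0 → B u w = B u' w' := by
    intro u w u' w' hu hw hu' hw' hd hd'
    obtain ⟨g1, hg1⟩ := Cfsg.Agent.S0400.result u u' hu hu'
    have hd1 : dotInt (u' : GolayPt → ℤ) ((g1 • w : ↥leechLattice) : GolayPt → ℤ) = 0 := by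
      rw [← hg1, hdotp]
      exact hd
    obtain ⟨g2, hg2a, hg2b⟩ := Cfsg.Agent.S1576.result u' (g1 • w) w' hu'
      (by rw [hnorm]; exact hw) hw' hd1 hd'
    have e : B u w = B u' (g2 • (g1 • w)) := by
      rw [← hBinv g1 u w, hg1, ← hBinv g2 u' (g1 • w), hg2a]
    rw [e]
    rcases hg2b with h | h
    · rw [h]
    · rw [h, hBneg]
  have hc3 : ∀ u w u' w' : ↥leechLattice, sqNorm (u : GolayPt → ℤ) = 32 →
      sqNorm (w : GolayPt → ℤ) = 32 → sqNorm (u' : GolayPt → ℤ) = 32 →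
      sqNorm (w' : GolayPt → ℤ) = 32 → dotInt (u : GolayPt → ℤ) (w : GolayPt → ℤ) = -8 →
      dotInt (u' : GolayPt → ℤ) (w' : GolayPt → ℤ) = -8 → B u w = B u' w' := by
    intro u w u' w' hu hw hu' hw' hd hd'
    obtain ⟨g1, hg1⟩ := Cfsg.Agent.S0400.result u u' hu hu'
    have hd1 : dotInt (u' : GolayPt → ℤ) ((g1 • w : ↥leechLattice) : GolayPt → ℤ) = -8 := by
      rw [← hg1, hdotp]
      exact hd
    obtain ⟨g2, hg2a, hg2b⟩ := Cfsg.Agent.S1575.result u' (g1 • w) w' hu'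
      (by rw [hnorm]; exact hw) hw' hd1 hd'
    rw [← hBinv g1 u w, hg1, ← hBinv g2 u' (g1 • w), hg2a, hg2b]
  have hc4z : B b0V b1V = 0 := by
    have h1 := hBadd' b1V b2V b0V
    rw [hc4 b0V (b1V + b2V) b0V b1V f32f f32i f32f f32g fd5 fd3,
      hc4 b0V b2V b0V b1V f32f f32h f32f f32g fd4 fd3, z1] at h1
    exact h1
  have hc2z : Q uV = 0 := by
    have h1 := hBadd' a1V a2V uV
    rw [hc3 uV a2V uV a1V f32a f32c f32a f32b fd2 fd1, z1] at h1
    rw [hBdef, hc2 (uV + (a1V + a2V)) f32e, hc2 (a1V + a2V) f32d] at h1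
    have h' : ∀ a : ZMod 2, a + a + a = 0 → a = 0 := by decide
    exact h' _ h1
  have hQmin : ∀ u : ↥leechLattice, sqNorm (u : GolayPt → ℤ) = 32 → Q u = 0 := by
    intro u hu
    rw [hc2 u hu, hc2z]
  obtain ⟨c3, hc3def⟩ : ∃ c3 : ZMod 2, c3 = B uV a1V := ⟨_, rfl⟩
  have hmin : ∀ u w : ↥leechLattice, sqNorm (u : GolayPt → ℤ) = 32 →
      sqNorm (w : GolayPt → ℤ) = 32 →
      B u w = c3 * bet (u : GolayPt → ℤ) (w : GolayPt → ℤ) := by
    intro u w hu hw
    have hnegw : sqNorm ((-w : ↥leechLattice) : GolayPt → ℤ) = 32 := by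
      rw [AddSubgroup.coe_neg, sqNorm_neg]
      exact hw
    have hdneg : dotInt (u : GolayPt → ℤ) ((-w : ↥leechLattice) : GolayPt → ℤ)
        = - dotInt (u : GolayPt → ℤ) (w : GolayPt → ℤ) := by
      rw [AddSubgroup.coe_neg, dotInt_neg_right]
    have hplus := sqNorm_add (u : GolayPt → ℤ) (w : GolayPt → ℤ)
    have hminus := sqNorm_add (u : GolayPt → ℤ) ((-w : ↥leechLattice) : GolayPt → ℤ)
    rw [hdneg, hnegw] at hminus
    unfold bet
    rcases min_dots (u : GolayPt → ℤ) (w : GolayPt → ℤ) u.2 w.2 hu hw with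
      h | h | h | h | h | h | h
    · -- -32
      have h0 : u + w = 0 := by
        apply Subtype.ext
        rw [AddSubgroup.coe_add]
        apply LeechCross.eq_zero_of_sqNorm
        omega
      rw [hBdef, h0, hQ0, hQmin u hu, hQmin w hw, h]
      exact zf_m32 c3
    · -- -16
      have h0 : sqNorm ((u + w : ↥leechLattice) : GolayPt → ℤ) = 32 := by
        rw [AddSubgroup.coe_add]
        omega
      rw [hBdef, hQmin _ h0, hQmin u hu, hQmin w hw, h]
      exact zf_m16 c3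
    · -- -8
      rw [hc3 u w uV a1V hu hw f32a f32b h fd1, ← hc3def, h]
      exact zf_m8 c3
    · -- 0
      rw [hc4 u w b0V b1V hu hw f32f f32g h fd3, hc4z, h]
      exact zf_0 c3
    · -- 8
      rw [← hBneg, hc3 u (-w) uV a1V hu hnegw f32a f32b (by rw [hdneg, h]) fd1, ← hc3def, h]
      exact zf_8 c3
    · -- 16
      have h0 : sqNorm ((u + -w : ↥leechLattice) : GolayPt → ℤ) = 32 := by
        rw [AddSubgroup.coe_add]
        omega
      rw [← hBneg, hBdef, hQmin _ h0, hQmin u hu, hQmin _ hnegw, h]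
      exact zf_16 c3
    · -- 32
      have h0 : u + -w = 0 := by
        apply Subtype.ext
        rw [AddSubgroup.coe_add]
        apply LeechCross.eq_zero_of_sqNorm
        omega
      rw [← hBneg, hBdef, h0, hQ0, hQmin u hu, hQmin _ hnegw, h]
      exact zf_32 c3
  have hgen := Cfsg.Agent.S1567.result
  have stage1a : ∀ u : ↥leechLattice, sqNorm (u : GolayPt → ℤ) = 32 →
      ∀ x ∈ AddSubgroup.closure {x : GolayPt → ℤ | x ∈ leechLattice ∧ sqNorm x = 32},
      ∀ h : x ∈ leechLattice, B u ⟨x, h⟩ = c3 * bet (u : GolayPt → ℤ) x := by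
    intro u hu x hx
    induction hx using AddSubgroup.closure_induction with
    | mem x hx =>
      intro h
      exact hmin u ⟨x, h⟩ hu hx.2
    | zero =>
      intro h
      have e : (⟨0, h⟩ : ↥leechLattice) = 0 := rfl
      rw [e, hBzero]
      unfold bet
      rw [dotInt_zero_right]
      simp
    | add x y hx hy ihx ihy =>
      intro h
      have hxL : x ∈ leechLattice := hgen ▸ hx
      have hyL : y ∈ leechLattice := hgen ▸ hy
      have e : (⟨x + y, h⟩ : ↥leechLattice) = ⟨x, hxL⟩ + ⟨y, hyL⟩ := rfl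
      rw [e, hBadd', ihx hxL, ihy hyL, bet_add_right x y _ hxL hyL u.2, mul_add]
    | neg x hx ih =>
      intro h
      have hxL : x ∈ leechLattice := hgen ▸ hx
      have e : (⟨-x, h⟩ : ↥leechLattice) = -⟨x, hxL⟩ := rfl
      rw [e, hBneg, ih hxL, bet_neg_right x _ hxL u.2]
  have stage1b : ∀ y : ↥leechLattice,
      ∀ x ∈ AddSubgroup.closure {x : GolayPt → ℤ | x ∈ leechLattice ∧ sqNorm x = 32},
      ∀ h : x ∈ leechLattice, B ⟨x, h⟩ y = c3 * bet x (y : GolayPt → ℤ) := by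
    intro y x hx
    induction hx using AddSubgroup.closure_induction with
    | mem x hx =>
      intro h
      have hy : (y : GolayPt → ℤ) ∈ AddSubgroup.closure
          {x : GolayPt → ℤ | x ∈ leechLattice ∧ sqNorm x = 32} := by
        rw [hgen]
        exact y.2
      exact stage1a ⟨x, h⟩ hx.2 (y : GolayPt → ℤ) hy y.2
    | zero =>
      intro h
      have e : (⟨0, h⟩ : ↥leechLattice) = 0 := rfl
      rw [e, hBsymm, hBzero]
      unfold bet
      rw [dotInt_zero_left]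
      simp
    | add x x' hx hx' ihx ihx' =>
      intro h
      have hxL : x ∈ leechLattice := hgen ▸ hx
      have hxL' : x' ∈ leechLattice := hgen ▸ hx'
      have e : (⟨x + x', h⟩ : ↥leechLattice) = ⟨x, hxL⟩ + ⟨x', hxL'⟩ := rfl
      rw [e, hBadd, ihx hxL, ihx' hxL', bet_add_left x x' _ hxL hxL' y.2, mul_add]
    | neg x hx ih =>
      intro h
      have hxL : x ∈ leechLattice := hgen ▸ hx
      have e : (⟨-x, h⟩ : ↥leechLattice) = -⟨x, hxL⟩ := rfl
      rw [e, hBsymm, hBneg, hBsymm, ih hxL, bet_neg_left x _ hxL y.2]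
  have stage2 : ∀ x ∈ AddSubgroup.closure {x : GolayPt → ℤ | x ∈ leechLattice ∧ sqNorm x = 32},
      ∀ h : x ∈ leechLattice, Q ⟨x, h⟩ = c3 * qf x := by
    intro x hx
    induction hx using AddSubgroup.closure_induction with
    | mem x hx =>
      intro h
      rw [hQmin ⟨x, h⟩ hx.2]
      unfold qf
      rw [hx.2]
      exact zf_q c3
    | zero =>
      intro h
      have e : (⟨0, h⟩ : ↥leechLattice) = 0 := rfl
      rw [e, hQ0]
      unfold qf
      rw [sqNorm_zero]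
      simp
    | add x y hx hy ihx ihy =>
      intro h
      have hxL : x ∈ leechLattice := hgen ▸ hx
      have hyL : y ∈ leechLattice := hgen ▸ hy
      have e : (⟨x + y, h⟩ : ↥leechLattice) = ⟨x, hxL⟩ + ⟨y, hyL⟩ := rfl
      have hB := hBdef ⟨x, hxL⟩ ⟨y, hyL⟩
      rw [stage1b ⟨y, hyL⟩ x hx hxL, ihx hxL, ihy hyL] at hB
      rw [e, qf_add x y hxL hyL]
      have h' : ∀ a b c d : ZMod 2, d = a + b + c → a = b + c + d := by decide
      rw [h' _ _ _ _ hB]
      ring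
    | neg x hx ih =>
      intro h
      have hxL : x ∈ leechLattice := hgen ▸ hx
      have e : (⟨-x, h⟩ : ↥leechLattice) = -⟨x, hxL⟩ := rfl
      rw [e, hQneg, ih hxL]
      unfold qf
      rw [sqNorm_neg]
  have hall : ∀ w : ↥leechLattice, Q w = c3 * qf (w : GolayPt → ℤ) := by
    intro w
    have hw : (w : GolayPt → ℤ) ∈ AddSubgroup.closure
        {x : GolayPt → ℤ | x ∈ leechLattice ∧ sqNorm x = 32} := by
      rw [hgen]
      exact w.2
    exact stage2 (w : GolayPt → ℤ) hw w.2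
  have hc31 : c3 = 1 := by
    obtain ⟨v0, hv0⟩ := hne
    rw [hall v0] at hv0
    have h' : ∀ a b : ZMod 2, a * b ≠ 0 → a = 1 := by decide
    exact h' _ _ hv0
  rw [hall v, hc31, one_mul]
  rfl
end Cfsg.Agent.S5552
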