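import Cfsg.Statements.S5392
import Cfsg.Agent.Lib.Helper28.Leech
import Cfsg.Agent.Lib.Helper4.LeechCross
import Cfsg.Agent.Lib.Helper4.Orb2
import Cfsg.Agent.Lib.Helper4.CoA
import Cfsg.Agent.S1567
import Cfsg.Agent.S1570
import Cfsg.Agent.S0400
import Cfsg.Agent.S1576
import Cfsg.Agent.S5551
import Cfsg.Agent.S5552
import Cfsg.Agent.S5593

set_option autoImplicit false
open Cfsg

namespace Cfsg.Agent.S5392

open Cfsg.Agent.Lib.Helper4 Cfsg.Agent.Lib.Helper28 Cfsg.Agent.S5552

def c0L : List ℤ := [4, 0, 4, 0, 0, 0, 0, 0, 0, 0, 0, 0, 0, 0, 0, 0, 0, 0, 0, 0, 0, 0, 0, 0]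

theorem c0V_chk : Xi.inD (fun k => 2 * Orb.vecL c0L k) 0 0 := by decide +kernel

def c0V : leechLattice := ⟨Orb.vecL c0L, Orb.mem_of_double _ 0 0 c0V_chk⟩

def t1L : List ℤ := [4, 4, 4, 4, 0, 0, 0, 0, 0, 0, 0, 0, 0, 0, 0, 0, 0, 0, 0, 0, 0, 0, 0, 0]

theorem t1V_chk : Xi.inD (fun k => 2 * Orb.vecL t1L k) 0 0 := by decide +kernel

def t1V : leechLattice := ⟨Orb.vecL t1L, Orb.mem_of_double _ 0 0 t1V_chk⟩

def t2L : List ℤ := [-4, -4, -4, 0, 4, 0, 0, 0, 0, 0, 0, 0, 0, 0, 0, 0, 0, 0, 0, 0, 0, 0, 0, 0]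

theorem t2V_chk : Xi.inD (fun k => 2 * Orb.vecL t2L k) 0 0 := by decide +kernel

def t2V : leechLattice := ⟨Orb.vecL t2L, Orb.mem_of_double _ 0 0 t2V_chk⟩

theorem factsN : sqNorm (Orb.vecL c0L) = 32 ∧ sqNorm (Orb.vecL t1L) = 64 ∧ sqNorm (Orb.vecL t2L) = 64 ∧
    sqNorm (Orb.vecL t1L + Orb.vecL t2L) = 32 ∧ sqNorm (Orb.vecL b0L) = 32 ∧ sqNorm (Orb.vecL b1L) = 32 ∧
    dotInt (Orb.vecL b0L) (Orb.vecL c0L) = 16 ∧ dotInt (Orb.vecL c0L) (Orb.vecL b1L) = 16 ∧
    dotInt (Orb.vecL b0L) (Orb.vecL b1L) = 0 := by decide +kernel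

def octL : List ℕ := [9347075, 3227948, 4202192, 6053905, 10584520, 138790, 13771273, 2409888, 596054, 14919680, 5017889]

theorem octL_red : ∀ m ∈ octL, Golay.red Golay.basisP m = 0 := by decide +kernel

theorem octL_wt : ∀ m ∈ octL, ∑ i : GolayPt, (if Golay.word m i = 1 then (1 : ℤ) else 0) = 8 := by
  decide +kernel

theorem octL_sep : ∀ i j : GolayPt, i ≠ j → ∃ m ∈ octL, Golay.word m i = 1 ∧ Golay.word m j = 0 := by
  decide +kernel

theorem z2mul (a b : ZMod 2) : a * b = if a = 1 then b else 0 := by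
  revert a b
  decide

theorem z2sq (a : ZMod 2) : a ^ 2 = a := by
  revert a
  decide

/-- For a word `c` of the code of weight 8 and a lattice vector `y`, the sum of the squares of the
coordinates of `y` over the support of `c` is divisible by 8. -/
theorem oct_sum (y : GolayPt → ℤ) (hy : y ∈ leechLattice) (c : GolayPt → ZMod 2)
    (hc : c ∈ golayCode) (hw : ∑ i : GolayPt, (if c i = 1 then (1 : ℤ) else 0) = 8) :
    (8 : ℤ) ∣ ∑ i, (if c i = 1 then y i ^ 2 else 0) := by
  obtain ⟨m, t, hyt, ht, -⟩ := leech_struct y hy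
  have key : ∀ i, (if c i = 1 then y i ^ 2 else 0) = m ^ 2 * (if c i = 1 then (1 : ℤ) else 0)
      + 4 * m * (if c i = 1 then t i else 0) + 4 * (if c i = 1 then t i ^ 2 else 0) := by
    intro i
    rw [hyt i]
    split_ifs <;> ring
  rw [Finset.sum_congr rfl (fun i _ => key i), Finset.sum_add_distrib, Finset.sum_add_distrib,
    ← Finset.mul_sum, ← Finset.mul_sum, ← Finset.mul_sum, hw]
  have horth := Golay.self_orth c (zword t) hc ht
  have hP' : ((∑ i, (if c i = 1 then t i else 0) : ℤ) : ZMod 2) = 0 := by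
    rw [Int.cast_sum, ← horth]
    apply Finset.sum_congr rfl
    intro i _
    rw [z2mul]
    split_ifs
    · rfl
    · simp
  have hR' : ((∑ i, (if c i = 1 then t i ^ 2 else 0) : ℤ) : ZMod 2) = 0 := by
    rw [Int.cast_sum, ← horth]
    apply Finset.sum_congr rfl
    intro i _
    rw [z2mul]
    split_ifs
    · rw [Int.cast_pow, z2sq]
      rfl
    · simp
  have hP : (2 : ℤ) ∣ ∑ i, (if c i = 1 then t i else 0) := by
    have := (ZMod.intCast_zmod_eq_zero_iff_dvd _ 2).mp hP'
    exact_mod_cast this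
  have hR : (2 : ℤ) ∣ ∑ i, (if c i = 1 then t i ^ 2 else 0) := by
    have := (ZMod.intCast_zmod_eq_zero_iff_dvd _ 2).mp hR'
    exact_mod_cast this
  obtain ⟨p, hp⟩ := hP
  obtain ⟨r, hr⟩ := hR
  rw [hp, hr]
  exact ⟨m ^ 2 + m * p + r, by ring⟩

theorem sgn_diff (y : GolayPt → ℤ) (c : GolayPt → ZMod 2) :
    sqNorm (y - CoA.sgn c y) = 4 * ∑ i, (if c i = 1 then y i ^ 2 else 0) := by
  unfold sqNorm
  rw [Finset.mul_sum]
  apply Finset.sum_congr rfl
  intro i _
  rw [Pi.sub_apply]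
  unfold CoA.sgn
  split_ifs <;> ring

theorem two_smul_eq (z : GolayPt → ℤ) : (2 : ℤ) • z = (2 : ℕ) • z := by
  rw [two_zsmul, two_nsmul]

/-- Congruent vectors modulo twice the lattice have sums of squares congruent modulo 32. -/
theorem norm_congr (y z : GolayPt → ℤ) (hy : y ∈ leechLattice) (hz : z ∈ leechLattice) :
    (32 : ℤ) ∣ sqNorm (y + (2 : ℕ) • z) - sqNorm y := by
  obtain ⟨a, ha⟩ := LeechCross.sqNorm_dvd z hz
  obtain ⟨d, hd⟩ := dot_dvd y z hy hz
  have h1 := sqNorm_add y ((2 : ℕ) • z)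
  have h2 : dotInt y ((2 : ℕ) • z) = 2 * dotInt y z := by
    rw [two_nsmul, dotInt_add_right]
    ring
  rw [sqNorm_two_nsmul, h2] at h1
  exact ⟨d + 2 * a, by omega⟩

theorem part1 (g : ↥Co0) (hg : ∀ v : ↥leechLattice, ∃ w : ↥leechLattice,
    ((g • v : ↥leechLattice) : GolayPt → ℤ) - (v : GolayPt → ℤ) = 2 • (w : GolayPt → ℤ)) :
    g ∈ Subgroup.center ↥Co0 := by
  obtain ⟨fc0, -, -, -, fb0, fb1, fd1, fd2, fd3⟩ := factsN
  have hadd : ∀ (g : ↥Co0) (x y : ↥leechLattice), g • (x + y) = g • x + g • y :=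
    fun g x y => g.2.1 x y
  have hnorm : ∀ (g : ↥Co0) (x : ↥leechLattice),
      sqNorm ((g • x : ↥leechLattice) : GolayPt → ℤ) = sqNorm (x : GolayPt → ℤ) :=
    fun g x => g.2.2 x
  have hdotp : ∀ (g : ↥Co0) (x y : ↥leechLattice),
      dotInt ((g • x : ↥leechLattice) : GolayPt → ℤ) ((g • y : ↥leechLattice) : GolayPt → ℤ)
        = dotInt (x : GolayPt → ℤ) (y : GolayPt → ℤ) := by
    intro g x y
    have h1 := hnorm g (x + y)
    rw [hadd] at h1
    have h2 := sqNorm_add ((g • x : ↥leechLattice) : GolayPt → ℤ)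
      ((g • y : ↥leechLattice) : GolayPt → ℤ)
    have h3 := sqNorm_add (x : GolayPt → ℤ) (y : GolayPt → ℤ)
    rw [hnorm, hnorm] at h2
    rw [AddSubgroup.coe_add, AddSubgroup.coe_add] at h1
    omega
  have hzero : ∀ k : ↥Co0, k • (0 : ↥leechLattice) = 0 :=
    fun k => CoA.map_zero_of_add (fun v => k • v) (hadd k)
  have hneg : ∀ (k : ↥Co0) (v : ↥leechLattice), k • (-v) = -(k • v) :=
    fun k v => CoA.map_neg_of_add (fun v => k • v) (hadd k) v
  have hpm : ∀ v : ↥leechLattice, sqNorm (v : GolayPt → ℤ) = 32 → g • v = v ∨ g • v = -v := by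
    intro v hv
    obtain ⟨w, hw⟩ := hg v
    have hv0 : (v : GolayPt → ℤ) ≠ 0 := by
      intro h
      rw [h, sqNorm_zero] at hv
      omega
    have hgv0 : ((g • v : ↥leechLattice) : GolayPt → ℤ) ≠ 0 := by
      intro h
      have := hnorm g v
      rw [h, sqNorm_zero, hv] at this
      omega
    obtain ⟨-, h2⟩ := Cfsg.Agent.S5551.result ((g • v : ↥leechLattice) : GolayPt → ℤ)
      (v : GolayPt → ℤ) (g • v).2 v.2 hgv0 hv0 (by rw [hnorm, hv]; norm_num)
      (by rw [hv]; norm_num) ⟨w, w.2, hw⟩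
    rcases h2 (by rw [hnorm, hv]; norm_num) with h | h
    · left
      exact Subtype.ext h.symm
    · right
      apply Subtype.ext
      rw [AddSubgroup.coe_neg, h, neg_neg]
  have hcons : ∀ u w : ↥leechLattice, sqNorm (u : GolayPt → ℤ) = 32 →
      sqNorm (w : GolayPt → ℤ) = 32 → dotInt (u : GolayPt → ℤ) (w : GolayPt → ℤ) ≠ 0 →
      g • u = u → g • w = w := by
    intro u w hu hw hd h1
    rcases hpm w hw with h2 | h2
    · exact h2
    · exfalso
      have hdp := hdotp g u w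
      rw [h1, h2, AddSubgroup.coe_neg, dotInt_neg_right] at hdp
      omega
  have hlink : ∀ u w : ↥leechLattice, sqNorm (u : GolayPt → ℤ) = 32 →
      sqNorm (w : GolayPt → ℤ) = 32 → g • u = u → g • w = w := by
    intro u w hu hw h1
    by_cases hd : dotInt (u : GolayPt → ℤ) (w : GolayPt → ℤ) = 0
    · obtain ⟨k1, hk1⟩ := Cfsg.Agent.S0400.result u b0V hu fb0
      have hd1 : dotInt (b0V : GolayPt → ℤ) ((k1 • w : ↥leechLattice) : GolayPt → ℤ) = 0 := by
        rw [← hk1, hdotp]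
        exact hd
      obtain ⟨k2, hk2a, hk2b⟩ := Cfsg.Agent.S1576.result b0V (k1 • w) b1V fb0
        (by rw [hnorm]; exact hw) fb1 hd1 fd3
      obtain ⟨y, hydef⟩ : ∃ y : ↥leechLattice, y = (k2 * k1)⁻¹ • c0V := ⟨_, rfl⟩
      have hky : (k2 * k1) • y = c0V := by
        rw [hydef, smul_inv_smul]
      have hku : (k2 * k1) • u = b0V := by
        rw [mul_smul, hk1, hk2a]
      have hkw : (k2 * k1) • w = b1V ∨ (k2 * k1) • w = -b1V := by
        rw [mul_smul]
        exact hk2b
      have hyn : sqNorm (y : GolayPt → ℤ) = 32 := by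
        rw [← hnorm (k2 * k1) y, hky]
        exact fc0
      have hduy : dotInt (u : GolayPt → ℤ) (y : GolayPt → ℤ) ≠ 0 := by
        rw [← hdotp (k2 * k1) u y, hku, hky]
        show dotInt (Orb.vecL b0L) (Orb.vecL c0L) ≠ 0
        rw [fd1]
        norm_num
      have hdyw : dotInt (y : GolayPt → ℤ) (w : GolayPt → ℤ) ≠ 0 := by
        rw [← hdotp (k2 * k1) y w, hky]
        rcases hkw with h | h
        · rw [h]
          show dotInt (Orb.vecL c0L) (Orb.vecL b1L) ≠ 0
          rw [fd2]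
          norm_num
        · rw [h, AddSubgroup.coe_neg, dotInt_neg_right]
          show -dotInt (Orb.vecL c0L) (Orb.vecL b1L) ≠ 0
          rw [fd2]
          norm_num
      exact hcons y w hyn hw hdyw (hcons u y hu hyn hduy h1)
    · exact hcons u w hu hw hd h1
  have hgen := Cfsg.Agent.S1567.result
  rw [Subgroup.mem_center_iff]
  by_cases hb : g • b0V = b0V
  · -- identity
    have hallmin : ∀ w : ↥leechLattice, sqNorm (w : GolayPt → ℤ) = 32 → g • w = w :=
      fun w hw => hlink b0V w fb0 hw hb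
    have hall' : ∀ x ∈ AddSubgroup.closure {x : GolayPt → ℤ | x ∈ leechLattice ∧ sqNorm x = 32},
        ∀ h : x ∈ leechLattice, g • (⟨x, h⟩ : ↥leechLattice) = ⟨x, h⟩ := by
      intro x hx
      induction hx using AddSubgroup.closure_induction with
      | mem x hx =>
        intro h
        exact hallmin ⟨x, h⟩ hx.2
      | zero =>
        intro h
        exact hzero g
      | add x y hx hy ihx ihy =>
        intro h
        have hxL : x ∈ leechLattice := hgen ▸ hx
        have hyL : y ∈ leechLattice := hgen ▸ hy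
        have e : (⟨x + y, h⟩ : ↥leechLattice) = ⟨x, hxL⟩ + ⟨y, hyL⟩ := rfl
        rw [e, hadd, ihx hxL, ihy hyL]
      | neg x hx ih =>
        intro h
        have hxL : x ∈ leechLattice := hgen ▸ hx
        have e : (⟨-x, h⟩ : ↥leechLattice) = -⟨x, hxL⟩ := rfl
        rw [e, hneg, ih hxL]
    have hall : ∀ v : ↥leechLattice, g • v = v := by
      intro v
      have hv : (v : GolayPt → ℤ) ∈ AddSubgroup.closure
          {x : GolayPt → ℤ | x ∈ leechLattice ∧ sqNorm x = 32} := by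
        rw [hgen]
        exact v.2
      exact hall' (v : GolayPt → ℤ) hv v.2
    have hg1 : g = 1 := Subtype.ext (Equiv.ext (fun v => hall v))
    intro k
    rw [hg1, mul_one, one_mul]
  · -- negation
    have hallmin : ∀ w : ↥leechLattice, sqNorm (w : GolayPt → ℤ) = 32 → g • w = -w := by
      intro w hw
      rcases hpm w hw with h | h
      · exact absurd (hlink w b0V hw fb0 h) hb
      · exact h
    have hall' : ∀ x ∈ AddSubgroup.closure {x : GolayPt → ℤ | x ∈ leechLattice ∧ sqNorm x = 32},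
        ∀ h : x ∈ leechLattice, g • (⟨x, h⟩ : ↥leechLattice) = -⟨x, h⟩ := by
      intro x hx
      induction hx using AddSubgroup.closure_induction with
      | mem x hx =>
        intro h
        exact hallmin ⟨x, h⟩ hx.2
      | zero =>
        intro h
        have e : (⟨0, h⟩ : ↥leechLattice) = 0 := rfl
        rw [e, hzero g, neg_zero]
      | add x y hx hy ihx ihy =>
        intro h
        have hxL : x ∈ leechLattice := hgen ▸ hx
        have hyL : y ∈ leechLattice := hgen ▸ hy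
        have e : (⟨x + y, h⟩ : ↥leechLattice) = ⟨x, hxL⟩ + ⟨y, hyL⟩ := rfl
        rw [e, hadd, ihx hxL, ihy hyL, neg_add]
      | neg x hx ih =>
        intro h
        have hxL : x ∈ leechLattice := hgen ▸ hx
        have e : (⟨-x, h⟩ : ↥leechLattice) = -⟨x, hxL⟩ := rfl
        rw [e, hneg, ih hxL]
    have hall : ∀ v : ↥leechLattice, g • v = -v := by
      intro v
      have hv : (v : GolayPt → ℤ) ∈ AddSubgroup.closure
          {x : GolayPt → ℤ | x ∈ leechLattice ∧ sqNorm x = 32} := by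
        rw [hgen]
        exact v.2
      exact hall' (v : GolayPt → ℤ) hv v.2
    intro k
    apply Subtype.ext
    apply Equiv.ext
    intro v
    show (k * g) • v = (g * k) • v
    rw [mul_smul, mul_smul, hall, hall, hneg]

theorem part2 (M : AddSubgroup (GolayPt → ℤ)) (h2 : ∀ v ∈ leechLattice, (2 : ℤ) • v ∈ M)
    (hM : M ≤ leechLattice)
    (hinv : ∀ g : ↥Co0, ∀ v : ↥leechLattice, (v : GolayPt → ℤ) ∈ M →
      ((g • v : ↥leechLattice) : GolayPt → ℤ) ∈ M) :
    (∀ x ∈ M, ∃ w ∈ leechLattice, x = (2 : ℤ) • w) ∨ M = leechLattice := by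
  obtain ⟨-, ft1, ft2, ft12, -, -, -, -, -⟩ := factsN
  by_contra hcon
  push Not at hcon
  obtain ⟨⟨x, hxM, hx2⟩, hne⟩ := hcon
  have T2 : ∀ y ∈ M, sqNorm y = 32 → False := by
    intro y hyM hyn
    apply hne
    apply le_antisymm hM
    rw [← Cfsg.Agent.S1567.result, AddSubgroup.closure_le]
    intro t ht
    obtain ⟨g, hg⟩ := Cfsg.Agent.S0400.result ⟨y, hM hyM⟩ ⟨t, ht.1⟩ hyn ht.2
    have := hinv g ⟨y, hM hyM⟩ hyM
    rw [hg] at this
    exact this
  have T4 : ∀ y ∈ M, sqNorm y = 64 → False := by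
    intro y hyM hyn
    have ht : ∀ t : ↥leechLattice, sqNorm (t : GolayPt → ℤ) = 64 → (t : GolayPt → ℤ) ∈ M := by
      intro t htn
      obtain ⟨g, z, hz, hgz⟩ := Cfsg.Agent.S5593.result ⟨y, hM hyM⟩ t hyn htn
      have h1 := hinv g ⟨y, hM hyM⟩ hyM
      have h2z : (2 : ℕ) • z ∈ M := by
        rw [← two_smul_eq]
        exact h2 z hz
      have e : (t : GolayPt → ℤ) = ((g • (⟨y, hM hyM⟩ : ↥leechLattice) : ↥leechLattice) :
          GolayPt → ℤ) - (2 : ℕ) • z := by
        rw [← hgz]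
        abel
      rw [e]
      exact M.sub_mem h1 h2z
    have h1 := ht t1V ft1
    have h2' := ht t2V ft2
    exact T2 _ (M.add_mem h1 h2') ft12
  have hred : ∀ x ∈ M, (∀ w ∈ leechLattice, x ≠ (2 : ℤ) • w) →
      ∃ y ∈ M, (sqNorm y = 32 ∨ sqNorm y = 48 ∨ sqNorm y = 64) ∧
        (∀ w ∈ leechLattice, y ≠ (2 : ℤ) • w) ∧ ((32 : ℤ) ∣ sqNorm x → (32 : ℤ) ∣ sqNorm y) := by
    intro x hxM hx2
    obtain ⟨y, hyL, hyn, z, hz, hxy⟩ := Cfsg.Agent.S1570.result x (hM hxM)
    have hxe : x = y + (2 : ℕ) • z := by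
      rw [← hxy]
      abel
    have hyM : y ∈ M := by
      have e : y = x - (2 : ℤ) • z := by
        rw [two_smul_eq, ← hxy]
        abel
      rw [e]
      exact M.sub_mem hxM (h2 z hz)
    have hy2 : ∀ w ∈ leechLattice, y ≠ (2 : ℤ) • w := by
      intro w hw hyw
      apply hx2 (w + z) (leechLattice.add_mem hw hz)
      rw [hxe, hyw, smul_add, two_smul_eq z]
    have hy0 : y ≠ 0 := by
      intro h0
      apply hy2 0 leechLattice.zero_mem
      rw [h0, smul_zero]
    have hmin := leech_min_norm y hyL hy0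
    obtain ⟨k, hk⟩ := LeechCross.sqNorm_dvd y hyL
    refine ⟨y, hyM, by omega, hy2, ?_⟩
    intro h32
    have hc := norm_congr y z hyL hz
    rw [← hxe] at hc
    exact (Int.dvd_iff_dvd_of_dvd_sub hc).mp h32
  obtain ⟨y, hyM, hcases, hy2, -⟩ := hred x hxM hx2
  rcases hcases with h | h | h
  · exact T2 y hyM h
  · have hyL := hM hyM
    have hy0 : y ≠ 0 := by
      intro h0
      rw [h0, sqNorm_zero] at h
      omega
    obtain ⟨i, hi⟩ : ∃ i, y i ≠ 0 := by
      by_contra hc
      push Not at hc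
      exact hy0 (funext hc)
    obtain ⟨j, hji, hj⟩ : ∃ j, j ≠ i ∧ y j ≠ 0 := by
      by_contra hc
      push Not at hc
      have hs : sqNorm y = y i ^ 2 := by
        unfold sqNorm
        rw [Finset.sum_eq_single i]
        · intro b _ hb
          rw [hc b hb]
          norm_num
        · intro hh
          exact absurd (Finset.mem_univ i) hh
      rw [h] at hs
      obtain ⟨a, ha⟩ : ∃ a, a = y i := ⟨_, rfl⟩
      rw [← ha] at hs
      have hb1 : a ≤ 7 := by nlinarith
      have hb2 : -7 ≤ a := by nlinarith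
      interval_cases a <;> omega
    obtain ⟨m, hm, hmi, hmj⟩ := octL_sep i j (Ne.symm hji)
    have hc : Golay.word m ∈ golayCode := Xi.word_mem_of_red (octL_red m hm)
    have hw := octL_wt m hm
    obtain ⟨g, hgdef⟩ : ∃ g : ↥Co0, g = ⟨CoA.sgnP (Golay.word m) hc, CoA.sgnP_mem _ hc⟩ :=
      ⟨_, rfl⟩
    have hgy : ((g • (⟨y, hyL⟩ : ↥leechLattice) : ↥leechLattice) : GolayPt → ℤ)
        = CoA.sgn (Golay.word m) y := by
      rw [hgdef]
      rfl
    have hy'M := hinv g ⟨y, hyL⟩ hyM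
    rw [hgy] at hy'M
    have hy'L := hM hy'M
    have hdM : y - CoA.sgn (Golay.word m) y ∈ M := M.sub_mem hyM hy'M
    have hsi : CoA.sgn (Golay.word m) y i = - y i := by
      unfold CoA.sgn
      rw [if_pos hmi]
    have hsj : CoA.sgn (Golay.word m) y j = y j := by
      unfold CoA.sgn
      rw [if_neg]
      rw [hmj]
      decide
    have hd2 : ∀ w ∈ leechLattice, y - CoA.sgn (Golay.word m) y ≠ (2 : ℤ) • w := by
      intro w hw hdw
      rw [two_smul_eq] at hdw
      have hy'0 : CoA.sgn (Golay.word m) y ≠ 0 := by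
        intro h0
        have := congrFun h0 j
        rw [hsj] at this
        exact hj this
      have hn' : sqNorm (CoA.sgn (Golay.word m) y) = 48 := by
        have hn : sqNorm ((g • (⟨y, hyL⟩ : ↥leechLattice) : ↥leechLattice) :
          GolayPt → ℤ) = sqNorm y := g.2.2 ⟨y, hyL⟩
        rw [← hgy, hn]
        exact h
      obtain ⟨-, hlt⟩ := Cfsg.Agent.S5551.result y (CoA.sgn (Golay.word m) y) hyL hy'L hy0 hy'0
        (by omega) (by omega) ⟨w, hw, hdw⟩
      rcases hlt (by omega) with h1 | h1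
      · have := congrFun h1 i
        rw [hsi] at this
        omega
      · have := congrFun h1 j
        rw [hsj, Pi.neg_apply] at this
        omega
    have hd32 : (32 : ℤ) ∣ sqNorm (y - CoA.sgn (Golay.word m) y) := by
      rw [sgn_diff]
      obtain ⟨r, hr⟩ := oct_sum y hyL (Golay.word m) hc hw
      exact ⟨r, by omega⟩
    obtain ⟨y2, hy2M, hcases2, -, h32⟩ := hred _ hdM hd2
    obtain ⟨r, hr⟩ := h32 hd32
    rcases hcases2 with h' | h' | h'
    · exact T2 y2 hy2M h'
    · omega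
    · exact T4 y2 hy2M h'
  · exact T4 y hyM h

/-- The Leech lattice modulo twice itself is a faithful irreducible module for the first Conway group: an automorphism of the rank-24 lattice built from the length-24 code that moves every lattice vector only by twice a lattice vector lies in the centre of the automorphism group (the centre consists of ±1, which act trivially there, so the kernel is exactly the centre), and an additive subgroup lying between twice the lattice and the lattice that is invariant under all lattice automorphisms is one of the two. -/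
theorem result : (∀ g : ↥Cfsg.Co0, (∀ v : ↥Cfsg.leechLattice, ∃ w : ↥Cfsg.leechLattice, ((g • v : ↥Cfsg.leechLattice) : Cfsg.GolayPt → ℤ) - (v : Cfsg.GolayPt → ℤ) = 2 • (w : Cfsg.GolayPt → ℤ)) → g ∈ Subgroup.center ↥Cfsg.Co0) ∧ ∀ M : AddSubgroup (Cfsg.GolayPt → ℤ), (∀ v ∈ Cfsg.leechLattice, (2 : ℤ) • v ∈ M) → M ≤ Cfsg.leechLattice → (∀ g : ↥Cfsg.Co0, ∀ v : ↥Cfsg.leechLattice, (v : Cfsg.GolayPt → ℤ) ∈ M → ((g • v : ↥Cfsg.leechLattice) : Cfsg.GolayPt → ℤ) ∈ M) → (∀ x ∈ M, ∃ w ∈ Cfsg.leechLattice, x = (2 : ℤ) • w) ∨ M = Cfsg.leechLattice := by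
  exact ⟨part1, part2⟩
end Cfsg.Agent.S5392
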