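import Cfsg.Statements.S5435
import Cfsg.Agent.S0215
import Cfsg.Agent.Lib.Helper4.D8s

set_option autoImplicit false
open Cfsg

namespace Cfsg.Agent.S5435

/-- Let L be a finite non-abelian simple group with an involution z whose centralizer R is a Sylow 2-subgroup of L whose Frattini subgroup is the subgroup generated by z. Then R is dihedral of order 8. -/
theorem result {L : Type*} [Group L] [Finite L] [IsSimpleGroup L] (hL : ¬ IsMulCommutative L) (z : L) (hz : orderOf z = 2) (R : Sylow 2 L) (hR : (R : Subgroup L) = Subgroup.centralizer ({z} : Set L)) (hΦ : (frattini ↥(R : Subgroup L)).map (R : Subgroup L).subtype = Subgroup.zpowers z) : Nonempty (↥(R : Subgroup L) ≃* DihedralGroup 4) := by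
  have hzR : z ∈ (R : Subgroup L) := by
    rw [hR, Subgroup.mem_centralizer_iff]
    intro w hw; rw [Set.mem_singleton_iff.mp hw]
  have hz1 : z ≠ 1 := by intro h; rw [h, orderOf_one] at hz; omega
  have hno : ∀ N : Subgroup L, N.Normal → N.index ≠ 2 := by
    intro N hN hi
    rcases hN.eq_bot_or_eq_top with h | h
    · subst h
      have hc : Nat.card L = 2 := by rw [← Subgroup.index_bot]; exact hi
      have : Fact (Nat.Prime 2) := ⟨Nat.prime_two⟩
      have hcyc : IsCyclic L := isCyclic_of_prime_card hc
      apply hL
      exact ⟨⟨fun a b => hcyc.commGroup.mul_comm a b⟩⟩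
    · subst h
      rw [Subgroup.index_top] at hi
      omega
  by_cases hiso : ∀ g : L, g * z * g⁻¹ ∈ R → g * z * g⁻¹ = z
  · exfalso
    obtain ⟨N, hN, hodd, hcomm⟩ := Cfsg.Agent.S0215.result R z hz hzR hiso
    rcases hN.eq_bot_or_eq_top with h | h
    · subst h
      have hzc : z ∈ Subgroup.center L := by
        rw [Subgroup.mem_center_iff]
        intro g
        have h1 := Subgroup.mem_bot.mp (hcomm g)
        have h2 : z * g = g * z := by
          have e : z * g = (z * g * z⁻¹ * g⁻¹) * (g * z) := by group
          rw [e, h1, one_mul]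
        exact h2.symm
      rcases (inferInstance : (Subgroup.center L).Normal).eq_bot_or_eq_top with h | h
      · rw [h, Subgroup.mem_bot] at hzc
        exact hz1 hzc
      · apply hL
        refine ⟨⟨fun a b => ?_⟩⟩
        have ha : a ∈ Subgroup.center L := by rw [h]; trivial
        exact ((Subgroup.mem_center_iff.mp ha) b).symm
    · subst h
      rw [Subgroup.card_top] at hodd
      have h2 : orderOf z ∣ Nat.card L := orderOf_dvd_natCard z
      rw [hz] at h2
      exact (Nat.not_even_iff_odd.mpr hodd) (even_iff_two_dvd.mpr h2)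
  · have hex : ∃ g : L, g * z * g⁻¹ ∈ (R : Subgroup L) ∧ g * z * g⁻¹ ≠ z := by
      by_contra hcon
      apply hiso
      intro g hg
      by_contra h
      exact hcon ⟨g, hg, h⟩
    obtain ⟨g, hg, hgz⟩ := hex
    exact Cfsg.Agent.Lib.Helper4.D8s.main hno z hz R hR hΦ g hg hgz

end Cfsg.Agent.S5435
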