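import Cfsg.Statements.S5612
import Cfsg.Agent.Lib.Helper28.M24Orb

set_option autoImplicit false
open scoped Pointwise
open Cfsg

namespace Cfsg.Agent.S5612

set_option maxRecDepth 1000000
set_option maxHeartbeats 4000000

open Cfsg Cfsg.Agent.Lib.Helper4.Golay Cfsg.Agent.Lib.Helper28
open Pointwise


def m0 : ℕ × ℕ × ℕ := (5279, 1009728, 15762208)


def gens : List (List ℕ × List ℕ) := [
  ([19, 11, 13, 16, 18, 3, 15, 17, 7, 0, 14, 5, 6, 21, 22, 1, 23, 20, 9, 8, 10, 12, 4, 2], [9, 15, 23, 5, 22, 11, 12, 8, 19, 18, 20, 1, 21, 2, 10, 6, 3, 7, 4, 0, 17, 13, 14, 16]),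
  ([9, 15, 23, 5, 22, 11, 12, 8, 19, 18, 20, 1, 21, 2, 10, 6, 3, 7, 4, 0, 17, 13, 14, 16], [19, 11, 13, 16, 18, 3, 15, 17, 7, 0, 14, 5, 6, 21, 22, 1, 23, 20, 9, 8, 10, 12, 4, 2]),
  ([11, 16, 6, 17, 14, 3, 23, 18, 0, 12, 19, 8, 13, 9, 15, 4, 20, 5, 21, 22, 1, 7, 10, 2], [8, 20, 23, 5, 15, 17, 2, 21, 11, 13, 22, 0, 9, 12, 4, 14, 1, 3, 7, 10, 16, 18, 19, 6]),
  ([8, 20, 23, 5, 15, 17, 2, 21, 11, 13, 22, 0, 9, 12, 4, 14, 1, 3, 7, 10, 16, 18, 19, 6], [11, 16, 6, 17, 14, 3, 23, 18, 0, 12, 19, 8, 13, 9, 15, 4, 20, 5, 21, 22, 1, 7, 10, 2]),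
  ([0, 10, 1, 3, 12, 6, 5, 4, 16, 11, 2, 15, 7, 9, 23, 14, 22, 8, 21, 20, 19, 17, 18, 13], [0, 2, 10, 3, 7, 6, 5, 12, 17, 13, 1, 9, 4, 23, 15, 11, 8, 21, 22, 20, 19, 18, 16, 14]),
  ([0, 2, 10, 3, 7, 6, 5, 12, 17, 13, 1, 9, 4, 23, 15, 11, 8, 21, 22, 20, 19, 18, 16, 14], [0, 10, 1, 3, 12, 6, 5, 4, 16, 11, 2, 15, 7, 9, 23, 14, 22, 8, 21, 20, 19, 17, 18, 13]),
  ([17, 14, 6, 16, 18, 8, 4, 13, 15, 23, 11, 2, 19, 12, 0, 22, 10, 3, 1, 7, 5, 20, 21, 9], [14, 18, 11, 17, 6, 20, 2, 19, 5, 23, 16, 10, 13, 7, 1, 8, 3, 0, 4, 12, 21, 22, 15, 9]),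
  ([14, 18, 11, 17, 6, 20, 2, 19, 5, 23, 16, 10, 13, 7, 1, 8, 3, 0, 4, 12, 21, 22, 15, 9], [17, 14, 6, 16, 18, 8, 4, 13, 15, 23, 11, 2, 19, 12, 0, 22, 10, 3, 1, 7, 5, 20, 21, 9])]

def oB1 : ℕ := 5279

def oC1 : List ((ℕ) × List ℕ) := [
  (5279, []), (1009728, [1]), (15762208, [0])]

def oB2 : ℕ := 90318

def oC2 : List ((ℕ) × List ℕ) := [
  (90318, []), (95313, [7]), (150618, [0, 4]), (153797, [0, 3, 6]),
  (208020, [2, 1, 6]), (210955, [0, 0, 0]), (272595, [1, 4, 2]), (277580, [2, 1]),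
  (346141, [5, 1]), (351362, [0, 2, 0]), (418953, [1, 3, 1]), (421910, [1, 2, 6]),
  (459847, [0, 0, 2]), (463064, [3, 0]), (551943, [0, 7, 2]), (555160, [1, 5, 2]),
  (593097, [5, 3, 7]), (596054, [1, 3, 5]), (663645, [0, 3]), (668866, [2, 5]),
  (737427, [1, 2, 7]), (742412, [5, 3]), (804052, [2, 4]), (806987, [1, 2]),
  (861210, [1, 4, 0]), (864389, [2, 5, 6]), (919694, [6]), (924689, [6, 6]),
  (1050548, [1, 3]), (1053483, [0, 3, 5]), (1256224, [0, 6]), (1852256, [2, 7]),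
  (2130606, [0, 4, 4]), (2135601, [1, 2, 0]), (2220640, [0, 2, 4]), (3050016, [2, 6, 5]),
  (3179802, [6, 5]), (3182981, [1, 4, 3]), (3328320, [2, 5, 1]), (4038912, [0, 3, 1]),
  (4229001, [1, 6]), (4231958, [7, 2]), (4645632, [1, 5]), (4819776, [0, 7]),
  (5275709, [0, 2, 1]), (5280930, [0, 4, 0]), (5621792, [5, 0]), (5939296, [5, 2]),
  (6292775, [5, 0, 7]), (6295992, [3, 0, 0]), (6750560, [6, 3]), (6842656, [3, 4]),
  (7340691, [1, 5, 1]), (7345676, [1, 7]), (7612992, [2, 6]), (8077824, [6, 2, 6]),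
  (8421811, [6, 0]), (8426796, [0]), (8694112, [0, 2, 5]), (9158944, [0, 4, 3]),
  (9471495, [3, 1]), (9474712, [6, 3, 1]), (9929280, [3]), (10021376, [7, 3]),
  (10486557, [3, 6]), (10491778, [2, 6, 3]), (10832640, [1, 4]), (11150144, [0, 6, 4]),
  (11535529, [6, 2]), (11538486, [2]), (11952160, [1, 7, 0]), (12126304, [0, 0]),
  (12584506, [5]), (12587685, [7, 5]), (12733024, [0, 2]), (13443616, [1, 7, 2]),
  (13631886, [0, 0, 3]), (13636881, [0, 7, 3]), (13721920, [3, 1, 2]), (14551296, [1, 3, 0]),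
  (14714004, [0, 7, 7]), (14716939, [1, 5, 7]), (14919680, [1]), (15515712, [7, 1])]

def oB3 : ℕ := 10558

def oC3 : List ((ℕ) × List ℕ) := [
  (10558, []), (15777, [1, 4, 1, 4]), (18147, [0, 6, 1]), (21116, [1, 4, 6, 3]),
  (31554, [1, 4, 6, 5]), (36294, [0, 4, 3, 1]), (39257, [6, 4, 1]), (42232, [2, 6, 2, 6]),
  (45159, [4, 7, 2]), (52005, [0, 0, 4]), (57883, [4, 6, 6, 4]), (63108, [7, 2, 4]),
  (69395, [2, 7, 0, 0]), (72588, [6, 3, 1]), (75309, [1, 2, 1, 2]), (78514, [0, 7, 0, 6]),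
  (84464, [2, 1, 7]), (99029, [1, 4, 1]), (104010, [5]), (115766, [2, 4, 6, 4]),
  (118953, [1, 2, 7, 7]), (126216, [2, 1, 1]), (133817, [0, 2, 7]), (138790, [1, 1, 6, 3]),
  (140167, [1, 4, 3, 5]), (145176, [4, 7, 5, 3]), (157028, [6, 4, 1, 6]), (168928, [0, 2, 5, 7]),
  (175681, [0, 0, 4, 4]), (180636, [3, 5, 2, 7]), (185603, [6, 0, 3, 7]), (190626, [3, 7, 5, 6]),
  (198058, [0, 3, 4]), (201013, [1, 2, 5, 5]), (213833, [3]), (231532, [0, 3, 6]),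
  (237906, [2, 5, 5, 2]), (252432, [1, 2, 0, 5]), (262637, [2, 7, 3, 5]), (267634, [4, 2, 6, 3]),
  (280334, [0, 0, 6]), (283537, [0, 7, 1, 5]), (290352, [7, 1, 5]), (298027, [1, 3, 5, 2]),
  (301236, [1, 1, 2, 0]), (304405, [2, 4, 2]), (307594, [2, 0, 0]), (314056, [0, 4, 2, 6]),
  (334433, [1, 7, 4, 6]), (337856, [1, 6, 5, 1]), (352547, [6, 0, 3]), (361272, [1, 1, 5, 5]),
  (371206, [0, 5, 1, 4]), (381252, [7]), (396116, [0, 4, 7, 7]), (402026, [1, 1, 2]),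
  (416040, [1, 5, 5]), (427666, [1, 4, 0, 2]), (430605, [1, 7, 3, 0]), (442481, [0, 0, 2, 7]),
  (475812, [5, 0, 2]), (493953, [3, 0, 0, 2]), (504864, [0, 7, 4]), (525274, [4, 3, 7]),
  (530245, [2, 5, 0]), (535268, [1, 4, 2]), (542009, [7, 4, 3]), (545190, [2, 5, 6]),
  (560668, [0, 0, 5, 3]), (563843, [2, 6, 3]), (567074, [0, 4, 4]), (580704, [1, 7, 7]),
  (582081, [2, 5]), (602472, [1, 1, 3, 7]), (608810, [3, 5, 0]), (615188, [0, 7, 3, 6]),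
  (622863, [1, 5, 5, 7]), (628112, [6, 0, 5]), (632881, [6, 3, 0]), (657763, [3, 5, 2]),
  (675712, [0, 0, 3, 4]), (684577, [7, 3, 5]), (689317, [0, 0, 2, 4]), (692282, [6, 1, 3]),
  (702724, [4, 3, 5, 0]), (705094, [0, 7, 3, 1]), (722544, [0, 3, 0, 2]), (762504, [4, 4, 3]),
  (786999, [2, 5, 3, 1]), (792232, [3, 0]), (797449, [1, 1, 6, 5]), (832080, [1, 2, 4, 1]),
  (837906, [7, 7, 1]), (843820, [1, 5, 2]), (855332, [4, 7, 4, 0]), (884962, [1, 5, 7, 2]),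
  (902657, [4, 1, 2, 7]), (926128, [1, 3, 0]), (951624, [5, 5, 3]), (987906, [5, 0, 6, 5]),
  (1060490, [4, 2, 0, 6]), (1063445, [4, 3, 6]), (1065303, [0, 0, 2]), (1070536, [2, 6, 4, 2]),
  (1075305, [1, 6, 2, 0]), (1084018, [4, 1, 3]), (1090380, [4, 3, 1]), (1100945, [1, 6, 3, 0]),
  (1103886, [2, 5, 5, 3]), (1110320, [2, 4, 1, 6]), (1116327, [7, 7, 4]), (1121336, [1, 2, 7, 2]),
  (1122713, [2, 7, 1]), (1127686, [1, 7]), (1134148, [0, 4]), (1148257, [7, 4, 6]),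
  (1161408, [0, 2, 6, 3]), (1164162, [5, 7, 4]), (1182989, [3, 5, 3]), (1186194, [6, 0]),
  (1188915, [1, 5, 5, 6]), (1192108, [1, 1, 3]), (1204944, [4, 2, 1, 3]), (1212619, [0, 7, 5, 2]),
  (1217620, [0, 5, 0]), (1230376, [6, 1]), (1245726, [1, 3, 7, 3]), (1250945, [0, 2, 0]),
  (1265762, [6, 5, 5]), (1302533, [4, 1]), (1312345, [0, 7, 5, 6]), (1315526, [0, 7, 2, 7]),
  (1327290, [7, 0, 4]), (1332261, [7, 7, 5]), (1337732, [0, 5, 3, 4]), (1351424, [0, 6]),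
  (1352353, [2, 4, 4]), (1369154, [0, 5]), (1378634, [2, 7, 5]), (1384564, [6, 4, 4]),
  (1405448, [5, 0, 3, 7]), (1410188, [7, 5, 3]), (1413139, [1, 5, 1]), (1445088, [6]),
  (1454401, [1, 3, 6, 5]), (1460739, [3, 6, 6]), (1474854, [3, 0, 0, 7]), (1484824, [0, 3, 5, 6]),
  (1525008, [1, 6, 1]), (1573998, [2, 1]), (1577201, [1, 3, 0, 6]), (1584464, [4, 1, 5, 2]),
  (1589901, [0, 6, 6, 3]), (1594898, [2, 7, 0, 6]), (1608104, [0, 3, 4, 0]), (1613974, [1, 5, 0, 6]),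
  (1618953, [0, 6, 4, 2]), (1647171, [1, 7, 3]), (1661185, [3, 1, 4]), (1664160, [0, 4, 3, 5]),
  (1675812, [3, 0, 4, 2]), (1687640, [0, 3, 0, 4]), (1710664, [1, 2, 1]), (1722420, [3, 7, 3]),
  (1728778, [1, 2, 7]), (1737489, [0, 5, 7, 2]), (1769924, [0, 4, 6, 3]), (1805314, [5, 5, 6]),
  (1836419, [6, 6, 4]), (1839388, [1, 6, 5]), (1849378, [0, 2, 0, 3]), (1869893, [0, 2, 4, 4]),
  (1903248, [7, 0, 7]), (1975812, [2, 6, 0]), (2019456, [0, 6, 3, 7]), (2031657, [0, 2, 7, 1]),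
  (2101096, [0, 0, 3, 6]), (2106966, [5, 7, 5, 1]), (2110153, [5, 3, 6]), (2115979, [3, 7, 4]),
  (2120980, [2, 5, 2]), (2121909, [0, 7, 3, 5]), (2126890, [4, 4]), (2141072, [1, 2, 0]),
  (2147405, [3, 6, 4]), (2150610, [0, 3, 1, 2]), (2162811, [1, 6, 1, 6]), (2168036, [3, 6, 1, 7]),
  (2173253, [5, 5, 7]), (2180760, [2, 0, 0, 5]), (2183687, [0, 2, 6]), (2201890, [0, 2, 1, 6]),
  (2204803, [0, 0, 7, 4]), (2207772, [4, 2, 1]), (2229713, [1, 2, 5]), (2232654, [0, 3, 4, 4]),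
  (2242672, [5, 0, 0]), (2245426, [0, 0, 2, 1, 1]), (2255372, [1, 1, 1, 6]), (2263063, [7, 1, 1]),
  (2268296, [1, 3, 0, 2]), (2269481, [3, 4]), (2296514, [2, 0]), (2313249, [0, 3, 0, 0]),
  (2322816, [2, 4, 4, 2]), (2328324, [3, 5, 7]), (2363013, [5, 7, 7]), (2365978, [2, 4, 4, 3]),
  (2372388, [2, 0, 4]), (2377830, [0, 0, 2, 6]), (2384216, [1, 1, 4]), (2392899, [2, 6, 3, 0]),
  (2409888, [4, 6, 5, 6]), (2422785, [6, 4, 0]), (2425238, [0, 5, 6]), (2430217, [6, 2, 4]),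
  (2435240, [1]), (2460752, [0, 3, 7]), (2491452, [2, 7, 5, 6]), (2494627, [1, 2]),
  (2501890, [3, 5, 7, 4]), (2512448, [0, 4, 2, 7]), (2531524, [3, 0, 4, 6]), (2564625, [0, 4, 0, 6]),
  (2605066, [1, 7, 2, 0]), (2624690, [0, 5, 0, 4]), (2627629, [1, 1, 5, 2]), (2631052, [0, 2, 5, 1]),
  (2634003, [0, 6, 3]), (2640465, [2, 4]), (2654580, [6, 5]), (2664522, [6, 1, 4]),
  (2675464, [3, 1, 6]), (2687905, [0, 3, 0, 7]), (2702848, [2, 0, 2, 1]), (2704706, [3, 1, 2]),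
  (2738308, [0, 6, 5]), (2754059, [2, 0, 2, 5]), (2757268, [6, 0, 4]), (2769128, [5, 0, 5]),
  (2810896, [4, 7, 3, 4]), (2820376, [1, 3, 5]), (2826278, [0, 4, 0, 3]), (2854977, [1, 6, 6]),
  (2890176, [0, 6, 3, 1]), (2892897, [6, 0, 6]), (2908802, [2, 4, 2, 1]), (2916505, [4, 0, 4, 7]),
  (2921478, [7, 3, 1]), (2949708, [7, 5, 1, 7]), (2969648, [1, 4, 0]), (3031301, [0, 5, 7, 7]),
  (3147996, [3, 0, 5]), (3152963, [1, 7, 7, 0]), (3154402, [4, 3, 5]), (3168928, [0, 2, 5, 6]),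
  (3172097, [2, 6]), (3189796, [4, 4, 0]), (3216208, [4, 2, 7]), (3227948, [0, 7, 5, 3]),
  (3237906, [1, 5, 1, 3]), (3246601, [6, 0, 2]), (3277413, [5, 6, 3]), (3294342, [1, 5, 7, 3]),
  (3297305, [3, 0, 2, 1]), (3322370, [0, 3, 0, 6]), (3351624, [2, 7, 4]), (3375280, [0, 4, 0, 0]),
  (3410225, [3, 0, 0]), (3416079, [2, 0, 2]), (3421328, [4, 0, 5, 7]), (3444840, [5, 0]),
  (3457556, [0, 3, 1, 3]), (3474978, [1, 5, 7, 7]), (3489985, [0, 5, 6, 3]), (3539848, [1, 3]),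
  (3610628, [2, 1, 6]), (3672838, [2, 6, 0, 5]), (3678776, [4, 0, 6]), (3698756, [7, 1, 2]),
  (3704512, [3, 7, 3, 4]), (3719203, [0, 2, 4]), (3736597, [6, 6]), (3739786, [1, 6, 4]),
  (3806496, [0, 6, 0, 5]), (3811457, [1, 1, 3, 6]), (3951624, [1, 7, 0, 4]), (4063314, [0, 6, 0]),
  (4196943, [0, 2, 5, 3]), (4202192, [0, 7, 0, 2]), (4203377, [4, 6, 6, 2]), (4213932, [5, 5]),
  (4216883, [0, 5, 7]), (4220306, [0, 2, 1, 1]), (4223245, [3, 7, 5]), (4241960, [4, 7, 5]),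
  (4243818, [3, 7, 2]), (4253780, [1, 2, 4, 6]), (4261212, [0, 3]), (4264387, [1, 5, 2, 7]),
  (4271202, [1, 1, 7, 2]), (4282144, [0, 6, 4, 3]), (4287105, [0, 6, 2]), (4294810, [0, 2, 4, 3]),
  (4299781, [2, 1, 1, 7]), (4301220, [5, 0, 3, 0]), (4325622, [1, 1, 4, 6]), (4330601, [2, 7, 3]),
  (4336072, [1, 1, 5]), (4343317, [0, 0, 7]), (4346506, [0, 7, 4, 2]), (4361520, [7, 4]),
  (4367374, [0, 0, 6, 4]), (4370577, [0, 7, 1]), (4403780, [7, 0, 6]), (4409606, [3, 5, 7, 5]),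
  (4415544, [1, 4, 4]), (4424227, [1, 2, 7, 3]), (4441280, [5, 2, 1, 6]), (4459426, [0, 2, 7, 0]),
  (4465308, [5, 7, 1, 1]), (4470275, [2, 4, 0]), (4476225, [4, 1, 4, 2]), (4485344, [1, 5, 0]),
  (4490852, [7, 0, 2]), (4505735, [0, 3, 7, 2]), (4510744, [4, 3, 4, 1]), (4523185, [1, 2, 4, 4]),
  (4526126, [0, 3, 5]), (4536592, [2, 6, 2]), (4538962, [2, 5, 3, 0]), (4563017, [3, 5, 5]),
  (4587803, [6, 2, 5]), (4593028, [0, 5, 6, 4]), (4597797, [7, 2, 1]), (4626498, [0, 6, 6, 2]),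
  (4656648, [3, 7, 7]), (4721045, [0, 2, 0, 5]), (4726026, [0, 2, 4, 1]), (4726955, [0, 0, 4, 1]),
  (4731956, [1, 1, 4, 0]), (4744776, [1, 3, 7, 5]), (4752467, [7, 7]), (4755660, [0, 5, 5, 3]),
  (4768432, [0, 4, 3, 7]), (4785798, [1, 7, 5]), (4788761, [0, 4, 4, 3]), (4800613, [1, 2, 5, 6]),
  (4845570, [0, 0, 3, 5]), (4850476, [2, 7]), (4860434, [0, 6, 4]), (4870480, [4, 0, 4]),
  (4900873, [6, 2, 6]), (4921504, [3, 6, 2, 0]), (4924673, [5, 3, 4, 0]), (4982904, [5, 0, 4]),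
  (4989254, [1, 2, 0, 0]), (5003780, [5, 2, 6, 4]), (5017889, [2, 4, 1]), (5024896, [0, 0, 2, 1]),
  (5063048, [1, 5, 7, 4]), (5112513, [3, 0, 0, 4]), (5129250, [1, 6, 3]), (5210132, [4, 3, 4, 2]),
  (5249380, [4, 6, 3]), (5252293, [0, 6, 5, 7]), (5255258, [3, 0, 4]), (5262104, [1, 6, 3, 1]),
  (5268006, [5, 2]), (5286147, [4, 6, 5]), (5296705, [7, 7, 0]), (5309160, [3, 7, 0]),
  (5325835, [5, 7, 0]), (5329044, [0, 5, 2]), (5350928, [2, 7, 7, 7]), (5375810, [3, 6, 1, 3]),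
  (5390753, [1, 6, 0]), (5405696, [0, 4, 4, 2]), (5409412, [4, 2, 6]), (5441617, [2, 4, 1, 4]),
  (5476616, [3, 4, 7]), (5508118, [3, 1, 3]), (5511305, [0, 3, 0, 2, 0]), (5514536, [2, 1, 3, 5]),
  (5538256, [6, 5, 7]), (5571333, [3, 0, 7, 3]), (5640752, [4, 4, 2]), (5652556, [6, 3, 4]),
  (5709954, [4, 4, 6]), (5770785, [1, 7, 3, 5]), (5780352, [5, 3, 5]), (5785794, [6, 6, 3]),
  (5817604, [0, 2, 1]), (5833010, [5, 0, 7]), (5842956, [3, 6, 1]), (5899416, [1, 6]),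
  (5902343, [6, 6, 5]), (6053905, [1, 2, 6]), (6062602, [7, 5, 6]), (6100032, [1, 7, 5, 3]),
  (6302745, [5, 2, 1]), (6305926, [4, 7, 7, 5]), (6308804, [0, 7]), (6326497, [0, 2, 1, 7]),
  (6337856, [0, 7, 5, 5]), (6344194, [0, 5, 1]), (6359604, [2, 6, 4, 3]), (6365962, [5, 6, 5]),
  (6379592, [4, 4, 1]), (6406417, [3, 7, 2, 7]), (6429441, [0, 0, 5, 7]), (6432416, [3, 0, 2]),
  (6447171, [1, 6, 5, 3]), (6455896, [1, 5]), (6475812, [0, 3, 7, 5]), (6488205, [6, 2]),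
  (6493202, [0, 5, 6, 5]), (6554826, [0, 3, 5, 5]), (6557781, [1, 2, 4]), (6570537, [1, 3, 0, 3]),
  (6588684, [7, 4, 7]), (6594610, [6, 5, 7, 7]), (6644740, [2, 0, 7, 1]), (6656640, [1, 1, 4, 1]),
  (6703248, [7, 7, 7]), (6820450, [6, 4]), (6832158, [0, 0, 5, 1]), (6837377, [2, 6, 1]),
  (6857221, [0, 6, 3, 0]), (6889680, [4, 0, 5]), (6915112, [1, 6, 2]), (6949956, [2, 0, 6, 3]),
  (6979970, [2, 5, 1]), (7079696, [1, 2, 6, 1]), (7145475, [6, 6, 4, 3]), (7221256, [1, 3, 4]),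
  (7357552, [4, 3, 4]), (7397512, [1, 4, 0, 3]), (7409024, [1, 2, 7, 1]), (7417889, [7, 0, 0]),
  (7438406, [1, 6, 3, 4]), (7473194, [0, 3, 4, 2]), (7479572, [5, 0, 6]), (7622914, [0, 2, 4, 6]),
  (7767041, [0, 3, 4, 2, 6]), (7864649, [6, 0, 5, 0]), (7903248, [7, 0, 7, 5]), (8126628, [0, 6, 0, 4]),
  (8391797, [0, 4, 7]), (8394986, [5, 6, 2]), (8398155, [3, 6, 5]), (8401364, [1, 4, 2, 7]),
  (8407702, [7, 2]), (8412681, [4, 6, 6]), (8414120, [4, 7, 4]), (8431757, [4, 6, 6, 5]),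
  (8436754, [7, 2, 5]), (8439632, [2, 5, 3, 6]), (8455014, [1, 1, 1, 2]), (8464984, [4, 7]),
  (8471941, [0, 4, 2, 4]), (8474906, [4, 1, 2]), (8484900, [4, 2, 0]), (8490656, [3, 6, 0]),
  (8499969, [0, 6, 2, 4]), (8505411, [0, 0]), (8521420, [4]), (8524371, [4, 2, 0, 2]),
  (8536111, [3, 6]), (8541360, [1, 5, 3]), (8546577, [0, 0, 4, 2]), (8555274, [2, 1, 1, 4]),
  (8561204, [1, 4, 6]), (8581192, [1, 4, 6, 2]), (8592704, [0, 2, 5, 2]), (8593633, [1, 7, 0, 0]),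
  (8611330, [3, 0, 4, 3]), (8619033, [3, 7]), (8622214, [2, 5, 2, 5]), (8654232, [4, 2, 1, 4]),
  (8657159, [0, 0, 7, 5]), (8660134, [0, 0, 3, 1]), (8663097, [5, 3, 6, 4]), (8675909, [7, 2, 7]),
  (8683614, [4, 4, 4]), (8688833, [0, 7, 3]), (8704546, [0, 3, 7, 1]), (8716939, [4, 6, 0]),
  (8721940, [4, 7, 7]), (8733800, [4, 2, 4]), (8773776, [0, 3, 1]), (8783649, [1, 1, 5, 3]),
  (8796800, [0, 5, 6, 1]), (8798658, [0, 6, 6, 4]), (8834052, [5, 2, 0]), (8849458, [0, 7, 5]),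
  (8855820, [5, 6]), (8919856, [3, 7, 5, 2]), (8922769, [4, 3, 6, 4]), (8925710, [2, 0, 7, 5]),
  (8931660, [6, 1, 5]), (8937586, [0, 5, 0, 3]), (8946281, [4, 7, 3, 7]), (8963210, [0, 6, 2, 6]),
  (8966165, [1, 2, 0, 0, 0]), (8978620, [3, 5, 1]), (8983587, [0, 0, 2, 5]), (8989058, [3, 0, 7]),
  (8999616, [1, 5, 6, 0]), (9020484, [5, 2, 4]), (9045270, [1, 7, 4]), (9048457, [2, 7, 1, 4]),
  (9055272, [2, 7, 2]), (9078992, [2, 5, 0, 7]), (9112069, [4, 6]), (9178690, [5, 2, 5]),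
  (9193633, [2, 7, 0]), (9204992, [0, 7, 0]), (9208708, [7, 1, 6]), (9240913, [1, 6, 0, 5]),
  (9279496, [0, 6, 1, 3]), (9310308, [4, 3]), (9323032, [4, 6, 0, 6]), (9347075, [2, 6, 4]),
  (9440193, [0, 5, 5, 7]), (9451104, [1, 4, 2, 4]), (9456930, [5, 5, 0]), (9462812, [2, 0, 7]),
  (9465987, [3, 5, 7, 1]), (9486564, [1, 7, 7, 5]), (9503954, [2, 5, 6, 5]), (9506893, [1, 1, 1]),
  (9519665, [2, 5, 5]), (9537812, [0, 0, 3]), (9543722, [1, 3, 7]), (9568632, [3, 6, 2]),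
  (9578566, [0, 4, 4, 4]), (9589508, [4, 7, 3]), (9607201, [2]), (9610624, [4, 4, 1, 3]),
  (9652360, [0, 3, 4, 1]), (9701932, [0, 7, 5, 1]), (9708306, [0, 2, 6, 2]), (9721936, [1, 4, 1, 3]),
  (9748745, [1, 7, 5, 0]), (9769376, [4, 0]), (9776129, [0, 5, 5, 0]), (9830549, [2, 4, 7]),
  (9835530, [0, 4, 0]), (9963547, [5, 0, 2, 6]), (9968772, [1, 4, 2, 6]), (9969957, [0, 2, 5]),
  (9998658, [0, 4, 3]), (10028808, [1, 1, 7]), (10093218, [0, 3, 5, 2]), (10110017, [0, 2]),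
  (10170384, [5, 3]), (10232008, [0, 3, 0, 5]), (10257456, [0, 0, 6, 0]), (10305542, [3, 7, 1]),
  (10496547, [4, 7, 3, 6]), (10506593, [5, 2, 7]), (10513600, [1, 7, 1]), (10525252, [4, 7, 2, 0]),
  (10537016, [0, 3, 5, 0]), (10543366, [1, 4, 1, 2]), (10554382, [0, 4, 6]), (10557585, [4, 3, 0]),
  (10560816, [0, 6, 6]), (10584520, [2, 7, 7]), (10619300, [1, 1, 3, 0]), (10625178, [5, 0, 3]),
  (10630149, [1, 4, 3]), (10650722, [3, 5, 1, 2]), (10666625, [1, 1, 4, 3]), (10687016, [1, 1]),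
  (10698836, [4, 4, 4, 3]), (10748656, [1, 5, 0, 5]), (10765331, [0, 6, 5, 2]), (10768524, [0, 6, 4, 7]),
  (10790408, [0, 2, 6, 0]), (10825794, [3, 0, 2, 4]), (10846245, [4, 7, 1]), (10881097, [3, 4, 4]),
  (10916112, [4, 0, 5, 1]), (11010247, [5, 3, 1, 3]), (11015256, [7, 0]), (11028004, [0, 5, 5]),
  (11046145, [4, 1, 4]), (11055264, [5, 3, 5, 6]), (11100169, [0, 2, 0, 6]), (11108882, [0, 5, 3]),
  (11163650, [2, 4, 0, 7]), (11272490, [6, 3]), (11282452, [0, 7, 2]), (11469952, [2, 7, 1, 1]),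
  (11548936, [3, 0, 2, 7]), (11551306, [0, 7, 4, 1]), (11575377, [7, 3]), (11608708, [5, 6, 1]),
  (11654144, [2, 4, 6, 0]), (11669008, [2, 5, 6, 2]), (11731203, [6, 1, 6]), (11797828, [5, 3, 1]),
  (11831426, [5, 2, 6]), (12075408, [5, 3, 4]), (12222476, [1, 7, 0]), (12325377, [1, 2, 6, 5]),
  (12594948, [2, 5, 0, 2]), (12599513, [6, 5, 3]), (12604486, [2, 4, 6]), (12624578, [7, 1]),
  (12638592, [2, 4, 3]), (12641313, [0, 0, 5]), (12650793, [3, 5]), (12656663, [0, 4, 2]),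
  (12661896, [6, 4, 3]), (12685424, [1, 5, 0, 4]), (12698124, [0, 4, 2, 0]), (12717187, [0, 2, 6, 5]),
  (12720156, [7, 5, 1]), (12726562, [0, 6, 5, 1]), (12747077, [1, 5, 6]), (12780432, [2, 4, 7, 0]),
  (12849992, [1, 4]), (12861748, [5, 7, 1]), (12871690, [0, 2, 6, 6]), (12880401, [2, 5, 3]),
  (12912836, [1, 4, 6, 0]), (12944642, [6, 6, 2]), (12985424, [7, 5, 5]), (13009064, [1, 1, 4, 4]),
  (13062145, [4, 3, 7, 3]), (13108704, [1, 2, 0, 6]), (13121601, [6, 5, 0]), (13124355, [4, 1, 5]),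
  (13142054, [0]), (13148440, [0, 0, 7, 2]), (13192208, [5, 7]), (13262980, [7, 0, 3]),
  (13276672, [0, 0, 2, 0]), (13303882, [2, 1, 3]), (13370381, [2, 0, 6]), (13373586, [0, 5, 2, 5]),
  (13641904, [0, 0, 6, 2]), (13667400, [1, 5, 2, 4]), (13703682, [1, 7, 2]), (13771273, [1, 1, 6]),
  (13811730, [0, 6, 5, 5]), (13829156, [2, 1, 2]), (13893731, [0, 4, 6, 2]), (13911680, [0, 0, 7, 0]),
  (13938692, [5, 7, 5]), (14156372, [2, 4, 2, 0]), (14176296, [0, 3, 0]), (14254209, [3, 1]),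
  (14682450, [0, 7, 4, 4]), (14688364, [4, 2]), (14709264, [7, 1, 7]), (14747201, [6, 0, 3, 5]),
  (14762146, [7, 5]), (14828808, [5, 6, 4]), (14949408, [0, 2, 5, 1, 2]), (14950785, [5, 7, 7, 2]),
  (15073798, [0, 3, 1, 1]), (15207048, [5, 6, 1, 6]), (15274244, [1, 6, 1, 5]), (15335473, [1, 3, 6]),
  (15747077, [0, 5, 1, 7]), (15864000, [0, 5, 0, 0]), (16056344, [1, 5, 7]), (16262146, [4, 1, 1])]

def sB1 : ℕ := 29

def sS1 : List ℕ := [29, 5250, 346112, 663616, 5275680, 10486528]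

def sC1 : List ((ℕ) × List ℕ) := [
  (29, []), (147, [2]), (1031, [7]), (1161, [4]),
  (4107, [5]), (4229, [0]), (5137, [0, 4])]

def sB2 : ℕ := 15

def sS2 : List ℕ := [15, 5264, 622848, 3416064, 4196928, 8536096]

def sC2 : List ((ℕ) × List ℕ) := [
  (15, []), (23, [1, 6]), (27, [1, 7]), (135, [0, 0, 2]),
  (139, [2, 0, 0]), (141, [1, 1, 3]), (149, [0, 7, 1]), (153, [6, 2]),
  (291, [4, 3]), (777, [7]), (1035, [5]), (1037, [4]),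
  (1043, [6, 6]), (1045, [3, 0]), (1049, [7, 7]), (1155, [0, 3]),
  (1157, [0, 0, 0]), (1169, [1, 3, 1]), (2241, [0, 6]), (4103, [0, 3, 4]),
  (4109, [6, 0]), (4115, [2, 1]), (4117, [0, 4, 2]), (4121, [0, 2, 7]),
  (4227, [3, 7]), (4233, [0, 0, 7]), (4241, [3, 1, 1]), (4641, [0, 0]),
  (5123, [1, 2]), (5125, [0, 7, 3]), (5129, [1, 7, 5]), (5249, [7, 2]),
  (8273, [0, 0, 4]), (10243, [0, 6, 6]), (18437, [2, 7]), (20545, [1, 1]),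
  (25601, [2, 0, 4]), (32817, [1]), (33153, [3, 1, 5]), (34305, [0, 3, 6]),
  (66625, [1, 7, 2]), (67593, [4, 2]), (77825, [0, 4, 3]), (81937, [4, 0]),
  (131141, [2, 6]), (137217, [3, 1]), (139273, [6, 3]), (147585, [5, 2]),
  (196611, [0, 0, 3]), (262211, [3, 4, 6]), (264209, [1, 6, 0]), (270465, [5, 0]),
  (278537, [1, 6, 2]), (327685, [1, 3]), (394241, [0, 2, 1]), (524361, [0]),
  (527361, [6, 1]), (532485, [2]), (540675, [0, 7]), (589953, [3, 4]),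
  (655377, [0, 3, 0]), (790529, [3, 5]), (1048617, [0, 4]), (1049091, [6]),
  (1052929, [5, 1]), (1081349, [0, 7, 4]), (2097413, [0, 6, 2]), (2097681, [1, 2, 1]),
  (2098209, [4, 6]), (2134017, [5, 2, 4]), (3145857, [3, 5, 5]), (4194341, [2, 6, 0]),
  (4194945, [2, 1, 3]), (4195585, [1, 3, 4]), (4227081, [0, 3, 1]), (5242897, [3]),
  (6291459, [0, 2]), (8388769, [1, 1, 5]), (8388881, [0, 3, 7]), (8389125, [2, 0]),
  (8421379, [1, 6, 3]), (9438209, [2, 4]), (10485769, [4, 1]), (12587009, [5, 6])]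

def sB3 : ℕ := 293

def sS3 : List ℕ := [293, 51712, 200720, 262344, 6292482, 9969664]

def sC3 : List ((ℕ) × List ℕ) := [
  (293, []), (297, [7, 1, 5]), (305, [0, 6, 2]), (417, [6, 1, 5]),
  (547, [3, 1, 6]), (549, [0, 2, 5]), (553, [3, 4]), (561, [2, 6, 6]),
  (673, [4, 7]), (771, [7, 4, 1]), (773, [2, 0, 3]), (785, [1, 2, 5, 2]),
  (897, [1, 4, 3]), (1313, [1, 4, 4]), (1569, [2, 6]), (1793, [0, 0, 6, 4]),
  (2115, [0, 2, 5, 5]), (2117, [2, 6, 5]), (2121, [3]), (2129, [4, 7, 5]),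
  (3137, [0, 0, 4, 3]), (4385, [3, 7]), (4865, [1, 3, 0]), (6209, [6, 6]),
  (8259, [2, 6, 4]), (8261, [5, 7, 0]), (8265, [6]), (8385, [0, 4, 7, 5]),
  (9281, [0, 2]), (10245, [1, 5, 0]), (10249, [3, 7, 3]), (10257, [3, 1]),
  (10369, [1, 2, 4]), (11265, [0, 6, 0, 6]), (12353, [4, 1, 2]), (14337, [5, 3, 0]),
  (16451, [2, 0, 6]), (16453, [0, 6, 1]), (16457, [3, 5, 5]), (16465, [5, 2]),
  (16577, [0, 6, 0]), (17473, [0, 4, 2]), (18435, [4, 3, 5, 7]), (18441, [0, 6]),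
  (18449, [4, 7, 7]), (18561, [5, 6, 1]), (19457, [1, 4, 0]), (22529, [1, 2, 5]),
  (24579, [0, 0, 0]), (24581, [6, 1, 6]), (24585, [0, 3]), (24593, [2]),
  (24705, [6, 2, 7]), (28673, [4, 2]), (32803, [0, 3, 4, 7]), (32805, [3, 1, 3]),
  (32809, [3, 5]), (32929, [1, 7, 3]), (33027, [5, 6, 2]), (33029, [3, 5, 1]),
  (33033, [2, 0, 0]), (33041, [0, 2, 5, 3]), (33283, [1, 4, 0, 4]), (33285, [2, 0, 0, 2]),
  (33289, [0, 0, 3]), (33297, [1, 2]), (33409, [1, 6, 2, 0]), (33825, [1, 1, 2]),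
  (34049, [1, 5, 3]), (36897, [0, 0, 5, 2]), (37121, [0, 0, 7]), (37377, [3, 1, 5]),
  (65603, [5]), (65605, [1, 4]), (65609, [0, 0, 5, 3]), (65617, [0, 7, 4]),
  (65729, [3, 7, 5]), (67587, [2, 1]), (67589, [0, 0, 6]), (67601, [5, 6]),
  (67713, [0, 6, 2, 7]), (68609, [0, 5, 3]), (69697, [3, 4, 0]), (71681, [0, 0, 3, 0]),
  (73731, [2, 7, 1]), (73733, [0, 2, 6, 5]), (73737, [0, 3, 0]), (73745, [0, 4, 4, 2]),
  (73857, [3, 6, 4]), (74753, [5, 5, 2]), (81923, [0, 6, 1, 3]), (81925, [4, 6]),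
  (81929, [2, 4, 3]), (82049, [0, 0, 7, 5]), (82945, [7, 4]), (86017, [0, 5, 2]),
  (131139, [0, 7, 7, 7]), (131145, [7, 1]), (131153, [0, 5, 6]), (131265, [0, 4, 6, 6]),
  (132161, [4]), (133123, [3, 0, 3]), (133125, [1, 6, 3]), (133129, [0, 4, 2, 1]),
  (133137, [0, 0, 7, 4]), (133249, [0, 7, 0, 6]), (134145, [7, 4, 7]), (135233, [6, 1]),
  (139267, [4, 3, 7]), (139269, [0, 7, 1]), (139281, [2, 5, 0]), (139393, [2, 1, 6]),
  (140289, [1, 7, 4, 2]), (143361, [0, 2, 1, 3]), (147459, [2, 6, 0]), (147461, [7, 1, 6]),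
  (147465, [1, 6, 4]), (147473, [2, 0]), (148481, [0, 3, 7, 1]), (151553, [0, 0, 0, 7]),
  (196613, [0]), (196617, [1, 3, 6, 6]), (196625, [6, 2]), (196737, [4, 3, 6]),
  (197633, [4, 0]), (200705, [0, 3, 7]), (262213, [2, 5, 6]), (262217, [1, 1, 6, 5]),
  (262225, [7, 4, 0]), (262337, [0, 7, 5]), (263233, [1, 5]), (264195, [0, 3, 1]),
  (264197, [6, 1, 1]), (264201, [1, 5, 6]), (264321, [4, 2, 0]), (265217, [1, 5, 7, 4]),
  (266305, [6, 4, 0]), (268289, [1, 4, 2]), (270339, [7, 5]), (270341, [1, 7, 0, 6]),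
  (270345, [1, 2, 1, 1]), (270353, [6, 0, 5]), (271361, [5, 3]), (274433, [1, 6, 1]),
  (278531, [0, 3, 0, 3]), (278533, [0, 7, 7]), (278545, [0, 2, 4, 3]), (278657, [4, 3]),
  (279553, [0, 2, 6, 2]), (282625, [0, 0, 3, 7]), (327683, [0, 0]), (327689, [1, 3, 6, 3]),
  (327697, [7, 2]), (327809, [0, 6, 3]), (328705, [0, 5, 0]), (331777, [3, 5, 0]),
  (393219, [0, 4, 4]), (393221, [5, 0]), (393225, [2, 0, 7]), (393233, [4, 0, 2]),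
  (393345, [3, 7, 2, 5]), (397313, [2, 7]), (524355, [7, 7, 5]), (524357, [0, 4, 6]),
  (524369, [0, 7, 0]), (524481, [1, 3]), (525377, [3, 4, 6]), (526339, [6, 4, 2]),
  (526341, [0, 2, 6, 3]), (526345, [1, 4, 4, 3]), (526353, [1, 5, 2]), (526465, [0, 4, 3]),
  (528449, [7, 0, 5]), (530433, [0, 7, 4, 7]), (532483, [2, 6, 5, 6]), (532489, [4, 7, 0]),
  (532497, [4, 1, 6]), (532609, [0, 0, 5, 7]), (533505, [1, 1, 5]), (536577, [1, 1, 7]),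
  (540677, [1, 1, 4]), (540681, [2, 6, 1]), (540689, [3, 0, 4, 2]), (540801, [1, 7, 0, 2]),
  (541697, [1, 6, 4, 2]), (544769, [2, 1, 3]), (589827, [0, 0, 3, 1]), (589829, [6, 3]),
  (589833, [3, 0, 5]), (589841, [0, 3, 6]), (590849, [2, 6, 2]), (593921, [5, 6, 3]),
  (655363, [1, 6, 2]), (655365, [0, 5, 7, 1]), (655369, [3, 0, 4]), (655489, [1, 2, 0]),
  (656385, [0, 5, 2, 7]), (659457, [4, 2, 7]), (786435, [1, 2, 1]), (786437, [1, 7]),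
  (786441, [1, 3, 0, 2]), (786449, [3, 6, 1]), (786561, [0, 5, 6, 3]), (787457, [0, 0, 2]),
  (1048611, [0, 2, 1]), (1048613, [7, 7]), (1048625, [7, 0]), (1048737, [1, 1, 3]),
  (1048835, [2, 1, 2]), (1048837, [4, 0, 7]), (1048841, [3, 0]), (1048849, [5, 2, 6]),
  (1048961, [0, 3, 1, 2]), (1049093, [1, 1, 5, 0]), (1049097, [0, 2, 6, 1]), (1049105, [1, 3, 1]),
  (1049217, [0, 3, 0, 7]), (1049633, [0, 4, 6, 4]), (1049857, [6, 3, 4]), (1050113, [4, 7, 0, 7]),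
  (1052705, [1, 3, 4]), (1053185, [0, 4, 3, 4]), (1081347, [6, 1, 6, 0]), (1081353, [1, 7, 7]),
  (1081361, [0, 7, 2]), (1081473, [5, 0, 7]), (1082369, [1, 1, 4, 4]), (1085441, [7, 1, 3]),
  (2097187, [4, 1]), (2097189, [1, 5, 5]), (2097193, [3, 6, 0]), (2097201, [6, 1, 4]),
  (2097313, [0, 5, 6, 4]), (2097411, [4, 0, 4]), (2097417, [2, 0, 7, 5]), (2097425, [6, 3, 7]),
  (2097537, [1, 4, 7]), (2097667, [6, 1, 3]), (2097669, [5, 3, 5]), (2097673, [0, 6, 1, 2]),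
  (2097793, [6, 0, 3]), (2098433, [0, 4]), (2098689, [2, 7, 7]), (2101281, [1, 2, 6]),
  (2101505, [7, 0, 0]), (2101761, [6, 2, 1]), (2129923, [0, 3, 4, 3]), (2129925, [1, 5, 7]),
  (2129929, [3, 4, 2]), (2129937, [0, 6, 2, 1]), (2130049, [2, 0, 4]), (2130945, [0, 0, 4, 2]),
  (3145731, [1, 7, 5]), (3145733, [0, 0, 2, 5]), (3145737, [0, 0, 0, 3]), (3145745, [2, 4, 7, 1]),
  (3146753, [1, 2, 1, 5]), (3149825, [7, 2, 1]), (4194339, [1]), (4194345, [1, 1, 6]),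
  (4194353, [2, 5, 2]), (4194465, [3, 5, 6]), (4194563, [0, 5]), (4194565, [0, 0, 4]),
  (4194569, [2, 6, 0, 0]), (4194577, [1, 4, 0, 2]), (4194689, [7, 2, 4]), (4194819, [3, 0, 7]),
  (4194821, [5, 7]), (4194825, [0, 3, 0, 5]), (4194833, [3, 6]), (4195361, [5, 5]),
  (4195841, [4, 0, 3]), (4198433, [0, 7]), (4198657, [6, 2, 5]), (4198913, [5, 5, 7]),
  (4227075, [0, 0, 6, 5]), (4227077, [0, 0, 0, 6]), (4227089, [0, 2, 5, 0]), (4227201, [5, 0, 3]),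
  (4228097, [2, 1, 5]), (4231169, [1, 3, 7]), (5242883, [2, 7, 0]), (5242885, [0, 5, 7, 0]),
  (5242889, [6, 0, 2]), (5243009, [3, 5, 2]), (5243905, [1, 7, 4]), (5246977, [2, 4, 1]),
  (6291461, [0, 2, 5, 6]), (6291465, [1, 3, 7, 3]), (6291473, [0, 7, 3]), (6291585, [0, 4, 3, 6]),
  (6292481, [0, 0, 5]), (6295553, [3, 7, 2]), (8388643, [0, 2, 4]), (8388645, [0, 4, 2, 5]),
  (8388649, [6, 4]), (8388657, [7, 3]), (8388867, [0, 0, 6, 2]), (8388869, [1, 6, 3, 1]),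
  (8388873, [1, 6]), (8388993, [1, 1, 2, 0]), (8389123, [2, 7, 3]), (8389129, [0, 3, 5]),
  (8389137, [1, 7, 0]), (8389249, [0, 5, 7]), (8389665, [7, 3, 7]), (8389889, [0, 2, 6]),
  (8390145, [6, 3, 6]), (8392737, [0, 4, 7]), (8392961, [2, 0, 5]), (8393217, [2, 5]),
  (8421381, [0, 0, 0, 4]), (8421385, [0, 3, 4]), (8421393, [1, 3, 6]), (8421505, [2, 4]),
  (8422401, [7, 1, 7]), (8425473, [0, 7, 5, 6]), (9437187, [1, 1]), (9437189, [0, 7, 0, 7]),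
  (9437193, [2, 4, 7]), (9437201, [0, 2, 6, 6]), (9437313, [1, 5, 0, 3]), (9441281, [4, 2, 6]),
  (10485763, [0, 2, 1, 2]), (10485765, [0, 0, 7, 1]), (10485777, [4, 3, 5]), (10485889, [2, 5, 0, 4]),
  (10486785, [0, 7, 1, 4]), (10489857, [0, 3, 4, 2]), (12582915, [2, 4, 6]), (12582917, [7]),
  (12582921, [3, 0, 2]), (12582929, [1, 2, 4, 1]), (12583041, [6, 0]), (12583937, [7, 3, 1])]

def sB4 : ℕ := 39

def sS4 : List ℕ := [39, 45120, 786960, 1116288, 6292736, 8536072]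

def sC4 : List ((ℕ) × List ℕ) := [
  (39, []), (43, [4, 2, 6, 1]), (45, [0, 0, 7, 2]), (51, [1, 2, 5, 5]),
  (53, [6, 0, 2]), (57, [1, 6, 1, 7]), (71, [4, 4, 4]), (75, [5, 0, 3, 7]),
  (77, [5, 1, 7, 1]), (83, [1, 2, 4]), (85, [3, 1, 6, 4]), (89, [4, 3, 1, 3]),
  (99, [1, 2, 7]), (101, [1, 2, 7, 4]), (105, [0, 0, 5, 0]), (113, [6, 4, 1, 7]),
  (163, [6, 6, 4, 0]), (165, [0, 4, 4, 7]), (169, [6, 6, 6, 3]), (177, [0, 7, 4, 4]),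
  (195, [0, 4, 3, 1]), (197, [1, 2, 5]), (201, [4, 7, 3, 0]), (209, [0, 7, 5]),
  (225, [5, 3, 6, 6]), (263, [0, 0, 5]), (267, [3, 6, 6, 2]), (269, [2, 6, 5, 2]),
  (275, [6, 4, 1]), (277, [3, 5, 0, 7]), (281, [2, 4, 1, 5, 0]), (323, [4, 6, 3, 4]),
  (325, [1, 2, 1, 3]), (329, [0, 6, 0, 5]), (337, [5, 3, 6, 2]), (353, [1, 1, 7, 4]),
  (387, [0, 0, 5, 7, 3]), (389, [6, 1, 7, 3]), (393, [2, 0, 0]), (401, [1, 6, 1, 3]),
  (449, [4, 1]), (519, [2, 1, 5, 2]), (523, [3, 0, 5, 0]), (525, [0, 6, 1, 2]),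
  (531, [0, 2, 1, 7]), (533, [1, 7, 0]), (537, [1, 2, 5, 2]), (579, [0, 2, 7, 4, 2]),
  (581, [3, 7, 1]), (585, [2, 7, 7, 4]), (593, [1, 1, 2, 6, 3]), (609, [1, 1, 7, 1]),
  (643, [0, 4, 2, 7, 4]), (645, [0, 3, 1, 4]), (649, [5, 6, 4]), (657, [0, 6, 0, 3]),
  (705, [0, 0, 5, 2]), (801, [7, 4, 1]), (833, [0, 0, 2, 4]), (1059, [4, 4]),
  (1061, [5, 5]), (1065, [6, 6, 4, 2]), (1073, [1, 5, 5, 2]), (1091, [5]),
  (1093, [4]), (1097, [0, 0, 4, 3]), (1105, [0, 0, 4, 0, 2]), (1121, [0, 4, 6, 0]),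
  (1185, [1, 1, 3, 7, 1]), (1217, [4, 4, 3]), (1283, [1, 4, 1, 4]), (1285, [0, 5, 1]),
  (1289, [6, 6, 3, 0]), (1297, [1, 3, 0, 0]), (1345, [0, 0, 7, 1]), (1409, [2, 1, 2, 6]),
  (1539, [0, 7, 0, 7]), (1541, [6, 4, 2, 4]), (1545, [1, 1, 2, 6, 2]), (1553, [0, 0, 4, 1, 2]),
  (1601, [2, 1, 2]), (1665, [4, 2, 0, 7]), (2055, [6, 4, 2]), (2059, [6, 1, 3, 6]),
  (2061, [5, 5, 7, 2]), (2067, [0, 3, 1]), (2069, [1, 5, 1, 6]), (2073, [5, 6]),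
  (2083, [4, 0, 6]), (2085, [2, 1, 2, 5]), (2089, [2, 7, 7]), (2097, [0, 0, 5, 2, 5]),
  (2145, [1, 5, 3, 0]), (2179, [1, 3, 5, 2]), (2181, [0, 5, 5, 6, 1]), (2185, [7, 7, 4]),
  (2193, [0, 4, 2, 5, 5]), (2209, [6, 3, 7, 5]), (2307, [3, 6, 3]), (2309, [0, 0, 0, 2]),
  (2313, [1, 5, 7]), (2321, [5, 3, 6, 0]), (2337, [1, 5, 7, 2]), (2369, [0, 0, 0]),
  (2433, [2, 5, 6, 5, 1]), (2563, [0, 2, 1, 5]), (2565, [5, 7, 3]), (2569, [3, 4, 4, 1]),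
  (2577, [0, 5, 3, 7]), (2593, [0, 0, 2, 5, 6]), (2625, [0, 0, 4, 4, 2]), (2689, [3, 4, 7, 5]),
  (2817, [0, 3, 5, 6]), (3075, [6, 3, 1, 7]), (3077, [0, 7, 0, 7, 5]), (3081, [1, 2, 7, 2]),
  (3089, [0, 4, 2, 7]), (3105, [2, 0, 7, 1]), (3201, [1, 1, 6, 4]), (3329, [6, 5]),
  (3585, [5, 2, 4, 3]), (4131, [3, 1, 6]), (4133, [2, 7, 4, 2]), (4137, [4, 3, 0, 2]),
  (4145, [0, 7, 5, 5]), (4163, [1, 5, 3, 7]), (4165, [0, 5, 6, 1]), (4169, [1, 3, 5, 5, 2]),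
  (4177, [0, 7, 4]), (4193, [0, 2, 5, 0]), (4257, [0, 7]), (4289, [0, 4, 6, 1]),
  (4355, [7, 5, 6]), (4357, [0, 0, 0, 6, 1]), (4361, [2, 7, 2, 7]), (4369, [0, 0, 2, 7, 7]),
  (4417, [3, 0, 6]), (4481, [6, 2, 4]), (4611, [0, 7, 1, 5]), (4613, [0, 3, 1, 3, 1]),
  (4617, [2, 7, 1, 2]), (4625, [6, 2, 1, 6]), (4673, [6, 3, 7]), (4737, [0, 4, 2, 5]),
  (5153, [1, 2]), (5185, [0, 4, 4, 7, 4]), (5377, [1, 5, 2, 7]), (5633, [0, 6, 2, 1]),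
  (6147, [3, 0, 3]), (6149, [1, 7, 2, 1]), (6153, [2, 1, 1, 7]), (6161, [1, 3, 1, 1]),
  (6177, [0, 2, 6, 5, 6]), (6273, [3, 6, 3, 0]), (6401, [0, 0, 6, 5, 7]), (6657, [3, 1, 3, 7]),
  (7169, [0, 7, 4, 7]), (8199, [7, 3, 0, 2]), (8203, [2, 1, 6, 0]), (8205, [4, 1, 7, 1]),
  (8211, [0, 0, 2, 6, 0]), (8213, [0, 7, 1]), (8217, [4, 7, 5, 3]), (8227, [2, 1, 2, 4]),
  (8229, [0, 5, 5, 1, 2]), (8233, [6, 0, 2, 6]), (8241, [2, 0, 5, 2]), (8289, [4, 1, 5, 3]),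
  (8323, [0, 4, 7, 5]), (8325, [2, 0, 5, 5]), (8329, [1, 2, 5, 2, 4]), (8337, [4, 2, 6, 0]),
  (8353, [1, 6, 4, 2]), (8451, [3, 1, 2, 1]), (8453, [3, 6, 6, 1]), (8457, [7, 4]),
  (8465, [7, 7, 0]), (8481, [1, 2, 0, 6, 4]), (8513, [4, 6, 0]), (8577, [4, 1, 3, 7]),
  (8707, [3, 4, 3, 1]), (8709, [0, 2, 1]), (8713, [7, 1, 2, 5]), (8721, [4, 0, 0]),
  (8737, [7, 2, 0, 3]), (8769, [6, 1, 2, 7]), (8833, [4, 7, 1]), (8961, [1, 2, 5, 5, 1]),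
  (9219, [1, 2, 5, 6]), (9221, [0, 6, 1, 6]), (9225, [7, 1, 2, 0]), (9233, [0, 2, 1, 6, 3]),
  (9249, [0, 4, 2, 1]), (9345, [2, 4, 0]), (9473, [5, 6, 5, 7]), (9729, [0, 5, 1, 7]),
  (10273, [1, 7, 2]), (10305, [0, 2, 5, 5]), (10497, [0, 0, 5, 7, 1]), (10753, [5, 3, 4, 6]),
  (12291, [1, 6, 3, 1, 5]), (12293, [2, 4, 1, 5]), (12297, [5, 6, 4, 4]), (12305, [0, 4, 2]),
  (12321, [5, 2, 5, 3]), (12417, [0, 4, 6, 3]), (12545, [0, 3, 6, 3, 7]), (12801, [3, 4, 7]),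
  (13313, [4, 6, 2, 5]), (16391, [1, 3, 1, 3, 7]), (16395, [4, 7, 2, 5]), (16397, [0, 4, 0, 6]),
  (16403, [2, 0]), (16405, [0, 6, 6, 0]), (16409, [6, 1, 1]), (16419, [1, 7, 5, 2]),
  (16421, [2, 0, 3, 4]), (16425, [1, 4, 3, 1]), (16433, [6, 1, 4, 3]), (16481, [4, 0, 3, 5]),
  (16515, [1, 6, 0, 5]), (16517, [0, 6, 1]), (16521, [6, 2, 7]), (16529, [3, 1, 7, 1]),
  (16545, [4, 4, 2]), (16643, [7, 2, 1]), (16645, [4, 2, 6]), (16649, [5, 6, 0, 6]),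
  (16657, [1, 3, 5, 5]), (16673, [4, 2, 5]), (16705, [2, 1, 4, 4]), (16769, [6, 3, 0]),
  (16899, [1, 6, 5, 0]), (16901, [4, 3, 7, 7]), (16905, [5, 0, 0, 4]), (16913, [4, 7, 5, 0]),
  (16929, [5, 3, 6, 3]), (16961, [0, 6, 0, 7]), (17025, [3, 5, 5, 3]), (17153, [2, 5, 6, 1]),
  (17411, [2, 0, 5, 3]), (17413, [2, 6, 5, 6]), (17417, [1, 6, 5, 1]), (17425, [5, 1, 2]),
  (17441, [0, 7, 4, 0, 6]), (17537, [2, 5, 6, 3]), (17665, [6, 4, 7, 7]), (17921, [5, 7, 0, 6]),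
  (18465, [0, 7, 4, 2]), (18497, [7, 3, 4]), (18689, [1, 2, 6, 6]), (18945, [4, 3, 1]),
  (20483, [1, 1, 6, 5]), (20485, [4, 1, 6, 1]), (20489, [2, 1, 3]), (20497, [0, 5, 2]),
  (20513, [1, 1, 1, 6]), (20609, [3, 0, 4, 6]), (20737, [1, 5, 1, 3]), (20993, [0, 2, 6, 5, 2]),
  (21505, [4, 1, 5, 2]), (24609, [1, 5, 3, 4]), (24641, [0, 2]), (24833, [2, 1, 2, 7]),
  (25089, [1, 1, 4, 7]), (26625, [0, 3, 6, 2, 6]), (32775, [7, 5, 5, 3]), (32779, [0, 3, 6, 5, 1]),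
  (32781, [4, 7, 2]), (32787, [5, 7, 7, 2]), (32789, [1, 1, 6]), (32793, [7, 7]),
  (32835, [1, 2, 4, 3]), (32837, [5, 5, 2]), (32841, [4, 0, 7]), (32849, [0, 2, 7, 0, 7]),
  (32865, [4, 0, 3]), (32899, [5, 1, 2, 4]), (32901, [2, 0, 4]), (32905, [3, 1, 7]),
  (32913, [0, 5, 2, 4]), (32961, [0, 0, 7, 0, 7]), (33057, [5, 6, 2]), (33089, [0, 5, 1, 1]),
  (33313, [5, 5, 2, 6]), (33345, [0, 0, 2, 1]), (33537, [0, 0, 6, 4]), (33795, [6, 4, 2, 5]),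
  (33797, [0, 3, 1, 3, 7]), (33801, [0, 0, 3, 4, 1]), (33809, [0, 7, 0, 4, 3]), (33857, [4, 0, 6, 5]),
  (33921, [6, 2, 0]), (34819, [4, 6, 1, 4]), (34821, [0, 2, 7, 1]), (34825, [2, 0, 5, 0]),
  (34833, [1, 7, 0, 0]), (34849, [1, 3, 4, 4, 0]), (34881, [2, 7, 3, 0]), (34945, [0, 0, 0, 0]),
  (35073, [2, 5, 6, 4]), (35329, [4, 0, 7, 2]), (35841, [1, 6, 6, 1]), (36867, [1, 5, 2, 1]),
  (36869, [1, 6, 0]), (36873, [5, 6, 5]), (36881, [2, 1, 3, 0]), (36929, [4, 4, 2, 4]),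
  (36993, [6, 1, 2, 6]), (37889, [0, 3, 1, 5]), (38913, [3, 4, 6]), (40963, [6, 2, 1]),
  (40965, [3, 5, 1, 3]), (40969, [6, 6, 6]), (40977, [7, 2, 7, 3]), (40993, [0, 6, 0, 7, 4]),
  (41025, [0, 2, 6, 2]), (41089, [0, 0, 6, 5, 2]), (41217, [5, 7, 0, 5]), (41473, [7, 2, 6]),
  (41985, [1, 2, 6, 3, 7]), (43009, [7, 5, 1]), (45057, [0, 2, 0, 4, 1]), (49155, [4, 4, 4, 3]),
  (49157, [0, 2, 6, 6, 1]), (49161, [5, 3, 7, 0]), (49169, [1, 5, 0]), (49185, [3, 0, 6, 2]),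
  (49217, [0, 6, 3, 7, 2]), (49281, [1, 4, 6]), (49409, [1, 5, 5, 6]), (49665, [5, 3, 6, 4]),
  (50177, [4, 6, 1]), (51201, [4, 4, 2, 1]), (53249, [3, 4, 0, 4]), (57345, [0, 7, 0, 6]),
  (65543, [0, 5, 1, 5]), (65547, [2, 7, 1]), (65549, [0, 0, 4, 4, 6]), (65555, [3, 5, 5, 7]),
  (65557, [6, 0, 7]), (65561, [2, 0, 0, 5]), (65571, [1, 4, 4, 3]), (65573, [5, 1, 3, 0]),
  (65577, [0, 5, 1, 2]), (65585, [4, 1, 5]), (65633, [1, 1, 7]), (65667, [2, 1, 1, 6]),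
  (65669, [1, 5, 5, 7]), (65673, [3, 4, 1]), (65681, [6, 2]), (65697, [1, 7, 1]),
  (65795, [0, 7, 7, 4]), (65797, [4, 0, 3, 1]), (65801, [1, 6, 5, 7, 4]), (65809, [7, 1, 5, 3]),
  (65825, [1, 7, 3, 0]), (65857, [4, 7, 0]), (65921, [1, 7, 3, 5]), (66051, [0, 3, 1, 2, 7]),
  (66053, [0, 0, 4, 2]), (66057, [7]), (66065, [0, 7, 2, 4]), (66081, [1, 6, 4, 1]),
  (66113, [1, 2, 0, 6]), (66177, [4, 6, 4, 2]), (66305, [3, 0, 7, 2]), (66563, [1, 5, 1]),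
  (66565, [1, 4, 1]), (66569, [4, 2, 0, 0]), (66577, [0, 4, 4, 2]), (66593, [4, 6, 3]),
  (66689, [5, 5, 3]), (66817, [6, 1, 2]), (67073, [0, 2, 1, 1, 7]), (67617, [0, 0, 2]),
  (67649, [0, 0, 5, 3]), (67841, [3, 6, 2]), (68097, [1, 7, 4, 4, 2]), (69635, [4, 3, 0]),
  (69637, [0, 7, 2, 0]), (69641, [4, 6, 4, 4]), (69649, [1, 6, 2, 1]), (69665, [3, 0, 0, 4]),
  (69761, [1, 4, 4, 7]), (69889, [0, 4, 4]), (70145, [2, 7, 0]), (70657, [0, 5, 5, 2]),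
  (73761, [4, 6, 1, 3]), (73793, [4, 1, 2]), (73985, [4, 4, 4, 0]), (74241, [5, 7, 5]),
  (75777, [6, 6, 5, 6]), (81953, [0, 7, 7, 7]), (81985, [4, 1, 4, 2]), (82177, [3, 1, 5, 1]),
  (82433, [3, 7, 3, 6]), (83969, [0, 0, 6]), (90113, [0, 3, 0, 0]), (98307, [1, 7, 0, 6]),
  (98309, [6, 5, 5]), (98313, [1, 2, 0]), (98321, [6, 2, 0, 2]), (98337, [5, 0, 4]),
  (98369, [4, 3, 7]), (98433, [4, 7, 4, 6]), (98561, [7, 3, 1]), (98817, [0, 2, 1, 2]),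
  (99329, [3, 6, 3, 5]), (100353, [1, 7, 7, 2]), (102401, [0, 5, 7, 7]), (106497, [1, 2, 5, 0]),
  (114689, [2, 5, 6]), (131079, [0, 5, 5, 0]), (131083, [2, 0, 7, 7]), (131085, [0, 5, 7, 1]),
  (131091, [6, 6, 3]), (131093, [3, 5, 0, 2]), (131097, [0, 4, 7, 1]), (131107, [3, 0, 2, 5]),
  (131109, [1, 6, 3, 5]), (131113, [0, 6, 0]), (131121, [0, 3, 0]), (131169, [2, 1, 6, 6]),
  (131203, [6, 3, 7, 2]), (131205, [1, 7, 0, 3]), (131209, [3, 0, 3, 6]), (131217, [0, 0, 5, 6, 2]),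
  (131233, [4, 7, 3, 5]), (131331, [0, 0, 3]), (131333, [6, 5, 6, 0]), (131337, [2, 4, 1, 6]),
  (131345, [0, 4, 4, 4]), (131361, [2, 7, 4, 7]), (131393, [1, 3, 0, 2]), (131457, [0, 4, 0, 4, 6]),
  (131587, [6]), (131589, [5, 3]), (131593, [1, 5, 7, 4]), (131601, [0, 5, 6, 0]),
  (131617, [0, 0, 0, 4]), (131649, [6, 1, 5, 0]), (131713, [0, 5, 2, 1]), (131841, [3, 6, 2, 4]),
  (132099, [7, 2, 7]), (132101, [0, 0]), (132105, [1, 3, 4, 3, 1]), (132113, [6, 5, 7, 1]),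
  (132129, [7, 4, 0, 3]), (132225, [3, 4, 0, 2]), (132353, [2, 1, 4, 3]), (132609, [0, 0, 0, 2, 4]),
  (133153, [0, 5, 0, 0]), (133185, [2, 6, 5]), (133377, [0, 7, 4, 0]), (133633, [7, 4, 3]),
  (135171, [3, 1, 6, 3]), (135173, [0, 3, 6, 2]), (135177, [3, 4, 3]), (135185, [0, 2, 7]),
  (135201, [4, 1, 4]), (135297, [1, 1, 7, 0, 0]), (135425, [1, 7, 3]), (135681, [6, 2, 4, 6]),
  (136193, [3, 7, 3, 0]), (139297, [0, 3, 5, 0]), (139329, [0, 6, 1, 7]), (139521, [0, 3, 6, 1]),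
  (139777, [3, 7, 0]), (141313, [0, 0, 6, 4, 4]), (147489, [3, 1, 1]), (147521, [0, 4, 7, 1, 6]),
  (147713, [3, 5, 3, 0]), (147969, [1, 4, 3, 0]), (149505, [0, 5, 7, 1, 6]), (155649, [3, 4, 3, 6]),
  (163843, [2, 6, 6, 5]), (163845, [1, 2, 6]), (163849, [5, 6, 4, 2]), (163857, [1, 3, 7, 2]),
  (163873, [2, 4, 3, 5]), (163905, [4, 2]), (163969, [1, 3, 5]), (164097, [4, 2, 5, 7]),
  (164353, [0, 5, 7, 3]), (164865, [4, 2, 6, 4]), (165889, [1, 5, 5, 6, 4]), (167937, [0, 4, 0, 3]),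
  (172033, [6, 3, 0, 7]), (180225, [5, 1, 6]), (196641, [0, 3]), (196673, [0, 4, 0]),
  (196865, [4, 3, 4, 6]), (197121, [5, 6, 6, 0]), (198657, [3, 6, 6]), (204801, [6, 2, 7, 7]),
  (212993, [7, 2, 4, 1]), (229377, [5, 6, 0]), (262151, [0, 0, 4, 4]), (262155, [3, 6, 0, 4]),
  (262157, [5, 7, 7]), (262163, [7, 4, 0]), (262165, [1, 4, 1, 6]), (262169, [4, 6]),
  (262179, [1, 6, 3, 4]), (262181, [0, 2, 6, 1]), (262185, [2, 5, 7, 2]), (262193, [0, 0, 5, 7]),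
  (262241, [3, 5, 1, 4]), (262275, [0, 5, 3, 1]), (262277, [7, 0, 6]), (262281, [2, 1, 1]),
  (262289, [3, 0, 0, 0]), (262305, [0, 0, 4, 0]), (262403, [1, 5, 2]), (262405, [2, 4]),
  (262409, [5, 1, 5]), (262417, [0, 5, 0, 3]), (262433, [7, 0, 4, 3]), (262465, [2, 6, 6, 6]),
  (262529, [0, 7, 0, 5]), (262659, [0, 0, 4, 7]), (262661, [0, 0, 0, 7, 4]), (262665, [7, 0, 0, 6]),
  (262673, [1, 3, 4]), (262689, [2, 1, 5]), (262721, [6, 3]), (262785, [4, 3, 5]),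
  (262913, [1]), (263171, [1, 1, 1, 1]), (263173, [4, 1, 4, 0]), (263177, [0, 6, 0, 6, 3]),
  (263185, [1, 1, 2, 6]), (263201, [0, 2, 5, 7]), (263297, [1, 3, 7, 5]), (263425, [3, 4, 4, 3]),
  (263681, [0, 0, 7, 3]), (264225, [4, 7, 1, 6]), (264257, [6, 1, 7, 2]), (264449, [2, 6, 0, 7]),
  (264705, [0, 4, 3, 5, 5]), (266243, [1, 2, 1]), (266245, [1, 5, 6, 0]), (266249, [0, 0, 0, 3, 7]),
  (266257, [0, 3, 5, 2, 5]), (266273, [7, 3, 0]), (266369, [2, 6, 3, 7]), (266497, [7, 3, 4, 1]),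
  (266753, [6, 0, 5, 0]), (267265, [0, 3, 0, 7, 5]), (270369, [1, 1, 4, 1]), (270401, [2, 6, 4]),
  (270593, [6, 4, 7]), (270849, [5, 5, 7, 1]), (272385, [0, 7, 0, 2]), (278561, [1, 6, 2]),
  (278593, [6, 4, 0]), (278785, [0, 7, 2, 7]), (279041, [0, 2, 7, 3, 1]), (280577, [0, 0, 7, 7]),
  (286721, [0, 0, 6, 5, 5]), (294915, [0, 4, 0, 0, 6]), (294917, [1, 4, 1, 3]), (294921, [7, 5, 5]),
  (294929, [5, 0, 2, 5]), (294945, [4, 6, 6]), (294977, [4, 2, 1, 4]), (295041, [0, 7, 2, 5]),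
  (295169, [0, 4, 6, 5]), (295425, [0, 5, 0, 2, 4]), (295937, [0, 2, 0, 4, 3]), (296961, [6, 3, 0, 3]),
  (299009, [5, 7, 0, 7]), (303105, [1, 3, 4, 3]), (311297, [7, 1, 3, 4]), (327713, [0, 2, 1, 3]),
  (327745, [6, 0, 6]), (327937, [0, 2, 6, 6, 4]), (328193, [5, 2]), (329729, [4, 0, 7, 0]),
  (335873, [1, 2, 0, 2]), (344065, [7, 2]), (360449, [7, 0, 4]), (393249, [0, 6]),
  (393281, [0, 4, 1, 5]), (393473, [4, 2, 4, 2]), (393729, [2, 5, 0, 2]), (395265, [2, 0, 0, 3]),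
  (401409, [4, 3, 7, 1]), (409601, [2, 0, 7]), (425985, [4, 1, 2, 0]), (458753, [0, 5, 0]),
  (524295, [6, 2, 5, 3]), (524299, [4, 3, 7, 3]), (524301, [2, 5, 0]), (524307, [1, 1, 7, 3]),
  (524309, [3, 4, 4]), (524313, [1, 1, 3, 5]), (524323, [5, 5, 7]), (524325, [2, 1, 5, 3]),
  (524329, [0, 2, 7, 3, 4]), (524337, [2, 6, 2, 4]), (524385, [1, 6, 3, 6]), (524419, [1, 2, 7, 0]),
  (524421, [0, 7, 7, 0]), (524425, [7, 4, 1, 1]), (524433, [0, 0, 7, 1, 2]), (524449, [0, 7, 5, 3]),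
  (524547, [6, 3, 1, 1]), (524549, [1, 5, 6, 4]), (524553, [2, 6, 0]), (524561, [3, 6, 2, 6]),
  (524577, [7, 5, 2]), (524609, [0, 2, 0]), (524673, [0, 7, 3, 1]), (524803, [6, 5, 3, 0]),
  (524805, [1, 6, 4, 0]), (524809, [2, 1, 5, 1]), (524817, [3, 5, 6]), (524833, [2, 0, 6, 6]),
  (524865, [6, 0, 5]), (524929, [1, 1]), (525057, [0, 7, 3]), (525315, [7, 1, 7, 0]),
  (525317, [0, 5, 3, 5, 7]), (525321, [3, 0, 7, 0]), (525329, [2, 5, 3, 1]), (525345, [1, 6, 6, 3]),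
  (525441, [3]), (525569, [1, 6, 5, 2]), (525825, [0, 3, 7, 4]), (526369, [2, 1, 4, 2]),
  (526401, [0, 5, 1, 3]), (526593, [6, 5, 3]), (526849, [7, 5, 2, 0]), (528387, [3, 5, 5]),
  (528389, [0, 6, 3]), (528393, [2, 0, 6]), (528401, [1, 3, 1, 5]), (528417, [5, 0, 5, 3]),
  (528513, [1, 3, 1, 4]), (528641, [5, 5, 6]), (528897, [2, 7, 2]), (529409, [1, 7, 5, 1]),
  (532513, [2, 4, 2, 4]), (532545, [2, 6, 5, 7]), (532737, [1, 6, 4]), (532993, [2, 6, 0, 6]),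
  (534529, [7, 3, 4, 6]), (540705, [2, 5, 2, 0]), (540737, [1, 3, 4, 2]), (540929, [1, 3, 5, 6]),
  (541185, [1, 4, 1, 2]), (542721, [0, 7, 0, 7, 1]), (548865, [1, 7, 4, 3]), (557059, [0, 3, 7, 5]),
  (557061, [1, 5, 3, 1]), (557065, [0, 3, 6, 4]), (557073, [3, 1, 6, 2]), (557089, [2, 7, 4, 6]),
  (557121, [2, 7, 4, 4]), (557185, [0, 6, 6, 4]), (557313, [0, 4, 2, 6]), (557569, [6, 3, 1]),
  (558081, [6, 1, 7]), (559105, [2, 6, 5, 0]), (561153, [6, 3, 6]), (565249, [0, 4, 2, 0]),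
  (573441, [2, 1, 2, 1]), (589857, [5, 0, 7, 7]), (589889, [0, 3, 4, 6]), (590081, [4, 7, 4]),
  (590337, [2, 1, 1, 2]), (591873, [3, 0, 5]), (598017, [1, 6, 6]), (606209, [1, 7, 4, 4]),
  (622593, [3, 6, 5]), (655393, [0, 3, 7, 3]), (655425, [0, 4, 2, 5, 1]), (655617, [1, 1, 1]),
  (655873, [2, 0, 2]), (657409, [1, 7, 5, 5]), (663553, [3, 0, 4]), (671745, [4, 4, 6, 2]),
  (688129, [7, 1, 4, 4]), (720897, [2, 1, 3, 7]), (786465, [0, 2, 1, 6]), (786497, [1, 2, 0, 0, 7]),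
  (786689, [3, 5, 6, 1]), (786945, [0, 7, 3, 0]), (788481, [2, 5, 3, 5]), (794625, [1, 7]),
  (802817, [1, 1, 1, 3, 7]), (819201, [2, 7, 3, 4]), (851969, [0, 5, 6, 3]), (917505, [0, 5, 2, 7]),
  (1048583, [3, 1, 5, 3]), (1048587, [2, 5, 0, 5]), (1048589, [7, 5, 3]), (1048595, [0, 2, 7, 0]),
  (1048597, [3, 5]), (1048601, [1, 4, 0, 6]), (1048643, [1, 1, 1, 7]), (1048645, [1, 2, 4, 1]),
  (1048649, [0, 2, 7, 3]), (1048657, [4, 3, 7, 2]), (1048673, [1, 1, 4, 0]), (1048707, [0, 6, 3, 5]),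
  (1048709, [0, 2, 5, 7, 1]), (1048713, [1, 1, 3]), (1048721, [1, 3, 1]), (1048769, [5, 2, 5, 1]),
  (1048865, [4, 2, 0, 6]), (1048897, [6, 4, 0, 6]), (1049121, [0, 0, 7, 3, 6]), (1049153, [2, 4, 2]),
  (1049345, [3, 0]), (1049603, [1, 1, 6, 0, 6]), (1049605, [2, 7, 7, 3]), (1049609, [2, 5, 0, 4]),
  (1049617, [0, 6, 3, 4]), (1049665, [5, 2, 0]), (1049729, [1, 5, 0, 3]), (1050627, [2, 5, 3, 0]),
  (1050629, [0, 3, 7]), (1050633, [0, 0, 2, 7]), (1050641, [1, 1, 5]), (1050657, [6, 0, 5, 5]),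
  (1050689, [0, 4, 4, 6]), (1050753, [0, 4, 7, 2]), (1050881, [3, 6]), (1051137, [7, 4, 0, 7]),
  (1051649, [2, 5, 1, 6]), (1052675, [3, 4]), (1052677, [1, 4, 6, 1]), (1052681, [7, 7, 4, 0]),
  (1052689, [0, 3, 0, 2, 0]), (1052737, [2, 6, 2]), (1052801, [0, 7, 2, 1]), (1053697, [0, 3, 6, 5, 7]),
  (1054721, [3, 0, 7]), (1056771, [0, 3, 7, 4, 4]), (1056773, [1, 6, 1, 5]), (1056777, [3, 5, 0]),
  (1056785, [2, 7, 2, 4]), (1056801, [6, 0]), (1056833, [0, 3, 0, 3]), (1056897, [0, 6, 2, 5]),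
  (1057025, [0, 7, 1, 7]), (1057281, [5, 6, 5, 1]), (1057793, [3, 5, 1, 1]), (1058817, [0, 4, 4, 3]),
  (1060865, [1, 1, 4]), (1064963, [1, 6, 1, 4]), (1064965, [2, 0, 0, 7]), (1064969, [0, 3, 6]),
  (1064977, [0, 6, 6]), (1064993, [2, 7, 4]), (1065025, [0, 3, 0, 6]), (1065089, [5, 0, 5, 1]),
  (1065217, [7, 1, 4]), (1065473, [1, 1, 2]), (1065985, [0, 3, 7, 5, 5]), (1067009, [6, 3, 1, 5]),
  (1069057, [7, 4, 6, 2]), (1073153, [1, 5, 7, 7]), (1081377, [5, 6, 6, 2]), (1081409, [1, 4, 0, 2]),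
  (1081601, [0, 3, 1, 2]), (1081857, [6, 1, 6, 1]), (1083393, [0, 7, 0, 2, 6]), (1089537, [6, 1, 3]),
  (1097729, [7, 5, 1, 1]), (1114115, [1, 5, 6]), (1114117, [4, 0, 5, 3]), (1114121, [2, 6, 0, 5]),
  (1114129, [2, 5, 0, 3]), (1114145, [0, 2, 0, 5]), (1114177, [7, 5, 2, 5]), (1114241, [0, 4, 3, 7]),
  (1114369, [0, 0, 4, 1]), (1114625, [1, 6]), (1115137, [5, 1, 3, 6]), (1116161, [0, 7, 3, 5]),
  (1118209, [7, 1, 7]), (1122305, [2, 0, 7, 2]), (1130497, [5, 2, 4, 2]), (1146881, [6, 5, 3, 5]),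
  (1179651, [7, 1, 3, 1]), (1179653, [1, 1, 1, 2]), (1179657, [5, 6, 1]), (1179665, [5, 5, 6, 4]),
  (1179681, [0, 2, 0, 4]), (1179713, [7, 5, 2, 4]), (1179777, [1, 5, 6, 1, 6]), (1179905, [1, 5, 2, 0]),
  (1180161, [1, 3, 1, 3]), (1180673, [1, 3, 0, 3]), (1181697, [0, 4, 2, 6, 4]), (1183745, [5, 7, 4, 0]),
  (1187841, [0, 7, 3, 4]), (1196033, [0, 6, 0, 6]), (1212417, [4, 7, 5, 1]), (1245185, [5, 0, 3, 5]),
  (1310723, [4, 7, 5, 2]), (1310725, [6, 0, 5, 7]), (1310729, [1, 1, 6, 2]), (1310737, [2, 0, 0, 2]),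
  (1310753, [3, 1, 5, 0]), (1310785, [7, 2, 0]), (1310849, [6, 1, 5, 1]), (1310977, [4, 4, 7, 0]),
  (1311233, [5, 2, 0, 2]), (1311745, [0, 2, 0, 6]), (1312769, [6, 2, 7, 2]), (1314817, [0, 0, 0, 6]),
  (1318913, [0, 5, 0, 7, 4]), (1327105, [3, 5, 0, 3]), (1343489, [1, 2, 6, 2]), (1376257, [2, 4, 2, 7, 4]),
  (1441793, [2, 7, 7, 1]), (1572867, [4, 0, 2]), (1572869, [0, 4, 3, 6]), (1572873, [1, 4, 0]),
  (1572881, [0, 3, 1, 3, 4]), (1572897, [3, 7, 1, 2]), (1572929, [3, 4, 0, 3]), (1572993, [7, 0, 2, 6]),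
  (1573121, [0, 5, 3, 5]), (1573377, [6, 1, 4]), (1573889, [3, 0, 4, 3]), (1574913, [6, 1]),
  (1576961, [0, 3, 1, 3]), (1581057, [5, 3, 1]), (1589249, [5, 6, 6, 4]), (1605633, [6, 1, 5]),
  (1638401, [1, 4, 3, 4]), (1703937, [0, 5, 3]), (1835009, [0, 5, 6]), (2097159, [0, 4, 4, 1]),
  (2097163, [5, 7, 7, 5]), (2097165, [7, 0, 6, 0]), (2097171, [6, 5, 7]), (2097173, [0, 3, 6, 3]),
  (2097177, [2, 1, 1, 5]), (2097219, [3, 7, 2, 6]), (2097221, [3, 0, 2]), (2097225, [0, 6, 0, 4]),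
  (2097233, [4, 1, 4, 4]), (2097249, [3, 5, 1]), (2097283, [6, 5, 5, 6]), (2097285, [6, 6, 3, 4]),
  (2097289, [1, 1, 5, 3]), (2097297, [0, 2, 7, 4]), (2097345, [4, 4, 6]), (2097441, [0, 4, 0, 4]),
  (2097473, [0, 3, 4]), (2097697, [2, 6]), (2097729, [6, 3, 6, 0]), (2097921, [1, 5, 7, 1]),
  (2098179, [0, 0, 4]), (2098181, [5, 1, 1]), (2098185, [3, 6, 0]), (2098193, [5, 0, 5, 2]),
  (2098241, [1, 6, 3]), (2098305, [1, 2, 1, 5]), (2099203, [0, 0, 0, 7]), (2099205, [2, 6, 6]),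
  (2099209, [1, 7, 0, 7]), (2099217, [4, 3, 5, 5]), (2099233, [4, 2, 4]), (2099265, [2, 4, 3]),
  (2099329, [2, 5, 6, 6]), (2099457, [5, 6, 0, 4]), (2099713, [6, 4, 7, 3]), (2100225, [1, 2, 6, 4]),
  (2101251, [1, 4, 1, 6, 5]), (2101253, [4, 0, 6, 1]), (2101257, [3, 7, 2]), (2101265, [3, 1, 5, 7]),
  (2101313, [4, 7, 3]), (2101377, [1, 2, 4, 2]), (2102273, [4, 0, 5, 2]), (2103297, [1, 3]),
  (2105347, [0, 0, 7, 2, 0]), (2105349, [6, 4]), (2105353, [4, 2, 0]), (2105361, [4, 6, 0, 6]),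
  (2105377, [0, 3, 0, 2]), (2105409, [0, 4, 0, 0]), (2105473, [4, 3, 7, 0]), (2105601, [1, 3, 0, 6]),
  (2105857, [7, 4, 3, 4]), (2106369, [5, 3, 4]), (2107393, [0, 5, 7, 3, 4]), (2109441, [5, 6, 0, 0]),
  (2113539, [2, 0, 4, 7]), (2113541, [0, 4, 1, 2]), (2113545, [7, 4, 4, 4]), (2113553, [1, 2, 1, 1]),
  (2113569, [4, 2, 1]), (2113601, [2, 1, 6, 1]), (2113665, [2, 7, 3, 1]), (2113793, [0, 0, 0, 0, 2]),
  (2114049, [0, 7, 3, 7]), (2114561, [0, 7, 1, 5, 2]), (2115585, [0, 5, 0, 2]), (2117633, [0, 5, 3, 6]),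
  (2121729, [3, 5, 5, 2]), (2129953, [4, 4, 2, 6]), (2129985, [3, 1, 1, 4]), (2130177, [1, 5, 6, 1]),
  (2130433, [1, 4, 4, 2]), (2131969, [3, 5, 5, 6]), (2138113, [6, 6, 1]), (2146305, [5, 2, 1, 7]),
  (2162691, [2]), (2162693, [0, 5, 5, 3, 6]), (2162697, [4, 4, 0]), (2162705, [0, 7, 0, 4]),
  (2162721, [1, 5, 1, 7]), (2162753, [4, 4, 6, 1]), (2162817, [2, 0, 0, 0]), (2162945, [0, 4, 7, 3]),
  (2163201, [0, 4, 6, 4]), (2163713, [1, 1, 6, 0]), (2164737, [1, 5]), (2166785, [0, 0, 6, 0, 2]),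
  (2170881, [4, 6, 3, 1]), (2179073, [5, 1, 3]), (2195457, [4, 6, 1, 2]), (2228227, [3, 1, 5]),
  (2228229, [0, 0, 3, 4]), (2228233, [1, 2, 5, 3]), (2228241, [5, 0, 7]), (2228257, [0, 3, 0, 7, 3]),
  (2228289, [1, 7, 7, 5]), (2228353, [0, 5, 5]), (2228481, [2, 4, 1, 1]), (2228737, [0, 3, 1, 3, 0]),
  (2229249, [6, 6, 2]), (2230273, [6, 5, 6]), (2232321, [0, 2, 1, 3, 6]), (2236417, [0, 0, 3, 1]),
  (2244609, [0, 6, 4, 2]), (2260993, [3, 7, 2, 1]), (2293761, [4, 7, 3, 1]), (2359299, [3, 4, 2, 5]),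
  (2359301, [3, 1]), (2359305, [0, 3, 5, 1]), (2359313, [3, 6, 6, 3]), (2359329, [1, 7, 7]),
  (2359361, [0, 3, 7, 1]), (2359425, [5, 0, 7, 4]), (2359553, [3, 0, 3, 7]), (2359809, [2, 5, 1, 5]),
  (2360321, [2, 1, 6, 5]), (2361345, [5, 3, 7]), (2363393, [0, 5]), (2367489, [3, 0, 7, 1]),
  (2375681, [0, 2, 6, 5]), (2392065, [0, 6, 3, 6]), (2424833, [3, 0, 4, 2]), (2490369, [0, 0, 7, 0]),
  (2621443, [7, 2, 6, 1]), (2621445, [6, 5, 7, 0]), (2621449, [5, 6, 1, 4]), (2621457, [0, 7, 1, 3]),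
  (2621473, [0, 2, 5, 3]), (2621505, [7, 4, 7]), (2621569, [0, 0, 0, 6, 5]), (2621697, [5, 0, 3]),
  (2621953, [0, 5, 0, 7]), (2622465, [7, 0, 5, 7]), (2623489, [0, 2, 6, 0]), (2625537, [1, 1, 2, 7, 3]),
  (2629633, [0, 2, 1, 1]), (2637825, [3, 5, 1, 2]), (2654209, [4, 2, 5, 6]), (2686977, [2, 7, 0, 6]),
  (2752513, [0, 0, 6, 0]), (2883585, [4, 0]), (3145761, [6, 1, 3, 0]), (3145793, [2, 5, 2]),
  (3145985, [7, 0, 0]), (3146241, [1, 7, 5]), (3147777, [0, 4, 1, 7, 0]), (3153921, [2, 0, 2, 4]),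
  (3162113, [2, 7, 3]), (3178497, [2, 1, 4, 0]), (3211265, [1, 7, 4, 1]), (3276801, [4, 0, 5]),
  (3407873, [4, 7, 5, 5]), (3670017, [3, 7]), (4194311, [0, 5, 5, 1]), (4194315, [4, 2, 1, 2]),
  (4194317, [6, 3, 6, 6]), (4194323, [0, 3, 0, 7]), (4194325, [1, 2, 1, 4]), (4194329, [3, 4, 1, 5]),
  (4194371, [0, 2, 5, 7, 4]), (4194373, [6, 0, 3]), (4194377, [1, 7, 2, 0]), (4194385, [1, 7, 1, 5]),
  (4194401, [1, 1, 7, 5]), (4194435, [0, 7, 2, 0, 5]), (4194437, [5, 1, 7]), (4194441, [4, 6, 4]),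
  (4194449, [0, 3, 5, 2]), (4194497, [3, 0, 0]), (4194593, [0, 4, 0, 5]), (4194625, [0, 3, 5]),
  (4194849, [0, 7, 7, 3]), (4194881, [1, 3, 1, 5, 7]), (4195073, [0, 7, 4, 7, 2]), (4195331, [4, 6, 3, 6]),
  (4195333, [1, 5, 1, 5]), (4195337, [2, 7, 1, 5]), (4195345, [7, 1, 5, 0]), (4195393, [0, 4, 7, 0]),
  (4195457, [0, 2, 7, 2]), (4196355, [0, 0, 4, 2, 5]), (4196357, [1, 3, 1, 7]), (4196361, [7, 5]),
  (4196369, [0, 4, 2, 6, 3]), (4196385, [1, 1, 1, 3]), (4196417, [4, 6, 6, 4]), (4196481, [5, 0, 2]),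
  (4196609, [6, 5, 2]), (4196865, [1, 6, 4, 3]), (4197377, [0, 7, 3, 0, 7]), (4198403, [1, 3, 7]),
  (4198405, [0, 5, 7]), (4198409, [2, 1, 1, 4]), (4198417, [6, 2, 5]), (4198465, [4, 1, 5, 5]),
  (4198529, [4, 1, 7]), (4199425, [7, 0, 6, 4]), (4200449, [0, 7, 2]), (4202499, [0, 0, 6, 3]),
  (4202501, [2, 6, 4, 1]), (4202505, [0, 2, 6, 3]), (4202513, [1, 6, 4, 7]), (4202529, [6, 3, 4]),
  (4202561, [2, 1]), (4202625, [1, 3, 4, 4]), (4202753, [5, 2, 4]), (4203009, [0, 4, 3, 5]),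
  (4203521, [4, 6, 6, 3]), (4204545, [1, 1, 5, 7]), (4206593, [4, 3]), (4210691, [0, 5, 7, 2]),
  (4210693, [3, 7, 0, 2]), (4210697, [1, 2, 0, 5]), (4210705, [1, 3, 1, 2]), (4210721, [2, 5, 7, 4]),
  (4210753, [5, 0]), (4210817, [0, 0, 3, 1, 6]), (4210945, [3, 7, 7]), (4211201, [3, 6, 5, 1]),
  (4211713, [6, 5, 6, 6]), (4212737, [1, 7, 3, 7]), (4214785, [0, 0, 6, 0, 6]), (4218881, [3, 4, 2, 7]),
  (4227105, [3, 1, 3]), (4227137, [0, 0, 2, 5]), (4227329, [7, 2, 4]), (4227585, [0, 0, 7, 7, 4]),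
  (4229121, [3, 4, 1, 6]), (4235265, [0, 3, 5, 6, 6]), (4243457, [6, 6, 4]), (4259843, [0, 0, 2, 6]),
  (4259845, [2, 1, 6, 4]), (4259849, [1, 6, 5, 7]), (4259857, [1, 7, 7, 1]), (4259873, [0, 7, 5, 6]),
  (4259905, [4, 1, 6]), (4259969, [0, 4]), (4260097, [2, 6, 3, 6]), (4260353, [0, 4, 1, 1]),
  (4260865, [0, 7, 7]), (4261889, [0, 2, 6, 4]), (4263937, [5, 0, 6, 4]), (4268033, [0, 3, 7, 2, 5]),
  (4276225, [4, 0, 0, 7]), (4292609, [1, 4, 6, 2]), (4325379, [0, 6, 4, 3]), (4325381, [1, 5, 2, 4]),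
  (4325385, [5, 1]), (4325393, [0, 5, 1, 5, 3]), (4325409, [0, 5, 2, 5, 3]), (4325441, [0, 5, 0, 3, 1]),
  (4325505, [5, 6, 2, 6]), (4325633, [7, 5, 3, 1]), (4325889, [2, 6, 0, 7, 4]), (4326401, [2, 5]),
  (4327425, [0, 4, 6]), (4329473, [0, 7, 0]), (4333569, [1, 4]), (4341761, [1, 2, 7, 1]),
  (4358145, [1, 5, 5]), (4390913, [6, 5, 5, 3]), (4456451, [2, 1, 6]), (4456453, [3, 4, 2]),
  (4456457, [6, 4, 3, 6]), (4456465, [0]), (4456481, [4, 1, 6, 5]), (4456513, [0, 6, 2, 7]),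
  (4456577, [5, 0, 6]), (4456705, [2, 4, 3, 1]), (4456961, [0, 6, 3, 7]), (4457473, [3, 1, 4]),
  (4458497, [6, 6, 6, 1]), (4460545, [0, 5, 0, 2, 0]), (4464641, [2, 5, 1]), (4472833, [0, 0, 7, 4]),
  (4489217, [0, 2, 6]), (4521985, [2, 4, 0, 0]), (4587521, [1, 5, 0, 7]), (4718595, [1, 6, 0, 2]),
  (4718597, [0, 7, 2, 7, 2]), (4718601, [2, 5, 7, 0]), (4718609, [2, 5, 3, 7]), (4718625, [4, 3, 1, 1]),
  (4718657, [6, 3, 7, 3]), (4718721, [6, 1, 6]), (4718849, [3, 4, 1, 7]), (4719105, [3, 4, 4, 7]),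
  (4719617, [1, 1, 2, 1]), (4720641, [1, 6, 5]), (4722689, [5, 3, 7, 7]), (4726785, [3, 7, 1, 3]),
  (4734977, [0, 5, 5, 6]), (4751361, [4, 2, 0, 2]), (4784129, [1, 7, 1, 7]), (4849665, [6, 1, 4, 2]),
  (4980737, [4, 7, 5]), (5242913, [4, 2, 5, 0]), (5242945, [0, 0, 4, 3, 7]), (5243137, [7, 4, 6]),
  (5243393, [2, 5, 3]), (5244929, [2, 4, 2, 6]), (5251073, [7, 1, 5]), (5259265, [2, 5, 7, 3]),
  (5275649, [3, 0, 5, 5]), (5308417, [4, 7]), (5373953, [7, 5, 5, 2]), (5505025, [2, 6, 3]),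
  (5767169, [1, 4, 3]), (6291489, [0, 4, 1]), (6291521, [0, 6, 4]), (6291713, [0, 5, 0, 4]),
  (6291969, [0, 4, 2, 1, 7]), (6293505, [5, 2, 5]), (6299649, [3, 1, 2]), (6307841, [7, 0]),
  (6324225, [2, 0, 7, 4]), (6356993, [0, 2, 6, 6]), (6422529, [0, 5, 2, 6]), (6553601, [0, 0, 7, 0, 4]),
  (6815745, [2, 4, 2, 7]), (7340033, [3, 7, 1, 6]), (8388615, [1, 2, 5, 6, 4]), (8388619, [5, 2, 1, 2]),
  (8388621, [0, 6, 6, 1]), (8388627, [4, 6, 2]), (8388629, [1, 6, 3, 1]), (8388633, [6, 2, 7, 5]),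
  (8388675, [2, 0, 3]), (8388677, [1, 5, 5, 3]), (8388681, [2, 1, 1, 3]), (8388689, [4, 4, 2, 5]),
  (8388705, [6, 1, 5, 6]), (8388739, [6, 1, 1, 2]), (8388741, [6, 1, 5, 2]), (8388745, [2, 1, 3, 5]),
  (8388753, [0, 4, 2, 4]), (8388801, [1, 1, 3, 7]), (8388897, [1, 1, 2, 0]), (8388929, [3, 1, 1, 5]),
  (8389153, [0, 2, 5]), (8389185, [1, 5, 3]), (8389377, [4, 6, 1, 1]), (8389635, [6, 1, 7, 7]),
  (8389637, [1, 2, 6, 3]), (8389641, [4, 0, 0, 3]), (8389649, [2, 4, 1]), (8389697, [0, 7, 0, 0, 3]),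
  (8389761, [0, 7, 1, 4]), (8390659, [3, 6, 5, 7]), (8390661, [2, 1, 1, 1]), (8390665, [5, 0, 0]),
  (8390673, [5, 6, 5, 6]), (8390689, [1, 3, 0]), (8390721, [1, 2, 1, 2]), (8390785, [0, 3, 4, 3]),
  (8390913, [0, 0, 0, 3]), (8391169, [3, 0, 5, 6]), (8391681, [7, 1, 6]), (8392707, [0, 3, 4, 2]),
  (8392709, [0, 4, 7]), (8392713, [6, 1, 1, 5]), (8392721, [3, 0, 0, 6]), (8392769, [2, 5, 7, 7]),
  (8392833, [0, 5, 2, 5]), (8393729, [2, 0, 5]), (8394753, [7, 0, 0, 7]), (8396803, [0, 7, 5, 1]),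
  (8396805, [4, 2, 1, 3]), (8396809, [7, 1, 2]), (8396817, [4, 4, 7]), (8396833, [2, 5, 0, 7]),
  (8396865, [1, 4, 0, 7]), (8396929, [2, 6, 3, 1]), (8397057, [5, 7]), (8397313, [1, 2, 4, 6]),
  (8397825, [0, 2, 1, 4]), (8398849, [1, 2, 7, 7]), (8400897, [4, 7, 1, 4]), (8404995, [0, 2, 1, 4, 4]),
  (8404997, [0, 5, 6, 2]), (8405001, [6, 5, 7, 2]), (8405009, [1, 4, 6, 5]), (8405025, [6, 4, 1, 1]),
  (8405057, [0, 5, 6, 0, 6]), (8405121, [3, 4, 0]), (8405249, [0, 4, 3, 4]), (8405505, [0, 7, 7, 2]),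
  (8406017, [1, 1, 7, 0]), (8407041, [5, 3, 6]), (8409089, [7, 7, 7]), (8413185, [4, 2, 5, 2]),
  (8421409, [7, 3]), (8421441, [0, 2, 7, 0, 3]), (8421633, [3, 1, 4, 3]), (8421889, [3, 5, 0, 6]),
  (8423425, [1, 3, 4, 0]), (8429569, [1, 1, 4, 2]), (8437761, [3, 1, 5, 2]), (8454147, [0, 4, 1, 7]),
  (8454149, [2, 0, 5, 7]), (8454153, [4, 7, 0, 7]), (8454161, [4, 3, 4]), (8454177, [2, 1, 4]),
  (8454209, [7, 0, 2]), (8454273, [1, 5, 1, 3, 5]), (8454401, [0, 3, 7, 2]), (8454657, [4, 0, 0, 2]),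
  (8455169, [7, 2, 1, 5]), (8456193, [0, 7, 1, 7, 0]), (8458241, [0, 6, 3, 6, 3]), (8462337, [0, 4, 3]),
  (8470529, [1, 5, 5, 6, 5]), (8486913, [3, 5, 3]), (8519683, [4, 7, 0, 6]), (8519685, [2, 4, 1, 2]),
  (8519689, [7, 4, 4]), (8519697, [1, 6, 0, 6]), (8519713, [1, 1, 2, 7]), (8519745, [4, 2, 1, 5]),
  (8519809, [1, 4, 2]), (8519937, [0, 4, 0, 4, 1]), (8520193, [7, 1, 5, 6]), (8520705, [3, 7, 3]),
  (8521729, [5, 7, 0]), (8523777, [0, 0, 4, 6]), (8527873, [7, 1, 3, 5]), (8536065, [5, 7, 4]),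
  (8552449, [0, 7, 0, 0]), (8585217, [5, 2, 4, 4]), (8650755, [1, 2, 5, 1]), (8650757, [2, 7, 4, 1]),
  (8650761, [3, 1, 3, 6]), (8650769, [1, 7, 4, 2]), (8650785, [5, 0, 5]), (8650817, [2, 5, 7]),
  (8650881, [2, 4, 3, 7]), (8651009, [0, 3, 6, 0]), (8651265, [0, 7, 4, 6]), (8651777, [6, 4, 4]),
  (8652801, [4, 1, 3]), (8654849, [3, 6, 0, 6]), (8658945, [0, 0, 2, 6, 3]), (8667137, [6, 6]),
  (8683521, [2, 0, 4, 1]), (8716289, [3, 1, 2, 4]), (8781825, [7, 0, 5]), (8912899, [5, 0, 4, 3]),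
  (8912901, [4, 7, 5, 6]), (8912905, [0, 3, 6, 5]), (8912913, [1, 1, 4, 4]), (8912929, [0, 0, 2, 5, 7]),
  (8912961, [2, 7]), (8913025, [0, 0, 5, 6]), (8913153, [3, 0, 4, 7]), (8913409, [5, 2, 1]),
  (8913921, [1, 6, 1]), (8914945, [1, 1, 2, 5]), (8916993, [0, 6, 2]), (8921089, [2, 0, 7, 0]),
  (8929281, [0, 5, 5, 3]), (8945665, [1, 2, 0, 0]), (8978433, [7, 1]), (9043969, [2, 7, 3, 5]),
  (9175041, [5, 0, 7, 3]), (9437217, [6, 4, 4, 6]), (9437249, [4, 3, 0, 7]), (9437441, [6, 4, 3]),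
  (9437697, [1, 3, 5, 7]), (9439233, [1, 3, 5, 0]), (9445377, [0, 5, 5, 3, 5]), (9453569, [5, 0, 7, 2]),
  (9469953, [1, 5, 7, 4, 3]), (9502721, [1, 7, 1, 2]), (9568257, [1, 6, 4, 4]), (9699329, [1, 3, 7, 3]),
  (9961473, [5, 6, 6]), (10485793, [1, 1, 4, 3]), (10485825, [1, 6, 2, 5]), (10486017, [2, 0, 7, 5]),
  (10486273, [0, 6, 3, 0]), (10487809, [3, 5, 1, 6]), (10493953, [6, 6, 5]), (10502145, [7, 1, 3]),
  (10518529, [4, 0, 2, 1]), (10551297, [1, 4, 4]), (10616833, [1, 5, 6, 2]), (10747905, [0, 0, 7]),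
  (11010049, [2, 1, 2, 0]), (11534337, [3, 0, 2, 6]), (12582945, [0, 7, 2, 6]), (12582977, [7, 7, 7, 0]),
  (12583169, [3, 4, 0, 6]), (12583425, [0, 5, 5, 7]), (12584961, [0, 2, 0, 3]), (12591105, [6, 5, 2, 6]),
  (12599297, [2, 5, 6, 5]), (12615681, [0, 0, 6, 5]), (12648449, [2, 5, 1, 4]), (12713985, [5, 1, 3, 5]),
  (12845057, [4, 3, 5, 2]), (13107201, [5, 0, 2, 0]), (13631489, [1, 7, 4]), (14680065, [7, 2, 5])]

theorem m0_ok : trioChk m0 = true := by decide +kernel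

theorem gens_ok : gensB3 m0 gens = true := by decide +kernel

theorem dA : distB [m0.1, m0.2.1, m0.2.2] = true := by decide +kernel

theorem oB_ok : and (wtB 8 oB1) (and (wtB 8 oB2) (wtB 8 oB3)) = true := by decide +kernel

theorem oC1_ok : oC1.all (fun q => and (wtB 8 q.1) (Nat.beq (applyW pmL gens q.2 oB1) q.1)) = true := by decide +kernel

theorem oC1_inc : incFrom 0 (oC1.map (fun q => q.1)) = true := by decide +kernel

theorem oC1_len : oC1.length = 3 := by decide +kernel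

theorem oD1 : distB [oB1] = true := by decide +kernel

theorem oC2_ok : oC2.all (fun q => and (wtB 8 q.1) (Nat.beq (applyW pmL gens q.2 oB2) q.1)) = true := by decide +kernel

theorem oC2_inc : incFrom 0 (oC2.map (fun q => q.1)) = true := by decide +kernel

theorem oC2_len : oC2.length = 84 := by decide +kernel

theorem oD2 : distB [oB2] = true := by decide +kernel

theorem oC3_ok : oC3.all (fun q => and (wtB 8 q.1) (Nat.beq (applyW pmL gens q.2 oB3) q.1)) = true := by decide +kernel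

theorem oC3_inc : incFrom 0 (oC3.map (fun q => q.1)) = true := by decide +kernel

theorem oC3_len : oC3.length = 672 := by decide +kernel

theorem oD3 : distB [oB3] = true := by decide +kernel

theorem std_o : Orb3 octads (trioDec m0) 3 84 672 := by
  have hg := gens3_spec m0_ok gens_ok
  have hb := oB_ok
  simp only [Bool.and_eq_true] at hb
  have eA : trioDec m0 = finOf [m0.1, m0.2.1, m0.2.2] := (finOf_trio m0).symm
  have eB1 : ({support₂ (word oB1)} : Finset (Finset GolayPt)) = finOf [oB1] := (finOf_single oB1).symm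
  have eB2 : ({support₂ (word oB2)} : Finset (Finset GolayPt)) = finOf [oB2] := (finOf_single oB2).symm
  have eB3 : ({support₂ (word oB3)} : Finset (Finset GolayPt)) = finOf [oB3] := (finOf_single oB3).symm
  apply orb3_of octads octads_inv (trioDec m0) (fun T => T) (fun x => {x}) (fun g => rfl) (fun g x => single_smul g x)
    (support₂ (word oB1)) (support₂ (word oB2)) (support₂ (word oB3))
    (wtB_spec hb.1).1 (wtB_spec hb.2.1).1 (wtB_spec hb.2.2).1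
    3 84 672 Cfsg.Agent.Lib.Helper12.ncard_octads
  · rw [← oC1_len]
    exact lower_oct _ gens hg oB1 oC1 oC1_ok oC1_inc
  · rw [← oC2_len]
    exact lower_oct _ gens hg oB2 oC2 oC2_ok oC2_inc
  · rw [← oC3_len]
    exact lower_oct _ gens hg oB3 oC3 oC3_ok oC3_inc
  · show iotaF (trioDec m0) (({support₂ (word oB1)} : Finset (Finset GolayPt))) ≠ iotaF (trioDec m0) (({support₂ (word oB2)} : Finset (Finset GolayPt)))
    rw [eA, eB1, eB2]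
    exact iota_ne dA oD1 oD2 (by decide +kernel)
  · show iotaF (trioDec m0) (({support₂ (word oB1)} : Finset (Finset GolayPt))) ≠ iotaF (trioDec m0) (({support₂ (word oB3)} : Finset (Finset GolayPt)))
    rw [eA, eB1, eB3]
    exact iota_ne dA oD1 oD3 (by decide +kernel)
  · show iotaF (trioDec m0) (({support₂ (word oB2)} : Finset (Finset GolayPt))) ≠ iotaF (trioDec m0) (({support₂ (word oB3)} : Finset (Finset GolayPt)))
    rw [eA, eB2, eB3]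
    exact iota_ne dA oD2 oD3 (by decide +kernel)

theorem sB_ok : and (tetChk sB1) (and (tetChk sB2) (and (tetChk sB3) (tetChk sB4))) = true := by decide +kernel

theorem sS1_ok : sextB sS1 = true := by decide +kernel

theorem sC1_ok : sC1.all (fun q => and (tetChk q.1) (eqvS (applyW pmL gens q.2 sB1) q.1)) = true := by decide +kernel

theorem sC1_inc : incFrom 0 (sC1.map (fun q => q.1)) = true := by decide +kernel

theorem sC1_len : sC1.length = 7 := by decide +kernel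

theorem sD1 : distB sS1 = true := by decide +kernel

theorem sS2_ok : sextB sS2 = true := by decide +kernel

theorem sC2_ok : sC2.all (fun q => and (tetChk q.1) (eqvS (applyW pmL gens q.2 sB2) q.1)) = true := by decide +kernel

theorem sC2_inc : incFrom 0 (sC2.map (fun q => q.1)) = true := by decide +kernel

theorem sC2_len : sC2.length = 84 := by decide +kernel

theorem sD2 : distB sS2 = true := by decide +kernel

theorem sS3_ok : sextB sS3 = true := by decide +kernel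

theorem sC3_ok : sC3.all (fun q => and (tetChk q.1) (eqvS (applyW pmL gens q.2 sB3) q.1)) = true := by decide +kernel

theorem sC3_inc : incFrom 0 (sC3.map (fun q => q.1)) = true := by decide +kernel

theorem sC3_len : sC3.length = 336 := by decide +kernel

theorem sD3 : distB sS3 = true := by decide +kernel

theorem sS4_ok : sextB sS4 = true := by decide +kernel

theorem sC4_ok : sC4.all (fun q => and (tetChk q.1) (eqvS (applyW pmL gens q.2 sB4) q.1)) = true := by decide +kernel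

theorem sC4_inc : incFrom 0 (sC4.map (fun q => q.1)) = true := by decide +kernel

theorem sC4_len : sC4.length = 1344 := by decide +kernel

theorem sD4 : distB sS4 = true := by decide +kernel

theorem std_s : Orb4 sextets (trioDec m0) 7 84 336 1344 := by
  have hg := gens3_spec m0_ok gens_ok
  have hb := sB_ok
  simp only [Bool.and_eq_true] at hb
  have eA : trioDec m0 = finOf [m0.1, m0.2.1, m0.2.2] := (finOf_trio m0).symm
  have eB1 : Cfsg.Agent.S1550.sx (support₂ (word sB1)) = finOf sS1 := sx_eq_finOf sS1_ok (by decide)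
  have eB2 : Cfsg.Agent.S1550.sx (support₂ (word sB2)) = finOf sS2 := sx_eq_finOf sS2_ok (by decide)
  have eB3 : Cfsg.Agent.S1550.sx (support₂ (word sB3)) = finOf sS3 := sx_eq_finOf sS3_ok (by decide)
  have eB4 : Cfsg.Agent.S1550.sx (support₂ (word sB4)) = finOf sS4 := sx_eq_finOf sS4_ok (by decide)
  apply orb4_of sextets sextets_inv (trioDec m0) (fun T => T) (fun T => T) (fun g => rfl) (fun g x => rfl)
    (Cfsg.Agent.S1550.sx (support₂ (word sB1))) (Cfsg.Agent.S1550.sx (support₂ (word sB2))) (Cfsg.Agent.S1550.sx (support₂ (word sB3))) (Cfsg.Agent.S1550.sx (support₂ (word sB4)))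
    (Cfsg.Agent.S1550.sx_spec _ (tetChk_spec hb.1).1).1 (Cfsg.Agent.S1550.sx_spec _ (tetChk_spec hb.2.1).1).1 (Cfsg.Agent.S1550.sx_spec _ (tetChk_spec hb.2.2.1).1).1 (Cfsg.Agent.S1550.sx_spec _ (tetChk_spec hb.2.2.2).1).1
    7 84 336 1344 Cfsg.Agent.S1550.result.2
  · rw [← sC1_len]
    exact lower_sext _ gens hg sB1 hb.1 sC1 sC1_ok sC1_inc
  · rw [← sC2_len]
    exact lower_sext _ gens hg sB2 hb.2.1 sC2 sC2_ok sC2_inc
  · rw [← sC3_len]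
    exact lower_sext _ gens hg sB3 hb.2.2.1 sC3 sC3_ok sC3_inc
  · rw [← sC4_len]
    exact lower_sext _ gens hg sB4 hb.2.2.2 sC4 sC4_ok sC4_inc
  · show iotaF (trioDec m0) (Cfsg.Agent.S1550.sx (support₂ (word sB1))) ≠ iotaF (trioDec m0) (Cfsg.Agent.S1550.sx (support₂ (word sB2)))
    rw [eA, eB1, eB2]
    exact iota_ne dA sD1 sD2 (by decide +kernel)
  · show iotaF (trioDec m0) (Cfsg.Agent.S1550.sx (support₂ (word sB1))) ≠ iotaF (trioDec m0) (Cfsg.Agent.S1550.sx (support₂ (word sB3)))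
    rw [eA, eB1, eB3]
    exact iota_ne dA sD1 sD3 (by decide +kernel)
  · show iotaF (trioDec m0) (Cfsg.Agent.S1550.sx (support₂ (word sB1))) ≠ iotaF (trioDec m0) (Cfsg.Agent.S1550.sx (support₂ (word sB4)))
    rw [eA, eB1, eB4]
    exact iota_ne dA sD1 sD4 (by decide +kernel)
  · show iotaF (trioDec m0) (Cfsg.Agent.S1550.sx (support₂ (word sB2))) ≠ iotaF (trioDec m0) (Cfsg.Agent.S1550.sx (support₂ (word sB3)))
    rw [eA, eB2, eB3]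
    exact iota_ne dA sD2 sD3 (by decide +kernel)
  · show iotaF (trioDec m0) (Cfsg.Agent.S1550.sx (support₂ (word sB2))) ≠ iotaF (trioDec m0) (Cfsg.Agent.S1550.sx (support₂ (word sB4)))
    rw [eA, eB2, eB4]
    exact iota_ne dA sD2 sD4 (by decide +kernel)
  · show iotaF (trioDec m0) (Cfsg.Agent.S1550.sx (support₂ (word sB3))) ≠ iotaF (trioDec m0) (Cfsg.Agent.S1550.sx (support₂ (word sB4)))
    rw [eA, eB3, eB4]
    exact iota_ne dA sD3 sD4 (by decide +kernel)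

/-- The stabiliser of a trio in the group of the length-24 code has exactly three orbits on the 759 octads, of sizes 3, 84 and 672, and exactly four orbits on the 1771 sextets, of sizes 7, 84, 336 and 1344. -/
theorem result (T : Finset (Finset Cfsg.GolayPt)) (hT : T ∈ Cfsg.trios) : (∃ X₁ ∈ Cfsg.octads, ∃ X₂ ∈ Cfsg.octads, ∃ X₃ ∈ Cfsg.octads, (MulAction.orbit ↥(MulAction.stabilizer Cfsg.M24 T) X₁).ncard = 3 ∧ (MulAction.orbit ↥(MulAction.stabilizer Cfsg.M24 T) X₂).ncard = 84 ∧ (MulAction.orbit ↥(MulAction.stabilizer Cfsg.M24 T) X₃).ncard = 672 ∧ Cfsg.octads = MulAction.orbit ↥(MulAction.stabilizer Cfsg.M24 T) X₁ ∪ MulAction.orbit ↥(MulAction.stabilizer Cfsg.M24 T) X₂ ∪ MulAction.orbit ↥(MulAction.stabilizer Cfsg.M24 T) X₃) ∧ (∃ Y₁ ∈ Cfsg.sextets, ∃ Y₂ ∈ Cfsg.sextets, ∃ Y₃ ∈ Cfsg.sextets, ∃ Y₄ ∈ Cfsg.sextets, (MulAction.orbit ↥(MulAction.stabilizer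 Cfsg.M24 T) Y₁).ncard = 7 ∧ (MulAction.orbit ↥(MulAction.stabilizer Cfsg.M24 T) Y₂).ncard = 84 ∧ (MulAction.orbit ↥(MulAction.stabilizer Cfsg.M24 T) Y₃).ncard = 336 ∧ (MulAction.orbit ↥(MulAction.stabilizer Cfsg.M24 T) Y₄).ncard = 1344 ∧ Cfsg.sextets = MulAction.orbit ↥(MulAction.stabilizer Cfsg.M24 T) Y₁ ∪ MulAction.orbit ↥(MulAction.stabilizer Cfsg.M24 T) Y₂ ∪ MulAction.orbit ↥(MulAction.stabilizer Cfsg.M24 T) Y₃ ∪ MulAction.orbit ↥(MulAction.stabilizer Cfsg.M24 T) Y₄) := by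
  obtain ⟨k, hk, e⟩ := trio_trans hT m0_ok
  have h1 := std_o.smul octads_inv hk
  have h2 := std_s.smul sextets_inv hk
  rw [e] at h1 h2
  obtain ⟨X₁, a1, X₂, a2, X₃, a3, c1, c2, c3, u⟩ := h1
  obtain ⟨Y₁, b1, Y₂, b2, Y₃, b3, Y₄, b4, d1, d2, d3, d4, v⟩ := h2
  refine ⟨⟨X₁, a1, X₂, a2, X₃, a3, ?_, ?_, ?_, ?_⟩,
    ⟨Y₁, b1, Y₂, b2, Y₃, b3, Y₄, b4, ?_, ?_, ?_, ?_, ?_⟩⟩
  · rw [orb_eq]; exact c1
  · rw [orb_eq]; exact c2
  · rw [orb_eq]; exact c3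
  · rw [orb_eq, orb_eq, orb_eq]; exact u
  · rw [orb_eq]; exact d1
  · rw [orb_eq]; exact d2
  · rw [orb_eq]; exact d3
  · rw [orb_eq]; exact d4
  · rw [orb_eq, orb_eq, orb_eq, orb_eq]; exact v
end Cfsg.Agent.S5612
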