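import Cfsg.Statements.S5616
import Cfsg.Agent.Lib.Helper28.M24Orb2

set_option autoImplicit false
open scoped Pointwise
open Cfsg

namespace Cfsg.Agent.S5616

set_option maxRecDepth 1000000
set_option maxHeartbeats 4000000

open Cfsg Cfsg.Agent.Lib.Helper4.Golay Cfsg.Agent.Lib.Helper28
open Pointwise


def m0 : ℕ := 7


def gens : List (List ℕ × List ℕ) := [
  ([1, 0, 2, 10, 5, 3, 11, 21, 16, 14, 8, 13, 22, 9, 7, 6, 18, 12, 23, 17, 20, 15, 19, 4], [1, 0, 2, 5, 23, 4, 15, 14, 10, 13, 3, 6, 17, 11, 9, 21, 8, 19, 16, 22, 20, 7, 12, 18]),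
  ([1, 0, 2, 5, 23, 4, 15, 14, 10, 13, 3, 6, 17, 11, 9, 21, 8, 19, 16, 22, 20, 7, 12, 18], [1, 0, 2, 10, 5, 3, 11, 21, 16, 14, 8, 13, 22, 9, 7, 6, 18, 12, 23, 17, 20, 15, 19, 4]),
  ([1, 0, 2, 11, 6, 13, 4, 3, 8, 15, 9, 21, 22, 16, 14, 23, 18, 19, 5, 12, 20, 7, 17, 10], [1, 0, 2, 7, 6, 18, 4, 21, 8, 10, 23, 3, 19, 5, 14, 9, 13, 22, 16, 17, 20, 11, 12, 15]),
  ([1, 0, 2, 7, 6, 18, 4, 21, 8, 10, 23, 3, 19, 5, 14, 9, 13, 22, 16, 17, 20, 11, 12, 15], [1, 0, 2, 11, 6, 13, 4, 3, 8, 15, 9, 21, 22, 16, 14, 23, 18, 19, 5, 12, 20, 7, 17, 10]),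
  ([1, 0, 2, 13, 4, 11, 6, 23, 20, 15, 16, 12, 22, 9, 14, 3, 18, 10, 17, 21, 8, 7, 5, 19], [1, 0, 2, 15, 4, 22, 6, 21, 20, 13, 17, 5, 11, 3, 14, 9, 10, 18, 16, 23, 8, 19, 12, 7]),
  ([1, 0, 2, 15, 4, 22, 6, 21, 20, 13, 17, 5, 11, 3, 14, 9, 10, 18, 16, 23, 8, 19, 12, 7], [1, 0, 2, 13, 4, 11, 6, 23, 20, 15, 16, 12, 22, 9, 14, 3, 18, 10, 17, 21, 8, 7, 5, 19]),
  ([2, 1, 0, 15, 8, 18, 20, 19, 6, 23, 16, 9, 3, 21, 14, 13, 5, 7, 11, 12, 4, 17, 10, 22], [2, 1, 0, 12, 20, 16, 8, 17, 4, 11, 22, 18, 19, 15, 14, 3, 10, 21, 5, 7, 6, 13, 23, 9]),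
  ([2, 1, 0, 12, 20, 16, 8, 17, 4, 11, 22, 18, 19, 15, 14, 3, 10, 21, 5, 7, 6, 13, 23, 9], [2, 1, 0, 15, 8, 18, 20, 19, 6, 23, 16, 9, 3, 21, 14, 13, 5, 7, 11, 12, 4, 17, 10, 22])]

def sB1 : ℕ := 15

def sS1 : List ℕ := [15, 5264, 622848, 3416064, 4196928, 8536096]

def sC1 : List ((ℕ) × List ℕ) := [
  (15, []), (23, [0, 0]), (39, [0]), (71, [3, 0]),
  (135, [2]), (263, [1, 1]), (519, [1, 3]), (1031, [1]),
  (2055, [3]), (4103, [6]), (8199, [5]), (16391, [2, 0]),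
  (32775, [4]), (65543, [0, 6]), (131079, [1, 4]), (262151, [0, 2]),
  (524295, [2, 7]), (1048583, [0, 0, 6]), (2097159, [2, 1]), (4194311, [0, 4]),
  (8388615, [1, 2])]

def sB2 : ℕ := 27

def sS2 : List ℕ := [27, 5252, 57856, 2162784, 4587776, 9963520]

def sC2 : List ((ℕ) × List ℕ) := [
  (27, []), (29, [2, 7, 3, 7]), (43, [3, 1, 2]), (45, [0, 2, 7, 2]),
  (51, [3, 6, 6]), (53, [0, 2, 6, 0]), (75, [3, 0, 5]), (77, [1, 1, 7, 5]),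
  (83, [1, 7, 7, 0]), (85, [1, 2, 0, 7, 0]), (99, [3, 4]), (101, [1, 7, 0, 7]),
  (139, [0, 3, 0, 2]), (141, [0, 5, 1, 6, 5]), (147, [2, 2, 5]), (149, [6, 0, 7]),
  (153, [6, 5, 0]), (163, [5, 0, 4]), (165, [1, 6, 1, 6]), (195, [2]),
  (197, [6, 2, 6]), (267, [1, 1]), (269, [5, 6, 5]), (275, [1, 5, 0, 2]),
  (277, [0, 0, 6, 0, 7]), (291, [2, 5, 3, 1]), (293, [3, 6, 3]), (323, [1, 5, 0]),
  (325, [5, 1, 6, 0]), (337, [7, 4, 1]), (387, [1, 1, 2]), (389, [5, 7, 3]),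
  (523, [2, 1, 1, 4]), (525, [1, 3, 6, 2]), (531, [4, 4]), (533, [7, 3, 6]),
  (547, [5, 1]), (549, [1, 3, 6, 4]), (561, [3, 6, 1, 5]), (579, [4, 2]),
  (581, [6, 4, 7]), (585, [1, 2, 7]), (643, [5, 0, 2, 2]), (645, [0, 7, 1, 6]),
  (771, [0, 3, 1]), (773, [7, 2]), (897, [2, 1, 3, 6]), (1035, [2, 2, 0, 3]),
  (1037, [0, 2, 6, 1]), (1043, [2, 5, 3]), (1045, [6, 1, 7]), (1049, [1, 2, 5, 7]),
  (1059, [1]), (1061, [3, 0, 6, 0]), (1091, [4, 4, 2]), (1093, [6, 5, 7]),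
  (1155, [4, 0, 3]), (1157, [5, 7, 0]), (1161, [1, 1, 6]), (1169, [0, 7, 3, 1]),
  (1283, [0, 3, 1, 2]), (1285, [7, 1, 6]), (1313, [4, 4, 0, 7]), (1539, [0, 5, 1, 5]),
  (1541, [3, 6, 1, 6]), (2059, [0, 3, 0]), (2061, [7, 0, 0, 3]), (2067, [2, 4, 2]),
  (2069, [7, 2, 6]), (2083, [1, 7, 7]), (2085, [0, 0, 0, 7, 5]), (2115, [3]),
  (2117, [7, 4, 6]), (2121, [5, 0, 7]), (2179, [1, 2, 4, 2, 0]), (2181, [1, 6, 3, 7]),
  (2209, [2, 6, 4, 0]), (2307, [1, 1, 3]), (2309, [6, 4]), (2563, [7, 7, 1]),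
  (2565, [2, 0, 7, 0]), (2569, [6, 2, 7, 3]), (2625, [2, 6, 0, 0]), (3075, [0, 6, 6]),
  (3077, [4, 7, 0]), (4107, [2, 4, 1, 5]), (4109, [1, 2, 7, 2]), (4115, [2, 7, 7]),
  (4117, [6, 2, 7]), (4121, [1, 4, 7]), (4131, [0, 0, 5, 1]), (4133, [1, 2, 7, 4]),
  (4163, [3, 5]), (4165, [7, 5, 6]), (4193, [3, 6, 1, 2]), (4227, [2, 1, 5]),
  (4229, [0, 6, 1, 5, 1]), (4233, [3, 6, 3, 0]), (4241, [1, 2, 2, 6]), (4355, [0, 7, 3, 0, 7]),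
  (4357, [1, 6, 0]), (4611, [3, 1, 5]), (4613, [0, 2, 7, 5]), (5123, [0, 2, 5, 1]),
  (5125, [1, 6, 4]), (5129, [6, 0, 6, 3]), (5137, [7, 0, 0]), (5249, [5, 3, 0, 6]),
  (6147, [1, 4, 2, 4]), (6149, [1, 6, 1, 7]), (6401, [5, 1, 7]), (8203, [1, 3, 4]),
  (8205, [4, 0, 6, 4]), (8211, [5]), (8213, [1, 2, 6, 0]), (8227, [2, 4, 2, 1]),
  (8229, [5, 7, 1, 7]), (8259, [7, 7]), (8261, [1, 3, 6, 1]), (8289, [1, 3, 4, 6]),
  (8323, [2, 0, 0, 0]), (8325, [3, 1, 7, 0]), (8451, [0, 2, 2, 0]), (8453, [0, 6, 0]),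
  (8577, [2, 1, 7]), (8707, [1, 3]), (8709, [0, 2, 7, 1]), (8833, [2, 6]),
  (8961, [4, 0, 4, 6]), (9219, [0, 3]), (9221, [0, 6, 2]), (10243, [3, 1]),
  (10245, [0, 2, 6, 3]), (11265, [0, 4, 0, 6]), (12291, [0, 3, 0, 5]), (12293, [1, 6, 2]),
  (12321, [1, 1, 7]), (12353, [1, 5, 1, 6]), (16395, [2, 0, 5]), (16397, [1, 2, 6, 1]),
  (16403, [5, 0, 4, 0]), (16405, [3, 7, 1, 7]), (16419, [4, 4, 1]), (16421, [0, 6, 1, 6]),
  (16425, [0, 4, 6]), (16451, [1, 3, 5, 1]), (16453, [3, 7, 1, 6]), (16465, [2, 6, 5, 1]),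
  (16515, [1, 3, 1, 1]), (16517, [2, 0, 6, 2]), (16643, [1, 2, 4, 0]), (16645, [7, 0, 5, 0]),
  (16657, [1, 5, 0, 7]), (16705, [4, 6, 0, 0]), (16899, [1, 3, 1]), (16901, [2, 0, 7, 5]),
  (17411, [1, 1, 2, 0]), (17413, [6, 6, 6, 0]), (18435, [4, 2, 1]), (18437, [0, 6, 1, 7]),
  (19457, [0, 4, 2, 6]), (20483, [0, 4, 0]), (20485, [2, 1, 7, 1]), (20993, [0, 3, 7]),
  (24579, [1, 3, 1, 4]), (24581, [2, 0, 6, 5]), (25601, [3, 1, 5, 6]), (26625, [0, 4, 7]),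
  (32779, [5, 0, 2]), (32781, [6, 4, 0, 0]), (32787, [4]), (32789, [7, 5, 7]),
  (32803, [2, 2, 1]), (32805, [5, 0, 6, 3]), (32835, [3, 0]), (32837, [3, 7, 0, 6]),
  (32865, [5, 0, 4, 1, 6]), (32899, [2, 4, 0]), (32901, [3, 1, 7, 3]), (33027, [5, 3, 0]),
  (33029, [3, 7, 5]), (33033, [6, 5, 1]), (33283, [1, 3, 5]), (33285, [4, 0, 6, 5]),
  (33795, [1, 5, 0, 0]), (33797, [1, 7, 2, 6]), (34305, [4, 2, 7]), (34819, [2, 4, 1]),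
  (34821, [1, 2, 6, 5]), (34833, [1, 6, 1, 5]), (36867, [0, 5, 0, 0]), (36869, [1, 6, 1, 5, 1]),
  (36897, [5, 3, 0, 7]), (36929, [1, 2, 2, 7]), (40963, [2, 1, 1]), (40965, [1, 2, 6, 3]),
  (40993, [7, 3, 7, 4]), (41025, [1, 6, 1, 3]), (45057, [6, 4, 6, 3]), (49155, [2, 0]),
  (49157, [2, 0, 6, 4]), (49281, [0, 7]), (65547, [1, 5, 1, 4]), (65549, [1, 5, 6, 0]),
  (65555, [0, 0, 4]), (65557, [2, 6, 5, 7]), (65571, [1, 5, 1, 2]), (65573, [1, 6, 5, 6]),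
  (65603, [5, 3]), (65605, [7, 1]), (65667, [1, 2, 4]), (65669, [5, 1, 7, 4]),
  (65697, [4, 4, 6]), (65795, [1, 2, 0, 0]), (65797, [1, 7, 0]), (65801, [0, 3, 0, 2, 7]),
  (66051, [0, 2, 2]), (66053, [4, 7, 1]), (66563, [1, 1, 1]), (66565, [1, 7, 4]),
  (66625, [2, 2, 5, 1, 7]), (67587, [1, 5]), (67589, [2, 1, 6, 0]), (67617, [7, 3, 4]),
  (67713, [0, 0, 6]), (69635, [0, 2, 6, 6]), (69637, [0, 7, 0]), (70145, [0, 6, 1, 7, 3]),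
  (73731, [1, 1, 3, 1]), (73733, [1, 7, 2]), (73745, [1, 5, 1, 1, 7]), (81923, [0, 3, 1, 1]),
  (81925, [0, 5, 6, 0]), (82433, [0, 2, 5, 6]), (86017, [3, 1, 7]), (98307, [1, 2, 2]),
  (98309, [5, 7, 1]), (98313, [3, 5, 6]), (98561, [2, 1, 5, 7]), (131083, [0, 2, 5]),
  (131085, [3, 1, 6, 5]), (131091, [0, 0, 5]), (131093, [5, 6, 0, 7]), (131107, [0, 3, 7, 7]),
  (131109, [0, 7, 3]), (131113, [1, 3, 1, 7]), (131139, [5, 7, 7]), (131141, [2, 7, 5, 7]),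
  (131203, [0, 4, 2, 0]), (131205, [0, 2, 5, 6, 0]), (131331, [0, 2, 0, 4, 1]), (131333, [0, 4, 7, 1]),
  (131457, [4, 0, 6]), (131587, [0, 4, 0, 0]), (131589, [2, 1, 6, 5]), (131713, [4, 7]),
  (131841, [0, 4, 1, 6]), (132099, [1, 1, 1, 4]), (132101, [6, 1, 4, 0]), (132161, [1, 7]),
  (133123, [6, 6, 1]), (133125, [6, 5, 0, 4]), (133137, [0, 5, 1, 6]), (135171, [1, 2, 5, 1]),
  (135173, [7, 0, 4, 1]), (139267, [0, 5, 1]), (139269, [0, 5, 7, 0]), (139393, [2, 5, 6]),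
  (139521, [7, 0, 3]), (139777, [6, 6, 6]), (147459, [2, 1, 5, 0]), (147461, [0, 4, 0, 6, 2]),
  (147465, [0, 2, 2, 7]), (147489, [1, 6, 5, 1]), (163843, [3, 5, 0]), (163845, [5, 0, 6, 5]),
  (163857, [1, 5, 1, 7]), (165889, [1, 1, 5, 7]), (196611, [1, 4, 4, 0]), (196613, [7, 0, 7]),
  (196673, [1, 5, 6]), (197633, [7, 1, 5]), (262155, [0, 5, 1, 4]), (262157, [7, 0, 5, 3]),
  (262163, [0, 0]), (262165, [6, 4, 6]), (262179, [0, 0, 4, 1]), (262181, [1, 6, 5]),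
  (262193, [7, 0, 6, 1]), (262211, [5, 0, 0]), (262213, [3, 6, 3, 7]), (262275, [4, 0, 0]),
  (262277, [0, 2, 6, 2]), (262403, [0, 0, 0, 0]), (262405, [2, 4, 7, 4]), (262659, [1, 1, 1, 3]),
  (262661, [6, 4, 1, 1]), (262673, [1, 2, 4, 7]), (262689, [0, 7, 3, 0]), (263171, [5, 1, 2]),
  (263173, [1, 2, 6, 2]), (263233, [1, 6, 1, 2]), (264195, [5, 3, 1]), (264197, [1, 6, 5, 7]),
  (264449, [1, 6, 3, 1]), (266243, [1, 4, 4]), (266245, [4, 0, 7, 4]), (266497, [7, 0, 2]),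
  (268289, [4, 4, 7]), (270339, [1, 5, 1]), (270341, [2, 1, 7, 4]), (270345, [7, 7, 7]),
  (278531, [0, 2, 2, 1]), (278533, [0, 6, 1]), (278657, [0, 3, 6]), (294915, [0, 2]),
  (294917, [0, 6, 3]), (295041, [2, 0, 3, 7]), (311297, [0, 2, 0, 4, 6]), (327683, [1, 2, 0]),
  (327685, [3, 4, 6, 1]), (327745, [1, 2, 4, 6]), (328705, [6, 5, 7, 4]), (393219, [1, 2, 0, 5]),
  (393221, [1, 6, 3]), (393281, [5, 6, 5, 1]), (394241, [3, 7, 5, 1]), (458753, [6, 4, 0]),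
  (524299, [0, 4, 2, 0, 3]), (524301, [0, 0, 0, 7, 1]), (524307, [2, 2, 4]), (524309, [1, 6, 0, 6]),
  (524323, [2, 1, 4]), (524325, [0, 4, 2, 7, 0]), (524337, [5, 0, 6]), (524355, [6, 6]),
  (524357, [0, 3, 6, 1]), (524419, [4, 0, 4]), (524421, [1, 3, 7, 4]), (524481, [1, 3, 7]),
  (524547, [1, 1, 2, 4, 4]), (524549, [2, 6, 3]), (524553, [1, 7, 1, 2]), (524803, [3, 0, 0, 4]),
  (524805, [0, 5, 1, 6, 4]), (524817, [5, 3, 1, 6]), (524833, [7, 1, 3]), (525315, [0, 2, 0, 4]),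
  (525317, [2, 6, 0]), (526339, [0, 5]), (526341, [0, 2, 2, 7, 5]), (527361, [2, 0, 7]),
  (528387, [1, 4, 0]), (528389, [4, 0, 7, 0]), (532483, [2, 0, 0, 4]), (532485, [1, 2, 7, 1]),
  (533505, [1, 3, 1, 6]), (534529, [5, 7, 3, 0]), (540675, [0, 4, 0, 2]), (540677, [5, 0, 7, 1]),
  (541697, [0, 2, 7]), (542721, [7, 2, 0]), (548865, [0, 2, 2, 6]), (557059, [5, 7, 7, 0]),
  (557061, [1, 6, 2, 6]), (557065, [3, 4, 6]), (557313, [2, 2, 1, 6]), (589827, [0, 5, 1, 3]),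
  (589829, [5, 7, 0, 7]), (589833, [7]), (590081, [2, 1, 1, 6]), (622593, [3, 0, 6]),
  (655363, [1, 2, 5]), (655365, [4, 0, 7, 3]), (659457, [2, 5, 7]), (786435, [0, 0, 0, 5]),
  (786437, [1, 6, 1]), (786449, [1, 2, 6]), (786465, [6, 5, 7, 3]), (786945, [6, 5, 6, 1]),
  (1048587, [5, 3, 0, 5]), (1048589, [7, 5]), (1048595, [1, 1, 2, 5, 1]), (1048597, [0, 0, 6, 0]),
  (1048611, [1, 1, 3, 4]), (1048613, [4, 6, 0]), (1048643, [1, 1, 4, 1]), (1048645, [5, 6, 1]),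
  (1048657, [3, 7, 1, 4]), (1048707, [0, 0, 4, 0, 4]), (1048709, [4, 6, 2]), (1048737, [5, 1, 6]),
  (1048835, [1, 1, 5, 3, 0]), (1048837, [7, 4, 2, 1]), (1048849, [1, 2, 4, 0, 7]), (1048897, [1, 2, 4, 0, 6]),
  (1049091, [1, 1, 4, 2]), (1049093, [7, 4]), (1049603, [7, 3, 1, 6]), (1049605, [2, 6, 5]),
  (1050113, [5, 1, 4, 6]), (1050627, [1, 1, 5, 0]), (1050629, [4, 6, 3]), (1050657, [7, 0, 5]),
  (1050753, [1, 1, 1, 7]), (1052675, [1, 1, 3, 5]), (1052677, [2, 7, 3]), (1056771, [1, 1, 5]),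
  (1056773, [3, 7, 0]), (1056777, [6, 6, 1, 6]), (1064963, [1, 1, 4, 2, 1]), (1064965, [3, 7, 1]),
  (1064977, [5, 6, 1, 4]), (1065025, [1, 5, 0, 6]), (1065217, [7, 0, 3, 5, 1]), (1081347, [1, 1, 4]),
  (1081349, [3, 7, 3]), (1081857, [2, 2, 1, 4, 7]), (1082369, [7, 7, 1, 7]), (1114115, [1, 1, 5, 3]),
  (1114117, [3, 6, 4]), (1114145, [1, 2, 0, 5, 7]), (1114241, [1, 2, 0, 7]), (1116161, [0, 0, 0, 5, 6]),
  (1179651, [0, 0, 0, 0, 5]), (1179653, [6, 0]), (1183745, [2, 2, 0, 7]), (1310723, [0, 3, 1, 6, 6]),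
  (1310725, [2, 6, 4]), (1310729, [2, 1, 1, 7]), (1318913, [3, 5, 0, 6]), (1572867, [1, 1, 6, 6]),
  (1572869, [6, 2]), (1576961, [4, 0, 7]), (1703937, [0, 0, 5, 0, 7]), (2097163, [5, 0, 4, 1]),
  (2097165, [1, 6, 2, 7]), (2097171, [2, 2]), (2097173, [3, 7, 0, 7]), (2097187, [2, 2, 5, 1]),
  (2097189, [1, 6, 3, 6]), (2097219, [2, 4]), (2097221, [6, 0, 6]), (2097283, [2, 1, 3]),
  (2097285, [7, 0, 0, 2]), (2097345, [1, 4, 2, 6]), (2097411, [1, 1, 2, 2]), (2097413, [2, 7, 5]),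
  (2097441, [1, 1, 1, 6]), (2097667, [2, 0, 0]), (2097669, [0, 2, 2, 6, 3]), (2098179, [5, 0, 3]),
  (2098181, [7, 0]), (2098209, [1, 2, 1, 7]), (2098433, [0, 0, 0, 7]), (2099203, [2, 1]),
  (2099205, [0, 5, 1, 7, 2]), (2099217, [0, 7, 1, 2]), (2101251, [0, 4, 2]), (2101253, [0, 3, 6, 0]),
  (2101761, [7, 2, 1]), (2105347, [1, 2, 4, 2]), (2105349, [7, 0, 3, 4]), (2105353, [3, 4, 7]),
  (2113539, [2, 0, 7, 7]), (2113541, [7, 0, 3, 1]), (2114049, [3, 1, 2, 6]), (2117633, [0, 6]),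
  (2129923, [3, 0, 0]), (2129925, [1, 1, 7, 0]), (2129937, [1, 5, 3, 7]), (2131969, [0, 7, 1, 1]),
  (2162691, [0, 2, 0]), (2162693, [0, 2, 7, 3]), (2163201, [2, 0, 5, 6]), (2166785, [2, 0, 3, 6]),
  (2179073, [0, 5, 7]), (2228227, [3, 5, 1, 3]), (2228229, [1, 2, 7, 3]), (2228241, [1, 3, 6]),
  (2230273, [6, 1, 6, 2]), (2260993, [0, 3, 1, 6]), (2359299, [1, 5, 3]), (2359301, [5, 1, 6, 3]),
  (2359305, [2, 2, 6]), (2367489, [4, 6]), (2621443, [0, 4, 1]), (2621445, [0, 5, 1, 7, 4]),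
  (2621505, [0, 6, 1, 1]), (2621569, [0, 3, 1, 7]), (3145731, [1, 1, 2, 4]), (3145733, [5, 6, 0]),
  (3145737, [2, 1, 6]), (3153921, [2, 4, 1, 6]), (3407873, [3, 0, 0, 6]), (4194315, [2, 1, 5, 3]),
  (4194317, [0, 4, 7, 0]), (4194323, [3, 5, 3]), (4194325, [1, 1, 6, 5]), (4194339, [0, 5, 1, 2]),
  (4194341, [1, 1, 6, 1]), (4194371, [0, 5, 0]), (4194373, [7, 3, 7]), (4194377, [5, 3, 1, 7]),
  (4194435, [0, 4]), (4194437, [2, 6, 0, 6]), (4194563, [6, 4, 0, 6]), (4194565, [6, 5]),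
  (4194593, [3, 7, 5, 0]), (4194819, [2, 2, 1, 4]), (4194821, [6, 5, 0, 3]), (4194825, [7, 5, 6, 4]),
  (4194881, [0, 6, 2, 0]), (4195331, [0, 4, 0, 0, 2]), (4195333, [1, 7, 4, 6]), (4195361, [5, 7]),
  (4195585, [6, 0, 7, 1]), (4196355, [3, 5, 1]), (4196357, [1, 7, 1, 7]), (4196361, [1, 1, 3, 7]),
  (4196417, [5, 7, 0, 3]), (4196865, [1, 1, 4, 6]), (4198403, [1, 4, 2]), (4198405, [0, 7, 1, 7]),
  (4202499, [5, 1, 4]), (4202501, [7, 0, 6]), (4202513, [1, 6, 1, 4]), (4210691, [0, 4, 0, 3]),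
  (4210693, [0, 5, 7, 1]), (4210817, [3, 1, 6]), (4227075, [6, 6, 0]), (4227077, [0, 2, 6, 4]),
  (4227201, [4, 2, 1, 6]), (4243457, [0, 5, 6]), (4259843, [0, 0, 0, 5, 0]), (4259845, [6, 1, 4, 1]),
  (4259857, [1, 3, 5, 7]), (4268033, [1, 7, 1, 1]), (4325379, [1, 4]), (4325381, [5, 7, 0, 6]),
  (4329473, [2, 7]), (4456451, [0, 0, 5, 0, 0]), (4456453, [4, 7, 0, 6]), (4456577, [2, 0, 5, 7]),
  (4472833, [0, 2, 5, 7]), (4489217, [0, 4, 0, 2, 6]), (4718595, [1, 2, 5, 0]), (4718597, [1, 6, 4, 6]),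
  (4722689, [2, 4, 7]), (4849665, [6]), (5242883, [0, 3, 1, 7, 7]), (5242885, [6, 1]),
  (5246977, [7, 0, 4]), (5373953, [4, 0, 4, 7]), (5767169, [0, 4, 1, 7]), (6291459, [1, 4, 0, 5]),
  (6291461, [1, 2, 5, 7, 1]), (6291489, [5, 3, 6]), (6291713, [1, 2, 0, 6]), (6292481, [6, 1, 5]),
  (8388619, [0, 3, 6, 6]), (8388621, [0, 2, 2, 6, 2]), (8388627, [1, 2, 1]), (8388629, [6, 5, 6]),
  (8388643, [0]), (8388645, [3, 1, 6, 3]), (8388649, [0, 6, 1, 5]), (8388675, [2, 5]),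
  (8388677, [6, 1, 6]), (8388739, [2, 2, 0]), (8388741, [0, 5, 1, 6, 3]), (8388801, [0, 7, 1, 5]),
  (8388867, [0, 0, 4, 0]), (8388869, [7, 3]), (8389123, [1, 5, 1, 1]), (8389125, [2, 1, 6, 1]),
  (8389635, [1, 6, 6]), (8389637, [6, 5, 1, 4]), (8390145, [5, 6]), (8390659, [5, 0]),
  (8390661, [7, 1, 2, 0]), (8390913, [0, 3, 0, 6]), (8392707, [3, 5, 3, 0]), (8392709, [0, 4, 7, 0, 6]),
  (8392961, [7, 1, 1]), (8394753, [3, 6]), (8396803, [4, 4, 0]), (8396805, [7, 0, 0, 5]),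
  (8396817, [1, 6]), (8404995, [2, 0, 3]), (8404997, [5, 0, 6, 1]), (8405001, [0, 2, 0, 7]),
  (8405025, [0, 4, 2, 7]), (8421379, [1, 3, 5, 3]), (8421381, [7, 0, 3, 5]), (8421889, [7, 4, 2]),
  (8422401, [3, 7]), (8454147, [0, 0, 0]), (8454149, [3, 6, 1]), (8454161, [5, 0, 3, 6]),
  (8462337, [6, 2, 7, 5]), (8519683, [2, 7, 7, 0]), (8519685, [0, 3, 6, 3]), (8519689, [0, 6, 1, 3]),
  (8519713, [2, 0, 6]), (8536065, [0, 2, 6]), (8650755, [1, 2]), (8650757, [1, 7, 1]),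
  (8651009, [7, 0, 6, 0]), (8652801, [6, 1, 4]), (8654849, [0, 0, 7]), (8912899, [0, 0, 5, 0]),
  (8912901, [0, 7, 1]), (8912961, [0, 5, 1, 7]), (8913025, [6, 0, 7, 2]), (9437187, [1, 1, 2, 5]),
  (9437189, [5, 6, 3]), (9437697, [1, 1, 3, 1, 6]), (9438209, [0, 3, 0, 7]), (9469953, [0, 0, 0, 6]),
  (10485763, [4, 0]), (10485765, [0, 5, 6, 1]), (10485825, [1, 4, 0, 6]), (10485889, [1, 1, 2, 7]),
  (11010049, [6, 0, 6, 5]), (12582915, [1, 4, 4, 1]), (12582917, [0, 3, 0, 6, 1]), (12582929, [6, 4, 1]),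
  (12591105, [7, 3, 1]), (12648449, [7, 1, 2])]

def sB3 : ℕ := 57

def sS3 : List ℕ := [57, 133760, 541952, 2162754, 5275652, 8663040]

def sC3 : List ((ℕ) × List ℕ) := [
  (57, []), (89, [1, 2, 7, 1]), (105, [3, 4]), (113, [6, 0, 4, 6]),
  (169, [0, 0, 5, 1, 3]), (177, [3, 0, 2, 7]), (201, [1, 1, 4]), (209, [6, 0, 7]),
  (225, [2, 0, 4]), (281, [1, 3, 7]), (297, [0, 7, 3, 7]), (305, [6, 0, 6, 0]),
  (329, [1, 4, 6, 0]), (353, [1, 7, 3, 5]), (393, [0, 6, 5, 0, 0]), (401, [1, 2, 7]),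
  (417, [1, 1, 7, 5]), (449, [1, 6]), (537, [2, 1, 1, 4]), (553, [5, 0, 6, 0]),
  (593, [0, 0, 0, 5, 1]), (609, [2, 1, 1, 1]), (649, [0, 0, 0]), (657, [1, 1, 7]),
  (673, [0, 6, 1, 2, 6]), (705, [1, 2, 0, 6]), (777, [7, 1, 4, 2]), (785, [1, 4, 6]),
  (801, [0, 7, 5, 1]), (833, [1, 3, 4, 7]), (1065, [2, 4, 1]), (1073, [3, 0, 0, 7]),
  (1097, [7, 3, 6, 0]), (1105, [6, 0, 2, 7]), (1121, [5, 0, 2, 1]), (1185, [2, 1, 7, 3]),
  (1217, [1, 2, 1, 3]), (1289, [1, 1]), (1297, [0, 5, 0, 0, 4]), (1345, [1, 3, 5, 7]),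
  (1409, [2, 5, 1, 6]), (1545, [1, 3, 4, 1]), (1553, [3, 0, 4, 6]), (1569, [2, 1, 6, 4]),
  (1601, [0, 0, 2, 4]), (1665, [6, 5, 1, 6]), (1793, [7, 1, 6]), (2073, [7, 2, 1]),
  (2089, [0, 2, 0, 6, 0]), (2097, [1, 3, 4, 0]), (2129, [1, 7, 7, 0]), (2145, [1, 1, 4, 2, 7]),
  (2185, [1, 2, 4, 0, 2]), (2193, [1, 1, 4, 6, 2]), (2241, [2, 1, 3, 0, 6]), (2313, [0, 0, 3, 1]),
  (2321, [0, 4, 4, 0, 7]), (2337, [1, 7, 1, 5]), (2369, [1, 2, 4, 7]), (2433, [0, 4, 0, 2, 5]),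
  (2577, [1, 1, 1]), (2593, [0, 0, 0, 4, 2]), (2689, [0, 0, 3, 4, 0]), (2817, [7, 1, 1, 7]),
  (3081, [6, 0]), (3089, [6, 1, 7]), (3105, [0, 6, 0, 6, 3]), (3137, [6, 5, 7]),
  (3201, [4, 0, 3, 6]), (3329, [7, 5]), (3585, [0, 5, 1, 5]), (4137, [0, 6, 0, 5]),
  (4145, [3, 5, 1]), (4169, [6, 0, 4, 1]), (4177, [6, 0, 3, 7]), (4257, [5, 1, 4, 2]),
  (4289, [0, 0, 3, 6]), (4361, [1, 2, 6, 1, 5]), (4369, [3, 6, 0, 7]), (4385, [7, 1, 3, 4]),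
  (4417, [1, 7, 3, 4]), (4481, [7, 0, 0, 4]), (4617, [0, 5, 1, 1]), (4625, [4, 4]),
  (4641, [0, 6, 0, 4]), (4673, [3, 5]), (4737, [4, 0, 2]), (4865, [0, 7, 4, 6]),
  (5153, [7, 4, 1]), (5185, [1, 1, 2, 4, 2]), (5377, [0, 0, 3, 6, 0]), (5633, [1, 2, 7, 7]),
  (6153, [1, 5, 1, 6, 5]), (6161, [3, 0, 7]), (6177, [5, 1, 4, 0]), (6209, [1, 5, 3, 0, 4]),
  (6273, [6, 0, 7, 1, 5]), (6657, [0, 0, 6, 0]), (7169, [1, 6, 4]), (8217, [5, 0, 2, 5]),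
  (8233, [4, 0, 5]), (8241, [0, 0, 4, 6]), (8265, [7, 1, 6, 2]), (8273, [1, 1, 6, 1, 1]),
  (8329, [0, 7, 1, 3, 6]), (8337, [0, 3, 1, 1, 7]), (8353, [6, 5, 1, 5, 6]), (8385, [0, 3, 1, 6]),
  (8457, [1, 2, 1, 6, 4]), (8465, [1, 4, 0]), (8481, [1, 2, 0]), (8513, [1, 4, 2, 7]),
  (8713, [1, 7, 7, 1]), (8721, [0, 0, 2, 2]), (8737, [5, 1]), (8769, [2, 7, 1, 3]),
  (9225, [1, 3, 6, 4]), (9233, [7]), (9249, [1, 3, 6, 2]), (9281, [0, 3]),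
  (9345, [0, 2, 0]), (9473, [0, 6, 4]), (9729, [0, 7, 0, 7]), (10249, [1, 6, 1, 2]),
  (10257, [2]), (10273, [7, 7, 1, 7]), (10305, [7, 7]), (10369, [0, 5, 1, 1, 7]),
  (10497, [0, 6, 4, 7]), (10753, [1, 3]), (12297, [0, 3, 0, 5]), (12305, [0, 0, 2, 1, 7]),
  (12417, [0, 4, 1, 3]), (12545, [2, 0, 7, 4]), (12801, [1, 4, 6, 6]), (13313, [0, 7, 0, 3]),
  (14337, [1, 4, 2, 4]), (16409, [0, 3, 0, 7]), (16433, [0, 5, 6, 0, 7]), (16457, [2, 1, 4, 7]),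
  (16481, [7, 4, 1, 6]), (16521, [2, 1, 3, 0]), (16529, [2, 1, 3, 7]), (16545, [4, 0, 2, 1, 5]),
  (16577, [0, 0, 0, 6]), (16649, [0, 0, 0, 6, 1]), (16673, [0, 4, 0, 0, 4]), (16769, [1, 2, 4, 0]),
  (16905, [2, 1, 1]), (16913, [0, 0, 0, 4, 6]), (16929, [0, 0, 6, 5]), (16961, [0, 3, 0, 4, 7]),
  (17025, [0, 0, 3]), (17153, [0, 6, 0, 7, 1]), (17417, [2, 7, 1, 6]), (17425, [2, 1, 7]),
  (17441, [4, 1, 7]), (17473, [0, 3, 0, 5, 7]), (17537, [3, 0, 4]), (17665, [0, 0, 5, 0, 2]),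
  (17921, [5, 0, 4]), (18441, [3, 0, 4, 1]), (18449, [7, 4, 1, 7]), (18465, [2, 0, 5, 3]),
  (18497, [2, 1, 3, 4, 7]), (18561, [0, 4, 0, 4]), (18689, [0, 4, 1, 5, 3]), (18945, [5, 0, 6, 3]),
  (20489, [0, 0, 6, 4]), (20497, [0, 0, 0, 7]), (20513, [0, 0, 6, 2]), (20545, [0, 0, 6, 1, 6]),
  (20609, [0, 0, 7, 0, 4]), (20737, [0, 4, 0, 0, 5]), (21505, [3, 5, 7, 0]), (22529, [1, 2, 0, 7, 5]),
  (24585, [1, 3, 1, 4]), (24593, [0, 0, 0, 5, 6]), (24609, [2, 7, 1, 7]), (24641, [5, 1, 5, 1]),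
  (24705, [1, 1, 7, 1, 3]), (24833, [0, 4, 1, 2, 4]), (25089, [5, 0, 2]), (28673, [0, 6, 1, 1]),
  (32793, [1, 3, 1]), (32809, [5, 6, 1, 7]), (32817, [1, 1, 2]), (32841, [0, 6, 6, 0]),
  (32849, [7, 4, 0, 6]), (32905, [7, 0, 2]), (32913, [7, 5, 7]), (32929, [7, 0, 4]),
  (32961, [6, 2, 6]), (33041, [0, 4, 4, 1, 7]), (33057, [2, 0, 6, 3]), (33089, [1, 7, 7, 7]),
  (33153, [0]), (33289, [0, 3, 0, 7, 5]), (33297, [5, 0, 2, 4]), (33313, [0, 3, 0, 4]),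
  (33345, [0, 0, 0, 4, 1]), (33409, [0, 0, 3, 4, 1]), (33537, [1, 2, 1, 6, 5]), (33801, [0, 6, 1, 7, 3]),
  (33809, [1, 1, 2, 7]), (33825, [5, 1, 5, 6]), (33857, [1, 5, 0, 0]), (33921, [4, 0, 7, 7]),
  (34049, [7, 3, 1, 5]), (34825, [5, 1, 2]), (34849, [2, 1, 6, 6]), (34881, [3, 0]),
  (34945, [4, 0, 4, 7]), (35073, [5, 0, 3, 6]), (35329, [2, 1, 5]), (35841, [2, 4, 1, 6]),
  (36873, [5, 1, 4, 4]), (36881, [0, 0, 3, 7]), (36993, [6, 0, 3, 5]), (37121, [1, 2, 0, 4, 4]),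
  (37377, [4, 0, 4]), (37889, [0, 6, 1, 5]), (38913, [0, 0, 7, 2, 1]), (40969, [0, 4, 0, 0, 7]),
  (40977, [5, 1, 1]), (41089, [0, 6, 5, 0]), (41217, [7, 1, 3]), (41473, [0, 0, 0, 6, 3]),
  (41985, [1, 2, 4]), (43009, [4, 1, 5, 1]), (49161, [0, 0, 6, 5, 0]), (49169, [5, 0, 4, 0]),
  (49185, [0, 2, 0, 0, 4]), (49217, [2, 1, 7, 3, 5]), (49409, [0, 0, 5, 0, 3]), (49665, [1, 3, 1, 5]),
  (50177, [1, 2, 6, 5, 0]), (51201, [0, 6, 5, 1]), (53249, [0, 7, 2, 0]), (57345, [3, 0, 2]),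
  (65561, [5, 1, 2, 0]), (65577, [6, 0, 7, 2]), (65585, [1, 1, 4, 6]), (65609, [1, 1, 5, 7]),
  (65617, [6, 0, 5, 7]), (65633, [3, 5, 7, 0, 6]), (65673, [3, 5, 0, 7, 3]), (65681, [5, 0, 3, 5]),
  (65729, [7, 1, 7, 4]), (65809, [0, 2, 0, 5, 6]), (65825, [7, 1, 1, 5]), (65857, [1, 2, 5, 7]),
  (65921, [1, 5, 3, 0]), (66057, [2, 4, 1, 2]), (66065, [7, 3, 6]), (66081, [2, 0, 5, 0]),
  (66113, [6, 4, 7]), (66177, [0, 6, 0, 6]), (66305, [6, 1]), (66569, [0, 6, 3, 7, 1]),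
  (66577, [0, 3, 1]), (66593, [1, 5, 1, 2]), (66689, [0, 0, 0, 4]), (66817, [2, 0, 6, 2]),
  (67073, [1, 7, 4]), (67593, [0, 6, 1, 6, 2]), (67601, [2, 7, 1, 5]), (67649, [0, 0, 3, 5]),
  (67841, [7, 1, 3, 7]), (68097, [0, 2, 0, 6, 3]), (68609, [1, 2, 6, 2, 7]), (69641, [2, 6, 1]),
  (69649, [5, 6]), (69665, [1, 6, 6]), (69697, [3, 5, 7]), (69761, [7, 0, 4, 7]),
  (69889, [0, 7, 2]), (70657, [0, 7, 0]), (71681, [0, 7, 0, 7, 4]), (73737, [1, 5, 1, 4]),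
  (73761, [1, 7, 4, 1]), (73793, [7, 1, 4, 1]), (73857, [5, 1, 4, 7]), (73985, [7, 3, 6, 1]),
  (74241, [1, 7, 2]), (74753, [2, 0, 6, 0]), (75777, [1, 5]), (77825, [4, 1, 1]),
  (81929, [7, 1, 1]), (81937, [2, 1, 5, 6]), (81953, [3, 4, 0, 7]), (81985, [1, 1, 6, 1]),
  (82049, [0, 0, 5]), (82177, [6, 5, 1, 4]), (82945, [1, 2, 0, 4]), (83969, [1, 2, 0, 6, 5]),
  (90113, [0, 3, 1, 1]), (98321, [7, 1, 7, 2]), (98337, [5, 1, 7]), (98369, [1, 7, 2, 1, 7]),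
  (98433, [0, 6, 0, 6, 2]), (98817, [0, 6, 0, 7, 3]), (99329, [3, 5, 0, 7]), (100353, [2, 1, 7, 2]),
  (102401, [1, 7, 4, 6]), (106497, [2, 1, 3]), (114689, [2, 0]), (131097, [0, 7]),
  (131121, [3, 4, 6]), (131145, [0, 2, 5, 7]), (131153, [0, 3, 7, 0, 6]), (131169, [7, 7, 7]),
  (131209, [1, 2, 7, 3, 7]), (131217, [4, 1, 6, 5]), (131233, [4, 1, 1, 6]), (131265, [2, 1, 1, 6]),
  (131337, [5, 6, 5]), (131345, [1, 6, 6, 1]), (131361, [0, 7, 3]), (131393, [1, 4, 4, 6]),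
  (131593, [4, 0, 2, 2]), (131601, [0, 7, 0, 2, 1]), (131617, [2, 7, 5, 1]), (131649, [1, 1, 1, 6, 3]),
  (132105, [3, 0, 0, 0, 4]), (132113, [0, 0, 2, 7]), (132129, [1, 3, 7, 5]), (132225, [0, 2, 5, 6, 0]),
  (132353, [2, 2, 6, 0]), (132609, [0, 0, 5, 0, 2, 6]), (133129, [6, 0, 5]), (133153, [1, 2, 6, 4]),
  (133185, [0, 0, 4, 7]), (133249, [1, 7, 5, 1, 4]), (133377, [2, 4, 4, 1]), (133633, [6, 5, 1]),
  (134145, [7, 4, 0, 4]), (135177, [2, 4, 1, 5]), (135185, [0, 3, 1, 7]), (135201, [0, 0, 5, 1]),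
  (135233, [1, 2, 0, 5, 7]), (135297, [0, 6, 1, 6, 5]), (135425, [1, 6, 0]), (135681, [6, 0, 7, 5]),
  (136193, [0, 0, 4, 0, 2]), (137217, [1, 7, 1, 5, 1]), (139273, [0, 6, 0, 7, 4]), (139281, [0, 3, 1, 5, 6]),
  (139297, [1, 7, 3, 7]), (139329, [4, 0, 2, 1]), (140289, [0, 6, 4, 6, 0]), (141313, [0, 7, 3, 1]),
  (143361, [1, 4, 2, 0]), (147473, [1, 3, 5, 0, 3]), (147521, [0, 0, 0, 5, 7]), (147585, [0, 4, 0, 6, 1]),
  (147713, [6, 5, 1, 5]), (147969, [1, 6, 0, 4]), (148481, [0, 0, 5, 7, 0]), (149505, [0, 4, 0, 7, 3]),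
  (151553, [1, 2, 5, 7, 0]), (155649, [2, 0, 4, 4]), (163849, [0, 4, 1, 1]), (163873, [3, 0, 5, 0]),
  (163905, [7, 5, 0, 4]), (163969, [0, 4, 2, 0]), (164097, [4, 0, 2, 2, 1]), (164353, [1, 5, 1, 5]),
  (164865, [1, 4, 7, 4, 0]), (167937, [0, 0, 4, 0, 3]), (172033, [0, 5, 6, 0]), (180225, [5, 0, 6, 4]),
  (196617, [2, 5, 0, 7]), (196625, [6, 2, 0, 4]), (196641, [7, 0, 7]), (196737, [4, 1, 1, 6, 0]),
  (196865, [7, 1, 5, 3]), (197121, [2, 5, 0, 2]), (198657, [5, 1, 2, 5]), (200705, [0, 7, 0, 7, 0]),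
  (204801, [1, 4, 4, 0]), (212993, [0, 0, 6, 3]), (229377, [0, 5, 6, 0, 2]), (262169, [1, 2, 1, 7]),
  (262185, [1, 3, 6, 6]), (262217, [0, 0, 2, 5]), (262225, [6, 0, 2, 5, 7]), (262241, [7, 0, 0]),
  (262281, [0, 2, 0, 5]), (262289, [3]), (262305, [1, 3, 4, 2]), (262337, [5]),
  (262409, [1, 3, 7, 1, 1]), (262417, [0, 5, 0, 0, 5]), (262433, [1, 6, 0, 7]), (262465, [4, 4, 0, 6]),
  (262529, [0, 6, 3, 6]), (262665, [3, 5, 0, 4]), (262721, [3, 4, 0, 2]), (262785, [0, 6, 5, 0, 3]),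
  (262913, [3, 0, 0]), (263177, [1, 5, 1, 6]), (263185, [1, 3, 1, 7]), (263201, [0, 3, 0]),
  (263297, [2, 4, 6, 0, 3]), (263425, [7, 1, 2]), (263681, [3, 5, 0, 2, 4]), (264201, [1, 1, 1, 7, 1]),
  (264209, [0, 6, 5, 1, 1]), (264225, [5, 1, 3, 6]), (264257, [0, 0, 2, 1]), (264321, [1, 2, 7, 1, 5]),
  (264705, [1, 1, 7, 0, 0]), (265217, [0, 7, 3, 1, 7]), (266249, [2, 1, 6, 5]), (266257, [7, 1, 6, 5]),
  (266273, [0, 3, 7, 0, 0]), (266305, [2, 2, 6, 0, 6]), (266369, [0, 0, 7, 1]), (266753, [0, 0, 7, 0, 0]),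
  (267265, [7, 4, 1, 3]), (270353, [6, 2, 1, 5]), (270369, [0, 6, 1, 4]), (270401, [2, 1, 6, 1]),
  (270465, [6, 0, 6, 2]), (270593, [1, 4, 6, 1]), (270849, [1, 3, 7, 1, 3]), (271361, [1, 4, 2]),
  (272385, [6, 0, 6, 3]), (274433, [5, 1, 7, 4]), (278537, [1, 4, 1]), (278545, [0, 2, 0, 5, 1]),
  (278561, [7, 5, 1]), (278593, [2, 1, 5, 7]), (278785, [0, 6, 1, 2, 5]), (279041, [1, 3, 6, 1]),
  (279553, [1, 2, 1]), (280577, [7, 3, 1]), (282625, [3, 0, 7, 2]), (286721, [0, 6, 1, 7, 0]),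
  (294921, [0, 7, 0, 5, 7]), (294929, [2, 4, 6]), (294945, [3, 4, 1]), (294977, [0, 2]),
  (295169, [0, 6, 5]), (295425, [1, 2, 7, 2]), (295937, [0, 2, 0, 5, 3]), (296961, [1]),
  (299009, [0, 5, 0, 0]), (303105, [1, 2, 5]), (327689, [0, 6, 1, 7]), (327697, [1, 4, 7, 0]),
  (327713, [0, 5, 1, 5, 1]), (327809, [2, 1, 7, 0]), (327937, [5, 0, 7]), (328193, [6, 0, 2]),
  (329729, [0, 4, 1, 7, 4]), (331777, [1, 3, 7, 4]), (335873, [2, 1, 7, 5, 7]), (344065, [6, 1, 7, 1]),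
  (360449, [1, 3, 6, 3]), (393225, [1, 7, 5]), (393233, [7, 4, 1, 1]), (393249, [4, 0, 6, 0]),
  (393345, [1, 5, 3, 5]), (393473, [0, 0, 3, 6, 3]), (393729, [0, 4, 0, 0]), (395265, [0, 4, 1, 2]),
  (397313, [0, 7, 1, 6, 3]), (401409, [0, 7, 1, 7, 5]), (409601, [1, 2, 0, 5]), (425985, [0, 7, 0, 2]),
  (524313, [0, 0, 2, 0, 7]), (524329, [4, 0, 0, 3]), (524361, [2, 5, 1, 2]), (524369, [0, 3, 7, 0, 7]),
  (524385, [4, 1]), (524425, [3, 0, 7, 1]), (524433, [0, 0, 7]), (524449, [5, 1, 4]),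
  (524561, [0, 2, 0, 4, 6]), (524577, [7, 0, 0, 5]), (524609, [1, 5, 3, 7]), (524673, [7, 1, 6, 6]),
  (524809, [0, 0, 0, 4, 4]), (524865, [1, 1, 5]), (524929, [0, 0, 6, 1]), (525057, [0, 0, 7, 0]),
  (525321, [0, 7, 2, 0, 0]), (525329, [0, 3, 7]), (525345, [1, 6, 1, 4]), (525377, [4]),
  (525441, [0, 4, 0, 7, 1]), (525569, [1, 7, 0, 5]), (525825, [0, 2, 0, 4]), (526345, [1, 2, 7, 5]),
  (526353, [0, 5]), (526369, [1, 6, 2, 7]), (526401, [2, 6]), (526465, [1, 3, 5]),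
  (526593, [6, 4, 6, 3]), (526849, [1, 4, 1, 5, 0]), (528393, [0, 4, 0, 0, 6]), (528401, [2, 1, 1, 7]),
  (528417, [1, 5, 1, 5, 6]), (528449, [2, 0, 5]), (528513, [5, 1, 5]), (528641, [1, 1, 7, 4]),
  (528897, [0, 0, 4, 2, 0]), (529409, [1, 2, 5, 3]), (530433, [4, 1, 1, 7]), (532489, [0, 0, 0, 7, 1]),
  (532497, [0, 2, 5, 6]), (532513, [6, 0, 3, 4]), (532545, [0, 6]), (532609, [3, 5, 1, 1]),
  (532737, [0, 4, 4]), (532993, [1, 3, 4, 6, 2]), (536577, [1, 6, 2]), (540681, [0, 0, 3, 4, 4]),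
  (540689, [2, 1, 4, 6]), (540705, [0, 0, 7, 0, 5]), (540737, [0, 3, 0, 6]), (540801, [1, 3, 1, 7, 4]),
  (540929, [0, 2, 5, 0, 4]), (541185, [1, 1, 7, 0, 5]), (544769, [5, 1, 7, 1]), (557073, [5, 0, 7, 4, 6]),
  (557089, [0, 2, 5, 0]), (557121, [1, 1, 1, 6]), (557185, [4, 0, 6, 2]), (557569, [3, 5, 0, 6, 4]),
  (558081, [1, 6, 2, 7, 0]), (559105, [1, 2, 4, 2, 5]), (561153, [5, 1, 5, 1, 1]), (565249, [1, 6, 1, 4, 2]),
  (573441, [0, 4, 0, 2]), (589841, [4, 1, 6, 4]), (589857, [1, 7, 5, 1]), (589889, [1, 2, 1, 6]),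
  (589953, [2, 1, 7, 4]), (590337, [7, 1, 5, 1]), (590849, [1, 4, 4, 2]), (591873, [0, 7, 0, 4, 6]),
  (593921, [1, 3, 7, 0]), (598017, [0, 5, 1, 3]), (606209, [4, 0, 0, 0]), (655369, [0, 0, 3, 4, 1, 2]),
  (655377, [1, 4, 1, 2]), (655393, [1, 5, 0]), (655425, [7, 1, 7, 5]), (655489, [2, 1, 7, 5]),
  (655617, [1, 2, 1, 7, 3]), (655873, [3, 5, 0, 2, 6]), (656385, [0, 6, 5, 0, 4]), (657409, [1, 4, 0, 2]),
  (663553, [0, 6, 0, 6, 5]), (671745, [0, 0, 4]), (688129, [5, 1, 7, 3]), (720897, [0, 4, 1, 7, 0]),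
  (786441, [1, 3, 5, 1, 4]), (786497, [0, 0, 2, 2, 6]), (786561, [2, 4, 6, 0, 5]), (786689, [5, 0, 3, 7, 3]),
  (787457, [5, 6, 0, 0]), (788481, [4, 4, 0, 0]), (790529, [0, 3, 0, 4, 1]), (794625, [4, 0, 0, 3, 6]),
  (802817, [3, 0, 5]), (819201, [4, 4, 0]), (851969, [0, 0, 3, 6, 1]), (917505, [0, 0, 0, 5]),
  (1048601, [1, 4, 2, 6]), (1048617, [0, 6, 4, 6]), (1048625, [1, 2, 4, 6]), (1048649, [7, 5, 6, 0]),
  (1048673, [1, 5, 0, 4]), (1048713, [0, 0, 5, 6, 3]), (1048721, [1, 6, 2, 5]), (1048769, [3, 6, 0, 6]),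
  (1048841, [6, 5, 0, 4]), (1048865, [6, 5, 0, 2]), (1048961, [0, 6, 0, 4, 2]), (1049097, [0, 0, 2, 7, 1]),
  (1049105, [4, 4, 0, 7]), (1049121, [7, 1, 4, 4]), (1049153, [0, 4, 0, 0, 0]), (1049217, [0, 2, 5, 0, 0]),
  (1049345, [3, 4, 6, 1]), (1049609, [7, 5, 1, 4]), (1049617, [0, 5, 1]), (1049633, [0, 6, 0, 4, 0]),
  (1049665, [1, 2, 4, 4, 6]), (1049729, [1, 1, 6, 3, 7]), (1049857, [0, 6, 0, 3, 0]), (1050633, [3, 4, 6, 0]),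
  (1050641, [1, 6, 4, 2]), (1050689, [1, 2, 7, 4, 2]), (1050881, [1, 1, 5, 0]), (1051137, [1, 1, 7, 1, 7]),
  (1051649, [0, 4, 2]), (1052681, [7, 1]), (1052689, [1, 7]), (1052705, [2, 5, 1, 7]),
  (1052737, [1, 1, 4, 1]), (1052801, [1, 1, 7, 0]), (1052929, [0, 0, 4, 6, 1]), (1053185, [0, 6, 3, 7]),
  (1053697, [4, 1, 5]), (1054721, [1, 1, 7, 2]), (1056785, [1, 6, 3, 5]), (1056801, [0, 3, 1, 4]),
  (1056833, [0, 5, 0, 0, 2]), (1056897, [0, 4, 0]), (1057025, [0, 6, 0]), (1057281, [1, 1, 6, 4]),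
  (1057793, [0, 6, 2]), (1058817, [0, 6, 2, 6, 2]), (1060865, [2, 0, 7, 0]), (1064969, [0, 4, 0, 0, 2]),
  (1064993, [6, 5, 1, 3]), (1065089, [0, 0, 5, 6, 0]), (1065473, [1, 2, 1, 6, 1]), (1065985, [0, 4, 1, 2, 2]),
  (1067009, [0, 2, 5, 0, 2]), (1069057, [4, 4, 7, 0]), (1073153, [0, 0, 5, 0, 4]), (1081353, [1, 1, 6, 5]),
  (1081361, [1, 6, 3, 4]), (1081377, [0, 4, 2, 0, 0]), (1081409, [0, 0, 6, 0, 6]), (1081473, [0, 2, 5]),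
  (1081601, [0, 6, 0, 4, 4]), (1083393, [7, 1, 5]), (1085441, [0, 3, 1, 5]), (1089537, [0, 5, 1, 3, 0]),
  (1097729, [0, 4, 1]), (1114121, [0, 0, 7, 0, 7]), (1114129, [1, 5, 0, 6, 4]), (1114177, [1, 3, 4, 4, 6]),
  (1114369, [6, 5, 0, 3]), (1114625, [6, 5]), (1115137, [0, 4, 0, 7]), (1118209, [0, 7, 4]),
  (1122305, [2, 0, 6, 4]), (1130497, [6, 5, 1, 2]), (1146881, [6, 4, 0, 7]), (1179657, [6, 4]),
  (1179665, [1, 5, 3, 6]), (1179681, [0, 7, 5]), (1179713, [1, 5, 7]), (1179777, [1, 1, 7, 3]),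
  (1179905, [2, 4, 6, 0]), (1180161, [6, 4, 7, 1]), (1180673, [1, 1, 1, 4]), (1181697, [1, 7, 2, 1]),
  (1187841, [2, 7, 1]), (1196033, [1, 7, 4, 1, 5]), (1212417, [2, 0, 6, 5]), (1245185, [2, 5, 1, 6, 2]),
  (1310737, [1, 3, 4, 6]), (1310753, [0, 5, 0]), (1310785, [0, 2, 0, 5, 7]), (1310849, [5, 6, 0, 4]),
  (1310977, [0, 5, 1, 1, 2]), (1311233, [1, 1, 5, 1]), (1311745, [1, 4, 1, 6]), (1312769, [0, 4, 0, 2, 2]),
  (1314817, [1, 7, 1, 2]), (1327105, [0, 6, 1]), (1343489, [0, 6, 3]), (1376257, [1, 1, 1, 5]),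
  (1441793, [6, 4, 0, 2]), (1572873, [1, 7, 1, 1]), (1572881, [7, 0]), (1572897, [6, 2, 6, 0]),
  (1572929, [1, 3, 6]), (1572993, [0, 7, 5, 1, 2]), (1573121, [7, 1, 1, 1]), (1573377, [0, 0, 4, 6, 3]),
  (1573889, [0, 6, 2, 7]), (1574913, [1, 7, 3, 1]), (1581057, [7, 3]), (1589249, [2, 0, 7, 1]),
  (1605633, [1, 1, 7, 1]), (1638401, [7, 1, 4, 7]), (1835009, [1, 7, 0, 0]), (2097177, [1, 1, 1, 7]),
  (2097193, [0, 5, 1, 1, 6]), (2097201, [1, 5, 0, 0, 5]), (2097225, [0, 3, 1, 1, 6]), (2097233, [6, 0, 6]),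
  (2097249, [6, 2, 1]), (2097289, [0, 0, 2, 4, 1]), (2097297, [2, 0, 7]), (2097313, [0, 4, 1, 7]),
  (2097417, [0, 4, 0, 6, 6]), (2097425, [1, 5, 0, 3]), (2097473, [1, 7, 2, 5]), (2097537, [0, 2, 0, 0]),
  (2097673, [1, 6, 0, 0]), (2097681, [4, 4, 7]), (2097697, [3, 6, 0, 2]), (2097729, [3, 6]),
  (2097793, [1, 5, 7, 2]), (2097921, [5, 0, 0]), (2098185, [0, 4, 1, 6, 4]), (2098193, [2, 0, 3]),
  (2098241, [1, 5, 7, 1]), (2098305, [5, 1, 3]), (2098689, [1, 1, 6, 0, 4]), (2099209, [4, 0, 7, 0]),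
  (2099233, [5, 1, 5, 7]), (2099265, [6, 4, 1]), (2099329, [0, 4, 1, 5]), (2099457, [5, 1, 3, 0]),
  (2099713, [3, 4, 1, 3]), (2100225, [7, 0, 3]), (2101257, [4, 0, 2, 5]), (2101265, [6, 2, 7]),
  (2101281, [4, 0, 0]), (2101313, [7, 5, 6]), (2101377, [1, 2, 7, 1, 7]), (2101505, [2, 7, 5]),
  (2102273, [1, 4, 0, 5, 6]), (2103297, [0, 5, 0, 0, 6]), (2105361, [3, 0, 5, 6]), (2105377, [0, 4, 1, 6, 2]),
  (2105409, [0, 0, 4, 2]), (2105473, [0, 6, 1, 7, 4]), (2105601, [7, 1, 2, 7]), (2105857, [0, 7, 0, 3, 6]),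
  (2106369, [1, 1, 6, 0]), (2107393, [1, 2, 4, 2]), (2109441, [7, 0, 7, 0]), (2113545, [4, 1, 2, 7]),
  (2113553, [0, 6, 1, 7, 1]), (2113569, [1, 5, 7, 0]), (2113601, [2, 1, 3, 6]), (2113665, [2, 0, 6, 0, 0]),
  (2113793, [0, 4, 1, 7, 7]), (2114561, [2, 4, 0, 0]), (2115585, [3, 6, 0, 0]), (2121729, [1, 2, 0, 7, 3]),
  (2129929, [1, 1, 5, 6, 0]), (2129953, [0, 0, 4, 0, 5]), (2129985, [2, 0, 6]), (2130049, [3, 0, 0, 0]),
  (2130177, [0, 0, 2, 0]), (2130433, [1, 5, 7, 4]), (2130945, [0, 4, 1, 6]), (2134017, [0, 3, 7, 0]),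
  (2138113, [1, 7, 5, 0, 6]), (2146305, [6, 4, 0]), (2162697, [0, 6, 0, 3, 7]), (2162705, [2, 2]),
  (2162721, [6, 0, 7, 3]), (2162753, [2, 4]), (2162817, [4, 0, 7]), (2162945, [1, 7, 0]),
  (2163713, [3, 6, 0]), (2164737, [1, 2, 6, 6]), (2170881, [1, 7, 7, 3]), (2195457, [5, 0, 0, 0]),
  (2228233, [2, 1, 4, 1]), (2228257, [0, 0, 6, 3, 1]), (2228289, [0, 0, 6]), (2228353, [0, 7, 1, 4, 4]),
  (2228481, [1, 3, 4, 6, 0]), (2228737, [0, 0, 6, 0, 2]), (2229249, [2, 5, 1, 1, 1]), (2232321, [4, 0, 3, 4]),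
  (2236417, [1, 3, 5, 0]), (2244609, [3, 5, 1, 3]), (2293761, [1, 4, 1, 6, 1]), (2359313, [1, 2, 7, 0]),
  (2359329, [0, 0, 4, 1]), (2359361, [1, 1, 6]), (2359425, [1, 6, 1, 3]), (2359553, [0, 6, 6, 0, 4]),
  (2359809, [1, 4, 6, 3]), (2360321, [0, 4, 1, 2, 7]), (2361345, [0, 7, 1, 6]), (2363393, [2, 1, 4, 6, 1]),
  (2375681, [2, 0, 7, 7]), (2392065, [1, 2, 4, 1]), (2424833, [4, 0, 0, 4]), (2490369, [2, 1, 4, 2]),
  (2621449, [3, 5, 0, 4, 6]), (2621457, [6, 0, 4, 0]), (2621473, [1, 7, 0, 7, 1]), (2621697, [4, 1, 3]),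
  (2621953, [0, 7, 0, 2, 5]), (2622465, [1, 2, 4, 4]), (2623489, [0, 7, 0, 5]), (2625537, [1, 2, 5, 7, 2]),
  (2629633, [0, 7, 5, 0, 7]), (2637825, [0, 0, 3, 1, 4]), (2654209, [0, 6, 1, 3]), (2686977, [1, 4, 7, 7]),
  (2752513, [2, 1, 3, 4]), (2883585, [7, 4, 1, 5]), (3145745, [1, 6, 6, 6]), (3145761, [1, 2, 6, 3, 1]),
  (3145793, [1, 2, 6]), (3145857, [1, 1, 2, 4]), (3145985, [5, 6, 0, 0, 2]), (3146241, [1, 7, 0, 7]),
  (3146753, [7, 1, 3, 4, 6]), (3147777, [0, 0, 4, 7, 5]), (3149825, [0, 6, 6]), (3162113, [0, 2, 5, 7, 0]),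
  (3178497, [0, 0, 5, 6, 1]), (3211265, [5, 6, 0]), (3276801, [7, 1, 2, 1]), (3670017, [1, 1, 4, 0]),
  (4194329, [1, 1, 1, 4, 4]), (4194345, [1, 4, 0, 6]), (4194353, [5, 1, 1, 6]), (4194385, [6, 0, 5, 6]),
  (4194401, [3, 0, 4, 7]), (4194441, [4, 1, 1, 2]), (4194449, [0, 4]), (4194465, [2, 2, 4, 0, 6]),
  (4194497, [2, 2, 6]), (4194569, [4, 1, 2]), (4194577, [1, 3, 6, 3, 5]), (4194625, [7, 0, 3, 5]),
  (4194689, [6, 4, 6, 2]), (4194833, [0, 0, 5, 6]), (4194849, [3, 5, 0, 2]), (4194945, [1, 2, 7, 4]),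
  (4195073, [1, 3, 4, 0, 6]), (4195337, [0, 6, 1, 2]), (4195345, [4, 0, 6, 1]), (4195393, [7, 7, 7, 0]),
  (4195457, [1, 2, 4, 4, 2]), (4195841, [1, 2, 4, 0, 6]), (4196369, [2, 0, 5, 6]), (4196385, [0, 3, 0, 6, 3]),
  (4196481, [0, 2, 0, 4, 2]), (4196609, [1, 1, 7, 3, 7]), (4197377, [3, 0, 5, 1]), (4198409, [2, 1, 5, 3]),
  (4198417, [1, 2, 0, 7]), (4198433, [6, 5, 1, 7]), (4198465, [0, 3, 1, 4, 7]), (4198529, [1, 4, 0, 3]),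
  (4198657, [1, 7, 1, 4]), (4198913, [1, 6, 1, 6]), (4199425, [1, 5, 1]), (4200449, [0, 6, 1, 2, 7]),
  (4202505, [2, 1, 4]), (4202529, [2, 5, 1, 1]), (4202561, [3, 0, 4, 4]), (4202625, [1, 2, 4, 2, 4]),
  (4202753, [1, 2, 6, 1]), (4203009, [0, 7, 1, 3]), (4203521, [1, 4, 4]), (4204545, [3, 4, 6, 1, 3]),
  (4206593, [0, 0, 0, 7, 7]), (4210697, [5, 0, 7, 4]), (4210705, [2, 1, 4, 0]), (4210721, [2, 5, 1]),
  (4210753, [1, 3, 5, 1]), (4210945, [0, 6, 1, 3, 4]), (4211201, [1, 1, 4, 0, 4]), (4211713, [0, 4, 0, 3]),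
  (4212737, [0, 5, 6, 1]), (4214785, [2, 0, 6, 6]), (4218881, [0, 0, 7, 2]), (4227081, [1, 3, 4, 4]),
  (4227089, [2, 4, 4]), (4227105, [0, 4, 4, 1]), (4227137, [2, 2, 4]), (4227329, [5, 0, 0, 7]),
  (4227585, [0, 6, 5, 0, 7]), (4228097, [6, 0, 6, 4]), (4229121, [6, 5, 0]), (4231169, [1, 1, 2, 7, 0]),
  (4235265, [2, 0, 6, 4, 0]), (4259849, [1, 3, 5, 0, 7]), (4259873, [1, 2, 4, 0, 7]), (4259905, [0, 0, 5, 7]),
  (4259969, [1, 4, 7, 4]), (4260097, [6, 4, 1, 5]), (4260353, [6, 0, 4]), (4260865, [1, 7, 7, 1, 6]),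
  (4261889, [0, 7, 1, 5]), (4263937, [1, 2, 6, 5]), (4276225, [0, 6, 4, 6, 1]), (4292609, [1, 6, 1, 7]),
  (4325385, [1, 5, 0, 6]), (4325393, [2, 7, 1, 4]), (4325409, [3, 4, 1, 7]), (4325441, [0, 0, 3, 4]),
  (4325505, [1, 4, 0, 0]), (4325633, [7, 1, 4, 6]), (4325889, [0, 0, 2, 5, 0]), (4326401, [0, 0, 4, 0, 6]),
  (4327425, [0, 7, 1, 4]), (4333569, [0, 0, 0, 6, 4]), (4341761, [2, 1, 5, 0]), (4358145, [1, 4]),
  (4390913, [5, 1, 2, 4]), (4456457, [0, 5, 1, 4]), (4456465, [6, 4, 6]), (4456481, [1, 6, 5]),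
  (4456513, [7, 3, 7]), (4456705, [7, 4]), (4456961, [6, 0, 4, 2]), (4457473, [4, 0, 2, 7]),
  (4458497, [0, 0, 7, 1, 2]), (4460545, [0, 6, 0, 7]), (4464641, [0, 7, 3, 1, 5]), (4521985, [2, 2, 6, 1]),
  (4587521, [1, 6, 3]), (4718601, [0, 0, 4, 1, 3]), (4718609, [1, 1, 5, 6]), (4718625, [0, 4, 1, 7, 3]),
  (4718657, [7, 5, 1, 6]), (4718721, [1, 3, 4]), (4718849, [0, 0, 7, 0, 6]), (4719105, [1, 3, 5, 0, 6]),
  (4719617, [6, 5, 0, 6]), (4720641, [1, 5, 3]), (4726785, [2, 5, 0, 6]), (4734977, [0, 4, 0, 5]),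
  (4751361, [0, 6, 0, 3, 6]), (4784129, [0, 6, 1, 6]), (4980737, [1, 6, 1]), (5242889, [0, 6, 3, 6, 0]),
  (5242897, [1, 2, 5, 6]), (5242913, [7, 1, 7]), (5242945, [1, 4, 7]), (5243009, [5, 6, 0, 6]),
  (5243137, [6, 4, 1, 1]), (5243393, [1, 1, 4, 2]), (5243905, [7, 3, 1, 2]), (5244929, [5, 0, 2, 7]),
  (5251073, [7, 1, 4]), (5259265, [7, 1, 2, 0]), (5275649, [0, 6, 5, 6]), (5308417, [5, 0, 6]),
  (5505025, [7, 2]), (6291465, [5, 1, 4, 6]), (6291473, [1, 1, 6, 3, 4]), (6291521, [1, 4, 1, 5]),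
  (6291585, [1, 4, 0, 5]), (6291969, [1, 2, 6, 3]), (6293505, [1, 4, 4, 0, 3]), (6295553, [0, 0, 4, 1, 1]),
  (6299649, [2, 1, 4, 0, 3]), (6307841, [0, 0, 2, 4, 4]), (6324225, [4, 0, 6]), (6356993, [2, 5, 0, 0]),
  (6422529, [2, 1, 5, 1]), (6553601, [1, 6, 3, 0, 5]), (6815745, [5, 1, 2, 7]), (7340033, [0, 6, 6, 0, 2]),
  (8388633, [2, 7]), (8388657, [2, 4, 0]), (8388681, [6]), (8388689, [6, 0, 2, 6]),
  (8388705, [6, 1, 6]), (8388745, [3, 4, 1, 2]), (8388753, [2, 0, 3, 1]), (8388769, [0, 2, 0, 6, 2]),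
  (8388873, [2, 4, 0, 3]), (8388881, [0, 7, 5, 0, 4]), (8388897, [6, 2]), (8388929, [0, 2, 0, 6]),
  (8388993, [3, 4, 0]), (8389129, [3, 6, 0, 5]), (8389137, [0, 0, 2, 1, 5]), (8389153, [4, 0, 2, 4]),
  (8389185, [3, 6, 0, 0, 6]), (8389249, [0, 7, 1, 7]), (8389377, [1, 5, 7, 0, 4]), (8389641, [1, 6, 4, 6]),
  (8389649, [5, 0, 7, 7]), (8389665, [1, 6, 3, 0]), (8389697, [1, 7, 4, 0]), (8389761, [1, 6, 2, 0]),
  (8389889, [0, 5, 1, 5, 0]), (8390665, [0, 7, 5, 0]), (8390673, [7, 1, 7, 1]), (8390689, [1, 3, 1, 5, 0]),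
  (8390721, [5, 0]), (8390785, [1, 1, 7, 4, 0]), (8391169, [5, 1, 3, 7]), (8391681, [1, 6, 3, 0, 4]),
  (8392713, [0, 0, 6, 0, 3]), (8392721, [0, 6, 1, 1, 6]), (8392737, [2, 5, 0, 3]), (8392769, [1, 1, 2, 6]),
  (8392833, [6, 5, 1, 2, 2]), (8393217, [5, 1, 4, 0, 0]), (8393729, [1, 7, 5, 0]), (8396809, [1, 4, 6, 2]),
  (8396833, [6, 0, 3]), (8396865, [0, 0, 2, 6]), (8396929, [2, 0, 7, 1, 3]), (8397057, [7, 5, 0]),
  (8397313, [6, 0, 7, 1]), (8397825, [1, 2, 7, 3]), (8398849, [0, 6, 5, 0, 2]), (8400897, [0, 0, 4, 0, 4]),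
  (8405009, [0, 3, 0, 5, 6]), (8405057, [2, 1, 6]), (8405121, [5, 0, 6, 2]), (8405249, [0, 0, 4, 0]),
  (8405505, [1, 5, 1, 1]), (8406017, [4, 1, 6]), (8407041, [0, 0, 2]), (8409089, [1, 7, 0, 7, 0]),
  (8413185, [0, 4, 0, 6, 4]), (8421385, [0, 7, 0, 2, 7]), (8421393, [2, 1, 7, 1]), (8421409, [4, 1, 6, 1]),
  (8421441, [4, 1, 7, 5]), (8421505, [0, 5, 0, 0, 7]), (8421633, [1, 1, 6, 3]), (8423425, [0, 6, 1, 3, 6]),
  (8425473, [5, 1, 4, 2, 1]), (8429569, [0, 6, 1, 6, 1]), (8437761, [1, 2, 7, 0, 2]), (8454153, [3, 6, 0, 3]),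
  (8454177, [4, 0, 3, 5]), (8454209, [3, 6, 1]), (8454273, [2, 1, 3, 5]), (8454401, [0, 3, 1, 5, 0]),
  (8454657, [2, 5, 0, 4]), (8455169, [0, 0, 0, 5, 3]), (8456193, [0, 4, 1, 5, 7]), (8458241, [5, 6, 5, 0]),
  (8470529, [7, 7, 0]), (8486913, [0, 3, 0, 7, 3]), (8519697, [0, 5, 6]), (8519745, [2, 5]),
  (8519809, [0, 4, 4, 0]), (8519937, [0, 6, 2, 6]), (8520193, [0, 6, 0, 4, 6]), (8520705, [4, 0, 0, 5]),
  (8521729, [4, 0, 3]), (8523777, [2, 0, 5, 3, 0]), (8527873, [2, 5, 0]), (8552449, [1, 6, 6, 2]),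
  (8585217, [1, 1, 5, 0, 3]), (8650761, [0, 7, 0, 6]), (8650769, [0, 0]), (8650785, [1, 7, 3]),
  (8650817, [1, 7, 1]), (8650881, [1, 2]), (8651265, [0, 4, 1, 6, 5]), (8651777, [7, 0, 4, 0]),
  (8658945, [1, 3, 7, 1, 2]), (8667137, [5, 0, 3]), (8683521, [1, 5, 3, 1]), (8716289, [5, 1, 2, 2]),
  (8781825, [1, 5, 7, 7]), (8912905, [1, 2, 6, 2]), (8912913, [0, 6, 2, 0]), (8912929, [7, 4, 0]),
  (8913153, [0, 6, 1, 1, 5]), (8913409, [1, 2, 7, 7, 1]), (8913921, [0, 5, 1, 4, 0]), (8914945, [1, 4, 0, 4]),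
  (8916993, [1, 3, 7, 1]), (8921089, [6, 0, 2, 5]), (8929281, [0, 7, 0, 3, 1]), (8945665, [0, 6, 1, 7, 5]),
  (8978433, [0, 7, 1]), (9043969, [1, 2, 6, 6, 1]), (9175041, [3, 5, 0]), (9437193, [2, 4, 0, 5]),
  (9437201, [1, 3, 5, 6]), (9437217, [5, 6, 3]), (9437249, [5, 6, 1]), (9437313, [6, 5, 1, 1]),
  (9437441, [0, 5, 0, 0, 0]), (9439233, [1, 3, 7, 5, 0]), (9441281, [7, 1, 1, 2]), (9445377, [1, 4, 0, 5, 0]),
  (9453569, [1, 2, 6, 3, 0]), (9502721, [1, 1, 6, 5, 6]), (9568257, [0, 7, 5, 7]), (9699329, [0, 0, 3, 7, 1]),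
  (9961473, [1, 1, 2, 5]), (10485769, [0, 0, 6, 0, 5]), (10485777, [3, 0, 7, 7]), (10485793, [7, 7, 1]),
  (10486017, [7, 1, 2, 4]), (10486273, [1, 7, 7]), (10486785, [0, 6, 1, 3, 7]), (10487809, [2, 1]),
  (10489857, [4, 0]), (10493953, [1, 3, 1, 4, 0]), (10502145, [6, 2, 0]), (10518529, [5, 1, 5, 3]),
  (10551297, [0, 7, 4, 0]), (10616833, [0, 6, 0, 3]), (10747905, [2, 1, 6, 3]), (11534337, [5, 0, 3, 7]),
  (12582921, [2, 2, 4, 0]), (12582945, [1, 2, 4, 6, 2]), (12582977, [0, 3, 1, 4, 2]), (12583041, [0, 7, 0, 4]),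
  (12583169, [0, 4, 0, 6]), (12583425, [6, 5, 1, 5, 3]), (12583937, [0, 0, 4, 1, 5]), (12584961, [2, 7, 5, 0]),
  (12587009, [3, 5, 0, 6]), (12599297, [1, 4, 4, 1]), (12615681, [1, 3, 5, 3]), (12713985, [1, 3, 7, 7]),
  (12845057, [1, 2, 4, 7, 4]), (13107201, [0, 0, 5, 0]), (13631489, [0, 0, 4, 6, 2]), (14680065, [2, 1, 4, 4])]

theorem m0_ok : pc m0 = 3 := by decide +kernel

theorem gens_ok : gensB1 m0 gens = true := by decide +kernel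

theorem dA : distB [m0] = true := by decide +kernel

theorem sB_ok : and (tetChk sB1) (and (tetChk sB2) (tetChk sB3)) = true := by decide +kernel

theorem sS1_ok : sextB sS1 = true := by decide +kernel

theorem sC1_ok : sC1.all (fun q => and (tetChk q.1) (eqvS (applyW pmL gens q.2 sB1) q.1)) = true := by decide +kernel

theorem sC1_inc : incFrom 0 (sC1.map (fun q => q.1)) = true := by decide +kernel

theorem sC1_len : sC1.length = 21 := by decide +kernel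

theorem sD1 : distB sS1 = true := by decide +kernel

theorem sS2_ok : sextB sS2 = true := by decide +kernel

theorem sC2_ok : sC2.all (fun q => and (tetChk q.1) (eqvS (applyW pmL gens q.2 sB2) q.1)) = true := by decide +kernel

theorem sC2_inc : incFrom 0 (sC2.map (fun q => q.1)) = true := by decide +kernel

theorem sC2_len : sC2.length = 630 := by decide +kernel

theorem sD2 : distB sS2 = true := by decide +kernel

theorem sS3_ok : sextB sS3 = true := by decide +kernel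

theorem sC3_ok : sC3.all (fun q => and (tetChk q.1) (eqvS (applyW pmL gens q.2 sB3) q.1)) = true := by decide +kernel

theorem sC3_inc : incFrom 0 (sC3.map (fun q => q.1)) = true := by decide +kernel

theorem sC3_len : sC3.length = 1120 := by decide +kernel

theorem sD3 : distB sS3 = true := by decide +kernel

theorem std_s : (orbS (support₂ (word m0)) (Cfsg.Agent.S1550.sx (support₂ (word sB1)))).ncard = 21 ∧ (orbS (support₂ (word m0)) (Cfsg.Agent.S1550.sx (support₂ (word sB2)))).ncard = 630 ∧ (orbS (support₂ (word m0)) (Cfsg.Agent.S1550.sx (support₂ (word sB3)))).ncard = 1120 ∧ sextets = orbS (support₂ (word m0)) (Cfsg.Agent.S1550.sx (support₂ (word sB1))) ∪ orbS (support₂ (word m0)) (Cfsg.Agent.S1550.sx (support₂ (word sB2))) ∪ orbS (support₂ (word m0)) (Cfsg.Agent.S1550.sx (support₂ (word sB3))) := by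
  have hg := gens1_spec gens_ok
  have hb := sB_ok
  simp only [Bool.and_eq_true] at hb
  have eA : ({support₂ (word m0)} : Finset (Finset GolayPt)) = finOf [m0] := (finOf_single m0).symm
  have eB1 : Cfsg.Agent.S1550.sx (support₂ (word sB1)) = finOf sS1 := sx_eq_finOf sS1_ok (by decide)
  have eB2 : Cfsg.Agent.S1550.sx (support₂ (word sB2)) = finOf sS2 := sx_eq_finOf sS2_ok (by decide)
  have eB3 : Cfsg.Agent.S1550.sx (support₂ (word sB3)) = finOf sS3 := sx_eq_finOf sS3_ok (by decide)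
  apply orb3_explicit sextets sextets_inv (support₂ (word m0)) (fun x => {x}) (fun T => T) (fun g => single_smul g _) (fun g x => rfl)
    (Cfsg.Agent.S1550.sx (support₂ (word sB1))) (Cfsg.Agent.S1550.sx (support₂ (word sB2))) (Cfsg.Agent.S1550.sx (support₂ (word sB3)))
    (Cfsg.Agent.S1550.sx_spec _ (tetChk_spec hb.1).1).1 (Cfsg.Agent.S1550.sx_spec _ (tetChk_spec hb.2.1).1).1 (Cfsg.Agent.S1550.sx_spec _ (tetChk_spec hb.2.2).1).1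
    21 630 1120 Cfsg.Agent.S1550.result.2
  · rw [← sC1_len]
    exact lower_sext _ gens hg sB1 hb.1 sC1 sC1_ok sC1_inc
  · rw [← sC2_len]
    exact lower_sext _ gens hg sB2 hb.2.1 sC2 sC2_ok sC2_inc
  · rw [← sC3_len]
    exact lower_sext _ gens hg sB3 hb.2.2 sC3 sC3_ok sC3_inc
  · show iotaF (({support₂ (word m0)} : Finset (Finset GolayPt))) (Cfsg.Agent.S1550.sx (support₂ (word sB1))) ≠ iotaF (({support₂ (word m0)} : Finset (Finset GolayPt))) (Cfsg.Agent.S1550.sx (support₂ (word sB2)))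
    rw [eA, eB1, eB2]
    exact iota_ne dA sD1 sD2 (by decide +kernel)
  · show iotaF (({support₂ (word m0)} : Finset (Finset GolayPt))) (Cfsg.Agent.S1550.sx (support₂ (word sB1))) ≠ iotaF (({support₂ (word m0)} : Finset (Finset GolayPt))) (Cfsg.Agent.S1550.sx (support₂ (word sB3)))
    rw [eA, eB1, eB3]
    exact iota_ne dA sD1 sD3 (by decide +kernel)
  · show iotaF (({support₂ (word m0)} : Finset (Finset GolayPt))) (Cfsg.Agent.S1550.sx (support₂ (word sB2))) ≠ iotaF (({support₂ (word m0)} : Finset (Finset GolayPt))) (Cfsg.Agent.S1550.sx (support₂ (word sB3)))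
    rw [eA, eB2, eB3]
    exact iota_ne dA sD2 sD3 (by decide +kernel)

open Cfsg.Agent.S1550 in
theorem J_base : meetCount (support₂ (word m0)) (sx (support₂ (word sB1))) = 1 ∧
    meetCount (support₂ (word m0)) (sx (support₂ (word sB2))) = 2 ∧
    meetCount (support₂ (word m0)) (sx (support₂ (word sB3))) = 3 := by
  rw [sx_eq_finOf sS1_ok (by decide), sx_eq_finOf sS2_ok (by decide),
    sx_eq_finOf sS3_ok (by decide), meetCount_finOf sD1, meetCount_finOf sD2,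
    meetCount_finOf sD3]
  decide +kernel

theorem main (Y : Finset GolayPt) (X₁ X₂ X₃ : Finset (Finset GolayPt))
    (j1 : meetCount Y X₁ = 1) (j2 : meetCount Y X₂ = 2) (j3 : meetCount Y X₃ = 3)
    (c1 : (orbS Y X₁).ncard = 21) (c2 : (orbS Y X₂).ncard = 630) (c3 : (orbS Y X₃).ncard = 1120)
    (u : sextets = orbS Y X₁ ∪ orbS Y X₂ ∪ orbS Y X₃) :
    {S | S ∈ sextets ∧ meetCount Y S = 1}.ncard = 21 ∧
    {S | S ∈ sextets ∧ meetCount Y S = 2}.ncard = 630 ∧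
    {S | S ∈ sextets ∧ meetCount Y S = 3}.ncard = 1120 ∧
    ∀ S S' : Finset (Finset GolayPt), S ∈ sextets → S' ∈ sextets →
      meetCount Y S = meetCount Y S' → ∃ g ∈ M24, g • Y = Y ∧ g • S = S' := by
  have hJ : ∀ (x S : Finset (Finset GolayPt)), S ∈ orbS Y x → meetCount Y S = meetCount Y x := by
    rintro x S ⟨g, hg, e1, rfl⟩
    nth_rewrite 1 [← e1]
    exact meetCount_smul g Y x
  have e1 : {S | S ∈ sextets ∧ meetCount Y S = 1} = orbS Y X₁ := by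
    ext S
    constructor
    · rintro ⟨hS, hj⟩
      rw [u] at hS
      rcases hS with (h | h) | h
      · exact h
      · have := hJ _ _ h
        omega
      · have := hJ _ _ h
        omega
    · intro h
      exact ⟨by rw [u]; exact Or.inl (Or.inl h), (hJ _ _ h).trans j1⟩
  have e2 : {S | S ∈ sextets ∧ meetCount Y S = 2} = orbS Y X₂ := by
    ext S
    constructor
    · rintro ⟨hS, hj⟩
      rw [u] at hS
      rcases hS with (h | h) | h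
      · have := hJ _ _ h
        omega
      · exact h
      · have := hJ _ _ h
        omega
    · intro h
      exact ⟨by rw [u]; exact Or.inl (Or.inr h), (hJ _ _ h).trans j2⟩
  have e3 : {S | S ∈ sextets ∧ meetCount Y S = 3} = orbS Y X₃ := by
    ext S
    constructor
    · rintro ⟨hS, hj⟩
      rw [u] at hS
      rcases hS with (h | h) | h
      · have := hJ _ _ h
        omega
      · have := hJ _ _ h
        omega
      · exact h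
    · intro h
      exact ⟨by rw [u]; exact Or.inr h, (hJ _ _ h).trans j3⟩
  refine ⟨by rw [e1]; exact c1, by rw [e2]; exact c2, by rw [e3]; exact c3, ?_⟩
  intro S S' hS hS' hJJ
  have key : ∀ x : Finset (Finset GolayPt), S ∈ orbS Y x → S' ∈ orbS Y x →
      ∃ g ∈ M24, g • Y = Y ∧ g • S = S' := by
    rintro x ⟨g, hg, e1, rfl⟩ ⟨g', hg', e1', rfl⟩
    refine ⟨g' * g⁻¹, Subgroup.mul_mem _ hg' (Subgroup.inv_mem _ hg), ?_, ?_⟩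
    · rw [mul_smul, inv_smul_eq_iff.2 e1.symm, e1']
    · rw [mul_smul, inv_smul_smul]
  rw [u] at hS hS'
  rcases hS with (h | h) | h <;> rcases hS' with (h' | h') | h'
  · exact key _ h h'
  · exfalso
    have a := hJ _ _ h
    have b := hJ _ _ h'
    omega
  · exfalso
    have a := hJ _ _ h
    have b := hJ _ _ h'
    omega
  · exfalso
    have a := hJ _ _ h
    have b := hJ _ _ h'
    omega
  · exact key _ h h'
  · exfalso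
    have a := hJ _ _ h
    have b := hJ _ _ h'
    omega
  · exfalso
    have a := hJ _ _ h
    have b := hJ _ _ h'
    omega
  · exfalso
    have a := hJ _ _ h
    have b := hJ _ _ h'
    omega
  · exact key _ h h'

/-- Let Y be a set of 3 of the 24 points. The sextets of the length-24 code whose tetrads meeting Y number 1, 2 or 3 are respectively 21, 630 and 1120 in number, and two sextets with the same number of tetrads meeting Y are conjugate under the setwise stabiliser of Y in the code's group. -/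
theorem result (Y : Finset Cfsg.GolayPt) (hY : Y.card = 3) : {S : Finset (Finset Cfsg.GolayPt) | S ∈ Cfsg.sextets ∧ (S.filter fun t => (t ∩ Y).Nonempty).card = 1}.ncard = 21 ∧ {S : Finset (Finset Cfsg.GolayPt) | S ∈ Cfsg.sextets ∧ (S.filter fun t => (t ∩ Y).Nonempty).card = 2}.ncard = 630 ∧ {S : Finset (Finset Cfsg.GolayPt) | S ∈ Cfsg.sextets ∧ (S.filter fun t => (t ∩ Y).Nonempty).card = 3}.ncard = 1120 ∧ ∀ S S' : Finset (Finset Cfsg.GolayPt), S ∈ Cfsg.sextets → S' ∈ Cfsg.sextets → (S.filter fun t => (t ∩ Y).Nonempty).card = (S'.filter fun t => (t ∩ Y).Nonempty).card → ∃ g ∈ Cfsg.M24, g • Y = Y ∧ g • S = S' := by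
  obtain ⟨k, hk, e⟩ := three_trans hY m0_ok
  obtain ⟨s1, s2, s3, su⟩ := std_s
  have T := main (k • support₂ (word m0)) (k • Cfsg.Agent.S1550.sx (support₂ (word sB1)))
    (k • Cfsg.Agent.S1550.sx (support₂ (word sB2))) (k • Cfsg.Agent.S1550.sx (support₂ (word sB3)))
    (by rw [meetCount_smul]; exact J_base.1) (by rw [meetCount_smul]; exact J_base.2.1)
    (by rw [meetCount_smul]; exact J_base.2.2)
    (by rw [orbS_smul hk, ncard_smul_set']; exact s1)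
    (by rw [orbS_smul hk, ncard_smul_set']; exact s2)
    (by rw [orbS_smul hk, ncard_smul_set']; exact s3)
    (by rw [orbS_smul hk, orbS_smul hk, orbS_smul hk, ← Set.smul_set_union, ← Set.smul_set_union,
      ← su, smul_set_self sextets sextets_inv hk])
  rw [e] at T
  exact T
end Cfsg.Agent.S5616
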