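import Cfsg.Statements.S5617
import Cfsg.Agent.Lib.Helper28.M24Orb2

set_option autoImplicit false
open scoped Pointwise
open Cfsg

namespace Cfsg.Agent.S5617

set_option maxRecDepth 1000000
set_option maxHeartbeats 4000000

open Cfsg Cfsg.Agent.Lib.Helper4.Golay Cfsg.Agent.Lib.Helper28
open Pointwise


def m0 : ℕ := 28637


def gens : List (List ℕ × List ℕ) := [
  ([2, 17, 9, 7, 0, 5, 10, 8, 4, 6, 13, 3, 1, 11, 14, 12, 19, 18, 20, 21, 22, 15, 23, 16], [4, 12, 0, 11, 8, 5, 9, 3, 7, 2, 6, 13, 15, 10, 14, 21, 23, 1, 17, 16, 18, 19, 20, 22]),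
  ([4, 12, 0, 11, 8, 5, 9, 3, 7, 2, 6, 13, 15, 10, 14, 21, 23, 1, 17, 16, 18, 19, 20, 22], [2, 17, 9, 7, 0, 5, 10, 8, 4, 6, 13, 3, 1, 11, 14, 12, 19, 18, 20, 21, 22, 15, 23, 16]),
  ([12, 10, 23, 15, 17, 6, 20, 19, 1, 16, 22, 21, 9, 5, 18, 13, 4, 0, 8, 11, 3, 2, 14, 7], [17, 8, 21, 20, 16, 13, 5, 23, 18, 12, 1, 19, 0, 15, 22, 3, 9, 4, 14, 7, 6, 11, 10, 2]),
  ([17, 8, 21, 20, 16, 13, 5, 23, 18, 12, 1, 19, 0, 15, 22, 3, 9, 4, 14, 7, 6, 11, 10, 2], [12, 10, 23, 15, 17, 6, 20, 19, 1, 16, 22, 21, 9, 5, 18, 13, 4, 0, 8, 11, 3, 2, 14, 7]),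
  ([21, 11, 22, 20, 5, 14, 12, 1, 18, 19, 17, 15, 3, 16, 23, 6, 9, 0, 8, 13, 10, 7, 4, 2], [17, 7, 23, 12, 22, 4, 15, 21, 18, 16, 20, 1, 6, 19, 5, 11, 13, 10, 8, 9, 3, 0, 2, 14]),
  ([17, 7, 23, 12, 22, 4, 15, 21, 18, 16, 20, 1, 6, 19, 5, 11, 13, 10, 8, 9, 3, 0, 2, 14], [21, 11, 22, 20, 5, 14, 12, 1, 18, 19, 17, 15, 3, 16, 23, 6, 9, 0, 8, 13, 10, 7, 4, 2]),
  ([20, 14, 22, 19, 12, 13, 21, 23, 1, 17, 5, 16, 3, 15, 18, 7, 6, 4, 10, 11, 8, 2, 9, 0], [23, 8, 21, 12, 17, 10, 16, 15, 20, 22, 18, 19, 4, 5, 1, 13, 11, 9, 14, 3, 0, 6, 2, 7]),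
  ([23, 8, 21, 12, 17, 10, 16, 15, 20, 22, 18, 19, 4, 5, 1, 13, 11, 9, 14, 3, 0, 6, 2, 7], [20, 14, 22, 19, 12, 13, 21, 23, 1, 17, 5, 16, 3, 15, 18, 7, 6, 4, 10, 11, 8, 2, 9, 0])]

def sB1 : ℕ := 39

def sS1 : List ℕ := [39, 45120, 786960, 1116288, 6292736, 8536072]

def sC1 : List ((ℕ) × List ℕ) := [
  (39, []), (43, [0, 7, 0]), (51, [0, 0, 6]), (291, [5, 5]),
  (2083, [1, 4, 0, 6]), (4133, [7, 0]), (4137, [0, 4, 0]), (4145, [0]),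
  (4163, [1, 1, 6, 5]), (4193, [1, 4, 7]), (4355, [2, 4, 7, 5]), (4611, [7, 0, 4]),
  (4641, [2, 1, 6]), (6147, [5, 3, 3]), (8227, [3, 7, 3]), (12291, [0, 5, 5]),
  (20483, [4, 2, 2]), (20513, [6, 3, 5]), (32775, [2, 6, 2]), (32809, [2]),
  (32817, [2, 0, 2]), (32835, [4, 1, 5]), (32865, [6, 4, 0]), (32899, [4, 4, 3]),
  (32929, [2, 5, 6, 1]), (33027, [0, 5, 2]), (33795, [5, 0, 3]), (33825, [0, 4, 7]),
  (34819, [1, 2, 1]), (36869, [6, 6, 0]), (36993, [1, 7]), (37377, [5, 7, 4]),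
  (37889, [0, 4, 0, 7]), (40993, [2, 6, 2, 2]), (45057, [1, 4, 3]), (53249, [1, 2, 5]),
  (65543, [0, 7, 7]), (65547, [0, 6, 4]), (65585, [1, 7, 5]), (65603, [2, 5, 6]),
  (65633, [0, 7, 7, 4]), (65667, [0, 2, 0, 0]), (65697, [3, 0, 5, 2]), (65825, [0, 0, 0, 6]),
  (67617, [7, 4, 0]), (69637, [0, 5, 7, 7]), (69641, [0, 5, 1]), (69761, [0, 5, 7]),
  (69889, [5, 5, 1]), (70145, [3, 5, 7]), (71681, [1, 1]), (73731, [3, 4, 6]),
  (81923, [1, 3, 5]), (81953, [0, 3, 3, 1]), (98313, [0, 6]), (98561, [1, 1, 1]),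
  (99329, [2, 5, 0]), (100353, [1, 2, 2]), (106497, [3, 7, 0]), (114689, [6, 6, 6]),
  (131083, [6, 5, 0]), (131091, [7, 0, 3]), (131109, [0, 6, 5]), (131139, [7, 4, 4]),
  (131169, [3, 0, 0]), (131361, [0, 2, 0, 4]), (132099, [2, 7, 4]), (132129, [2, 7, 4, 6]),
  (133123, [0, 7, 5, 7]), (135177, [2, 6, 1]), (135185, [3, 7, 4]), (135425, [4, 0, 3]),
  (135681, [2, 7, 1]), (136193, [3, 4, 2]), (139297, [6, 6, 4]), (143361, [6, 2, 0]),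
  (147459, [1, 5, 7]), (147489, [1, 5, 6]), (163845, [1, 4, 0]), (163849, [1, 4]),
  (163857, [0, 0, 5]), (163969, [7, 7, 4]), (164097, [7, 3, 6]), (180225, [6, 6, 5]),
  (196613, [0, 3, 1]), (196625, [3, 7, 4, 2]), (196737, [5, 0, 7]), (197633, [4, 4, 6]),
  (198657, [0, 3, 1, 7]), (204801, [0, 2]), (262151, [0, 3, 5, 5]), (262155, [2, 4, 1]),
  (262193, [2, 4, 1, 5]), (262403, [0, 5, 0, 0]), (262659, [0, 7, 3, 6]), (262689, [7, 0, 5]),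
  (263171, [3, 4, 4]), (263201, [3, 3, 7]), (264225, [1, 7, 1, 6]), (266245, [0, 0, 5, 1]),
  (266249, [0, 4, 3, 3]), (266305, [5, 2, 7]), (267265, [2, 7, 2]), (268289, [6, 1, 5]),
  (270369, [4, 6, 2]), (274433, [0, 3, 3, 7]), (278531, [0, 7, 4]), (278561, [7, 7, 3]),
  (294921, [7, 3, 5]), (294977, [2, 5, 5]), (295041, [3]), (295425, [3, 5]),
  (296961, [1, 3, 0]), (311297, [6, 3]), (327745, [3, 7, 5]), (327809, [2, 5]),
  (327937, [4, 1]), (328193, [7, 1, 7]), (328705, [0, 3, 0, 2]), (335873, [0, 6, 1]),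
  (393221, [6, 2, 2]), (393233, [4, 0]), (393281, [2, 5, 5, 3]), (393473, [1, 5, 0, 5]),
  (393729, [6, 0]), (395265, [0, 2, 6, 0]), (524299, [4, 3, 4]), (524307, [7, 2]),
  (524325, [0, 5, 2, 6]), (524355, [4, 6, 5]), (524385, [1, 3, 3]), (524419, [4, 0, 2]),
  (524449, [7, 7, 1]), (524547, [1, 2]), (524803, [5, 2, 0]), (524833, [2, 1, 7, 0]),
  (526369, [6, 1]), (528393, [0, 3, 5]), (528401, [0, 0, 3, 1]), (528513, [4, 4]),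
  (530433, [4, 3, 3]), (532513, [0, 3, 5, 0]), (536577, [0, 0, 5, 0]), (544769, [7, 1, 5]),
  (557061, [0, 6, 6, 2]), (557065, [0, 2, 0, 2]), (557073, [2, 4, 4]), (557569, [5, 0, 0]),
  (558081, [0, 7]), (559105, [6]), (589829, [3, 0, 7, 3]), (589841, [2, 4, 2]),
  (590081, [7, 2, 7]), (590337, [0, 0, 0]), (598017, [1, 4, 1]), (606209, [5, 2, 1]),
  (655489, [4, 3]), (655617, [5, 3]), (655873, [1, 1, 2]), (656385, [3, 7, 1]),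
  (657409, [7, 4, 2]), (671745, [2, 5, 7]), (786437, [0, 0, 4, 3]), (786449, [7]),
  (786497, [5, 7, 3]), (786561, [1, 7, 0]), (787457, [2, 4]), (802817, [0, 3, 4, 3]),
  (1048587, [1, 1, 6]), (1048613, [4, 4, 4]), (1048625, [3, 6, 2]), (1048707, [2, 1, 4, 2]),
  (1048737, [3, 0, 5]), (1048865, [0, 3, 4]), (1049091, [4, 0, 7, 7]), (1049121, [5, 2]),
  (1049603, [6, 1, 3]), (1049633, [0, 0, 3, 3]), (1050627, [4, 1, 2]), (1052681, [2, 1, 1]),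
  (1052737, [4, 1, 4]), (1052801, [6, 3, 6]), (1052929, [6, 5, 7]), (1053697, [1, 5, 6, 1]),
  (1056771, [6, 2, 5]), (1069057, [3, 0]), (1081349, [0, 2, 7, 7]), (1081353, [0, 3, 4, 1]),
  (1081409, [0, 2, 1]), (1081601, [2, 4, 6]), (1081857, [3, 6, 3]), (1089537, [2, 1, 4]),
  (1114117, [1, 3, 4]), (1114177, [7, 1, 3]), (1114625, [0, 3, 3]), (1115137, [2, 1, 5]),
  (1116161, [0, 4]), (1130497, [1, 5, 2, 7]), (1179665, [1, 4, 7, 5]), (1179713, [6, 3, 3]),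
  (1179777, [0, 0, 4, 7]), (1180161, [2, 1, 7]), (1187841, [4, 6, 1]), (1196033, [0, 4, 3]),
  (1310725, [4]), (1310849, [3, 0, 7, 7]), (1310977, [2, 0]), (1312769, [5, 0, 5]),
  (1318913, [4, 6, 0]), (1327105, [6, 4]), (1572881, [0, 7, 3, 1]), (1572929, [5, 5, 0]),
  (1573121, [0, 2, 2]), (1573889, [0, 6, 2, 5]), (1574913, [0, 5, 3]), (1581057, [4, 2, 6]),
  (2097159, [3, 4, 3]), (2097171, [3, 3]), (2097193, [3, 7]), (2097219, [7, 7]),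
  (2097249, [4, 3, 0]), (2097441, [4, 0, 5]), (2097667, [7, 3, 3]), (2097697, [0, 2, 5, 7]),
  (2098179, [1, 2, 2, 2]), (2098209, [1, 7, 7]), (2099233, [5, 0, 2]), (2101253, [2, 7, 3]),
  (2101265, [1, 3, 6]), (2101505, [2, 7, 0]), (2102273, [1, 4, 7, 0]), (2103297, [7, 4]),
  (2105347, [0, 2, 6]), (2117633, [1, 4, 2]), (2129937, [0, 5, 5, 1]), (2130049, [3, 1]),
  (2130177, [6, 4, 0, 2]), (2130433, [1, 7, 0, 2]), (2131969, [6, 0, 0]), (2138113, [1, 5, 3]),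
  (2162697, [0, 7, 4, 3]), (2162705, [3, 1, 5, 3]), (2162817, [0, 5, 1, 6]), (2163201, [0, 2, 5]),
  (2163713, [4, 1, 1]), (2179073, [6, 6]), (2228229, [2, 6]), (2228233, [0, 7, 5, 0]),
  (2228737, [2, 4, 3]), (2230273, [2, 7]), (2236417, [7, 0, 2]), (2244609, [5, 6, 4]),
  (2359305, [2, 7, 0, 0]), (2359313, [0, 0, 0, 4]), (2359361, [3, 1, 2]), (2359553, [0, 0, 4, 6]),
  (2367489, [5, 3, 5]), (2375681, [0, 2, 0]), (2621445, [4, 6, 6]), (2621449, [1, 3, 4, 7]),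
  (2621569, [3, 4, 1]), (2621697, [6, 0, 5]), (2622465, [2, 7, 7]), (2629633, [4, 1, 3]),
  (3145733, [7, 1]), (3145737, [6, 0, 2]), (3145745, [1, 3, 1]), (3145793, [1]),
  (3145857, [3, 1, 1]), (3147777, [0, 5, 6]), (4194323, [2, 0, 4]), (4194341, [1, 1, 1, 4]),
  (4194345, [3, 4, 0]), (4194435, [0, 0, 2, 0]), (4194465, [0, 4, 1, 4]), (4194563, [6, 5, 5]),
  (4195331, [1, 2, 5, 3]), (4195361, [3, 6]), (4196385, [0, 2, 4, 3]), (4198417, [5, 5, 6]),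
  (4198465, [4, 2, 7]), (4198529, [5, 2, 5]), (4198913, [3, 4]), (4199425, [3, 0, 4]),
  (4200449, [0, 7, 7, 2]), (4202499, [4, 2]), (4210691, [0, 7, 5]), (4210721, [3, 4, 4, 4]),
  (4227077, [3, 3, 6]), (4227089, [0, 6, 4, 4]), (4227137, [0, 0, 2]), (4229121, [0, 3, 4, 7]),
  (4235265, [0, 2, 2, 7]), (4243457, [1, 4, 7, 3]), (4259845, [6, 5, 1]), (4259849, [7, 7, 0]),
  (4259857, [0, 0, 0, 7]), (4259905, [0, 4, 7, 4]), (4260097, [0, 2, 4]), (4260865, [2, 6, 6]),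
  (4325385, [0, 2, 7, 5]), (4325441, [3, 0, 2]), (4325505, [0, 6, 3]), (4325633, [7, 3, 1]),
  (4327425, [1, 4, 2, 2]), (4333569, [5, 3, 6]), (4456453, [6, 1, 6]), (4456457, [4, 0, 0]),
  (4456465, [5, 0]), (4456577, [0, 4, 2]), (4456961, [0, 5]), (4464641, [0, 0, 3, 0]),
  (4718601, [3, 6, 6]), (4718657, [0, 6, 6]), (4719105, [2, 4, 7]), (4719617, [0, 0, 6, 2]),
  (4726785, [6, 0, 4]), (4734977, [1, 5]), (5242889, [3, 5, 5]), (5242897, [0, 7, 0, 6]),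
  (5243137, [5, 7]), (5243393, [1, 3, 4, 4]), (5244929, [1, 5, 1]), (5259265, [0, 4, 0, 3]),
  (6291461, [4, 1, 6]), (6291521, [6, 6, 3]), (6291585, [2, 6, 5]), (6291713, [0, 2, 5, 2]),
  (6291969, [7, 3]), (6307841, [0, 0, 3]), (8388615, [0, 0, 7, 4]), (8388627, [0, 3]),
  (8388649, [0, 4, 1, 2]), (8388739, [0, 0]), (8388769, [2, 1, 1, 5]), (8388897, [3, 7, 7]),
  (8389123, [7, 2, 5]), (8389153, [1, 5, 0]), (8390659, [1, 5, 2]), (8392709, [1, 1, 7]),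
  (8392721, [4, 7]), (8392769, [6, 1, 4]), (8392833, [4, 2, 5]), (8392961, [6, 2]),
  (8396833, [2, 5, 1]), (8400897, [0, 3, 0, 5]), (8404995, [5, 7, 5]), (8405025, [0, 6, 6, 0]),
  (8421393, [2, 1, 7, 4]), (8421441, [5, 0, 4]), (8421633, [0, 0, 7, 2]), (8421889, [0, 0, 4]),
  (8422401, [5, 2, 4]), (8437761, [3, 0, 7]), (8454153, [3, 5, 1]), (8454161, [7, 7, 5]),
  (8454209, [1, 3]), (8454657, [1, 2, 0, 2]), (8456193, [0, 5, 2, 0]), (8462337, [0, 2, 1, 6]),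
  (8519685, [5, 7, 0]), (8519689, [1, 7, 2]), (8519745, [1, 3, 1, 6]), (8519809, [4, 4, 2]),
  (8520193, [7, 0, 7]), (8520705, [0, 7, 1]), (8650761, [1, 7, 4]), (8650769, [1, 3, 4, 0]),
  (8650881, [0, 5, 0]), (8651009, [0, 5, 5, 7]), (8651777, [0, 4, 1]), (8652801, [1, 7, 1]),
  (8912901, [3, 1, 5]), (8912905, [5, 3, 7]), (8912961, [0, 7, 3]), (8913153, [6, 5, 3]),
  (8914945, [0, 4, 6]), (8929281, [3, 4, 2, 4]), (9437189, [5]), (9437193, [0, 0, 4, 1]),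
  (9437201, [6, 5]), (9438209, [0, 3, 0]), (9445377, [2, 4, 6, 6]), (9453569, [0, 0, 7]),
  (10485825, [7, 1, 6]), (10485889, [5, 6]), (10486785, [0, 4, 3, 0]), (10487809, [1, 2, 0]),
  (10493953, [0, 2, 7]), (10502145, [4, 6]), (12582917, [0, 7, 0, 5]), (12583169, [4, 0, 7]),
  (12583425, [2, 1]), (12583937, [5, 2, 6]), (12584961, [7, 7, 7]), (12591105, [0, 6, 2])]

def sB2 : ℕ := 29

def sS2 : List ℕ := [29, 5250, 346112, 663616, 5275680, 10486528]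

def sC2 : List ((ℕ) × List ℕ) := [
  (29, []), (77, [3, 5]), (85, [1, 4, 7]), (89, [1, 7, 2, 2]),
  (99, [4, 4, 3]), (141, [6, 5]), (149, [0, 4, 1]), (153, [3, 7]),
  (163, [0, 5, 6, 0]), (197, [4, 3, 5]), (201, [2, 4, 2]), (209, [2, 1, 1, 6]),
  (269, [4, 6, 0]), (277, [2, 5, 2, 2]), (281, [0, 4]), (325, [1, 4, 7, 4]),
  (329, [1, 6, 0]), (337, [4, 2, 0]), (389, [3, 7, 1]), (393, [0, 3, 0, 2]),
  (401, [3, 3, 7, 7]), (449, [0, 4, 7, 2]), (525, [6, 2, 1]), (533, [2, 1, 3, 4]),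
  (537, [4, 7]), (547, [6, 1, 7]), (581, [3, 5, 2]), (585, [1, 4, 2, 1]),
  (593, [2, 5, 2]), (645, [1]), (649, [4, 1]), (657, [6, 5, 5]),
  (705, [5, 5, 3]), (773, [0, 0, 4, 4]), (777, [0, 2, 1, 4]), (785, [1, 7, 7]),
  (833, [0, 7, 2]), (897, [2, 7, 0]), (1037, [0, 4, 6, 5]), (1045, [4, 2]),
  (1049, [7, 1, 1]), (1059, [1, 3]), (1093, [5, 6]), (1097, [2, 2, 1]),
  (1105, [6, 0]), (1157, [5, 7, 0]), (1161, [7, 2, 7]), (1169, [0, 2, 0, 3]),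
  (1217, [7, 2]), (1285, [4, 4, 2]), (1289, [2, 6, 1, 6]), (1297, [5, 3, 5]),
  (1345, [6, 6, 1]), (1409, [0, 5, 5, 3]), (1541, [0, 3, 3]), (1545, [2, 5, 5]),
  (1553, [2, 7, 1]), (1601, [4, 6, 4]), (1665, [2, 5]), (1793, [0, 4, 2, 5]),
  (2061, [2, 5, 2, 5]), (2069, [6, 2]), (2073, [6, 5, 0]), (2117, [7, 7, 5]),
  (2121, [1, 3, 7]), (2129, [0, 3, 6, 6]), (2181, [3, 0, 4]), (2185, [0, 3, 5]),
  (2193, [3, 5, 6]), (2241, [6, 2, 5]), (2309, [0, 5, 5, 5]), (2313, [1, 5, 5, 1]),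
  (2321, [0]), (2369, [0, 0, 3]), (2433, [0, 7, 2, 4]), (2565, [4, 6, 3]),
  (2569, [2, 4, 4, 3]), (2577, [2, 5, 6]), (2625, [2, 6]), (2689, [0, 3, 0]),
  (2817, [3, 7, 4]), (3077, [1, 3, 5, 0]), (3081, [0, 4, 0, 5]), (3089, [2, 1, 5, 1]),
  (3137, [0, 0, 3, 3]), (3201, [6, 2, 4]), (3329, [0, 7, 4, 7]), (3585, [7, 4, 6, 2]),
  (4103, [1, 1, 3, 3]), (4107, [1, 6]), (4115, [7, 0]), (4227, [3, 3, 0]),
  (4257, [5, 0, 7]), (4385, [2, 1]), (5123, [2, 7, 0, 0]), (5153, [6, 1, 4]),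
  (6177, [3, 3, 7]), (8205, [1, 1, 6, 4]), (8213, [5, 5, 2]), (8217, [2, 4, 6]),
  (8261, [2, 7, 1, 1]), (8265, [0, 0, 6, 3]), (8273, [0, 0, 4, 1]), (8325, [4, 3, 3]),
  (8329, [3, 4, 2]), (8337, [2, 6, 0, 7]), (8385, [0, 7, 3, 1]), (8453, [4, 0, 6]),
  (8457, [5, 2, 0, 7]), (8465, [6, 2, 0]), (8513, [0, 3, 1, 1]), (8577, [0, 3, 3, 6]),
  (8709, [4, 2, 1]), (8713, [1, 7]), (8721, [1, 7, 2, 6]), (8769, [7, 2, 4, 6]),
  (8833, [3, 3]), (8961, [0, 2, 5]), (9221, [6]), (9225, [2, 4]),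
  (9233, [0, 5, 1, 6]), (9281, [1, 1, 1, 1]), (9345, [7, 7, 3]), (9473, [2, 2, 6]),
  (9729, [0, 0, 6, 6]), (10245, [6, 6, 4, 4]), (10249, [0, 0, 7, 1]), (10257, [0, 7, 1, 5]),
  (10305, [1, 6, 2, 0]), (10369, [7, 5, 1]), (10497, [4, 0]), (10753, [2, 0, 5, 3]),
  (11265, [3, 1, 1, 5]), (12321, [1, 1, 6]), (16397, [5, 5, 5]), (16405, [6, 5, 3]),
  (16409, [2, 2, 1, 5]), (16419, [7, 4, 1]), (16453, [1, 6, 2, 7]), (16457, [0, 2, 1, 6]),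
  (16465, [0, 2, 0, 7]), (16517, [7, 1, 4]), (16521, [1, 7, 3]), (16529, [7, 7, 7]),
  (16577, [7, 7, 2, 2]), (16645, [1, 7, 0, 6]), (16649, [5, 3, 3]), (16657, [6, 6, 4]),
  (16705, [0, 2, 2, 1]), (16769, [0, 3, 3, 7]), (16901, [5, 3, 6]), (16905, [4, 4, 7]),
  (16913, [2, 0, 0, 3]), (16961, [4, 4, 0]), (17025, [4, 3]), (17153, [1, 4, 0]),
  (17413, [1, 1, 7, 3]), (17417, [5, 0, 6]), (17425, [0, 4, 4, 2]), (17473, [0, 6]),
  (17537, [1, 1, 5, 2]), (17665, [0, 4, 3]), (17921, [1, 4, 1]), (18437, [1, 6, 4]),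
  (18441, [1, 3, 3, 6]), (18449, [0, 5, 1, 1]), (18497, [1, 7, 4, 0]), (18561, [1, 6, 3, 3]),
  (18689, [1, 5, 0]), (18945, [5, 3, 0]), (19457, [2, 0, 7]), (24581, [1, 1, 5, 0]),
  (24585, [2, 6, 2, 5]), (24593, [0, 4, 2, 1]), (24641, [1, 1, 7]), (24705, [0, 5, 0, 5]),
  (24833, [0, 0, 5]), (25089, [2, 6, 2]), (25601, [5, 1]), (26625, [5, 7, 2]),
  (32779, [0, 6, 2, 7]), (32787, [1, 5, 3, 1]), (32805, [5, 6, 6]), (33057, [1, 1, 5]),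
  (33283, [0, 0, 4, 7, 7]), (33313, [0, 0, 4, 3]), (34849, [0, 4, 6]), (36873, [7, 1]),
  (36881, [5, 0, 3]), (36929, [3, 3, 4]), (37121, [0, 5, 1, 4]), (38913, [2, 5, 7]),
  (40963, [4, 0, 6, 4]), (49155, [4, 7, 5]), (49185, [2, 1, 4]), (65555, [0, 0, 0, 6]),
  (65573, [1, 5, 0, 5]), (65577, [5, 6, 1]), (65795, [6, 5, 2]), (66051, [3, 6, 6]),
  (66081, [5, 1, 2]), (66563, [0, 6, 0, 5]), (66593, [1, 3, 5]), (67587, [0, 0, 4]),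
  (69649, [0, 5, 6]), (69697, [1, 3, 1, 1]), (70657, [0, 0, 0, 7]), (73761, [3, 5, 5]),
  (77825, [5]), (86017, [2, 7, 1, 6]), (98309, [6, 6]), (98321, [3, 0, 2, 4]),
  (98369, [4, 6]), (98433, [6, 5, 7]), (98817, [0, 6, 2]), (131079, [7]),
  (131113, [1, 3, 3]), (131121, [3, 7, 7, 3]), (131203, [5, 7]), (131233, [1, 5, 0, 3]),
  (131331, [3, 5, 1, 4]), (131587, [0, 6, 0, 4]), (131617, [1, 3, 6]), (133153, [3, 5, 3]),
  (135173, [0, 0, 7, 4]), (135233, [1, 7, 1, 6]), (135297, [0, 0, 6, 0]), (137217, [4, 4, 4]),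
  (139267, [6, 5, 1]), (151553, [1, 7, 1]), (163905, [0, 3, 0, 3]), (164353, [5, 2]),
  (164865, [3, 4, 3]), (165889, [5, 2, 0]), (172033, [2, 0]), (196617, [5, 0]),
  (196673, [2, 6, 5]), (196865, [7, 0, 2]), (197121, [0, 7, 7]), (212993, [1, 1, 3, 0]),
  (262163, [3, 0, 2, 0]), (262181, [4, 1, 3, 0]), (262185, [4, 1, 1]), (262211, [1, 5, 5]),
  (262241, [0, 3, 5, 1]), (262275, [6, 0, 5]), (262305, [0, 3]), (262433, [6, 5, 6, 5]),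
  (264195, [3, 6, 4]), (266257, [2, 0, 4]), (266369, [5, 6, 2]), (266497, [0, 2, 2]),
  (266753, [0, 5, 7, 4]), (270339, [3, 0, 5]), (282625, [0, 6, 1, 5]), (294917, [6, 1, 3]),
  (294929, [0, 7]), (295169, [2, 4, 3, 6]), (295937, [0, 2, 7, 3]), (303105, [4, 4, 3, 5]),
  (327685, [1, 6, 6, 2]), (327689, [5, 1, 4]), (327697, [1, 6, 0, 3]), (329729, [1, 5]),
  (344065, [4]), (393225, [0, 2, 0, 4]), (393345, [3, 4, 1]), (394241, [0, 2, 1, 1]),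
  (401409, [2, 1, 2]), (409601, [0, 2, 2, 2]), (524295, [6, 0, 3]), (524329, [0, 4, 2]),
  (524337, [0, 0, 2, 0]), (524577, [2, 5, 7, 4]), (525315, [5, 1, 1]), (525345, [0, 3, 1, 2]),
  (526339, [0, 6, 1]), (528389, [7, 0, 5]), (528449, [0, 6, 2, 6]), (528641, [0, 6, 1, 7]),
  (528897, [0, 4, 4, 4]), (529409, [1, 1]), (532483, [1, 5, 3]), (540675, [2, 4, 3, 0]),
  (540705, [0, 3, 5, 5]), (557121, [2, 2, 7]), (557185, [0, 7, 2, 6]), (557313, [2, 7, 5]),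
  (565249, [0, 5, 5]), (573441, [3, 1, 4]), (589833, [0, 4, 3, 4]), (589889, [2, 4, 2, 4]),
  (589953, [1, 7, 2, 4]), (590849, [0, 0, 0, 0]), (591873, [0, 4, 0, 4]), (655365, [0, 0, 6, 2]),
  (655369, [1, 3, 4, 3]), (655377, [2, 1, 7, 0]), (655425, [0, 3, 0, 0]), (663553, [2, 5, 0]),
  (786441, [7, 5, 5]), (786689, [2, 4, 3]), (786945, [2, 1, 1]), (788481, [1, 3, 3, 4]),
  (794625, [7, 7]), (1048583, [2, 0, 4, 1]), (1048595, [4, 3, 1]), (1048617, [0, 2]),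
  (1048643, [0, 5, 5, 2]), (1048673, [0, 5, 2]), (1048835, [1, 4]), (1050657, [3]),
  (1052677, [0, 7, 1]), (1052689, [6, 1]), (1053185, [0, 5, 0, 7]), (1054721, [2, 6, 0]),
  (1056801, [7, 4, 6]), (1060865, [1, 4, 2]), (1064963, [2, 7]), (1064993, [0, 3, 0, 5]),
  (1081361, [3, 1]), (1081473, [2, 6, 6]), (1082369, [2, 6, 6, 3]), (1083393, [5, 5]),
  (1097729, [2, 2, 2, 1]), (1114121, [0, 0]), (1114129, [0, 2, 4, 2]), (1114241, [7, 0, 3]),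
  (1114369, [3, 0, 2, 1]), (1122305, [1, 3, 5, 6]), (1179653, [3, 0, 2]), (1179657, [5, 2, 6]),
  (1179905, [1, 6, 2]), (1180673, [0, 2, 1, 3]), (1181697, [3, 6, 0]), (1310729, [1, 1, 1]),
  (1310737, [0, 5, 0, 6]), (1310785, [0, 7, 3]), (1311233, [3, 0, 4, 3]), (1311745, [4, 6, 6]),
  (1572869, [0, 5, 5, 0]), (1572873, [3, 0, 7]), (1572993, [1, 3, 0]), (1573377, [1, 6, 4, 3]),
  (1589249, [1, 6, 3, 6]), (2097163, [4, 1, 6]), (2097189, [0, 0, 2]), (2097201, [1, 6, 3]),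
  (2097283, [7, 5, 6]), (2097313, [0, 4, 3, 1]), (2097411, [3, 7, 2]), (2099203, [2, 0, 6]),
  (2101257, [4, 3, 6]), (2101313, [1, 6, 2, 1]), (2101377, [0, 5, 1, 3]), (2101761, [0, 7, 4]),
  (2105377, [6, 2, 7]), (2109441, [0, 4, 7, 4]), (2113539, [2, 4, 7]), (2113569, [5, 2, 4]),
  (2129925, [3, 1, 7]), (2129929, [4, 4]), (2129985, [1, 7, 4]), (2130945, [5, 3]),
  (2146305, [2, 6, 1]), (2162693, [2, 1, 6, 3]), (2162753, [2, 0, 5]), (2162945, [2, 7, 3]),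
  (2164737, [0, 5, 3]), (2170881, [3, 3, 1]), (2228241, [7, 0, 7]), (2228289, [4, 1, 3]),
  (2228353, [0, 0, 5, 3]), (2228481, [1, 1, 3]), (2229249, [3, 1, 1, 2]), (2359301, [2, 1, 7]),
  (2359425, [0, 0, 4, 7]), (2359809, [3, 7, 7]), (2360321, [6, 0, 4]), (2361345, [3, 5, 1]),
  (2621457, [3, 1, 7, 0]), (2621505, [4, 7, 3]), (2621953, [0, 7, 7, 5]), (2623489, [0, 6, 0]),
  (2637825, [2, 2]), (3145985, [0, 2, 0]), (3146241, [5, 0, 5]), (3146753, [0, 0, 5, 2]),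
  (3153921, [0, 6, 0, 2]), (3162113, [0, 2, 4]), (4194311, [2, 4, 4]), (4194315, [6, 5, 6]),
  (4194353, [6, 2, 6]), (4194371, [2, 2, 6, 6]), (4194401, [0, 0, 0, 2]), (4194593, [1, 7, 3, 3]),
  (4194819, [0, 0, 7, 5]), (4194849, [2, 1, 5]), (4196355, [7, 4]), (4198405, [3, 1, 1]),
  (4198409, [0, 5, 7, 2]), (4198657, [2, 1, 6]), (4202529, [0, 3, 6]), (4206593, [0, 2, 2, 0]),
  (4214785, [6, 0, 6]), (4227081, [2, 1, 5, 0]), (4227201, [0, 0, 3, 6]), (4227329, [0, 3, 6, 5]),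
  (4227585, [0, 0, 0]), (4228097, [4, 0, 4, 1]), (4259969, [7, 3, 5]), (4260353, [0, 0, 2, 6]),
  (4261889, [0, 7, 7, 7]), (4268033, [6, 0, 7]), (4276225, [0, 2, 2, 7]), (4325381, [0, 4, 7]),
  (4325393, [1, 3, 4, 0]), (4325889, [1, 5, 5, 5]), (4326401, [0, 4, 4, 6]), (4341761, [2, 2, 1, 6]),
  (4456513, [0, 0, 5, 6]), (4456705, [3, 4]), (4457473, [7, 2, 4]), (4458497, [1, 3, 1]),
  (4472833, [7, 5, 0]), (4718597, [0, 4, 0]), (4718609, [3, 4, 2, 1]), (4718721, [4, 7, 0]),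
  (4718849, [7, 1, 5]), (4720641, [4, 4, 6]), (5242885, [5, 0, 4, 7]), (5242945, [0, 5, 7]),
  (5243009, [1, 5, 5, 2]), (5243905, [1, 6, 6]), (5251073, [0, 2, 4, 0]), (6291465, [0, 0, 7]),
  (6291473, [5, 2, 1]), (6292481, [0, 3, 5, 0]), (6293505, [7, 5]), (6299649, [0, 0, 6, 4]),
  (8388619, [0, 0, 7, 0]), (8388645, [0, 2, 7]), (8388657, [7, 4, 7]), (8388675, [0, 2, 4, 6]),
  (8388705, [1, 7, 0]), (8388867, [2]), (8389635, [2, 2, 2]), (8389665, [0, 2, 5, 1]),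
  (8390689, [1, 7, 2]), (8392713, [3, 0]), (8393217, [0, 2, 1]), (8393729, [7, 3]),
  (8394753, [0, 0, 6]), (8396803, [4, 0, 2]), (8409089, [0, 7, 5]), (8421381, [2, 7, 2]),
  (8421385, [2, 4, 1]), (8421505, [1, 3, 5, 5]), (8423425, [2, 7, 1, 7]), (8429569, [4, 0, 4]),
  (8454149, [0, 5]), (8454273, [0, 5, 2, 2]), (8454401, [7, 1, 3]), (8455169, [2, 0, 2]),
  (8470529, [0, 4, 4]), (8519697, [2, 1, 3]), (8519937, [0, 0, 3, 7]), (8521729, [0, 5, 1]),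
  (8527873, [3, 1, 6]), (8536065, [0, 5, 3, 5]), (8650757, [1, 3, 4]), (8650817, [2, 6, 6, 4]),
  (8651265, [3, 0, 0]), (8658945, [2, 1, 7, 5]), (8667137, [2, 0, 0]), (8912913, [4, 2, 5]),
  (8913025, [1, 1, 1, 4]), (8913409, [4, 0, 0]), (8913921, [3, 6]), (8921089, [0, 3, 1]),
  (9437249, [0, 2, 0, 6]), (9437313, [6, 1, 5]), (9437441, [1, 4, 6]), (9437697, [0, 7, 2, 5]),
  (9439233, [0, 2, 7, 5]), (10485765, [5, 0, 4]), (10485769, [0, 2, 0, 2]), (10485777, [6, 6, 0]),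
  (10486017, [0, 3, 6, 3]), (10486273, [7, 7, 2]), (12582921, [0, 4, 3, 0]), (12582929, [0, 5, 0]),
  (12582977, [0, 4, 3, 7]), (12583041, [2, 4, 3, 5]), (12599297, [7, 7, 1])]

def sB3 : ℕ := 15

def sS3 : List ℕ := [15, 5264, 622848, 3416064, 4196928, 8536096]

def sC3 : List ((ℕ) × List ℕ) := [
  (15, []), (23, [0, 6, 2, 6]), (27, [0, 3, 5, 7]), (45, [2, 5, 2]),
  (53, [1, 7, 5]), (57, [3, 1, 6, 1]), (71, [5, 0, 0]), (75, [7, 2, 1]),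
  (83, [4, 4, 6, 0]), (101, [1, 4, 7]), (105, [0, 0, 6, 3]), (113, [0, 0, 2, 1]),
  (135, [2, 2, 0]), (139, [0, 0, 4, 3]), (147, [2, 2, 6]), (165, [1, 4, 3, 7]),
  (169, [3, 7]), (177, [2, 5, 1, 5]), (195, [1, 6, 2, 5]), (225, [0, 3, 3, 4]),
  (263, [2, 0, 4, 2]), (267, [0, 2, 1, 2]), (275, [0, 0, 4, 7]), (293, [3, 7, 7]),
  (297, [0, 4, 0]), (305, [1, 5, 6, 3]), (323, [3, 7, 5, 6]), (353, [6, 5]),
  (387, [0, 5, 3, 5]), (417, [2, 6, 4, 4]), (519, [2, 4, 7, 3]), (523, [0, 0, 3, 7]),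
  (531, [0, 5, 0, 4]), (549, [1, 5, 3, 6]), (553, [1, 2, 5, 3]), (561, [1, 2, 5, 6]),
  (579, [7, 3, 3]), (609, [2, 1, 3, 0]), (643, [0, 3, 5, 3]), (673, [4, 1, 7]),
  (771, [7, 7, 0]), (801, [0, 4, 1]), (1031, [6, 0, 3]), (1035, [1, 1, 6]),
  (1043, [0, 0, 6]), (1061, [1, 2, 4, 3]), (1065, [5, 2, 4, 1]), (1073, [0, 4, 1, 7]),
  (1091, [4, 0, 0]), (1121, [0, 0, 3, 3]), (1155, [3, 3, 7, 2]), (1185, [0, 0, 2, 4]),
  (1283, [4, 2, 5]), (1313, [3, 3, 7, 0]), (1539, [2, 6, 1, 4]), (1569, [0, 0, 6, 6]),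
  (2055, [1, 1, 6, 6]), (2059, [0, 3, 7, 7, 4]), (2067, [1, 4, 3, 6]), (2085, [7, 4, 0]),
  (2089, [0, 2, 2]), (2097, [0, 6, 6]), (2115, [3, 6]), (2145, [0, 5, 3, 7]),
  (2179, [0, 6, 4, 4]), (2209, [3, 0]), (2307, [0, 3, 7, 0]), (2337, [1, 4, 0, 4]),
  (2563, [3, 5, 0]), (2593, [3, 3, 7, 1]), (3075, [4, 6, 0, 6]), (3105, [0, 0, 4, 2, 6]),
  (4109, [0, 5, 0]), (4117, [3, 7, 3, 3]), (4121, [2, 1, 7, 3]), (4131, [0, 5, 3]),
  (4165, [3, 5, 3, 0]), (4169, [1, 2, 4, 2]), (4177, [6, 0, 3, 0]), (4229, [1, 1, 3, 3]),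
  (4233, [4, 6, 1, 1]), (4241, [4, 1, 2]), (4289, [0, 6, 0]), (4357, [0, 0, 0, 2]),
  (4361, [0, 4, 3, 1]), (4369, [4, 3, 5]), (4417, [4, 6, 1]), (4481, [2, 7, 0]),
  (4613, [0, 4, 4, 7]), (4617, [2, 0, 7]), (4625, [1, 7, 7]), (4673, [1, 3, 0, 7]),
  (4737, [2, 1, 5, 6]), (4865, [4, 3, 3, 0]), (5125, [4, 7, 1, 4]), (5129, [2, 7, 2]),
  (5137, [1, 3, 0, 0]), (5185, [4, 7, 1, 1]), (5249, [2, 4, 7, 7]), (5377, [0, 3, 3, 1]),
  (5633, [4, 3, 7, 0]), (6149, [1, 7, 7, 5]), (6153, [2, 0, 4, 1]), (6161, [0]),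
  (6209, [0, 4, 4, 3]), (6273, [2, 0, 6, 2]), (6401, [2, 0, 2, 5]), (6657, [0, 0, 5]),
  (7169, [0, 3, 6, 4]), (8199, [1, 3, 0]), (8203, [1, 5, 6, 2]), (8211, [1, 4, 6]),
  (8229, [0, 6, 5]), (8233, [3, 4]), (8241, [0, 4, 2, 1]), (8259, [2, 5, 6, 0]),
  (8289, [2, 1, 4, 2]), (8323, [2, 2]), (8353, [1, 5, 2, 6]), (8451, [1]),
  (8481, [0, 3, 6]), (8707, [5, 5, 6, 2]), (8737, [2, 4, 2, 2]), (9219, [0, 2, 6, 3]),
  (9249, [3, 1, 2, 5]), (10243, [2, 0, 0]), (10273, [4, 2, 0, 4]), (12293, [0, 4, 3, 5]),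
  (12297, [1, 5, 1, 6]), (12305, [3, 0, 3, 3]), (12353, [4, 1, 3, 6]), (12417, [3, 0, 0, 0]),
  (12545, [5, 5, 1]), (12801, [3, 1, 3, 5]), (13313, [1, 5, 1]), (14337, [1, 4, 0]),
  (16391, [3, 5, 6]), (16395, [6, 2, 7]), (16403, [4, 3, 3, 5]), (16421, [7, 1, 4]),
  (16425, [5, 0, 6]), (16433, [2, 7, 3, 7]), (16451, [0, 7, 0, 0]), (16481, [6]),
  (16515, [5, 6, 2, 5]), (16545, [6, 0, 0, 0]), (16643, [5, 1, 5]), (16673, [0, 0, 6, 4]),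
  (16899, [3, 5, 0, 6]), (16929, [0, 6, 3, 7]), (17411, [7, 4, 1]), (17441, [0, 2, 4, 4, 2]),
  (18435, [7, 0, 6]), (18465, [3, 7, 0, 4]), (20485, [1, 7, 2, 2]), (20489, [1, 5, 5, 5]),
  (20497, [4, 4, 2]), (20545, [0, 2, 0, 7]), (20609, [3, 1, 4, 6]), (20737, [5, 3, 6, 1]),
  (20993, [2, 0, 4, 6]), (21505, [0, 2, 6]), (22529, [0, 4, 4, 6]), (24579, [0, 7, 3]),
  (24609, [4, 1]), (28673, [5, 6, 6, 4]), (32781, [4, 4]), (32789, [3, 1, 7, 2]),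
  (32793, [0, 3, 1, 5]), (32803, [0, 5, 6, 2]), (32837, [0, 4, 2, 7]), (32841, [3, 1, 2, 7]),
  (32849, [0, 4, 2, 5]), (32901, [3, 7, 1, 5]), (32905, [2, 1, 5, 3]), (32913, [0, 7, 3, 6]),
  (32961, [3, 5, 6, 3]), (33029, [1, 5, 6, 6]), (33033, [1, 1, 6, 0]), (33041, [0, 6, 5, 5]),
  (33089, [0, 7, 0, 6]), (33153, [1, 5, 2, 7]), (33285, [2, 5, 6, 4]), (33289, [0, 4, 7, 7]),
  (33297, [1, 5, 3, 1]), (33345, [0, 6, 2]), (33409, [5, 7, 0, 4]), (33537, [3, 1, 2]),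
  (33797, [0, 2, 1, 6]), (33801, [5, 1, 6, 0]), (33809, [1, 4, 0, 3]), (33857, [5, 3]),
  (33921, [4, 0, 6, 0]), (34049, [1, 2, 2, 6]), (34305, [4, 3, 1, 3]), (34821, [3, 0, 4]),
  (34825, [0, 0, 6, 0]), (34833, [0, 5, 0, 0]), (34881, [0, 2, 4]), (34945, [1, 3, 5, 6]),
  (35073, [3, 7, 7, 7]), (35329, [6, 0, 0]), (35841, [3, 5, 3, 1]), (36867, [5, 5, 0, 0]),
  (36897, [4, 3, 7]), (40965, [1, 3, 6]), (40969, [2, 6, 6, 6]), (40977, [2, 6, 4, 3]),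
  (41025, [2, 7, 4, 3]), (41089, [1, 6, 0, 3]), (41217, [0, 4, 2, 7, 2]), (41473, [0, 7, 7, 2]),
  (41985, [6, 2, 4, 2]), (43009, [1, 7, 0]), (49157, [0, 0, 4, 0]), (49161, [3, 5, 3, 5]),
  (49169, [6, 0, 7, 2]), (49217, [0, 4, 7, 1]), (49281, [0, 6, 4, 6]), (49409, [3, 1, 4]),
  (49665, [4, 2, 6]), (50177, [0, 0, 7, 1]), (51201, [5, 1, 3, 5]), (57345, [4, 7, 2]),
  (65549, [1, 4, 7, 3]), (65557, [7, 3]), (65561, [4, 4, 4, 7]), (65571, [0, 2, 2, 6]),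
  (65605, [4, 6]), (65609, [5, 2, 5, 5]), (65617, [4, 1, 2, 5]), (65669, [4, 7, 1]),
  (65673, [5, 2]), (65681, [1, 6, 5, 7]), (65729, [0, 4, 0, 5]), (65797, [4, 7, 5, 2]),
  (65801, [0, 3, 0]), (65809, [4, 0, 6, 4]), (65857, [5, 5, 6, 5]), (65921, [1, 2, 4, 1]),
  (66053, [0, 3, 3]), (66057, [0, 3, 7, 7]), (66065, [5, 6, 0]), (66113, [0, 4, 0, 7]),
  (66177, [0, 3, 1, 1]), (66305, [4, 4, 3]), (66565, [2, 0, 2]), (66569, [0, 5, 7, 0]),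
  (66577, [1, 6, 0]), (66625, [0, 3, 4]), (66689, [0, 7, 0, 7]), (66817, [5, 5, 3]),
  (67073, [1, 1, 6, 4]), (67589, [1, 2, 2]), (67593, [0, 0, 2, 7]), (67601, [0, 3, 3, 7]),
  (67649, [0, 0, 0, 7, 2]), (67713, [1, 2]), (67841, [5, 0, 2, 2]), (68097, [4, 1, 3]),
  (68609, [0, 0, 0, 0]), (69635, [2, 1, 6, 4]), (69665, [1, 4, 7, 7]), (73733, [1, 5, 0, 5]),
  (73737, [6, 2, 6]), (73745, [3, 5, 5, 1]), (73793, [0, 7, 3, 0]), (73857, [3, 0, 3, 1]),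
  (73985, [0, 5, 0, 3]), (74241, [0, 3, 0, 7]), (74753, [7, 4]), (75777, [4, 3, 1]),
  (81925, [3, 4, 2]), (81929, [0, 5, 1]), (81937, [0, 5, 6]), (81985, [1, 2, 1, 2]),
  (82049, [0, 4, 7, 0, 0]), (82177, [1, 4, 2, 1]), (82433, [6, 1, 4]), (82945, [0, 0, 6, 5]),
  (83969, [3, 3]), (90113, [0, 2, 5, 7]), (98307, [1, 2, 1]), (98337, [5, 0, 5, 1]),
  (102401, [7, 1, 2]), (131085, [0, 7, 7, 4]), (131093, [0, 6, 4]), (131097, [6, 0, 2, 4]),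
  (131107, [2, 2, 5, 6]), (131141, [2, 1, 1, 2]), (131145, [2, 0, 2, 6]), (131153, [0, 0, 0]),
  (131205, [1, 7, 3, 7]), (131209, [5, 7, 2, 1]), (131217, [3, 3, 7, 7]), (131265, [5, 1, 4]),
  (131333, [0, 4, 1, 5]), (131337, [2, 4, 4, 1]), (131345, [0, 2, 5, 3]), (131393, [0, 7, 7, 1]),
  (131457, [2, 0, 5, 5]), (131589, [0, 3, 4, 7]), (131593, [0, 4, 0, 0]), (131601, [1, 7, 4]),
  (131649, [4, 7, 5]), (131713, [3, 7, 0]), (131841, [2, 7, 2, 1]), (132101, [4, 4, 6]),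
  (132105, [0, 6, 0, 6]), (132113, [6, 2, 1, 3]), (132161, [3, 5, 2, 6]), (132225, [5, 2, 1, 7]),
  (132353, [5, 0, 4, 1]), (132609, [1, 6, 2, 0]), (133125, [4, 0, 2]), (133129, [3, 1]),
  (133137, [1, 2, 2, 7]), (133185, [3, 1, 3, 4]), (133249, [0, 6, 3]), (133377, [3, 3, 0]),
  (133633, [2, 6, 6, 1]), (134145, [1, 6, 2, 6]), (135171, [0, 3, 4, 0]), (135201, [6, 2, 0, 3]),
  (139269, [2, 7, 5]), (139273, [4, 3, 7, 2]), (139281, [6, 2, 0]), (139329, [6, 4, 3]),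
  (139393, [6, 6, 2]), (139521, [0, 5]), (139777, [0, 5, 5, 7, 3]), (140289, [1, 3, 5, 1]),
  (141313, [0, 5, 6, 0]), (147461, [2, 5, 1, 3]), (147465, [0, 0, 0, 7]), (147473, [1, 2, 1, 6]),
  (147521, [4, 0, 4]), (147585, [1, 7, 3]), (147713, [0, 2, 1]), (147969, [0, 5, 7, 2]),
  (148481, [5, 2, 7]), (149505, [2, 0, 3, 4]), (155649, [1, 2, 0, 2]), (163843, [1, 5, 1, 2]),
  (163873, [5, 6, 3]), (167937, [4, 0, 2, 1]), (196611, [4, 7, 5, 1]), (196641, [0, 5, 5, 3]),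
  (200705, [1, 7, 4, 3]), (229377, [3, 0, 3]), (262157, [6, 5, 7]), (262165, [0, 3, 5, 2]),
  (262169, [1, 3, 6, 3]), (262179, [0, 3, 1, 6]), (262213, [7, 7, 7]), (262217, [3, 7, 1]),
  (262225, [0, 7, 5]), (262277, [3, 4, 1, 5]), (262281, [2, 4, 7, 5]), (262289, [0, 0, 5, 5]),
  (262337, [3]), (262405, [6, 2, 2]), (262409, [2, 2, 7]), (262417, [0, 0, 7, 1, 2]),
  (262465, [1, 2, 5]), (262529, [0, 6, 2, 4]), (262661, [7, 1, 7]), (262665, [1, 1, 1]),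
  (262673, [0, 5, 7, 7]), (262721, [1, 4, 6, 4]), (262785, [5, 5, 2]), (262913, [2, 0, 6, 1]),
  (263173, [0, 0]), (263177, [2, 4]), (263185, [7, 2, 0]), (263233, [2, 4, 7, 4]),
  (263297, [2, 5]), (263425, [0, 0, 5, 0]), (263681, [7, 7, 1]), (264197, [6, 2]),
  (264201, [0, 0, 7, 1, 5]), (264209, [2, 2, 6, 3]), (264257, [0, 2, 6, 5]), (264321, [5, 6, 1]),
  (264449, [3, 5, 2]), (264705, [2, 4, 2]), (265217, [3, 0, 7]), (266243, [5, 6, 2]),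
  (266273, [1, 2, 0]), (270341, [4, 6, 1, 7]), (270345, [2, 2, 5, 2]), (270353, [7]),
  (270401, [2, 4, 4]), (270465, [0, 7, 4, 3]), (270593, [2, 7, 2, 4]), (270849, [0, 6, 4, 2]),
  (271361, [1, 7, 7, 0]), (272385, [5, 0, 4]), (278533, [0, 3, 5, 0]), (278537, [7, 3, 5]),
  (278545, [2, 5, 2, 7]), (278593, [6, 4]), (278657, [0, 5, 7, 3]), (278785, [3, 4, 6, 1]),
  (279041, [1, 7, 1, 3]), (279553, [2, 5, 3, 1]), (280577, [4, 3, 0]), (286721, [3, 6, 5]),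
  (294915, [1, 5, 0]), (294945, [2, 5, 3]), (299009, [2, 6, 0, 5]), (327683, [6, 2, 0, 7]),
  (327713, [6, 6, 3]), (331777, [0, 5, 7]), (360449, [0, 2, 0, 6]), (393219, [1, 5, 7]),
  (393249, [7, 0, 5]), (397313, [3, 5, 1, 1]), (425985, [3, 0, 4, 1]), (458753, [0, 2, 4, 0]),
  (524301, [3, 0, 7, 0]), (524309, [4, 4, 4, 2]), (524313, [3, 0, 6, 5]), (524323, [2, 6, 0]),
  (524357, [5, 6]), (524361, [2, 4, 2, 0]), (524369, [2, 4, 0, 4]), (524421, [4, 7, 0]),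
  (524425, [0, 3, 5]), (524433, [2, 1, 4]), (524481, [0, 2, 7, 2, 6]), (524549, [0, 5, 3, 3]),
  (524553, [4]), (524561, [2, 1, 5, 7]), (524609, [5, 1, 3]), (524673, [1, 5, 3, 0]),
  (524805, [7, 3, 1]), (524809, [1, 1, 7]), (524817, [0, 5, 6, 2, 5]), (524865, [0, 0, 4, 7, 4]),
  (524929, [4, 3]), (525057, [0, 6, 2, 1]), (525317, [0, 3, 7, 2]), (525321, [2, 0, 2, 2]),
  (525329, [0, 3, 1, 2]), (525377, [5, 2, 4, 4]), (525441, [1, 2, 4, 4]), (525569, [3, 1, 4, 7]),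
  (525825, [0, 2, 1, 6, 2]), (526341, [0, 0, 0, 6]), (526345, [0, 2, 7, 0]), (526353, [2, 7, 0, 7]),
  (526401, [0, 4, 7]), (526465, [2, 5, 2, 2]), (526593, [1, 4, 3]), (526849, [0, 0, 7]),
  (527361, [0, 2, 6, 1]), (528387, [2, 2, 5, 5]), (528417, [6, 6]), (532485, [1, 6]),
  (532489, [7, 7]), (532497, [3, 5]), (532545, [0, 3, 7]), (532609, [1, 1, 6, 5]),
  (532737, [5, 0, 2]), (532993, [1, 7, 2, 1]), (533505, [3, 6, 4, 3]), (534529, [6, 6, 0]),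
  (540677, [0, 5, 6, 1]), (540681, [0, 4, 2]), (540689, [1, 2, 1, 5]), (540737, [4, 2, 2, 2]),
  (540801, [6, 2, 1]), (540929, [0, 3, 4, 3, 5]), (541185, [0, 5, 1, 4]), (541697, [1, 5, 1, 1]),
  (542721, [5, 3, 0]), (548865, [5, 6, 6]), (557059, [4, 0, 0, 7]), (557089, [3, 7, 5]),
  (561153, [1, 2, 0, 7]), (589827, [3, 4, 6]), (589857, [2, 0, 4]), (593921, [4, 1, 6]),
  (622593, [5, 3, 5]), (655363, [0, 2, 4, 4, 7]), (655393, [0, 4, 4]), (659457, [6, 1, 1]),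
  (688129, [1, 4, 0, 2]), (720897, [0, 2]), (786435, [4, 6, 4]), (786465, [2, 4, 3]),
  (790529, [0, 5, 1, 5]), (819201, [1, 2, 2, 4]), (851969, [5, 1, 6]), (917505, [2, 7, 4, 4]),
  (1048589, [4, 0, 7]), (1048597, [1, 1, 3, 7]), (1048601, [3, 3, 6]), (1048611, [6, 1, 3]),
  (1048645, [4, 6, 2]), (1048649, [3, 6, 4]), (1048657, [5, 3, 0, 5]), (1048709, [2, 0, 3, 7]),
  (1048713, [0, 6, 5, 6]), (1048721, [4, 7, 1, 5]), (1048769, [0, 3, 6, 5]), (1048837, [1, 6, 3, 4]),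
  (1048841, [2, 5, 6]), (1048849, [0, 3, 7, 4]), (1048897, [6, 0, 7]), (1048961, [6, 4, 2]),
  (1049093, [4, 1, 4, 7]), (1049097, [7, 3, 4]), (1049105, [2, 0, 0, 2]), (1049153, [2, 6]),
  (1049217, [3, 3, 1]), (1049345, [1, 3, 3, 6]), (1049605, [1, 1, 2]), (1049609, [2, 2, 1]),
  (1049617, [0, 0, 3]), (1049665, [1, 4, 3, 3]), (1049729, [1, 6, 6]), (1049857, [2, 0]),
  (1050113, [1, 6, 6, 0]), (1050629, [7, 1]), (1050633, [3, 7, 3, 0]), (1050641, [1, 7, 7, 4]),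
  (1050689, [1, 3, 7]), (1050753, [0, 4, 3, 3]), (1050881, [3, 6, 1]), (1051137, [1, 4, 0, 5]),
  (1051649, [5, 3, 6]), (1052675, [3, 4, 1, 1]), (1052705, [1, 6, 5]), (1056773, [7, 2]),
  (1056777, [1, 7, 4, 6]), (1056785, [1, 3, 6, 1]), (1056833, [2, 2, 7, 4]), (1056897, [2, 6, 1]),
  (1057025, [5, 6, 5, 5]), (1057281, [4, 0, 3, 7]), (1057793, [0, 3, 4, 6]), (1058817, [2, 2, 4]),
  (1064965, [0, 3, 3, 6]), (1064969, [3, 7, 4]), (1064977, [6, 4, 3, 6]), (1065025, [2, 7]),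
  (1065089, [1, 2, 2, 1]), (1065217, [4, 3, 3]), (1065473, [1, 2, 6, 2]), (1065985, [0, 4, 3]),
  (1067009, [5, 5]), (1073153, [1, 4, 4]), (1081347, [2, 2, 2, 1]), (1081377, [4, 4, 4]),
  (1085441, [7, 0, 2]), (1114115, [3, 4, 1]), (1114145, [5, 6, 5]), (1118209, [2, 1, 3, 7]),
  (1146881, [2, 1, 6]), (1179651, [2, 1, 6, 1]), (1179681, [5, 2, 6]), (1183745, [0, 0, 0, 3]),
  (1212417, [1, 6, 3]), (1245185, [2, 1, 7]), (1310723, [0, 2, 5, 6]), (1310753, [0, 3, 1, 3, 6]),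
  (1314817, [6, 1]), (1343489, [1, 1, 2, 5]), (1376257, [0, 2, 4, 2]), (1441793, [7, 1, 5]),
  (1572867, [5, 2, 0]), (1572897, [3, 0, 5]), (1576961, [4, 7, 7]), (1605633, [0, 7, 5, 0]),
  (1638401, [2, 2, 5, 3]), (1703937, [1, 2, 6, 3]), (1835009, [0, 2, 5, 1]), (2097165, [0, 0, 6, 4, 7]),
  (2097173, [0, 2, 4, 4]), (2097177, [1, 1, 1, 2]), (2097187, [3, 0, 3, 6]), (2097221, [0, 0, 6, 5, 3]),
  (2097225, [0, 4, 4, 0]), (2097233, [1, 5, 2]), (2097285, [1, 1, 3, 5]), (2097289, [2, 5, 7]),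
  (2097297, [2, 1, 2, 2]), (2097345, [7, 0]), (2097413, [2, 1, 4, 1]), (2097417, [0, 4, 0, 7, 0]),
  (2097425, [5, 0, 5, 6]), (2097473, [0, 2, 0, 3]), (2097537, [0, 0, 2, 6, 1]), (2097669, [0, 2, 6, 4]),
  (2097673, [5, 6, 0, 0]), (2097681, [1, 5, 6]), (2097729, [3, 0, 3, 5]), (2097793, [0, 7, 4]),
  (2097921, [0, 3, 1]), (2098181, [3, 1, 7]), (2098185, [6, 6, 0, 4]), (2098193, [1, 3, 6, 0]),
  (2098241, [1, 6, 3, 5]), (2098305, [1, 2, 0, 4]), (2098433, [1, 2, 6]), (2098689, [0, 5, 3, 0]),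
  (2099205, [3, 5, 1]), (2099209, [6, 4, 2, 2]), (2099217, [4, 4, 0]), (2099265, [0, 3, 1, 2, 6]),
  (2099329, [7, 4, 4]), (2099457, [3, 0, 6]), (2099713, [1, 4, 0, 7]), (2100225, [6, 5, 3]),
  (2101251, [5, 1]), (2101281, [0, 0, 0, 5]), (2105349, [0, 0, 6, 4, 0]), (2105353, [6, 4, 4]),
  (2105361, [3, 0, 4, 0]), (2105409, [2, 1, 1, 3]), (2105473, [1, 1, 7, 7]), (2105601, [2, 7, 4]),
  (2105857, [0, 2, 5]), (2106369, [2, 1, 2, 7]), (2107393, [4, 0, 6, 3]), (2113541, [3, 5, 7, 5]),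
  (2113545, [0, 2, 4, 6]), (2113553, [1, 7, 7, 7]), (2113601, [5, 6, 3, 5]), (2113665, [3, 3, 7]),
  (2113793, [0, 6, 5, 3]), (2114049, [0, 3, 1, 3]), (2114561, [0, 2, 6, 6]), (2115585, [5, 7, 1]),
  (2121729, [0, 4]), (2129923, [1, 1]), (2129953, [2, 4, 1, 6]), (2134017, [3, 1, 3]),
  (2162691, [0, 0, 4]), (2162721, [5, 3, 3]), (2166785, [0, 3, 0, 0]), (2195457, [6, 1, 6, 0]),
  (2228227, [2, 0, 7, 0]), (2228257, [0, 0, 5, 6]), (2232321, [1, 1, 5, 6]), (2260993, [7, 0, 4]),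
  (2293761, [3, 7, 3]), (2359299, [1, 2, 0, 6]), (2359329, [4, 1, 4, 1]), (2363393, [3, 3, 0, 6]),
  (2392065, [0, 0, 2, 6]), (2424833, [0, 5, 5]), (2490369, [0, 4, 7, 0]), (2621443, [3, 7, 0, 5]),
  (2621473, [1, 7]), (2625537, [0, 6, 3, 3]), (2654209, [1, 1, 2, 1]), (2686977, [1, 2, 5, 1]),
  (2752513, [1, 7, 3, 1]), (2883585, [2, 7, 0, 0]), (3145731, [2, 2, 6, 2]), (3145761, [6, 0, 2]),
  (3149825, [2, 5, 7, 1]), (3178497, [3, 1, 5]), (3211265, [6, 2, 4]), (3276801, [0, 5, 0, 2]),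
  (3407873, [3, 1, 6]), (3670017, [1, 7, 2]), (4194317, [7, 7, 5, 0]), (4194325, [1, 5, 1, 7]),
  (4194329, [3, 5, 2, 4]), (4194339, [1, 2, 6, 6]), (4194373, [2, 2, 2]), (4194377, [1, 4, 2]),
  (4194385, [0, 0, 7, 7]), (4194437, [1, 5, 1, 5]), (4194441, [4, 2, 2]), (4194449, [5, 2, 5]),
  (4194497, [5, 0, 2, 4]), (4194565, [2, 0, 5, 3]), (4194569, [7, 1, 5, 0]), (4194577, [4, 2, 0]),
  (4194625, [2, 0, 7, 5]), (4194689, [0, 4, 1, 3]), (4194821, [5, 5, 7]), (4194825, [3, 7, 2]),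
  (4194833, [0, 7, 0]), (4194881, [1, 4]), (4194945, [1, 1, 5, 1]), (4195073, [4, 0, 0, 5]),
  (4195333, [6, 4, 0]), (4195337, [1, 5, 5]), (4195345, [1, 7, 1, 2]), (4195393, [2, 4, 1]),
  (4195457, [0, 5, 6, 6]), (4195585, [4, 6, 3]), (4195841, [3, 1, 4, 3]), (4196357, [6, 5, 2]),
  (4196361, [1, 7, 0, 0]), (4196369, [5, 2, 1]), (4196417, [2, 2, 5, 0]), (4196481, [2, 7, 3]),
  (4196609, [0, 3]), (4196865, [2, 4, 7]), (4197377, [1, 5, 5, 7]), (4198403, [4, 7, 0, 6]),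
  (4198433, [7, 7, 5]), (4202501, [0, 2, 0]), (4202505, [5, 2, 2]), (4202513, [4, 7, 3]),
  (4202561, [0, 0, 2]), (4202625, [0, 5, 5, 7]), (4202753, [0, 7, 7, 3]), (4203009, [2, 1, 5]),
  (4203521, [1, 1, 1, 1]), (4204545, [3, 5, 5, 5]), (4210693, [0, 2, 7, 2]), (4210697, [4, 0, 6]),
  (4210705, [5, 0]), (4210753, [1, 2, 4]), (4210817, [2, 6, 5]), (4210945, [3, 1, 5, 3]),
  (4211201, [4, 3, 5, 5]), (4211713, [6, 0, 6, 3]), (4212737, [7, 0, 7]), (4218881, [0, 7, 7, 0]),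
  (4227075, [7, 1, 3]), (4227105, [1, 1, 5]), (4231169, [0, 4, 4, 2]), (4259843, [4, 1, 3, 0]),
  (4259873, [7, 4, 2]), (4263937, [7, 0, 0]), (4292609, [0, 3, 4, 2]), (4325379, [7, 0, 3]),
  (4325409, [6, 1, 3, 3]), (4329473, [0, 5, 7, 1]), (4358145, [6, 4, 7]), (4390913, [0, 2, 7]),
  (4456451, [2, 7, 4, 6]), (4456481, [5, 0, 2, 0]), (4460545, [0, 7, 5, 6]), (4489217, [2, 2, 1, 5]),
  (4521985, [0, 3, 6, 0]), (4587521, [2, 4, 4, 7]), (4718595, [1, 5]), (4718625, [1, 6, 2, 1]),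
  (4722689, [0, 3, 1, 7]), (4751361, [1, 3, 5]), (4784129, [0, 2, 4, 0, 4]), (4849665, [5, 0, 5]),
  (4980737, [2, 2, 5]), (5242883, [2, 1, 2]), (5242913, [0, 3, 7, 5]), (5246977, [3, 5, 5]),
  (5275649, [2, 0, 5]), (5308417, [2, 4, 0]), (5373953, [3, 6, 1, 5]), (5505025, [5, 7]),
  (5767169, [5, 5, 0]), (6291459, [0, 3, 5, 6]), (6291489, [0, 6]), (6295553, [0, 0, 4, 2]),
  (6324225, [0, 4, 2, 6]), (6356993, [2, 1, 2, 4]), (6422529, [1, 4, 0, 6]), (6553601, [3, 1, 2, 1]),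
  (6815745, [3, 1, 7, 1]), (7340033, [0, 7, 7]), (8388621, [5, 2, 1, 1]), (8388629, [4, 2]),
  (8388633, [4, 7]), (8388643, [1, 4, 4, 6]), (8388677, [0, 7]), (8388681, [1, 7, 2, 6]),
  (8388689, [2, 0, 2, 0]), (8388741, [5, 7, 0]), (8388745, [3, 3, 6, 5]), (8388753, [0, 0, 7, 3]),
  (8388801, [4, 1, 6, 1]), (8388869, [1, 4, 4, 2]), (8388873, [0, 0, 7, 2]), (8388881, [7, 3, 0]),
  (8388929, [1, 3, 5, 7]), (8388993, [6, 0, 0, 2]), (8389125, [4, 4, 0, 2]), (8389129, [1, 5, 3]),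
  (8389137, [4, 6, 0]), (8389185, [7, 2, 5]), (8389249, [4, 4, 4, 1]), (8389377, [0, 2, 1, 4]),
  (8389637, [5, 2, 4]), (8389641, [5, 3, 7]), (8389649, [2, 6, 4]), (8389697, [0, 3, 6, 1]),
  (8389761, [5, 0, 6, 3]), (8389889, [0, 3, 4, 3]), (8390145, [1, 3, 6, 5]), (8390661, [2, 4, 0, 6]),
  (8390665, [2, 7, 0, 4]), (8390673, [2, 1, 3]), (8390721, [6, 5, 1]), (8390785, [6, 0, 6]),
  (8390913, [3, 4, 1, 6]), (8391169, [2, 1]), (8391681, [0, 4, 1, 1]), (8392707, [6, 6, 4]),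
  (8392737, [5, 3, 4]), (8396805, [2, 0, 5, 6]), (8396809, [0, 5, 1, 2]), (8396817, [1, 2, 2, 0]),
  (8396865, [3, 1, 5, 6]), (8396929, [3, 5, 3, 6]), (8397057, [2, 0, 7, 3]), (8397313, [0, 0, 3, 4]),
  (8397825, [4, 2, 2, 4]), (8398849, [1, 5, 7, 2]), (8404997, [5]), (8405001, [0, 5, 3, 1]),
  (8405009, [6, 1, 6]), (8405057, [0, 7, 5, 5]), (8405121, [2, 0, 6, 6]), (8405249, [0, 0, 5, 6, 2]),
  (8405505, [1, 6, 2]), (8406017, [1, 5, 1, 4]), (8407041, [6, 6, 3, 4]), (8413185, [2, 5, 3, 4]),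
  (8421379, [5, 3, 6, 3]), (8421409, [2, 6, 1, 6]), (8425473, [0, 0, 7, 1, 4]), (8454147, [2]),
  (8454177, [1, 2, 4, 0]), (8458241, [2, 4, 2, 1]), (8486913, [4, 4, 7]), (8519683, [1, 3, 7, 7]),
  (8519713, [3, 5, 7]), (8523777, [0, 6, 4, 3]), (8552449, [0, 3, 7, 3]), (8585217, [4, 1, 2, 2]),
  (8650755, [0, 4, 3, 6]), (8650785, [2, 1, 6, 3]), (8654849, [3, 0, 0]), (8683521, [1, 6, 6, 6]),
  (8716289, [1, 7, 1]), (8781825, [0, 0, 3, 6]), (8912899, [5, 5, 6]), (8912929, [2, 5, 1]),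
  (8916993, [0, 3, 0, 5]), (8945665, [3, 0, 4, 7]), (8978433, [1, 3]), (9043969, [2, 0, 6, 3]),
  (9175041, [1, 3, 7, 1]), (9437187, [2, 5, 7, 0]), (9437217, [0, 2, 5, 2]), (9441281, [2, 1, 1]),
  (9469953, [3, 5, 3]), (9502721, [6, 0]), (9568257, [7, 7, 3]), (9699329, [2, 0, 6]),
  (9961473, [5, 7, 2]), (10485763, [1, 4, 4, 0]), (10485793, [7, 2, 6]), (10489857, [4, 0]),
  (10518529, [2, 0, 3]), (10551297, [1, 3, 3]), (10616833, [1, 1, 3]), (10747905, [0, 2, 1, 5]),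
  (11010049, [5, 0, 7]), (11534337, [0, 0, 6, 2]), (12582915, [0, 0, 7, 0]), (12582945, [4, 0, 3]),
  (12587009, [2, 5, 2, 1]), (12615681, [0, 6, 0, 5]), (12648449, [2, 6, 6]), (12713985, [0, 7, 0, 5]),
  (12845057, [0, 7, 0, 3]), (13107201, [1, 7, 0, 7]), (13631489, [1, 4, 6, 0]), (14680065, [4, 1, 4])]

theorem m0_ok : wtB 12 m0 = true := by decide +kernel

theorem gens_ok : gensBD m0 gens = true := by decide +kernel

theorem dA : distB [m0, 16777215 ^^^ m0] = true := by decide +kernel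

theorem sB_ok : and (tetChk sB1) (and (tetChk sB2) (tetChk sB3)) = true := by decide +kernel

theorem sS1_ok : sextB sS1 = true := by decide +kernel

theorem sC1_ok : sC1.all (fun q => and (tetChk q.1) (eqvS (applyW pmL gens q.2 sB1) q.1)) = true := by decide +kernel

theorem sC1_inc : incFrom 0 (sC1.map (fun q => q.1)) = true := by decide +kernel

theorem sC1_len : sC1.length = 396 := by decide +kernel

theorem sD1 : distB sS1 = true := by decide +kernel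

theorem sS2_ok : sextB sS2 = true := by decide +kernel

theorem sC2_ok : sC2.all (fun q => and (tetChk q.1) (eqvS (applyW pmL gens q.2 sB2) q.1)) = true := by decide +kernel

theorem sC2_inc : incFrom 0 (sC2.map (fun q => q.1)) = true := by decide +kernel

theorem sC2_len : sC2.length = 495 := by decide +kernel

theorem sD2 : distB sS2 = true := by decide +kernel

theorem sS3_ok : sextB sS3 = true := by decide +kernel

theorem sC3_ok : sC3.all (fun q => and (tetChk q.1) (eqvS (applyW pmL gens q.2 sB3) q.1)) = true := by decide +kernel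

theorem sC3_inc : incFrom 0 (sC3.map (fun q => q.1)) = true := by decide +kernel

theorem sC3_len : sC3.length = 880 := by decide +kernel

theorem sD3 : distB sS3 = true := by decide +kernel

theorem std_s : Orb3 sextets ({support₂ (word m0), Finset.univ \ support₂ (word m0)} : Finset (Finset GolayPt)) 396 495 880 := by
  have hg := gensD_spec gens_ok
  have hb := sB_ok
  simp only [Bool.and_eq_true] at hb
  have eA : ({support₂ (word m0), Finset.univ \ support₂ (word m0)} : Finset (Finset GolayPt)) = finOf [m0, 16777215 ^^^ m0] := pair_eq_finOf m0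
  have eB1 : Cfsg.Agent.S1550.sx (support₂ (word sB1)) = finOf sS1 := sx_eq_finOf sS1_ok (by decide)
  have eB2 : Cfsg.Agent.S1550.sx (support₂ (word sB2)) = finOf sS2 := sx_eq_finOf sS2_ok (by decide)
  have eB3 : Cfsg.Agent.S1550.sx (support₂ (word sB3)) = finOf sS3 := sx_eq_finOf sS3_ok (by decide)
  apply orb3_of sextets sextets_inv ({support₂ (word m0), Finset.univ \ support₂ (word m0)} : Finset (Finset GolayPt)) (fun T => T) (fun T => T) (fun g => rfl) (fun g x => rfl)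
    (Cfsg.Agent.S1550.sx (support₂ (word sB1))) (Cfsg.Agent.S1550.sx (support₂ (word sB2))) (Cfsg.Agent.S1550.sx (support₂ (word sB3)))
    (Cfsg.Agent.S1550.sx_spec _ (tetChk_spec hb.1).1).1 (Cfsg.Agent.S1550.sx_spec _ (tetChk_spec hb.2.1).1).1 (Cfsg.Agent.S1550.sx_spec _ (tetChk_spec hb.2.2).1).1
    396 495 880 Cfsg.Agent.S1550.result.2
  · rw [← sC1_len]
    exact lower_sext _ gens hg sB1 hb.1 sC1 sC1_ok sC1_inc
  · rw [← sC2_len]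
    exact lower_sext _ gens hg sB2 hb.2.1 sC2 sC2_ok sC2_inc
  · rw [← sC3_len]
    exact lower_sext _ gens hg sB3 hb.2.2 sC3 sC3_ok sC3_inc
  · show iotaF (({support₂ (word m0), Finset.univ \ support₂ (word m0)} : Finset (Finset GolayPt))) (Cfsg.Agent.S1550.sx (support₂ (word sB1))) ≠ iotaF (({support₂ (word m0), Finset.univ \ support₂ (word m0)} : Finset (Finset GolayPt))) (Cfsg.Agent.S1550.sx (support₂ (word sB2)))
    rw [eA, eB1, eB2]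
    exact iota_ne dA sD1 sD2 (by decide +kernel)
  · show iotaF (({support₂ (word m0), Finset.univ \ support₂ (word m0)} : Finset (Finset GolayPt))) (Cfsg.Agent.S1550.sx (support₂ (word sB1))) ≠ iotaF (({support₂ (word m0), Finset.univ \ support₂ (word m0)} : Finset (Finset GolayPt))) (Cfsg.Agent.S1550.sx (support₂ (word sB3)))
    rw [eA, eB1, eB3]
    exact iota_ne dA sD1 sD3 (by decide +kernel)
  · show iotaF (({support₂ (word m0), Finset.univ \ support₂ (word m0)} : Finset (Finset GolayPt))) (Cfsg.Agent.S1550.sx (support₂ (word sB2))) ≠ iotaF (({support₂ (word m0), Finset.univ \ support₂ (word m0)} : Finset (Finset GolayPt))) (Cfsg.Agent.S1550.sx (support₂ (word sB3)))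
    rw [eA, eB2, eB3]
    exact iota_ne dA sD2 sD3 (by decide +kernel)

/-- The setwise stabiliser, in the group of the length-24 code, of a complementary pair of dodecads has exactly three orbits on the 1771 sextets, of sizes 396, 495 and 880. -/
theorem result (d : Finset Cfsg.GolayPt) (hd : d ∈ Cfsg.dodecads) : ∃ X₁ ∈ Cfsg.sextets, ∃ X₂ ∈ Cfsg.sextets, ∃ X₃ ∈ Cfsg.sextets, (MulAction.orbit ↥(MulAction.stabilizer Cfsg.M24 ({d, Finset.univ \ d} : Finset (Finset Cfsg.GolayPt))) X₁).ncard = 396 ∧ (MulAction.orbit ↥(MulAction.stabilizer Cfsg.M24 ({d, Finset.univ \ d} : Finset (Finset Cfsg.GolayPt))) X₂).ncard = 495 ∧ (MulAction.orbit ↥(MulAction.stabilizer Cfsg.M24 ({d, Finset.univ \ d} : Finset (Finset Cfsg.GolayPt))) X₃).ncard = 880 ∧ Cfsg.sextets = MulAction.orbit ↥(MulAction.stabilizer Cfsg.M24 ({d, Finset.univ \ d} : Finset (Finset Cfsg.GolayPt)))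 X₁ ∪ MulAction.orbit ↥(MulAction.stabilizer Cfsg.M24 ({d, Finset.univ \ d} : Finset (Finset Cfsg.GolayPt))) X₂ ∪ MulAction.orbit ↥(MulAction.stabilizer Cfsg.M24 ({d, Finset.univ \ d} : Finset (Finset Cfsg.GolayPt))) X₃ := by
  have hm : support₂ (word m0) ∈ dodecads := (wtB_spec m0_ok).1
  obtain ⟨k, hk, e⟩ := dod_trans hm hd
  have h1 := std_s.smul sextets_inv hk
  have e' : k • ({support₂ (word m0), Finset.univ \ support₂ (word m0)} :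
      Finset (Finset GolayPt)) = {d, Finset.univ \ d} := by
    rw [Finset.smul_finset_insert, Finset.smul_finset_singleton, Finset.smul_finset_sdiff,
      Finset.smul_finset_univ, e]
  rw [e'] at h1
  obtain ⟨X₁, a1, X₂, a2, X₃, a3, c1, c2, c3, u⟩ := h1
  refine ⟨X₁, a1, X₂, a2, X₃, a3, ?_, ?_, ?_, ?_⟩
  · rw [orb_eq]; exact c1
  · rw [orb_eq]; exact c2
  · rw [orb_eq]; exact c3
  · rw [orb_eq, orb_eq, orb_eq]; exact u
end Cfsg.Agent.S5617
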