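import Cfsg.Statements.S5726

set_option autoImplicit false
open Pointwise
open Cfsg

namespace Cfsg.Agent.S5726

theorem stab_sub {G Ω : Type*} [Group G] [MulAction G Ω] (P : Subgroup G) (ω : Ω) :
    MulAction.stabilizer ↥P ω = (MulAction.stabilizer G ω).subgroupOf P := by
  ext x
  rw [MulAction.mem_stabilizer_iff, Subgroup.mem_subgroupOf, MulAction.mem_stabilizer_iff]
  rfl

theorem sylow_orbit_dvd {G Ω : Type*} [Group G] [Finite G] [MulAction G Ω]
    [MulAction.IsPretransitive G Ω] (p : ℕ) [Fact p.Prime] (P : Sylow p G) (e : ℕ)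
    (he : p ^ e ∣ Nat.card Ω) (ω : Ω) :
    p ^ e ∣ (MulAction.stabilizer ↥(P : Subgroup G) ω).index := by
  rw [stab_sub]
  have h1 : (MulAction.stabilizer G ω).index = Nat.card Ω :=
    MulAction.index_stabilizer_of_transitive G ω
  have h2 : ((MulAction.stabilizer G ω) ⊓ P).relIndex P * (P : Subgroup G).index =
      ((MulAction.stabilizer G ω) ⊓ P).index := Subgroup.relIndex_mul_index inf_le_right
  have h3 : (MulAction.stabilizer G ω).index ∣ ((MulAction.stabilizer G ω) ⊓ P).index :=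
    Subgroup.index_dvd_of_le inf_le_left
  have h4 : p ^ e ∣ ((MulAction.stabilizer G ω) ⊓ P).relIndex P * (P : Subgroup G).index := by
    rw [h2]; exact (h1 ▸ he).trans h3
  have hcop : Nat.Coprime (p ^ e) (P : Subgroup G).index :=
    Nat.Coprime.pow_left _ ((Nat.Prime.coprime_iff_not_dvd Fact.out).mpr P.not_dvd_index)
  have := hcop.dvd_of_dvd_mul_right h4
  rwa [Subgroup.inf_relIndex_right] at this

theorem result {G Ω : Type*} [Group G] [Finite G] [MulAction G Ω] [FaithfulSMul G Ω] [Fintype Ω] (htr : MulAction.IsPretransitive G Ω)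
    (p k : ℕ) (hp : p.Prime) (hk : 1 ≤ k) (hΩ : Fintype.card Ω = p ^ k) :
    ∃ g : G, orderOf g = p ∧ ∀ ω : Ω, g • ω ≠ ω := by
  have : Fact p.Prime := ⟨hp⟩
  have hcard : Nat.card Ω = p ^ k := by rw [Nat.card_eq_fintype_card, hΩ]
  obtain ⟨P⟩ : Nonempty (Sylow p G) := inferInstance
  have hidx : ∀ ω : Ω, (MulAction.stabilizer ↥(P : Subgroup G) ω).index = p ^ k := by
    intro ω
    apply Nat.le_antisymm
    · rw [MulAction.index_stabilizer, ← hcard, ← Set.ncard_univ]
      exact Set.ncard_le_ncard (Set.subset_univ _) Set.finite_univ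
    · exact Nat.le_of_dvd (Nat.pos_of_ne_zero Subgroup.index_ne_zero_of_finite)
        (sylow_orbit_dvd p P k (hcard ▸ dvd_rfl) ω)
  have horb : ∀ ω : Ω, MulAction.orbit ↥(P : Subgroup G) ω = Set.univ := by
    intro ω
    rw [Set.eq_univ_iff_ncard, ← MulAction.index_stabilizer, hidx, hcard]
  have hΩne : Nonempty Ω := by
    apply Nat.card_pos_iff.mp (hcard ▸ pow_pos hp.pos k) |>.1
  obtain ⟨ω₀⟩ := hΩne
  have hP1 : 1 < Nat.card ↥(P : Subgroup G) := by
    have h1 : (MulAction.stabilizer ↥(P : Subgroup G) ω₀).index ∣ Nat.card ↥(P : Subgroup G) :=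
      Subgroup.index_dvd_card _
    rw [hidx] at h1
    have h2 : 1 < p ^ k := Nat.one_lt_pow (by omega) hp.one_lt
    exact lt_of_lt_of_le h2 (Nat.le_of_dvd Nat.card_pos h1)
  have hPnt : Nontrivial ↥(P : Subgroup G) := (Finite.one_lt_card_iff_nontrivial).mp hP1
  have hcnt : Nontrivial (Subgroup.center ↥(P : Subgroup G)) := P.isPGroup'.center_nontrivial
  have hcp : IsPGroup p (Subgroup.center ↥(P : Subgroup G)) := P.isPGroup'.to_subgroup _
  have hdvd : p ∣ Nat.card (Subgroup.center ↥(P : Subgroup G)) := by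
    rcases hcp.card_eq_or_dvd with h | h
    · exact absurd h (Finite.one_lt_card_iff_nontrivial.mpr hcnt).ne'
    · exact h
  obtain ⟨z, hz⟩ := exists_prime_orderOf_dvd_card' p hdvd
  refine ⟨((z : ↥(P : Subgroup G)) : G), ?_, ?_⟩
  · rw [Subgroup.orderOf_coe, Subgroup.orderOf_coe, hz]
  · intro ω hω
    have hall : ∀ ω' : Ω, ((z : ↥(P : Subgroup G)) : G) • ω' = ω' := by
      intro ω'
      have hmem : ω' ∈ MulAction.orbit ↥(P : Subgroup G) ω := by rw [horb]; trivial
      obtain ⟨y, rfl⟩ := hmem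
      have hzc := Subgroup.mem_center_iff.mp z.2 y
      show (z : ↥(P : Subgroup G)) • (y • ω) = y • ω
      rw [smul_smul, ← hzc, mul_smul]
      congr 1
    have h1 : ((z : ↥(P : Subgroup G)) : G) = 1 :=
      FaithfulSMul.eq_of_smul_eq_smul (α := Ω) (fun ω' => by rw [hall, one_smul])
    have h2 : orderOf ((z : ↥(P : Subgroup G)) : G) = p := by
      rw [Subgroup.orderOf_coe, Subgroup.orderOf_coe, hz]
    rw [h1, orderOf_one] at h2
    exact hp.one_lt.ne h2

end Cfsg.Agent.S5726
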