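import Cfsg.Statements.S5727
import Cfsg.Agent.S5726

set_option autoImplicit false
open Pointwise
open Cfsg

namespace Cfsg.Agent.S5727

theorem stab_smul_of_normal {P Ω : Type*} [Group P] [MulAction P Ω] (ω : Ω)
    (hN : (MulAction.stabilizer P ω).Normal) (y : P) :
    MulAction.stabilizer P (y • ω) = MulAction.stabilizer P ω := by
  rw [MulAction.stabilizer_smul_eq_stabilizer_map_conj]
  ext x
  rw [Subgroup.mem_map_equiv, MulAut.conj_symm_apply]
  constructor
  · intro h
    have := hN.conj_mem _ h y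
    simpa [mul_assoc] using this
  · intro h
    have := hN.conj_mem _ h y⁻¹
    simpa [mul_assoc] using this

theorem result {G Ω : Type*} [Group G] [Finite G] [MulAction G Ω] [FaithfulSMul G Ω] [Fintype Ω] (htr : MulAction.IsPretransitive G Ω)
    (p m : ℕ) (hp : p.Prime) (hm : 1 ≤ m) (hmp : m ≤ p) (hΩ : Fintype.card Ω = m * p) :
    ∃ g : G, orderOf g = p ∧ ∀ ω : Ω, g • ω ≠ ω := by
  rcases Nat.eq_or_lt_of_le hmp with hmeq | hlt
  · exact Cfsg.Agent.S5726.result htr p 2 hp (by norm_num) (by rw [hΩ, hmeq, sq])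
  have : Fact p.Prime := ⟨hp⟩
  have hcard : Nat.card Ω = m * p := by rw [Nat.card_eq_fintype_card, hΩ]
  obtain ⟨P⟩ : Nonempty (Sylow p G) := inferInstance
  obtain ⟨a, ha⟩ := IsPGroup.iff_card.mp P.isPGroup'
  have hidx : ∀ ω : Ω, (MulAction.stabilizer ↥(P : Subgroup G) ω).index = p := by
    intro ω
    have h1 : p ∣ (MulAction.stabilizer ↥(P : Subgroup G) ω).index := by
      have := Cfsg.Agent.S5726.sylow_orbit_dvd p P 1 (by rw [hcard, pow_one]; exact dvd_mul_left p m) ω
      rwa [pow_one] at this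
    have h2 : (MulAction.stabilizer ↥(P : Subgroup G) ω).index ≤ m * p := by
      rw [MulAction.index_stabilizer, ← hcard, ← Set.ncard_univ]
      exact Set.ncard_le_ncard (Set.subset_univ _) Set.finite_univ
    have h3 : (MulAction.stabilizer ↥(P : Subgroup G) ω).index ∣ p ^ a := by
      rw [← ha]; exact Subgroup.index_dvd_card _
    obtain ⟨j, -, hj⟩ := (Nat.dvd_prime_pow hp).mp h3
    rw [hj] at h1 h2 ⊢
    have hj1 : j ≠ 0 := by
      rintro rfl
      rw [pow_zero] at h1
      exact hp.one_lt.ne' (Nat.dvd_one.mp h1)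
    have hj2 : j < 2 := by
      have : p ^ j < p ^ 2 := by
        calc p ^ j ≤ m * p := h2
          _ < p * p := Nat.mul_lt_mul_of_pos_right hlt hp.pos
          _ = p ^ 2 := (sq p).symm
      exact (Nat.pow_lt_pow_iff_right hp.one_lt).mp this
    have : j = 1 := by omega
    rw [this, pow_one]
  have hΩne : Nonempty Ω := by
    apply Nat.card_pos_iff.mp (hcard ▸ Nat.mul_pos (by omega) hp.pos) |>.1
  obtain ⟨ω₀⟩ := hΩne
  have ha0 : a ≠ 0 := by
    rintro rfl
    have h1 : (MulAction.stabilizer ↥(P : Subgroup G) ω₀).index ∣ Nat.card ↥(P : Subgroup G) :=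
      Subgroup.index_dvd_card _
    rw [hidx, ha, pow_zero] at h1
    exact hp.one_lt.ne' (Nat.dvd_one.mp h1)
  have hnormal : ∀ ω : Ω, (MulAction.stabilizer ↥(P : Subgroup G) ω).Normal := by
    intro ω
    apply Subgroup.normal_of_index_eq_minFac_card
    rw [hidx, ha, Nat.Prime.pow_minFac hp ha0]
  have hex : ∃ x : ↥(P : Subgroup G), ∀ ω : Ω, x • ω ≠ ω := by
    by_contra hcon
    push Not at hcon
    classical
    set s : Finset (Subgroup ↥(P : Subgroup G)) :=
      Finset.univ.image (fun ω : Ω => MulAction.stabilizer ↥(P : Subgroup G) ω) with hs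
    have hcov : ⋃ K ∈ s, (1 : ↥(P : Subgroup G)) • ((K : Subgroup ↥(P : Subgroup G)) : Set ↥(P : Subgroup G)) = Set.univ := by
      rw [Set.eq_univ_iff_forall]
      intro x
      obtain ⟨ω, hω⟩ := hcon x
      rw [Set.mem_iUnion₂]
      refine ⟨MulAction.stabilizer ↥(P : Subgroup G) ω, Finset.mem_image_of_mem _ (Finset.mem_univ ω), ?_⟩
      rw [one_smul]
      exact hω
    obtain ⟨K, hKs, -, hKle⟩ := Subgroup.exists_index_le_card_of_leftCoset_cover hcov
    obtain ⟨ω₁, -, rfl⟩ := Finset.mem_image.mp hKs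
    rw [hidx] at hKle
    have hfib : ∀ K ∈ Finset.univ.image (fun ω : Ω => MulAction.stabilizer ↥(P : Subgroup G) ω),
        p ≤ (Finset.univ.filter (fun ω : Ω => MulAction.stabilizer ↥(P : Subgroup G) ω = K)).card := by
      intro K hK
      obtain ⟨ω₂, -, rfl⟩ := Finset.mem_image.mp hK
      have hsub : MulAction.orbit ↥(P : Subgroup G) ω₂ ⊆
          ((Finset.univ.filter (fun ω : Ω => MulAction.stabilizer ↥(P : Subgroup G) ω =
            MulAction.stabilizer ↥(P : Subgroup G) ω₂) : Finset Ω) : Set Ω) := by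
        rintro _ ⟨y, rfl⟩
        simp only [Finset.coe_filter, Finset.mem_univ, true_and, Set.mem_ofPred_eq]
        exact stab_smul_of_normal ω₂ (hnormal ω₂) y
      calc p = (MulAction.stabilizer ↥(P : Subgroup G) ω₂).index := (hidx ω₂).symm
        _ = (MulAction.orbit ↥(P : Subgroup G) ω₂).ncard := MulAction.index_stabilizer _ _
        _ ≤ _ := Set.ncard_le_ncard hsub (Finset.finite_toSet _)
        _ = _ := Set.ncard_coe_finset _
    have hmul := Finset.mul_card_image_le_card (Finset.univ : Finset Ω) p hfib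
    rw [Finset.card_univ, hΩ] at hmul
    have : s.card ≤ m := by
      have : p * s.card ≤ p * m := by rw [mul_comm p m]; exact hmul
      exact Nat.le_of_mul_le_mul_left this hp.pos
    omega
  obtain ⟨x, hx⟩ := hex
  have hxp : ((x ^ p : ↥(P : Subgroup G)) : G) = 1 := by
    apply FaithfulSMul.eq_of_smul_eq_smul (α := Ω)
    intro ω
    rw [one_smul]
    have := (hnormal ω)
    have hmem := Subgroup.pow_index_mem (MulAction.stabilizer ↥(P : Subgroup G) ω) x
    rw [hidx] at hmem
    exact hmem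
  refine ⟨(x : G), ?_, fun ω => hx ω⟩
  have hdiv : orderOf (x : G) ∣ p := by
    apply orderOf_dvd_of_pow_eq_one
    rw [← hxp]; rfl
  rcases (Nat.dvd_prime hp).mp hdiv with h1 | h1
  · exfalso
    rw [orderOf_eq_one_iff] at h1
    apply hx ω₀
    show (x : G) • ω₀ = ω₀
    rw [h1, one_smul]
  · exact h1

end Cfsg.Agent.S5727
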