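import Cfsg.Statements.S5728
import Mathlib

set_option autoImplicit false
open Cfsg

namespace Cfsg.Agent.S5728

section gen
variable {F : Type*} [Field F]

/-- affine map as a permutation -/
def aff (a : Fˣ) (b : F) : Equiv.Perm F where
  toFun y := (a : F) * y + b
  invFun y := ((a⁻¹ : Fˣ) : F) * (y - b)
  left_inv y := by simp
  right_inv y := by simp [mul_sub]

theorem aff_apply (a : Fˣ) (b y : F) : aff a b y = (a : F) * y + b := rfl

theorem aff_mem (a : Fˣ) (b : F) : aff a b ∈ Cfsg.affineGroup F := ⟨a, b, fun _ => rfl⟩

theorem aff_inv_apply (a : Fˣ) (b y : F) : (aff a b)⁻¹ y = ((a⁻¹ : Fˣ) : F) * (y - b) := rfl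

theorem conj_apply (g : Equiv.Perm F) (c : Fˣ) (e : F) (hg : ∀ y, g y = (c : F) * y + e)
    (a : Fˣ) (b y : F) :
    (aff a b * g * (aff a b)⁻¹) y = (c : F) * y - (c : F) * b + (a : F) * e + b := by
  rw [Equiv.Perm.mul_apply, Equiv.Perm.mul_apply, aff_apply, hg, aff_inv_apply]
  have : ((a : F)) * ((a⁻¹ : Fˣ) : F) = 1 := by simp
  linear_combination ((c : F) * (y - b)) * this

theorem pow_apply (h : Equiv.Perm F) (c : F) (hh : ∀ y, h y = c * y) (n : ℕ) (y : F) :
    (h ^ n) y = c ^ n * y := by
  induction n generalizing y with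
  | zero => simp
  | succ k ih =>
    rw [pow_succ, Equiv.Perm.mul_apply, ih, hh]
    ring

end gen

/-- An elusive transitive action. Let p = 2^s − 1 be a prime and let F be the field with p² elements. Inside the group of affine maps x ↦ a·x + b of F (a ≠ 0), consider the subgroup of maps with both coefficients in the prime field. Then every element of prime order of the affine group is conjugate, within the affine group, to an element of that subgroup; equivalently, in the transitive action of the affine group on the cosets of that subgroup (of degree p(p + 1)) every element of prime order fixes a point. -/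
theorem result (p s : ℕ) [Fact p.Prime] (hs : p = 2 ^ s - 1)
    (g : Equiv.Perm (GaloisField p 2)) (hg : g ∈ Cfsg.affineGroup (GaloisField p 2)) (hord : (orderOf g).Prime) :
    ∃ x ∈ Cfsg.affineGroup (GaloisField p 2), ∃ a b : ZMod p, a ≠ 0 ∧
      ∀ y : GaloisField p 2, (x * g * x⁻¹) y = algebraMap (ZMod p) (GaloisField p 2) a * y + algebraMap (ZMod p) (GaloisField p 2) b := by
  have hp : p.Prime := Fact.out
  obtain ⟨c, e, hce⟩ := hg
  by_cases hc : c = 1
  · -- translation
    have he : e ≠ 0 := by
      intro he
      have : g = 1 := by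
        ext y
        rw [hce, hc, he]
        simp
      rw [this, orderOf_one] at hord
      exact Nat.not_prime_one hord
    refine ⟨aff (Units.mk0 e⁻¹ (inv_ne_zero he)) 0, aff_mem _ _, 1, 1, one_ne_zero, fun y => ?_⟩
    rw [conj_apply g c e hce, hc]
    simp [he]
  · have hc1 : (c : GaloisField p 2) - 1 ≠ 0 := by
      intro h
      apply hc
      ext
      rw [sub_eq_zero] at h
      simpa using h
    have hconj : ∀ y, (aff (1 : (GaloisField p 2)ˣ) (e / ((c : GaloisField p 2) - 1)) * g *
        (aff (1 : (GaloisField p 2)ˣ) (e / ((c : GaloisField p 2) - 1)))⁻¹) y = (c : GaloisField p 2) * y := by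
      intro y
      rw [conj_apply g c e hce, Units.val_one]
      field_simp
      ring
    have hpow : (c : GaloisField p 2) ^ orderOf g = 1 := by
      have h1 := pow_apply _ _ hconj (orderOf g) 1
      rw [conj_pow, pow_orderOf_eq_one] at h1
      simpa using h1.symm
    have hpowu : c ^ orderOf g = 1 := by
      ext
      simpa using hpow
    have hordc : orderOf c = orderOf g := by
      have h1 : orderOf c ∣ orderOf g := orderOf_dvd_of_pow_eq_one hpowu
      rcases (Nat.dvd_prime hord).1 h1 with h | h
      · exact absurd (orderOf_eq_one_iff.1 h) hc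
      · exact h
    have hdvd : orderOf g ∣ p ^ 2 - 1 := by
      rw [← hordc]
      have h1 : orderOf c ∣ Nat.card (GaloisField p 2)ˣ := orderOf_dvd_natCard c
      rwa [Nat.card_units, GaloisField.card p 2 (by norm_num)] at h1
    have hp2 : 2 ≤ p := hp.two_le
    have hps : p + 1 = 2 ^ s := by omega
    have hfac : p ^ 2 - 1 = (p - 1) * 2 ^ s := by
      rw [← hps]
      obtain ⟨k, rfl⟩ : ∃ k, p = k + 1 := ⟨p - 1, by omega⟩
      simp only [Nat.add_sub_cancel]
      have : (k + 1) ^ 2 = k * (k + 1 + 1) + 1 := by ring
      rw [this]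
      simp
    rw [hfac] at hdvd
    have key : ∃ a : ZMod p, algebraMap (ZMod p) (GaloisField p 2) a = (c : GaloisField p 2) := by
      rcases (Nat.Prime.dvd_mul hord).1 hdvd with h | h
      · have h1 : c ^ (p - 1) = 1 := by
          rw [← hordc] at h
          exact orderOf_dvd_iff_pow_eq_one.1 h
        have h2 : (c : GaloisField p 2) ^ p = c := by
          have h3 : (c : GaloisField p 2) ^ (p - 1) = 1 := by
            have := congrArg (fun u : (GaloisField p 2)ˣ => (u : GaloisField p 2)) h1
            simpa using this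
          have h4 : (c : GaloisField p 2) ^ (p - 1 + 1) = c := by rw [pow_succ, h3, one_mul]
          rwa [Nat.sub_add_cancel hp.one_le] at h4
        have h5 : (c : GaloisField p 2) ∈ (⊥ : Subfield (GaloisField p 2)) :=
          (Subfield.mem_bot_iff_pow_eq_self (GaloisField p 2) p).2 h2
        obtain ⟨n, hn⟩ := (mem_bot_iff_intCast p (GaloisField p 2)).1 h5
        exact ⟨(n : ZMod p), by rw [map_intCast]; exact hn⟩
      · have h1 : orderOf g ∣ 2 := Nat.Prime.dvd_of_dvd_pow hord h
        have h2 : orderOf g = 2 := (Nat.prime_dvd_prime_iff_eq hord Nat.prime_two).1 h1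
        rw [h2] at hpow
        have hsq : (c : GaloisField p 2) * (c : GaloisField p 2) = 1 := by rw [← sq]; exact hpow
        rcases mul_self_eq_one_iff.1 hsq with h3 | h3
        · exact absurd (sub_eq_zero.2 h3) hc1
        · exact ⟨-1, by rw [map_neg, map_one]; exact h3.symm⟩
    obtain ⟨a, ha⟩ := key
    refine ⟨aff 1 (e / ((c : GaloisField p 2) - 1)), aff_mem _ _, a, 0, ?_, fun y => ?_⟩
    · rintro rfl
      rw [map_zero] at ha
      exact c.ne_zero ha.symm
    · rw [hconj, ha, map_zero, add_zero]

end Cfsg.Agent.S5728
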