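import Cfsg.Statements.S5905

set_option autoImplicit false
open Pointwise
open Cfsg

namespace Cfsg.Agent.S5905

/-- the permutations preserving the fibres of `f` (as a partition) -/
def W {Ω β : Type*} (f : Ω → β) : Subgroup (Equiv.Perm Ω) where
  carrier := {g | ∀ x y : Ω, f x = f y ↔ f (g x) = f (g y)}
  mul_mem' := by
    intro g h hg hh x y
    rw [hh x y, hg (h x) (h y)]
    rfl
  one_mem' := by
    intro x y
    rfl
  inv_mem' := by
    intro g hg x y
    have := hg (g⁻¹ x) (g⁻¹ y)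
    simp only [Equiv.Perm.coe_inv, Equiv.apply_symm_apply] at this
    exact this.symm

theorem mem_W {Ω β : Type*} (f : Ω → β) (g : Equiv.Perm Ω) :
    g ∈ W f ↔ ∀ x y : Ω, f x = f y ↔ f (g x) = f (g y) := Iff.rfl

theorem closure_eq_W {Ω β : Type*} (f : Ω → β) :
    Subgroup.closure {g : Equiv.Perm Ω | ∀ x y : Ω, f x = f y ↔ f (g x) = f (g y)} = W f :=
  Subgroup.closure_eq (W f)

theorem f_swap {Ω β : Type*} [DecidableEq Ω] (f : Ω → β) (x y : Ω) (h : f x = f y) (z : Ω) :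
    f (Equiv.swap x y z) = f z := by
  by_cases hzx : z = x
  · subst hzx; rw [Equiv.swap_apply_left]; exact h.symm
  · by_cases hzy : z = y
    · subst hzy; rw [Equiv.swap_apply_right]; exact h
    · rw [Equiv.swap_apply_of_ne_of_ne hzx hzy]

theorem swap_mem_W {Ω β : Type*} [DecidableEq Ω] (f : Ω → β) (x y : Ω) (h : f x = f y) :
    Equiv.swap x y ∈ W f := by
  intro u v
  rw [f_swap f x y h, f_swap f x y h]

/-- coordinates on `Ω` adapted to `f` -/
theorem exists_coords {Ω : Type*} [Fintype Ω] [DecidableEq Ω] (a b : ℕ)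
    (f : Ω → Fin b) (hf : ∀ i : Fin b, Nat.card {x : Ω // f x = i} = a) :
    ∃ Φ : Ω ≃ Fin b × Fin a, ∀ x, (Φ x).1 = f x := by
  have hε : ∀ i : Fin b, Fintype.card {x : Ω // f x = i} = a := by
    intro i
    rw [← Nat.card_eq_fintype_card]; exact hf i
  refine ⟨(Equiv.sigmaFiberEquiv f).symm.trans
    ((Equiv.sigmaCongrRight (fun i => Fintype.equivFinOfCardEq (hε i))).trans
      (Equiv.sigmaEquivProd _ _)), fun x => rfl⟩

/-- every overgroup of `W f` containing a swap across fibres is everything -/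
theorem overgroup_eq_top {Ω : Type*} [Fintype Ω] [DecidableEq Ω] (a b : ℕ)
    (f : Ω → Fin b) (Φ : Ω ≃ Fin b × Fin a) (hΦ : ∀ x, (Φ x).1 = f x)
    (L : Subgroup (Equiv.Perm Ω)) (hWL : W f ≤ L) (u v : Ω) (huv : f u ≠ f v)
    (hsw : Equiv.swap u v ∈ L) : L = ⊤ := by
  have hΦs : ∀ p, f (Φ.symm p) = p.1 := by
    intro p; rw [← hΦ, Equiv.apply_symm_apply]
  let e : Equiv.Perm (Fin b) → Equiv.Perm Ω := fun π =>
    Φ.trans ((Equiv.prodCongr π (Equiv.refl _)).trans Φ.symm)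
  have he : ∀ π x, f (e π x) = π (f x) := by
    intro π x
    show f (Φ.symm (π (Φ x).1, (Φ x).2)) = _
    rw [hΦs, hΦ]
  have heW : ∀ π, e π ∈ W f := fun π x y => by
    rw [he, he]; exact π.injective.eq_iff.symm
  -- cross swaps between any two distinct fibres
  have hcross : ∀ i j : Fin b, i ≠ j → ∃ u' v', f u' = i ∧ f v' = j ∧ Equiv.swap u' v' ∈ L := by
    intro i j hij
    set π₁ : Equiv.Perm (Fin b) := Equiv.swap (f u) i with hπ₁
    set π₂ : Equiv.Perm (Fin b) := Equiv.swap (π₁ (f v)) j with hπ₂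
    have h1 : π₁ (f u) = i := Equiv.swap_apply_left _ _
    have h2 : π₁ (f v) ≠ i := by
      rw [← h1]; exact fun h => huv (π₁.injective h).symm
    have h3 : π₂ i = i := Equiv.swap_apply_of_ne_of_ne (Ne.symm h2) hij
    have h4 : π₂ (π₁ (f v)) = j := Equiv.swap_apply_left _ _
    refine ⟨e (π₂ * π₁) u, e (π₂ * π₁) v, ?_, ?_, ?_⟩
    · rw [he]; show π₂ (π₁ (f u)) = i; rw [h1, h3]
    · rw [he]; show π₂ (π₁ (f v)) = j; rw [h4]
    · rw [Equiv.swap_apply_apply]
      exact L.mul_mem (L.mul_mem (hWL (heW _)) hsw) (L.inv_mem (hWL (heW _)))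
  have hall : ∀ x y : Ω, Equiv.swap x y ∈ L := by
    intro x y
    by_cases hxy : f x = f y
    · exact hWL (swap_mem_W f x y hxy)
    · obtain ⟨u', v', hu', hv', hs⟩ := hcross (f x) (f y) hxy
      have h1 : Equiv.swap x u' ∈ L := hWL (swap_mem_W f x u' hu'.symm)
      have h2 : Equiv.swap v' y ∈ L := hWL (swap_mem_W f v' y hv')
      exact SubmonoidClass.swap_mem_trans L (SubmonoidClass.swap_mem_trans L h1 hs) h2
  rw [eq_top_iff, ← Equiv.Perm.closure_isSwap, Subgroup.closure_le]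
  rintro σ ⟨x, y, -, rfl⟩
  exact hall x y

theorem exists_cross_swap {Ω β : Type*} [DecidableEq Ω] (f : Ω → β)
    (L : Subgroup (Equiv.Perm Ω)) (hWL : W f < L) :
    ∃ u v : Ω, f u ≠ f v ∧ Equiv.swap u v ∈ L := by
  obtain ⟨g, hgL, hgW⟩ := SetLike.exists_of_lt hWL
  rw [mem_W] at hgW
  push Not at hgW
  obtain ⟨x, y, hxy⟩ := hgW
  by_cases h : f x = f y
  · have h' : f (g x) ≠ f (g y) := by
      rcases hxy with ⟨-, h2⟩ | ⟨h1, -⟩
      · exact h2
      · exact absurd h h1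
    refine ⟨g x, g y, h', ?_⟩
    rw [Equiv.swap_apply_apply]
    exact L.mul_mem (L.mul_mem hgL (hWL.le (swap_mem_W f x y h))) (L.inv_mem hgL)
  · have h' : f (g x) = f (g y) := by
      rcases hxy with ⟨h1, -⟩ | ⟨-, h2⟩
      · exact absurd h1 h
      · exact h2
    refine ⟨x, y, h, ?_⟩
    have := Equiv.swap_apply_apply g⁻¹ (g x) (g y)
    simp only [Equiv.Perm.coe_inv, Equiv.symm_apply_apply, inv_inv] at this
    rw [this]
    exact L.mul_mem (L.mul_mem (L.inv_mem hgL) (hWL.le (swap_mem_W f _ _ h'))) hgL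

theorem result {Ω : Type*} [Fintype Ω] [DecidableEq Ω] (a b : ℕ) (ha : 2 ≤ a) (hb : 2 ≤ b)
    (f : Ω → Fin b) (hf : ∀ i : Fin b, Nat.card {x : Ω // f x = i} = a) :
    IsCoatom (Subgroup.closure {g : Equiv.Perm Ω | ∀ x y : Ω, f x = f y ↔ f (g x) = f (g y)}) := by
  rw [closure_eq_W]
  obtain ⟨Φ, hΦ⟩ := exists_coords a b f hf
  have hΦs : ∀ p, f (Φ.symm p) = p.1 := by
    intro p; rw [← hΦ, Equiv.apply_symm_apply]
  refine ⟨?_, fun L hL => ?_⟩
  · intro htop
    set i0 : Fin b := ⟨0, by omega⟩ with hi0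
    set i1 : Fin b := ⟨1, by omega⟩ with hi1
    set t0 : Fin a := ⟨0, by omega⟩ with ht0
    set t1 : Fin a := ⟨1, by omega⟩ with ht1
    set x := Φ.symm (i0, t0) with hx
    set y := Φ.symm (i0, t1) with hy
    set z := Φ.symm (i1, t0) with hz
    have hxy : x ≠ y := by
      intro h
      have := Φ.symm.injective h
      simp [hi0, ht0, ht1, Fin.ext_iff] at this
    have hxz : x ≠ z := by
      intro h
      have := Φ.symm.injective h
      simp [hi0, hi1, Fin.ext_iff] at this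
    have hmem : Equiv.swap y z ∈ W f := by rw [htop]; trivial
    have h1 := (hmem x y).mp (by rw [hx, hy, hΦs, hΦs])
    rw [Equiv.swap_apply_of_ne_of_ne hxy hxz, Equiv.swap_apply_left, hx, hz, hΦs, hΦs] at h1
    simp [hi0, hi1, Fin.ext_iff] at h1
  · obtain ⟨u, v, huv, hsw⟩ := exists_cross_swap f L hL
    exact overgroup_eq_top a b f Φ hΦ L hL.le u v huv hsw

end Cfsg.Agent.S5905
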