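import Cfsg.Statements.S5763
import Cfsg.Agent.S5905

set_option autoImplicit false
open Cfsg

namespace Cfsg.Agent.S5763

/-! ### recursor-based boolean primitives (cheap for the kernel) -/

noncomputable def band (a b : Bool) : Bool := Bool.rec (motive := fun _ => Bool) false b a
noncomputable def bor (a b : Bool) : Bool := Bool.rec (motive := fun _ => Bool) b true a
noncomputable def bimp (a b : Bool) : Bool := Bool.rec (motive := fun _ => Bool) true b a
noncomputable def allL {α : Type} (p : α → Bool) (L : List α) : Bool :=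
  List.rec (motive := fun _ => Bool) true (fun hd _ ih => band (p hd) ih) L
noncomputable def anyL {α : Type} (p : α → Bool) (L : List α) : Bool :=
  List.rec (motive := fun _ => Bool) false (fun hd _ ih => bor (p hd) ih) L
noncomputable def filterL {α : Type} (q : α → Bool) (L : List α) : List α :=
  List.rec (motive := fun _ => List α) []
    (fun hd _ ih => Bool.rec (motive := fun _ => List α) ih (hd :: ih) (q hd)) L

theorem band_eq (a b : Bool) : band a b = (a && b) := by cases a <;> rfl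
theorem bor_eq (a b : Bool) : bor a b = (a || b) := by cases a <;> rfl
theorem bimp_true (a b : Bool) (h : bimp a b = true) (ha : a = true) : b = true := by
  subst ha; exact h

theorem allL_eq {α : Type} (p : α → Bool) (L : List α) : allL p L = L.all p := by
  induction L with
  | nil => rfl
  | cons hd tl ih =>
    show band (p hd) (allL p tl) = _
    rw [band_eq, ih, List.all_cons]

theorem anyL_eq {α : Type} (p : α → Bool) (L : List α) : anyL p L = L.any p := by
  induction L with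
  | nil => rfl
  | cons hd tl ih =>
    show bor (p hd) (anyL p tl) = _
    rw [bor_eq, ih, List.any_cons]

theorem mem_filterL {α : Type} (q : α → Bool) (L : List α) (x : α) :
    x ∈ filterL q L ↔ x ∈ L ∧ q x = true := by
  induction L with
  | nil => simp [filterL]
  | cons hd tl ih =>
    have h1 : filterL q (hd :: tl) =
      Bool.rec (motive := fun _ => List α) (filterL q tl) (hd :: filterL q tl) (q hd) := rfl
    rw [h1]
    cases hq : q hd
    · show x ∈ filterL q tl ↔ _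
      rw [ih, List.mem_cons]
      constructor
      · rintro ⟨h, h'⟩; exact ⟨Or.inr h, h'⟩
      · rintro ⟨h | h, h'⟩
        · subst h; rw [hq] at h'; exact absurd h' (by simp)
        · exact ⟨h, h'⟩
    · show x ∈ hd :: filterL q tl ↔ _
      rw [List.mem_cons, ih, List.mem_cons]
      constructor
      · rintro (h | ⟨h, h'⟩)
        · subst h; exact ⟨Or.inl rfl, hq⟩
        · exact ⟨Or.inr h, h'⟩
      · rintro ⟨h | h, h'⟩
        · exact Or.inl h
        · exact Or.inr ⟨h, h'⟩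

/-! ### the computation -/

/-- the label of the point `i` in the packed labelling `A` -/
def lab (A i : ℕ) : ℕ := Nat.mod (Nat.div A (Nat.pow 4 i)) 4
/-- the image of the point `i` under the packed permutation `h` -/
def prm (h i : ℕ) : ℕ := Nat.mod (Nat.div h (Nat.pow 8 i)) 8

theorem lab_eq (A i : ℕ) : lab A i = A / 4 ^ i % 4 := rfl
theorem prm_eq (h i : ℕ) : prm h i = h / 8 ^ i % 8 := rfl

def pairs : List (ℕ × ℕ) :=
  [(0,1),(0,2),(0,3),(0,4),(0,5),(0,6),(0,7),(1,2),(1,3),(1,4),(1,5),(1,6),(1,7),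
   (2,3),(2,4),(2,5),(2,6),(2,7),(3,4),(3,5),(3,6),(3,7),(4,5),(4,6),(4,7),(5,6),(5,7),(6,7)]

noncomputable def quadPairs (A : ℕ) : List (ℕ × ℕ) :=
  filterL (fun p => Nat.beq (Nat.div (lab A p.1) 2) (Nat.div (lab A p.2) 2)) pairs

noncomputable def test1 (A h : ℕ) (p : ℕ × ℕ) : Bool :=
  band (Nat.beq (Nat.div (lab A (prm h p.1)) 2) (Nat.div (lab A (prm h p.2)) 2))
    (bimp (Nat.beq (lab A p.1) (lab A p.2)) (Nat.beq (lab A (prm h p.1)) (lab A (prm h p.2))))

def cands : List ℕ := [14570689, 11789505, 9925825, 16406152, 14599816, 16434817, 16434376,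
  6852524, 6823845, 5017068, 4988389, 2206526, 371511, 2177406, 342391]

noncomputable def leaf (S A : ℕ) : Bool :=
  bimp (Nat.beq S 8738) (anyL (fun h => allL (test1 A h) (quadPairs A)) cands)

noncomputable def lp (k : ℕ) : ℕ → ℕ → Bool :=
  Nat.rec (motive := fun _ => ℕ → ℕ → Bool) leaf
    (fun _ ih S A => band (ih (Nat.add S 1) (Nat.mul 4 A))
      (band (ih (Nat.add S 16) (Nat.add (Nat.mul 4 A) 1))
      (band (ih (Nat.add S 256) (Nat.add (Nat.mul 4 A) 2))
            (ih (Nat.add S 4096) (Nat.add (Nat.mul 4 A) 3))))) k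

theorem chk_true : lp 8 0 0 = true := by decide +kernel

theorem lp_succ (k S A : ℕ) (h : lp (k + 1) S A = true) (a : ℕ) (ha : a < 4) :
    lp k (S + 16 ^ a) (4 * A + a) = true := by
  have h1 : lp (k + 1) S A = band (lp k (S + 1) (4 * A))
      (band (lp k (S + 16) (4 * A + 1))
      (band (lp k (S + 256) (4 * A + 2)) (lp k (S + 4096) (4 * A + 3)))) := rfl
  rw [h1, band_eq, band_eq, band_eq, Bool.and_eq_true, Bool.and_eq_true, Bool.and_eq_true] at h
  obtain ⟨h0, h1', h2, h3⟩ := h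
  interval_cases a
  · exact h0
  · exact h1'
  · exact h2
  · exact h3

theorem leaf_valid (A : ℕ) (h : leaf 8738 A = true) :
    ∃ c ∈ cands, ∀ p ∈ quadPairs A, test1 A c p = true := by
  have h1 : anyL (fun h => allL (test1 A h) (quadPairs A)) cands = true := bimp_true _ _ h rfl
  rw [anyL_eq, List.any_eq_true] at h1
  obtain ⟨c, hc, hcl⟩ := h1
  rw [allL_eq, List.all_eq_true] at hcl
  exact ⟨c, hc, hcl⟩

theorem pairs_mem_fin : ∀ x y : Fin 8, x < y → (x.val, y.val) ∈ pairs := by decide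

theorem pairs_mem (x : ℕ) (hx : x < 8) (y : ℕ) (hy : y < 8) (hxy : x < y) : (x, y) ∈ pairs :=
  pairs_mem_fin ⟨x, hx⟩ ⟨y, hy⟩ hxy

theorem test_sound (A c : ℕ) (hc : ∀ p ∈ quadPairs A, test1 A c p = true) (x y : ℕ)
    (hxy : x < y) (hy : y < 8) :
    (lab A x / 2 = lab A y / 2 → lab A (prm c x) / 2 = lab A (prm c y) / 2) ∧
    (lab A x = lab A y → lab A (prm c x) = lab A (prm c y)) := by
  by_cases hq : lab A x / 2 = lab A y / 2
  · have hmem : (x, y) ∈ quadPairs A := by
      rw [quadPairs, mem_filterL]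
      refine ⟨pairs_mem x (by omega) y hy hxy, ?_⟩
      show Nat.beq (lab A x / 2) (lab A y / 2) = true
      rw [hq]; exact Nat.beq_refl _
    have h1 := hc _ hmem
    unfold test1 at h1
    rw [band_eq, Bool.and_eq_true] at h1
    obtain ⟨h2, h3⟩ := h1
    refine ⟨fun _ => Nat.eq_of_beq_eq_true h2, fun he => ?_⟩
    refine Nat.eq_of_beq_eq_true (bimp_true _ _ h3 ?_)
    show Nat.beq (lab A x) (lab A y) = true
    rw [he]; exact Nat.beq_refl _
  · exact ⟨fun h => absurd h hq, fun h => absurd (by rw [h]) hq⟩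

/-- decoding of a packed permutation -/
def dec (c : ℕ) : Fin 8 → Fin 8 := fun i => ⟨prm c i.val, Nat.mod_lt _ (by norm_num)⟩

theorem cand_facts : ∀ c ∈ cands, (∀ i : Fin 8, dec c (dec c i) = i) ∧ (∃ i : Fin 8, dec c i ≠ i) ∧
    (∀ x y : Fin 8, (x.val / 4 = y.val / 4 → (dec c x).val / 4 = (dec c y).val / 4) ∧
      (x.val / 2 = y.val / 2 → (dec c x).val / 2 = (dec c y).val / 2)) := by
  decide +kernel

theorem d4_fact : ∀ ρ : Fin 4 → Fin 4, (∀ j j' : Fin 4, ρ j = ρ j' → j = j') →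
    (∀ j j' : Fin 4, j.val / 2 = j'.val / 2 → (ρ j).val / 2 = (ρ j').val / 2) →
    ∀ j, ρ (ρ (ρ (ρ j))) = j := by
  decide +kernel

/-! ### the group theory -/

/-- the pair of a point -/
def rr : Fin 8 → ℕ := fun x => x.val / 2
/-- the quadruple of a point -/
def qq : Fin 8 → ℕ := fun x => x.val / 4

theorem conj_mem_W {Ω β : Type*} (f : Ω → β) (g h : Equiv.Perm Ω) (hh : h ∈ S5905.W (f ∘ g)) :
    g * h * g⁻¹ ∈ S5905.W f := by
  intro u v
  have := hh (g⁻¹ u) (g⁻¹ v)
  simpa [Equiv.Perm.mul_apply] using this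

theorem inv_iff {β : Type*} (f : Fin 8 → β) (π : Equiv.Perm (Fin 8)) (hinv : ∀ i, π (π i) = i)
    (himp : ∀ x y, f x = f y → f (π x) = f (π y)) : π ∈ S5905.W f := by
  intro x y
  refine ⟨himp x y, fun h => ?_⟩
  have := himp (π x) (π y) h
  rwa [hinv, hinv] at this

/-- the core claim: a nontrivial element preserving both trees -/
theorem core (g : Equiv.Perm (Fin 8)) : ∃ h : Equiv.Perm (Fin 8), h ≠ 1 ∧ h ∈ S5905.W qq ∧
    h ∈ S5905.W rr ∧ h ∈ S5905.W (qq ∘ g) ∧ h ∈ S5905.W (rr ∘ g) := by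
  set a : Fin 8 → ℕ := fun x => (g x).val / 2 with ha
  have hlt : ∀ x, a x < 4 := by
    intro x
    have := (g x).is_lt
    show (g x).val / 2 < 4
    omega
  have h7 := lp_succ 7 0 0 chk_true (a 7) (hlt 7)
  have h6 := lp_succ 6 _ _ h7 (a 6) (hlt 6)
  have h5 := lp_succ 5 _ _ h6 (a 5) (hlt 5)
  have h4 := lp_succ 4 _ _ h5 (a 4) (hlt 4)
  have h3 := lp_succ 3 _ _ h4 (a 3) (hlt 3)
  have h2 := lp_succ 2 _ _ h3 (a 2) (hlt 2)
  have h1 := lp_succ 1 _ _ h2 (a 1) (hlt 1)
  have h0 := lp_succ 0 _ _ h1 (a 0) (hlt 0)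
  set A : ℕ := 4 * (4 * (4 * (4 * (4 * (4 * (4 * (4 * 0 + a 7) + a 6) + a 5) + a 4) + a 3) + a 2)
    + a 1) + a 0 with hA
  have hS : 0 + 16 ^ a 7 + 16 ^ a 6 + 16 ^ a 5 + 16 ^ a 4 + 16 ^ a 3 + 16 ^ a 2 + 16 ^ a 1
      + 16 ^ a 0 = 8738 := by
    have hsum := Equiv.sum_comp g (fun x : Fin 8 => 16 ^ (x.val / 2))
    have hval : (∑ x : Fin 8, 16 ^ (x.val / 2)) = 8738 := by decide
    rw [hval, Fin.sum_univ_eight] at hsum
    have e : ∀ x : Fin 8, 16 ^ ((g x).val / 2) = 16 ^ a x := fun x => rfl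
    simp only [e] at hsum
    omega
  rw [hS] at h0
  obtain ⟨c, hc, hcl⟩ := leaf_valid A h0
  -- the digits of A
  have hdig : ∀ x : Fin 8, lab A x.val = a x := by
    have b0 := hlt 0; have b1 := hlt 1; have b2 := hlt 2; have b3 := hlt 3
    have b4 := hlt 4; have b5 := hlt 5; have b6 := hlt 6; have b7 := hlt 7
    have d0 : lab A 0 = a 0 := by rw [lab_eq]; norm_num; omega
    have d1 : lab A 1 = a 1 := by rw [lab_eq]; norm_num; omega
    have d2 : lab A 2 = a 2 := by rw [lab_eq]; norm_num; omega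
    have d3 : lab A 3 = a 3 := by rw [lab_eq]; norm_num; omega
    have d4 : lab A 4 = a 4 := by rw [lab_eq]; norm_num; omega
    have d5 : lab A 5 = a 5 := by rw [lab_eq]; norm_num; omega
    have d6 : lab A 6 = a 6 := by rw [lab_eq]; norm_num; omega
    have d7 : lab A 7 = a 7 := by rw [lab_eq]; norm_num; omega
    intro x
    fin_cases x
    · exact d0
    · exact d1
    · exact d2
    · exact d3
    · exact d4
    · exact d5
    · exact d6
    · exact d7
  obtain ⟨hinv, ⟨i0, hi0⟩, hstd⟩ := cand_facts c hc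
  set π : Equiv.Perm (Fin 8) := Function.Involutive.toPerm (dec c) hinv with hπ
  have hπa : ∀ x, π x = dec c x := fun x => rfl
  have hπv : ∀ x, (π x).val = prm c x.val := fun x => rfl
  have key : ∀ x y : Fin 8, (a x / 2 = a y / 2 → a (π x) / 2 = a (π y) / 2) ∧
      (a x = a y → a (π x) = a (π y)) := by
    have key1 : ∀ x y : Fin 8, x < y → (a x / 2 = a y / 2 → a (π x) / 2 = a (π y) / 2) ∧
        (a x = a y → a (π x) = a (π y)) := by
      intro x y hxy
      have := test_sound A c hcl x.val y.val hxy y.is_lt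
      rw [← hπv x, ← hπv y, hdig, hdig, hdig, hdig] at this
      exact this
    intro x y
    rcases lt_trichotomy x y with h | h | h
    · exact key1 x y h
    · subst h; exact ⟨fun _ => rfl, fun _ => rfl⟩
    · have := key1 y x h
      exact ⟨fun e => (this.1 e.symm).symm, fun e => (this.2 e.symm).symm⟩
  refine ⟨π, ?_, ?_, ?_, ?_, ?_⟩
  · intro h1
    apply hi0
    rw [← hπa, h1]; rfl
  · exact inv_iff qq π hinv (fun x y h => (hstd x y).1 h)
  · exact inv_iff rr π hinv (fun x y h => (hstd x y).2 h)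
  · refine inv_iff (qq ∘ g) π hinv (fun x y h => ?_)
    have e : ∀ z : Fin 8, (qq ∘ g) z = a z / 2 := by
      intro z
      show (g z).val / 4 = (g z).val / 2 / 2
      omega
    rw [e, e] at h ⊢
    exact (key x y).1 h
  · exact inv_iff (rr ∘ g) π hinv (fun x y h => (key x y).2 h)

/-- the stabiliser of the standard tree is a `2`-group -/
theorem isPGroup_tree : IsPGroup 2 (S5905.W qq ⊓ S5905.W rr : Subgroup (Equiv.Perm (Fin 8))) := by
  rintro ⟨g, hgq, hgr⟩
  refine ⟨3, Subtype.ext ?_⟩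
  show g ^ 2 ^ 3 = 1
  let R : Fin 8 → Fin 4 := fun x => ⟨x.val / 2, by have := x.is_lt; omega⟩
  let ρ : Fin 4 → Fin 4 := fun j => R (g ⟨2 * j.val, by have := j.is_lt; omega⟩)
  have hρ : ∀ x : Fin 8, R (g x) = ρ (R x) := by
    intro x
    have hx := x.is_lt
    have h1 : rr x = rr ⟨2 * (x.val / 2), by omega⟩ := by
      show x.val / 2 = 2 * (x.val / 2) / 2
      omega
    have h2 := (hgr x ⟨2 * (x.val / 2), by omega⟩).mp h1
    exact Fin.ext h2
  have hinj : ∀ j j' : Fin 4, ρ j = ρ j' → j = j' := by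
    intro j j' h
    have hj := j.is_lt
    have hj' := j'.is_lt
    have h1 : rr (g ⟨2 * j.val, by omega⟩) = rr (g ⟨2 * j'.val, by omega⟩) :=
      congrArg Fin.val h
    have h2 := (hgr ⟨2 * j.val, by omega⟩ ⟨2 * j'.val, by omega⟩).mpr h1
    have h3 : 2 * j.val / 2 = 2 * j'.val / 2 := h2
    exact Fin.ext (by omega)
  have hhalf : ∀ j j' : Fin 4, j.val / 2 = j'.val / 2 → (ρ j).val / 2 = (ρ j').val / 2 := by
    intro j j' h
    have hj := j.is_lt
    have hj' := j'.is_lt
    have h1 : qq ⟨2 * j.val, by omega⟩ = qq ⟨2 * j'.val, by omega⟩ := by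
      show 2 * j.val / 4 = 2 * j'.val / 4
      omega
    have h2 := (hgq ⟨2 * j.val, by omega⟩ ⟨2 * j'.val, by omega⟩).mp h1
    have h3 : (g ⟨2 * j.val, by omega⟩).val / 4 = (g ⟨2 * j'.val, by omega⟩).val / 4 := h2
    show (g ⟨2 * j.val, by omega⟩).val / 2 / 2 = (g ⟨2 * j'.val, by omega⟩).val / 2 / 2
    omega
  have h4 := d4_fact ρ hinj hhalf
  have hk : ∀ x : Fin 8, ((g ^ 4) x).val / 2 = x.val / 2 := by
    intro x
    have e : (g ^ 4) x = g (g (g (g x))) := rfl
    have : R (g (g (g (g x)))) = R x := by rw [hρ, hρ, hρ, hρ, h4]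
    rw [e]
    exact congrArg Fin.val this
  have hkk : ∀ x : Fin 8, (g ^ 4) ((g ^ 4) x) = x := by
    intro x
    set k := g ^ 4 with hkdef
    have h1 := hk x
    have h2 := hk (k x)
    by_cases hyx : k x = x
    · rw [hyx, hyx]
    · have hzy : k (k x) ≠ k x := fun h => hyx (k.injective h)
      have hyx' : (k x).val ≠ x.val := fun h => hyx (Fin.ext h)
      have hzy' : (k (k x)).val ≠ (k x).val := fun h => hzy (Fin.ext h)
      exact Fin.ext (by omega)
  have : g ^ 2 ^ 3 = g ^ 4 * g ^ 4 := by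
    rw [← pow_add]; norm_num
  rw [this]
  ext x
  rw [Equiv.Perm.mul_apply, hkk]
  rfl

/-- In the symmetric group on 8 letters any two Sylow 2-subgroups have non-trivial intersection: for a Sylow 2-subgroup H and every element x, H ∩ xHx⁻¹ ≠ 1. -/
theorem result (H : Sylow 2 (Equiv.Perm (Fin 8))) (x : Equiv.Perm (Fin 8)) :
    (H : Subgroup (Equiv.Perm (Fin 8))) ⊓ (H : Subgroup (Equiv.Perm (Fin 8))).map (MulAut.conj x).toMonoidHom ≠ ⊥ := by
  obtain ⟨Q, hQ⟩ := isPGroup_tree.exists_le_sylow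
  obtain ⟨y, hy⟩ := MulAction.exists_smul_eq (Equiv.Perm (Fin 8)) Q H
  have hmem : ∀ p ∈ (S5905.W qq ⊓ S5905.W rr : Subgroup (Equiv.Perm (Fin 8))),
      y * p * y⁻¹ ∈ (H : Subgroup (Equiv.Perm (Fin 8))) := by
    intro p hp
    have h1 : y * p * y⁻¹ ∈ ((y • Q : Sylow 2 (Equiv.Perm (Fin 8))) :
        Subgroup (Equiv.Perm (Fin 8))) := by
      rw [Sylow.coe_subgroup_smul]
      exact Subgroup.smul_mem_pointwise_smul p (MulAut.conj y) _ (hQ hp)
    rwa [hy] at h1
  obtain ⟨h, hne, hq, hr, hqg, hrg⟩ := core (y⁻¹ * x⁻¹ * y)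
  have hc1 : y⁻¹ * x⁻¹ * y * h * (y⁻¹ * x⁻¹ * y)⁻¹ ∈
      (S5905.W qq ⊓ S5905.W rr : Subgroup (Equiv.Perm (Fin 8))) :=
    ⟨conj_mem_W qq _ h hqg, conj_mem_W rr _ h hrg⟩
  have e1 := hmem h ⟨hq, hr⟩
  have e2 := hmem _ hc1
  intro hbot
  have hin : y * h * y⁻¹ ∈ (H : Subgroup (Equiv.Perm (Fin 8))) ⊓
      (H : Subgroup (Equiv.Perm (Fin 8))).map (MulAut.conj x).toMonoidHom := by
    refine ⟨e1, ?_⟩
    refine ⟨_, e2, ?_⟩
    show x * (y * (y⁻¹ * x⁻¹ * y * h * (y⁻¹ * x⁻¹ * y)⁻¹) * y⁻¹) * x⁻¹ = y * h * y⁻¹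
    group
  rw [hbot, Subgroup.mem_bot] at hin
  apply hne
  have : h = y⁻¹ * (y * h * y⁻¹) * y := by group
  rw [this, hin]
  group

end Cfsg.Agent.S5763
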