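import Cfsg.Statements.S5894
import Cfsg.Agent.S5905

set_option autoImplicit false
open Pointwise
open Cfsg

namespace Cfsg.Agent.S5894

open Cfsg.Agent.S5905

theorem isCoatom_map_subgroupOf {G G' : Type*} [Group G] [Group G'] (φ : G →* G')
    (hφ : Function.Injective φ) (A : Subgroup G) (hA : IsCoatom A) :
    IsCoatom ((A.map φ).subgroupOf φ.range) := by
  have h : (A.map φ).subgroupOf φ.range = (MonoidHom.ofInjective hφ).mapSubgroup A := by
    ext ⟨y, hy⟩
    rw [Subgroup.mem_subgroupOf]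
    constructor
    · rintro ⟨a, ha, hay⟩
      exact ⟨a, ha, Subtype.ext hay⟩
    · rintro ⟨a, ha, hay⟩
      exact ⟨a, ha, congrArg Subtype.val hay⟩
  rw [h]
  exact (OrderIso.isCoatom_iff _ _).mpr hA

theorem fin2_key : ∀ u v u' v' : Fin 2, (u = 0 ↔ u' = 0) → (v = 0 ↔ v' = 0) → (u = v ↔ u' = v') := by
  decide

theorem result (m : ℕ) (hm : 2 ≤ m) :
    ∃ M H K : Subgroup (Equiv.Perm (Fin (2 * m))), IsCoatom M ∧ M.index = 2 * m ∧ H ≤ M ∧ IsCoatom (H.subgroupOf M) ∧
      IsCoatom K ∧ H ≤ K ∧ ¬ IsCoatom (H.subgroupOf K) := by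
  classical
  set e : Fin (2 * m) ≃ Fin 2 × Fin m := finProdFinEquiv.symm with he
  set f : Fin (2 * m) → Fin 2 := fun x => (e x).1 with hf
  have hfs : ∀ p, f (e.symm p) = p.1 := fun p => by simp [hf]
  have hfib : ∀ i : Fin 2, Nat.card {x : Fin (2 * m) // f x = i} = m := by
    intro i
    have eq : {x : Fin (2 * m) // f x = i} ≃ Fin m :=
      { toFun := fun x => (e x.1).2
        invFun := fun t => ⟨e.symm (i, t), hfs _⟩
        left_inv := by
          rintro ⟨x, hx⟩
          apply Subtype.ext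
          show e.symm (i, (e x).2) = x
          have : (i, (e x).2) = e x := Prod.ext hx.symm rfl
          rw [this, Equiv.symm_apply_apply]
        right_inv := by
          intro t
          simp }
    rw [Nat.card_congr eq, Nat.card_fin]
  set t0 : Fin m := ⟨0, by omega⟩ with ht0
  set t1 : Fin m := ⟨1, by omega⟩ with ht1
  set p₀ : Fin (2 * m) := e.symm (0, t0) with hp₀
  set p₁ : Fin (2 * m) := e.symm (0, t1) with hp₁
  set q₀ : Fin (2 * m) := e.symm (1, t0) with hq₀
  have hp01 : p₁ ≠ p₀ := by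
    intro h
    have := e.symm.injective h
    simp [ht0, ht1, Fin.ext_iff] at this
  have hq0 : q₀ ≠ p₀ := by
    intro h
    have := e.symm.injective h
    simp at this
  have hfp0 : f p₀ = 0 := hfs _
  have hfp1 : f p₁ = 0 := hfs _
  have hfq0 : f q₀ = 1 := hfs _
  set O : Set (Fin (2 * m)) := {x | f x = 0} with hO
  set φ : Equiv.Perm {x : Fin (2 * m) // x ≠ p₀} →* Equiv.Perm (Fin (2 * m)) :=
    Equiv.Perm.ofSubtype with hφ
  set s' : Set {x : Fin (2 * m) // x ≠ p₀} := {x | f x.1 = 0} with hs'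
  set A := MulAction.stabilizer (Equiv.Perm {x : Fin (2 * m) // x ≠ p₀}) s' with hA
  have hAco : IsCoatom A := by
    apply Equiv.Perm.isCoatom_stabilizer
    · exact ⟨⟨p₁, hp01⟩, hfp1⟩
    · refine ⟨⟨q₀, hq0⟩, ?_⟩
      show ¬ (f q₀ = 0)
      rw [hfq0]; decide
    · have : Nat.card {x : Fin (2 * m) // x ≠ p₀} = 2 * m - 1 := by simp
      rw [this]
      omega
  have hrange : φ.range = MulAction.stabilizer (Equiv.Perm (Fin (2 * m))) p₀ := by
    ext g
    constructor
    · rintro ⟨h, rfl⟩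
      rw [MulAction.mem_stabilizer_iff]
      exact Equiv.Perm.ofSubtype_apply_of_not_mem h (by simp)
    · intro hg
      rw [MulAction.mem_stabilizer_iff] at hg
      have hg' : g p₀ = p₀ := hg
      have h₁ : ∀ x, g x ≠ p₀ ↔ x ≠ p₀ := by
        intro x
        rw [not_iff_not]
        constructor
        · intro h; apply g.injective; rw [h, hg']
        · intro h; rw [h, hg']
      refine ⟨g.subtypePerm h₁, Equiv.Perm.ofSubtype_subtypePerm h₁ ?_⟩
      intro x hx hxp
      exact hx (hxp ▸ hg')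
  have hAS : A.map φ ≤ MulAction.stabilizer (Equiv.Perm (Fin (2 * m))) O := by
    rintro _ ⟨h, hh, rfl⟩
    rw [MulAction.mem_stabilizer_set' (Set.toFinite O)]
    intro b hb
    by_cases hbp : b = p₀
    · subst hbp
      have : φ h p₀ = p₀ := Equiv.Perm.ofSubtype_apply_of_not_mem h (by simp)
      show f (φ h p₀) = 0
      rw [this]; exact hfp0
    · have h1 : φ h b = h ⟨b, hbp⟩ := Equiv.Perm.ofSubtype_apply_of_mem h hbp
      show f (φ h b) = 0
      rw [h1]
      have h2 : (⟨b, hbp⟩ : {x : Fin (2 * m) // x ≠ p₀}) ∈ s' := hb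
      exact ((MulAction.mem_stabilizer_set' (Set.toFinite s')).mp hh) h2
  have hSW : MulAction.stabilizer (Equiv.Perm (Fin (2 * m))) O ≤ W f := by
    intro g hg
    rw [MulAction.mem_stabilizer_iff] at hg
    have key : ∀ x, f x = 0 ↔ f (g x) = 0 := by
      intro x
      have : g • x ∈ g • O ↔ x ∈ O := Set.smul_mem_smul_set_iff
      rw [hg] at this
      exact this.symm
    intro x y
    exact fin2_key _ _ _ _ (key x) (key y)
  have hWco : IsCoatom (W f) := by
    have := Cfsg.Agent.S5905.result m 2 hm le_rfl f hfib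
    rwa [closure_eq_W] at this
  refine ⟨MulAction.stabilizer (Equiv.Perm (Fin (2 * m))) p₀, A.map φ, W f, ?_, ?_, ?_, ?_, hWco,
    hAS.trans hSW, ?_⟩
  · rw [← MulAction.stabilizer_singleton]
    apply Equiv.Perm.isCoatom_stabilizer
    · exact Set.singleton_nonempty _
    · exact ⟨q₀, hq0⟩
    · rw [Set.ncard_singleton, Nat.card_fin]
      omega
  · rw [MulAction.index_stabilizer_of_transitive, Nat.card_fin]
  · rw [← hrange]
    exact Subgroup.map_le_range φ A
  · rw [← hrange]
    exact isCoatom_map_subgroupOf φ Equiv.Perm.ofSubtype_injective A hAco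
  · intro hco
    set S := MulAction.stabilizer (Equiv.Perm (Fin (2 * m))) O with hS
    have hle : (A.map φ).subgroupOf (W f) ≤ S.subgroupOf (W f) := fun x hx => hAS hx
    have hswS : Equiv.swap p₀ p₁ ∈ S := by
      rw [hS, MulAction.mem_stabilizer_set' (Set.toFinite O)]
      intro b hb
      show f (Equiv.swap p₀ p₁ b) = 0
      rw [f_swap f p₀ p₁ (hfp0.trans hfp1.symm)]
      exact hb
    have hswW : Equiv.swap p₀ p₁ ∈ W f := hSW hswS
    have hne : (A.map φ).subgroupOf (W f) ≠ S.subgroupOf (W f) := by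
      intro heq
      have h1 : (⟨Equiv.swap p₀ p₁, hswW⟩ : W f) ∈ S.subgroupOf (W f) := hswS
      rw [← heq] at h1
      have h2 : Equiv.swap p₀ p₁ ∈ A.map φ := h1
      have h3 : Equiv.swap p₀ p₁ ∈ φ.range := Subgroup.map_le_range φ A h2
      rw [hrange, MulAction.mem_stabilizer_iff] at h3
      have h4 : Equiv.swap p₀ p₁ p₀ = p₀ := h3
      rw [Equiv.swap_apply_left] at h4
      exact hp01 h4
    have htop := hco.2 _ (lt_of_le_of_ne hle hne)
    rw [Subgroup.subgroupOf_eq_top] at htop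
    set τ : Equiv.Perm (Fin (2 * m)) :=
      e.trans ((Equiv.prodCongr (Equiv.swap (0 : Fin 2) 1) (Equiv.refl _)).trans e.symm) with hτ
    have hτf : ∀ x, f (τ x) = Equiv.swap (0 : Fin 2) 1 (f x) := by
      intro x
      show f (e.symm (Equiv.swap (0 : Fin 2) 1 (e x).1, (e x).2)) = _
      rw [hfs]
    have hτW : τ ∈ W f := by
      intro x y
      rw [hτf, hτf]
      exact (Equiv.swap (0 : Fin 2) 1).injective.eq_iff.symm
    have hτS := htop hτW
    rw [hS, MulAction.mem_stabilizer_set' (Set.toFinite O)] at hτS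
    have h5 : f (τ p₀) = 0 := hτS (show p₀ ∈ O from hfp0)
    rw [hτf, hfp0, Equiv.swap_apply_left] at h5
    exact absurd h5 (by decide)

end Cfsg.Agent.S5894
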