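import Cfsg.Statements.S5895
import Cfsg.Agent.S5894
import Mathlib

set_option autoImplicit false
open Cfsg

namespace Cfsg.Agent.S5895

open SemidirectProduct

variable {F : Type} [Field F]

/-- multiplication by a unit as an automorphism of the additive group, written multiplicatively -/
def act (u : Fˣ) : MulAut (Multiplicative F) where
  toFun x := Multiplicative.ofAdd ((u : F) * Multiplicative.toAdd x)
  invFun x := Multiplicative.ofAdd ((↑u⁻¹ : F) * Multiplicative.toAdd x)
  left_inv x := by simp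
  right_inv x := by simp
  map_mul' x y := by simp [mul_add]

theorem act_apply (u : Fˣ) (x : Multiplicative F) :
    act u x = Multiplicative.ofAdd ((u : F) * Multiplicative.toAdd x) := rfl

def phi (L : Subgroup Fˣ) : ↥L →* MulAut (Multiplicative F) where
  toFun u := act (u : Fˣ)
  map_one' := by
    ext x
    simp [act_apply]
  map_mul' u v := by
    ext x
    simp [act_apply, mul_assoc]

theorem phi_apply (L : Subgroup Fˣ) (u : ↥L) (x : Multiplicative F) :
    phi L u x = Multiplicative.ofAdd (((u : Fˣ) : F) * Multiplicative.toAdd x) := rfl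

/-- irreducibility of a group of units acting on the additive group -/
def Irr (L : Subgroup Fˣ) : Prop :=
  ∀ A : AddSubgroup F, (∀ u ∈ L, ∀ a ∈ A, ((u : Fˣ) : F) * a ∈ A) → A = ⊥ ∨ A = ⊤

theorem irr_top : Irr (⊤ : Subgroup Fˣ) := by
  intro A hA
  by_cases h : A = ⊥
  · exact Or.inl h
  · right
    obtain ⟨a, haA, ha0⟩ := (A.bot_or_exists_ne_zero).resolve_left h
    rw [eq_top_iff]
    intro b _
    by_cases hb : b = 0
    · rw [hb]; exact A.zero_mem
    · have hu : (b * a⁻¹) ≠ 0 := mul_ne_zero hb (inv_ne_zero ha0)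
      have := hA (Units.mk0 _ hu) (Subgroup.mem_top _) a haA
      simpa [mul_assoc, inv_mul_cancel₀ ha0] using this

variable (L : Subgroup Fˣ)

/-- the complement subgroup -/
def Msub : Subgroup (Multiplicative F ⋊[phi L] ↥L) := (inr : ↥L →* Multiplicative F ⋊[phi L] ↥L).range

theorem mem_Msub (g : Multiplicative F ⋊[phi L] ↥L) : g ∈ Msub L ↔ g.left = 1 := by
  constructor
  · rintro ⟨u, rfl⟩
    rfl
  · intro h
    refine ⟨g.right, ?_⟩
    ext <;> simp [h]

theorem isCoatom_Msub (hL : Irr L) : IsCoatom (Msub L) := by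
  constructor
  · intro h
    have : (inl (Multiplicative.ofAdd (1 : F)) : Multiplicative F ⋊[phi L] ↥L) ∈ Msub L := by
      rw [h]; exact Subgroup.mem_top _
    rw [mem_Msub] at this
    simp at this
  · intro X hX
    let A : AddSubgroup F :=
      { carrier := {a | (inl (Multiplicative.ofAdd a) : Multiplicative F ⋊[phi L] ↥L) ∈ X}
        zero_mem' := by
          simp only [Set.mem_ofPred_eq, ofAdd_zero, map_one]
          exact X.one_mem
        add_mem' := by
          intro a b ha hb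
          simp only [Set.mem_ofPred_eq, ofAdd_add, map_mul] at ha hb ⊢
          exact X.mul_mem ha hb
        neg_mem' := by
          intro a ha
          simp only [Set.mem_ofPred_eq, ofAdd_neg, map_inv] at ha ⊢
          exact X.inv_mem ha }
    have hA : ∀ u ∈ L, ∀ a ∈ A, ((u : Fˣ) : F) * a ∈ A := by
      intro u hu a ha
      change (inl (Multiplicative.ofAdd (((u : Fˣ) : F) * a)) : Multiplicative F ⋊[phi L] ↥L) ∈ X
      have h1 : (inl (Multiplicative.ofAdd (((u : Fˣ) : F) * a)) : Multiplicative F ⋊[phi L] ↥L)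
          = inr (⟨u, hu⟩ : ↥L) * inl (Multiplicative.ofAdd a) * inr (⟨u, hu⟩ : ↥L)⁻¹ := by
        rw [← inl_aut]
        rfl
      rw [h1, map_inv]
      have h2 : (inr (⟨u, hu⟩ : ↥L) : Multiplicative F ⋊[phi L] ↥L) ∈ X :=
        hX.le ⟨_, rfl⟩
      exact X.mul_mem (X.mul_mem h2 ha) (X.inv_mem h2)
    obtain ⟨g, hgX, hgM⟩ := (SetLike.lt_iff_le_and_exists.1 hX).2
    have hne : A ≠ ⊥ := by
      intro hbot
      apply hgM
      rw [mem_Msub]
      have h3 : (inl g.left : Multiplicative F ⋊[phi L] ↥L) ∈ X := by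
        have h4 : (inl g.left : Multiplicative F ⋊[phi L] ↥L) = g * (inr g.right)⁻¹ := by
          rw [eq_mul_inv_iff_mul_eq, inl_left_mul_inr_right]
        rw [h4]
        exact X.mul_mem hgX (X.inv_mem (hX.le ⟨_, rfl⟩))
      have h5 : Multiplicative.toAdd g.left ∈ A := h3
      rw [hbot, AddSubgroup.mem_bot] at h5
      exact h5
    have htop : A = ⊤ := (hL A hA).resolve_left hne
    rw [eq_top_iff]
    intro g _
    rw [← inl_left_mul_inr_right g]
    refine X.mul_mem ?_ (hX.le ⟨_, rfl⟩)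
    have : Multiplicative.toAdd g.left ∈ A := by rw [htop]; exact AddSubgroup.mem_top _
    exact this

theorem index_Msub [Finite F] : (Msub L).index = Nat.card F := by
  have h1 := (Msub L).index_mul_card
  rw [SemidirectProduct.card] at h1
  have h2 : Nat.card (Msub L) = Nat.card ↥L := by
    unfold Msub
    exact Nat.card_congr (Equiv.ofInjective _ inr_injective).symm
  rw [h2] at h1
  have h3 : Nat.card (Multiplicative F) = Nat.card F := rfl
  rw [h3] at h1
  exact Nat.eq_of_mul_eq_mul_right Nat.card_pos h1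

theorem isCoatom_comap (H₀ : Subgroup ↥L) (hH : IsCoatom H₀) :
    IsCoatom (H₀.comap (rightHom : Multiplicative F ⋊[phi L] ↥L →* ↥L)) := by
  constructor
  · intro h
    apply hH.1
    rw [eq_top_iff]
    intro u _
    have : (inr u : Multiplicative F ⋊[phi L] ↥L) ∈ H₀.comap rightHom := by
      rw [h]; exact Subgroup.mem_top _
    simpa using this
  · intro X hX
    have h1 : H₀ ≤ X.map rightHom := by
      intro u hu
      refine ⟨inr u, hX.le ?_, by simp⟩
      simpa using hu
    have h2 : X.map rightHom ≠ H₀ := by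
      intro h
      apply hX.not_ge
      intro x hx
      rw [Subgroup.mem_comap, ← h]
      exact ⟨x, hx, rfl⟩
    have h3 : X.map rightHom = ⊤ := hH.2 _ (lt_of_le_of_ne h1 (Ne.symm h2))
    rw [eq_top_iff]
    intro g _
    have h4 : rightHom g ∈ X.map rightHom := by rw [h3]; exact Subgroup.mem_top _
    obtain ⟨x, hx, hxg⟩ := h4
    have h5 : x⁻¹ * g ∈ X := by
      apply hX.le
      rw [Subgroup.mem_comap, map_mul, map_inv, hxg, inv_mul_cancel]
      exact H₀.one_mem
    have := X.mul_mem hx h5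
    simpa using this

/-- the intermediate subgroup -/
def Ysub (H₀ : Subgroup ↥L) (A : AddSubgroup F)
    (hA : ∀ u : ↥L, u ∈ H₀ → ∀ a ∈ A, ((u : Fˣ) : F) * a ∈ A) :
    Subgroup (Multiplicative F ⋊[phi L] ↥L) where
  carrier := {g | Multiplicative.toAdd g.left ∈ A ∧ g.right ∈ H₀}
  one_mem' := ⟨A.zero_mem, H₀.one_mem⟩
  mul_mem' := by
    rintro g h ⟨hg1, hg2⟩ ⟨hh1, hh2⟩
    refine ⟨?_, H₀.mul_mem hg2 hh2⟩
    rw [mul_left, phi_apply]
    exact A.add_mem hg1 (hA _ hg2 _ hh1)
  inv_mem' := by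
    rintro g ⟨hg1, hg2⟩
    refine ⟨?_, H₀.inv_mem hg2⟩
    rw [inv_left, phi_apply]
    exact hA _ (H₀.inv_mem hg2) _ (A.neg_mem hg1)

theorem main [Finite F] (hL : Irr L) (H₀ : Subgroup ↥L) (hH : IsCoatom H₀)
    (hnot : ¬ Irr (H₀.map L.subtype)) :
    ∃ (M H K : Subgroup (Multiplicative F ⋊[phi L] ↥L)), IsCoatom M ∧ M.index = Nat.card F ∧ H ≤ M ∧
      IsCoatom (H.subgroupOf M) ∧ IsCoatom K ∧ H ≤ K ∧ ¬ IsCoatom (H.subgroupOf K) := by
  refine ⟨Msub L, H₀.map inr, H₀.comap rightHom, isCoatom_Msub L hL, index_Msub L,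
    Subgroup.map_le_range _ _, ?_, isCoatom_comap L H₀ hH, ?_, ?_⟩
  · exact Cfsg.Agent.S5894.isCoatom_map_subgroupOf inr inr_injective H₀ hH
  · rintro _ ⟨u, hu, rfl⟩
    simpa using hu
  · unfold Irr at hnot
    push Not at hnot
    obtain ⟨A, hA, hA0, hA1⟩ := hnot
    have hA' : ∀ u : ↥L, u ∈ H₀ → ∀ a ∈ A, ((u : Fˣ) : F) * a ∈ A := by
      intro u hu a ha
      exact hA _ ⟨u, hu, rfl⟩ a ha
    obtain ⟨a, haA, ha0⟩ := (A.bot_or_exists_ne_zero).resolve_left hA0
    have hA1' : ∃ b, b ∉ A := by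
      by_contra hcon
      push Not at hcon
      exact hA1 (eq_top_iff.2 fun b _ => hcon b)
    obtain ⟨b, hb⟩ := hA1'
    intro hco
    have hHK : H₀.map inr ≤ H₀.comap (rightHom : Multiplicative F ⋊[phi L] ↥L →* ↥L) := by
      rintro _ ⟨u, hu, rfl⟩
      simpa using hu
    have hHY : H₀.map inr ≤ Ysub L H₀ A hA' := by
      rintro _ ⟨u, hu, rfl⟩
      exact ⟨A.zero_mem, hu⟩
    have hYK : Ysub L H₀ A hA' ≤ H₀.comap (rightHom : Multiplicative F ⋊[phi L] ↥L →* ↥L) := by
      rintro g ⟨_, hg⟩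
      exact hg
    have hlt : (H₀.map inr).subgroupOf (H₀.comap (rightHom : Multiplicative F ⋊[phi L] ↥L →* ↥L))
        < (Ysub L H₀ A hA').subgroupOf (H₀.comap rightHom) := by
      rw [SetLike.lt_iff_le_and_exists]
      refine ⟨fun x hx => hHY hx, ⟨⟨inl (Multiplicative.ofAdd a), ?_⟩, ?_, ?_⟩⟩
      · rw [Subgroup.mem_comap]
        simp
      · exact ⟨haA, H₀.one_mem⟩
      · rintro ⟨u, hu, hu2⟩
        have := congrArg SemidirectProduct.left hu2
        simp at this
        exact ha0 this.symm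
    have htop := hco.2 _ hlt
    rw [Subgroup.subgroupOf_eq_top] at htop
    have hbK : (inl (Multiplicative.ofAdd b) : Multiplicative F ⋊[phi L] ↥L) ∈
        H₀.comap (rightHom : Multiplicative F ⋊[phi L] ↥L →* ↥L) := by
      rw [Subgroup.mem_comap]
      simp
    exact hb (htop hbK).1

theorem not_irr_bot [Finite F] (p d : ℕ) [Fact p.Prime] [CharP F p] (hd : 2 ≤ d)
    (hc : Nat.card F = p ^ d) : ¬ Irr (⊥ : Subgroup Fˣ) := by
  intro h
  have hinv : ∀ u ∈ (⊥ : Subgroup Fˣ), ∀ a ∈ AddSubgroup.zmultiples (1 : F),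
      ((u : Fˣ) : F) * a ∈ AddSubgroup.zmultiples (1 : F) := by
    intro u hu a ha
    rw [Subgroup.mem_bot] at hu
    rw [hu]
    simpa using ha
  rcases h _ hinv with h0 | h1
  · have : (1 : F) ∈ AddSubgroup.zmultiples (1 : F) := AddSubgroup.mem_zmultiples 1
    rw [h0, AddSubgroup.mem_bot] at this
    exact one_ne_zero this
  · have h2 : Nat.card (AddSubgroup.zmultiples (1 : F)) = p := by
      rw [Nat.card_zmultiples]
      exact CharP.eq F (CharP.addOrderOf_one F) inferInstance
    rw [h1, AddSubgroup.card_top, hc] at h2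
    have hp : 1 < p := (Fact.out : p.Prime).one_lt
    have h3 : p ^ 1 < p ^ d := Nat.pow_lt_pow_right hp (by omega)
    rw [pow_one] at h3
    omega

/-- For every prime p and every d ≥ 2 there is a finite group G with a maximal subgroup M of index p^d and a maximal subgroup H of M that is not second maximal in G: some maximal subgroup K of G contains H without H being maximal in K. (One may take G the affine group V ⋊ GL(V) of V = 𝔽_p^d, M = GL(V), H the stabiliser in M of a line W of V, and K = V ⋊ H, with H < W ⋊ H < K.) So the prime-index hypothesis in the second-maximality criterion cannot be relaxed to prime-power index. -/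
theorem result (p d : ℕ) (hp : p.Prime)
    (hd : 2 ≤ d) :
    ∃ (G : Type) (_ : Group G) (_ : Finite G) (M H K : Subgroup G), IsCoatom M ∧ M.index = p ^ d ∧ H ≤ M ∧
      IsCoatom (H.subgroupOf M) ∧ IsCoatom K ∧ H ≤ K ∧ ¬ IsCoatom (H.subgroupOf K) := by
  have : Fact p.Prime := ⟨hp⟩
  have hc : Nat.card (GaloisField p d) = p ^ d := GaloisField.card p d (by omega)
  have : Finite (GaloisField p d) := Nat.finite_of_card_ne_zero (by rw [hc]; exact (pow_pos hp.pos d).ne')
  have hbot := not_irr_bot (F := GaloisField p d) p d hd hc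
  obtain ⟨L, hL, hmin⟩ := wellFounded_lt.has_min {L : Subgroup (GaloisField p d)ˣ | Irr L} ⟨⊤, irr_top⟩
  have hLbot : L ≠ ⊥ := by
    rintro rfl
    exact hbot hL
  have hnt : (⊥ : Subgroup ↥L) ≠ ⊤ := by
    intro h
    apply hLbot
    rw [eq_bot_iff]
    intro u hu
    have : (⟨u, hu⟩ : ↥L) ∈ (⊥ : Subgroup ↥L) := by rw [h]; exact Subgroup.mem_top _
    rw [Subgroup.mem_bot] at this
    rw [Subgroup.mem_bot]
    exact congrArg Subtype.val this
  obtain ⟨H₀, hH₀, -⟩ := (eq_top_or_exists_le_coatom (⊥ : Subgroup ↥L)).resolve_left hnt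
  have hlt : H₀.map L.subtype < L := by
    rw [SetLike.lt_iff_le_and_exists]
    refine ⟨?_, ?_⟩
    · rintro _ ⟨u, -, rfl⟩
      exact u.2
    · by_contra hcon
      push Not at hcon
      apply hH₀.1
      rw [eq_top_iff]
      intro u _
      obtain ⟨v, hv, hvu⟩ := hcon u u.2
      have : v = u := Subtype.ext hvu
      rw [← this]; exact hv
  have hnot : ¬ Irr (H₀.map L.subtype) := fun h => hmin _ h hlt
  obtain ⟨M, H, K, h1, h2, h3, h4, h5, h6, h7⟩ := main L hL H₀ hH₀ hnot
  refine ⟨Multiplicative (GaloisField p d) ⋊[phi L] ↥L, inferInstance,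
    Finite.of_equiv _ SemidirectProduct.equivProd.symm, M, H, K, h1, ?_, h3, h4, h5, h6, h7⟩
  rw [h2, hc]

end Cfsg.Agent.S5895
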